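import Mathlib
import Cfsg.Agent.Lib.Lead.BCG.Defs
import Cfsg.Agent.Lib.helper8.S5955X1
import Cfsg.Agent.Lib.helper8.S5955X4

/-!
# Project BCG, row T6 : `s_extend_std` (verbatim)
-/

set_option autoImplicit false

namespace Cfsg.Agent.Lib.Lead.BCG

open Polynomial Module Matrix Cfsg.Agent.Lib.Helper13.S5955 Cfsg.Agent.Lib.helper15.S5972
  Cfsg.Agent.Lib.Helper18.ONE Cfsg.Agent.Lib.Lead.BCS

theorem bcgt6_pow {F : Type*} [Field F] {V W : Type*} [AddCommGroup V] [Module F V]
    [AddCommGroup W] [Module F W] (y : Module.End F V) (n : ℕ) (u : V × W) :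
    ((LinearMap.prodMap y (LinearMap.id : W →ₗ[F] W) : Module.End F (V × W)) ^ n) u =
      ((y ^ n) u.1, u.2) := by
  induction n generalizing u with
  | zero => simp
  | succ n ih =>
    rw [pow_succ, Module.End.mul_apply, ih, pow_succ, Module.End.mul_apply]
    rfl

/-- T6 [M]: `(Fin h' ⊕ Fin h' → F) × (Fin (d-h') ⊕ Fin (d-h') → F)` with `stdB ⟂ stdB` and `y₀ ⊕ 1` (an `SCtx N`, `finrank = 2d`); S5955 `transport`. -/
theorem s_extend_std {F : Type*} [Field F] {N : ℕ} (h' d : ℕ) (hh : h' ≤ d)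
    (y₀ : Module.End F (Fin h' ⊕ Fin h' → F)) (hy : SCtx N (stdB h' F) y₀) :
    ∃ x : Module.End F (Fin d ⊕ Fin d → F), SCtx N (stdB d F) x ∧ SameOrd x y₀ := by
  classical
  obtain ⟨k, rfl⟩ : ∃ k, d = h' + k := ⟨d - h', by omega⟩
  obtain ⟨halt2, hnd2⟩ := stdB_alt_nd (F := F) k
  let B' : LinearMap.BilinForm F ((Fin h' ⊕ Fin h' → F) × (Fin k ⊕ Fin k → F)) :=
    (stdB h' F).compl₁₂ (LinearMap.fst F _ _) (LinearMap.fst F _ _) +
      (stdB k F).compl₁₂ (LinearMap.snd F _ _) (LinearMap.snd F _ _)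
  have hB' : ∀ u v, B' u v = stdB h' F u.1 v.1 + stdB k F u.2 v.2 := fun u v => rfl
  let x' : Module.End F ((Fin h' ⊕ Fin h' → F) × (Fin k ⊕ Fin k → F)) :=
    LinearMap.prodMap y₀ LinearMap.id
  have hx' : ∀ u, x' u = (y₀ u.1, u.2) := fun u => rfl
  have hctx : SCtx N B' x' := by
    refine ⟨?_, ?_, ?_, ?_⟩
    · intro v
      rw [hB', hy.alt, halt2, add_zero]
    · intro u hu
      have h1 : u.1 = 0 := by
        apply hy.nd
        intro w
        have := hu (w, 0)
        rw [hB'] at this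
        simpa using this
      have h2 : u.2 = 0 := by
        apply hnd2
        intro w
        have := hu (0, w)
        rw [hB'] at this
        simpa using this
      exact Prod.ext h1 h2
    · intro u v
      rw [hB', hB', hx', hx', hy.pres]
    · apply LinearMap.ext
      intro u
      rw [bcgt6_pow, hy.pow]
      rfl
  have hfr : finrank F ((Fin h' ⊕ Fin h' → F) × (Fin k ⊕ Fin k → F)) = 2 * (h' + k) := by
    rw [Module.finrank_prod, Module.finrank_fintype_fun_eq_card,
      Module.finrank_fintype_fun_eq_card, Fintype.card_sum, Fintype.card_fin, Fintype.card_sum,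
      Fintype.card_fin]
    ring
  obtain ⟨y, ψ, hyc, -, hψ⟩ := transport B' x' hctx (h' + k) hfr
  refine ⟨y, hyc, ?_⟩
  have hpow : ∀ (n : ℕ) u, ψ ((y ^ n) u) = (x' ^ n) (ψ u) := by
    intro n
    induction n with
    | zero => intro u; simp
    | succ n ih =>
      intro u
      rw [pow_succ, Module.End.mul_apply, ih, hψ, pow_succ, Module.End.mul_apply]
  intro n
  constructor
  · intro h1
    apply LinearMap.ext
    intro v
    have h2 := hpow n (ψ.symm (v, 0))
    rw [h1, Module.End.one_apply, LinearEquiv.apply_symm_apply] at h2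
    have h3 : (x' ^ n) (v, 0) = ((y₀ ^ n) v, 0) := bcgt6_pow y₀ n (v, 0)
    rw [h3] at h2
    have := congrArg Prod.fst h2
    exact this.symm
  · intro h1
    apply LinearMap.ext
    intro u
    apply ψ.injective
    rw [hpow]
    have h3 : (x' ^ n) (ψ u) = ((y₀ ^ n) (ψ u).1, (ψ u).2) := bcgt6_pow y₀ n (ψ u)
    rw [h3, h1]
    rfl

end Cfsg.Agent.Lib.Lead.BCG
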