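import Mathlib
import Cfsg.Agent.Lib.helper7.BD.Defs

set_option autoImplicit false
set_option linter.unusedVariables false
set_option linter.unusedSectionVars false
set_option linter.style.haveILetI false

namespace Cfsg.Agent.Lib.helper7.BD

universe u v w

section E1
variable {F : Type*} [Field F] {G : Type u} [Group G] [Fintype G]

/-- a subgroup of prime order is contained in its centralizer -/
theorem bdchars_le_centralizer {p : ℕ} [Fact p.Prime] (P : Subgroup G) (hP : Nat.card P = p) :
    P ≤ Subgroup.centralizer (P : Set G) := by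
  have hcyc : IsCyclic P := isCyclic_of_prime_card hP
  obtain ⟨g, hg⟩ := hcyc.exists_generator
  intro x hx
  rw [Subgroup.mem_centralizer_iff]
  intro y hy
  obtain ⟨a, ha⟩ := Subgroup.mem_zpowers_iff.1 (hg ⟨x, hx⟩)
  obtain ⟨b, hb⟩ := Subgroup.mem_zpowers_iff.1 (hg ⟨y, hy⟩)
  have hx' : x = (g : G) ^ a := by
    have := congrArg Subtype.val ha
    simpa using this.symm
  have hy' : y = (g : G) ^ b := by
    have := congrArg Subtype.val hb
    simpa using this.symm
  rw [hx', hy']
  exact ((Commute.refl (g : G)).zpow_zpow b a).eq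

/-- `p` does not divide `|N_G(P) : C_G(P)|` for a Sylow subgroup of order `p` -/
theorem bdchars_not_dvd {p : ℕ} [Fact p.Prime] (P : Sylow p G) (hP : Nat.card P = p) :
    ¬ p ∣ (Subgroup.centralizer ((P : Subgroup G) : Set G)).relIndex
      (Subgroup.normalizer ((P : Subgroup G) : Set G)) := by
  intro hdvd
  have h1 : (Subgroup.centralizer ((P : Subgroup G) : Set G)).relIndex
      (Subgroup.normalizer ((P : Subgroup G) : Set G)) ∣
      (P : Subgroup G).relIndex (Subgroup.normalizer ((P : Subgroup G) : Set G)) :=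
    Subgroup.relIndex_dvd_of_le_left _ (bdchars_le_centralizer (P : Subgroup G) hP)
  have h2 : (P : Subgroup G).relIndex (Subgroup.normalizer ((P : Subgroup G) : Set G)) *
      (Subgroup.normalizer ((P : Subgroup G) : Set G)).index = (P : Subgroup G).index :=
    Subgroup.relIndex_mul_index Subgroup.le_normalizer
  have h3 : ¬ p ∣ (P : Subgroup G).index := P.not_dvd_index
  apply h3
  rw [← h2]
  exact Dvd.dvd.mul_right (dvd_trans hdvd h1) _

/-- CHARS : `e = |N_G(P) : C_G(P)|` distinct linear characters of `N_G(P)` trivial on `C_G(P)` -/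
theorem exists_linear_chars [IsAlgClosed F] {p : ℕ} [Fact p.Prime] [CharP F p] (P : Sylow p G)
    (hP : Nat.card P = p) :
    ∃ μ : Fin ((Subgroup.centralizer ((P : Subgroup G) : Set G)).relIndex
        (Subgroup.normalizer ((P : Subgroup G) : Set G))) →
        (↥(Subgroup.normalizer ((P : Subgroup G) : Set G)) →* Fˣ),
      Function.Injective μ ∧ ∀ i, ∀ c : ↥(Subgroup.normalizer ((P : Subgroup G) : Set G)),
        (c : G) ∈ Subgroup.centralizer ((P : Subgroup G) : Set G) → μ i c = 1 := by
  classical
  have hcyc : IsCyclic (P : Subgroup G) := isCyclic_of_prime_card hP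
  let f := (P : Subgroup G).normalizerMonoidHom
  have hker : f.ker = (Subgroup.centralizer ((P : Subgroup G) : Set G)).subgroupOf
      (Subgroup.normalizer ((P : Subgroup G) : Set G)) := Subgroup.normalizerMonoidHom_ker _
  -- the quotient is commutative
  letI cA : CommGroup (MulAut (P : Subgroup G)) :=
    (hcyc.mulAutMulEquiv _).toMonoidHom.commGroupOfInjective (hcyc.mulAutMulEquiv _).injective
  letI cQ : CommGroup (↥(Subgroup.normalizer ((P : Subgroup G) : Set G)) ⧸ f.ker) :=
    (QuotientGroup.kerLift f).commGroupOfInjective (QuotientGroup.kerLift_injective f)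
  have hcardQ : Nat.card (↥(Subgroup.normalizer ((P : Subgroup G) : Set G)) ⧸ f.ker) =
      (Subgroup.centralizer ((P : Subgroup G) : Set G)).relIndex
        (Subgroup.normalizer ((P : Subgroup G) : Set G)) := by
    show f.ker.index = _
    rw [hker]
    rfl
  have hnd := bdchars_not_dvd P hP
  have hexp : ¬ p ∣ Monoid.exponent (↥(Subgroup.normalizer ((P : Subgroup G) : Set G)) ⧸ f.ker) := by
    intro h
    apply hnd
    rw [← hcardQ]
    exact dvd_trans h Group.exponent_dvd_nat_card
  haveI : NeZero ((Monoid.exponent (↥(Subgroup.normalizer ((P : Subgroup G) : Set G)) ⧸ f.ker) : ℕ) : F) :=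
    ⟨fun h0 => hexp ((CharP.cast_eq_zero_iff F p _).1 h0)⟩
  have hcount := CommGroup.card_monoidHom_of_hasEnoughRootsOfUnity
    (↥(Subgroup.normalizer ((P : Subgroup G) : Set G)) ⧸ f.ker) F
  rw [hcardQ] at hcount
  have hpos : (Subgroup.centralizer ((P : Subgroup G) : Set G)).relIndex
      (Subgroup.normalizer ((P : Subgroup G) : Set G)) ≠ 0 := by
    rw [← hcardQ]
    exact Nat.card_pos.ne'
  haveI : Finite ((↥(Subgroup.normalizer ((P : Subgroup G) : Set G)) ⧸ f.ker) →* Fˣ) :=
    Nat.finite_of_card_ne_zero (by rw [hcount]; exact hpos)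
  let E := Finite.equivFinOfCardEq hcount
  refine ⟨fun i => (E.symm i).comp (QuotientGroup.mk' f.ker), ?_, ?_⟩
  · intro i j hij
    have h1 : E.symm i = E.symm j :=
      (MonoidHom.cancel_right (QuotientGroup.mk'_surjective f.ker)).1 hij
    exact E.symm.injective h1
  · intro i c hc
    have hmem : c ∈ f.ker := by
      rw [hker, Subgroup.mem_subgroupOf]
      exact hc
    show (E.symm i) (QuotientGroup.mk' f.ker c) = 1
    have : QuotientGroup.mk' f.ker c = 1 := by
      rw [QuotientGroup.mk'_apply, QuotientGroup.eq_one_iff]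
      exact hmem
    rw [this, map_one]

end E1

end Cfsg.Agent.Lib.helper7.BD
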