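import Mathlib
import Cfsg.Prelude.Def_Local
import Cfsg.Agent.Lib.Helper9.Quasisimple
import Cfsg.Agent.S1259

set_option autoImplicit false

universe u

namespace Cfsg.Agent.Lib.Helper10

open Cfsg Cfsg.Agent.Lib.Helper9

section Basics

variable {G : Type*} [Group G]

lemma isQuasisimple_nontrivial {H : Type*} [Group H] (h : IsQuasisimple H) : Nontrivial H := by
  have h1 : Nontrivial (H ⧸ Subgroup.center H) := h.2.toNontrivial
  by_contra hcon
  rw [not_nontrivial_iff_subsingleton] at hcon
  have : Subsingleton (H ⧸ Subgroup.center H) :=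
    (QuotientGroup.mk'_surjective (Subgroup.center H)).subsingleton
  exact not_nontrivial _ h1

lemma isQuasisimple_not_isSolvable {H : Type*} [Group H] (h : IsQuasisimple H) :
    ¬ Group.IsSolvable H := by
  have := h.1
  have := isQuasisimple_nontrivial h
  exact Group.IsPerfect.not_isSolvable H

lemma isComponent_commutator_self {L : Subgroup G} (hL : IsComponent L) : ⁅L, L⁆ = L := by
  have := hL.2.1
  exact Subgroup.commutator_eq_self

lemma isComponent_ne_bot {L : Subgroup G} (hL : IsComponent L) : L ≠ ⊥ := by
  intro h
  have := isQuasisimple_nontrivial hL.2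
  rw [Subgroup.nontrivial_iff_ne_bot] at this
  exact this h

lemma isComponent_not_isSolvable {L : Subgroup G} (hL : IsComponent L) :
    ¬ Group.IsSolvable L := isQuasisimple_not_isSolvable hL.2

lemma isComponent_subgroupOf {L X : Subgroup G} (hL : IsComponent L) (hLX : L ≤ X) :
    IsComponent (L.subgroupOf X) :=
  ⟨hL.1.subgroupOf, isQuasisimple_of_mulEquiv (Subgroup.subgroupOfEquivOfLe hLX).symm hL.2⟩

lemma isComponent_map_subtype {X : Subgroup G} (hX : X.IsSubnormal) {K : Subgroup X}
    (hK : IsComponent K) : IsComponent (K.map X.subtype) :=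
  ⟨hK.1.trans' hX,
    isQuasisimple_of_mulEquiv (K.equivMapOfInjective _ X.subtype_injective) hK.2⟩

lemma card_lt_of_lt_top [Finite G] {Y : Subgroup G} (h : Y < ⊤) : Nat.card Y < Nat.card G :=
  lt_of_le_of_ne (Subgroup.card_le_card_group Y) (fun h' => h.ne (Subgroup.eq_top_of_card_eq Y h'))

lemma commutator_eq_bot_of_subgroupOf {L H X : Subgroup G} (hLX : L ≤ X) (hHX : H ≤ X)
    (h : ⁅L.subgroupOf X, H.subgroupOf X⁆ = ⊥) : ⁅L, H⁆ = ⊥ := by
  have := congrArg (Subgroup.map X.subtype) h
  rwa [Subgroup.map_commutator, Subgroup.map_subgroupOf_eq_of_le hLX,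
    Subgroup.map_subgroupOf_eq_of_le hHX, Subgroup.map_bot] at this

end Basics

section Key

theorem component_le_or_commutator_eq_bot_aux (n : ℕ) :
    ∀ (G : Type u) [Group G] [Finite G], Nat.card G = n → ∀ L H : Subgroup G,
      IsComponent L → H.IsSubnormal → L ≤ H ∨ ⁅L, H⁆ = ⊥ := by
  induction n using Nat.strong_induction_on with
  | _ n ih =>
    intro G _ _ hcard L H hL hH
    by_cases hLtop : L = ⊤
    · subst hLtop
      have hq : IsQuasisimple G := isQuasisimple_of_mulEquiv Subgroup.topEquiv hL.2
      rcases Cfsg.Agent.S1259.result hq H hH with h | h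
      · left; rw [h]
      · right
        rw [Subgroup.commutator_top_left_eq_bot_iff_le_center]
        exact h
    · by_cases hHtop : H = ⊤
      · left; rw [hHtop]; exact le_top
      · obtain ⟨X, hXn, hLX, hXlt⟩ := hL.1.exists_normal_and_le_and_lt_top_of_ne hLtop
        obtain ⟨Y, hYn, hHY, hYlt⟩ := hH.exists_normal_and_le_and_lt_top_of_ne hHtop
        by_cases hLY : L ≤ Y
        · have hcardY : Nat.card Y < n := by rw [← hcard]; exact card_lt_of_lt_top hYlt
          rcases ih _ hcardY ↥Y rfl (L.subgroupOf Y) (H.subgroupOf Y)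
            (isComponent_subgroupOf hL hLY) hH.subgroupOf with h | h
          · left
            intro l hl
            have : (⟨l, hLY hl⟩ : Y) ∈ L.subgroupOf Y := by
              rw [Subgroup.mem_subgroupOf]; exact hl
            have := h this
            rw [Subgroup.mem_subgroupOf] at this
            exact this
          · right
            exact commutator_eq_bot_of_subgroupOf hLY hHY h
        · have hcardX : Nat.card X < n := by rw [← hcard]; exact card_lt_of_lt_top hXlt
          have hXY : ((X ⊓ Y).subgroupOf X).IsSubnormal := by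
            have : (X ⊓ Y).Normal := inferInstance
            exact (Subgroup.Normal.isSubnormal (inferInstance : (X ⊓ Y).Normal)).subgroupOf
          rcases ih _ hcardX ↥X rfl (L.subgroupOf X) ((X ⊓ Y).subgroupOf X)
            (isComponent_subgroupOf hL hLX) hXY with h | h
          · exfalso
            apply hLY
            intro l hl
            have : (⟨l, hLX hl⟩ : X) ∈ L.subgroupOf X := by
              rw [Subgroup.mem_subgroupOf]; exact hl
            have := h this
            rw [Subgroup.mem_subgroupOf] at this
            exact (Subgroup.mem_inf.mp this).2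
          · right
            have h1 : ⁅L, X ⊓ Y⁆ = ⊥ := commutator_eq_bot_of_subgroupOf hLX inf_le_left h
            have h2 : ⁅Y, L⁆ ≤ X ⊓ Y := by
              refine le_trans (Subgroup.commutator_mono le_rfl hLX) ?_
              rw [inf_comm]
              exact Subgroup.commutator_le_inf Y X
            have h3 : ⁅⁅Y, L⁆, L⁆ = ⊥ := by
              rw [eq_bot_iff, ← h1, Subgroup.commutator_comm L]
              exact Subgroup.commutator_mono h2 le_rfl
            have h4 : ⁅⁅L, Y⁆, L⁆ = ⊥ := by
              rw [Subgroup.commutator_comm L Y]; exact h3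
            have h5 : ⁅⁅L, L⁆, Y⁆ = ⊥ := Subgroup.commutator_commutator_eq_bot_of_rotate h4 h3
            rw [isComponent_commutator_self hL] at h5
            rw [eq_bot_iff, ← h5]
            exact Subgroup.commutator_mono le_rfl hHY

/-- Aschbacher 31.4: a component `L` and a subnormal subgroup `H` of a finite group satisfy
`L ≤ H` or `[L, H] = 1`. -/
theorem component_le_or_commutator_eq_bot {G : Type u} [Group G] [Finite G] (L H : Subgroup G)
    (hL : IsComponent L) (hH : H.IsSubnormal) : L ≤ H ∨ ⁅L, H⁆ = ⊥ :=
  component_le_or_commutator_eq_bot_aux _ G rfl L H hL hH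

end Key

section Layer

variable {G : Type*} [Group G]

lemma isComponent_map_equiv {G' : Type*} [Group G'] (φ : G ≃* G') {K : Subgroup G}
    (hK : IsComponent K) : IsComponent (K.map φ.toMonoidHom) :=
  ⟨hK.1.map φ.surjective,
    isQuasisimple_of_mulEquiv (K.equivMapOfInjective φ.toMonoidHom φ.injective) hK.2⟩

instance layer_characteristic : (layer G).Characteristic := by
  rw [Subgroup.characteristic_iff_map_le]
  intro φ
  unfold layer
  have : (sSup {K : Subgroup G | IsComponent K}).map φ.toMonoidHom =
      ⨆ K : {K : Subgroup G // IsComponent K}, (K : Subgroup G).map φ.toMonoidHom := by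
    rw [sSup_eq_iSup', Subgroup.map_iSup]
    rfl
  rw [this]
  apply iSup_le
  rintro ⟨K, hK⟩
  exact le_sSup (isComponent_map_equiv φ hK)

lemma component_le_layer {L : Subgroup G} (hL : IsComponent L) : L ≤ layer G :=
  le_sSup hL

open scoped commutatorElement in
lemma le_normalizer_commutator_left (H K : Subgroup G) :
    H ≤ Subgroup.normalizer ((⁅H, K⁆ : Subgroup G) : Set G) := by
  rw [Subgroup.commutator_def, Subgroup.le_normalizer_closure_iff]
  rintro h hh g ⟨g₁, hg₁, g₂, hg₂, rfl⟩
  have e : h * ⁅g₁, g₂⁆ * h⁻¹ = ⁅h * g₁, g₂⁆ * ⁅h, g₂⁆⁻¹ := by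
    rw [commutatorElement_mul_left_eq_conj_mul]; group
  rw [e]
  exact Subgroup.mul_mem _ (Subgroup.subset_closure ⟨h * g₁, H.mul_mem hh hg₁, g₂, hg₂, rfl⟩)
    (Subgroup.inv_mem _ (Subgroup.subset_closure ⟨h, hh, g₂, hg₂, rfl⟩))

lemma commutator_layer_isSubnormal (U : Subgroup G) : (⁅layer G, U⁆ : Subgroup G).IsSubnormal := by
  have hle : ⁅layer G, U⁆ ≤ layer G := Subgroup.commutator_le_left (layer G) U
  refine Subgroup.IsSubnormal.step _ (layer G) hle (Subgroup.Normal.isSubnormal inferInstance) ?_
  rw [Subgroup.normal_subgroupOf_iff_le_normalizer hle]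
  exact le_normalizer_commutator_left (layer G) U

end Layer

section LayerFitting

variable {G : Type u} [Group G] [Finite G]

omit [Finite G] in
lemma isComponent_not_le_of_isSolvable {L N : Subgroup G} (hL : IsComponent L)
    (hN : Group.IsSolvable N) : ¬ L ≤ N := by
  intro h
  apply isComponent_not_isSolvable hL
  exact Group.isSolvable_of_isSolvable_injective (Subgroup.inclusion_injective h)

lemma commutator_component_eq_bot_of_isSolvable {L N : Subgroup G} (hL : IsComponent L)
    (hNs : N.IsSubnormal) (hN : Group.IsSolvable N) : ⁅L, N⁆ = ⊥ := by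
  rcases component_le_or_commutator_eq_bot L N hL hNs with h | h
  · exact absurd h (isComponent_not_le_of_isSolvable hL hN)
  · exact h

lemma commutator_layer_fitting : ⁅layer G, fittingSubgroup G⁆ = ⊥ := by
  rw [Subgroup.commutator_eq_bot_iff_le_centralizer]
  unfold layer
  apply sSup_le
  intro L hL
  rw [← Subgroup.commutator_eq_bot_iff_le_centralizer, Subgroup.commutator_comm,
    Subgroup.commutator_eq_bot_iff_le_centralizer]
  unfold fittingSubgroup
  apply sSup_le
  rintro N ⟨hN1, hN2⟩
  rw [← Subgroup.commutator_eq_bot_iff_le_centralizer, Subgroup.commutator_comm]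
  have : Group.IsSolvable N := inferInstance
  exact commutator_component_eq_bot_of_isSolvable hL (Subgroup.Normal.isSubnormal hN1) this

lemma commutator_fitting_layer : ⁅fittingSubgroup G, layer G⁆ = ⊥ := by
  rw [Subgroup.commutator_comm]; exact commutator_layer_fitting

end LayerFitting

section LayerPerfect

variable {G : Type*} [Group G]

lemma layer_commutator_self : ⁅layer G, layer G⁆ = layer G := by
  apply le_antisymm (Subgroup.commutator_le_self _)
  conv_lhs => unfold layer
  apply sSup_le
  intro L hL
  rw [← isComponent_commutator_self hL]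
  exact Subgroup.commutator_mono (component_le_layer hL) (component_le_layer hL)

end LayerPerfect

end Cfsg.Agent.Lib.Helper10
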