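import Mathlib
import Cfsg.Prelude.Def_Local
import Cfsg.Agent.Lib.Helper10.Components
import Cfsg.Agent.Lib.Helper9.Components
import Cfsg.Agent.Lib.Helper1.Fitting
import Cfsg.Agent.S3743

set_option autoImplicit false

namespace Cfsg.Agent.Lib.Helper10

open Cfsg Cfsg.Agent.Lib.Helper9

section Cores

variable {G : Type*} [Group G]

theorem subnormal_coprime_le_pPrimeCore [Finite G] (p : ℕ) (A : Subgroup G) (hA : A.IsSubnormal)
    (h : (Nat.card A).Coprime p) : A ≤ pPrimeCore p G := by
  refine Cfsg.Agent.S3743.le_radical_of_isSubnormal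
    (fun N : Subgroup G => (Nat.card N).Coprime p) ?_ ?_ ?_ A hA h
  · simp
  · intro g N hN
    rw [Nat.card_congr
      (N.equivMapOfInjective _ (MulAut.conj g).injective).symm.toEquiv]
    exact hN
  · intro M N hMN _ hM hN
    exact Nat.Coprime.coprime_dvd_left
      (Cfsg.Agent.S3743.card_sup_dvd_of_le_normalizer M N hMN) (Nat.Coprime.mul_left hM hN)

theorem card_comap_mk' [Finite G] (N : Subgroup G) [N.Normal] (M : Subgroup (G ⧸ N)) :
    Nat.card (M.comap (QuotientGroup.mk' N)) = Nat.card N * Nat.card M := by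
  have hle : N ≤ M.comap (QuotientGroup.mk' N) := by
    intro x hx
    rw [Subgroup.mem_comap]
    have : (QuotientGroup.mk' N) x = 1 := by
      rw [← MonoidHom.mem_ker, QuotientGroup.ker_mk']; exact hx
    rw [this]; exact M.one_mem
  have h1 := Cfsg.Agent.Lib.Helper1.card_mul_relIndex_of_le hle
  have h2 := Subgroup.relIndex_comap (⊥ : Subgroup (G ⧸ N)) (QuotientGroup.mk' N)
    (M.comap (QuotientGroup.mk' N))
  rw [Subgroup.map_comap_eq_self_of_surjective (QuotientGroup.mk'_surjective N),
    Subgroup.relIndex_bot_left] at h2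
  have h3 : (⊥ : Subgroup (G ⧸ N)).comap (QuotientGroup.mk' N) = N := by
    rw [MonoidHom.comap_bot]
    exact QuotientGroup.ker_mk' N
  rw [h3] at h2
  rw [← h1, h2]

theorem pPrimeCore_quotient_eq_bot [Finite G] (p : ℕ) :
    haveI : (pPrimeCore p G).Normal := Cfsg.Agent.Lib.Helper1.pPrimeCore_normal p
    pPrimeCore p (G ⧸ pPrimeCore p G) = ⊥ := by
  have hN : (pPrimeCore p G).Normal := Cfsg.Agent.Lib.Helper1.pPrimeCore_normal p
  have hM : (pPrimeCore p (G ⧸ pPrimeCore p G)).Normal := Cfsg.Agent.Lib.Helper1.pPrimeCore_normal p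
  have hMc : (Nat.card (pPrimeCore p (G ⧸ pPrimeCore p G))).Coprime p :=
    Cfsg.Agent.Lib.Helper1.pPrimeCore_card_coprime p
  have hNc : (Nat.card (pPrimeCore p G)).Coprime p :=
    Cfsg.Agent.Lib.Helper1.pPrimeCore_card_coprime p
  have hCn : ((pPrimeCore p (G ⧸ pPrimeCore p G)).comap
      (QuotientGroup.mk' (pPrimeCore p G))).Normal := hM.comap _
  have hcard := card_comap_mk' (pPrimeCore p G) (pPrimeCore p (G ⧸ pPrimeCore p G))
  have hle := Cfsg.Agent.Lib.Helper1.le_pPrimeCore (p := p) hCn
    (by rw [hcard]; exact Nat.Coprime.mul_left hNc hMc)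
  rw [eq_bot_iff]
  have h5 := Subgroup.map_mono (f := QuotientGroup.mk' (pPrimeCore p G)) hle
  rw [Subgroup.map_comap_eq_self_of_surjective (QuotientGroup.mk'_surjective _)] at h5
  refine h5.trans ?_
  rw [Subgroup.map_le_iff_le_comap, MonoidHom.comap_bot, QuotientGroup.ker_mk']

end Cores

section PComponents

variable {X : Type*} [Group X]

lemma commutator_self_le (K : Subgroup X) : ⁅K, K⁆ ≤ K :=
  Subgroup.commutator_le.2 (fun a ha b hb =>
    K.mul_mem (K.mul_mem (K.mul_mem ha hb) (K.inv_mem ha)) (K.inv_mem hb))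

lemma commutator_self_isSubnormal {K : Subgroup X} (hK : K.IsSubnormal) :
    (⁅K, K⁆ : Subgroup X).IsSubnormal := by
  have hle : ⁅K, K⁆ ≤ K := commutator_self_le K
  have hn : ((⁅K, K⁆ : Subgroup X).subgroupOf K).Normal :=
    (Subgroup.normal_subgroupOf_iff_le_normalizer hle).2 (le_normalizer_commutator_left K K)
  exact Subgroup.IsSubnormal.trans hle hn.isSubnormal hK

lemma map_mk'_eq_bot_iff (N : Subgroup X) [N.Normal] (H : Subgroup X) :
    H.map (QuotientGroup.mk' N) = ⊥ ↔ H ≤ N := by
  rw [Subgroup.map_eq_bot_iff, QuotientGroup.ker_mk']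

variable (p : ℕ)

lemma isPComponent_perfect {K : Subgroup X} (hK : IsPComponent p K) : ⁅K, K⁆ = K := by
  obtain ⟨hsn, hcomp, hmin⟩ := hK
  apply hmin _ (commutator_self_isSubnormal hsn) (commutator_self_le K)
  rw [Subgroup.map_commutator]
  exact isComponent_commutator_self hcomp

lemma isPComponent_dvd_card [Finite X] [hp : Fact p.Prime] {K : Subgroup X}
    (hK : IsPComponent p K) : p ∣ Nat.card K := by
  obtain ⟨hsn, hcomp, hmin⟩ := hK
  by_contra hnd
  have hcop : (Nat.card K).Coprime p := ((Nat.Prime.coprime_iff_not_dvd hp.out).2 hnd).symm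
  have hle := subnormal_coprime_le_pPrimeCore p K hsn hcop
  have hN : (pPrimeCore p X).Normal := Cfsg.Agent.Lib.Helper1.pPrimeCore_normal p
  exact isComponent_ne_bot hcomp ((map_mk'_eq_bot_iff _ K).2 hle)

lemma isPComponent_eq_of_perfect [Finite X] [hp : Fact p.Prime] {K : Subgroup X}
    (hK : IsPComponent p K) (H : Subgroup X) (hHK : H ≤ K) (hH : H.IsSubnormal)
    (hperf : ⁅H, H⁆ = H) (hdvd : p ∣ Nat.card H) : H = K := by
  obtain ⟨hsn, hcomp, hmin⟩ := hK
  have hN : (pPrimeCore p X).Normal := Cfsg.Agent.Lib.Helper1.pPrimeCore_normal p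
  have hle : H.map (QuotientGroup.mk' (pPrimeCore p X)) ≤ K.map (QuotientGroup.mk' (pPrimeCore p X)) :=
    Subgroup.map_mono hHK
  have hHsn : (H.map (QuotientGroup.mk' (pPrimeCore p X))).IsSubnormal :=
    hH.map (QuotientGroup.mk'_surjective _)
  rcases quasisimple_subnormal_top_or_central hcomp.2 _
    (hHsn.subgroupOf (K := K.map (QuotientGroup.mk' (pPrimeCore p X)))) with h | h
  · rw [Subgroup.subgroupOf_eq_top] at h
    exact hmin H hH hHK (le_antisymm hle h)
  · exfalso
    have hcomm : ⁅H.map (QuotientGroup.mk' (pPrimeCore p X)),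
        H.map (QuotientGroup.mk' (pPrimeCore p X))⁆ = ⊥ := by
      rw [Subgroup.commutator_eq_bot_iff_le_centralizer]
      intro x hx
      rw [Subgroup.mem_centralizer_iff]
      intro y hy
      have h1 : (⟨x, hle hx⟩ : K.map (QuotientGroup.mk' (pPrimeCore p X))) ∈
          Subgroup.center (K.map (QuotientGroup.mk' (pPrimeCore p X))) := h (by
        rw [Subgroup.mem_subgroupOf]; exact hx)
      rw [Subgroup.mem_center_iff] at h1
      have h2 := h1 ⟨y, hle hy⟩
      exact congrArg Subtype.val h2
    rw [← Subgroup.map_commutator, hperf, map_mk'_eq_bot_iff] at hcomm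
    have hcop : (Nat.card (pPrimeCore p X)).Coprime p :=
      Cfsg.Agent.Lib.Helper1.pPrimeCore_card_coprime p
    have hd : Nat.card H ∣ Nat.card (pPrimeCore p X) := Subgroup.card_dvd_of_le hcomm
    have : p ∣ Nat.card (pPrimeCore p X) := hdvd.trans hd
    have h1 := Nat.Coprime.eq_one_of_dvd hcop.symm this
    exact hp.out.one_lt.ne' h1

lemma quasisimple_coprime_of_center_index_coprime {Q : Type*} [Group Q] [Finite Q]
    (hQ : IsQuasisimple Q) (h : ((Subgroup.center Q).index).Coprime p) :
    (Nat.card Q).Coprime p := by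
  have h1 := Subgroup.card_commutator_dvd_index_center_pow (G := Q)
  have h2 : commutator Q = ⊤ := hQ.1.commutator_eq_top
  rw [h2, Subgroup.card_top] at h1
  exact Nat.Coprime.coprime_dvd_left h1 (Nat.Coprime.pow_left _ h)

theorem isPComponent_normal_index_coprime [Finite X] [hp : Fact p.Prime] {K : Subgroup X}
    (hK : IsPComponent p K) (N : Subgroup ↥K) [hNn : N.Normal] (hidx : (N.index).Coprime p) :
    N = ⊤ := by
  obtain ⟨hsn, hcomp, hmin⟩ := hK
  have hPn : (pPrimeCore p X).Normal := Cfsg.Agent.Lib.Helper1.pPrimeCore_normal p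
  set π := QuotientGroup.mk' (pPrimeCore p X) with hπ
  set f : ↥K →* ↥(K.map π) := π.subgroupMap K with hf
  have hfs : Function.Surjective f := π.subgroupMap_surjective K
  have hNf : (N.map f).Normal := hNn.map f hfs
  have hMsn : (N.map K.subtype).IsSubnormal := by
    refine Subgroup.IsSubnormal.trans (Subgroup.map_subtype_le N) ?_ hsn
    have : (N.map K.subtype).subgroupOf K = N := by
      rw [Subgroup.subgroupOf, Subgroup.comap_map_eq_self_of_injective K.subtype_injective]
    rw [this]
    exact hNn.isSubnormal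
  have hcomm : (N.map K.subtype).map π = ((N.map f).map (K.map π).subtype) := by
    rw [Subgroup.map_map, Subgroup.map_map]
    rfl
  rcases quasisimple_normal_top_or_central hcomp.2 (N.map f) hNf with h | h
  · have h1 : (N.map K.subtype).map π = K.map π := by
      rw [hcomm, h, ← MonoidHom.range_eq_map, Subgroup.range_subtype]
    have h2 := hmin _ hMsn (Subgroup.map_subtype_le N) h1
    have h3 : N.map K.subtype = (⊤ : Subgroup ↥K).map K.subtype := by
      rw [h2, ← MonoidHom.range_eq_map, Subgroup.range_subtype]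
    exact Subgroup.map_injective K.subtype_injective h3
  · exfalso
    have h1 : (Subgroup.center ↥(K.map π)).index ∣ (N.map f).index :=
      Subgroup.index_dvd_of_le h
    have h2 : (N.map f).index ∣ N.index := Subgroup.index_map_dvd N hfs
    have h3 : ((Subgroup.center ↥(K.map π)).index).Coprime p :=
      Nat.Coprime.coprime_dvd_left (h1.trans h2) hidx
    have h4 := quasisimple_coprime_of_center_index_coprime p hcomp.2 h3
    have h5 := subnormal_coprime_le_pPrimeCore p (K.map π) hcomp.1 h4
    rw [pPrimeCore_quotient_eq_bot, le_bot_iff] at h5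
    exact isComponent_ne_bot hcomp h5

end PComponents

end Cfsg.Agent.Lib.Helper10
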