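import Mathlib
import Cfsg.Prelude.Def_Local
import Cfsg.Agent.Lib.Helper10.Components
import Cfsg.Agent.Lib.Helper9.Components

set_option autoImplicit false

namespace Cfsg.Agent.Lib.Helper10

open Cfsg Cfsg.Agent.Lib.Helper9

section Quasi

variable {G : Type*} [Group G]

lemma commutator_self_le_self (K : Subgroup G) : ⁅K, K⁆ ≤ K :=
  Subgroup.commutator_le.2 (fun _ ha _ hb =>
    K.mul_mem (K.mul_mem (K.mul_mem ha hb) (K.inv_mem ha)) (K.inv_mem hb))

theorem isQuasisimple_of_forall_normal [Nontrivial G] (hperf : Group.IsPerfect G)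
    (h : ∀ H : Subgroup G, H.Normal → H = ⊤ ∨ H ≤ Subgroup.center G) : IsQuasisimple G := by
  refine ⟨hperf, ?_⟩
  have hnt : Nontrivial (G ⧸ Subgroup.center G) := by
    by_contra hn
    rw [not_nontrivial_iff_subsingleton] at hn
    have htop : Subgroup.center G = ⊤ := QuotientGroup.subgroup_eq_top_of_subsingleton _ hn
    have hcomm : IsMulCommutative G := by
      constructor
      constructor
      intro a b
      have ha : a ∈ Subgroup.center G := by rw [htop]; trivial
      rw [Subgroup.mem_center_iff] at ha
      exact (ha b).symm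
    have : Subsingleton G := inferInstance
    exact not_subsingleton G this
  refine @IsSimpleGroup.mk _ _ hnt ?_
  intro Hbar hHbar
  have hn : (Hbar.comap (QuotientGroup.mk' (Subgroup.center G))).Normal := hHbar.comap _
  have hmc := Subgroup.map_comap_eq_self_of_surjective
    (QuotientGroup.mk'_surjective (Subgroup.center G)) Hbar
  rcases h _ hn with h1 | h1
  · right
    rw [← hmc, h1, ← MonoidHom.range_eq_map]
    exact MonoidHom.range_eq_top_of_surjective _ (QuotientGroup.mk'_surjective _)
  · left
    rw [← hmc, eq_bot_iff]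
    refine (Subgroup.map_mono h1).trans ?_
    rw [Subgroup.map_le_iff_le_comap, MonoidHom.comap_bot, QuotientGroup.ker_mk']

theorem isQuasisimple_of_central_quotient (hperf : Group.IsPerfect G) (M : Subgroup G) [M.Normal]
    (hM : M ≤ Subgroup.center G) (hQ : IsQuasisimple (G ⧸ M)) : IsQuasisimple G := by
  have hntQ : Nontrivial (G ⧸ M) := isQuasisimple_nontrivial hQ
  have hnt : Nontrivial G := (QuotientGroup.mk'_surjective M).nontrivial
  apply isQuasisimple_of_forall_normal hperf
  intro H hH
  have htt : (⊤ : Subgroup G) = ⁅(⊤ : Subgroup G), ⊤⁆ := by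
    have := hperf.commutator_eq_top
    rw [commutator_def] at this
    exact this.symm
  have hn : (H.map (QuotientGroup.mk' M)).Normal := hH.map _ (QuotientGroup.mk'_surjective M)
  rcases quasisimple_normal_top_or_central hQ _ hn with h1 | h1
  · left
    have h2 := Subgroup.comap_map_eq (QuotientGroup.mk' M) H
    rw [h1, Subgroup.comap_top, QuotientGroup.ker_mk'] at h2
    have h3 : H ⊔ Subgroup.center G = ⊤ := by
      rw [eq_top_iff, h2]
      exact sup_le_sup_left hM H
    rw [eq_top_iff, htt]
    conv_lhs => rw [← h3]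
    exact (commutator_sup_center_le H).trans (commutator_self_le_self H)
  · right
    have h2 : ⁅(⊤ : Subgroup G), H⁆ ≤ Subgroup.center G := by
      rw [Subgroup.commutator_le]
      intro g _ x hx
      apply hM
      rw [← QuotientGroup.ker_mk' M, MonoidHom.mem_ker, map_commutatorElement]
      have h3 : (QuotientGroup.mk' M) x ∈ Subgroup.center (G ⧸ M) := h1 ⟨x, hx, rfl⟩
      rw [Subgroup.mem_center_iff] at h3
      rw [commutatorElement_eq_one_iff_commute]
      exact (h3 _)
    have h3 : ⁅⁅(⊤ : Subgroup G), H⁆, (⊤ : Subgroup G)⁆ = ⊥ := by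
      rw [Subgroup.commutator_eq_bot_iff_le_centralizer]
      refine h2.trans ?_
      rw [Subgroup.coe_top, Subgroup.centralizer_univ]
    have h4 : ⁅⁅H, (⊤ : Subgroup G)⁆, (⊤ : Subgroup G)⁆ = ⊥ := by
      rw [Subgroup.commutator_comm H ⊤]; exact h3
    have h5 := Subgroup.commutator_commutator_eq_bot_of_rotate h3 h4
    rw [← htt, Subgroup.commutator_eq_bot_iff_le_centralizer, Subgroup.le_centralizer_iff,
      Subgroup.coe_top, Subgroup.centralizer_univ] at h5
    exact h5

theorem isQuasisimple_quotient (hG : IsQuasisimple G) (M : Subgroup G) [hMn : M.Normal]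
    (hM : M ≠ ⊤) : IsQuasisimple (G ⧸ M) := by
  have hperf : Group.IsPerfect G := hG.1
  have hnt : Nontrivial (G ⧸ M) := by
    by_contra hn
    rw [not_nontrivial_iff_subsingleton] at hn
    exact hM (QuotientGroup.subgroup_eq_top_of_subsingleton _ hn)
  apply isQuasisimple_of_forall_normal inferInstance
  intro Hbar hHbar
  have hn : (Hbar.comap (QuotientGroup.mk' M)).Normal := hHbar.comap _
  have hmc := Subgroup.map_comap_eq_self_of_surjective (QuotientGroup.mk'_surjective M) Hbar
  rcases quasisimple_normal_top_or_central hG _ hn with h1 | h1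
  · left
    rw [← hmc, h1, ← MonoidHom.range_eq_map]
    exact MonoidHom.range_eq_top_of_surjective _ (QuotientGroup.mk'_surjective _)
  · right
    rw [← hmc]
    rintro _ ⟨x, hx, rfl⟩
    have hxc := h1 hx
    rw [Subgroup.mem_center_iff] at hxc ⊢
    intro y
    obtain ⟨y', rfl⟩ := QuotientGroup.mk'_surjective M y
    rw [← map_mul, ← map_mul, hxc y']

end Quasi

end Cfsg.Agent.Lib.Helper10
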