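import Mathlib
import Cfsg.Prelude.Def_Local
import Cfsg.Agent.Lib.Helper10.PComp
import Cfsg.Agent.Lib.Helper10.Quasi

set_option autoImplicit false

namespace Cfsg.Agent.Lib.Helper10

open Cfsg Cfsg.Agent.Lib.Helper9

section PComp2

variable {X : Type*} [Group X] (p : ℕ)

theorem pPrimeCore_subgroupOf_eq [Finite X] {K : Subgroup X} (hK : K.IsSubnormal) :
    pPrimeCore p ↥K = (pPrimeCore p X).subgroupOf K := by
  have hPn : (pPrimeCore p X).Normal := Cfsg.Agent.Lib.Helper1.pPrimeCore_normal p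
  have hKn : (pPrimeCore p ↥K).Normal := Cfsg.Agent.Lib.Helper1.pPrimeCore_normal p
  apply le_antisymm
  · have hsn : ((pPrimeCore p ↥K).map K.subtype).IsSubnormal := hKn.isSubnormal.trans' hK
    have hc : (Nat.card ((pPrimeCore p ↥K).map K.subtype)).Coprime p := by
      rw [Subgroup.card_map_of_injective K.subtype_injective]
      exact Cfsg.Agent.Lib.Helper1.pPrimeCore_card_coprime p
    have hle := subnormal_coprime_le_pPrimeCore p _ hsn hc
    intro x hx
    rw [Subgroup.mem_subgroupOf]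
    exact hle ⟨x, hx, rfl⟩
  · have hn : ((pPrimeCore p X).subgroupOf K).Normal := inferInstance
    apply Cfsg.Agent.Lib.Helper1.le_pPrimeCore hn
    have h1 : Nat.card ((pPrimeCore p X).subgroupOf K) ∣ Nat.card (pPrimeCore p X) := by
      rw [← Subgroup.card_map_of_injective K.subtype_injective]
      apply Subgroup.card_dvd_of_le
      rintro _ ⟨x, hx, rfl⟩
      exact hx
    exact Nat.Coprime.coprime_dvd_left h1 (Cfsg.Agent.Lib.Helper1.pPrimeCore_card_coprime p)

theorem ker_subgroupMap_mk' (N : Subgroup X) [N.Normal] (K : Subgroup X) :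
    ((QuotientGroup.mk' N).subgroupMap K).ker = N.subgroupOf K := by
  ext x
  rw [MonoidHom.mem_ker, Subgroup.mem_subgroupOf]
  have h0 : (x : X) ∈ N ↔ (QuotientGroup.mk' N) (x : X) = 1 := by
    rw [← MonoidHom.mem_ker, QuotientGroup.ker_mk']
  rw [h0]
  constructor
  · intro h
    exact congrArg Subtype.val h
  · intro h
    exact Subtype.ext h

noncomputable def quotientCoreEquiv [Finite X] {K : Subgroup X} (hK : K.IsSubnormal) :
    haveI : (pPrimeCore p X).Normal := Cfsg.Agent.Lib.Helper1.pPrimeCore_normal p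
    haveI : (pPrimeCore p ↥K).Normal := Cfsg.Agent.Lib.Helper1.pPrimeCore_normal p
    ↥K ⧸ pPrimeCore p ↥K ≃* ↥(K.map (QuotientGroup.mk' (pPrimeCore p X))) :=
  haveI : (pPrimeCore p X).Normal := Cfsg.Agent.Lib.Helper1.pPrimeCore_normal p
  haveI : (pPrimeCore p ↥K).Normal := Cfsg.Agent.Lib.Helper1.pPrimeCore_normal p
  (QuotientGroup.quotientMulEquivOfEq
    ((pPrimeCore_subgroupOf_eq p hK).trans (ker_subgroupMap_mk' (pPrimeCore p X) K).symm)).trans
  (QuotientGroup.quotientKerEquivOfSurjective _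
    ((QuotientGroup.mk' (pPrimeCore p X)).subgroupMap_surjective K))

theorem isPComponent_quotient_isQuasisimple [Finite X] {K : Subgroup X}
    (hK : IsPComponent p K) :
    haveI : (pPrimeCore p ↥K).Normal := Cfsg.Agent.Lib.Helper1.pPrimeCore_normal p
    IsQuasisimple (↥K ⧸ pPrimeCore p ↥K) :=
  isQuasisimple_of_mulEquiv (quotientCoreEquiv p hK.1).symm hK.2.1.2

end PComp2

end Cfsg.Agent.Lib.Helper10
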