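import Mathlib
import Cfsg.Prelude.Def_Local
import Cfsg.Agent.Lib.Helper10.PComp2

set_option autoImplicit false

namespace Cfsg.Agent.Lib.Helper10

open Cfsg Cfsg.Agent.Lib.Helper9

section Index

variable {G : Type*} [Group G]

theorem relIndex_sup_of_le_normalizer (H N : Subgroup G)
    (hLE : H ≤ Subgroup.normalizer (N : Set G)) : N.relIndex (H ⊔ N) = N.relIndex H := by
  have := Subgroup.normal_subgroupOf_of_le_normalizer hLE
  have := Subgroup.normal_subgroupOf_sup_of_le_normalizer hLE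
  exact (Nat.card_congr
    (QuotientGroup.quotientInfEquivProdNormalizerQuotient H N hLE).toEquiv).symm

theorem relIndex_sup_dvd_card [Finite G] (H N : Subgroup G) [N.Normal] :
    H.relIndex (H ⊔ N) ∣ Nat.card N := by
  have h1 := Cfsg.Agent.Lib.Helper1.card_sup_dvd_mul H N
  have h2 := Cfsg.Agent.Lib.Helper1.card_mul_relIndex_of_le (le_sup_left : H ≤ H ⊔ N)
  rw [← h2] at h1
  exact Nat.dvd_of_mul_dvd_mul_left Nat.card_pos h1

theorem le_of_isSubnormal_of_le_sup [Finite G] (p : ℕ) (N₁ : Subgroup G) [N₁.Normal]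
    (hN₁ : (Nat.card N₁).Coprime p) (K₂ : Subgroup G)
    (hK₂ : ∀ M : Subgroup G, K₂ ≤ Subgroup.normalizer (M : Set G) →
      (M.relIndex K₂).Coprime p → K₂ ≤ M)
    (K₁ : Subgroup G) (hK₁ : K₁.IsSubnormal) (hle : K₂ ≤ K₁ ⊔ N₁) : K₂ ≤ K₁ := by
  induction hK₁ with
  | top => exact le_top
  | step H K hHK hK hn ih =>
    have hK₂K : K₂ ≤ K := ih (hle.trans (sup_le_sup_right hHK N₁))
    have hnorm : K₂ ≤ Subgroup.normalizer (H : Set G) :=
      hK₂K.trans ((Subgroup.normal_subgroupOf_iff_le_normalizer hHK).1 hn)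
    apply hK₂ H hnorm
    have h1 : H.relIndex K₂ = H.relIndex (K₂ ⊔ H) :=
      (relIndex_sup_of_le_normalizer K₂ H hnorm).symm
    have h2 : H.relIndex (K₂ ⊔ H) * (K₂ ⊔ H).relIndex (H ⊔ N₁) = H.relIndex (H ⊔ N₁) :=
      Subgroup.relIndex_mul_relIndex _ _ _ le_sup_right (sup_le hle le_sup_left)
    have h3 : H.relIndex K₂ ∣ Nat.card N₁ := by
      rw [h1]
      exact (Dvd.intro _ h2).trans (relIndex_sup_dvd_card H N₁)
    exact Nat.Coprime.coprime_dvd_left h3 hN₁

end Index

section PComp3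

variable {X : Type*} [Group X] (p : ℕ)

theorem isPComponent_le_of_normalizer [Finite X] [Fact p.Prime] {K : Subgroup X}
    (hK : IsPComponent p K) (M : Subgroup X) (hM : K ≤ Subgroup.normalizer (M : Set X))
    (hidx : (M.relIndex K).Coprime p) : K ≤ M := by
  have hn : (M.subgroupOf K).Normal := Subgroup.normal_subgroupOf_of_le_normalizer hM
  have h1 := isPComponent_normal_index_coprime p hK (M.subgroupOf K) hidx
  rwa [Subgroup.subgroupOf_eq_top] at h1

theorem isPComponent_unique [Finite X] [Fact p.Prime] {K₁ K₂ : Subgroup X}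
    (h₁ : IsPComponent p K₁) (h₂ : IsPComponent p K₂)
    (heq : K₁.map (QuotientGroup.mk' (pPrimeCore p X)) = K₂.map (QuotientGroup.mk' (pPrimeCore p X))) :
    K₁ = K₂ := by
  have hcop : (Nat.card (pPrimeCore p X)).Coprime p :=
    Cfsg.Agent.Lib.Helper1.pPrimeCore_card_coprime p
  have key : ∀ {A B : Subgroup X}, IsPComponent p A → IsPComponent p B →
      A.map (QuotientGroup.mk' (pPrimeCore p X)) = B.map (QuotientGroup.mk' (pPrimeCore p X)) →
      B ≤ A := by
    intro A B hA hB hAB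
    apply le_of_isSubnormal_of_le_sup p (pPrimeCore p X) hcop B
      (fun M hM hidx => isPComponent_le_of_normalizer p hB M hM hidx) A hA.1
    have h3 := Subgroup.comap_map_eq (QuotientGroup.mk' (pPrimeCore p X)) A
    rw [QuotientGroup.ker_mk'] at h3
    rw [← h3, hAB]
    exact Subgroup.le_comap_map _ _
  exact le_antisymm (key h₂ h₁ heq.symm) (key h₁ h₂ heq)

theorem exists_isPComponent_le [Finite X] (L : Subgroup X) (hL : L.IsSubnormal)
    (hLc : IsComponent (L.map (QuotientGroup.mk' (pPrimeCore p X)))) :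
    ∃ K : Subgroup X, IsPComponent p K ∧ K ≤ L ∧
      K.map (QuotientGroup.mk' (pPrimeCore p X)) = L.map (QuotientGroup.mk' (pPrimeCore p X)) := by
  classical
  have hex : ∃ n : ℕ, ∃ H : Subgroup X, H.IsSubnormal ∧ H ≤ L ∧
      H.map (QuotientGroup.mk' (pPrimeCore p X)) = L.map (QuotientGroup.mk' (pPrimeCore p X)) ∧
      Nat.card H = n := ⟨_, L, hL, le_rfl, rfl, rfl⟩
  obtain ⟨H, hHsn, hHL, hHmap, hHcard⟩ := Nat.find_spec hex
  refine ⟨H, ⟨hHsn, ?_, ?_⟩, hHL, hHmap⟩
  · rw [hHmap]; exact hLc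
  · intro H' hH'sn hH'H hH'map
    have h1 : Nat.card H ≤ Nat.card H' := by
      rw [hHcard]
      exact Nat.find_min' hex ⟨H', hH'sn, hH'H.trans hHL, hH'map.trans hHmap, rfl⟩
    exact Subgroup.eq_of_le_of_card_ge hH'H h1

theorem exists_isPComponent_of_isComponent [Finite X]
    (Kbar : Subgroup (X ⧸ pPrimeCore p X)) (hK : IsComponent Kbar) :
    ∃ K : Subgroup X, IsPComponent p K ∧ K.map (QuotientGroup.mk' (pPrimeCore p X)) = Kbar := by
  have hmc := Subgroup.map_comap_eq_self_of_surjective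
    (QuotientGroup.mk'_surjective (pPrimeCore p X)) Kbar
  obtain ⟨K, hK1, _, hK3⟩ := exists_isPComponent_le p (Kbar.comap (QuotientGroup.mk' (pPrimeCore p X)))
    (hK.1.comap _) (by rw [hmc]; exact hK)
  exact ⟨K, hK1, hK3.trans hmc⟩

theorem map_pLayer [Finite X] :
    (pLayer p X).map (QuotientGroup.mk' (pPrimeCore p X)) = layer (X ⧸ pPrimeCore p X) := by
  apply le_antisymm
  · rw [Subgroup.map_le_iff_le_comap]
    apply sSup_le
    intro K hK
    rw [← Subgroup.map_le_iff_le_comap]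
    exact le_sSup hK.2.1
  · apply sSup_le
    intro Kbar hKbar
    obtain ⟨K, hK1, hK2⟩ := exists_isPComponent_of_isComponent p Kbar hKbar
    rw [← hK2]
    exact Subgroup.map_mono (le_sSup hK1)

end PComp3

end Cfsg.Agent.Lib.Helper10
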