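import Mathlib
import Cfsg.Prelude.Def_Local
import Cfsg.Agent.Lib.Helper10.PComp3
import Cfsg.Agent.Lib.Helper9.SylowConj
import Cfsg.Agent.S1263

set_option autoImplicit false

namespace Cfsg.Agent.Lib.Helper10

open Cfsg Cfsg.Agent.Lib.Helper9

section PComp4

variable {X : Type*} [Group X] (p : ℕ)

theorem map_conj_map_mk' (N : Subgroup X) [N.Normal] (K : Subgroup X) (g : X) :
    (K.map (MulAut.conj g).toMonoidHom).map (QuotientGroup.mk' N) =
      (K.map (QuotientGroup.mk' N)).map (MulAut.conj ((QuotientGroup.mk' N) g)).toMonoidHom := by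
  rw [Subgroup.map_map, Subgroup.map_map]
  congr 1

theorem isPComponent_conj {K : Subgroup X} (hK : IsPComponent p K) (g : X) :
    IsPComponent p (K.map (MulAut.conj g).toMonoidHom) := by
  obtain ⟨hsn, hcomp, hmin⟩ := hK
  refine ⟨hsn.map (MulAut.conj g).surjective, ?_, ?_⟩
  · rw [map_conj_map_mk']
    exact isComponent_map_equiv _ hcomp
  · intro H hH hHK hHmap
    have h1 : (H.map (MulAut.conj g⁻¹).toMonoidHom).IsSubnormal :=
      hH.map (MulAut.conj g⁻¹).surjective
    have h2 : H.map (MulAut.conj g⁻¹).toMonoidHom ≤ K := by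
      have := Subgroup.map_mono (f := (MulAut.conj g⁻¹).toMonoidHom) hHK
      rwa [map_conj_inv_map_conj] at this
    have h3 : (H.map (MulAut.conj g⁻¹).toMonoidHom).map (QuotientGroup.mk' (pPrimeCore p X)) =
        K.map (QuotientGroup.mk' (pPrimeCore p X)) := by
      rw [map_conj_map_mk', hHmap, map_conj_map_mk', map_inv, map_conj_inv_map_conj]
    have h4 := hmin _ h1 h2 h3
    rw [← h4]
    have := map_conj_inv_map_conj H g⁻¹
    rw [inv_inv] at this
    exact this.symm

theorem isPComponent_mem_normalizer [Finite X] [Fact p.Prime] {K : Subgroup X}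
    (hK : IsPComponent p K) (g : X)
    (hg : (QuotientGroup.mk' (pPrimeCore p X)) g ∈
      Subgroup.normalizer ((K.map (QuotientGroup.mk' (pPrimeCore p X)) : Subgroup _) : Set _)) :
    g ∈ Subgroup.normalizer (K : Set X) := by
  apply mem_normalizer_of_map_conj_eq
  apply isPComponent_unique p (isPComponent_conj p hK g) hK
  rw [map_conj_map_mk']
  exact map_conj_eq_of_mem_normalizer hg

theorem isComponent_le_normalizer {G : Type*} [Group G] [Finite G] {A B : Subgroup G}
    (hA : IsComponent A) (hB : IsComponent B) : B ≤ Subgroup.normalizer (A : Set G) := by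
  by_cases h : A = B
  · rw [h]; exact Subgroup.le_normalizer
  · have h1 := Cfsg.Agent.S1263.distinct_components_commute hB hA (Ne.symm h)
    rw [Subgroup.commutator_eq_bot_iff_le_centralizer] at h1
    exact h1.trans (Subgroup.centralizer_le_normalizer _)

theorem isPComponent_le_normalizer [Finite X] [Fact p.Prime] {K K' : Subgroup X}
    (hK : IsPComponent p K) (hK' : IsPComponent p K') : K' ≤ Subgroup.normalizer (K : Set X) := by
  intro g hg
  apply isPComponent_mem_normalizer p hK g
  exact isComponent_le_normalizer hK.2.1 hK'.2.1 (Subgroup.mem_map_of_mem _ hg)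

theorem pLayer_le_normalizer [Finite X] [Fact p.Prime] {K : Subgroup X}
    (hK : IsPComponent p K) : pLayer p X ≤ Subgroup.normalizer (K : Set X) :=
  sSup_le (fun _ hK' => isPComponent_le_normalizer p hK hK')

theorem isPComponent_le_pLayer {K : Subgroup X} (hK : IsPComponent p K) : K ≤ pLayer p X :=
  le_sSup hK

end PComp4

end Cfsg.Agent.Lib.Helper10
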