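import Mathlib
import Cfsg.Prelude.Def_Balance
import Cfsg.Agent.Lib.Helper10.PComp4
import Cfsg.Agent.Lib.Helper13.Conj

set_option autoImplicit false

namespace Cfsg.Agent.Lib.Helper10

open Cfsg Cfsg.Agent.Lib.Helper9

section CoreOf

theorem pPrimeCore_map_equiv_le (p : ℕ) {G G' : Type*} [Group G] [Group G'] (e : G ≃* G') :
    (pPrimeCore p G).map e.toMonoidHom ≤ pPrimeCore p G' := by
  rw [Subgroup.map_le_iff_le_comap]
  apply sSup_le
  rintro K ⟨hKn, hKc⟩
  rw [← Subgroup.map_le_iff_le_comap]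
  apply le_sSup
  refine ⟨hKn.map e.toMonoidHom e.surjective, ?_⟩
  rw [Subgroup.card_map_of_injective e.injective]
  exact hKc

theorem pPrimeCore_map_equiv (p : ℕ) {G G' : Type*} [Group G] [Group G'] (e : G ≃* G') :
    (pPrimeCore p G).map e.toMonoidHom = pPrimeCore p G' := by
  apply le_antisymm (pPrimeCore_map_equiv_le p e)
  have h1 := Subgroup.map_mono (f := e.toMonoidHom) (pPrimeCore_map_equiv_le p e.symm)
  rw [Subgroup.map_map] at h1
  have h2 : e.toMonoidHom.comp e.symm.toMonoidHom = MonoidHom.id G' := by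
    ext x; simp
  rw [h2, Subgroup.map_id] at h1
  exact h1

variable {X : Type*} [Group X]

def coreOf (p : ℕ) (H : Subgroup X) : Subgroup X := (pPrimeCore p ↥H).map H.subtype

theorem coreOf_conj (p : ℕ) (H : Subgroup X) (g : X) :
    coreOf p (H.map (MulAut.conj g).toMonoidHom) = (coreOf p H).map (MulAut.conj g).toMonoidHom := by
  unfold coreOf
  rw [← pPrimeCore_map_equiv p
    (H.equivMapOfInjective (MulAut.conj g).toMonoidHom (MulAut.conj g).injective),
    Subgroup.map_map, Subgroup.map_map]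
  congr 1

theorem coreOf_le (p : ℕ) (H : Subgroup X) : coreOf p H ≤ H := Subgroup.map_subtype_le _

theorem coreOf_card_coprime [Finite X] (p : ℕ) (H : Subgroup X) :
    (Nat.card (coreOf p H)).Coprime p := by
  unfold coreOf
  rw [Subgroup.card_map_of_injective H.subtype_injective]
  exact Cfsg.Agent.Lib.Helper1.pPrimeCore_card_coprime p

theorem coreOf_normalizer_le (p : ℕ) (H : Subgroup X) :
    Subgroup.normalizer (H : Set X) ≤ Subgroup.normalizer (coreOf p H : Set X) := by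
  intro g hg
  apply mem_normalizer_of_map_conj_eq
  rw [← coreOf_conj, map_conj_eq_of_mem_normalizer hg]

end CoreOf

section Decomp

variable {X : Type*} [Group X]

theorem comap_le_sylow_sup [Finite X] (p : ℕ) [Fact p.Prime] (N : Subgroup X) [N.Normal]
    (M : Subgroup X) (B : Subgroup (X ⧸ N)) [hBn : B.Normal] (hB : IsPGroup p ↥B)
    (hBM : B.comap (QuotientGroup.mk' N) ≤ M) (T : Sylow p ↥M) :
    B.comap (QuotientGroup.mk' N) ≤ ((T : Subgroup ↥M).map M.subtype) ⊔ N := by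
  have hfs : Function.Surjective ((QuotientGroup.mk' N).subgroupMap M) :=
    (QuotientGroup.mk' N).subgroupMap_surjective M
  have hB'n : (B.subgroupOf (M.map (QuotientGroup.mk' N))).Normal := inferInstance
  have hB'p : IsPGroup p ↥(B.subgroupOf (M.map (QuotientGroup.mk' N))) :=
    hB.comap_of_injective _ (Subgroup.subtype_injective _)
  have hle := hB'p.le_sylow_of_normal (T.mapSurjective hfs)
  intro r hr
  have hrM : r ∈ M := hBM hr
  have h1 : (⟨(QuotientGroup.mk' N) r, Subgroup.mem_map_of_mem _ hrM⟩ :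
      ↥(M.map (QuotientGroup.mk' N))) ∈ B.subgroupOf (M.map (QuotientGroup.mk' N)) := by
    rw [Subgroup.mem_subgroupOf]; exact hr
  have h2 := hle h1
  obtain ⟨t, ht, hteq⟩ := h2
  have h3 : (QuotientGroup.mk' N) (t : X) = (QuotientGroup.mk' N) r := congrArg Subtype.val hteq
  have h4 : (t : X)⁻¹ * r ∈ N := by
    rw [← QuotientGroup.ker_mk' N, MonoidHom.mem_ker, map_mul, map_inv, h3, inv_mul_cancel]
  have h5 : r = (t : X) * ((t : X)⁻¹ * r) := by group
  rw [h5]
  exact Subgroup.mul_mem_sup ⟨t, ht, rfl⟩ h4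

end Decomp

section Ext

variable {X : Type*} [Group X]

theorem normal_of_map_conj_le {H : Subgroup X}
    (h : ∀ g : X, H.map (MulAut.conj g).toMonoidHom ≤ H) : H.Normal :=
  ⟨fun n hn g => h g ⟨n, hn, rfl⟩⟩

theorem pLayer_map_conj_le (p : ℕ) (g : X) :
    (pLayer p X).map (MulAut.conj g).toMonoidHom ≤ pLayer p X := by
  rw [Subgroup.map_le_iff_le_comap]
  apply sSup_le
  intro K hK
  rw [← Subgroup.map_le_iff_le_comap]
  exact le_sSup (isPComponent_conj p hK g)

theorem pLayer_normal (p : ℕ) : (pLayer p X).Normal :=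
  normal_of_map_conj_le (pLayer_map_conj_le p)

theorem pPrimePCore_normal (p : ℕ) : (pPrimePCore p X).Normal := by
  have : (pCore p (X ⧸ pPrimeCore p X)).Normal := Cfsg.Agent.Lib.Helper1.pCore_normal p
  exact Subgroup.Normal.comap this _

theorem normalizer_le_normalizer_centralizer (A : Subgroup X) :
    Subgroup.normalizer (A : Set X) ≤
      Subgroup.normalizer ((Subgroup.centralizer (A : Set X) : Subgroup X) : Set X) := by
  intro g hg
  apply mem_normalizer_of_map_conj_eq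
  rw [← Cfsg.Agent.Lib.Helper13.centralizer_cj, map_conj_eq_of_mem_normalizer hg]

theorem map_conj_le_of_mem {Y W : Subgroup X} (hW : W ≤ Y) {y : X} (hy : y ∈ Y) :
    W.map (MulAut.conj y).toMonoidHom ≤ Y := by
  rintro _ ⟨w, hw, rfl⟩
  exact Y.mul_mem (Y.mul_mem hy (hW hw)) (Y.inv_mem hy)

theorem extendedTwoLayer_def' :
    extendedTwoLayer X = pLayer 2 X ⊔ oddCore X ⊔
      ⨆ T : Sylow 2 ↥(pLayer 2 X ⊔ pPrimePCore 2 X),
        coreOf 2 (Subgroup.centralizer
          (((T : Subgroup ↥(pLayer 2 X ⊔ pPrimePCore 2 X)).map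
            (pLayer 2 X ⊔ pPrimePCore 2 X).subtype : Subgroup X) : Set X)) := rfl

theorem core_conj_le [Finite X] (T : Sylow 2 ↥(pLayer 2 X ⊔ pPrimePCore 2 X)) (m : X)
    (hm : m ∈ pLayer 2 X ⊔ pPrimePCore 2 X) :
    (coreOf 2 (Subgroup.centralizer
          (((T : Subgroup ↥(pLayer 2 X ⊔ pPrimePCore 2 X)).map
            (pLayer 2 X ⊔ pPrimePCore 2 X).subtype : Subgroup X) : Set X))).map
        (MulAut.conj m).toMonoidHom ≤
      pLayer 2 X ⊔ oddCore X ⊔ coreOf 2 (Subgroup.centralizer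
          (((T : Subgroup ↥(pLayer 2 X ⊔ pPrimePCore 2 X)).map
            (pLayer 2 X ⊔ pPrimePCore 2 X).subtype : Subgroup X) : Set X)) := by
  have hp2 : Fact (Nat.Prime 2) := ⟨Nat.prime_two⟩
  have hLn : (pLayer 2 X).Normal := pLayer_normal 2
  have hNn : (oddCore X).Normal := inferInstance
  have hLNn : (pLayer 2 X ⊔ oddCore X).Normal := inferInstance
  have hdec := comap_le_sylow_sup 2 (pPrimeCore 2 X) (pLayer 2 X ⊔ pPrimePCore 2 X)
    (pCore 2 (X ⧸ pPrimeCore 2 X)) (Cfsg.Agent.Lib.Helper1.pCore_isPGroup 2) le_sup_right T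
  have hm' : m ∈ (pLayer 2 X ⊔ oddCore X) ⊔
      ((T : Subgroup ↥(pLayer 2 X ⊔ pPrimePCore 2 X)).map
        (pLayer 2 X ⊔ pPrimePCore 2 X).subtype) := by
    have h1 : pLayer 2 X ⊔ pPrimePCore 2 X ≤ (pLayer 2 X ⊔ oddCore X) ⊔
        ((T : Subgroup ↥(pLayer 2 X ⊔ pPrimePCore 2 X)).map
          (pLayer 2 X ⊔ pPrimePCore 2 X).subtype) := by
      apply sup_le (le_sup_of_le_left le_sup_left)
      refine le_trans hdec ?_
      exact sup_le le_sup_right (le_sup_of_le_left le_sup_right)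
    exact h1 hm
  rw [Subgroup.mem_sup_of_normal_left] at hm'
  obtain ⟨y, hy, t, ht, rfl⟩ := hm'
  rw [map_conj_mul]
  have ht' : t ∈ Subgroup.normalizer ((coreOf 2 (Subgroup.centralizer
          (((T : Subgroup ↥(pLayer 2 X ⊔ pPrimePCore 2 X)).map
            (pLayer 2 X ⊔ pPrimePCore 2 X).subtype : Subgroup X) : Set X)) : Subgroup X) : Set X) :=
    coreOf_normalizer_le 2 _ (normalizer_le_normalizer_centralizer _ (Subgroup.le_normalizer ht))
  rw [map_conj_eq_of_mem_normalizer ht']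
  exact map_conj_le_of_mem le_sup_right (le_sup_left (a := pLayer 2 X ⊔ oddCore X) hy)

theorem extendedTwoLayer_eq [Finite X] (T : Sylow 2 ↥(pLayer 2 X ⊔ pPrimePCore 2 X)) :
    extendedTwoLayer X = pLayer 2 X ⊔ oddCore X ⊔ coreOf 2 (Subgroup.centralizer
          (((T : Subgroup ↥(pLayer 2 X ⊔ pPrimePCore 2 X)).map
            (pLayer 2 X ⊔ pPrimePCore 2 X).subtype : Subgroup X) : Set X)) := by
  have hp2 : Fact (Nat.Prime 2) := ⟨Nat.prime_two⟩
  rw [extendedTwoLayer_def']
  apply le_antisymm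
  · apply sup_le le_sup_left
    apply iSup_le
    intro T'
    obtain ⟨m, hm⟩ := MulAction.exists_smul_eq ↥(pLayer 2 X ⊔ pPrimePCore 2 X) T T'
    have h1 : ((T' : Subgroup ↥(pLayer 2 X ⊔ pPrimePCore 2 X)).map
        (pLayer 2 X ⊔ pPrimePCore 2 X).subtype : Subgroup X) =
        ((T : Subgroup ↥(pLayer 2 X ⊔ pPrimePCore 2 X)).map
          (pLayer 2 X ⊔ pPrimePCore 2 X).subtype).map (MulAut.conj (m : X)).toMonoidHom := by
      rw [← hm, Cfsg.Agent.Lib.Helper13.sylow_smul_coe, Subgroup.map_map, Subgroup.map_map]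
      congr 1
    rw [h1, Cfsg.Agent.Lib.Helper13.centralizer_cj, coreOf_conj]
    exact core_conj_le T m m.2
  · exact sup_le_sup_left (le_iSup (fun T' : Sylow 2 ↥(pLayer 2 X ⊔ pPrimePCore 2 X) =>
      coreOf 2 (Subgroup.centralizer
          (((T' : Subgroup ↥(pLayer 2 X ⊔ pPrimePCore 2 X)).map
            (pLayer 2 X ⊔ pPrimePCore 2 X).subtype : Subgroup X) : Set X))) T) _

open scoped Pointwise in
theorem sylow_conjNormal_coe {p : ℕ} (M : Subgroup X) [M.Normal] (T : Sylow p ↥M) (g : X) :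
    ((((MulAut.conjNormal g : MulAut ↥M) • T : Sylow p ↥M) : Subgroup ↥M).map M.subtype) =
      ((T : Subgroup ↥M).map M.subtype).map (MulAut.conj g).toMonoidHom := by
  ext x
  simp only [Subgroup.mem_map, Sylow.pointwise_smul_def, Subgroup.mem_smul_pointwise_iff_exists,
    MulAut.smul_def]
  constructor
  · rintro ⟨y, ⟨t, ht, rfl⟩, rfl⟩
    exact ⟨(t : X), ⟨t, ht, rfl⟩, (MulAut.conjNormal_apply g t).symm⟩
  · rintro ⟨_, ⟨t, ht, rfl⟩, rfl⟩
    exact ⟨MulAut.conjNormal g t, ⟨t, ht, rfl⟩, MulAut.conjNormal_apply g t⟩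

theorem extendedTwoLayer_normal [Finite X] : (extendedTwoLayer X).Normal := by
  have hLn : (pLayer 2 X).Normal := pLayer_normal 2
  have hNn : (oddCore X).Normal := inferInstance
  have hRn : (pPrimePCore 2 X).Normal := pPrimePCore_normal 2
  have hMn : (pLayer 2 X ⊔ pPrimePCore 2 X).Normal := inferInstance
  apply normal_of_map_conj_le
  intro g
  rw [extendedTwoLayer_def', Subgroup.map_sup, Subgroup.map_sup, Subgroup.map_iSup]
  apply sup_le
  · apply le_sup_of_le_left
    apply sup_le_sup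
    · exact pLayer_map_conj_le 2 g
    · rintro _ ⟨n, hn, rfl⟩
      exact hNn.conj_mem n hn g
  · apply le_sup_of_le_right
    apply iSup_le
    intro T
    rw [← coreOf_conj, ← Cfsg.Agent.Lib.Helper13.centralizer_cj,
      ← sylow_conjNormal_coe (pLayer 2 X ⊔ pPrimePCore 2 X) T g]
    exact le_iSup (fun T' : Sylow 2 ↥(pLayer 2 X ⊔ pPrimePCore 2 X) =>
      coreOf 2 (Subgroup.centralizer
          (((T' : Subgroup ↥(pLayer 2 X ⊔ pPrimePCore 2 X)).map
            (pLayer 2 X ⊔ pPrimePCore 2 X).subtype : Subgroup X) : Set X)))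
      ((MulAut.conjNormal g : MulAut ↥(pLayer 2 X ⊔ pPrimePCore 2 X)) • T)

end Ext

end Cfsg.Agent.Lib.Helper10
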