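import Mathlib
import Cfsg.Prelude.Def_Local
import Cfsg.Agent.Lib.Helper10.PComp4

set_option autoImplicit false

namespace Cfsg.Agent.Lib.Helper10

open Cfsg Cfsg.Agent.Lib.Helper9

section PComp5

variable {C : Type*} [Group C] (p : ℕ)

theorem isComponent_top_of_isQuasisimple {Q : Type*} [Group Q] (hQ : IsQuasisimple Q) :
    IsComponent (⊤ : Subgroup Q) :=
  ⟨Subgroup.IsSubnormal.top, isQuasisimple_of_mulEquiv Subgroup.topEquiv.symm hQ⟩

theorem pPrimeCore_eq_ker_of_surjective [Finite C] {Q : Type*} [Group Q]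
    (hQ0 : pPrimeCore p Q = ⊥) (f : C →* Q) (hf : Function.Surjective f)
    (hker : (Nat.card f.ker).Coprime p) : pPrimeCore p C = f.ker := by
  have hOn : (pPrimeCore p C).Normal := Cfsg.Agent.Lib.Helper1.pPrimeCore_normal p
  apply le_antisymm
  · have h1 : ((pPrimeCore p C).map f).Normal := hOn.map f hf
    have h2 : (Nat.card ((pPrimeCore p C).map f)).Coprime p :=
      Nat.Coprime.coprime_dvd_left (Subgroup.card_map_dvd _ _)
        (Cfsg.Agent.Lib.Helper1.pPrimeCore_card_coprime p)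
    have h3 := Cfsg.Agent.Lib.Helper1.le_pPrimeCore h1 h2
    rw [hQ0, le_bot_iff, Subgroup.map_eq_bot_iff] at h3
    exact h3
  · exact Cfsg.Agent.Lib.Helper1.le_pPrimeCore (MonoidHom.normal_ker f) hker

theorem pLayer_sup_ker_eq_top [Finite C] {Q : Type*} [Group Q] (hQ : IsQuasisimple Q)
    (hQ0 : pPrimeCore p Q = ⊥) (f : C →* Q) (hf : Function.Surjective f)
    (hker : (Nat.card f.ker).Coprime p) : pLayer p C ⊔ f.ker = ⊤ := by
  have hOn : (pPrimeCore p C).Normal := Cfsg.Agent.Lib.Helper1.pPrimeCore_normal p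
  have hO : pPrimeCore p C = f.ker := pPrimeCore_eq_ker_of_surjective p hQ0 f hf hker
  have e : C ⧸ pPrimeCore p C ≃* Q :=
    (QuotientGroup.quotientMulEquivOfEq hO).trans (QuotientGroup.quotientKerEquivOfSurjective f hf)
  have hq : IsQuasisimple (C ⧸ pPrimeCore p C) := isQuasisimple_of_mulEquiv e.symm hQ
  obtain ⟨K₀, hK₀, hK₀map⟩ := exists_isPComponent_of_isComponent p ⊤
    (isComponent_top_of_isQuasisimple hq)
  have h1 := Subgroup.comap_map_eq (QuotientGroup.mk' (pPrimeCore p C)) K₀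
  rw [hK₀map, Subgroup.comap_top, QuotientGroup.ker_mk'] at h1
  rw [eq_top_iff, h1, ← hO]
  exact sup_le_sup_right (isPComponent_le_pLayer p hK₀) _

end PComp5

end Cfsg.Agent.Lib.Helper10
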