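import Mathlib

set_option autoImplicit false

namespace Cfsg.Agent.Lib.Helper10

open scoped Pointwise

section

variable {G : Type*} [Group G]

lemma exists_mul_of_mem_sup (X Y : Subgroup G) (hn : Y ≤ Subgroup.normalizer (X : Set G)) (c : G)
    (hc : c ∈ X ⊔ Y) : ∃ x ∈ X, ∃ y ∈ Y, c = x * y := by
  have h := Subgroup.coe_mul_of_right_le_normalizer_left X Y hn
  have hc' : c ∈ ((X ⊔ Y : Subgroup G) : Set G) := hc
  rw [h] at hc'
  obtain ⟨x, hx, y, hy, rfl⟩ := Set.mem_mul.mp hc'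
  exact ⟨x, hx, y, hy, rfl⟩

lemma le_normalizer_of_commute (X Y : Subgroup G) (h : ∀ a ∈ X, ∀ b ∈ Y, a * b = b * a) :
    Y ≤ Subgroup.normalizer (X : Set G) := by
  intro y hy
  rw [Subgroup.mem_normalizer_iff]
  intro x
  constructor
  · intro hx
    have := h x hx y hy
    have e : y * x * y⁻¹ = x := by
      rw [← this]; group
    rw [e]; exact hx
  · intro hx
    have := h _ hx y hy
    have e : x = y * x * y⁻¹ := by
      calc x = y⁻¹ * (y * x * y⁻¹ * y) := by group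
        _ = y⁻¹ * (y * (y * x * y⁻¹)) := by rw [this]
        _ = y * x * y⁻¹ := by group
    rw [e]; exact hx

lemma card_sup_of_inf_eq_bot (X Y : Subgroup G) (hn : Y ≤ Subgroup.normalizer (X : Set G))
    (hXY : X ⊓ Y = ⊥) : Nat.card ↥(X ⊔ Y) = Nat.card X * Nat.card Y := by
  rw [← Nat.card_prod]
  symm
  let f : X × Y → ↥(X ⊔ Y) := fun z =>
    ⟨(z.1 : G) * (z.2 : G), mul_mem (Subgroup.mem_sup_left z.1.2) (Subgroup.mem_sup_right z.2.2)⟩
  apply Nat.card_congr (Equiv.ofBijective f ⟨?_, ?_⟩)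
  · rintro ⟨⟨x, hx⟩, ⟨y, hy⟩⟩ ⟨⟨x', hx'⟩, ⟨y', hy'⟩⟩ h
    have h1 : x * y = x' * y' := congrArg Subtype.val h
    have h2 : x'⁻¹ * x = y' * y⁻¹ := by
      calc x'⁻¹ * x = x'⁻¹ * (x * y) * y⁻¹ := by group
        _ = x'⁻¹ * (x' * y') * y⁻¹ := by rw [h1]
        _ = y' * y⁻¹ := by group
    have h3 : x'⁻¹ * x ∈ X ⊓ Y := by
      refine Subgroup.mem_inf.mpr ⟨X.mul_mem (X.inv_mem hx') hx, ?_⟩
      rw [h2]; exact Y.mul_mem hy' (Y.inv_mem hy)
    rw [hXY, Subgroup.mem_bot] at h3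
    have hxx : x = x' := by
      have := inv_mul_eq_one.mp h3
      exact this.symm
    have hyy : y = y' := by
      rw [hxx] at h1
      exact mul_left_cancel h1
    subst hxx; subst hyy; rfl
  · rintro ⟨c, hc⟩
    obtain ⟨x, hx, y, hy, rfl⟩ := exists_mul_of_mem_sup X Y hn c hc
    exact ⟨⟨⟨x, hx⟩, ⟨y, hy⟩⟩, rfl⟩

lemma eq_of_card_eq_of_isCyclic [Finite G] [IsCyclic G] (H K : Subgroup G)
    (h : Nat.card H = Nat.card K) : H = K := by
  classical
  have key : ∀ H : Subgroup G, (H : Set G) = {a : G | a ^ Nat.card H = 1} := by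
    intro H
    have hfin : Fintype G := Fintype.ofFinite G
    have hd : 0 < Nat.card H := Nat.card_pos
    have hsub : (H : Set G) ⊆ {a : G | a ^ Nat.card H = 1} := by
      intro a ha
      have h1 : (⟨a, ha⟩ : H) ^ Nat.card H = 1 := pow_card_eq_one'
      have h2 : ((⟨a, ha⟩ : H) ^ Nat.card H : H).1 = (1 : H).1 := congrArg Subtype.val h1
      rw [Subgroup.coe_pow, Subgroup.coe_one] at h2
      exact h2
    apply Set.eq_of_subset_of_ncard_le hsub ?_ (Set.toFinite _)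
    have h1 : (Finset.univ.filter fun a : G => a ^ Nat.card H = 1).card ≤ Nat.card H :=
      IsCyclic.card_pow_eq_one_le hd
    have h2 : ({a : G | a ^ Nat.card H = 1} : Set G).ncard =
        (Finset.univ.filter fun a : G => a ^ Nat.card H = 1).card := by
      rw [← Set.ncard_coe_finset]
      congr 1
      ext a
      simp
    rw [h2]
    refine le_trans h1 ?_
    rw [← Nat.card_coe_set_eq]
    exact le_of_eq rfl
  apply SetLike.coe_injective
  rw [key H, key K, h]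

end

section CommutatorSup

variable {G : Type*} [Group G]

open scoped commutatorElement in
lemma commutator_sup_le_of_commutator_eq_bot {E A : Subgroup G} (h : ⁅E, A⁆ = ⊥) :
    ⁅E ⊔ A, E ⊔ A⁆ ≤ ⁅E, E⁆ ⊔ ⁅A, A⁆ := by
  have hEA : E ≤ Subgroup.centralizer (A : Set G) := Subgroup.commutator_eq_bot_iff_le_centralizer.mp h
  have hcomm : ∀ e ∈ E, ∀ a ∈ A, e * a = a * e := fun e he a ha =>
    ((Subgroup.mem_centralizer_iff.mp (hEA he)) a ha).symm
  have hc : ∀ (e : E) (a : A), Commute (E.subtype e) (A.subtype a) := fun e a =>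
    hcomm e e.2 a a.2
  let f : E × A →* G := E.subtype.noncommCoprod A.subtype hc
  have hn : A ≤ Subgroup.normalizer (E : Set G) := le_normalizer_of_commute E A hcomm
  rw [Subgroup.commutator_le]
  intro g₁ hg₁ g₂ hg₂
  obtain ⟨e₁, he₁, a₁, ha₁, rfl⟩ := exists_mul_of_mem_sup E A hn g₁ hg₁
  obtain ⟨e₂, he₂, a₂, ha₂, rfl⟩ := exists_mul_of_mem_sup E A hn g₂ hg₂
  have h1 : e₁ * a₁ = f (⟨e₁, he₁⟩, ⟨a₁, ha₁⟩) := rfl
  have h2 : e₂ * a₂ = f (⟨e₂, he₂⟩, ⟨a₂, ha₂⟩) := rfl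
  rw [h1, h2, ← map_commutatorElement]
  have h3 : f ⁅((⟨e₁, he₁⟩ : E), (⟨a₁, ha₁⟩ : A)), ((⟨e₂, he₂⟩ : E), (⟨a₂, ha₂⟩ : A))⁆ =
      ⁅e₁, e₂⁆ * ⁅a₁, a₂⁆ := rfl
  rw [h3]
  exact mul_mem (Subgroup.mem_sup_left (Subgroup.commutator_mem_commutator he₁ he₂))
    (Subgroup.mem_sup_right (Subgroup.commutator_mem_commutator ha₁ ha₂))

lemma commutator_sup_eq_of_commutator_eq_bot {E A : Subgroup G} (h : ⁅E, A⁆ = ⊥) :
    ⁅E ⊔ A, E ⊔ A⁆ = ⁅E, E⁆ ⊔ ⁅A, A⁆ :=
  le_antisymm (commutator_sup_le_of_commutator_eq_bot h)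
    (sup_le (Subgroup.commutator_mono le_sup_left le_sup_left)
      (Subgroup.commutator_mono le_sup_right le_sup_right))

/-- The derived series of a subgroup, computed in the ambient group. -/
def dser (K : Subgroup G) : ℕ → Subgroup G
  | 0 => K
  | n + 1 => ⁅dser K n, dser K n⁆

lemma dser_zero (K : Subgroup G) : dser K 0 = K := rfl

lemma dser_succ (K : Subgroup G) (n : ℕ) : dser K (n + 1) = ⁅dser K n, dser K n⁆ := rfl

lemma map_derivedSeries_subtype (K : Subgroup G) (n : ℕ) :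
    (derivedSeries ↥K n).map K.subtype = dser K n := by
  induction n with
  | zero =>
    rw [derivedSeries_zero, dser_zero, ← MonoidHom.range_eq_map, Subgroup.range_subtype]
  | succ n ih =>
    rw [derivedSeries_succ, Subgroup.map_commutator, ih, dser_succ]

lemma dser_le (K : Subgroup G) (n : ℕ) : dser K n ≤ K := by
  induction n with
  | zero => exact le_rfl
  | succ n ih =>
    rw [dser_succ]
    exact le_trans (Subgroup.commutator_mono ih ih) (Subgroup.commutator_le_self K)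

lemma dser_sup_of_commutator_eq_bot {E A : Subgroup G} (h : ⁅E, A⁆ = ⊥) (hE : ⁅E, E⁆ = E)
    (n : ℕ) : dser (E ⊔ A) n = E ⊔ dser A n := by
  induction n with
  | zero => rfl
  | succ n ih =>
    rw [dser_succ, ih, dser_succ]
    have h' : ⁅E, dser A n⁆ = ⊥ := by
      rw [eq_bot_iff, ← h]
      exact Subgroup.commutator_mono le_rfl (dser_le A n)
    rw [commutator_sup_eq_of_commutator_eq_bot h', hE]

end CommutatorSup

end Cfsg.Agent.Lib.Helper10
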