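import Mathlib
import Cfsg.Agent.Lib.Helper10.PComp3

set_option autoImplicit false

namespace Cfsg.Agent.Lib.Helper10

section SylowSubnormal

variable {G : Type*} [Group G]

theorem relIndex_sup_of_le_normalizer' [Finite G] (P H : Subgroup G)
    (h : P ≤ Subgroup.normalizer (H : Set G)) : P.relIndex (P ⊔ H) = P.relIndex H := by
  have h1 : H.relIndex (P ⊔ H) = H.relIndex P := relIndex_sup_of_le_normalizer P H h
  have c1 := Cfsg.Agent.Lib.Helper1.card_mul_relIndex_of_le (le_sup_right : H ≤ P ⊔ H)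
  have c2 := Cfsg.Agent.Lib.Helper1.card_mul_relIndex_of_le (inf_le_right : H ⊓ P ≤ P)
  have c3 := Cfsg.Agent.Lib.Helper1.card_mul_relIndex_of_le (le_sup_left : P ≤ P ⊔ H)
  have c4 := Cfsg.Agent.Lib.Helper1.card_mul_relIndex_of_le (inf_le_left : H ⊓ P ≤ H)
  rw [Subgroup.inf_relIndex_right] at c2
  rw [inf_comm, Subgroup.inf_relIndex_right] at c4
  rw [h1] at c1
  have hpos : 0 < Nat.card P := Nat.card_pos
  have e : Nat.card P * P.relIndex (P ⊔ H) = Nat.card P * P.relIndex H := by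
    rw [c3, ← c1, ← c4, ← c2, inf_comm]
    ring
  exact Nat.eq_of_mul_eq_mul_left hpos e

theorem not_dvd_relIndex_inf_of_isSubnormal [Finite G] (p : ℕ) (P : Subgroup G)
    (hP : ¬ p ∣ P.index) (H : Subgroup G) (hH : H.IsSubnormal) :
    ¬ p ∣ (P ⊓ H).relIndex H := by
  induction hH with
  | top =>
    rw [inf_top_eq, Subgroup.relIndex_top_right]
    exact hP
  | step H K hHK hK hn ih =>
    intro hdvd
    apply ih
    have hnorm : P ⊓ K ≤ Subgroup.normalizer (H : Set G) :=
      inf_le_right.trans ((Subgroup.normal_subgroupOf_iff_le_normalizer hHK).1 hn)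
    have e1 : (P ⊓ H).relIndex H = (P ⊓ K).relIndex H := by
      rw [Subgroup.inf_relIndex_right, ← Subgroup.inf_relIndex_right (P ⊓ K) H, inf_assoc,
        inf_eq_right.2 hHK, Subgroup.inf_relIndex_right]
    rw [e1, ← relIndex_sup_of_le_normalizer' (P ⊓ K) H hnorm] at hdvd
    have e2 := Subgroup.relIndex_mul_relIndex (P ⊓ K) ((P ⊓ K) ⊔ H) K le_sup_left
      (sup_le inf_le_right hHK)
    exact hdvd.trans (Dvd.intro _ e2)

end SylowSubnormal

end Cfsg.Agent.Lib.Helper10
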