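import Mathlib
import Cfsg.Prelude.Def_Local
import Cfsg.Agent.Lib.Helper10.PComp5
import Cfsg.Agent.Lib.Helper10.SylowSubnormal
import Cfsg.Agent.Lib.Helper10.SubgroupBasic
import Cfsg.Agent.Lib.Helper9.GenFitting
import Cfsg.Agent.S1327

set_option autoImplicit false

namespace Cfsg.Agent.Lib.Helper10

open Cfsg Cfsg.Agent.Lib.Helper9

section Cj

variable {G : Type*} [Group G]

def cj (g : G) (L : Subgroup G) : Subgroup G := L.map (MulAut.conj g).toMonoidHom

lemma cj_def (g : G) (L : Subgroup G) : cj g L = L.map (MulAut.conj g).toMonoidHom := rfl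

lemma mem_cj {g x : G} {L : Subgroup G} : x ∈ cj g L ↔ g⁻¹ * x * g ∈ L :=
  mem_map_conj_iff L g x

lemma conj_mem_cj {g x : G} {L : Subgroup G} (hx : x ∈ L) : g * x * g⁻¹ ∈ cj g L := by
  rw [mem_cj]
  have : g⁻¹ * (g * x * g⁻¹) * g = x := by group
  rw [this]; exact hx

lemma cj_mul (g h : G) (L : Subgroup G) : cj (g * h) L = cj g (cj h L) :=
  map_conj_mul L g h

lemma cj_one (L : Subgroup G) : cj 1 L = L := by
  ext x; rw [mem_cj]; simp

lemma cj_inv_cj (g : G) (L : Subgroup G) : cj g⁻¹ (cj g L) = L := by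
  rw [← cj_mul, inv_mul_cancel, cj_one]

lemma cj_cj_inv (g : G) (L : Subgroup G) : cj g (cj g⁻¹ L) = L := by
  rw [← cj_mul, mul_inv_cancel, cj_one]

lemma cj_mono (g : G) {L M : Subgroup G} (h : L ≤ M) : cj g L ≤ cj g M := Subgroup.map_mono h

lemma cj_eq_self_iff {g : G} {L : Subgroup G} :
    cj g L = L ↔ g ∈ Subgroup.normalizer (L : Set G) :=
  ⟨mem_normalizer_of_map_conj_eq, map_conj_eq_of_mem_normalizer⟩

lemma cj_eq_self_of_le {g : G} {L : Subgroup G} (h : cj g L ≤ L) (h' : cj g⁻¹ L ≤ L) :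
    cj g L = L := by
  apply le_antisymm h
  have := cj_mono g h'
  rwa [cj_cj_inv] at this

lemma isComponent_cj {L : Subgroup G} (hL : IsComponent L) (g : G) : IsComponent (cj g L) :=
  isComponent_map_equiv (MulAut.conj g) hL

lemma cj_iSup {ι : Sort*} (g : G) (f : ι → Subgroup G) : cj g (⨆ i, f i) = ⨆ i, cj g (f i) :=
  Subgroup.map_iSup _ _

lemma cj_centralizer_le {g : G} {L M : Subgroup G}
    (h : L ≤ Subgroup.centralizer (M : Set G)) :
    cj g L ≤ Subgroup.centralizer ((cj g M : Subgroup G) : Set G) := by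
  intro x hx
  rw [mem_cj] at hx
  rw [Subgroup.mem_centralizer_iff]
  intro y hy
  have hy' : g⁻¹ * y * g ∈ M := mem_cj.1 hy
  have h1 := h hx
  rw [Subgroup.mem_centralizer_iff] at h1
  have h2 := h1 _ hy'
  have e1 : y * x = g * ((g⁻¹ * y * g) * (g⁻¹ * x * g)) * g⁻¹ := by group
  have e2 : x * y = g * ((g⁻¹ * x * g) * (g⁻¹ * y * g)) * g⁻¹ := by group
  rw [e1, e2, h2]

def orbSup (P L : Subgroup G) : Subgroup G := ⨆ g : ↥P, cj (g : G) L

lemma cj_le_orbSup (P L : Subgroup G) {g : G} (hg : g ∈ P) : cj g L ≤ orbSup P L :=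
  le_iSup (fun g : ↥P => cj (g : G) L) ⟨g, hg⟩

lemma le_orbSup (P L : Subgroup G) : L ≤ orbSup P L := by
  have := cj_le_orbSup P L P.one_mem
  rwa [cj_one] at this

lemma cj_orbSup_le (P L : Subgroup G) {h : G} (hh : h ∈ P) : cj h (orbSup P L) ≤ orbSup P L := by
  rw [orbSup, cj_iSup]
  apply iSup_le
  intro g
  rw [← cj_mul]
  exact cj_le_orbSup P L (P.mul_mem hh g.2)

lemma cj_orbSup (P L : Subgroup G) {h : G} (hh : h ∈ P) : cj h (orbSup P L) = orbSup P L :=
  cj_eq_self_of_le (cj_orbSup_le P L hh) (cj_orbSup_le P L (P.inv_mem hh))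

lemma le_normalizer_orbSup (P L : Subgroup G) :
    P ≤ Subgroup.normalizer ((orbSup P L : Subgroup G) : Set G) :=
  fun _ hh => cj_eq_self_iff.1 (cj_orbSup P L hh)

lemma cj_orbSup_of_commute (P L : Subgroup G) {w : G} (hw : ∀ g ∈ P, w * g = g * w) :
    cj w (orbSup P L) = orbSup P (cj w L) := by
  rw [orbSup, cj_iSup, orbSup]
  congr 1
  funext g
  rw [← cj_mul, ← cj_mul, hw g g.2]

lemma orbSup_le_centralizer [Finite G] {P L L' : Subgroup G} (hL : IsComponent L)
    (hL' : IsComponent L') (hne : ∀ g ∈ P, L' ≠ cj g L) :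
    orbSup P L' ≤ Subgroup.centralizer ((orbSup P L : Subgroup G) : Set G) := by
  apply iSup_le
  intro g'
  rw [Subgroup.le_centralizer_iff]
  apply iSup_le
  intro g
  have hne' : cj (g : G) L ≠ cj (g' : G) L' := by
    intro h
    apply hne ((g' : G)⁻¹ * g) (P.mul_mem (P.inv_mem g'.2) g.2)
    rw [cj_mul, h, cj_inv_cj]
  have h1 := Cfsg.Agent.S1263.distinct_components_commute (isComponent_cj hL g)
    (isComponent_cj hL' g') hne'
  rw [Subgroup.commutator_eq_bot_iff_le_centralizer] at h1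
  exact h1

lemma layer_le_normalizer_component [Finite G] {L : Subgroup G} (hL : IsComponent L) :
    layer G ≤ Subgroup.normalizer (L : Set G) :=
  sSup_le (fun _ hK => isComponent_le_normalizer hL hK)

lemma orbSup_le_layer {P L : Subgroup G} (hL : IsComponent L) : orbSup P L ≤ layer G :=
  iSup_le (fun g => component_le_layer (isComponent_cj hL g))

lemma layer_le_normalizer_orbSup [Finite G] {P L : Subgroup G} (hL : IsComponent L) :
    layer G ≤ Subgroup.normalizer ((orbSup P L : Subgroup G) : Set G) := by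
  intro e he
  rw [← cj_eq_self_iff]
  have key : ∀ e ∈ layer G, cj e (orbSup P L) ≤ orbSup P L := by
    intro e he
    rw [orbSup, cj_iSup]
    apply iSup_le
    intro g
    have h1 := layer_le_normalizer_component (isComponent_cj hL (g : G)) he
    rw [← cj_eq_self_iff] at h1
    rw [h1]
    exact cj_le_orbSup P L g.2
  exact cj_eq_self_of_le (key e he) (key e⁻¹ (Subgroup.inv_mem _ he))

end Cj

end Cfsg.Agent.Lib.Helper10
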