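import Mathlib
import Cfsg.Prelude.Def_Local
import Cfsg.Agent.Lib.Helper10.LBal1

set_option autoImplicit false

namespace Cfsg.Agent.Lib.Helper10

open Cfsg Cfsg.Agent.Lib.Helper9

section LBal2

variable {G : Type*} [Group G]

lemma orbSup_isSubnormal [Finite G] {P L : Subgroup G} (hL : IsComponent L) :
    (orbSup P L).IsSubnormal := by
  have hn : ((orbSup P L).subgroupOf (layer G)).Normal :=
    (Subgroup.normal_subgroupOf_iff_le_normalizer (orbSup_le_layer hL)).2
      (layer_le_normalizer_orbSup hL)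
  exact Subgroup.IsSubnormal.step _ (layer G) (orbSup_le_layer hL)
    (Subgroup.Normal.isSubnormal inferInstance) hn

lemma inf_centralizer_le_fitting [Finite G] {M : Subgroup G} (hM : M.IsSubnormal) :
    M ⊓ Subgroup.centralizer (M : Set G) ≤ fittingSubgroup G := by
  have hnil : Group.IsNilpotent ↥(Subgroup.center ↥M) :=
    ⟨1, Subgroup.upperCentralSeries_one_eq_top_iff.2 inferInstance⟩
  have h1 : (Subgroup.center ↥M) ≤ fittingSubgroup ↥M :=
    Cfsg.Agent.Lib.Helper1.le_fittingSubgroup inferInstance hnil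
  have h2 := fitting_map_le_of_subnormal M hM
  intro x hx
  apply h2
  refine ⟨⟨x, hx.1⟩, h1 ?_, rfl⟩
  rw [Subgroup.mem_center_iff]
  intro y
  have h3 : x ∈ Subgroup.centralizer (M : Set G) := hx.2
  rw [Subgroup.mem_centralizer_iff] at h3
  exact Subtype.ext (h3 (y : G) y.2)

variable (p : ℕ) [hp : Fact p.Prime]

lemma component_sylow_not_central [Finite G] (hO : pPrimeCore p G = ⊥) {L : Subgroup G}
    (hL : IsComponent L) (T : Subgroup G) (hidx : ¬ p ∣ (T ⊓ L).relIndex L)
    (hc : T ⊓ L ≤ Subgroup.centralizer (L : Set G)) : False := by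
  have h1 : (T ⊓ L).subgroupOf L ≤ Subgroup.center ↥L := by
    intro x hx
    rw [Subgroup.mem_subgroupOf] at hx
    rw [Subgroup.mem_center_iff]
    intro y
    have h3 := hc hx
    rw [Subgroup.mem_centralizer_iff] at h3
    exact Subtype.ext (h3 (y : G) y.2)
  have h2 : (Subgroup.center ↥L).index ∣ ((T ⊓ L).subgroupOf L).index :=
    Subgroup.index_dvd_of_le h1
  have h3 : ¬ p ∣ (Subgroup.center ↥L).index := fun h => hidx (h.trans h2)
  have h4 : ((Subgroup.center ↥L).index).Coprime p :=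
    ((Nat.Prime.coprime_iff_not_dvd hp.out).2 h3).symm
  have h5 := quasisimple_coprime_of_center_index_coprime p hL.2 h4
  have h6 := subnormal_coprime_le_pPrimeCore p L hL.1 h5
  rw [hO, le_bot_iff] at h6
  exact isComponent_ne_bot hL h6

lemma mem_of_pow_mem_of_coprime {x : G} {m : ℕ} (H : Subgroup G) (hx : x ^ m ∈ H)
    (hcop : m.Coprime (orderOf x)) : x ∈ H := by
  obtain ⟨k, hk⟩ := exists_pow_eq_self_of_coprime hcop
  rw [← hk]
  exact H.pow_mem hx k

theorem no_central_pelements [Finite G] (hO : pPrimeCore p G = ⊥) {L : Subgroup G}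
    (hL : IsComponent L) (P : Subgroup G) (hP : IsPGroup p P)
    (hZP : orbSup P L ⊓ Subgroup.centralizer ((orbSup P L : Subgroup G) : Set G) ≤ P)
    (H : ∀ x ∈ orbSup P L, x ∈ Subgroup.normalizer (P : Set G) → IsPGroup p (Subgroup.zpowers x) →
      x ∈ Subgroup.centralizer ((orbSup P L : Subgroup G) : Set G)) : False := by
  obtain ⟨T, hPT⟩ := hP.exists_le_sylow
  set M := orbSup P L with hM
  have hTidx : ¬ p ∣ (T : Subgroup G).index := T.not_dvd_index
  have hpel : ∀ s ∈ (T : Subgroup G), IsPGroup p (Subgroup.zpowers s) := by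
    intro s hs
    exact T.2.to_le (by rw [Subgroup.zpowers_le]; exact hs)
  have hPS : P ≤ Subgroup.normalizer (((T : Subgroup G) ⊓ M : Subgroup G) : Set G) := by
    intro g hg
    have h1 : cj g (T : Subgroup G) = T :=
      cj_eq_self_iff.2 (Subgroup.le_normalizer (hPT hg))
    have h2 : cj g M = M := cj_orbSup P L hg
    rw [← cj_eq_self_iff]
    ext x
    rw [mem_cj, Subgroup.mem_inf, Subgroup.mem_inf, ← mem_cj, ← mem_cj, h1, h2]
  have hS₀P : (T : Subgroup G) ⊓ M ≤ P := by
    by_contra hne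
    have hT₁ : IsPGroup p ↥(P ⊔ (T : Subgroup G) ⊓ M) :=
      T.2.to_le (sup_le hPT inf_le_left)
    have hne' : ¬ (P ⊔ (T : Subgroup G) ⊓ M) ≤ P := fun h => hne (le_sup_right.trans h)
    obtain ⟨y, hy1, hy2, hy3⟩ := exists_normalizer_not_mem (P ⊔ (T : Subgroup G) ⊓ M) P hT₁
      le_sup_left hne'
    rw [sup_comm] at hy1
    obtain ⟨s, hs, g, hg, rfl⟩ := exists_mul_of_mem_sup _ _ hPS y hy1
    apply hy2
    have hsN : s ∈ Subgroup.normalizer (P : Set G) := by
      have := Subgroup.mul_mem _ hy3 (Subgroup.inv_mem _ (Subgroup.le_normalizer hg))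
      simpa using this
    have hsc := H s hs.2 hsN (hpel s hs.1)
    exact P.mul_mem (hZP ⟨hs.2, hsc⟩) hg
  have hS₀c : (T : Subgroup G) ⊓ M ≤ Subgroup.centralizer (M : Set G) := by
    intro s hs
    exact H s hs.2 (Subgroup.le_normalizer (hS₀P hs)) (hpel s hs.1)
  have hLM : L ≤ M := le_orbSup P L
  apply component_sylow_not_central p hO hL (T : Subgroup G)
    (not_dvd_relIndex_inf_of_isSubnormal p (T : Subgroup G) hTidx L hL.1)
  intro x hx
  exact Subgroup.centralizer_le (by exact_mod_cast hLM) (hS₀c ⟨hx.1, hLM hx.2⟩)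

end LBal2

end Cfsg.Agent.Lib.Helper10
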