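import Mathlib
import Cfsg.Prelude.Def_Local
import Cfsg.Agent.Lib.Helper10.LBal2

set_option autoImplicit false

namespace Cfsg.Agent.Lib.Helper10

open Cfsg Cfsg.Agent.Lib.Helper9

section LBal3

variable {G : Type*} [Group G] (p : ℕ) [hp : Fact p.Prime]

lemma orbSup_center_le [Finite G] (hO : pPrimeCore p G = ⊥) {L : Subgroup G}
    (hL : IsComponent L) (P : Subgroup G) (hQP : pCore p G ≤ P) :
    orbSup P L ⊓ Subgroup.centralizer ((orbSup P L : Subgroup G) : Set G) ≤ P := by
  refine (inf_centralizer_le_fitting (orbSup_isSubnormal hL)).trans ?_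
  rw [Cfsg.Agent.S1327.fitting_eq_pCore p hO]
  exact hQP

theorem moved_orbit_false [Finite G] (hO : pPrimeCore p G = ⊥) {L : Subgroup G}
    (hL : IsComponent L) (P : Subgroup G) (hP : IsPGroup p P) (hQP : pCore p G ≤ P)
    (w : G) (hwP : ∀ g ∈ P, w * g = g * w) (hw : ∀ g ∈ P, cj w L ≠ cj g L)
    (hx : ∀ x ∈ orbSup P L, x ∈ Subgroup.normalizer (P : Set G) →
      ∃ m : ℕ, m.Coprime p ∧ (x⁻¹ * (w * x * w⁻¹)) ^ m = 1) : False := by
  have hL' : IsComponent (cj w L) := isComponent_cj hL w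
  have hcent : orbSup P (cj w L) ≤ Subgroup.centralizer ((orbSup P L : Subgroup G) : Set G) :=
    orbSup_le_centralizer hL hL' hw
  have hcjw : cj w (orbSup P L) = orbSup P (cj w L) := cj_orbSup_of_commute P L hwP
  apply no_central_pelements p hO hL P hP (orbSup_center_le p hO hL P hQP)
  intro x hxM hxN hxp
  obtain ⟨m, hm, hpow⟩ := hx x hxM hxN
  have hx' : w * x * w⁻¹ ∈ orbSup P (cj w L) := by
    rw [← hcjw]; exact conj_mem_cj hxM
  have hx'c := hcent hx'
  have hcomm : Commute x⁻¹ (w * x * w⁻¹) := by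
    rw [Subgroup.mem_centralizer_iff] at hx'c
    have := hx'c x⁻¹ ((orbSup P L).inv_mem hxM)
    exact this
  rw [hcomm.mul_pow] at hpow
  have h1 : x ^ m = (w * x * w⁻¹) ^ m := by
    rw [inv_pow] at hpow
    exact (inv_mul_eq_one.1 hpow)
  have h2 : x ^ m ∈ Subgroup.centralizer ((orbSup P L : Subgroup G) : Set G) := by
    rw [h1]
    exact Subgroup.pow_mem _ hx'c m
  apply mem_of_pow_mem_of_coprime _ h2
  obtain ⟨k, hk⟩ := (IsPGroup.iff_orderOf.1 hxp) ⟨x, Subgroup.mem_zpowers x⟩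
  have hk' : orderOf x = p ^ k := by
    rw [← hk]
    exact (Subgroup.orderOf_mk x (Subgroup.mem_zpowers x)).symm
  rw [hk']
  exact Nat.Coprime.pow_right k hm

theorem fixed_orbit_normalizes [Finite G] {L : Subgroup G} (P : Subgroup G) (hP : IsPGroup p P)
    (w : G) (hwP : ∀ g ∈ P, w * g = g * w) (hw : ∃ g ∈ P, cj w L = cj g L)
    (hwo : (orderOf w).Coprime p) : w ∈ Subgroup.normalizer (L : Set G) := by
  obtain ⟨g, hg, hwg⟩ := hw
  have key : ∀ k : ℕ, cj (w ^ k) L = cj (g ^ k) L := by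
    intro k
    induction k with
    | zero => simp
    | succ k ih =>
      have hc : w * g ^ k = g ^ k * w := hwP _ (P.pow_mem hg k)
      rw [pow_succ', cj_mul, ih, ← cj_mul, hc, cj_mul, hwg, ← cj_mul, ← pow_succ]
  have h1 : cj (w ^ orderOf g) L = L := by
    rw [key, pow_orderOf_eq_one, cj_one]
  rw [cj_eq_self_iff] at h1
  apply mem_of_pow_mem_of_coprime _ h1
  obtain ⟨k, hk⟩ := (IsPGroup.iff_orderOf.1 hP) ⟨g, hg⟩
  have hk' : orderOf g = p ^ k := by
    rw [← hk]
    exact (Subgroup.orderOf_mk g hg).symm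
  rw [hk']
  exact (Nat.Coprime.pow_right k hwo).symm

theorem le_normalizer_component_of_pCore_le [Finite G] (hO : pPrimeCore p G = ⊥) {L : Subgroup G}
    (hL : IsComponent L) (P : Subgroup G) (hP : IsPGroup p P) (hQP : pCore p G ≤ P)
    (V : Subgroup G) (hVP : V ≤ Subgroup.centralizer (P : Set G)) (hVc : (Nat.card V).Coprime p)
    (hNV : Subgroup.normalizer (P : Set G) ≤ Subgroup.normalizer (V : Set G)) :
    V ≤ Subgroup.normalizer (L : Set G) := by
  intro w hwV
  have hwP : ∀ g ∈ P, w * g = g * w := by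
    intro g hg
    have := hVP hwV
    rw [Subgroup.mem_centralizer_iff] at this
    exact (this g hg).symm
  have hwo : (orderOf w).Coprime p :=
    Nat.Coprime.coprime_dvd_left (Subgroup.orderOf_dvd_natCard V hwV) hVc
  by_cases hw : ∃ g ∈ P, cj w L = cj g L
  · exact fixed_orbit_normalizes p P hP w hwP hw hwo
  · exfalso
    push Not at hw
    apply moved_orbit_false p hO hL P hP hQP w hwP hw
    intro x _ hxN
    refine ⟨Nat.card V, hVc, ?_⟩
    have h1 : x⁻¹ * w * x ∈ V := by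
      have h2 := hNV (Subgroup.inv_mem _ hxN)
      rw [Subgroup.mem_normalizer_iff] at h2
      have := (h2 w).1 hwV
      simpa using this
    have h3 : x⁻¹ * (w * x * w⁻¹) ∈ V := by
      have := V.mul_mem h1 (V.inv_mem hwV)
      have e : x⁻¹ * w * x * w⁻¹ = x⁻¹ * (w * x * w⁻¹) := by group
      rwa [e] at this
    have := pow_card_eq_one' (G := ↥V) (x := ⟨_, h3⟩)
    exact congrArg Subtype.val this

end LBal3

end Cfsg.Agent.Lib.Helper10
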