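import Mathlib
import Cfsg.Prelude.Def_Local
import Cfsg.Agent.Lib.Helper10.LBal3
import Cfsg.Agent.Lib.Helper10.ExtLayer
import Cfsg.Agent.S0028

set_option autoImplicit false

namespace Cfsg.Agent.Lib.Helper10

open Cfsg Cfsg.Agent.Lib.Helper9

section LBal4

variable {G : Type*} [Group G] (p : ℕ) [hp : Fact p.Prime]

omit hp in
lemma le_coreOf {V H : Subgroup G} (hVH : V ≤ H)
    (hHV : H ≤ Subgroup.normalizer (V : Set G)) (hVc : (Nat.card V).Coprime p) :
    V ≤ coreOf p H := by
  have hn : (V.subgroupOf H).Normal := Subgroup.normal_subgroupOf_of_le_normalizer hHV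
  have hc : (Nat.card (V.subgroupOf H)).Coprime p := by
    rw [Nat.card_congr (Subgroup.subgroupOfEquivOfLe hVH).toEquiv]
    exact hVc
  have h1 := Cfsg.Agent.Lib.Helper1.le_pPrimeCore hn hc
  intro v hv
  exact ⟨⟨v, hVH hv⟩, h1 (Subgroup.mem_subgroupOf.2 hv), rfl⟩

lemma eq_one_of_mem_pGroup_of_mem_coprime {U V : Subgroup G} [Finite G] (hU : IsPGroup p U)
    (hVc : (Nat.card V).Coprime p) {x : G} (hxU : x ∈ U) (hxV : x ∈ V) : x = 1 := by
  obtain ⟨k, hk⟩ := (IsPGroup.iff_orderOf.1 hU) ⟨x, hxU⟩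
  have hk' : orderOf x = p ^ k := by
    rw [← hk]
    exact (Subgroup.orderOf_mk x hxU).symm
  have h1 : orderOf x ∣ Nat.card V := Subgroup.orderOf_dvd_natCard V hxV
  have h2 : (orderOf x).Coprime (orderOf x) := by
    apply Nat.Coprime.coprime_dvd_left h1
    rw [hk']
    exact Nat.Coprime.pow_right k hVc
  rw [Nat.coprime_self] at h2
  exact orderOf_eq_one_iff.1 h2

theorem le_centralizer_pCore [Finite G] (P : Subgroup G) (hP : IsPGroup p P)
    (V : Subgroup G) (hVP : V ≤ Subgroup.centralizer (P : Set G)) (hVc : (Nat.card V).Coprime p)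
    (hCV : Subgroup.centralizer (P : Set G) ≤ Subgroup.normalizer (V : Set G)) :
    V ≤ Subgroup.centralizer ((pCore p G : Subgroup G) : Set G) := by
  have hUn : (pCore p G).Normal := Cfsg.Agent.Lib.Helper1.pCore_normal p
  have hU : IsPGroup p (pCore p G) := Cfsg.Agent.Lib.Helper1.pCore_isPGroup p
  apply Cfsg.Agent.S0028.result p P V (pCore p G) hP hVc hU
  · rw [Subgroup.le_centralizer_iff]; exact hVP
  · rw [Subgroup.normalizer_eq_top]; exact le_top
  · rw [Subgroup.normalizer_eq_top]; exact le_top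
  · intro u hu
    rw [Subgroup.mem_centralizer_iff]
    intro v hv
    have huN := hCV hu.2
    have h1 : u * v * u⁻¹ * v⁻¹ ∈ V := by
      rw [Subgroup.mem_normalizer_iff] at huN
      exact V.mul_mem ((huN v).1 hv) (V.inv_mem hv)
    have h2 : u * v * u⁻¹ * v⁻¹ ∈ pCore p G := by
      have h3 : v * u⁻¹ * v⁻¹ ∈ pCore p G := hUn.conj_mem _ ((pCore p G).inv_mem hu.1) v
      have := (pCore p G).mul_mem hu.1 h3
      have e : u * (v * u⁻¹ * v⁻¹) = u * v * u⁻¹ * v⁻¹ := by group
      rwa [e] at this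
    have h4 := eq_one_of_mem_pGroup_of_mem_coprime p hU hVc h2 h1
    have e : v * u = (u * v * u⁻¹ * v⁻¹)⁻¹ * (u * v) := by group
    rw [e, h4, inv_one, one_mul]

theorem le_normalizer_component_of_centralizer [Finite G] (hO : pPrimeCore p G = ⊥)
    {L : Subgroup G} (hL : IsComponent L) (P : Subgroup G) (hP : IsPGroup p P)
    (V : Subgroup G) (hVP : V ≤ Subgroup.centralizer (P : Set G)) (hVc : (Nat.card V).Coprime p)
    (hCV : Subgroup.centralizer (P : Set G) ≤ Subgroup.normalizer (V : Set G)) :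
    V ≤ Subgroup.normalizer (L : Set G) := by
  have hUn : (pCore p G).Normal := Cfsg.Agent.Lib.Helper1.pCore_normal p
  have hU : IsPGroup p (pCore p G) := Cfsg.Agent.Lib.Helper1.pCore_isPGroup p
  have hVQ := le_centralizer_pCore p P hP V hVP hVc hCV
  set Ps : Subgroup G := P ⊔ pCore p G with hPs
  have hPsP : IsPGroup p Ps := IsPGroup.to_sup_of_normal_right hP hU
  have hCle : Subgroup.centralizer (Ps : Set G) ≤ Subgroup.centralizer (P : Set G) :=
    Subgroup.centralizer_le (by exact_mod_cast (le_sup_left : P ≤ Ps))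
  have hVC : V ≤ Subgroup.centralizer (Ps : Set G) := by
    rw [Subgroup.le_centralizer_iff, hPs]
    apply sup_le
    · rw [Subgroup.le_centralizer_iff]; exact hVP
    · rw [Subgroup.le_centralizer_iff]; exact hVQ
  have hVle : V ≤ coreOf p (Subgroup.centralizer (Ps : Set G)) :=
    le_coreOf p hVC (hCle.trans hCV) hVc
  refine hVle.trans ?_
  apply le_normalizer_component_of_pCore_le p hO hL Ps hPsP le_sup_right
  · exact coreOf_le p _
  · exact coreOf_card_coprime p _
  · exact (normalizer_le_normalizer_centralizer Ps).trans (coreOf_normalizer_le p _)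

end LBal4

end Cfsg.Agent.Lib.Helper10
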