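import Mathlib
import Cfsg.Prelude.Def_Local
import Cfsg.Agent.Lib.Helper10.LBal4
import Cfsg.Agent.Lib.Helper22.Sylow

set_option autoImplicit false

namespace Cfsg.Agent.Lib.Helper10

open Cfsg Cfsg.Agent.Lib.Helper9

section PQS

variable {Y : Type*} [Group Y] (p : ℕ)

def IsPQS (K : Subgroup Y) : Prop :=
  K.IsSubnormal ∧ ⁅K, K⁆ = K ∧ IsQuasisimple (↥K ⧸ pPrimeCore p ↥K)

theorem isPQS_of_isPComponent [Finite Y] [Fact p.Prime] {K : Subgroup Y}
    (hK : IsPComponent p K) : IsPQS p K :=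
  ⟨hK.1, isPComponent_perfect p hK, isPComponent_quotient_isQuasisimple p hK⟩

theorem IsPQS.isComponent_map [Finite Y] {K : Subgroup Y} (h : IsPQS p K) :
    IsComponent (K.map (QuotientGroup.mk' (pPrimeCore p Y))) :=
  ⟨h.1.map (QuotientGroup.mk'_surjective _),
    isQuasisimple_of_mulEquiv (quotientCoreEquiv p h.1) h.2.2⟩

theorem IsPQS.commutator_pCore [Finite Y] [Fact p.Prime] {K : Subgroup Y} (h : IsPQS p K) :
    ⁅K, pCore p Y⁆ = ⊥ := by
  have hcomp := h.isComponent_map p
  have hUp : IsPGroup p (pCore p Y) := Cfsg.Agent.Lib.Helper1.pCore_isPGroup p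
  have hBn : ((pCore p Y).map (QuotientGroup.mk' (pPrimeCore p Y))).Normal :=
    Subgroup.Normal.map inferInstance _ (QuotientGroup.mk'_surjective _)
  have hBp : IsPGroup p ((pCore p Y).map (QuotientGroup.mk' (pPrimeCore p Y))) := hUp.map _
  have hBF : (pCore p Y).map (QuotientGroup.mk' (pPrimeCore p Y)) ≤
      fittingSubgroup (Y ⧸ pPrimeCore p Y) :=
    Cfsg.Agent.Lib.Helper1.le_fittingSubgroup hBn hBp.isNilpotent
  have h1 : ⁅K.map (QuotientGroup.mk' (pPrimeCore p Y)),
      (pCore p Y).map (QuotientGroup.mk' (pPrimeCore p Y))⁆ = ⊥ := by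
    rw [eq_bot_iff, ← commutator_layer_fitting (G := Y ⧸ pPrimeCore p Y)]
    exact Subgroup.commutator_mono (component_le_layer hcomp) hBF
  rw [← Subgroup.map_commutator, map_mk'_eq_bot_iff] at h1
  have h2 : ⁅K, pCore p Y⁆ ≤ pCore p Y := Subgroup.commutator_le_right K (pCore p Y)
  rw [eq_bot_iff]
  intro x hx
  rw [Subgroup.mem_bot]
  exact eq_one_of_mem_pGroup_of_mem_coprime p hUp
    (Cfsg.Agent.Lib.Helper1.pPrimeCore_card_coprime p) (h2 hx) (h1 hx)

theorem IsPQS.le_or_commutator_le [Finite Y] {K : Subgroup Y} (h : IsPQS p K)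
    (D : Subgroup Y) [hD : D.Normal] :
    K ≤ D ⊔ pPrimeCore p Y ∨ ⁅K, D⁆ ≤ pPrimeCore p Y := by
  have hcomp := h.isComponent_map p
  have hDn : (D.map (QuotientGroup.mk' (pPrimeCore p Y))).Normal :=
    hD.map _ (QuotientGroup.mk'_surjective _)
  rcases component_le_or_commutator_eq_bot _ _ hcomp hDn.isSubnormal with h1 | h1
  · left
    have h2 := Subgroup.comap_mono (f := QuotientGroup.mk' (pPrimeCore p Y)) h1
    rw [Subgroup.comap_map_eq, Subgroup.comap_map_eq, QuotientGroup.ker_mk'] at h2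
    exact le_sup_left.trans h2
  · right
    rw [← Subgroup.map_commutator, map_mk'_eq_bot_iff] at h1
    exact h1

end PQS

section Perfect

variable {G : Type*} [Group G] (p : ℕ) [hp : Fact p.Prime]

theorem closure_pPrime_eq_top [Finite G] (hperf : Group.IsPerfect G) :
    Subgroup.closure {k : G | (orderOf k).Coprime p} = ⊤ := by
  set J := Subgroup.closure {k : G | (orderOf k).Coprime p} with hJ
  have hJn : J.Normal := by
    apply normal_of_map_conj_le
    intro g
    rw [hJ, MonoidHom.map_closure, Subgroup.closure_le]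
    rintro _ ⟨k, hk, rfl⟩
    apply Subgroup.subset_closure
    change (orderOf (g * k * g⁻¹)).Coprime p
    rw [orderOf_conj_eq]
    exact hk
  have hQp : IsPGroup p (G ⧸ J) := by
    intro q
    obtain ⟨g, rfl⟩ := QuotientGroup.mk'_surjective J q
    obtain ⟨a, b, hab, _, ⟨k, hk⟩, hb, _, _⟩ := Cfsg.Agent.Lib.Helper22.exists_p_decomp p g
    refine ⟨k, ?_⟩
    have hbJ : b ∈ J := Subgroup.subset_closure hb
    have h1 : (QuotientGroup.mk' J) g = (QuotientGroup.mk' J) a := by
      rw [hab, map_mul]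
      have : (QuotientGroup.mk' J) b = 1 := by
        rw [← MonoidHom.mem_ker, QuotientGroup.ker_mk']; exact hbJ
      rw [this, mul_one]
    rw [h1, ← map_pow, ← hk, pow_orderOf_eq_one, map_one]
  have hQperf : Group.IsPerfect (G ⧸ J) :=
    Group.IsPerfect.ofSurjective (f := QuotientGroup.mk' J) (QuotientGroup.mk'_surjective J)
  have hQsolv : Group.IsSolvable (G ⧸ J) := by
    have : Group.IsNilpotent (G ⧸ J) := hQp.isNilpotent
    infer_instance
  by_contra hne
  have hnt : Nontrivial (G ⧸ J) := by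
    by_contra hn
    rw [not_nontrivial_iff_subsingleton] at hn
    exact hne (QuotientGroup.subgroup_eq_top_of_subsingleton _ hn)
  exact Group.IsPerfect.not_isSolvable (G ⧸ J) hQsolv

theorem le_of_pPrime_elements [Finite G] {K H : Subgroup G} (hK : ⁅K, K⁆ = K)
    (h : ∀ k ∈ K, (orderOf k).Coprime p → k ∈ H) : K ≤ H := by
  have hperf : Group.IsPerfect ↥K := Subgroup.isPerfect_iff.2 hK
  have h1 := closure_pPrime_eq_top p hperf
  have h2 : Subgroup.closure {k : ↥K | (orderOf k).Coprime p} ≤ H.subgroupOf K := by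
    rw [Subgroup.closure_le]
    intro k hk
    rw [SetLike.mem_coe, Subgroup.mem_subgroupOf]
    apply h _ k.2
    have hk' : (orderOf k).Coprime p := hk
    rwa [Subgroup.orderOf_coe]
  rw [h1, top_le_iff, Subgroup.subgroupOf_eq_top] at h2
  exact h2

end Perfect

end Cfsg.Agent.Lib.Helper10
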