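import Mathlib
import Cfsg.Prelude.Def_Local
import Cfsg.Agent.Lib.Helper10.LBal5

set_option autoImplicit false

namespace Cfsg.Agent.Lib.Helper10

open Cfsg Cfsg.Agent.Lib.Helper9
open scoped commutatorElement

section RelSN

variable {G : Type*} [Group G]

lemma relSN_restrict {A H N : Subgroup G} (hAH : A ≤ H) (hHN : H ≤ N)
    (hA : (A.subgroupOf N).IsSubnormal) : (A.subgroupOf H).IsSubnormal := by
  have h1 : ((A.subgroupOf N).subgroupOf (H.subgroupOf N)).IsSubnormal := hA.subgroupOf
  have h2 := h1.map (f := (Subgroup.subgroupOfEquivOfLe hHN).toMonoidHom)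
    (Subgroup.subgroupOfEquivOfLe hHN).surjective
  convert h2 using 1
  ext x
  constructor
  · intro hx
    rw [Subgroup.mem_subgroupOf] at hx
    refine ⟨(Subgroup.subgroupOfEquivOfLe hHN).symm x, ?_, by simp⟩
    rw [SetLike.mem_coe, Subgroup.mem_subgroupOf, Subgroup.mem_subgroupOf]
    simpa using hx
  · rintro ⟨y, hy, rfl⟩
    rw [SetLike.mem_coe, Subgroup.mem_subgroupOf, Subgroup.mem_subgroupOf] at hy
    rw [Subgroup.mem_subgroupOf]
    simpa using hy

lemma relSN_trans {A B C : Subgroup G} (hAB : A ≤ B) (hBC : B ≤ C)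
    (h1 : (A.subgroupOf B).IsSubnormal) (h2 : (B.subgroupOf C).IsSubnormal) :
    (A.subgroupOf C).IsSubnormal := by
  have h3 := h1.map (f := (Subgroup.subgroupOfEquivOfLe hBC).symm.toMonoidHom)
    (Subgroup.subgroupOfEquivOfLe hBC).symm.surjective
  have h4 := Subgroup.IsSubnormal.trans' h3 h2
  convert h4 using 1
  ext x
  constructor
  · intro hx
    rw [Subgroup.mem_subgroupOf] at hx
    refine ⟨(Subgroup.subgroupOfEquivOfLe hBC).symm ⟨(x : G), hAB hx⟩,
      ⟨⟨(x : G), hAB hx⟩, ?_, rfl⟩, ?_⟩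
    · rw [SetLike.mem_coe, Subgroup.mem_subgroupOf]; exact hx
    · apply Subtype.ext; simp
  · rintro ⟨y, ⟨z, hz, rfl⟩, rfl⟩
    rw [SetLike.mem_coe, Subgroup.mem_subgroupOf] at hz
    rw [Subgroup.mem_subgroupOf]
    simpa using hz

lemma relSN_of_normal {A B : Subgroup G} (hAB : A ≤ B)
    (hBA : B ≤ Subgroup.normalizer (A : Set G)) : (A.subgroupOf B).IsSubnormal :=
  ((Subgroup.normal_subgroupOf_iff_le_normalizer hAB).2 hBA).isSubnormal

lemma relSN_map {G' : Type*} [Group G'] (f : G →* G') {A N : Subgroup G} (hAN : A ≤ N)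
    (h : (A.subgroupOf N).IsSubnormal) : ((A.map f).subgroupOf (N.map f)).IsSubnormal := by
  have h1 := h.map (f := f.subgroupMap N) (f.subgroupMap_surjective N)
  convert h1 using 1
  ext y
  constructor
  · intro hy
    rw [Subgroup.mem_subgroupOf] at hy
    obtain ⟨a, ha, hay⟩ := hy
    exact ⟨⟨a, hAN ha⟩, Subgroup.mem_subgroupOf.2 ha, Subtype.ext hay⟩
  · rintro ⟨x, hx, rfl⟩
    rw [SetLike.mem_coe, Subgroup.mem_subgroupOf] at hx
    rw [Subgroup.mem_subgroupOf]
    exact ⟨_, hx, rfl⟩

lemma commutator_subgroupOf_self {A N : Subgroup G} (hAN : A ≤ N) (hA : ⁅A, A⁆ = A) :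
    ⁅A.subgroupOf N, A.subgroupOf N⁆ = A.subgroupOf N := by
  apply Subgroup.map_injective N.subtype_injective
  rw [Subgroup.map_commutator, Subgroup.subgroupOf_map_subtype, inf_eq_left.2 hAN, hA]

end RelSN

section CLB

variable {G : Type*} [Group G] (p : ℕ) [hp : Fact p.Prime]

theorem coreOf_normalizer_le_centralizer [Finite G] (R : Subgroup G) (hR : IsPGroup p ↥R) :
    coreOf p (Subgroup.normalizer (R : Set G)) ≤ Subgroup.centralizer (R : Set G) := by
  set Y := Subgroup.normalizer (R : Set G) with hY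
  set W := coreOf p Y with hW
  have hWY : W ≤ Y := coreOf_le p Y
  have hWc : (Nat.card W).Coprime p := coreOf_card_coprime p Y
  have hYW : Y ≤ Subgroup.normalizer (W : Set G) :=
    Subgroup.le_normalizer.trans (coreOf_normalizer_le p Y)
  have hRY : R ≤ Y := Subgroup.le_normalizer
  intro w hw
  rw [Subgroup.mem_centralizer_iff]
  intro r hr
  have h1 : w * r * w⁻¹ * r⁻¹ ∈ R := by
    have := hWY hw
    rw [hY, Subgroup.mem_normalizer_iff] at this
    exact R.mul_mem ((this r).1 hr) (R.inv_mem hr)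
  have h2 : w * r * w⁻¹ * r⁻¹ ∈ W := by
    have := hYW (hRY hr)
    rw [Subgroup.mem_normalizer_iff] at this
    have h3 := (this w⁻¹).1 (W.inv_mem hw)
    have := W.mul_mem hw h3
    have e : w * (r * w⁻¹ * r⁻¹) = w * r * w⁻¹ * r⁻¹ := by group
    rwa [e] at this
  have h4 := eq_one_of_mem_pGroup_of_mem_coprime p hR hWc h1 h2
  have e : r * w = (w * r * w⁻¹ * r⁻¹)⁻¹ * (w * r) := by group
  rw [e, h4, inv_one, one_mul]

theorem pqs_commute_pCore_normalizer [Finite G] (N : Subgroup G) (K : Subgroup ↥N)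
    (hK : IsPQS p K) (D : Subgroup G) (hDN : D ≤ N) (hD : IsPGroup p D)
    (hND : N ≤ Subgroup.normalizer (D : Set G)) :
    K.map N.subtype ≤ Subgroup.centralizer (D : Set G) := by
  have hDn : (D.subgroupOf N).Normal := Subgroup.normal_subgroupOf_of_le_normalizer hND
  have hDp : IsPGroup p (D.subgroupOf N) :=
    hD.comap_of_injective N.subtype N.subtype_injective
  have h1 : D.subgroupOf N ≤ pCore p ↥N := Cfsg.Agent.Lib.Helper1.le_pCore hDn hDp
  have h2 := hK.commutator_pCore p
  rw [Subgroup.commutator_eq_bot_iff_le_centralizer] at h2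
  rintro _ ⟨k, hk, rfl⟩
  rw [Subgroup.mem_centralizer_iff]
  intro d hd
  have h3 := h2 hk
  rw [Subgroup.mem_centralizer_iff] at h3
  have h4 := h3 ⟨d, hDN hd⟩ (h1 (Subgroup.mem_subgroupOf.2 hd))
  exact congrArg Subtype.val h4

theorem pqs_le_centralizer [Finite G] (P : Subgroup G) (hP : IsPGroup p P)
    (K : Subgroup ↥(Subgroup.normalizer (P : Set G))) (hK : IsPQS p K) :
    K.map (Subgroup.normalizer (P : Set G)).subtype ≤ Subgroup.centralizer (P : Set G) :=
  pqs_commute_pCore_normalizer p _ K hK P Subgroup.le_normalizer hP le_rfl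

theorem pqs_le_normalizer_component_of_pCore_le_aux [Finite G] (hO : pPrimeCore p G = ⊥)
    {L : Subgroup G} (hL : IsComponent L) (P : Subgroup G) (hP : IsPGroup p P)
    (hQP : pCore p G ≤ P) (N : Subgroup G) (hN : N = Subgroup.normalizer (P : Set G))
    (K : Subgroup ↥N) (hK : IsPQS p K) :
    K.map N.subtype ≤ Subgroup.normalizer (L : Set G) := by
  have hPN : P ≤ N := by rw [hN]; exact Subgroup.le_normalizer
  have hNP : N ≤ Subgroup.normalizer (P : Set G) := by rw [hN]
  have hKP := pqs_commute_pCore_normalizer p N K hK P hPN hP hNP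
  have hwP : ∀ k ∈ K.map N.subtype, ∀ g ∈ P, k * g = g * k := by
    intro k hk g hg
    have := hKP hk
    rw [Subgroup.mem_centralizer_iff] at this
    exact (this g hg).symm
  have hWL : coreOf p N ≤ Subgroup.normalizer (L : Set G) := by
    apply le_normalizer_component_of_pCore_le p hO hL P hP hQP (coreOf p N)
    · rw [hN]; exact coreOf_normalizer_le_centralizer p P hP
    · exact coreOf_card_coprime p N
    · rw [← hN]; exact Subgroup.le_normalizer.trans (coreOf_normalizer_le p N)
  have hperf : ⁅K.map N.subtype, K.map N.subtype⁆ = K.map N.subtype := by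
    rw [← Subgroup.map_commutator, hK.2.1]
  rcases hK.le_or_commutator_le p ((layer G).subgroupOf N) with h1 | h1
  · have h2 := Subgroup.map_mono (f := N.subtype) h1
    rw [Subgroup.map_sup, Subgroup.subgroupOf_map_subtype] at h2
    refine h2.trans (sup_le ?_ hWL)
    exact inf_le_left.trans (layer_le_normalizer_component hL)
  · have key : ∀ k ∈ K.map N.subtype, ∃ g ∈ P, cj k L = cj g L := by
      intro k hk
      by_contra hne
      push Not at hne
      apply moved_orbit_false p hO hL P hP hQP k (hwP k hk) hne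
      intro x hxM hxN'
      have hxN : x ∈ N := by rw [hN]; exact hxN'
      refine ⟨Nat.card (coreOf p N), coreOf_card_coprime p N, ?_⟩
      obtain ⟨kN, hkN, rfl⟩ := hk
      have hxD : (⟨x, hxN⟩ : ↥N) ∈ (layer G).subgroupOf N :=
        Subgroup.mem_subgroupOf.2 (orbSup_le_layer hL hxM)
      have h3 : ⁅(⟨x, hxN⟩ : ↥N)⁻¹, kN⁆ ∈ ⁅(layer G).subgroupOf N, K⁆ :=
        Subgroup.commutator_mem_commutator (Subgroup.inv_mem _ hxD) hkN
      rw [Subgroup.commutator_comm] at h3
      have h4 := h1 h3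
      have h5 : x⁻¹ * (N.subtype kN * x * (N.subtype kN)⁻¹) ∈ coreOf p N := by
        refine ⟨_, h4, ?_⟩
        simp [commutatorElement_def, mul_assoc]
      have := pow_card_eq_one' (G := ↥(coreOf p N)) (x := ⟨_, h5⟩)
      exact congrArg Subtype.val this
    apply le_of_pPrime_elements p hperf
    intro k hk hko
    exact fixed_orbit_normalizes p P hP k (hwP k hk) (key k hk) hko

theorem pqs_le_normalizer_component_of_pCore_le [Finite G] (hO : pPrimeCore p G = ⊥)
    {L : Subgroup G} (hL : IsComponent L) (P : Subgroup G) (hP : IsPGroup p P)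
    (hQP : pCore p G ≤ P) (K : Subgroup ↥(Subgroup.normalizer (P : Set G))) (hK : IsPQS p K) :
    K.map (Subgroup.normalizer (P : Set G)).subtype ≤ Subgroup.normalizer (L : Set G) :=
  pqs_le_normalizer_component_of_pCore_le_aux p hO hL P hP hQP _ rfl K hK

end CLB

end Cfsg.Agent.Lib.Helper10
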