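import Mathlib
import Cfsg.Prelude.Def_Local
import Cfsg.Agent.Lib.Helper10.LBal6

set_option autoImplicit false

namespace Cfsg.Agent.Lib.Helper10

open Cfsg Cfsg.Agent.Lib.Helper9

section LBal7

variable {G : Type*} [Group G] (p : ℕ)

lemma isQuasisimple_coreQuot_of_equiv {A B : Type*} [Group A] [Group B] (e : A ≃* B)
    (h : IsQuasisimple (A ⧸ pPrimeCore p A)) : IsQuasisimple (B ⧸ pPrimeCore p B) :=
  isQuasisimple_of_mulEquiv (QuotientGroup.congr _ _ e (pPrimeCore_map_equiv p e)) h

theorem isPQS_subgroupOf {K' N : Subgroup G} (hKN : K' ≤ N)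
    (hsn : (K'.subgroupOf N).IsSubnormal) (hperf : ⁅K', K'⁆ = K')
    (hqs : IsQuasisimple (↥K' ⧸ pPrimeCore p ↥K')) : IsPQS p (K'.subgroupOf N) :=
  ⟨hsn, commutator_subgroupOf_self hKN hperf,
    isQuasisimple_coreQuot_of_equiv p (Subgroup.subgroupOfEquivOfLe hKN).symm hqs⟩

lemma normalizer_inf_le (A B : Subgroup G) :
    Subgroup.normalizer (A : Set G) ⊓ Subgroup.normalizer (B : Set G) ≤
      Subgroup.normalizer ((A ⊓ B : Subgroup G) : Set G) := by
  intro n hn
  rw [Subgroup.mem_normalizer_iff]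
  intro x
  have h1 : n ∈ Subgroup.normalizer (A : Set G) := hn.1
  have h2 : n ∈ Subgroup.normalizer (B : Set G) := hn.2
  rw [Subgroup.mem_normalizer_iff] at h1 h2
  rw [Subgroup.mem_inf, Subgroup.mem_inf, h1 x, h2 x]

variable [hp : Fact p.Prime]

theorem pqs_le_centralizer' [Finite G] (P : Subgroup G) (hP : IsPGroup p P) (K' : Subgroup G)
    (hKN : K' ≤ Subgroup.normalizer (P : Set G))
    (hsn : (K'.subgroupOf (Subgroup.normalizer (P : Set G))).IsSubnormal)
    (hperf : ⁅K', K'⁆ = K') (hqs : IsQuasisimple (↥K' ⧸ pPrimeCore p ↥K')) :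
    K' ≤ Subgroup.centralizer (P : Set G) := by
  have h1 := pqs_le_centralizer p P hP _ (isPQS_subgroupOf p hKN hsn hperf hqs)
  rwa [Subgroup.subgroupOf_map_subtype, inf_eq_left.2 hKN] at h1

theorem pqs_le_centralizer_pCore [Finite G] (P : Subgroup G) (hP : IsPGroup p P)
    (K' : Subgroup G) (hKN : K' ≤ Subgroup.normalizer (P : Set G))
    (hsn : (K'.subgroupOf (Subgroup.normalizer (P : Set G))).IsSubnormal)
    (hperf : ⁅K', K'⁆ = K') (hqs : IsQuasisimple (↥K' ⧸ pPrimeCore p ↥K')) :
    K' ≤ Subgroup.centralizer ((pCore p G : Subgroup G) : Set G) := by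
  have hU : IsPGroup p (pCore p G) := Cfsg.Agent.Lib.Helper1.pCore_isPGroup p
  have hKP := pqs_le_centralizer' p P hP K' hKN hsn hperf hqs
  have hD : K' ≤ Subgroup.centralizer
      ((pCore p G ⊓ Subgroup.centralizer (P : Set G) : Subgroup G) : Set G) := by
    have h1 := pqs_commute_pCore_normalizer p _ _ (isPQS_subgroupOf p hKN hsn hperf hqs)
      (pCore p G ⊓ Subgroup.centralizer (P : Set G))
      (inf_le_right.trans (Subgroup.centralizer_le_normalizer _)) (hU.to_le inf_le_left)
      (by
        refine le_trans ?_ (normalizer_inf_le _ _)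
        apply le_inf
        · have : Subgroup.normalizer ((pCore p G : Subgroup G) : Set G) = ⊤ :=
            Subgroup.normalizer_eq_top _
          rw [this]; exact le_top
        · exact normalizer_le_normalizer_centralizer P)
    rwa [Subgroup.subgroupOf_map_subtype, inf_eq_left.2 hKN] at h1
  apply le_of_pPrime_elements p hperf
  intro k hk hko
  have hVc : (Nat.card (Subgroup.zpowers k)).Coprime p := by
    rw [Nat.card_zpowers]; exact hko
  have h2 := Cfsg.Agent.S0028.result p P (Subgroup.zpowers k) (pCore p G) hP hVc hU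
    (by
      rw [Subgroup.le_centralizer_iff, Subgroup.zpowers_le]
      exact hKP hk)
    (by rw [Subgroup.normalizer_eq_top]; exact le_top)
    (by rw [Subgroup.normalizer_eq_top]; exact le_top)
    (by
      rw [Subgroup.le_centralizer_iff, Subgroup.zpowers_le]
      exact hD hk)
  exact h2 (Subgroup.mem_zpowers k)

theorem pqs_le_normalizer_component [Finite G] (hO : pPrimeCore p G = ⊥)
    {L : Subgroup G} (hL : IsComponent L) (P : Subgroup G) (hP : IsPGroup p P)
    (K' : Subgroup G) (hKN : K' ≤ Subgroup.normalizer (P : Set G))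
    (hsn : (K'.subgroupOf (Subgroup.normalizer (P : Set G))).IsSubnormal)
    (hperf : ⁅K', K'⁆ = K') (hqs : IsQuasisimple (↥K' ⧸ pPrimeCore p ↥K')) :
    K' ≤ Subgroup.normalizer (L : Set G) := by
  have hU : IsPGroup p (pCore p G) := Cfsg.Agent.Lib.Helper1.pCore_isPGroup p
  have hKP := pqs_le_centralizer' p P hP K' hKN hsn hperf hqs
  have hKQ := pqs_le_centralizer_pCore p P hP K' hKN hsn hperf hqs
  set Ps : Subgroup G := P ⊔ pCore p G with hPs
  have hPsP : IsPGroup p Ps := IsPGroup.to_sup_of_normal_right hP hU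
  have hCle : Subgroup.centralizer (Ps : Set G) ≤ Subgroup.centralizer (P : Set G) :=
    Subgroup.centralizer_le (by exact_mod_cast (le_sup_left : P ≤ Ps))
  have hKC : K' ≤ Subgroup.centralizer (Ps : Set G) := by
    rw [Subgroup.le_centralizer_iff, hPs]
    apply sup_le
    · rw [Subgroup.le_centralizer_iff]; exact hKP
    · rw [Subgroup.le_centralizer_iff]; exact hKQ
  have hCN : Subgroup.centralizer (Ps : Set G) ≤ Subgroup.normalizer (Ps : Set G) :=
    Subgroup.centralizer_le_normalizer _
  have h1 : (K'.subgroupOf (Subgroup.centralizer (Ps : Set G))).IsSubnormal :=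
    relSN_restrict hKC (hCle.trans (Subgroup.centralizer_le_normalizer _)) hsn
  have h2 : ((Subgroup.centralizer (Ps : Set G)).subgroupOf
      (Subgroup.normalizer (Ps : Set G))).IsSubnormal :=
    relSN_of_normal hCN (normalizer_le_normalizer_centralizer Ps)
  have h3 : (K'.subgroupOf (Subgroup.normalizer (Ps : Set G))).IsSubnormal :=
    relSN_trans hKC hCN h1 h2
  have hKN' : K' ≤ Subgroup.normalizer (Ps : Set G) := hKC.trans hCN
  have h4 := pqs_le_normalizer_component_of_pCore_le p hO hL Ps hPsP le_sup_right _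
    (isPQS_subgroupOf p hKN' h3 hperf hqs)
  rwa [Subgroup.subgroupOf_map_subtype, inf_eq_left.2 hKN'] at h4

end LBal7

end Cfsg.Agent.Lib.Helper10
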