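import Mathlib
import Cfsg.Prelude.Def_Transfer
import Cfsg.Agent.Lib.Helper10.SubgroupBasic

set_option autoImplicit false

namespace Cfsg.Agent.Lib.Helper10

open Cfsg

section Hyperplane

variable {H : Type*} [Group H] (p : ℕ) [hp : Fact p.Prime]

lemma elemAb_commute {A : Subgroup H} (hA : IsElementaryAbelian p A) {a b : H} (ha : a ∈ A)
    (hb : b ∈ A) : a * b = b * a := by
  have h1 : (⟨a, ha⟩ : ↥A) * ⟨b, hb⟩ = ⟨b, hb⟩ * ⟨a, ha⟩ := hA.1.is_comm.comm _ _
  exact congrArg Subtype.val h1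

lemma elemAb_le_normalizer {A B C : Subgroup H} (hA : IsElementaryAbelian p A) (hB : B ≤ A)
    (hC : C ≤ A) : C ≤ Subgroup.normalizer (B : Set H) :=
  le_normalizer_of_commute B C (fun b hb c hc => elemAb_commute p hA (hB hb) (hC hc))

lemma elemAb_mono {A B : Subgroup H} (hA : IsElementaryAbelian p A) (hB : B ≤ A) :
    IsElementaryAbelian p B := by
  refine ⟨⟨⟨fun a b => ?_⟩⟩, fun b hb => hA.2 b (hB hb)⟩
  exact Subtype.ext (elemAb_commute p hA (hB a.2) (hB b.2))

lemma elemAb_orderOf {A : Subgroup H} (hA : IsElementaryAbelian p A) {a : H} (ha : a ∈ A)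
    (ha1 : a ≠ 1) : orderOf a = p := by
  have h1 : orderOf a ∣ p := orderOf_dvd_of_pow_eq_one (hA.2 a ha)
  rcases (Nat.dvd_prime hp.out).1 h1 with h | h
  · exact absurd (orderOf_eq_one_iff.1 h) ha1
  · exact h

lemma elemAb_isPGroup {A : Subgroup H} (hA : IsElementaryAbelian p A) : IsPGroup p A := by
  intro a
  refine ⟨1, ?_⟩
  rw [pow_one]
  exact Subtype.ext (hA.2 a a.2)

theorem exists_hyperplane_avoiding [Finite H] {A : Subgroup H} (hA : IsElementaryAbelian p A)
    {a : H} (ha : a ∈ A) (ha1 : a ≠ 1) :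
    ∃ B : Subgroup H, B ≤ A ∧ a ∉ B ∧ B ⊔ Subgroup.zpowers a = A ∧ Nat.card A = Nat.card B * p := by
  have hne : {B : Subgroup H | B ≤ A ∧ a ∉ B}.Nonempty :=
    ⟨⊥, bot_le, fun h => ha1 (Subgroup.mem_bot.1 h)⟩
  obtain ⟨B, ⟨hBA, haB⟩, hmax⟩ := WellFounded.has_min
    (wellFounded_gt : WellFounded ((· > ·) : Subgroup H → Subgroup H → Prop)) _ hne
  have hza : Subgroup.zpowers a ≤ A := by rw [Subgroup.zpowers_le]; exact ha
  have hsup : B ⊔ Subgroup.zpowers a = A := by
    apply le_antisymm (sup_le hBA hza)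
    intro b hb
    by_contra hbn
    have hbB : b ∉ B := fun h => hbn (Subgroup.mem_sup_left h)
    have hzb : Subgroup.zpowers b ≤ A := by rw [Subgroup.zpowers_le]; exact hb
    have hlt : B < B ⊔ Subgroup.zpowers b := by
      apply lt_of_le_of_ne le_sup_left
      intro h
      apply hbB
      rw [h]
      exact Subgroup.mem_sup_right (Subgroup.mem_zpowers b)
    have haB' : a ∈ B ⊔ Subgroup.zpowers b := by
      by_contra h
      exact hmax _ ⟨sup_le hBA hzb, h⟩ hlt
    obtain ⟨c, hc, d, hd, hcd⟩ := exists_mul_of_mem_sup B (Subgroup.zpowers b)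
      (elemAb_le_normalizer p hA hBA hzb) a haB'
    rw [← mem_powers_iff_mem_zpowers] at hd
    obtain ⟨n, hn'⟩ := hd
    have hn'' : b ^ n = d := hn'
    subst hn''
    have hb1 : b ≠ 1 := fun h => hbB (h ▸ B.one_mem)
    have hob : orderOf b = p := elemAb_orderOf p hA hb hb1
    have hn : ¬ p ∣ n := by
      intro hdvd
      apply haB
      have : b ^ n = 1 := by
        rw [← hob] at hdvd
        exact orderOf_dvd_iff_pow_eq_one.1 hdvd
      rw [hcd, this, mul_one]; exact hc
    have hcop : n.Coprime (orderOf b) := by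
      rw [hob]
      exact ((Nat.Prime.coprime_iff_not_dvd hp.out).2 hn).symm
    obtain ⟨m, hm⟩ := exists_pow_eq_self_of_coprime hcop
    have h1 : b ^ n ∈ B ⊔ Subgroup.zpowers a := by
      have e : b ^ n = c⁻¹ * a := by rw [hcd]; group
      rw [e]
      exact Subgroup.mul_mem _ (Subgroup.mem_sup_left (B.inv_mem hc))
        (Subgroup.mem_sup_right (Subgroup.mem_zpowers a))
    apply hbn
    rw [← hm]
    exact Subgroup.pow_mem _ h1 m
  refine ⟨B, hBA, haB, hsup, ?_⟩
  have hinf : B ⊓ Subgroup.zpowers a = ⊥ := by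
    rw [eq_bot_iff]
    intro x hx
    rw [Subgroup.mem_bot]
    by_contra hx1
    apply haB
    have hxA : x ∈ A := hBA hx.1
    have hox : orderOf x = p := elemAb_orderOf p hA hxA hx1
    have hoa : orderOf a = p := elemAb_orderOf p hA ha ha1
    have h2 : Subgroup.zpowers x = Subgroup.zpowers a := by
      apply Subgroup.eq_of_le_of_card_ge
      · rw [Subgroup.zpowers_le]; exact hx.2
      · rw [Nat.card_zpowers, Nat.card_zpowers, hox, hoa]
    have h3 : a ∈ Subgroup.zpowers x := by rw [h2]; exact Subgroup.mem_zpowers a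
    exact (Subgroup.zpowers_le.2 hx.1) h3
  have hcard := card_sup_of_inf_eq_bot B (Subgroup.zpowers a)
    (elemAb_le_normalizer p hA hBA hza) hinf
  rw [hsup, Nat.card_zpowers, elemAb_orderOf p hA ha ha1] at hcard
  exact hcard

end Hyperplane

end Cfsg.Agent.Lib.Helper10
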