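import Mathlib
import Cfsg.Prelude.Def_Local
import Cfsg.Agent.Lib.Helper10.LBal7

set_option autoImplicit false

namespace Cfsg.Agent.Lib.Helper10

open Cfsg Cfsg.Agent.Lib.Helper9

section LBal8

variable {G : Type*} [Group G] (p : ℕ) [hp : Fact p.Prime]

theorem isPComponent_map_subtype_data [Finite G] (N : Subgroup G) (K : Subgroup ↥N)
    (hK : IsPComponent p K) :
    K.map N.subtype ≤ N ∧ ((K.map N.subtype).subgroupOf N).IsSubnormal ∧
      ⁅K.map N.subtype, K.map N.subtype⁆ = K.map N.subtype ∧
      IsQuasisimple (↥(K.map N.subtype) ⧸ pPrimeCore p ↥(K.map N.subtype)) := by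
  refine ⟨Subgroup.map_subtype_le K, ?_, ?_, ?_⟩
  · have : (K.map N.subtype).subgroupOf N = K :=
      Subgroup.comap_map_eq_self_of_injective N.subtype_injective K
    rw [this]; exact hK.1
  · rw [← Subgroup.map_commutator, isPComponent_perfect p hK]
  · exact isQuasisimple_coreQuot_of_equiv p
      (K.equivMapOfInjective N.subtype N.subtype_injective)
      (isPComponent_quotient_isQuasisimple p hK)

theorem isPComponent_local_le_normalizer [Finite G] (hO : pPrimeCore p G = ⊥)
    {L : Subgroup G} (hL : IsComponent L) (P : Subgroup G) (hP : IsPGroup p P)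
    (K : Subgroup ↥(Subgroup.normalizer (P : Set G))) (hK : IsPComponent p K) :
    K.map (Subgroup.normalizer (P : Set G)).subtype ≤ Subgroup.normalizer (L : Set G) := by
  obtain ⟨h1, h2, h3, h4⟩ := isPComponent_map_subtype_data p _ K hK
  exact pqs_le_normalizer_component p hO hL P hP _ h1 h2 h3 h4

theorem isPComponent_local_le_centralizer_pCore [Finite G] (P : Subgroup G) (hP : IsPGroup p P)
    (K : Subgroup ↥(Subgroup.normalizer (P : Set G))) (hK : IsPComponent p K) :
    K.map (Subgroup.normalizer (P : Set G)).subtype ≤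
      Subgroup.centralizer ((pCore p G : Subgroup G) : Set G) := by
  obtain ⟨h1, h2, h3, h4⟩ := isPComponent_map_subtype_data p _ K hK
  exact pqs_le_centralizer_pCore p P hP _ h1 h2 h3 h4

theorem coreOf_normalizer_le_normalizer_component [Finite G] (hO : pPrimeCore p G = ⊥)
    {L : Subgroup G} (hL : IsComponent L) (P : Subgroup G) (hP : IsPGroup p P) :
    coreOf p (Subgroup.normalizer (P : Set G)) ≤ Subgroup.normalizer (L : Set G) :=
  le_normalizer_component_of_centralizer p hO hL P hP _
    (coreOf_normalizer_le_centralizer p P hP) (coreOf_card_coprime p _)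
    ((Subgroup.centralizer_le_normalizer _).trans
      (Subgroup.le_normalizer.trans (coreOf_normalizer_le p _)))

theorem comap_layer_quotient_eq [Finite G] :
    (layer (G ⧸ pPrimeCore p G)).comap (QuotientGroup.mk' (pPrimeCore p G)) =
      pLayer p G ⊔ pPrimeCore p G := by
  rw [← map_pLayer p, Subgroup.comap_map_eq, QuotientGroup.ker_mk']

theorem pLayer_local_le_normalizer [Finite G] (hO : pPrimeCore p G = ⊥)
    {L : Subgroup G} (hL : IsComponent L) (P : Subgroup G) (hP : IsPGroup p P) :
    (pLayer p ↥(Subgroup.normalizer (P : Set G))).map (Subgroup.normalizer (P : Set G)).subtype ≤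
      Subgroup.normalizer (L : Set G) := by
  rw [Subgroup.map_le_iff_le_comap]
  apply sSup_le
  intro K hK
  rw [← Subgroup.map_le_iff_le_comap]
  exact isPComponent_local_le_normalizer p hO hL P hP K hK

end LBal8

end Cfsg.Agent.Lib.Helper10
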