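import Mathlib
import Cfsg.Prelude.Def_Local
import Cfsg.Prelude.Def_KGroupFacts
import Cfsg.Agent.Lib.Helper10.LBal8
import Cfsg.Agent.S1265

set_option autoImplicit false

namespace Cfsg.Agent.Lib.Helper10

open Cfsg Cfsg.Agent.Lib.Helper9
open scoped commutatorElement

section OutAction

def autQuotCenter (A : Type*) [Group A] : MulAut A →* MulAut (A ⧸ Subgroup.center A) where
  toFun e := QuotientGroup.congr (Subgroup.center A) (Subgroup.center A) e (map_center_mulEquiv e)
  map_one' := by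
    ext q
    induction q using QuotientGroup.induction_on with
    | H x => rfl
  map_mul' e₁ e₂ := by
    ext q
    induction q using QuotientGroup.induction_on with
    | H x => rfl

lemma autQuotCenter_apply_mk (A : Type*) [Group A] (e : MulAut A) (x : A) :
    autQuotCenter A e (QuotientGroup.mk x) = QuotientGroup.mk (e x) := rfl

variable {G : Type*} [Group G]

def outHom (L : Subgroup G) :
    ↥(Subgroup.normalizer (L : Set G)) →* Out (↥L ⧸ Subgroup.center ↥L) :=
  (QuotientGroup.mk' (Inn (↥L ⧸ Subgroup.center ↥L))).comp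
    ((autQuotCenter ↥L).comp L.normalizerMonoidHom)

lemma autQuot_normalizerHom_of_mem (L : Subgroup G) (l : G) (hl : l ∈ L) :
    autQuotCenter ↥L (L.normalizerMonoidHom ⟨l, Subgroup.le_normalizer hl⟩) =
      MulAut.conj (QuotientGroup.mk (⟨l, hl⟩ : ↥L)) := by
  ext q
  induction q using QuotientGroup.induction_on with
  | H x =>
    rw [autQuotCenter_apply_mk, MulAut.conj_apply, ← QuotientGroup.mk_inv, ← QuotientGroup.mk_mul,
      ← QuotientGroup.mk_mul]
    rfl

lemma mem_centralizer_of_autQuot_eq_one (L : Subgroup G) (hL : ⁅L, L⁆ = L)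
    (n : ↥(Subgroup.normalizer (L : Set G)))
    (hn : autQuotCenter ↥L (L.normalizerMonoidHom n) = 1) :
    (n : G) ∈ Subgroup.centralizer (L : Set G) := by
  set f : ↥(Subgroup.normalizer (L : Set G)) →* MulAut (↥L ⧸ Subgroup.center ↥L) :=
    (autQuotCenter ↥L).comp L.normalizerMonoidHom with hf
  set T' : Subgroup G := f.ker.map (Subgroup.normalizer (L : Set G)).subtype with hT'
  have key : ⁅T', L⁆ ≤ Subgroup.centralizer (L : Set G) := by
    rw [Subgroup.commutator_le]
    rintro _ ⟨t, ht, rfl⟩ x hx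
    have ht' : f t = 1 := ht
    have h1 : f t (QuotientGroup.mk (⟨x, hx⟩ : ↥L)) = QuotientGroup.mk (⟨x, hx⟩ : ↥L) := by
      rw [ht']; rfl
    have h2 : f t (QuotientGroup.mk (⟨x, hx⟩ : ↥L)) =
        QuotientGroup.mk (L.normalizerMonoidHom t ⟨x, hx⟩) := rfl
    rw [h2, QuotientGroup.eq] at h1
    rw [Subgroup.mem_center_iff] at h1
    rw [Subgroup.mem_centralizer_iff]
    intro y hy
    have h3 := h1 ⟨x⁻¹ * y * x, L.mul_mem (L.mul_mem (L.inv_mem hx) hy) hx⟩
    have h4 := congrArg Subtype.val h3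
    simp only [Subgroup.coe_mul, Subgroup.coe_inv, Subgroup.normalizerMonoidHom_apply_apply_coe]
      at h4
    simp only [Subgroup.coe_subtype, commutatorElement_def]
    have e3 : ∀ a b : G, a * b = b * a → a * b⁻¹ = b⁻¹ * a := by
      intro a b hab
      calc a * b⁻¹ = b⁻¹ * (b * a) * b⁻¹ := by group
        _ = b⁻¹ * (a * b) * b⁻¹ := by rw [hab]
        _ = b⁻¹ * a := by group
    have h5 := e3 _ _ h4
    have e1 : y * ((t : G) * x * (t : G)⁻¹ * x⁻¹) =
        x * ((x⁻¹ * y * x) * (((t : G) * x * (t : G)⁻¹)⁻¹ * x)⁻¹) * x⁻¹ := by group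
    have e2 : (t : G) * x * (t : G)⁻¹ * x⁻¹ * y =
        x * ((((t : G) * x * (t : G)⁻¹)⁻¹ * x)⁻¹ * (x⁻¹ * y * x)) * x⁻¹ := by group
    rw [e1, e2, h5]
  have h1 : ⁅⁅L, T'⁆, L⁆ = ⊥ := by
    rw [Subgroup.commutator_eq_bot_iff_le_centralizer, Subgroup.commutator_comm]
    exact key
  have h2 : ⁅⁅T', L⁆, L⁆ = ⊥ := by
    rw [Subgroup.commutator_eq_bot_iff_le_centralizer]
    exact key
  have h3 := Subgroup.commutator_commutator_eq_bot_of_rotate h1 h2
  rw [hL, Subgroup.commutator_comm, Subgroup.commutator_eq_bot_iff_le_centralizer] at h3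
  exact h3 ⟨n, hn, rfl⟩

theorem mem_sup_centralizer_of_outHom_eq_one (L : Subgroup G) (hL : ⁅L, L⁆ = L)
    (n : ↥(Subgroup.normalizer (L : Set G))) (hn : outHom L n = 1) :
    (n : G) ∈ L ⊔ Subgroup.centralizer (L : Set G) := by
  rw [outHom, MonoidHom.comp_apply, ← MonoidHom.mem_ker, QuotientGroup.ker_mk'] at hn
  obtain ⟨q, hq⟩ := hn
  obtain ⟨l, rfl⟩ := QuotientGroup.mk_surjective q
  have h1 := autQuot_normalizerHom_of_mem L (l : G) l.2
  have h2 : autQuotCenter ↥L (L.normalizerMonoidHom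
      ((⟨(l : G), Subgroup.le_normalizer l.2⟩ : ↥(Subgroup.normalizer (L : Set G)))⁻¹ * n)) = 1 := by
    rw [map_mul, map_mul, map_inv, map_inv, h1]
    have hq' : MulAut.conj (QuotientGroup.mk l : ↥L ⧸ Subgroup.center ↥L) =
        (autQuotCenter ↥L) (L.normalizerMonoidHom n) := hq
    rw [← hq']
    have : (⟨(l : G), l.2⟩ : ↥L) = l := rfl
    rw [this, inv_mul_cancel]
  have h3 := mem_centralizer_of_autQuot_eq_one L hL _ h2
  have h4 : (n : G) = (l : G) * ((l : G)⁻¹ * (n : G)) := by group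
  rw [h4]
  exact Subgroup.mul_mem _ (Subgroup.mem_sup_left l.2) (Subgroup.mem_sup_right h3)

end OutAction

end Cfsg.Agent.Lib.Helper10
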