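import Mathlib
import Cfsg.Prelude.Def_Local
import Cfsg.Prelude.Def_KGroupFacts
import Cfsg.Agent.Lib.Helper10.LBal9

set_option autoImplicit false

namespace Cfsg.Agent.Lib.Helper10

open Cfsg Cfsg.Agent.Lib.Helper9
open scoped commutatorElement

section Schreier

lemma eq_one_of_perfect_of_solvable {H S : Type*} [Group H] [Group S]
    (hH : Group.IsPerfect H) [hS : Group.IsSolvable S] (f : H →* S) (h : H) : f h = 1 := by
  have hperf : Group.IsPerfect ↥f.range :=
    Group.IsPerfect.ofSurjective (f := f.rangeRestrict) f.rangeRestrict_surjective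
  have hsolv : Group.IsSolvable ↥f.range := inferInstance
  have hss : Subsingleton ↥f.range := by
    by_contra hn
    rw [not_subsingleton_iff_nontrivial] at hn
    exact Group.IsPerfect.not_isSolvable ↥f.range hsolv
  have h1 : (⟨f h, ⟨h, rfl⟩⟩ : ↥f.range) = 1 := Subsingleton.elim _ _
  exact congrArg Subtype.val h1

variable {G : Type*} [Group G]

theorem le_sup_centralizer_of_schreier {K L : Subgroup G} (hK : ⁅K, K⁆ = K) (hL : ⁅L, L⁆ = L)
    (hKL : K ≤ Subgroup.normalizer (L : Set G))
    (hS : Group.IsSolvable (Out (↥L ⧸ Subgroup.center ↥L))) :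
    K ≤ L ⊔ Subgroup.centralizer (L : Set G) := by
  have hperf : Group.IsPerfect ↥K := Subgroup.isPerfect_iff.2 hK
  intro k hk
  have h1 := eq_one_of_perfect_of_solvable hperf ((outHom L).comp (Subgroup.inclusion hKL)) ⟨k, hk⟩
  exact mem_sup_centralizer_of_outHom_eq_one L hL ⟨k, hKL hk⟩ h1

lemma layer_le_sup_centralizer [Finite G] {L₀ : Subgroup G} (hL₀ : IsComponent L₀) :
    layer G ≤ L₀ ⊔ Subgroup.centralizer (L₀ : Set G) := by
  apply sSup_le
  intro L hL
  by_cases h : L = L₀
  · rw [h]; exact le_sup_left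
  · have h1 := Cfsg.Agent.S1263.distinct_components_commute hL hL₀ h
    rw [Subgroup.commutator_eq_bot_iff_le_centralizer] at h1
    exact h1.trans le_sup_right

theorem le_layer_sup_centralizer [Finite G] {K : Subgroup G}
    (h : ∀ L : Subgroup G, IsComponent L → K ≤ L ⊔ Subgroup.centralizer (L : Set G)) :
    K ≤ layer G ⊔ Subgroup.centralizer ((layer G : Subgroup G) : Set G) := by
  classical
  have key : ∀ S : Finset (Subgroup G), (∀ L ∈ S, IsComponent L) → ∀ k ∈ K,
      ∃ e ∈ layer G, ∀ L ∈ S, k * e ∈ Subgroup.centralizer (L : Set G) := by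
    intro S
    induction S using Finset.induction_on with
    | empty =>
      intro _ k _
      exact ⟨1, Subgroup.one_mem _, by simp⟩
    | insert L₀ S hL₀ ih =>
      intro hS k hk
      obtain ⟨e, he, hke⟩ := ih (fun L hL => hS L (Finset.mem_insert_of_mem hL)) k hk
      have hL₀c := hS L₀ (Finset.mem_insert_self _ _)
      have h1 : k * e ∈ L₀ ⊔ Subgroup.centralizer (L₀ : Set G) :=
        Subgroup.mul_mem _ (h L₀ hL₀c hk) (layer_le_sup_centralizer hL₀c he)
      obtain ⟨l, hl, c, hc, hlc⟩ := exists_mul_of_mem_sup L₀ (Subgroup.centralizer (L₀ : Set G))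
        (Subgroup.centralizer_le_normalizer _) (k * e) h1
      refine ⟨e * l⁻¹, Subgroup.mul_mem _ he
        (Subgroup.inv_mem _ (component_le_layer hL₀c hl)), ?_⟩
      intro L hL
      rw [Finset.mem_insert] at hL
      have e1 : k * (e * l⁻¹) = (k * e) * l⁻¹ := by group
      rcases hL with rfl | hL
      · rw [e1, hlc]
        have h2 := normalizer_le_normalizer_centralizer L (Subgroup.le_normalizer hl)
        rw [Subgroup.mem_normalizer_iff] at h2
        exact (h2 c).1 hc
      · have hne : L₀ ≠ L := fun h => hL₀ (h ▸ hL)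
        have h2 := Cfsg.Agent.S1263.distinct_components_commute hL₀c (hS L (Finset.mem_insert_of_mem hL)) hne
        rw [Subgroup.commutator_eq_bot_iff_le_centralizer] at h2
        rw [e1]
        exact Subgroup.mul_mem _ (hke L hL) (Subgroup.inv_mem _ (h2 hl))
  intro k hk
  have hfin : {L : Subgroup G | IsComponent L}.Finite := Set.toFinite _
  obtain ⟨e, he, hke⟩ := key hfin.toFinset (fun L hL => by simpa using hL) k hk
  have h1 : k * e ∈ Subgroup.centralizer ((layer G : Subgroup G) : Set G) := by
    have : Subgroup.zpowers (k * e) ≤ Subgroup.centralizer ((layer G : Subgroup G) : Set G) := by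
      rw [Subgroup.le_centralizer_iff]
      apply sSup_le
      intro L hL
      rw [← Subgroup.le_centralizer_iff, Subgroup.zpowers_le]
      exact hke L (by simpa using hL)
    exact this (Subgroup.mem_zpowers _)
  have e2 : k = (k * e) * e⁻¹ := by group
  rw [e2]
  exact Subgroup.mul_mem _ (Subgroup.mem_sup_right h1)
    (Subgroup.mem_sup_left (Subgroup.inv_mem _ he))

theorem le_layer_of_le_sup_centralizer [Finite G] {K : Subgroup G} (hK : ⁅K, K⁆ = K)
    (h1 : K ≤ layer G ⊔ Subgroup.centralizer ((layer G : Subgroup G) : Set G))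
    (h2 : K ≤ Subgroup.centralizer ((fittingSubgroup G : Subgroup G) : Set G)) :
    K ≤ layer G := by
  set A : Subgroup G := Subgroup.centralizer ((layer G : Subgroup G) : Set G) ⊓
    Subgroup.centralizer ((fittingSubgroup G : Subgroup G) : Set G) with hA
  have hEF : layer G ≤ Subgroup.centralizer ((fittingSubgroup G : Subgroup G) : Set G) := by
    rw [← Subgroup.commutator_eq_bot_iff_le_centralizer]
    exact commutator_layer_fitting
  have hKA : K ≤ layer G ⊔ A := by
    intro k hk
    obtain ⟨e, he, c, hc, rfl⟩ := exists_mul_of_mem_sup (layer G) _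
      (Subgroup.centralizer_le_normalizer _) k (h1 hk)
    refine Subgroup.mul_mem _ (Subgroup.mem_sup_left he) (Subgroup.mem_sup_right ⟨hc, ?_⟩)
    have h3 := Subgroup.mul_mem _ (Subgroup.inv_mem _ (hEF he)) (h2 hk)
    rwa [inv_mul_cancel_left] at h3
  have hAc : A ≤ Subgroup.centralizer ((generalizedFittingSubgroup G : Subgroup G) : Set G) := by
    rw [Subgroup.le_centralizer_iff, generalizedFittingSubgroup]
    apply sup_le
    · rw [Subgroup.le_centralizer_iff]; exact inf_le_left
    · rw [Subgroup.le_centralizer_iff]; exact inf_le_right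
  have hAF : A ≤ generalizedFittingSubgroup G := hAc.trans Cfsg.Agent.S1265.result
  have hAA : ⁅A, A⁆ = ⊥ := by
    rw [Subgroup.commutator_eq_bot_iff_le_centralizer]
    exact hAc.trans (Subgroup.centralizer_le (by exact_mod_cast hAF))
  have hEA : ⁅layer G, A⁆ = ⊥ := by
    rw [Subgroup.commutator_eq_bot_iff_le_centralizer, Subgroup.le_centralizer_iff]
    exact inf_le_left
  have h3 : ⁅K, K⁆ ≤ ⁅layer G ⊔ A, layer G ⊔ A⁆ := Subgroup.commutator_mono hKA hKA
  rw [hK] at h3
  refine h3.trans ((commutator_sup_le_of_commutator_eq_bot hEA).trans ?_)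
  rw [hAA, sup_bot_eq]
  exact Subgroup.commutator_le_self _

end Schreier

end Cfsg.Agent.Lib.Helper10
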