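import Mathlib
import Cfsg.Prelude.Def_Local
import Cfsg.Prelude.Def_KGroupFacts
import Cfsg.Agent.Lib.Helper10.LBal10
import Cfsg.Agent.Lib.Lead.Coprime

set_option autoImplicit false

namespace Cfsg.Agent.Lib.Helper10

open Cfsg Cfsg.Agent.Lib.Helper9
open scoped Pointwise

section LBal11

variable {G : Type*} [Group G] (p : ℕ) [hp : Fact p.Prime]

theorem map_normalizer_eq_of_coprime [Finite G] (N : Subgroup G) [N.Normal]
    (hNc : (Nat.card N).Coprime p) (R : Subgroup G) (hR : IsPGroup p R) :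
    (Subgroup.normalizer (R : Set G)).map (QuotientGroup.mk' N) =
      Subgroup.normalizer ((R.map (QuotientGroup.mk' N) : Subgroup (G ⧸ N)) : Set (G ⧸ N)) := by
  apply le_antisymm (Subgroup.le_normalizer_map _)
  intro xb hxb
  obtain ⟨x, rfl⟩ := QuotientGroup.mk'_surjective N xb
  have hcop : (Nat.card R).Coprime (Nat.card N) := by
    obtain ⟨k, hk⟩ := (IsPGroup.iff_card.1 hR)
    rw [hk]
    exact Nat.Coprime.pow_left k (Nat.Coprime.symm hNc)
  have hsolv : Group.IsSolvable R ∨ Group.IsSolvable N := by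
    left
    have : Group.IsNilpotent R := hR.isNilpotent
    infer_instance
  have hRN : R ≤ Subgroup.normalizer (N : Set G) := by
    rw [Subgroup.normalizer_eq_top]; exact le_top
  have hB : MulAut.conj x⁻¹ • R ≤ R ⊔ N := by
    intro b hb
    rw [Subgroup.mem_pointwise_smul_iff_inv_smul_mem] at hb
    simp only [MulAut.smul_def, MulAut.conj_inv_apply, inv_inv] at hb
    have h1 : (QuotientGroup.mk' N) (x * b * x⁻¹) ∈ R.map (QuotientGroup.mk' N) := ⟨_, hb, rfl⟩
    have hxinv := Subgroup.inv_mem _ hxb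
    rw [Subgroup.mem_normalizer_iff] at hxinv
    have h2 := (hxinv _).1 h1
    have h3 : ((QuotientGroup.mk' N) x)⁻¹ * (QuotientGroup.mk' N) (x * b * x⁻¹) *
        ((QuotientGroup.mk' N) x)⁻¹⁻¹ = (QuotientGroup.mk' N) b := by
      rw [← map_inv, ← map_inv, ← map_mul, ← map_mul]
      congr 1
      group
    rw [h3] at h2
    obtain ⟨r, hr, hrb⟩ := h2
    have h4 : r⁻¹ * b ∈ N := by
      rw [← QuotientGroup.ker_mk' N, MonoidHom.mem_ker, map_mul, map_inv, hrb, inv_mul_cancel]
    have e : b = r * (r⁻¹ * b) := by group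
    rw [e]
    exact Subgroup.mul_mem _ (Subgroup.mem_sup_left hr) (Subgroup.mem_sup_right h4)
  obtain ⟨d, hd, hdA⟩ := Cfsg.Agent.Lib.Lead.hall_conj R N hRN hcop hsolv (MulAut.conj x⁻¹ • R) hB
    (Cfsg.Agent.S0001.card_conj R x⁻¹)
  have hc : MulAut.conj (x * d) • R = R := by
    rw [map_mul, mul_smul, hdA, ← mul_smul, ← map_mul, mul_inv_cancel, map_one, one_smul]
  refine ⟨x * d, ?_, ?_⟩
  · rw [SetLike.mem_coe, Subgroup.mem_normalizer_iff]
    intro r
    have h5 : ∀ y, y ∈ MulAut.conj (x * d) • R ↔ (x * d)⁻¹ * y * (x * d) ∈ R := by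
      intro y
      rw [Subgroup.mem_pointwise_smul_iff_inv_smul_mem]
      simp only [MulAut.smul_def, MulAut.conj_inv_apply]
    have h6 := h5 ((x * d) * r * (x * d)⁻¹)
    rw [hc] at h6
    rw [h6]
    have e : (x * d)⁻¹ * (x * d * r * (x * d)⁻¹) * (x * d) = r := by group
    rw [e]
  · rw [map_mul]
    have : (QuotientGroup.mk' N) d = 1 := by
      rw [← MonoidHom.mem_ker, QuotientGroup.ker_mk']; exact hd
    rw [this, mul_one]

theorem isQuasisimple_coreQuot_of_surjective {A B : Type*} [Group A] [Group B] [Finite A]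
    [Finite B] (φ : A →* B) (hφ : Function.Surjective φ) (hker : (Nat.card φ.ker).Coprime p)
    (h : IsQuasisimple (A ⧸ pPrimeCore p A)) : IsQuasisimple (B ⧸ pPrimeCore p B) := by
  set g : A →* B ⧸ pPrimeCore p B := (QuotientGroup.mk' (pPrimeCore p B)).comp φ with hg
  have hgs : Function.Surjective g := (QuotientGroup.mk'_surjective _).comp hφ
  have hgk : (Nat.card g.ker).Coprime p := by
    rw [Nat.coprime_comm, Nat.Prime.coprime_iff_not_dvd hp.out]
    intro hdvd
    obtain ⟨a, ha⟩ := exists_prime_orderOf_dvd_card' (G := ↥g.ker) p hdvd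
    have ha' : orderOf (a : A) = p := by rw [Subgroup.orderOf_coe]; exact ha
    have h1 : φ (a : A) ∈ pPrimeCore p B := by
      have h0 : g (a : A) = 1 := a.2
      have h00 : φ (a : A) ∈ (QuotientGroup.mk' (pPrimeCore p B)).ker := h0
      rwa [QuotientGroup.ker_mk'] at h00
    have h2 : orderOf (φ (a : A)) ∣ orderOf (a : A) := orderOf_map_dvd φ (a : A)
    rw [ha'] at h2
    have h3 : orderOf (φ (a : A)) ∣ Nat.card (pPrimeCore p B) :=
      Subgroup.orderOf_dvd_natCard _ h1
    have h4 : orderOf (φ (a : A)) = 1 := by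
      have := Nat.Coprime.coprime_dvd_left h3 (Cfsg.Agent.Lib.Helper1.pPrimeCore_card_coprime p)
      exact Nat.Coprime.eq_one_of_dvd this h2
    rw [orderOf_eq_one_iff] at h4
    have h5 : (a : A) ∈ φ.ker := h4
    have h6 : orderOf (a : A) ∣ Nat.card φ.ker := Subgroup.orderOf_dvd_natCard _ h5
    rw [ha'] at h6
    have h7 := Nat.Coprime.eq_one_of_dvd hker.symm h6
    exact hp.out.one_lt.ne' h7
  have hO : pPrimeCore p A = g.ker :=
    pPrimeCore_eq_ker_of_surjective p (pPrimeCore_quotient_eq_bot p) g hgs hgk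
  exact isQuasisimple_of_mulEquiv
    ((QuotientGroup.quotientMulEquivOfEq hO).trans (QuotientGroup.quotientKerEquivOfSurjective g hgs)) h

theorem pqs_le_layer [Finite G] (hO : pPrimeCore p G = ⊥)
    (hS : ∀ L : Subgroup G, IsComponent L → Group.IsSolvable (Out (↥L ⧸ Subgroup.center ↥L)))
    (P : Subgroup G) (hP : IsPGroup p P)
    (K' : Subgroup G) (hKN : K' ≤ Subgroup.normalizer (P : Set G))
    (hsn : (K'.subgroupOf (Subgroup.normalizer (P : Set G))).IsSubnormal)
    (hperf : ⁅K', K'⁆ = K') (hqs : IsQuasisimple (↥K' ⧸ pPrimeCore p ↥K')) :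
    K' ≤ layer G := by
  apply le_layer_of_le_sup_centralizer hperf
  · apply le_layer_sup_centralizer
    intro L hL
    exact le_sup_centralizer_of_schreier hperf (isComponent_commutator_self hL)
      (pqs_le_normalizer_component p hO hL P hP K' hKN hsn hperf hqs) (hS L hL)
  · rw [Cfsg.Agent.S1327.fitting_eq_pCore p hO]
    exact pqs_le_centralizer_pCore p P hP K' hKN hsn hperf hqs

end LBal11

end Cfsg.Agent.Lib.Helper10
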