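import Mathlib
import Cfsg.Prelude.Def_Local
import Cfsg.Agent.Lib.Helper10.PComp4
import Cfsg.Agent.Lib.Lead.Coprime
import Cfsg.Agent.S0028
import Cfsg.Agent.S0044
import Cfsg.Agent.S1327

set_option autoImplicit false

namespace Cfsg.Agent.Lib.Helper10

open Cfsg Cfsg.Agent.Lib.Helper9

section PPrimeLocal

variable {H : Type*} [Group H] [Finite H] (p : ℕ) [hp : Fact p.Prime]

theorem centralizer_pCore_le_of_isSolvable [Group.IsSolvable H] :
    Subgroup.centralizer ((pCore p (H ⧸ pPrimeCore p H) : Subgroup _) : Set _) ≤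
      pCore p (H ⧸ pPrimeCore p H) := by
  have h1 := Cfsg.Agent.S1327.fitting_eq_pCore (G := H ⧸ pPrimeCore p H) p
    (pPrimeCore_quotient_eq_bot p)
  rw [← h1]
  exact Cfsg.Agent.S0044.result

theorem centralizer_pCore_le_of_pLayer_eq_bot (hL : pLayer p H = ⊥) :
    Subgroup.centralizer ((pCore p (H ⧸ pPrimeCore p H) : Subgroup _) : Set _) ≤
      pCore p (H ⧸ pPrimeCore p H) := by
  have hF := Cfsg.Agent.S1327.fitting_eq_pCore (G := H ⧸ pPrimeCore p H) p
    (pPrimeCore_quotient_eq_bot p)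
  have hE : layer (H ⧸ pPrimeCore p H) = ⊥ := by
    rw [← map_pLayer p, hL, Subgroup.map_bot]
  have hFs : generalizedFittingSubgroup (H ⧸ pPrimeCore p H) = pCore p (H ⧸ pPrimeCore p H) := by
    rw [generalizedFittingSubgroup, hE, bot_sup_eq, hF]
  have h1 := Cfsg.Agent.S1265.result (G := H ⧸ pPrimeCore p H)
  rwa [hFs] at h1

theorem le_pPrimeCore_of_centralizer
    (hcon : Subgroup.centralizer ((pCore p (H ⧸ pPrimeCore p H) : Subgroup _) : Set _) ≤
      pCore p (H ⧸ pPrimeCore p H))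
    (P Y : Subgroup H) (hP : IsPGroup p P) (hYc : Y ≤ Subgroup.centralizer (P : Set H))
    (hYp : (Nat.card Y).Coprime p)
    (hYn : Subgroup.centralizer (P : Set H) ≤ Subgroup.normalizer (Y : Set H)) :
    Y ≤ pPrimeCore p H := by
  have hNn : (pPrimeCore p H).Normal := Cfsg.Agent.Lib.Helper1.pPrimeCore_normal p
  have hNc : (Nat.card (pPrimeCore p H)).Coprime p :=
    Cfsg.Agent.Lib.Helper1.pPrimeCore_card_coprime p
  have hUn : (pCore p (H ⧸ pPrimeCore p H)).Normal := Cfsg.Agent.Lib.Helper1.pCore_normal p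
  have hUp : IsPGroup p ↥(pCore p (H ⧸ pPrimeCore p H)) := Cfsg.Agent.Lib.Helper1.pCore_isPGroup p
  have hYbc : (Nat.card (Y.map (QuotientGroup.mk' (pPrimeCore p H)))).Coprime p :=
    Nat.Coprime.coprime_dvd_left (Subgroup.card_map_dvd _ _) hYp
  have hdisj : Y.map (QuotientGroup.mk' (pPrimeCore p H)) ⊓ pCore p (H ⧸ pPrimeCore p H) = ⊥ := by
    apply Subgroup.inf_eq_bot_of_coprime
    obtain ⟨k, hk⟩ := IsPGroup.iff_card.1 hUp
    rw [hk]
    exact Nat.Coprime.pow_right _ hYbc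
  have hPN : (Nat.card P).Coprime (Nat.card (pPrimeCore p H)) := by
    obtain ⟨k, hk⟩ := IsPGroup.iff_card.1 hP
    rw [hk]
    exact Nat.Coprime.pow_left _ hNc.symm
  have hPsolv : Group.IsSolvable ↥P := by
    have : Group.IsNilpotent ↥P := hP.isNilpotent
    infer_instance
  have key := Cfsg.Agent.S0028.result p (P.map (QuotientGroup.mk' (pPrimeCore p H)))
    (Y.map (QuotientGroup.mk' (pPrimeCore p H))) (pCore p (H ⧸ pPrimeCore p H))
    (hP.map _) hYbc hUp ?_ ?_ ?_ ?_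
  · have h1 : Y.map (QuotientGroup.mk' (pPrimeCore p H)) ≤
        Y.map (QuotientGroup.mk' (pPrimeCore p H)) ⊓ pCore p (H ⧸ pPrimeCore p H) :=
      le_inf le_rfl (key.trans hcon)
    rw [hdisj, le_bot_iff, map_mk'_eq_bot_iff] at h1
    exact h1
  · rintro _ ⟨a, ha, rfl⟩
    rw [Subgroup.mem_centralizer_iff]
    rintro _ ⟨y, hy, rfl⟩
    have h1 := hYc hy
    rw [Subgroup.mem_centralizer_iff] at h1
    rw [← map_mul, ← map_mul, h1 a ha]
  · rw [Subgroup.normalizer_eq_top_iff.2 hUn]; exact le_top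
  · rw [Subgroup.normalizer_eq_top_iff.2 hUn]; exact le_top
  · intro u hu
    obtain ⟨huU, huC⟩ := Subgroup.mem_inf.1 hu
    rw [Subgroup.mem_centralizer_iff] at huC
    obtain ⟨x₀, rfl⟩ := QuotientGroup.mk'_surjective (pPrimeCore p H) u
    have hAD : P ≤ Subgroup.normalizer ((pPrimeCore p H : Subgroup H) : Set H) := by
      rw [Subgroup.normalizer_eq_top_iff.2 hNn]; exact le_top
    obtain ⟨d, hd, hxd⟩ := Cfsg.Agent.Lib.Lead.coset_fixed P (pPrimeCore p H) hAD hPN
      (Or.inl hPsolv) x₀ (by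
        intro a ha
        rw [← QuotientGroup.ker_mk' (pPrimeCore p H), MonoidHom.mem_ker]
        have h1 := huC _ (Subgroup.mem_map_of_mem (QuotientGroup.mk' (pPrimeCore p H)) ha)
        rw [map_mul, map_mul, map_mul, map_inv, map_inv, h1]
        group)
    have hxeq : (QuotientGroup.mk' (pPrimeCore p H)) (x₀ * d) =
        (QuotientGroup.mk' (pPrimeCore p H)) x₀ := by
      rw [map_mul]
      have : (QuotientGroup.mk' (pPrimeCore p H)) d = 1 := by
        rw [← MonoidHom.mem_ker, QuotientGroup.ker_mk']; exact hd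
      rw [this, mul_one]
    rw [← hxeq] at huU ⊢
    clear hxeq hu huC
    generalize x₀ * d = w at huU hxd ⊢
    have hxn := hYn hxd
    rw [Subgroup.mem_centralizer_iff]
    rintro _ ⟨y, hy, rfl⟩
    have hc1 : w * y * w⁻¹ * y⁻¹ ∈ Y :=
      Y.mul_mem ((Subgroup.mem_normalizer_iff.1 hxn y).1 hy) (Y.inv_mem hy)
    have e : (QuotientGroup.mk' (pPrimeCore p H)) (w * y * w⁻¹ * y⁻¹) =
        (QuotientGroup.mk' (pPrimeCore p H)) w *
        ((QuotientGroup.mk' (pPrimeCore p H)) y *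
          ((QuotientGroup.mk' (pPrimeCore p H)) w)⁻¹ *
          ((QuotientGroup.mk' (pPrimeCore p H)) y)⁻¹) := by
      rw [map_mul, map_mul, map_mul, map_inv, map_inv]; group
    have hc2 : (QuotientGroup.mk' (pPrimeCore p H)) (w * y * w⁻¹ * y⁻¹) ∈
        pCore p (H ⧸ pPrimeCore p H) := by
      rw [e]
      exact Subgroup.mul_mem _ huU (hUn.conj_mem _ (Subgroup.inv_mem _ huU) _)
    have hc3 : (QuotientGroup.mk' (pPrimeCore p H)) (w * y * w⁻¹ * y⁻¹) ∈
        Y.map (QuotientGroup.mk' (pPrimeCore p H)) ⊓ pCore p (H ⧸ pPrimeCore p H) :=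
      Subgroup.mem_inf.2 ⟨Subgroup.mem_map_of_mem _ hc1, hc2⟩
    rw [hdisj, Subgroup.mem_bot, e] at hc3
    generalize (QuotientGroup.mk' (pPrimeCore p H)) w = u' at hc3 ⊢
    generalize (QuotientGroup.mk' (pPrimeCore p H)) y = y' at hc3 ⊢
    calc y' * u' = (u' * (y' * u'⁻¹ * y'⁻¹))⁻¹ * (u' * y') := by group
      _ = u' * y' := by rw [hc3]; group

end PPrimeLocal

end Cfsg.Agent.Lib.Helper10
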