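import Mathlib
import Cfsg.Agent.Lib.Helper9.ZJ7
import Cfsg.Agent.Lib.Helper9.ZJ4
import Cfsg.Agent.Lib.Helper9.ZJ8
import Cfsg.Prelude.Def_LocalEven
import Cfsg.Prelude.Def_TwoFusion
import Cfsg.Prelude.Def_Transfer

set_option autoImplicit false

namespace Cfsg.Agent.Lib.Helper10.ZJsc

open scoped Pointwise commutatorElement
open Cfsg.Agent.Lib.Helper9

section ZJsc

variable {G : Type*} [Group G]

set_option maxHeartbeats 1600000 in
theorem zfam_inf_normal_sc [Finite G] {p : ℕ} [Fact p.Prime] (Q : Subgroup G → Prop) (P : Sylow p G)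
    (h : ZJHyp Q (P : Subgroup G)) (D : Subgroup G) (hDP : D ≤ (P : Subgroup G))
    (hPDn : (P : Subgroup G) ≤ Subgroup.normalizer (D : Set G))
    (hfrat : ∀ L : Subgroup G, L.Normal →
      Subgroup.normalizer ((((P : Subgroup G) ⊓ L : Subgroup G)) : Set G) ≤
        Subgroup.normalizer ((D ⊓ L : Subgroup G) : Set G))
    (hst : ∀ (V : Subgroup G) [V.Normal], IsPGroup p V → ∀ a ∈ (P : Subgroup G),
      ⁅⁅V, Subgroup.zpowers a⁆, Subgroup.zpowers a⁆ = ⊥ →
      (QuotientGroup.mk a : G ⧸ Subgroup.centralizer (V : Set G)) ∈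
        Cfsg.pCore p (G ⧸ Subgroup.centralizer (V : Set G))) :
    ∀ (n : ℕ) (L : Subgroup G), L.Normal → Nat.card L = n → ∀ (m : ℕ) (B : Subgroup G),
      B.Normal → IsPGroup p B → Nat.card B = m →
      (zfam Q (D ⊓ L) ⊓ B).Normal := by
  intro n
  induction n using Nat.strong_induction_on with
  | _ n ihL =>
  intro L hLn hLcard m
  induction m using Nat.strong_induction_on with
  | _ m ihB =>
  intro B hBn hBp hBcard
  have hBP : B ≤ (P : Subgroup G) := hBp.le_sylow_of_normal P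
  have hPD : (P : Subgroup G) ≤ Subgroup.normalizer ((D ⊓ L : Subgroup G) : Set G) := by
    intro g hg
    apply mem_normalizer_inf (hPDn hg)
    rw [normal_normalizer_eq_top L]; trivial
  have hNDZ : Subgroup.normalizer ((D ⊓ L : Subgroup G) : Set G) ≤
      Subgroup.normalizer (zfam Q (D ⊓ L) : Set G) :=
    normalizer_le_normalizer_zfam Q h.aut _
  have hNDZ₁ : Subgroup.normalizer ((D ⊓ L : Subgroup G) : Set G) ≤
      Subgroup.normalizer ((zfam Q (D ⊓ L) ⊓ B : Subgroup G) : Set G) := by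
    intro g hg
    apply mem_normalizer_inf (hNDZ hg)
    rw [normal_normalizer_eq_top B]; trivial
  have hPZ := hPD.trans hNDZ
  have hPZ₁ := hPD.trans hNDZ₁
  -- Step 2
  have hB₁B : Subgroup.normalClosure ((zfam Q (D ⊓ L) ⊓ B : Subgroup G) : Set G) ≤ B :=
    Subgroup.normalClosure_le_normal (by exact_mod_cast (inf_le_right : zfam Q (D ⊓ L) ⊓ B ≤ B))
  have hZ₁B₁ : zfam Q (D ⊓ L) ⊓ B ≤
      Subgroup.normalClosure ((zfam Q (D ⊓ L) ⊓ B : Subgroup G) : Set G) :=
    Subgroup.le_normalClosure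
  by_cases hlt : Nat.card (Subgroup.normalClosure
      ((zfam Q (D ⊓ L) ⊓ B : Subgroup G) : Set G)) < Nat.card B
  · have h1 := ihB _ (hBcard ▸ hlt) _ Subgroup.normalClosure_normal (hBp.to_le hB₁B) rfl
    have heq : zfam Q (D ⊓ L) ⊓ Subgroup.normalClosure
        ((zfam Q (D ⊓ L) ⊓ B : Subgroup G) : Set G) =
        zfam Q (D ⊓ L) ⊓ B :=
      le_antisymm (inf_le_inf_left _ hB₁B) (le_inf inf_le_left hZ₁B₁)
    rw [heq] at h1; exact h1
  have hB₁eq : Subgroup.normalClosure ((zfam Q (D ⊓ L) ⊓ B : Subgroup G) : Set G) = B :=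
    Subgroup.eq_of_le_of_card_ge hB₁B (not_lt.mp hlt)
  -- Step 3
  by_cases hbot : B = ⊥
  · have h1 : zfam Q (D ⊓ L) ⊓ B = ⊥ := by rw [hbot]; exact inf_bot_eq _
    rw [h1]; exact Subgroup.normal_bot
  have hB'lt : ⁅B, B⁆ < B := commutator_lt_of_isPGroup hBp hbot
  have hB'n : (⁅B, B⁆).Normal := Subgroup.commutator_normal B B
  have hB'card : Nat.card ↥⁅B, B⁆ < m := hBcard ▸ card_lt_of_lt' hB'lt
  have hN : (zfam Q (D ⊓ L) ⊓ ⁅B, B⁆).Normal :=
    ihB _ hB'card ⁅B, B⁆ hB'n (hBp.to_le hB'lt.le) rfl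
  -- Step 4
  have h4a : ⁅zfam Q (D ⊓ L) ⊓ B, B⁆ ≤ zfam Q (D ⊓ L) ⊓ ⁅B, B⁆ := by
    rw [Subgroup.commutator_le]
    intro z hz b hb
    refine Subgroup.mem_inf.mpr ⟨?_, Subgroup.commutator_mem_commutator hz.2 hb⟩
    have hbN := hPZ (hBP hb)
    rw [Subgroup.mem_normalizer_iff] at hbN
    have h1 : b * z⁻¹ * b⁻¹ ∈ zfam Q (D ⊓ L) :=
      (hbN z⁻¹).mp ((zfam Q (D ⊓ L)).inv_mem hz.1)
    have e : ⁅z, b⁆ = z * (b * z⁻¹ * b⁻¹) := by rw [commutatorElement_def]; group
    rw [e]; exact Subgroup.mul_mem _ hz.1 h1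
  have h4b : ⁅B, B⁆ ≤ zfam Q (D ⊓ L) ⊓ ⁅B, B⁆ := by
    have h1 := commutator_normalClosure_le h4a
    rw [hB₁eq] at h1
    exact h1
  have hB'Z : ⁅B, B⁆ ≤ zfam Q (D ⊓ L) := h4b.trans inf_le_left
  -- Step 5
  have h5a : ⁅zfam Q (D ⊓ L) ⊓ B, ⁅B, B⁆⁆ ≤ ⊥ := by
    rw [Subgroup.commutator_le]
    intro z hz c hc
    rw [Subgroup.mem_bot, commutatorElement_eq_one_iff_mul_comm]
    exact zfam_comm Q h.bot h.comm _ hz.1 (hB'Z hc)
  have h5b : ⁅B, ⁅B, B⁆⁆ ≤ ⊥ := by
    have h1 := commutator_normalClosure_le h5a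
    rw [hB₁eq] at h1
    exact h1
  have hcl : ⁅⁅B, B⁆, B⁆ = ⊥ := by
    rw [Subgroup.commutator_comm]; exact le_bot_iff.mp h5b
  -- Step 6
  have hCn : (Subgroup.centralizer (B : Set G)).Normal := Subgroup.normal_centralizer
  have hKn : ((Cfsg.pCore p (G ⧸ Subgroup.centralizer (B : Set G))).comap
      (QuotientGroup.mk' (Subgroup.centralizer (B : Set G)))).Normal :=
    (Helper1.pCore_normal p).comap _
  have hKZ₁ : (Cfsg.pCore p (G ⧸ Subgroup.centralizer (B : Set G))).comap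
      (QuotientGroup.mk' (Subgroup.centralizer (B : Set G))) ≤
      Subgroup.normalizer ((zfam Q (D ⊓ L) ⊓ B : Subgroup G) : Set G) := by
    intro k hk
    rw [Subgroup.mem_comap] at hk
    have hsurj : Function.Surjective (QuotientGroup.mk' (Subgroup.centralizer (B : Set G))) :=
      QuotientGroup.mk'_surjective _
    have h1 : Cfsg.pCore p (G ⧸ Subgroup.centralizer (B : Set G)) ≤
        ((Sylow.mapSurjective hsurj P : Sylow p (G ⧸ Subgroup.centralizer (B : Set G))) :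
          Subgroup (G ⧸ Subgroup.centralizer (B : Set G))) :=
      Helper1.pCore_le_sylow p _
    have h2 := h1 hk
    rw [Sylow.coe_mapSurjective] at h2
    obtain ⟨x, hx, hxk⟩ := Subgroup.mem_map.mp h2
    have h3 : x⁻¹ * k ∈ Subgroup.centralizer (B : Set G) := QuotientGroup.eq.mp hxk
    have h4 : x⁻¹ * k ∈ Subgroup.normalizer
        ((zfam Q (D ⊓ L) ⊓ B : Subgroup G) : Set G) :=
      centralizer_le_normalizer_of_le inf_le_right h3
    have h5 : k = x * (x⁻¹ * k) := by group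
    rw [h5]
    exact Subgroup.mul_mem _ (hPZ₁ hx) h4
  -- Step 7
  have hKM := (Subgroup.normal_le_normalCore (hN := hKn)).mpr hKZ₁
  have hMn : (Subgroup.normalizer
      ((zfam Q (D ⊓ L) ⊓ B : Subgroup G) : Set G)).normalCore.Normal :=
    Subgroup.normalCore_normal _
  have hMZ₁ := Subgroup.normalCore_le (Subgroup.normalizer
      ((zfam Q (D ⊓ L) ⊓ B : Subgroup G) : Set G))
  -- quadratic action
  have hquad : ∀ A : Subgroup G, A ≤ (P : Subgroup G) → IsMulCommutative A →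
      B ≤ Subgroup.normalizer (A : Set G) →
      A ≤ (Cfsg.pCore p (G ⧸ Subgroup.centralizer (B : Set G))).comap
      (QuotientGroup.mk' (Subgroup.centralizer (B : Set G))) := by
    intro A hAP hAc hBA a ha
    have hs := hst B hBp a (hAP ha) ?_
    · exact hs
    · have hza : Subgroup.zpowers a ≤ A := Subgroup.zpowers_le.mpr ha
      have h1 : ⁅B, Subgroup.zpowers a⁆ ≤ A := by
        rw [Subgroup.commutator_le]
        intro b hb x hx
        have hbN := hBA hb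
        rw [Subgroup.mem_normalizer_iff] at hbN
        have h2 : b * x * b⁻¹ ∈ A := (hbN x).mp (hza hx)
        rw [commutatorElement_def]
        exact A.mul_mem h2 (A.inv_mem (hza hx))
      rw [eq_bot_iff]
      calc ⁅⁅B, Subgroup.zpowers a⁆, Subgroup.zpowers a⁆ ≤ ⁅A, A⁆ := Subgroup.commutator_mono h1 hza
        _ = ⊥ := by
          rw [Subgroup.commutator_eq_bot_iff_le_centralizer]
          exact Subgroup.le_centralizer_iff_isMulCommutative.mpr hAc
  -- Case split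
  have hL₁n : (L ⊓ (Subgroup.normalizer
      ((zfam Q (D ⊓ L) ⊓ B : Subgroup G) : Set G)).normalCore).Normal :=
    Subgroup.normal_inf_normal L _
  have hD₁ : D ⊓ (L ⊓ (Subgroup.normalizer
      ((zfam Q (D ⊓ L) ⊓ B : Subgroup G) : Set G)).normalCore) ≤
      D ⊓ L := inf_le_inf_left _ inf_le_left
  by_cases hall : ∀ A ∈ famQ Q (D ⊓ L), A ≤ (Subgroup.normalizer
      ((zfam Q (D ⊓ L) ⊓ B : Subgroup G) : Set G)).normalCore
  · -- Case I
    have hfam : famQ Q (D ⊓ (L ⊓ (Subgroup.normalizer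
        ((zfam Q (D ⊓ L) ⊓ B : Subgroup G) : Set G)).normalCore)) =
        famQ Q (D ⊓ L) :=
      famQ_eq_of_forall_le Q h.bot hD₁ (fun A hA =>
        le_inf (hA.1.trans inf_le_left) (le_inf (hA.1.trans inf_le_right) (hall A hA)))
    by_cases hlt2 : Nat.card ↥(L ⊓ (Subgroup.normalizer
        ((zfam Q (D ⊓ L) ⊓ B : Subgroup G) : Set G)).normalCore) < Nat.card L
    · have h1 := ihL _ (hLcard ▸ hlt2) _ hL₁n rfl (Nat.card B) B hBn hBp rfl
      have hz : zfam Q (D ⊓ (L ⊓ (Subgroup.normalizer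
          ((zfam Q (D ⊓ L) ⊓ B : Subgroup G) : Set G)).normalCore)) =
          zfam Q (D ⊓ L) := congrArg sInf hfam
      rw [hz] at h1
      exact h1
    · have hL₁eq : L ⊓ (Subgroup.normalizer
          ((zfam Q (D ⊓ L) ⊓ B : Subgroup G) : Set G)).normalCore = L :=
        Subgroup.eq_of_le_of_card_ge inf_le_left (not_lt.mp hlt2)
      have hLM : L ≤ (Subgroup.normalizer
          ((zfam Q (D ⊓ L) ⊓ B : Subgroup G) : Set G)).normalCore :=
        (le_of_eq hL₁eq.symm).trans inf_le_right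
      have hfr := Sylow.normalizer_sup_eq_top (helper17.sylowInfNormal P L)
      rw [helper17.sylowInfNormal_map] at hfr
      rw [← Subgroup.normalizer_eq_top_iff, eq_top_iff, ← hfr]
      exact sup_le ((hfrat L hLn).trans hNDZ₁) (hLM.trans hMZ₁)
  · -- Case II
    push Not at hall
    obtain ⟨A, hA, hAM⟩ := hall
    have hAK : ¬ A ≤ (Cfsg.pCore p (G ⧸ Subgroup.centralizer (B : Set G))).comap
        (QuotientGroup.mk' (Subgroup.centralizer (B : Set G))) := fun hh => hAM (hh.trans hKM)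
    have hAc := h.comm A hA.2.1
    have hBNA : ¬ B ≤ Subgroup.normalizer (A : Set G) :=
      fun hh => hAK (hquad A ((hA.1.trans inf_le_left).trans hDP) hAc hh)
    have hBA : ¬ B ≤ A := fun hh => hBNA (hh.trans Subgroup.le_normalizer)
    obtain ⟨A₁, hA₁, -, hBA₁, hBNA₁⟩ := h.rep _ B (inf_le_left.trans hDP) hBP hPD
      (by rw [normal_normalizer_eq_top B]; exact le_top) hcl
      ⟨A, hA, hB'Z.trans (zfam_le_of_mem Q hA), hBA⟩
    have hA₁K := hquad A₁ ((hA₁.1.trans inf_le_left).trans hDP) (h.comm A₁ hA₁.2.1) hBNA₁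
    have hA₁D₁ : A₁ ≤ D ⊓ (L ⊓ (Subgroup.normalizer
        ((zfam Q (D ⊓ L) ⊓ B : Subgroup G) : Set G)).normalCore) :=
      le_inf (hA₁.1.trans inf_le_left) (le_inf (hA₁.1.trans inf_le_right) (hA₁K.trans hKM))
    have hlt2 : Nat.card ↥(L ⊓ (Subgroup.normalizer
        ((zfam Q (D ⊓ L) ⊓ B : Subgroup G) : Set G)).normalCore) < Nat.card L := by
      by_contra hcon
      have hL₁eq : L ⊓ (Subgroup.normalizer
          ((zfam Q (D ⊓ L) ⊓ B : Subgroup G) : Set G)).normalCore = L :=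
        Subgroup.eq_of_le_of_card_ge inf_le_left (not_lt.mp hcon)
      apply hAM
      calc A ≤ L := hA.1.trans inf_le_right
        _ = _ := hL₁eq.symm
        _ ≤ _ := inf_le_right
    have hnorm := ihL _ (hLcard ▸ hlt2) _ hL₁n rfl (Nat.card B) B hBn hBp rfl
    have hsub := famQ_subset_of_le Q hD₁ hA₁ hA₁D₁
    have hZle : zfam Q (D ⊓ L) ≤ zfam Q (D ⊓ (L ⊓ (Subgroup.normalizer
        ((zfam Q (D ⊓ L) ⊓ B : Subgroup G) : Set G)).normalCore)) :=
      sInf_le_sInf hsub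
    have hZ₁le : zfam Q (D ⊓ L) ⊓ B ≤
        zfam Q (D ⊓ (L ⊓ (Subgroup.normalizer
        ((zfam Q (D ⊓ L) ⊓ B : Subgroup G) : Set G)).normalCore)) ⊓ B :=
      inf_le_inf_right _ hZle
    have hBle : B ≤ zfam Q (D ⊓ (L ⊓ (Subgroup.normalizer
        ((zfam Q (D ⊓ L) ⊓ B : Subgroup G) : Set G)).normalCore)) ⊓ B := by
      have h1 := Subgroup.normalClosure_le_normal (N := zfam Q (D ⊓ (L ⊓ (Subgroup.normalizer
        ((zfam Q (D ⊓ L) ⊓ B : Subgroup G) : Set G)).normalCore)) ⊓ B)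
        (s := ((zfam Q (D ⊓ L) ⊓ B : Subgroup G) : Set G)) (by exact_mod_cast hZ₁le)
      rw [hB₁eq] at h1
      exact h1
    exact absurd ((hBle.trans inf_le_left).trans
      (zfam_le_of_mem Q (famQ_mem_of_le Q hD₁ hA₁ hA₁D₁))) hBA₁


theorem hst_of_normalizerPStable [Finite G] {p : ℕ} [Fact p.Prime]
    (hst : Cfsg.IsNormalizerPStable p G) (V : Subgroup G) [hVn : V.Normal] (hV : IsPGroup p V)
    (a : G) (hq : ⁅⁅V, Subgroup.zpowers a⁆, Subgroup.zpowers a⁆ = ⊥) :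
    (QuotientGroup.mk a : G ⧸ Subgroup.centralizer (V : Set G)) ∈
      Cfsg.pCore p (G ⧸ Subgroup.centralizer (V : Set G)) := by
  have hN : Subgroup.normalizer (V : Set G) = ⊤ := Subgroup.normalizer_eq_top_iff.mpr hVn
  have haN : a ∈ Subgroup.normalizer (V : Set G) := by rw [hN]; trivial
  have h1 := hst V hV a haN hq
  let ψ : ↥(Subgroup.normalizer (V : Set G)) →* G ⧸ Subgroup.centralizer (V : Set G) :=
    (QuotientGroup.mk' (Subgroup.centralizer (V : Set G))).comp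
      (Subgroup.normalizer (V : Set G)).subtype
  have hker : (Subgroup.centralizer (V : Set G)).subgroupOf (Subgroup.normalizer (V : Set G)) ≤
      ψ.ker := by
    intro n hn
    rw [Subgroup.mem_subgroupOf] at hn
    rw [MonoidHom.mem_ker]
    show (QuotientGroup.mk (n : G) : G ⧸ Subgroup.centralizer (V : Set G)) = 1
    rw [QuotientGroup.eq_one_iff]
    exact hn
  let ψ' := QuotientGroup.lift _ ψ hker
  have hψ'surj : Function.Surjective ψ' := by
    intro y
    obtain ⟨y₀, rfl⟩ := QuotientGroup.mk_surjective y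
    have h1 : y₀ ∈ Subgroup.normalizer (V : Set G) := by rw [hN]; trivial
    exact ⟨QuotientGroup.mk ⟨y₀, h1⟩, rfl⟩
  have h2 := pCore_map_le_of_surjective (p := p) ψ' hψ'surj
  have h4 := h2 (Subgroup.mem_map.mpr ⟨_, h1, rfl⟩)
  exact h4

theorem zfam_le_pCore_sc [Finite G] {p : ℕ} [Fact p.Prime] (Q : Subgroup G → Prop) (S : Sylow p G)
    (h : ZJHyp Q (S : Subgroup G)) (D : Subgroup G) (hDS : D ≤ (S : Subgroup G))
    (hSDn : (S : Subgroup G) ≤ Subgroup.normalizer (D : Set G))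
    (hc : Subgroup.centralizer (Cfsg.pCore p G : Set G) ≤ Cfsg.pCore p G)
    (hst : ∀ (V : Subgroup G) [V.Normal], IsPGroup p V → ∀ a ∈ (S : Subgroup G),
      ⁅⁅V, Subgroup.zpowers a⁆, Subgroup.zpowers a⁆ = ⊥ →
      (QuotientGroup.mk a : G ⧸ Subgroup.centralizer (V : Set G)) ∈
        Cfsg.pCore p (G ⧸ Subgroup.centralizer (V : Set G))) :
    zfam Q D ≤ Cfsg.pCore p G := by
  intro z hz
  have hQn : (Cfsg.pCore p G).Normal := Helper1.pCore_normal p
  have hQp : IsPGroup p (Cfsg.pCore p G) := Helper1.pCore_isPGroup p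
  have hQS : Cfsg.pCore p G ≤ (S : Subgroup G) := Helper1.pCore_le_sylow p S
  have hSZ : (S : Subgroup G) ≤ Subgroup.normalizer (zfam Q D : Set G) :=
    hSDn.trans (normalizer_le_normalizer_zfam Q h.aut _)
  have hzp : Subgroup.zpowers z ≤ zfam Q D := Subgroup.zpowers_le.mpr hz
  have hquad : ⁅⁅Cfsg.pCore p G, Subgroup.zpowers z⁆, Subgroup.zpowers z⁆ = ⊥ := by
    have h1 : ⁅Cfsg.pCore p G, Subgroup.zpowers z⁆ ≤ zfam Q D := by
      rw [Subgroup.commutator_le]
      intro q hq x hx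
      have hqN := hSZ (hQS hq)
      rw [Subgroup.mem_normalizer_iff] at hqN
      have h2 : q * x * q⁻¹ ∈ zfam Q D := (hqN x).mp (hzp hx)
      rw [commutatorElement_def]
      exact Subgroup.mul_mem _ h2 (Subgroup.inv_mem _ (hzp hx))
    rw [eq_bot_iff]
    calc ⁅⁅Cfsg.pCore p G, Subgroup.zpowers z⁆, Subgroup.zpowers z⁆
        ≤ ⁅zfam Q D, zfam Q D⁆ := Subgroup.commutator_mono h1 hzp
      _ ≤ ⊥ := by
        rw [Subgroup.commutator_le]
        intro a ha b hb
        rw [Subgroup.mem_bot, commutatorElement_eq_one_iff_mul_comm]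
        exact zfam_comm Q h.bot h.comm _ ha hb
  have hzS : z ∈ (S : Subgroup G) := by
    obtain ⟨A₀, hA₀⟩ := famQ_nonempty Q h.bot D
    exact hDS (hA₀.1 (zfam_le_of_mem Q hA₀ hz))
  have hs := hst (Cfsg.pCore p G) hQp z hzS hquad
  have hCn : (Subgroup.centralizer (Cfsg.pCore p G : Set G)).Normal := Subgroup.normal_centralizer
  have hKn : ((Cfsg.pCore p (G ⧸ Subgroup.centralizer (Cfsg.pCore p G : Set G))).comap
      (QuotientGroup.mk' (Subgroup.centralizer (Cfsg.pCore p G : Set G)))).Normal :=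
    (Helper1.pCore_normal p).comap _
  have hKp : IsPGroup p ((Cfsg.pCore p (G ⧸ Subgroup.centralizer (Cfsg.pCore p G : Set G))).comap
      (QuotientGroup.mk' (Subgroup.centralizer (Cfsg.pCore p G : Set G)))) := by
    apply IsPGroup.comap_of_ker_isPGroup (Helper1.pCore_isPGroup p)
    rw [QuotientGroup.ker_mk']
    exact hQp.to_le hc
  have hK := Helper1.le_pCore hKn hKp
  exact hK hs

theorem normalizes_of_stronglyClosed {D P : Subgroup G} (hD : Cfsg.IsStronglyClosed D P) :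
    P ≤ Subgroup.normalizer (D : Set G) := by
  intro s hs
  rw [Subgroup.mem_normalizer_iff]
  intro x
  constructor
  · intro hx
    exact hD.2 x hx s (P.mul_mem (P.mul_mem hs (hD.1 hx)) (P.inv_mem hs))
  · intro hx
    have h1 := hD.2 (s * x * s⁻¹) hx s⁻¹
      (P.mul_mem (P.mul_mem (P.inv_mem hs) (hD.1 hx)) (P.inv_mem (P.inv_mem hs)))
    have e : s⁻¹ * (s * x * s⁻¹) * s⁻¹⁻¹ = x := by group
    rw [e] at h1; exact h1

theorem frattini_of_stronglyClosed {D P : Subgroup G} (hD : Cfsg.IsStronglyClosed D P)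
    (L : Subgroup G) (hL : L.Normal) :
    Subgroup.normalizer (((P ⊓ L : Subgroup G)) : Set G) ≤
      Subgroup.normalizer ((D ⊓ L : Subgroup G) : Set G) := by
  intro g hg
  rw [Subgroup.mem_normalizer_iff] at hg ⊢
  intro x
  constructor
  · rintro ⟨hxD, hxL⟩
    have h1 : g * x * g⁻¹ ∈ P ⊓ L := (hg x).mp ⟨hD.1 hxD, hxL⟩
    exact ⟨hD.2 x hxD g h1.1, h1.2⟩
  · rintro ⟨hxD, hxL⟩
    have h1 : x ∈ P ⊓ L := (hg x).mpr ⟨hD.1 hxD, hxL⟩
    have h2 := hD.2 (g * x * g⁻¹) hxD g⁻¹ (by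
      have e : g⁻¹ * (g * x * g⁻¹) * g⁻¹⁻¹ = x := by group
      rw [e]; exact h1.1)
    have e : g⁻¹ * (g * x * g⁻¹) * g⁻¹⁻¹ = x := by group
    rw [e] at h2
    exact ⟨h2, h1.2⟩

theorem zfam_normal_sc [Finite G] {p : ℕ} [Fact p.Prime] (Q : Subgroup G → Prop) (S : Sylow p G)
    (h : ZJHyp Q (S : Subgroup G)) (D : Subgroup G) (hD : Cfsg.IsStronglyClosed D (S : Subgroup G))
    (hc : Subgroup.centralizer (Cfsg.pCore p G : Set G) ≤ Cfsg.pCore p G)
    (hst : Cfsg.IsNormalizerPStable p G) :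
    (zfam Q D).Normal := by
  have hDS : D ≤ (S : Subgroup G) := hD.1
  have hSDn := normalizes_of_stronglyClosed hD
  have hst' : ∀ (V : Subgroup G) [V.Normal], IsPGroup p V → ∀ a ∈ (S : Subgroup G),
      ⁅⁅V, Subgroup.zpowers a⁆, Subgroup.zpowers a⁆ = ⊥ →
      (QuotientGroup.mk a : G ⧸ Subgroup.centralizer (V : Set G)) ∈
        Cfsg.pCore p (G ⧸ Subgroup.centralizer (V : Set G)) :=
    fun V _ hV a _ hq => hst_of_normalizerPStable hst V hV a hq
  have h1 := zfam_inf_normal_sc Q S h D hDS hSDn (frattini_of_stronglyClosed hD) hst' _ ⊤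
    Subgroup.normal_top rfl _ (Cfsg.pCore p G)
    (Helper1.pCore_normal p) (Helper1.pCore_isPGroup p) rfl
  rw [inf_top_eq, inf_eq_left.mpr (zfam_le_pCore_sc Q S h D hDS hSDn hc hst')] at h1
  exact h1

end ZJsc

end Cfsg.Agent.Lib.Helper10.ZJsc
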