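import Mathlib
import Cfsg.Agent.Lib.Helper10.ZJsc
import Cfsg.Agent.Lib.Helper10.LBal11

set_option autoImplicit false

/-! Normalizer-`p`-stability passes to subgroups and to quotients by normal `p'`-subgroups. -/

namespace Cfsg.Agent.Lib.Helper10.ZJctl

open scoped Pointwise commutatorElement
open Cfsg.Agent.Lib.Helper9

section Stab

variable {G : Type*} [Group G]

/-- A `p`-subgroup of a quotient lifts to a `p`-subgroup. -/
theorem exists_pgroup_map_eq [Finite G] {p : ℕ} [Fact p.Prime] (K : Subgroup G) [K.Normal]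
    (Pb : Subgroup (G ⧸ K)) (hPb : IsPGroup p Pb) :
    ∃ P : Subgroup G, IsPGroup p P ∧ P.map (QuotientGroup.mk' K) = Pb := by
  let f : ↥(Pb.comap (QuotientGroup.mk' K)) →* Pb :=
    ((QuotientGroup.mk' K).comp (Pb.comap (QuotientGroup.mk' K)).subtype).codRestrict Pb
    (fun u => Subgroup.mem_comap.mp u.2)
  have hf : Function.Surjective f := by
    rintro ⟨v, hv⟩
    obtain ⟨g, rfl⟩ := QuotientGroup.mk_surjective v
    exact ⟨⟨g, Subgroup.mem_comap.mpr hv⟩, rfl⟩
  obtain ⟨S⟩ : Nonempty (Sylow p ↥(Pb.comap (QuotientGroup.mk' K))) := inferInstance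
  have h1 := (S.mapSurjective hf).is_maximal' (Q := ⊤)
    (fun x => by
      obtain ⟨k, hk⟩ := hPb (x : Pb)
      exact ⟨k, Subtype.ext (by simpa using hk)⟩) le_top
  rw [Sylow.coe_mapSurjective] at h1
  refine ⟨(S : Subgroup ↥(Pb.comap (QuotientGroup.mk' K))).map (Pb.comap (QuotientGroup.mk' K)).subtype,
    S.isPGroup'.map _, ?_⟩
  ext y
  constructor
  · rintro ⟨x, ⟨u, hu, rfl⟩, rfl⟩
    exact (f u).2
  · intro hy
    have h2 : (⟨y, hy⟩ : Pb) ∈ (S : Subgroup ↥(Pb.comap (QuotientGroup.mk' K))).map f := by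
      rw [← h1]; trivial
    obtain ⟨u, hu, hfu⟩ := h2
    refine ⟨(u : G), ⟨u, hu, rfl⟩, ?_⟩
    have := congrArg Subtype.val hfu
    simpa [f] using this

set_option maxHeartbeats 1600000 in
/-- Normalizer-`p`-stability passes to subgroups. -/
theorem nps_subgroup [Finite G] {p : ℕ} [Fact p.Prime] (hst : Cfsg.IsNormalizerPStable p G)
    (M : Subgroup G) : Cfsg.IsNormalizerPStable p ↥M := by
  intro P' hP' g hg hq
  obtain ⟨P, hPdef⟩ : ∃ P : Subgroup G, P = P'.map M.subtype := ⟨_, rfl⟩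
  have hP : IsPGroup p P := by rw [hPdef]; exact hP'.map _
  have hmemP : ∀ x : ↥M, (x : G) ∈ P ↔ x ∈ P' := by
    intro x
    rw [hPdef]
    constructor
    · rintro ⟨y, hy, hyx⟩
      have : y = x := Subtype.ext hyx
      rwa [← this]
    · intro hx
      exact ⟨x, hx, rfl⟩
  have hNle : ∀ n : ↥M, n ∈ Subgroup.normalizer (P' : Set ↥M) →
      (n : G) ∈ Subgroup.normalizer (P : Set G) := by
    intro n hn
    rw [hPdef]
    exact Subgroup.le_normalizer_map M.subtype ⟨n, hn, rfl⟩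
  have hgN : (g : G) ∈ Subgroup.normalizer (P : Set G) := hNle g hg
  have hquad : ⁅⁅P, Subgroup.zpowers (g : G)⁆, Subgroup.zpowers (g : G)⁆ = ⊥ := by
    have hz : Subgroup.zpowers (g : G) = (Subgroup.zpowers g).map M.subtype := by
      rw [MonoidHom.map_zpowers]; rfl
    rw [hz, hPdef, ← Subgroup.map_commutator, ← Subgroup.map_commutator, hq, Subgroup.map_bot]
  have h1 := hst P hP (g : G) hgN hquad
  let Φ : ↥(Subgroup.normalizer (P' : Set ↥M)) →* ↥(Subgroup.normalizer (P : Set G)) :=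
    (M.subtype.comp (Subgroup.normalizer (P' : Set ↥M)).subtype).codRestrict _
      (fun n => hNle n.1 n.2)
  let Ψ : ↥(Subgroup.normalizer (P' : Set ↥M)) →*
      ↥(Subgroup.normalizer (P : Set G)) ⧸
        (Subgroup.centralizer (P : Set G)).subgroupOf (Subgroup.normalizer (P : Set G)) :=
    (QuotientGroup.mk' _).comp Φ
  have hΦ : ∀ n : ↥(Subgroup.normalizer (P' : Set ↥M)), ((Φ n : ↥(Subgroup.normalizer (P : Set G))) : G) =
      ((n : ↥M) : G) := fun n => rfl
  have hker : ∀ n : ↥(Subgroup.normalizer (P' : Set ↥M)), Ψ n = 1 ↔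
      n ∈ (Subgroup.centralizer (P' : Set ↥M)).subgroupOf (Subgroup.normalizer (P' : Set ↥M)) := by
    intro n
    show (QuotientGroup.mk (Φ n) : _ ⧸ _) = 1 ↔ _
    rw [QuotientGroup.eq_one_iff, Subgroup.mem_subgroupOf, Subgroup.mem_subgroupOf,
      Subgroup.mem_centralizer_iff, Subgroup.mem_centralizer_iff]
    constructor
    · intro h x hx
      have := h (x : G) ((hmemP x).mpr hx)
      rw [hΦ] at this
      apply Subtype.ext
      simpa using this
    · intro h y hy
      rw [hPdef] at hy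
      obtain ⟨x, hx, rfl⟩ := hy
      have := congrArg Subtype.val (h x hx)
      rw [hΦ]
      simpa using this
  have hker' : (Subgroup.centralizer (P' : Set ↥M)).subgroupOf
      (Subgroup.normalizer (P' : Set ↥M)) ≤ Ψ.ker := fun n hn => (hker n).mpr hn
  let Ψ' := QuotientGroup.lift _ Ψ hker'
  have hinj : Function.Injective Ψ' := by
    rw [← MonoidHom.ker_eq_bot_iff, eq_bot_iff]
    intro x hx
    obtain ⟨n, rfl⟩ := QuotientGroup.mk_surjective x
    rw [MonoidHom.mem_ker] at hx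
    have h2 : Ψ n = 1 := hx
    rw [Subgroup.mem_bot, QuotientGroup.eq_one_iff]
    exact (hker n).mp h2
  have hRn : ((Cfsg.pCore p (↥(Subgroup.normalizer (P : Set G)) ⧸
      (Subgroup.centralizer (P : Set G)).subgroupOf (Subgroup.normalizer (P : Set G)))).comap
        Ψ').Normal := (Helper1.pCore_normal p).comap _
  have hRp : IsPGroup p ((Cfsg.pCore p (↥(Subgroup.normalizer (P : Set G)) ⧸
      (Subgroup.centralizer (P : Set G)).subgroupOf (Subgroup.normalizer (P : Set G)))).comap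
        Ψ') := IsPGroup.comap_of_injective (Helper1.pCore_isPGroup p) Ψ' hinj
  apply Helper1.le_pCore hRn hRp
  rw [Subgroup.mem_comap]
  exact h1

set_option maxHeartbeats 1600000 in
/-- Normalizer-`p`-stability passes to quotients by normal `p'`-subgroups. -/
theorem nps_quotient [Finite G] {p : ℕ} [Fact p.Prime] (hst : Cfsg.IsNormalizerPStable p G)
    (K : Subgroup G) [K.Normal] (hK : (Nat.card K).Coprime p) :
    Cfsg.IsNormalizerPStable p (G ⧸ K) := by
  intro Pb hPb gb hgb hq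
  obtain ⟨P, hP, rfl⟩ := exists_pgroup_map_eq K Pb hPb
  have hgb' := hgb
  rw [← Cfsg.Agent.Lib.Helper10.map_normalizer_eq_of_coprime p K hK P hP] at hgb'
  obtain ⟨g, hgN, rfl⟩ := hgb'
  have hPK : ∀ x ∈ P, x ∈ K → x = 1 := by
    intro x hx hxK
    have hcop : (Nat.card P).Coprime (Nat.card K) := by
      obtain ⟨k, hk⟩ := IsPGroup.iff_card.mp hP
      rw [hk]
      exact Nat.Coprime.pow_left k hK.symm
    have := (Subgroup.disjoint_of_coprime_natCard hcop).eq_bot
    have h2 : x ∈ P ⊓ K := ⟨hx, hxK⟩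
    rw [this] at h2
    exact h2
  have hzle : Subgroup.zpowers g ≤ Subgroup.normalizer (P : Set G) := Subgroup.zpowers_le.mpr hgN
  have h1le : ⁅P, Subgroup.zpowers g⁆ ≤ P := by
    rw [Subgroup.commutator_le]
    intro x hx y hy
    have hyN := hzle hy
    rw [Subgroup.mem_normalizer_iff] at hyN
    rw [commutatorElement_def]
    have h3 : y * x⁻¹ * y⁻¹ ∈ P := (hyN x⁻¹).mp (P.inv_mem hx)
    have e : x * y * x⁻¹ * y⁻¹ = x * (y * x⁻¹ * y⁻¹) := by group
    rw [e]
    exact P.mul_mem hx h3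
  have h2le : ⁅⁅P, Subgroup.zpowers g⁆, Subgroup.zpowers g⁆ ≤ P :=
    (Subgroup.commutator_mono h1le le_rfl).trans h1le
  have hquad : ⁅⁅P, Subgroup.zpowers g⁆, Subgroup.zpowers g⁆ = ⊥ := by
    rw [eq_bot_iff]
    intro x hx
    rw [Subgroup.mem_bot]
    apply hPK x (h2le hx)
    have h3 : (QuotientGroup.mk' K) x ∈
        (⁅⁅P, Subgroup.zpowers g⁆, Subgroup.zpowers g⁆).map (QuotientGroup.mk' K) := ⟨x, hx, rfl⟩
    rw [Subgroup.map_commutator, Subgroup.map_commutator, MonoidHom.map_zpowers, hq] at h3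
    exact (QuotientGroup.eq_one_iff x).mp h3
  have h1 := hst P hP g hgN hquad
  let Φ : ↥(Subgroup.normalizer (P : Set G)) →*
      ↥(Subgroup.normalizer ((P.map (QuotientGroup.mk' K) : Subgroup (G ⧸ K)) : Set (G ⧸ K))) :=
    ((QuotientGroup.mk' K).comp (Subgroup.normalizer (P : Set G)).subtype).codRestrict _
      (fun n => Subgroup.le_normalizer_map _ ⟨n, n.2, rfl⟩)
  have hΦ : ∀ n : ↥(Subgroup.normalizer (P : Set G)), ((Φ n).1 : G ⧸ K) =
      QuotientGroup.mk' K (n : G) := fun n => rfl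
  have hΦsurj : Function.Surjective Φ := by
    rintro ⟨y, hy⟩
    have hy' := hy
    rw [← Cfsg.Agent.Lib.Helper10.map_normalizer_eq_of_coprime p K hK P hP] at hy'
    obtain ⟨n, hn, rfl⟩ := hy'
    exact ⟨⟨n, hn⟩, rfl⟩
  let Ψ : ↥(Subgroup.normalizer (P : Set G)) →* _ ⧸
      (Subgroup.centralizer ((P.map (QuotientGroup.mk' K) : Subgroup (G ⧸ K)) : Set (G ⧸ K))).subgroupOf
        (Subgroup.normalizer ((P.map (QuotientGroup.mk' K) : Subgroup (G ⧸ K)) : Set (G ⧸ K))) :=
    (QuotientGroup.mk' _).comp Φ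
  have hker' : (Subgroup.centralizer (P : Set G)).subgroupOf
      (Subgroup.normalizer (P : Set G)) ≤ Ψ.ker := by
    intro n hn
    rw [MonoidHom.mem_ker]
    show (QuotientGroup.mk (Φ n) : _ ⧸ _) = 1
    rw [QuotientGroup.eq_one_iff, Subgroup.mem_subgroupOf, Subgroup.mem_centralizer_iff]
    rw [Subgroup.mem_subgroupOf, Subgroup.mem_centralizer_iff] at hn
    rintro _ ⟨x, hx, rfl⟩
    rw [hΦ, ← map_mul, ← map_mul, hn x hx]
  let Ψ' := QuotientGroup.lift _ Ψ hker'
  have hsurj : Function.Surjective Ψ' := by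
    intro y
    obtain ⟨y₀, rfl⟩ := QuotientGroup.mk_surjective y
    obtain ⟨n, rfl⟩ := hΦsurj y₀
    exact ⟨QuotientGroup.mk n, rfl⟩
  have h2 := pCore_map_le_of_surjective (p := p) Ψ' hsurj
  exact h2 (Subgroup.mem_map.mpr ⟨_, h1, rfl⟩)

end Stab

end Cfsg.Agent.Lib.Helper10.ZJctl
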