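import Mathlib
import Cfsg.Agent.Lib.Helper10.NPStab1

set_option autoImplicit false

/-! Lifting `p`-subgroups and their normalizers through surjections; sections of `SL₂(p)`-free
normalizers. -/

universe u

namespace Cfsg.Agent.Lib.Helper10.NPStab

open scoped Pointwise commutatorElement
open Cfsg.Agent.Lib.Helper5 Cfsg.Agent.Lib.Helper13

section Inv

/-- Being involved is transitive through an injection and a surjection. -/
theorem involves_of_inj_surj_trans {X : Type*} {G : Type*} {Q : Type*} {L : Type*}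
    [Group X] [Group G] [Group Q] [Group L]
    (j : L →* G) (hj : Function.Injective j) (ρ : L →* Q) (hρ : Function.Surjective ρ)
    (h : Cfsg.Involves X Q) : Cfsg.Involves X G := by
  obtain ⟨K', R', hn, ⟨e⟩⟩ := h
  haveI := hn
  apply Cfsg.Agent.S5299.involves_of_inj_surj (j.comp (K'.comap ρ).subtype)
    (hj.comp (K'.comap ρ).subtype_injective)
    ((e.toMonoidHom.comp (QuotientGroup.mk' (R'.subgroupOf K'))).comp (ρ.subgroupComap K'))
  exact (e.surjective.comp (QuotientGroup.mk'_surjective _)).comp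
    (MonoidHom.subgroupComap_surjective_of_surjective ρ K' hρ)

end Inv

section Lift

variable {A B : Type*} [Group A] [Group B] [Finite A] {p : ℕ} [Fact p.Prime]

/-- A `p`-subgroup of a homomorphic image lifts to a `p`-subgroup whose normalizer covers the
normalizer of the image. -/
theorem exists_pgroup_lift (f : A →* B) (hf : Function.Surjective f) (Qb : Subgroup B)
    (hQb : IsPGroup p Qb) :
    ∃ P : Subgroup A, IsPGroup p P ∧ P.map f = Qb ∧
      Subgroup.normalizer (Qb : Set B) ≤ (Subgroup.normalizer (P : Set A)).map f := by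
  let f' : ↥(Qb.comap f) →* Qb :=
    (f.comp (Qb.comap f).subtype).codRestrict Qb (fun u => Subgroup.mem_comap.mp u.2)
  have hf' : Function.Surjective f' := by
    rintro ⟨v, hv⟩
    obtain ⟨g, rfl⟩ := hf v
    exact ⟨⟨g, Subgroup.mem_comap.mpr hv⟩, rfl⟩
  obtain ⟨S⟩ : Nonempty (Sylow p ↥(Qb.comap f)) := inferInstance
  have h1 := (S.mapSurjective hf').is_maximal' (Q := ⊤)
    (fun x => by
      obtain ⟨k, hk⟩ := hQb (x : Qb)
      exact ⟨k, Subtype.ext (by simpa using hk)⟩) le_top
  rw [Sylow.coe_mapSurjective] at h1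
  obtain ⟨P, hP⟩ : ∃ P : Subgroup A, P = (S : Subgroup ↥(Qb.comap f)).map (Qb.comap f).subtype :=
    ⟨_, rfl⟩
  have hPM : P ≤ Qb.comap f := by rw [hP]; exact Subgroup.map_subtype_le _
  have hPp : IsPGroup p P := by rw [hP]; exact S.isPGroup'.map _
  have hPi : ¬ p ∣ P.relIndex (Qb.comap f) := by
    have h2 : P.subgroupOf (Qb.comap f) = (S : Subgroup ↥(Qb.comap f)) := by
      rw [hP]
      exact Subgroup.comap_map_eq_self_of_injective (Qb.comap f).subtype_injective _
    unfold Subgroup.relIndex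
    rw [h2]
    exact S.not_dvd_index
  have hmap : P.map f = Qb := by
    ext y
    constructor
    · rintro ⟨x, hx, rfl⟩
      exact Subgroup.mem_comap.mp (hPM hx)
    · intro hy
      have h2 : (⟨y, hy⟩ : Qb) ∈ (S : Subgroup ↥(Qb.comap f)).map f' := by
        rw [← h1]; trivial
      obtain ⟨u, hu, hfu⟩ := h2
      refine ⟨(u : A), ?_, ?_⟩
      · rw [hP]; exact ⟨u, hu, rfl⟩
      · have := congrArg Subtype.val hfu
        simpa [f'] using this
  refine ⟨P, hPp, hmap, ?_⟩
  intro nb hnb
  obtain ⟨n, rfl⟩ := hf nb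
  have hRM : P.map (MulAut.conj n).toMonoidHom ≤ Qb.comap f := by
    rintro _ ⟨x, hx, rfl⟩
    rw [Subgroup.mem_comap]
    have hx' : f x ∈ Qb := Subgroup.mem_comap.mp (hPM hx)
    have := (Subgroup.mem_normalizer_iff.mp hnb (f x)).mp hx'
    simpa [MulAut.conj_apply] using this
  obtain ⟨m, hm, hle⟩ := exists_mem_cj_le_of_relIndex (p := p) hPM hPp hPi hRM (isPGroup_cj n hPp)
  rw [cj_cj] at hle
  have hmn : m * n ∈ Subgroup.normalizer (P : Set A) := mem_normalizer_of_cj_le hle
  have hfm : f m ∈ P.map f := by rw [hmap]; exact Subgroup.mem_comap.mp hm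
  obtain ⟨m', hm', hfm'⟩ := hfm
  refine ⟨m'⁻¹ * (m * n), Subgroup.mul_mem _ (Subgroup.inv_mem _ (Subgroup.le_normalizer hm')) hmn, ?_⟩
  rw [map_mul, map_mul, map_inv, hfm']
  group

end Lift

end Cfsg.Agent.Lib.Helper10.NPStab
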