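import Mathlib
import Cfsg.Agent.Lib.Helper10.NPStab2

set_option autoImplicit false

/-! Sections of a group whose `p`-local subgroups are `SL₂(p)`-free are normalizer-`p`-stable. -/

universe u

namespace Cfsg.Agent.Lib.Helper10.NPStab

open scoped Pointwise commutatorElement
open Cfsg.Agent.Lib.Helper5 Cfsg.Agent.Lib.Helper13

variable {p : ℕ} [Fact p.Prime]

set_option maxHeartbeats 800000 in
theorem section_nps {G : Type u} [Group G] [Finite G] (hp : p ≠ 2)
    (h : ∀ P : Subgroup G, IsPGroup p ↥P → P ≠ ⊥ →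
      ¬ Cfsg.Involves (Matrix.SpecialLinearGroup (Fin 2) (ZMod p))
        ↥(Subgroup.normalizer ((P : Subgroup G) : Set G)))
    (K R : Subgroup G) [hR : (R.subgroupOf K).Normal] :
    Cfsg.IsNormalizerPStable p (↥K ⧸ R.subgroupOf K) := by
  apply isNormalizerPStable_of_abs
  intro Qb hQb hQbne M hM
  apply absPStable_of_sl2free hp
  intro hinv
  have hinv2 := Cfsg.Agent.Lib.Helper1.GNPC2.involves_of_quotient' M hinv
  obtain ⟨P, hPp, hPmap, hPN⟩ := exists_pgroup_lift (QuotientGroup.mk' (R.subgroupOf K))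
    (QuotientGroup.mk'_surjective _) Qb hQb
  obtain ⟨P', hP'⟩ : ∃ P' : Subgroup G, P' = P.map K.subtype := ⟨_, rfl⟩
  have hP'p : IsPGroup p P' := by rw [hP']; exact hPp.map _
  have hP'ne : P' ≠ ⊥ := by
    intro hb
    apply hQbne
    rw [← hPmap]
    have : P = ⊥ := by
      rw [hP'] at hb
      exact (Subgroup.map_eq_bot_iff_of_injective _ K.subtype_injective).mp hb
    rw [this, Subgroup.map_bot]
  apply h P' hP'p hP'ne
  obtain ⟨L, hL⟩ : ∃ L : Subgroup ↥K, L = Subgroup.normalizer (P : Set ↥K) ⊓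
      (Subgroup.normalizer (Qb : Set (↥K ⧸ R.subgroupOf K))).comap
        (QuotientGroup.mk' (R.subgroupOf K)) := ⟨_, rfl⟩
  have hL1 : L ≤ Subgroup.normalizer (P : Set ↥K) := by rw [hL]; exact inf_le_left
  have hL2 : L ≤ (Subgroup.normalizer (Qb : Set (↥K ⧸ R.subgroupOf K))).comap
      (QuotientGroup.mk' (R.subgroupOf K)) := by rw [hL]; exact inf_le_right
  have hj0 : ∀ x : ↥L, (K.subtype.comp L.subtype) x ∈ Subgroup.normalizer (P' : Set G) := by
    intro x
    have hx : (x : ↥K) ∈ Subgroup.normalizer (P : Set ↥K) := hL1 x.2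
    rw [hP']
    exact Subgroup.le_normalizer_map K.subtype ⟨(x : ↥K), hx, rfl⟩
  have hρ0 : ∀ x : ↥L, ((QuotientGroup.mk' (R.subgroupOf K)).comp L.subtype) x ∈
      Subgroup.normalizer (Qb : Set (↥K ⧸ R.subgroupOf K)) := by
    intro x
    exact hL2 x.2
  have hj : Function.Injective ((K.subtype.comp L.subtype).codRestrict _ hj0) := by
    intro x y hxy
    have h1 := congrArg Subtype.val hxy
    simp only [MonoidHom.codRestrict_apply, MonoidHom.coe_comp, Function.comp_apply,
      Subgroup.coe_subtype] at h1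
    exact Subtype.ext (Subtype.ext h1)
  have hρ : Function.Surjective
      (((QuotientGroup.mk' (R.subgroupOf K)).comp L.subtype).codRestrict _ hρ0) := by
    rintro ⟨y, hy⟩
    obtain ⟨x, hx, rfl⟩ := hPN hy
    have hxL : x ∈ L := by
      rw [hL]
      exact Subgroup.mem_inf.mpr ⟨hx, Subgroup.mem_comap.mpr hy⟩
    exact ⟨⟨x, hxL⟩, rfl⟩
  exact involves_of_inj_surj_trans _ hj _ hρ hinv2

end Cfsg.Agent.Lib.Helper10.NPStab
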