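import Mathlib
import Cfsg.Prelude.Def_Balance
import Cfsg.Agent.Lib.Helper10.LBal1
import Cfsg.Agent.Lib.Lead.Coprime
import Cfsg.Agent.S0023
import Cfsg.Agent.S0024
import Cfsg.Agent.S0025
import Cfsg.Agent.S0030
import Cfsg.Agent.S1324
import Cfsg.Agent.S1331

set_option autoImplicit false
set_option linter.unusedSectionVars false

namespace Cfsg.Agent.Lib.Helper10

open Cfsg Cfsg.Agent.Lib.Helper9

section Solv

variable {G : Type*} [Group G]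

theorem normal_subgroupOf_sup_of_le_normalizer {Y D : Subgroup G}
    (hYD : Y ≤ Subgroup.normalizer (D : Set G)) : (D.subgroupOf (Y ⊔ D)).Normal := by
  apply Subgroup.normal_subgroupOf_of_le_normalizer
  exact sup_le hYD Subgroup.le_normalizer

theorem quot_surj_of_le_normalizer {Y D : Subgroup G} (hYD : Y ≤ Subgroup.normalizer (D : Set G))
    [(D.subgroupOf (Y ⊔ D)).Normal] :
    Function.Surjective ((QuotientGroup.mk' (D.subgroupOf (Y ⊔ D))).comp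
      (Subgroup.inclusion (le_sup_left : Y ≤ Y ⊔ D))) := by
  intro q
  obtain ⟨h, rfl⟩ := QuotientGroup.mk'_surjective _ q
  obtain ⟨d, hd, y, hy, hdy⟩ := exists_mul_of_mem_sup D Y hYD (h : G)
    (by rw [sup_comm]; exact h.2)
  refine ⟨⟨y, hy⟩, ?_⟩
  rw [MonoidHom.comp_apply, QuotientGroup.mk'_apply, QuotientGroup.mk'_apply, QuotientGroup.eq]
  rw [Subgroup.mem_subgroupOf]
  have h1 : (((Subgroup.inclusion (le_sup_left : Y ≤ Y ⊔ D) ⟨y, hy⟩)⁻¹ * h : ↥(Y ⊔ D)) : G) =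
      y⁻¹ * (h : G) := rfl
  rw [h1, hdy]
  have h2 : y⁻¹ ∈ Subgroup.normalizer (D : Set G) := Subgroup.inv_mem _ (hYD hy)
  rw [Subgroup.mem_normalizer_iff] at h2
  have h3 := (h2 d).1 hd
  rw [inv_inv] at h3
  have h4 : y⁻¹ * (d * y) = y⁻¹ * d * y := by group
  rw [h4]
  exact h3

theorem isSolvable_sup_of_le_normalizer {Y D : Subgroup G} (hY : Group.IsSolvable ↥Y)
    (hD : Group.IsSolvable ↥D) (hYD : Y ≤ Subgroup.normalizer (D : Set G)) :
    Group.IsSolvable ↥(Y ⊔ D) := by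
  have hDn : (D.subgroupOf (Y ⊔ D)).Normal := normal_subgroupOf_sup_of_le_normalizer hYD
  have hsurj := quot_surj_of_le_normalizer hYD
  have hQ : Group.IsSolvable (↥(Y ⊔ D) ⧸ D.subgroupOf (Y ⊔ D)) :=
    Group.isSolvable_of_surjective hsurj
  have hD' : Group.IsSolvable ↥(D.subgroupOf (Y ⊔ D)) :=
    Group.isSolvable_of_isSolvable_injective (f := (Subgroup.subgroupOfEquivOfLe
      (le_sup_right : D ≤ Y ⊔ D)).toMonoidHom) (Subgroup.subgroupOfEquivOfLe _).injective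
  exact Group.isSolvable_of_ker_le_range (D.subgroupOf (Y ⊔ D)).subtype
    (QuotientGroup.mk' (D.subgroupOf (Y ⊔ D)))
    (by rw [QuotientGroup.ker_mk', Subgroup.range_subtype])

theorem card_sup_dvd_of_le_normalizer [Finite G] {Y D : Subgroup G}
    (hYD : Y ≤ Subgroup.normalizer (D : Set G)) :
    Nat.card ↥(Y ⊔ D) ∣ Nat.card ↥Y * Nat.card ↥D := by
  have hDn : (D.subgroupOf (Y ⊔ D)).Normal := normal_subgroupOf_sup_of_le_normalizer hYD
  have hsurj := quot_surj_of_le_normalizer hYD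
  have h1 : Nat.card (↥(Y ⊔ D) ⧸ D.subgroupOf (Y ⊔ D)) ∣ Nat.card ↥Y :=
    Subgroup.card_dvd_of_surjective _ hsurj
  have h2 : Nat.card ↥(D.subgroupOf (Y ⊔ D)) = Nat.card ↥D :=
    Nat.card_congr (Subgroup.subgroupOfEquivOfLe (le_sup_right : D ≤ Y ⊔ D)).toEquiv
  rw [Subgroup.card_eq_card_quotient_mul_card_subgroup (D.subgroupOf (Y ⊔ D)), h2]
  exact Nat.mul_dvd_mul_right h1 _

theorem le_normalizer_sup_of_le {K X Y : Subgroup G} (hX : K ≤ Subgroup.normalizer (X : Set G))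
    (hY : K ≤ Subgroup.normalizer (Y : Set G)) :
    K ≤ Subgroup.normalizer ((X ⊔ Y : Subgroup G) : Set G) := by
  intro k hk
  rw [← cj_eq_self_iff]
  unfold cj
  rw [Subgroup.map_sup]
  have h1 : cj k X = X := cj_eq_self_iff.mpr (hX hk)
  have h2 : cj k Y = Y := cj_eq_self_iff.mpr (hY hk)
  unfold cj at h1 h2
  rw [h1, h2]

theorem le_normalizer_inf_of_le {K X Y : Subgroup G} (hX : K ≤ Subgroup.normalizer (X : Set G))
    (hY : K ≤ Subgroup.normalizer (Y : Set G)) :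
    K ≤ Subgroup.normalizer ((X ⊓ Y : Subgroup G) : Set G) := by
  intro k hk
  rw [Subgroup.mem_normalizer_iff]
  intro x
  have h1 := hX hk
  have h2 := hY hk
  rw [Subgroup.mem_normalizer_iff] at h1 h2
  rw [Subgroup.mem_inf, Subgroup.mem_inf, h1 x, h2 x]

theorem conj_mem_of_le_normalizer {K X : Subgroup G} (hX : K ≤ Subgroup.normalizer (X : Set G))
    {b u : G} (hb : b ∈ K) (hu : u ∈ X) : b * u * b⁻¹ ∈ X := by
  have h1 := hX hb
  rw [Subgroup.mem_normalizer_iff] at h1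
  exact (h1 u).1 hu

theorem centralizer_zpowers_eq' (x : G) :
    Subgroup.centralizer ((Subgroup.zpowers x : Subgroup G) : Set G) =
      Subgroup.centralizer ({x} : Set G) := by
  rw [Subgroup.zpowers_eq_closure, Subgroup.centralizer_closure]

end Solv

section Fam

variable {G : Type*} [Group G] [Finite G] {p : ℕ} [hp : Fact p.Prime] {A : Subgroup G}
  {θ : G → Subgroup G}

theorem isPGroup_of_isElementaryAbelian (hA : IsElementaryAbelian p A) : IsPGroup p ↥A := by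
  intro a
  refine ⟨1, ?_⟩
  rw [pow_one]
  apply Subtype.ext
  have := hA.2 a a.2
  simpa using this

theorem coprime_card_of_not_dvd (hA : IsElementaryAbelian p A) {U : Subgroup G}
    (hU : ¬ p ∣ Nat.card ↥U) : (Nat.card ↥A).Coprime (Nat.card ↥U) := by
  obtain ⟨n, hn⟩ := (isPGroup_of_isElementaryAbelian hA).exists_card_eq
  rw [hn]
  exact Nat.Coprime.pow_left n ((Nat.Prime.coprime_iff_not_dvd hp.out).2 hU)

theorem fam_le_normalizer {U : Subgroup G} (hU : U ∈ signalizerFamily p A θ) :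
    A ≤ Subgroup.normalizer (U : Set G) :=
  Cfsg.Agent.S1331.le_normalizer_of_conj_mem A U hU.2.2.1

theorem signalizerInf_le_of_mem {a : G} (ha : a ∈ A) (ha1 : a ≠ 1) : signalizerInf A θ ≤ θ a :=
  iInf_le (fun a : {a : G // a ∈ A ∧ a ≠ 1} => θ (a : G)) ⟨a, ha, ha1⟩

theorem signalizerInf_le_centralizer (hθ : IsSignalizerFunctor p A θ) :
    signalizerInf A θ ≤ Subgroup.centralizer (A : Set G) := by
  intro x hx
  rw [Subgroup.mem_centralizer_iff]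
  intro a ha
  by_cases ha1 : a = 1
  · subst ha1; simp
  · have h1 : x ∈ θ a := signalizerInf_le_of_mem ha ha1 hx
    have h2 := hθ.1 a ha ha1 h1
    rw [Subgroup.mem_centralizer_iff] at h2
    exact h2 a (Set.mem_singleton a)

theorem mem_signalizerInf_iff {B : Subgroup G} {x : G} :
    x ∈ signalizerInf B θ ↔ ∀ b ∈ B, b ≠ 1 → x ∈ θ b := by
  unfold signalizerInf
  rw [Subgroup.mem_iInf]
  constructor
  · intro h b hb hb1
    exact h ⟨b, hb, hb1⟩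
  · intro h b
    exact h b.1 b.2.1 b.2.2

theorem fam_inf_centralizer_le {U : Subgroup G} (hU : U ∈ signalizerFamily p A θ) :
    U ⊓ Subgroup.centralizer (A : Set G) ≤ signalizerInf A θ := by
  intro x hx
  rw [mem_signalizerInf_iff]
  intro a ha ha1
  apply hU.2.2.2 a ha ha1
  have h2 : x ∈ Subgroup.centralizer (A : Set G) := hx.2
  have h3 : x ∈ Subgroup.centralizer ({a} : Set G) := by
    rw [Subgroup.mem_centralizer_iff] at h2 ⊢
    intro y hy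
    rw [Set.mem_singleton_iff] at hy
    subst hy
    exact h2 y ha
  exact ⟨hx.1, h3⟩

theorem fam_of_le {U V : Subgroup G} (hU : U ∈ signalizerFamily p A θ) (hVU : V ≤ U)
    (hV : A ≤ Subgroup.normalizer (V : Set G)) : V ∈ signalizerFamily p A θ := by
  obtain ⟨hs, hpU, hUA, hUθ⟩ := hU
  refine ⟨?_, ?_, ?_, ?_⟩
  · exact Group.isSolvable_of_isSolvable_injective (f := Subgroup.inclusion hVU)
      (Subgroup.inclusion_injective hVU)
  · intro h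
    exact hpU (h.trans (Subgroup.card_dvd_of_le hVU))
  · intro b hb u hu
    exact conj_mem_of_le_normalizer hV hb hu
  · intro a ha ha1
    exact (inf_le_inf_right _ hVU).trans (hUθ a ha ha1)

theorem fam_bot : (⊥ : Subgroup G) ∈ signalizerFamily p A θ := by
  refine ⟨?_, ?_, ?_, ?_⟩
  · infer_instance
  · rw [Subgroup.card_bot]
    exact hp.out.one_lt.ne' ∘ Nat.dvd_one.1
  · intro b hb u hu
    rw [Subgroup.mem_bot] at hu ⊢
    subst hu; simp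
  · intro a ha ha1
    exact inf_le_left.trans bot_le

theorem fam_cj (hθ : IsSignalizerFunctor p A θ) {U : Subgroup G}
    (hU : U ∈ signalizerFamily p A θ) {c : G} (hc : c ∈ signalizerInf A θ) :
    cj c U ∈ signalizerFamily p A θ := by
  obtain ⟨hs, hpU, hUA, hUθ⟩ := hU
  have hcA := signalizerInf_le_centralizer hθ hc
  rw [Subgroup.mem_centralizer_iff] at hcA
  refine ⟨?_, ?_, ?_, ?_⟩
  · exact Group.isSolvable_of_surjective (f := (U.equivMapOfInjective (MulAut.conj c).toMonoidHom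
      (MulAut.conj c).injective).toMonoidHom) (U.equivMapOfInjective _ _).surjective
  · have h1 : Nat.card ↥(cj c U) = Nat.card ↥U :=
      (Nat.card_congr (U.equivMapOfInjective (MulAut.conj c).toMonoidHom
        (MulAut.conj c).injective).toEquiv).symm
    rw [h1]; exact hpU
  · intro b hb u hu
    rw [mem_cj] at hu ⊢
    have h1 := hUA b hb _ hu
    have h2 : c⁻¹ * (b * u * b⁻¹) * c = b * (c⁻¹ * u * c) * b⁻¹ := by
      have h3 : b * c = c * b := hcA b hb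
      have h4 : c⁻¹ * b = b * c⁻¹ := by
        rw [inv_mul_eq_iff_eq_mul, ← mul_assoc, ← h3, mul_assoc, mul_inv_cancel, mul_one]
      have h5 : b⁻¹ * c = c * b⁻¹ := by
        rw [inv_mul_eq_iff_eq_mul, ← mul_assoc, h3, mul_assoc, mul_inv_cancel, mul_one]
      calc c⁻¹ * (b * u * b⁻¹) * c = (c⁻¹ * b) * u * (b⁻¹ * c) := by group
        _ = (b * c⁻¹) * u * (c * b⁻¹) := by rw [h4, h5]
        _ = b * (c⁻¹ * u * c) * b⁻¹ := by group
    rw [h2]; exact h1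
  · intro a ha ha1 x hx
    have hx1 : x ∈ cj c U := hx.1
    have hx2 : x ∈ Subgroup.centralizer ({a} : Set G) := hx.2
    rw [mem_cj] at hx1
    have hca : c ∈ θ a := signalizerInf_le_of_mem ha ha1 hc
    have hcC : c ∈ Subgroup.centralizer ({a} : Set G) := hθ.1 a ha ha1 hca
    have h1 : c⁻¹ * x * c ∈ Subgroup.centralizer ({a} : Set G) :=
      Subgroup.mul_mem _ (Subgroup.mul_mem _ (Subgroup.inv_mem _ hcC) hx2) hcC
    have h2 : c⁻¹ * x * c ∈ θ a := hUθ a ha ha1 ⟨hx1, h1⟩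
    have h3 : x = c * (c⁻¹ * x * c) * c⁻¹ := by group
    rw [h3]
    exact Subgroup.mul_mem _ (Subgroup.mul_mem _ hca h2) (Subgroup.inv_mem _ hca)

theorem fam_local (hA : IsElementaryAbelian p A) (hθ : IsSolvableSignalizerFunctor p A θ)
    {D : Subgroup G} (hD : D ∈ signalizerFamily p A θ) {a : G} (ha : a ∈ A) (ha1 : a ≠ 1) :
    (θ a ⊓ Subgroup.normalizer (D : Set G)) ⊔ D ∈ signalizerFamily p A θ := by
  obtain ⟨⟨hθ1, hθ2, hθ3, hθ4⟩, hθs⟩ := hθ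
  have hAD := fam_le_normalizer hD
  obtain ⟨hDs, hDp, hDA, hDθ⟩ := hD
  obtain ⟨Y, hY⟩ : ∃ Y, Y = θ a ⊓ Subgroup.normalizer (D : Set G) := ⟨_, rfl⟩
  rw [← hY]
  have hYθ : Y ≤ θ a := hY ▸ inf_le_left
  have hYN : Y ≤ Subgroup.normalizer (D : Set G) := hY ▸ inf_le_right
  have hYs : Group.IsSolvable ↥Y := by
    have := hθs a ha ha1
    exact Group.isSolvable_of_isSolvable_injective (f := Subgroup.inclusion hYθ)
      (Subgroup.inclusion_injective hYθ)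
  have hAθ : A ≤ Subgroup.normalizer ((θ a : Subgroup G) : Set G) :=
    Cfsg.Agent.S1331.le_normalizer_of_conj_mem A (θ a) (hθ3 a ha ha1)
  have hAND : A ≤ Subgroup.normalizer ((Subgroup.normalizer (D : Set G) : Subgroup G) : Set G) :=
    hAD.trans Subgroup.le_normalizer
  have hAY : A ≤ Subgroup.normalizer (Y : Set G) := by
    rw [hY]; exact le_normalizer_inf_of_le hAθ hAND
  have hAH : A ≤ Subgroup.normalizer ((Y ⊔ D : Subgroup G) : Set G) :=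
    le_normalizer_sup_of_le hAY hAD
  have hYp : ¬ p ∣ Nat.card ↥Y := fun h => hθ2 a ha ha1 (h.trans (Subgroup.card_dvd_of_le hYθ))
  have hHp : ¬ p ∣ Nat.card ↥(Y ⊔ D) := by
    intro h
    have h1 := h.trans (card_sup_dvd_of_le_normalizer hYN)
    rcases (Nat.Prime.dvd_mul hp.out).1 h1 with h | h
    · exact hYp h
    · exact hDp h
  have hHs := isSolvable_sup_of_le_normalizer hYs hDs hYN
  refine ⟨hHs, hHp, fun b hb u hu => conj_mem_of_le_normalizer hAH hb hu, ?_⟩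
  intro b hb hb1 k hk
  have hBA : Subgroup.zpowers b ≤ A := by rw [Subgroup.zpowers_le]; exact hb
  have hcop : (Nat.card ↥(Subgroup.zpowers b)).Coprime (Nat.card ↥(Y ⊔ D)) :=
    Nat.Coprime.coprime_dvd_left (Subgroup.card_dvd_of_le hBA) (coprime_card_of_not_dvd hA hHp)
  have hk' : k ∈ (Y ⊔ D) ⊓ Subgroup.centralizer ((Subgroup.zpowers b : Subgroup G) : Set G) := by
    rw [centralizer_zpowers_eq']; exact hk
  obtain ⟨x, hx, y, hy, hkxy⟩ := Cfsg.Agent.S0030.result (Subgroup.zpowers b) (Y ⊔ D)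
    (hBA.trans hAH) hcop (Or.inr hHs) D Y le_sup_right le_sup_left (hBA.trans hAD)
    (hBA.trans hAY) (fun k hk => exists_mul_of_mem_sup D Y hYN k (by rw [sup_comm]; exact hk))
    k hk'
  rw [centralizer_zpowers_eq'] at hx hy
  rw [hkxy]
  apply Subgroup.mul_mem
  · exact hDθ b hb hb1 hx
  · exact hθ4 a ha ha1 b hb hb1 ⟨hYθ hy.1, hy.2⟩

def IsMaxQ (p : ℕ) (A : Subgroup G) (θ : G → Subgroup G) (q : ℕ) (Q : Subgroup G) : Prop :=
  Q ∈ signalizerFamily p A θ ∧ IsPGroup q ↥Q ∧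
    ∀ R ∈ signalizerFamily p A θ, IsPGroup q ↥R → Q ≤ R → R = Q

theorem exists_isMaxQ {q : ℕ} {U : Subgroup G} (hU : U ∈ signalizerFamily p A θ)
    (hUq : IsPGroup q ↥U) : ∃ Q, U ≤ Q ∧ IsMaxQ p A θ q Q := by
  obtain ⟨Q, hUQ, hQ⟩ := Finite.exists_le_maximal
    (p := fun R : Subgroup G => R ∈ signalizerFamily p A θ ∧ IsPGroup q ↥R) (a := U) ⟨hU, hUq⟩
  refine ⟨Q, hUQ, hQ.1.1, hQ.1.2, ?_⟩
  intro R hR hRq hQR
  exact le_antisymm (hQ.2 ⟨hR, hRq⟩ hQR) hQR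

theorem isPGroup_cj {q : ℕ} {U : Subgroup G} (hU : IsPGroup q ↥U) (c : G) :
    IsPGroup q ↥(cj c U) :=
  hU.map (MulAut.conj c).toMonoidHom

theorem isMaxQ_cj (hθ : IsSignalizerFunctor p A θ) {q : ℕ} {Q : Subgroup G}
    (hQ : IsMaxQ p A θ q Q) {c : G} (hc : c ∈ signalizerInf A θ) : IsMaxQ p A θ q (cj c Q) := by
  refine ⟨fam_cj hθ hQ.1 hc, isPGroup_cj hQ.2.1 c, ?_⟩
  intro R hR hRq hQR
  have hc' : c⁻¹ ∈ signalizerInf A θ := Subgroup.inv_mem _ hc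
  have h1 : Q ≤ cj c⁻¹ R := by
    have := cj_mono c⁻¹ hQR
    rwa [cj_inv_cj] at this
  have h2 := hQ.2.2 (cj c⁻¹ R) (fam_cj hθ hR hc') (isPGroup_cj hRq c⁻¹) h1
  rw [← h2, cj_cj_inv]

theorem cj_sylow_map {H : Subgroup G} {q : ℕ} [Fact q.Prime] (S : Sylow q ↥H) (c : ↥H) :
    ((MulAut.conj c • S : Sylow q ↥H) : Subgroup ↥H).map H.subtype =
      cj (c : G) ((S : Subgroup ↥H).map H.subtype) := by
  have h1 : ((MulAut.conj c • S : Sylow q ↥H) : Subgroup ↥H) =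
      (S : Subgroup ↥H).map (MulAut.conj c).toMonoidHom := rfl
  rw [h1]
  unfold cj
  rw [Subgroup.map_map, Subgroup.map_map]
  congr 1

theorem exists_hyperplane_witness (hA : IsElementaryAbelian p A) (hA2 : p ^ 2 ≤ Nat.card ↥A)
    {q : ℕ} [Fact q.Prime] {Q D : Subgroup G} (hQq : IsPGroup q ↥Q) (hQp : ¬ p ∣ Nat.card ↥Q)
    (hAQ : A ≤ Subgroup.normalizer (Q : Set G)) (hAD : A ≤ Subgroup.normalizer (D : Set G))
    (hlt : D < Q) :
    ∃ B : Subgroup G, B ≤ A ∧ B.relIndex A ≤ p ∧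
      ¬ (Q ⊓ Subgroup.normalizer (D : Set G) ⊓ Subgroup.centralizer (B : Set G) ≤ D) := by
  by_contra hcon
  push Not at hcon
  have hnil : Group.IsNilpotent ↥Q := hQq.isNilpotent
  obtain ⟨x, hxQ, hxN, hxD⟩ := Cfsg.Agent.Lib.Lead.exists_mem_normalizer_not_mem D Q hlt hnil
  obtain ⟨X, hX⟩ : ∃ X, X = Q ⊓ Subgroup.normalizer (D : Set G) := ⟨_, rfl⟩
  have hXQ : X ≤ Q := hX ▸ inf_le_left
  have hXp : ¬ p ∣ Nat.card ↥X := fun h => hQp (h.trans (Subgroup.card_dvd_of_le hXQ))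
  have hAX : A ≤ Subgroup.normalizer (X : Set G) := by
    rw [hX]
    exact le_normalizer_inf_of_le hAQ (hAD.trans Subgroup.le_normalizer)
  have h1 := Cfsg.Agent.S1324.result p A X hA hA2 hXp hAX
  have h2 : X ≤ D := by
    rw [h1]
    apply iSup_le
    rintro ⟨B, hBA, hBr⟩
    have := hcon B hBA hBr
    rw [← hX] at this
    exact this
  have hxX : x ∈ X := by rw [hX]; exact ⟨hxQ, hxN⟩
  exact hxD (h2 hxX)

theorem exists_ne_one_of_relIndex (hA3 : p ^ 3 ≤ Nat.card ↥A) {B₁ B₂ : Subgroup G}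
    (hr1 : B₁.relIndex A ≤ p) (hr2 : B₂.relIndex A ≤ p) : ∃ a ∈ B₁ ⊓ B₂, a ≠ 1 := by
  by_contra hcon
  push Not at hcon
  have hbot : B₁ ⊓ B₂ = ⊥ := by
    rw [Subgroup.eq_bot_iff_forall]
    exact hcon
  have h1 := Subgroup.relIndex_inf_le (H := B₁) (K := B₂) (L := A)
  rw [hbot, Subgroup.relIndex_bot_left] at h1
  have h2 : B₁.relIndex A * B₂.relIndex A ≤ p * p := Nat.mul_le_mul hr1 hr2
  have h3 : p * p < p ^ 3 := by
    have hp2 : 2 ≤ p := hp.out.two_le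
    have : p ^ 3 = p * p * p := by ring
    rw [this]
    nlinarith
  omega

theorem transitivity_aux (hA : IsElementaryAbelian p A) (hA3 : p ^ 3 ≤ Nat.card ↥A)
    (hθ : IsSolvableSignalizerFunctor p A θ) {q : ℕ} [Fact q.Prime] :
    ∀ n : ℕ, ∀ Q₁ Q₂ : Subgroup G, IsMaxQ p A θ q Q₁ → IsMaxQ p A θ q Q₂ →
      Nat.card G - Nat.card ↥(Q₁ ⊓ Q₂) = n → ∃ c ∈ signalizerInf A θ, cj c Q₁ = Q₂ := by
  intro n
  induction n using Nat.strong_induction_on with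
  | _ n ih =>
  intro Q₁ Q₂ hQ₁ hQ₂ hn
  by_cases hne : Q₁ = Q₂
  · exact ⟨1, Subgroup.one_mem _, by rw [cj_one]; exact hne⟩
  have hA2 : p ^ 2 ≤ Nat.card ↥A := by
    refine le_trans ?_ hA3
    exact Nat.pow_le_pow_right hp.out.pos (by norm_num)
  obtain ⟨D, hDdef⟩ : ∃ D, D = Q₁ ⊓ Q₂ := ⟨_, rfl⟩
  rw [← hDdef] at hn
  have hD1 : D ≤ Q₁ := hDdef ▸ inf_le_left
  have hD2 : D ≤ Q₂ := hDdef ▸ inf_le_right
  have hAQ₁ := fam_le_normalizer hQ₁.1
  have hAQ₂ := fam_le_normalizer hQ₂.1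
  have hAD : A ≤ Subgroup.normalizer (D : Set G) := by
    rw [hDdef]; exact le_normalizer_inf_of_le hAQ₁ hAQ₂
  have hDF : D ∈ signalizerFamily p A θ := fam_of_le hQ₁.1 hD1 hAD
  have hDlt1 : D < Q₁ := by
    apply lt_of_le_of_ne hD1
    intro h
    have h1 : Q₁ ≤ Q₂ := h ▸ hD2
    exact hne (hQ₁.2.2 Q₂ hQ₂.1 hQ₂.2.1 h1).symm
  have hDlt2 : D < Q₂ := by
    apply lt_of_le_of_ne hD2
    intro h
    have h1 : Q₂ ≤ Q₁ := h ▸ hD1
    exact hne (hQ₂.2.2 Q₁ hQ₁.1 hQ₁.2.1 h1)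
  obtain ⟨B₁, hB₁A, hB₁r, hB₁⟩ :=
    exists_hyperplane_witness hA hA2 hQ₁.2.1 hQ₁.1.2.1 hAQ₁ hAD hDlt1
  obtain ⟨B₂, hB₂A, hB₂r, hB₂⟩ :=
    exists_hyperplane_witness hA hA2 hQ₂.2.1 hQ₂.1.2.1 hAQ₂ hAD hDlt2
  obtain ⟨a, haB, ha1⟩ := exists_ne_one_of_relIndex hA3 hB₁r hB₂r
  have haB₁ : a ∈ B₁ := haB.1
  have haB₂ : a ∈ B₂ := haB.2
  have ha : a ∈ A := hB₁A haB₁
  obtain ⟨H, hHdef⟩ : ∃ H, H = (θ a ⊓ Subgroup.normalizer (D : Set G)) ⊔ D := ⟨_, rfl⟩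
  have hHF : H ∈ signalizerFamily p A θ := hHdef ▸ fam_local hA hθ hDF ha ha1
  have hDH : D ≤ H := hHdef ▸ le_sup_right
  have hYH : θ a ⊓ Subgroup.normalizer (D : Set G) ≤ H := hHdef ▸ le_sup_left
  have key : ∀ Q B : Subgroup G, IsMaxQ p A θ q Q → D ≤ Q → a ∈ B →
      ¬ (Q ⊓ Subgroup.normalizer (D : Set G) ⊓ Subgroup.centralizer (B : Set G) ≤ D) →
      D < Q ⊓ H := by
    intro Q B hQ hDQ haB hnot
    apply lt_of_le_of_ne (le_inf hDQ hDH)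
    intro heq
    apply hnot
    intro x hx
    have hx1 : x ∈ Q ⊓ Subgroup.normalizer (D : Set G) := hx.1
    have hxQ : x ∈ Q := hx1.1
    have hxN : x ∈ Subgroup.normalizer (D : Set G) := hx1.2
    have hxC : x ∈ Subgroup.centralizer (B : Set G) := hx.2
    have hxa : x ∈ Subgroup.centralizer ({a} : Set G) := by
      rw [Subgroup.mem_centralizer_iff] at hxC ⊢
      intro y hy
      rw [Set.mem_singleton_iff] at hy
      subst hy
      exact hxC y haB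
    have hxθ : x ∈ θ a := hQ.1.2.2.2 a ha ha1 ⟨hxQ, hxa⟩
    have hxH : x ∈ H := hYH ⟨hxθ, hxN⟩
    rw [heq]
    exact ⟨hxQ, hxH⟩
  have hk1 := key Q₁ B₁ hQ₁ hD1 haB₁ hB₁
  have hk2 := key Q₂ B₂ hQ₂ hD2 haB₂ hB₂
  have hAH := fam_le_normalizer hHF
  have hcopH := coprime_card_of_not_dvd hA hHF.2.1
  obtain ⟨S₁, hS₁U, hS₁A⟩ := Cfsg.Agent.S0025.result A H hAH hcopH (Or.inr hHF.1) q (Q₁ ⊓ H)
    inf_le_right (hQ₁.2.1.to_le inf_le_left) (le_normalizer_inf_of_le hAQ₁ hAH)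
  obtain ⟨S₂, hS₂U, hS₂A⟩ := Cfsg.Agent.S0025.result A H hAH hcopH (Or.inr hHF.1) q (Q₂ ⊓ H)
    inf_le_right (hQ₂.2.1.to_le inf_le_left) (le_normalizer_inf_of_le hAQ₂ hAH)
  obtain ⟨c, hcA, hcS⟩ := Cfsg.Agent.S0024.result A H hAH hcopH (Or.inr hHF.1) q S₁ S₂ hS₁A hS₂A
  have hcZ : (c : G) ∈ signalizerInf A θ := fam_inf_centralizer_le hHF ⟨c.2, hcA⟩
  have hcS' : cj (c : G) ((S₁ : Subgroup ↥H).map H.subtype) = (S₂ : Subgroup ↥H).map H.subtype := by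
    rw [← cj_sylow_map, hcS]
  have hS₁F : (S₁ : Subgroup ↥H).map H.subtype ∈ signalizerFamily p A θ :=
    fam_of_le hHF (Subgroup.map_subtype_le _) hS₁A
  have hS₂F : (S₂ : Subgroup ↥H).map H.subtype ∈ signalizerFamily p A θ :=
    fam_of_le hHF (Subgroup.map_subtype_le _) hS₂A
  have hS₁q : IsPGroup q ↥((S₁ : Subgroup ↥H).map H.subtype) := S₁.2.map H.subtype
  have hS₂q : IsPGroup q ↥((S₂ : Subgroup ↥H).map H.subtype) := S₂.2.map H.subtype
  obtain ⟨R₁, hSR₁, hR₁⟩ := exists_isMaxQ hS₁F hS₁q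
  obtain ⟨R₂, hSR₂, hR₂⟩ := exists_isMaxQ hS₂F hS₂q
  have hcardlt : ∀ X Y : Subgroup G, D < X → X ≤ Y →
      Nat.card G - Nat.card ↥Y < n := by
    intro X Y hDX hXY
    have h1 : Nat.card ↥D < Nat.card ↥X := Cfsg.Agent.Lib.Lead.card_lt_card_of_lt hDX
    have h2 : Nat.card ↥X ≤ Nat.card ↥Y := Nat.le_of_dvd Nat.card_pos (Subgroup.card_dvd_of_le hXY)
    have h3 : Nat.card ↥Y ≤ Nat.card G := Subgroup.card_le_card_group Y
    omega
  obtain ⟨c₁, hc₁, hc₁Q⟩ := ih _ (hcardlt (Q₁ ⊓ H) (Q₁ ⊓ R₁) hk1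
    (le_inf inf_le_left (hS₁U.trans hSR₁))) Q₁ R₁ hQ₁ hR₁ rfl
  have hR₁c : IsMaxQ p A θ q (cj (c : G) R₁) := isMaxQ_cj hθ.1 hR₁ hcZ
  obtain ⟨c₂, hc₂, hc₂Q⟩ := ih _ (hcardlt (Q₂ ⊓ H) (cj (c : G) R₁ ⊓ R₂) hk2
    (le_inf (hS₂U.trans (hcS' ▸ cj_mono (c : G) hSR₁)) (hS₂U.trans hSR₂)))
    (cj (c : G) R₁) R₂ hR₁c hR₂ rfl
  obtain ⟨c₃, hc₃, hc₃Q⟩ := ih _ (hcardlt (Q₂ ⊓ H) (R₂ ⊓ Q₂) hk2
    (le_inf (hS₂U.trans hSR₂) inf_le_left)) R₂ Q₂ hR₂ hQ₂ rfl
  refine ⟨c₃ * (c₂ * ((c : G) * c₁)), ?_, ?_⟩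
  · exact Subgroup.mul_mem _ hc₃ (Subgroup.mul_mem _ hc₂ (Subgroup.mul_mem _ hcZ hc₁))
  · rw [cj_mul, cj_mul, cj_mul, hc₁Q, hc₂Q, hc₃Q]

theorem transitivity (hA : IsElementaryAbelian p A) (hA3 : p ^ 3 ≤ Nat.card ↥A)
    (hθ : IsSolvableSignalizerFunctor p A θ) {q : ℕ} [Fact q.Prime] {Q₁ Q₂ : Subgroup G}
    (hQ₁ : IsMaxQ p A θ q Q₁) (hQ₂ : IsMaxQ p A θ q Q₂) :
    ∃ c ∈ signalizerInf A θ, cj c Q₁ = Q₂ :=
  transitivity_aux hA hA3 hθ _ Q₁ Q₂ hQ₁ hQ₂ rfl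

end Fam

end Cfsg.Agent.Lib.Helper10
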