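import Mathlib
import Cfsg.Prelude.Def_OddOrderLocal
import Cfsg.Agent.Lib.Helper18.SylowIn
import Cfsg.Agent.Lib.Helper1.Hall

set_option autoImplicit false

namespace Cfsg.Agent.Lib.Helper10.SigmaJsubA

open Cfsg Cfsg.Agent.Lib Cfsg.Agent.Lib.Helper18

variable {G : Type*} [Group G] [Finite G]

/-- in a cyclic group, subgroups are determined by their order -/
theorem eq_of_card_eq_of_le_cyclic {S X X' : Subgroup G} (hS : IsCyclic S) (hX : X ≤ S)
    (hX' : X' ≤ S) (hc : Nat.card X = Nat.card X') : X = X' := by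
  classical
  haveI : Fintype ↥S := Fintype.ofFinite _
  have key : ∀ Z : Subgroup G, Z ≤ S → Nat.card Z = Nat.card X → ∀ a : G, a ∈ S →
      a ^ (Nat.card X) = 1 → a ∈ Z := by
    intro Z hZS hZc a haS ha
    have hd : 0 < Nat.card X := Nat.card_pos
    have h1 := IsCyclic.card_pow_eq_one_le (α := ↥S) hd
    set F : Finset ↥S := Finset.univ.filter (fun a : ↥S => a ^ (Nat.card X) = 1) with hF
    set Z' : Finset ↥S := Finset.univ.filter (fun a : ↥S => (a : G) ∈ Z) with hZ'
    have hsub : Z' ⊆ F := by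
      intro z hz
      rw [hZ', Finset.mem_filter] at hz
      rw [hF, Finset.mem_filter]
      refine ⟨Finset.mem_univ _, ?_⟩
      have h2 : (⟨(z : G), hz.2⟩ : ↥Z) ^ Nat.card ↥Z = 1 := pow_card_eq_one'
      rw [hZc] at h2
      apply Subtype.ext
      have := congrArg (fun t : ↥Z => (t : G)) h2
      simpa using this
    have hcard : Z'.card = Nat.card X := by
      rw [← hZc]
      have e : ↥Z ≃ {a : ↥S // (a : G) ∈ Z} :=
        { toFun := fun z => ⟨⟨z.1, hZS z.2⟩, z.2⟩
          invFun := fun a => ⟨a.1.1, a.2⟩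
          left_inv := fun z => rfl
          right_inv := fun a => rfl }
      rw [Nat.card_congr e, Nat.card_eq_fintype_card, Fintype.card_subtype]
    have heq : Z' = F := Finset.eq_of_subset_of_card_le hsub (by rw [hcard]; exact h1)
    have haF : (⟨a, haS⟩ : ↥S) ∈ F := by
      rw [hF, Finset.mem_filter]
      refine ⟨Finset.mem_univ _, ?_⟩
      apply Subtype.ext
      simpa using ha
    rw [← heq, hZ', Finset.mem_filter] at haF
    exact haF.2
  have hpow : ∀ Z : Subgroup G, Nat.card Z = Nat.card X → ∀ a ∈ Z, a ^ (Nat.card X) = 1 := by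
    intro Z hZc a ha
    have h2 : (⟨a, ha⟩ : ↥Z) ^ Nat.card ↥Z = 1 := pow_card_eq_one'
    rw [hZc] at h2
    have := congrArg (fun t : ↥Z => (t : G)) h2
    simpa using this
  apply le_antisymm
  · intro a ha
    exact key X' hX' hc.symm a (hX ha) (hpow X rfl a ha)
  · intro a ha
    exact key X hX rfl a (hX' ha) (hpow X' hc.symm a ha)

/-- a subgroup of a cyclic subgroup `S` is normalized by `N(S)` -/
theorem normalizer_le_of_cyclic {S X : Subgroup G} (hS : IsCyclic S) (hX : X ≤ S) :
    Subgroup.normalizer (S : Set G) ≤ Subgroup.normalizer (X : Set G) := by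
  intro g hg
  apply mem_normalizer_of_conjSub_le
  have h1 : conjSub g X ≤ S := by
    have := conjSub_mono (g := g) hX
    rwa [conjSub_eq_of_mem_normalizer hg] at this
  rw [eq_of_card_eq_of_le_cyclic hS h1 hX (card_conjSub g X)]

/-- conjugating a `π'`-subgroup into a subgroup of `π`-index, inside a solvable subgroup -/
theorem exists_conj_le_of_index (K N D Y : Subgroup G) (hKs : Group.IsSolvable K)
    (hNK : N ≤ K) (hcop : (Nat.card N).Coprime (N.relIndex K)) (hDK : D ≤ K)
    (hD : ∀ p : ℕ, p.Prime → p ∣ D.relIndex K → p ∣ Nat.card N) (hYK : Y ≤ K)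
    (hY : (Nat.card Y).Coprime (Nat.card N)) : ∃ g ∈ K, conjSub g Y ≤ D := by
  set n := Nat.card N with hn
  set m := N.relIndex K with hm
  set d := D.relIndex K with hd
  have hK : Nat.card K = m * n := by
    have := Subgroup.relIndex_mul_relIndex ⊥ N K bot_le hNK
    rw [Subgroup.relIndex_bot_left, Subgroup.relIndex_bot_left] at this
    rw [← this, mul_comm]
  have hDc : Nat.card D * d = Nat.card K := by
    have := Subgroup.relIndex_mul_relIndex ⊥ D K bot_le hDK
    rwa [Subgroup.relIndex_bot_left, Subgroup.relIndex_bot_left] at this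
  have hdpos : 0 < d := Nat.pos_of_ne_zero Subgroup.index_ne_zero_of_finite
  have hdm : d.Coprime m := by
    apply Nat.Coprime.symm
    apply Nat.coprime_of_dvd
    intro p hp hpm hpd
    have hpn : p ∣ n := hD p hp hpd
    have : p ∣ Nat.gcd n m := Nat.dvd_gcd hpn hpm
    rw [hcop] at this
    exact hp.one_lt.ne' (Nat.dvd_one.mp this)
  have hdn : d ∣ n := by
    have h1 : d ∣ m * n := by rw [← hK, ← hDc]; exact Dvd.intro_left _ rfl
    exact hdm.dvd_of_dvd_mul_left h1
  obtain ⟨n', hn'⟩ := hdn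
  have hDc' : Nat.card D = m * n' := by
    have h1 : Nat.card D * d = (m * n') * d := by rw [hDc, hK, hn']; ring
    exact Nat.eq_of_mul_eq_mul_right hdpos h1
  have hmn : m.Coprime n := hcop.symm
  have hmn' : m.Coprime n' := Nat.Coprime.coprime_dvd_right (Dvd.intro_left _ hn'.symm) hmn
  haveI : Group.IsSolvable ↥D :=
    solvable_of_solvable_injective (Subgroup.inclusion_injective hDK)
  obtain ⟨H, hH⟩ := Helper1.hall_exists (G := ↥D) m n' hDc' hmn'
  set H₁ : Subgroup G := H.map D.subtype with hH₁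
  have hH₁D : H₁ ≤ D := Subgroup.map_subtype_le _
  have hH₁c : Nat.card H₁ = m := by
    rw [hH₁, Subgroup.card_map_of_injective D.subtype_injective, hH]
  have hc1 : Nat.card (H₁.subgroupOf K) = m := by
    rw [← hH₁c]
    exact Nat.card_congr (Subgroup.subgroupOfEquivOfLe (hH₁D.trans hDK)).toEquiv
  have hc2 : (Nat.card (Y.subgroupOf K)).Coprime n := by
    have : Nat.card (Y.subgroupOf K) = Nat.card Y :=
      Nat.card_congr (Subgroup.subgroupOfEquivOfLe hYK).toEquiv
    rw [this]
    exact hY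
  obtain ⟨g, hg⟩ := Helper1.hall_le_conj (G := ↥K) m n hK hmn (H₁.subgroupOf K)
    (Y.subgroupOf K) hc1 hc2
  refine ⟨(g : G)⁻¹, K.inv_mem g.2, ?_⟩
  intro x hx
  rw [mem_conjSub, inv_inv] at hx
  have hyK : (g : G) * x * (g : G)⁻¹ ∈ K := hYK hx
  have h1 : (⟨(g : G) * x * (g : G)⁻¹, hyK⟩ : ↥K) ∈ Y.subgroupOf K := by
    rw [Subgroup.mem_subgroupOf]
    exact hx
  have h2 := hg h1
  rw [Subgroup.mem_pointwise_smul_iff_inv_smul_mem, Subgroup.mem_subgroupOf] at h2
  have e : (((MulAut.conj g)⁻¹ • (⟨(g : G) * x * (g : G)⁻¹, hyK⟩ : ↥K) : ↥K) : G) = x := by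
    rw [MulAut.smul_def, MulAut.conj_inv_apply]
    simp only [Subgroup.coe_mul, Subgroup.coe_inv]
    group
  rw [e] at h2
  exact hH₁D h2

end Cfsg.Agent.Lib.Helper10.SigmaJsubA
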