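import Mathlib
import Cfsg.Prelude.Def_OddOrderLocal
import Cfsg.Agent.Lib.Helper10.SigmaJsubA
import Cfsg.Agent.Lib.Helper1.BG12.TwelveThree
import Cfsg.Agent.Lib.Helper1.BG12.TwelveOne
import Cfsg.Agent.Lib.Helper5.SolvPSolv
import Cfsg.Agent.S1414

set_option autoImplicit false
open scoped commutatorElement

namespace Cfsg.Agent.Lib.Helper10.SigmaJsubB

open Cfsg Cfsg.Agent.Lib Cfsg.Agent.Lib.Helper18
open Cfsg.Agent.Lib.Helper11.BenderM Cfsg.Agent.Lib.Helper11.BenderN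
  Cfsg.Agent.Lib.Helper11.BenderO Cfsg.Agent.Lib.Helper11.BenderE
  Cfsg.Agent.Lib.Helper11.BenderF Cfsg.Agent.Lib.Helper11.BenderD
  Cfsg.Agent.Lib.Helper11.MaxSubB Cfsg.Agent.Lib.Helper11.MaxSubD
  Cfsg.Agent.Lib.Helper1.BG12 Cfsg.Agent.Lib.Helper10.SigmaJsubA

/-- **B & G, 12.16(a)-(c)** in `IsSylowIn` form -/
def Emb (G : Type*) [Group G] : Prop :=
  ∀ (M : Subgroup G), IsCoatom M → ∀ (q : ℕ), q.Prime → q ∈ Cfsg.sigma M →
    ∀ X : Subgroup G, IsPGroup q X → X ≠ ⊥ → X ≤ M →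
    ∀ Mstar : Subgroup G, IsCoatom Mstar → Mstar ≠ M →
      Subgroup.normalizer (X : Set G) ≤ Mstar →
    ∀ S : Subgroup G, IsSylowIn q S (M ⊓ Mstar) → X ≤ S →
      (∀ g : G, Mstar ≠ conjSub g M) ∧ Subgroup.normalizer (S : Set G) ≤ M ∧ IsSylowIn q S Mstar

/-- the parts of **B & G, Theorem 12.5** that are used -/
def Tau2 (G : Type*) [Group G] : Prop :=
  ∀ (M : Subgroup G), IsCoatom M → ∀ p : ℕ, p.Prime → p ∈ Cfsg.tau2 M →
    ∀ A : Subgroup G, A ≤ M → Cfsg.IsElementaryAbelian p A → Nat.card A = p ^ 2 →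
    Group.IsNilpotent (Cfsg.sigmaCore M) ∧
      M ≤ Subgroup.normalizer ((Cfsg.sigmaCore M ⊔ A : Subgroup G) : Set G)

/-- **B & G, Proposition 12.4(a)** -/
def CentSq (G : Type*) [Group G] : Prop :=
  ∀ (M : Subgroup G), IsCoatom M → ∀ p : ℕ, p.Prime →
    ∀ A : Subgroup G, A ≤ M → Cfsg.IsElementaryAbelian p A → Nat.card A = p ^ 2 →
    Subgroup.centralizer (A : Set G) ≤ M

variable {G : Type*} [Group G] [Finite G]

theorem dvd_card_of_pgroup_ne_bot {q : ℕ} [Fact q.Prime] {X : Subgroup G} (hXq : IsPGroup q X) (hX1 : X ≠ ⊥) :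
    q ∣ Nat.card X := by
  obtain ⟨k, hk⟩ := IsPGroup.iff_card.mp hXq
  have hk0 : k ≠ 0 := by
    rintro rfl
    rw [pow_zero] at hk
    exact hX1 (Subgroup.card_eq_one.mp hk)
  rw [hk]
  exact dvd_pow_self q hk0

omit [Finite G] in
theorem le_normalizer_derived (H : Subgroup G) :
    H ≤ Subgroup.normalizer ((⁅H, H⁆ : Subgroup G) : Set G) := by
  intro g hg
  rw [Subgroup.mem_normalizer_iff_map_conj_eq, Subgroup.map_commutator]
  have : H.map (MulAut.conj g).toMonoidHom = H :=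
    conjSub_eq_of_mem_normalizer (Subgroup.le_normalizer hg)
  change ⁅H.map (MulAut.conj g).toMonoidHom, H.map (MulAut.conj g).toMonoidHom⁆ = _
  rw [this]

/-- case `q ∈ σ(M*)` -/
theorem caseA (hG : Cfsg.IsMinSimpleOddOrder G) (M : Subgroup G) (hM : IsCoatom M)
    (q : ℕ) [hq' : Fact q.Prime] (hq : q ∈ Cfsg.sigma M)
    (Ms : Subgroup G) (hMs : IsCoatom Ms) (ha : ∀ g : G, Ms ≠ conjSub g M)
    (S : Subgroup G) (hb : Subgroup.normalizer (S : Set G) ≤ M) (hc : IsSylowIn q S Ms)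
    (hqs : q ∈ Cfsg.sigma Ms)
    (Y : Subgroup G) (hYMs : Y ≤ Ms)
    (hY : ∀ p : ℕ, p.Prime → p ∣ Nat.card Y → p ∈ Cfsg.sigma M) :
    ∃ g ∈ Ms, conjSub g Y ≤ M := by
  obtain ⟨S₁, hS₁⟩ := exists_good_of_sigma Ms q hqs
  obtain ⟨S', hS'good, hSS'⟩ := exists_good_ge hS₁ S hc.le hc.isPGroup
  have hS'eq : S' = S := hc.eq_of_le hS'good.1.le hS'good.1.isPGroup hSS'
  rw [hS'eq] at hS'good
  have hSder : S ≤ ⁅Ms, Ms⁆ := sylow_le_derived hG Ms hMs q S hS'good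
  obtain ⟨hB, -, ⟨T, hT, hTnil⟩, -, -⟩ := Cfsg.Agent.S1414.result hG Ms hMs
  have hnotβ : ∀ r, r ∈ Cfsg.sigma M → r ∉ Cfsg.beta Ms := by
    intro r hrM hrβ
    obtain ⟨g, hg⟩ := conj_of_alpha_sigma hG Ms M hMs hM r hrβ.1 hrM
    apply ha g⁻¹
    rw [hg, conjSub_mul]
    simp [conjSub_one]
  have hder_le : ⁅Ms, Ms⁆ ≤ Ms := derived_le Ms
  have hSder' : IsSylowIn q S ⁅Ms, Ms⁆ := hc.of_le hSder hder_le
  obtain ⟨PT⟩ : Nonempty (Sylow q ↥T) := inferInstance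
  have hST : IsSylowIn q ((PT : Subgroup ↥T).map T.subtype) T := isSylowIn_of_sylow PT
  set S_T : Subgroup G := (PT : Subgroup ↥T).map T.subtype with hS_T
  have hST' : IsSylowIn q S_T ⁅Ms, Ms⁆ := by
    refine ⟨hST.le.trans hT.1, hST.isPGroup, ?_⟩
    rw [← Subgroup.relIndex_mul_relIndex S_T T ⁅Ms, Ms⁆ hST.le hT.1]
    intro hd
    rcases (Nat.Prime.dvd_mul hq'.out).mp hd with h | h
    · exact hST.not_dvd h
    · exact hT.2.2 q hq'.out ⟨hq'.out, hnotβ q hq⟩ h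
  obtain ⟨x, hx, hle⟩ := hSder'.exists_conj_le hST'.le hST'.isPGroup
  have heq : conjSub x S_T = S := by
    apply Subgroup.eq_of_le_of_card_ge hle
    rw [card_conjSub]
    exact (hSder'.card_eq hST').le
  set T' : Subgroup G := conjSub x T with hT'
  have hT'le : T' ≤ ⁅Ms, Ms⁆ := conjSub_le_of_mem hT.1 hx
  have hST'' : S ≤ T' := by
    rw [← heq]
    exact conjSub_mono hST.le
  have hnil' : Group.IsNilpotent ↥T' := by
    haveI := hTnil
    exact Group.nilpotent_of_mulEquiv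
      (T.equivMapOfInjective (MulAut.conj x).toMonoidHom (MulAut.conj x).injective)
  have hSylT' : IsSylowIn q S T' := hSder'.of_le hST'' hT'le
  have hT'N : T' ≤ Subgroup.normalizer (S : Set G) :=
    sylow_normal_of_nilpotent T' S q hnil' hSylT' T' Subgroup.le_normalizer
  set D : Subgroup G := Ms ⊓ Subgroup.normalizer (S : Set G) with hD
  have hDM : D ≤ M := inf_le_right.trans hb
  have hMsder : Ms ≤ Subgroup.normalizer ((⁅Ms, Ms⁆ : Subgroup G) : Set G) := le_normalizer_derived Ms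
  -- Frattini: `Ms = Ms' ⊔ D`
  have hfrat : Ms ≤ D ⊔ ⁅Ms, Ms⁆ := by
    intro g hg
    obtain ⟨n, hn, hng⟩ := hSder'.frattini (hMsder hg)
    have hngD : n * g ∈ D := Subgroup.mem_inf.mpr ⟨Ms.mul_mem (hder_le hn) hg, hng⟩
    have e : g = n⁻¹ * (n * g) := by group
    rw [e]
    exact Subgroup.mul_mem _ (Subgroup.mem_sup_right (Subgroup.inv_mem _ hn))
      (Subgroup.mem_sup_left hngD)
  have hsup : D ⊔ ⁅Ms, Ms⁆ = Ms := le_antisymm (sup_le inf_le_left hder_le) hfrat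
  have hidx1 : D.relIndex Ms = (D ⊓ ⁅Ms, Ms⁆).relIndex ⁅Ms, Ms⁆ := by
    have h1 := Helper18.relIndex_sup_of_le_normalizer D ⁅Ms, Ms⁆ (inf_le_left.trans hMsder)
    rw [hsup] at h1
    rw [h1, Subgroup.inf_relIndex_right]
  have hT'D : T' ≤ D ⊓ ⁅Ms, Ms⁆ :=
    le_inf (le_inf (hT'le.trans hder_le) hT'N) hT'le
  have hidx2 : D.relIndex Ms ∣ T.relIndex ⁅Ms, Ms⁆ := by
    rw [hidx1]
    have h1 : (D ⊓ ⁅Ms, Ms⁆).relIndex ⁅Ms, Ms⁆ ∣ T'.relIndex ⁅Ms, Ms⁆ :=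
      Subgroup.relIndex_dvd_of_le_left _ hT'D
    have h2 : T'.relIndex ⁅Ms, Ms⁆ = T.relIndex ⁅Ms, Ms⁆ := by
      have h3 := Subgroup.relIndex_map_map_of_injective T ⁅Ms, Ms⁆
        (f := (MulAut.conj x).toMonoidHom) (MulAut.conj x).injective
      have h4 : (⁅Ms, Ms⁆ : Subgroup G).map (MulAut.conj x).toMonoidHom = ⁅Ms, Ms⁆ :=
        conjSub_eq_of_mem_normalizer (Subgroup.le_normalizer hx)
      rw [h4] at h3
      exact h3
    rwa [h2] at h1
  set B : Subgroup G := Cfsg.piCoreOf (Cfsg.beta Ms) Ms with hBdef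
  have hDprimes : ∀ p : ℕ, p.Prime → p ∣ D.relIndex Ms → p ∣ Nat.card B := by
    intro p hp hpd
    have hpβ : p ∈ Cfsg.beta Ms := by
      by_contra hnb
      exact hT.2.2 p hp ⟨hp, hnb⟩ (hpd.trans hidx2)
    have hpMs : p ∣ Nat.card Ms := hpd.trans (Subgroup.relIndex_dvd_card D Ms)
    rw [← card_mul_relIndex_of_le hB.1] at hpMs
    rcases (Nat.Prime.dvd_mul hp).mp hpMs with h | h
    · exact h
    · exact absurd h (hB.2.2 p hp hpβ)
  have hcopB : (Nat.card B).Coprime (B.relIndex Ms) := by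
    apply Nat.coprime_of_dvd
    intro p hp hp1 hp2
    exact hB.2.2 p hp (hB.2.1 p hp hp1) hp2
  have hcopY : (Nat.card Y).Coprime (Nat.card B) := by
    apply Nat.coprime_of_dvd
    intro p hp hp1 hp2
    exact hnotβ p (hY p hp hp1) (hB.2.1 p hp hp2)
  obtain ⟨g, hg, hgY⟩ := exists_conj_le_of_index Ms B D Y (coatom_solvable hG Ms hMs) hB.1 hcopB
    inf_le_left hDprimes hYMs hcopY
  exact ⟨g, hg, hgY.trans hDM⟩

/-- case `q ∉ σ(M*)` -/
theorem caseB (hG : Cfsg.IsMinSimpleOddOrder G) (h2 : Tau2 G) (h3 : CentSq G)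
    (M : Subgroup G) (hM : IsCoatom M)
    (q : ℕ) [hq' : Fact q.Prime] (hq : q ∈ Cfsg.sigma M)
    (X : Subgroup G) (hXq : IsPGroup q X) (hX1 : X ≠ ⊥)
    (Ms : Subgroup G) (hMs : IsCoatom Ms) (hNMs : Subgroup.normalizer (X : Set G) ≤ Ms)
    (ha : ∀ g : G, Ms ≠ conjSub g M)
    (S : Subgroup G) (hSM : S ≤ M) (hXS : X ≤ S) (hc : IsSylowIn q S Ms)
    (hqs : q ∉ Cfsg.sigma Ms)
    (Y : Subgroup G) (hYMs : Y ≤ Ms)
    (hY : ∀ p : ℕ, p.Prime → p ∣ Nat.card Y → p ∈ Cfsg.sigma M) :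
    ∃ g ∈ Ms, conjSub g Y ≤ M := by
  have hq2 : q ≠ 2 := odd_prime_of_pgroup hG q X hX1 hXq
  have hS1 : S ≠ ⊥ := by
    intro h
    apply hX1
    rw [eq_bot_iff, ← h]
    exact hXS
  have hSnc : ¬ IsCyclic S := by
    intro hcyc
    have hN : Subgroup.normalizer (S : Set G) ≤ Ms :=
      (normalizer_le_of_cyclic hcyc hXS).trans hNMs
    exact hqs (sigma_of_good Ms q S (good_of_sigma Ms q S hc hN) hS1)
  obtain ⟨A, hAS, -, hAe, hAc⟩ := exists_normal_sq q hq2 S hc.isPGroup hSnc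
  have hAM : A ≤ M := hAS.trans hSM
  have hAMs : A ≤ Ms := hAS.trans hc.le
  have hAp : IsPGroup q A := Helper1.BG10.elemAb_isPGroup hAe
  have hA1 : A ≠ ⊥ := by
    intro h
    rw [h, Subgroup.card_bot] at hAc
    have : 1 < q ^ 2 := Nat.one_lt_pow (by norm_num) hq'.out.one_lt
    omega
  have hr1 : ¬ Cfsg.PRankLE q 1 Ms := by
    intro h
    have h1 := h (A.subgroupOf Ms) ?_ ?_
    · rw [Helper5.card_subgroupOf_of_le hAMs, hAc] at h1
      have : q ^ 1 < q ^ 2 := Nat.pow_lt_pow_right hq'.out.one_lt (by norm_num)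
      omega
    · refine ⟨⟨fun a b => ?_⟩⟩
      apply Subtype.ext
      apply Subtype.ext
      have := hAe.1.is_comm.comm ⟨(a : Ms), a.2⟩ ⟨(b : Ms), b.2⟩
      exact congrArg (fun t : ↥A => (t : G)) this
    · intro a ha
      apply Subtype.ext
      have := hAe.2 (a : G) ha
      simpa using this
  have hr2 : Cfsg.PRankLE q 2 Ms := by
    by_contra h
    exact hqs (alpha_sub_sigma hG Ms hMs q ⟨hq'.out, h⟩)
  have htau : q ∈ Cfsg.tau2 Ms := ⟨hq'.out, hqs, hr2, hr1⟩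
  obtain ⟨hnil, hnorm⟩ := h2 Ms hMs q hq'.out htau A hAMs hAe hAc
  have hCA : Subgroup.centralizer (A : Set G) ≤ M := h3 M hM q hq'.out A hAM hAe hAc
  have hNA : Subgroup.normalizer (A : Set G) ≤ M := by
    rw [(sigma_fusion hG M hM q hq A hAp hA1 hAM).2]
    exact sup_le inf_le_left hCA
  set Nσ : Subgroup G := Cfsg.sigmaCore Ms with hNσ
  set E : Subgroup G := Ms ⊓ Subgroup.normalizer (A : Set G) with hE
  have hEM : E ≤ M := inf_le_right.trans hNA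
  obtain ⟨hHall, -, -⟩ := sigma_hall hG Ms hMs
  have hNσle : Nσ ≤ Ms := hHall.1
  have hNσn : Ms ≤ Subgroup.normalizer (Nσ : Set G) := le_normalizer_sigmaCore Ms
  -- `A` is a Sylow `q`-subgroup of `Nσ ⊔ A`
  have hqN : ¬ q ∣ Nat.card Nσ := fun h => hqs (hHall.2.1 q hq'.out h)
  have hASyl : IsSylowIn q A (Nσ ⊔ A) := by
    refine ⟨le_sup_right, hAp, ?_⟩
    have h1 := Helper18.relIndex_sup_of_le_normalizer A Nσ (hAMs.trans hNσn)
    rw [sup_comm] at h1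
    rw [h1, ← Subgroup.inf_relIndex_right]
    intro hd
    exact hqN (hd.trans (Subgroup.relIndex_dvd_card _ _))
  have hfrat : Ms ≤ E ⊔ Nσ := by
    intro g hg
    obtain ⟨n, hn, hng⟩ := hASyl.frattini (hnorm hg)
    have hnMs : n ∈ Ms := (sup_le hNσle hAMs) hn
    have hngE : n * g ∈ E := Subgroup.mem_inf.mpr ⟨Ms.mul_mem hnMs hg, hng⟩
    have hAE : A ≤ E := le_inf hAMs Subgroup.le_normalizer
    have hn' : n⁻¹ ∈ E ⊔ Nσ :=
      Subgroup.inv_mem _ ((sup_le le_sup_right (hAE.trans le_sup_left)) hn)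
    have e : g = n⁻¹ * (n * g) := by group
    rw [e]
    exact Subgroup.mul_mem _ hn' (Subgroup.mem_sup_left hngE)
  have hsup : E ⊔ Nσ = Ms := le_antisymm (sup_le inf_le_left hNσle) hfrat
  have hEprimes : ∀ p : ℕ, p.Prime → p ∣ E.relIndex Ms → p ∣ Nat.card Nσ := by
    intro p _ hpd
    have h1 := Helper18.relIndex_sup_of_le_normalizer E Nσ (inf_le_left.trans hNσn)
    rw [hsup] at h1
    rw [h1, ← Subgroup.inf_relIndex_right] at hpd
    exact hpd.trans (Subgroup.relIndex_dvd_card _ _)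
  have hcopN : (Nat.card Nσ).Coprime (Nσ.relIndex Ms) := by
    apply Nat.coprime_of_dvd
    intro p hp hp1 hp2
    exact hHall.2.2 p hp (hHall.2.1 p hp hp1) hp2
  have hcopY : (Nat.card Y).Coprime (Nat.card Nσ) := by
    apply Nat.coprime_of_dvd
    intro p hp hp1 hp2
    obtain ⟨g, hg⟩ := conj_of_sigma_sigma_nilp hG Ms M hMs hM hnil p (hHall.2.1 p hp hp2)
      (hY p hp hp1)
    apply ha g⁻¹
    rw [hg, conjSub_mul]
    simp [conjSub_one]
  obtain ⟨g, hg, hgY⟩ := exists_conj_le_of_index Ms Nσ E Y (coatom_solvable hG Ms hMs) hNσle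
    hcopN inf_le_left hEprimes hYMs hcopY
  exact ⟨g, hg, hgY.trans hEM⟩

/-- the local step of **B & G, 12.17** -/
theorem core (hG : Cfsg.IsMinSimpleOddOrder G) (h1 : Emb G) (h2 : Tau2 G) (h3 : CentSq G)
    (M : Subgroup G) (hM : IsCoatom M)
    (q : ℕ) [hq' : Fact q.Prime] (hq : q ∈ Cfsg.sigma M)
    (X : Subgroup G) (hXq : IsPGroup q X) (hX1 : X ≠ ⊥) (hXM : X ≤ M)
    (Y : Subgroup G) (hYX : Y ≤ Subgroup.normalizer (X : Set G))
    (hY : ∀ p : ℕ, p.Prime → p ∣ Nat.card Y → p ∈ Cfsg.sigma M) :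
    ∃ g : G, conjSub g Y ≤ M := by
  by_cases hN : Subgroup.normalizer (X : Set G) ≤ M
  · exact ⟨1, by rw [conjSub_one]; exact hYX.trans hN⟩
  have hXtop : X ≠ ⊤ := pgroup_ne_top hG q X hXq
  have hNtop := Helper1.BG10.normalizer_ne_top hG hX1 hXtop
  obtain ⟨Ms, hMs, hNMs⟩ := exists_coatom_ge _ hNtop
  have hne : Ms ≠ M := by
    rintro rfl
    exact hN hNMs
  have hXMs : X ≤ Ms := Subgroup.le_normalizer.trans hNMs
  have hXI : X ≤ M ⊓ Ms := le_inf hXM hXMs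
  have hXp' : IsPGroup q (X.subgroupOf (M ⊓ Ms)) := hXq.comap_subtype
  obtain ⟨P, hP⟩ := hXp'.exists_le_sylow
  have hS : IsSylowIn q ((P : Subgroup ↥(M ⊓ Ms)).map (M ⊓ Ms).subtype) (M ⊓ Ms) :=
    isSylowIn_of_sylow P
  set S : Subgroup G := (P : Subgroup ↥(M ⊓ Ms)).map (M ⊓ Ms).subtype with hSdef
  have hXS : X ≤ S := by
    intro x hx
    exact ⟨⟨x, hXI hx⟩, hP (Subgroup.mem_subgroupOf.mpr hx), rfl⟩
  obtain ⟨ha, hb, hc⟩ := h1 M hM q hq'.out hq X hXq hX1 hXM Ms hMs hne hNMs S hS hXS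
  have hYMs : Y ≤ Ms := hYX.trans hNMs
  by_cases hqs : q ∈ Cfsg.sigma Ms
  · obtain ⟨g, -, hg⟩ := caseA hG M hM q hq Ms hMs ha S hb hc hqs Y hYMs hY
    exact ⟨g, hg⟩
  · obtain ⟨g, -, hg⟩ := caseB hG h2 h3 M hM q hq X hXq hX1 Ms hMs hNMs ha S
      (hS.le.trans inf_le_left) hXS hc hqs Y hYMs hY
    exact ⟨g, hg⟩

omit [Finite G] in
theorem conjSub_le_normalizer {x : G} {X Y : Subgroup G}
    (h : Y ≤ Subgroup.normalizer (X : Set G)) :
    conjSub x Y ≤ Subgroup.normalizer ((conjSub x X : Subgroup G) : Set G) := by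
  intro y hy
  rw [mem_conjSub] at hy
  have h1 := h hy
  rw [Subgroup.mem_normalizer_iff_map_conj_eq]
  change conjSub y (conjSub x X) = conjSub x X
  have h2 : conjSub (x⁻¹ * y * x) X = X := conjSub_eq_of_mem_normalizer h1
  have e : y * x = x * (x⁻¹ * y * x) := by group
  rw [conjSub_mul, e, ← conjSub_mul, h2]

/-- **B & G, 12.17** (`sigma_Jsub`), given 12.16(a)-(c), 12.5(a),(c) and 12.4(a) -/
theorem sigma_jsub (hG : Cfsg.IsMinSimpleOddOrder G) (h1 : Emb G) (h2 : Tau2 G) (h3 : CentSq G)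
    (M : Subgroup G) (hM : IsCoatom M) (Y : Subgroup G) (hY1 : Y ≠ ⊥)
    (hY : ∀ p : ℕ, p.Prime → p ∣ Nat.card Y → p ∈ Cfsg.sigma M) :
    ∃ g : G, conjSub g Y ≤ Cfsg.sigmaCore M := by
  obtain ⟨hHall, hHallG, -⟩ := sigma_hall hG M hM
  have hYtop : Y ≠ ⊤ := by
    rintro rfl
    have hidx : (Cfsg.sigmaCore M).index ≠ 1 := by
      intro h
      rw [Subgroup.index_eq_one] at h
      apply hM.1
      rw [eq_top_iff, ← h]
      exact hHall.1
    obtain ⟨p, hp, hpd⟩ := Nat.exists_prime_and_dvd hidx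
    have hpG : p ∣ Nat.card (⊤ : Subgroup G) := by
      rw [Subgroup.card_top]
      exact hpd.trans (Subgroup.index_dvd_card _)
    exact hHallG.2 p hp (hY p hp hpG) hpd
  haveI hYs : Group.IsSolvable ↥Y := hG.2.2.2 Y hYtop
  haveI : Nontrivial ↥Y := by
    rw [Subgroup.nontrivial_iff_ne_bot]
    exact hY1
  obtain ⟨q, N, hq, hNn, hN1, hNq⟩ := Helper5.exists_normal_pgroup_of_solvable (G := ↥Y) hYs
  haveI : Fact q.Prime := ⟨hq⟩
  set X : Subgroup G := N.map Y.subtype with hX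
  have hXY : X ≤ Y := Subgroup.map_subtype_le _
  have hXq : IsPGroup q X := hNq.map _
  have hX1 : X ≠ ⊥ := by
    intro h
    apply hN1
    rw [hX, Subgroup.map_eq_bot_iff_of_injective _ Y.subtype_injective] at h
    exact h
  have hYX : Y ≤ Subgroup.normalizer (X : Set G) := map_normal_le_normalizer Y N
  have hqY : q ∣ Nat.card Y :=
    (dvd_card_of_pgroup_ne_bot hXq hX1).trans (Subgroup.card_dvd_of_le hXY)
  have hqσ : q ∈ Cfsg.sigma M := hY q hq hqY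
  obtain ⟨S₀, hS₀⟩ := exists_good_of_sigma M q hqσ
  obtain ⟨x, -, hle⟩ := hS₀.2.2.exists_conj_le le_top hXq
  have hY' : ∀ p : ℕ, p.Prime → p ∣ Nat.card (conjSub x Y) → p ∈ Cfsg.sigma M := by
    intro p hp hpd
    rw [card_conjSub] at hpd
    exact hY p hp hpd
  have hX1' : conjSub x X ≠ ⊥ := by
    intro h
    apply hX1
    rw [← Subgroup.card_eq_one] at h ⊢
    rwa [card_conjSub] at h
  obtain ⟨g, hg⟩ := core hG h1 h2 h3 M hM q hqσ (conjSub x X) (conjSub_isPGroup hXq) hX1'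
    (hle.trans hS₀.1.le) (conjSub x Y) (conjSub_le_normalizer hYX) hY'
  rw [conjSub_mul] at hg
  refine ⟨g * x, ?_⟩
  apply le_of_normal_coprime M _ _ hHall.1 (le_normalizer_sigmaCore M) hg
  apply Nat.coprime_of_dvd
  intro p hp hp1 hp2
  rw [card_conjSub] at hp1
  exact hHall.2.2 p hp (hY p hp hp1) hp2

end Cfsg.Agent.Lib.Helper10.SigmaJsubB
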