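import Mathlib
import Cfsg.Prelude.Def_OddOrderLocal
import Cfsg.Agent.Lib.Helper10.SigmaJsubB

set_option autoImplicit false

namespace Cfsg.Agent.Lib.Helper10.SigmaJsubC

open Cfsg Cfsg.Agent.Lib Cfsg.Agent.Lib.Helper18 Cfsg.Agent.Lib.Helper10.SigmaJsubB

variable {G : Type*} [Group G] [Finite G]

/-- the frozen statement of S1424 (B & G 12.16(a)-(c)), for a fixed group -/
def F1424 (G : Type*) [Group G] : Prop :=
  ∀ (M : Subgroup G) (_ : IsCoatom M) (q : ℕ) [Fact q.Prime] (_ : q ∈ Cfsg.sigma M) (X : Subgroup G) (_ : IsPGroup q X) (_ : X ≠ ⊥) (_ : X ≤ M)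
    (Mstar : Subgroup G) (_ : IsCoatom Mstar) (_ : Mstar ≠ M) (_ : Subgroup.normalizer (X : Set G) ≤ Mstar)
    (S : Sylow q ↥(M ⊓ Mstar)) (_ : X ≤ (S : Subgroup ↥(M ⊓ Mstar)).map (M ⊓ Mstar).subtype),
    (∀ g : G, Mstar ≠ M.map (MulAut.conj g).toMonoidHom) ∧
      Subgroup.normalizer (((S : Subgroup ↥(M ⊓ Mstar)).map (M ⊓ Mstar).subtype : Subgroup G) : Set G) ≤ M ∧
      ¬ q ∣ ((S : Subgroup ↥(M ⊓ Mstar)).map (M ⊓ Mstar).subtype).relIndex Mstar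

/-- the frozen statement of S1417 (B & G 12.5), for a fixed group -/
def F1417 (G : Type*) [Group G] : Prop :=
  ∀ (M : Subgroup G) (_ : IsCoatom M) (p : ℕ) [Fact p.Prime] (_ : p ∈ Cfsg.tau2 M) (A : Subgroup G) (_ : (A ≤ M ∧ Cfsg.IsElementaryAbelian p A ∧ Nat.card A = p ^ 2)),
    Group.IsNilpotent (Cfsg.sigmaCore M) ∧
      (∀ P : Sylow p M, IsMulCommutative (P : Subgroup M) ∧
        (A ≤ (P : Subgroup M).map M.subtype →
          (∀ x ∈ (P : Subgroup M).map M.subtype, x ^ p = 1 ↔ x ∈ A) ∧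
          ¬ Subgroup.normalizer ((((P : Subgroup M).map M.subtype : Subgroup G)) : Set G) ≤ M)) ∧
      M ≤ Subgroup.normalizer ((Cfsg.sigmaCore M ⊔ A : Subgroup G) : Set G) ∧
      Cfsg.sigmaCore M ⊓ Subgroup.centralizer (A : Set G) = ⊥ ∧
      (∀ Mstar : Subgroup G, IsCoatom Mstar → Mstar ≠ M → A ≤ Mstar → Cfsg.sigmaCore M ⊓ Mstar = ⊥) ∧
      ∃ A₁ : Subgroup G, A₁ ≤ A ∧ Nat.card A₁ = p ∧ Cfsg.sigmaCore M ⊓ Subgroup.centralizer (A₁ : Set G) = ⊥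

/-- the frozen statement of S1416 (B & G 12.4), for a fixed group -/
def F1416 (G : Type*) [Group G] : Prop :=
  ∀ (M : Subgroup G) (_ : IsCoatom M) (p : ℕ) [Fact p.Prime] (A : Subgroup G) (_ : (A ≤ M ∧ Cfsg.IsElementaryAbelian p A ∧ Nat.card A = p ^ 2)),
    Subgroup.centralizer (A : Set G) ≤ M ∧
      ((∀ A₀ : Subgroup G, A₀ ≤ A → Nat.card A₀ = p →
          ¬ (Subgroup.normalizer (A₀ : Set G) ≤ M ∧ ∀ L : Subgroup G, IsCoatom L → Subgroup.normalizer (A₀ : Set G) ≤ L → L = M)) →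
        p ∈ Cfsg.sigma M ∧ Cfsg.alphaCore M = ⊥ ∧ Group.IsNilpotent (Cfsg.sigmaCore M))

theorem emb_of (h : F1424 G) : Emb G := by
  intro M hM q hq hqσ X hXq hX1 hXM Ms hMs hne hNX S hS hXS
  haveI : Fact q.Prime := ⟨hq⟩
  obtain ⟨P, hP⟩ := hS.exists_sylow
  have hmap : (P : Subgroup ↥(M ⊓ Ms)).map (M ⊓ Ms).subtype = S := by
    rw [hP, Subgroup.map_subgroupOf_eq_of_le hS.le]
  have h1 := h M hM q hqσ X hXq hX1 hXM Ms hMs hne hNX P (by rw [hmap]; exact hXS)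
  rw [hmap] at h1
  exact ⟨h1.1, h1.2.1, hS.le.trans inf_le_right, hS.isPGroup, h1.2.2⟩

theorem tau2_of (h : F1417 G) : Tau2 G := by
  intro M hM p hp hpτ A hAM hAe hAc
  haveI : Fact p.Prime := ⟨hp⟩
  obtain ⟨h1, -, h3, -⟩ := h M hM p hpτ A ⟨hAM, hAe, hAc⟩
  exact ⟨h1, h3⟩

theorem centSq_of (h : F1416 G) : CentSq G := by
  intro M hM p hp A hAM hAe hAc
  haveI : Fact p.Prime := ⟨hp⟩
  exact (h M hM p A ⟨hAM, hAe, hAc⟩).1

/-- **B & G, 12.17**, from the frozen forms of S1424, S1417, S1416 -/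
theorem sigma_jsub' (hG : Cfsg.IsMinSimpleOddOrder G) (h1 : F1424 G) (h2 : F1417 G)
    (h3 : F1416 G) (M : Subgroup G) (hM : IsCoatom M) (Y : Subgroup G) (hY1 : Y ≠ ⊥)
    (hY : ∀ p : ℕ, p.Prime → p ∣ Nat.card Y → p ∈ Cfsg.sigma M) :
    ∃ g : G, Y.map (MulAut.conj g).toMonoidHom ≤ Cfsg.sigmaCore M :=
  sigma_jsub hG (emb_of h1) (tau2_of h2) (centSq_of h3) M hM Y hY1 hY

end Cfsg.Agent.Lib.Helper10.SigmaJsubC
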