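import Mathlib
import Cfsg.Prelude.Def_OddOrderLocal
import Cfsg.Agent.Lib.Helper10.SigmaJsubC
import Cfsg.Agent.Lib.Helper1.BG11.ElevenSevenA
import Cfsg.Agent.Lib.Helper11.BenderR
import Cfsg.Agent.Lib.Helper5.ElemAb
import Cfsg.Agent.Lib.Helper1.BG10.TenFive
import Cfsg.Agent.S1410
import Cfsg.Agent.S1455

set_option autoImplicit false
open scoped commutatorElement

namespace Cfsg.Agent.Lib.Helper10.SigmaJsubD

open Cfsg Cfsg.Agent.Lib Cfsg.Agent.Lib.Helper18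
open Cfsg.Agent.Lib.Helper11.BenderM Cfsg.Agent.Lib.Helper11.BenderN
  Cfsg.Agent.Lib.Helper11.BenderO Cfsg.Agent.Lib.Helper11.BenderE
  Cfsg.Agent.Lib.Helper11.BenderF Cfsg.Agent.Lib.Helper11.BenderD
  Cfsg.Agent.Lib.Helper11.MaxSubB Cfsg.Agent.Lib.Helper11.MaxSubD
  Cfsg.Agent.Lib.Helper1.BG12 Cfsg.Agent.Lib.Helper1.BG11
  Cfsg.Agent.Lib.Helper10.SigmaJsubA Cfsg.Agent.Lib.Helper10.SigmaJsubB
  Cfsg.Agent.Lib.Helper10.SigmaJsubC

variable {G : Type*} [Group G]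

/-- the derived subgroup of `K·D` with `K` normal lies in `K·D'` -/
theorem derived_le_sup (M K D : Subgroup G) (hKn : M ≤ Subgroup.normalizer (K : Set G))
    (hKM : K ≤ M) (hDM : D ≤ M) (hcov : ∀ x ∈ M, ∃ k ∈ K, ∃ d ∈ D, x = k * d) :
    ⁅M, M⁆ ≤ K ⊔ ⁅D, D⁆ := by
  rw [Subgroup.commutator_le]
  intro x hx y hy
  obtain ⟨k₁, hk₁, d₁, hd₁, rfl⟩ := hcov x hx
  obtain ⟨k₂, hk₂, d₂, hd₂, rfl⟩ := hcov y hy
  have hconj : ∀ m ∈ M, ∀ k ∈ K, m * k * m⁻¹ ∈ K := by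
    intro m hm k hk
    exact (Subgroup.mem_normalizer_iff.mp (hKn hm) k).mp hk
  have hd₁M := hDM hd₁
  have hd₂M := hDM hd₂
  have hc : d₁ * d₂ * d₁⁻¹ ∈ M := M.mul_mem (M.mul_mem hd₁M hd₂M) (M.inv_mem hd₁M)
  have he : ⁅d₁, d₂⁆ ∈ M := by
    rw [commutatorElement_def]
    exact M.mul_mem hc (M.inv_mem hd₂M)
  have h1 := hconj d₁ hd₁M k₂ hk₂
  have h2 := hconj _ hc k₁⁻¹ (K.inv_mem hk₁)
  have h3 := hconj _ he k₂⁻¹ (K.inv_mem hk₂)
  have heq : ⁅k₁ * d₁, k₂ * d₂⁆ = (k₁ * (d₁ * k₂ * d₁⁻¹) *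
      (d₁ * d₂ * d₁⁻¹ * k₁⁻¹ * (d₁ * d₂ * d₁⁻¹)⁻¹) * (⁅d₁, d₂⁆ * k₂⁻¹ * ⁅d₁, d₂⁆⁻¹)) * ⁅d₁, d₂⁆ := by
    simp only [commutatorElement_def]
    group
  rw [heq]
  exact Subgroup.mul_mem_sup (K.mul_mem (K.mul_mem (K.mul_mem hk₁ h1) h2) h3)
    (Subgroup.commutator_mem_commutator hd₁ hd₂)

variable [Finite G]

/-- a group of larger prime order type centralizes what it normalizes -/
theorem cent_of_index_primes (L : Subgroup G) (p q : ℕ) [hp : Fact p.Prime] [hq : Fact q.Prime]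
    (hidx : ∀ t : ℕ, t.Prime → t ∣ (opPrimeOf L q).relIndex L → t ≤ q) (hqp : q < p)
    (A : Subgroup G) (hAL : A ≤ L) (hAp : IsPGroup p A) (Q : Subgroup G) (hQL : Q ≤ L)
    (hQ : IsPGroup q Q) (hAQ : A ≤ Subgroup.normalizer (Q : Set G)) :
    Q ≤ Subgroup.centralizer (A : Set G) := by
  have hpn : ¬ p ∣ (opPrimeOf L q).relIndex L := by
    intro hd
    have := hidx p hp.out hd
    omega
  have hAO : A ≤ opPrimeOf L q := by
    apply le_of_normal_coprime L _ A (opPrimeOf_le L q) (le_normalizer_opPrimeOf L q) hAL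
    obtain ⟨k, hk⟩ := IsPGroup.iff_card.mp hAp
    rw [hk]
    apply Nat.Coprime.pow_left
    exact (Nat.Prime.coprime_iff_not_dvd hp.out).mpr hpn
  rw [← Subgroup.commutator_eq_bot_iff_le_centralizer, eq_bot_iff]
  have h1 : ⁅Q, A⁆ ≤ Q ⊓ opPrimeOf L q :=
    le_inf (commutator_le_of_normalizes hAQ)
      (commutator_le_of_normal_in hQL hAO (le_normalizer_opPrimeOf L q))
  have h2 : Q ⊓ opPrimeOf L q = ⊥ := by
    apply Subgroup.inf_eq_bot_of_coprime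
    obtain ⟨k, hk⟩ := IsPGroup.iff_card.mp hQ
    rw [hk]
    apply Nat.Coprime.pow_left
    exact (opPrimeOf_coprime L q).symm
  rwa [h2] at h1

/-- **B & G, 5.6(?)** inside a maximal subgroup, for a prime outside `β(M)` -/
theorem narrow_index_primes (hG : Cfsg.IsMinSimpleOddOrder G) (M : Subgroup G) (hM : IsCoatom M)
    (r : ℕ) [hr : Fact r.Prime] (hrβ : r ∉ Cfsg.beta M) (hrM : r ∣ Nat.card M) :
    ∀ t : ℕ, t.Prime → t ∣ (opPrimeOf M r).relIndex M → t ≤ r := by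
  haveI hMs : Group.IsSolvable ↥M := coatom_solvable hG M hM
  have hModd : Odd (Nat.card ↥M) := coatom_odd hG M
  obtain ⟨S⟩ : Nonempty (Sylow r ↥M) := inferInstance
  have hnar := Cfsg.Agent.Lib.Helper11.BenderR.sylow_narrow hG M hM r hrβ S
  have hpl : Cfsg.PLengthLE r 1 ↥M := Cfsg.Agent.S1410.result hG r M hM.1
  have h := Cfsg.Agent.S1455.result hModd r hrM S hnar (fun _ => hpl)
  intro t ht hd
  unfold opPrimeOf at hd
  rw [relIndex_map_subtype] at hd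
  exact h.1 t ht hd


omit [Finite G] in
theorem mem_sup_of_le_normalizer {K D : Subgroup G} (h : D ≤ Subgroup.normalizer (K : Set G))
    {x : G} (hx : x ∈ K ⊔ D) : ∃ k ∈ K, ∃ d ∈ D, x = k * d := by
  rw [Subgroup.sup_eq_closure] at hx
  induction hx using Subgroup.closure_induction with
  | mem y hy =>
    rcases hy with hk | hd
    · exact ⟨y, hk, 1, D.one_mem, (mul_one y).symm⟩
    · exact ⟨1, K.one_mem, y, hd, (one_mul y).symm⟩
  | one => exact ⟨1, K.one_mem, 1, D.one_mem, (mul_one 1).symm⟩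
  | mul a b _ _ ha hb =>
    obtain ⟨k₁, hk₁, d₁, hd₁, rfl⟩ := ha
    obtain ⟨k₂, hk₂, d₂, hd₂, rfl⟩ := hb
    refine ⟨k₁ * (d₁ * k₂ * d₁⁻¹), K.mul_mem hk₁ ?_, d₁ * d₂, D.mul_mem hd₁ hd₂, by group⟩
    exact (Subgroup.mem_normalizer_iff.mp (h hd₁) k₂).mp hk₂
  | inv a _ ha =>
    obtain ⟨k₁, hk₁, d₁, hd₁, rfl⟩ := ha
    refine ⟨d₁⁻¹ * k₁⁻¹ * d₁⁻¹⁻¹, ?_, d₁⁻¹, D.inv_mem hd₁, by group⟩
    exact (Subgroup.mem_normalizer_iff.mp (h (D.inv_mem hd₁)) k₁⁻¹).mp (K.inv_mem hk₁)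

/-- claim **(G2)**: in the `τ₂` case of 12.17 every prime of `π(M) ∩ σ(M*)` is ideal -/
theorem g2 (hG : Cfsg.IsMinSimpleOddOrder G) (h2 : F1417 G) (h3 : F1416 G)
    (M : Subgroup G) (hM : IsCoatom M) (Ms : Subgroup G) (hMs : IsCoatom Ms)
    (ha : ∀ g : G, Ms ≠ conjSub g M)
    (q : ℕ) [hq : Fact q.Prime] (hqσ : q ∈ Cfsg.sigma M) (hqτ : q ∈ Cfsg.tau2 Ms)
    (A : Subgroup G) (hAM : A ≤ M) (hAMs : A ≤ Ms) (hAe : Cfsg.IsElementaryAbelian q A)
    (hAc : Nat.card A = q ^ 2)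
    (r : ℕ) (hr : r.Prime) (hrM : r ∣ Nat.card M) (hrσ : r ∈ Cfsg.sigma Ms) :
    Cfsg.IsIdealPrime r G := by
  haveI : Fact r.Prime := ⟨hr⟩
  by_contra hni
  obtain ⟨hnil, -, -, hcent, hdisj, -⟩ := h2 Ms hMs q hqτ A ⟨hAMs, hAe, hAc⟩
  have hne : M ≠ Ms := by
    intro h
    apply ha 1
    rw [conjSub_one]
    exact h.symm
  have hdis : Cfsg.sigmaCore Ms ⊓ M = ⊥ := hdisj M hM hne hAM
  have hrβ : r ∉ Cfsg.beta Ms := fun h => hni h.2
  have hqr : q ≠ r := by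
    rintro rfl
    exact hqτ.2.1 hrσ
  have hAp : IsPGroup q A := Helper1.BG10.elemAb_isPGroup hAe
  have hrσM : r ∉ Cfsg.sigma M := by
    intro h
    obtain ⟨g, hg⟩ := conj_of_sigma_sigma_nilp hG Ms M hMs hM hnil r hrσ h
    apply ha g⁻¹
    rw [hg, conjSub_mul]
    simp [conjSub_one]
  -- first half: `q < r`
  have h1 : ¬ r < q := by
    intro hlt
    obtain ⟨R, hR⟩ := exists_good_of_sigma Ms r hrσ
    have hR1 : R ≠ ⊥ := good_ne_bot hR hrσ.2.1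
    have hRσ : R ≤ Cfsg.sigmaCore Ms :=
      pgroup_le_sigmaCore hG Ms hMs r hrσ R hR.1.le hR.1.isPGroup
    have hRin : IsSylowIn r R (Cfsg.sigmaCore Ms) := hR.1.of_le hRσ (sigmaCore_le Ms)
    have hMsR : Ms ≤ Subgroup.normalizer (R : Set G) :=
      sylow_normal_of_nilpotent _ R r hnil hRin Ms (le_normalizer_sigmaCore Ms)
    have hidx := narrow_index_primes hG Ms hMs r hrβ hrσ.2.1
    have hc := cent_of_index_primes Ms q r hidx hlt A hAMs hAp R hR.1.le hR.1.isPGroup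
      (hAMs.trans hMsR)
    have h4 : R ≤ Cfsg.sigmaCore Ms ⊓ Subgroup.centralizer (A : Set G) := le_inf hRσ hc
    rw [hcent] at h4
    exact hR1 (eq_bot_iff.mpr h4)
  have hlt : q < r := by omega
  -- second half
  have hqni : ¬ Cfsg.IsIdealPrime q G :=
    Helper1.BG10.not_ideal_of_nonsigma hG Ms hMs q hqτ.2.1 hqτ.2.2.2
  have hqβ : q ∉ Cfsg.beta M := fun h => hqni h.2
  obtain ⟨Q₀, hQ₀⟩ := exists_good_of_sigma M q hqσ
  obtain ⟨Q, hQ, hAQ⟩ := exists_good_ge hQ₀ A hAM hAp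
  obtain ⟨hHall, -, -⟩ := sigma_hall hG M hM
  set Nσ : Subgroup G := Cfsg.sigmaCore M with hNσ
  have hNσle : Nσ ≤ M := hHall.1
  have hNσn : M ≤ Subgroup.normalizer (Nσ : Set G) := le_normalizer_sigmaCore M
  have hQσ : Q ≤ Nσ := pgroup_le_sigmaCore hG M hM q hqσ Q hQ.1.le hQ.1.isPGroup
  have hQin : IsSylowIn q Q Nσ := hQ.1.of_le hQσ hNσle
  set E : Subgroup G := M ⊓ Subgroup.normalizer (Q : Set G) with hE
  have hfrat : M ≤ E ⊔ Nσ := by
    intro g hg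
    obtain ⟨n, hn, hng⟩ := hQin.frattini (hNσn hg)
    have hngE : n * g ∈ E := Subgroup.mem_inf.mpr ⟨M.mul_mem (hNσle hn) hg, hng⟩
    have e : g = n⁻¹ * (n * g) := by group
    rw [e]
    exact Subgroup.mul_mem _ (Subgroup.mem_sup_right (Subgroup.inv_mem _ hn))
      (Subgroup.mem_sup_left hngE)
  have hsup : E ⊔ Nσ = M := le_antisymm (sup_le inf_le_left hNσle) hfrat
  have hrE : r ∣ Nat.card E := by
    have h5 := Helper18.relIndex_sup_of_le_normalizer E Nσ (inf_le_left.trans hNσn)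
    rw [hsup] at h5
    have h6 : Nat.card E * E.relIndex M = Nat.card M := card_mul_relIndex_of_le inf_le_left
    rw [← h6] at hrM
    rcases (Nat.Prime.dvd_mul hr).mp hrM with h | h
    · exact h
    · exfalso
      rw [h5, ← Subgroup.inf_relIndex_right] at h
      have h7 : r ∣ Nat.card Nσ := h.trans (Subgroup.relIndex_dvd_card _ _)
      exact hrσM (hHall.2.1 r hr h7)
  obtain ⟨x, hx⟩ := exists_prime_orderOf_dvd_card' (G := ↥E) r hrE
  have hxE : (x : G) ∈ E := x.2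
  have hxo : orderOf (x : G) = r := by
    rw [← hx]
    exact (Subgroup.orderOf_coe x)
  set R₁ : Subgroup G := Subgroup.zpowers (x : G) with hR₁
  have hR₁c : Nat.card R₁ = r := by rw [hR₁, Nat.card_zpowers, hxo]
  have hR₁p : IsPGroup r R₁ := IsPGroup.of_card (n := 1) (by rw [hR₁c, pow_one])
  have hR₁E : R₁ ≤ E := by
    rw [hR₁, Subgroup.zpowers_le]
    exact hxE
  have hidx' := narrow_index_primes hG M hM q hqβ hqσ.2.1
  have hc' := cent_of_index_primes M r q hidx' hlt R₁ (hR₁E.trans inf_le_left) hR₁p Q hQ.1.le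
    hQ.1.isPGroup (hR₁E.trans inf_le_right)
  have hxcA : (x : G) ∈ Subgroup.centralizer (A : Set G) := by
    rw [Subgroup.mem_centralizer_iff]
    intro a haA
    have h8 := hc' (hAQ haA)
    rw [Subgroup.mem_centralizer_iff] at h8
    exact (h8 (x : G) (Subgroup.mem_zpowers _)).symm
  have hxMs : (x : G) ∈ Ms := (h3 Ms hMs q A ⟨hAMs, hAe, hAc⟩).1 hxcA
  have hR₁Ms : R₁ ≤ Ms := by
    rw [hR₁, Subgroup.zpowers_le]
    exact hxMs
  have hR₁σ : R₁ ≤ Cfsg.sigmaCore Ms := pgroup_le_sigmaCore hG Ms hMs r hrσ R₁ hR₁Ms hR₁p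
  have hxbot : (x : G) ∈ Cfsg.sigmaCore Ms ⊓ M :=
    Subgroup.mem_inf.mpr ⟨hR₁σ (Subgroup.mem_zpowers _), (inf_le_left : E ≤ M) hxE⟩
  rw [hdis, Subgroup.mem_bot] at hxbot
  rw [hxbot, orderOf_one] at hxo
  exact hr.one_lt.ne hxo

/-- cover, case `q ∈ σ(M*)`: `M* = M*_β (M ∩ M*)` -/
theorem coverA (hG : Cfsg.IsMinSimpleOddOrder G) (M : Subgroup G) (hM : IsCoatom M)
    (q : ℕ) [hq' : Fact q.Prime] (hq : q ∈ Cfsg.sigma M)
    (Ms : Subgroup G) (hMs : IsCoatom Ms) (ha : ∀ g : G, Ms ≠ conjSub g M)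
    (S : Subgroup G) (hb : Subgroup.normalizer (S : Set G) ≤ M) (hc : IsSylowIn q S Ms)
    (hqs : q ∈ Cfsg.sigma Ms) :
    ∃ K : Subgroup G, K ≤ Ms ∧ Ms ≤ Subgroup.normalizer (K : Set G) ∧
      (∀ t : ℕ, t.Prime → t ∣ Nat.card K → t ∣ Nat.card M → Cfsg.IsIdealPrime t G) ∧
      ∀ x ∈ Ms, ∃ k ∈ K, ∃ d ∈ M ⊓ Ms, x = k * d := by
  obtain ⟨S₁, hS₁⟩ := exists_good_of_sigma Ms q hqs
  obtain ⟨S', hS'good, hSS'⟩ := exists_good_ge hS₁ S hc.le hc.isPGroup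
  have hS'eq : S' = S := hc.eq_of_le hS'good.1.le hS'good.1.isPGroup hSS'
  rw [hS'eq] at hS'good
  have hSder : S ≤ ⁅Ms, Ms⁆ := sylow_le_derived hG Ms hMs q S hS'good
  obtain ⟨hB, -, ⟨T, hT, hTnil⟩, -, -⟩ := Cfsg.Agent.S1414.result hG Ms hMs
  have hnotβ : ∀ r, r ∈ Cfsg.sigma M → r ∉ Cfsg.beta Ms := by
    intro r hrM hrβ
    obtain ⟨g, hg⟩ := conj_of_alpha_sigma hG Ms M hMs hM r hrβ.1 hrM
    apply ha g⁻¹
    rw [hg, conjSub_mul]
    simp [conjSub_one]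
  have hder_le : ⁅Ms, Ms⁆ ≤ Ms := derived_le Ms
  have hSder' : IsSylowIn q S ⁅Ms, Ms⁆ := hc.of_le hSder hder_le
  obtain ⟨PT⟩ : Nonempty (Sylow q ↥T) := inferInstance
  have hST : IsSylowIn q ((PT : Subgroup ↥T).map T.subtype) T := isSylowIn_of_sylow PT
  set S_T : Subgroup G := (PT : Subgroup ↥T).map T.subtype with hS_T
  have hST' : IsSylowIn q S_T ⁅Ms, Ms⁆ := by
    refine ⟨hST.le.trans hT.1, hST.isPGroup, ?_⟩
    rw [← Subgroup.relIndex_mul_relIndex S_T T ⁅Ms, Ms⁆ hST.le hT.1]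
    intro hd
    rcases (Nat.Prime.dvd_mul hq'.out).mp hd with h | h
    · exact hST.not_dvd h
    · exact hT.2.2 q hq'.out ⟨hq'.out, hnotβ q hq⟩ h
  obtain ⟨x, hx, hle⟩ := hSder'.exists_conj_le hST'.le hST'.isPGroup
  have heq : conjSub x S_T = S := by
    apply Subgroup.eq_of_le_of_card_ge hle
    rw [card_conjSub]
    exact (hSder'.card_eq hST').le
  set T' : Subgroup G := conjSub x T with hT'
  have hT'le : T' ≤ ⁅Ms, Ms⁆ := conjSub_le_of_mem hT.1 hx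
  have hST'' : S ≤ T' := by
    rw [← heq]
    exact conjSub_mono hST.le
  have hnil' : Group.IsNilpotent ↥T' := by
    haveI := hTnil
    exact Group.nilpotent_of_mulEquiv
      (T.equivMapOfInjective (MulAut.conj x).toMonoidHom (MulAut.conj x).injective)
  have hSylT' : IsSylowIn q S T' := hSder'.of_le hST'' hT'le
  have hT'N : T' ≤ Subgroup.normalizer (S : Set G) :=
    sylow_normal_of_nilpotent T' S q hnil' hSylT' T' Subgroup.le_normalizer
  set D : Subgroup G := Ms ⊓ Subgroup.normalizer (S : Set G) with hD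
  have hDM : D ≤ M := inf_le_right.trans hb
  have hMsder : Ms ≤ Subgroup.normalizer ((⁅Ms, Ms⁆ : Subgroup G) : Set G) := le_normalizer_derived Ms
  -- Frattini: `Ms = Ms' ⊔ D`
  have hfrat : Ms ≤ D ⊔ ⁅Ms, Ms⁆ := by
    intro g hg
    obtain ⟨n, hn, hng⟩ := hSder'.frattini (hMsder hg)
    have hngD : n * g ∈ D := Subgroup.mem_inf.mpr ⟨Ms.mul_mem (hder_le hn) hg, hng⟩
    have e : g = n⁻¹ * (n * g) := by group
    rw [e]
    exact Subgroup.mul_mem _ (Subgroup.mem_sup_right (Subgroup.inv_mem _ hn))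
      (Subgroup.mem_sup_left hngD)
  have hsup : D ⊔ ⁅Ms, Ms⁆ = Ms := le_antisymm (sup_le inf_le_left hder_le) hfrat
  have hidx1 : D.relIndex Ms = (D ⊓ ⁅Ms, Ms⁆).relIndex ⁅Ms, Ms⁆ := by
    have h1 := Helper18.relIndex_sup_of_le_normalizer D ⁅Ms, Ms⁆ (inf_le_left.trans hMsder)
    rw [hsup] at h1
    rw [h1, Subgroup.inf_relIndex_right]
  have hT'D : T' ≤ D ⊓ ⁅Ms, Ms⁆ :=
    le_inf (le_inf (hT'le.trans hder_le) hT'N) hT'le
  have hidx2 : D.relIndex Ms ∣ T.relIndex ⁅Ms, Ms⁆ := by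
    rw [hidx1]
    have h1 : (D ⊓ ⁅Ms, Ms⁆).relIndex ⁅Ms, Ms⁆ ∣ T'.relIndex ⁅Ms, Ms⁆ :=
      Subgroup.relIndex_dvd_of_le_left _ hT'D
    have h2 : T'.relIndex ⁅Ms, Ms⁆ = T.relIndex ⁅Ms, Ms⁆ := by
      have h3 := Subgroup.relIndex_map_map_of_injective T ⁅Ms, Ms⁆
        (f := (MulAut.conj x).toMonoidHom) (MulAut.conj x).injective
      have h4 : (⁅Ms, Ms⁆ : Subgroup G).map (MulAut.conj x).toMonoidHom = ⁅Ms, Ms⁆ :=
        conjSub_eq_of_mem_normalizer (Subgroup.le_normalizer hx)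
      rw [h4] at h3
      exact h3
    rwa [h2] at h1
  set B : Subgroup G := Cfsg.piCoreOf (Cfsg.beta Ms) Ms with hBdef
  have hDprimes : ∀ p : ℕ, p.Prime → p ∣ D.relIndex Ms → p ∣ Nat.card B := by
    intro p hp hpd
    have hpβ : p ∈ Cfsg.beta Ms := by
      by_contra hnb
      exact hT.2.2 p hp ⟨hp, hnb⟩ (hpd.trans hidx2)
    have hpMs : p ∣ Nat.card Ms := hpd.trans (Subgroup.relIndex_dvd_card D Ms)
    rw [← card_mul_relIndex_of_le hB.1] at hpMs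
    rcases (Nat.Prime.dvd_mul hp).mp hpMs with h | h
    · exact h
    · exact absurd h (hB.2.2 p hp hpβ)
  have hcopB : (Nat.card B).Coprime (B.relIndex Ms) := by
    apply Nat.coprime_of_dvd
    intro p hp hp1 hp2
    exact hB.2.2 p hp (hB.2.1 p hp hp1) hp2
  have hBn : Ms ≤ Subgroup.normalizer (B : Set G) := map_normal_le_normalizer Ms _
  have hBD : Ms ≤ B ⊔ D := by
    have h1 : (B ⊔ D).relIndex Ms = 1 := by
      by_contra hne1
      obtain ⟨t, ht, htd⟩ := Nat.exists_prime_and_dvd hne1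
      have h2 : t ∣ D.relIndex Ms := htd.trans (Subgroup.relIndex_dvd_of_le_left Ms le_sup_right)
      have h3 : t ∣ B.relIndex Ms := htd.trans (Subgroup.relIndex_dvd_of_le_left Ms le_sup_left)
      have h4 := hDprimes t ht h2
      exact (Nat.Prime.coprime_iff_not_dvd ht).mp
        (Nat.Coprime.coprime_dvd_left h4 hcopB) h3
    exact Subgroup.relIndex_eq_one.mp h1
  refine ⟨B, hB.1, hBn, ?_, ?_⟩
  · intro t ht htd _
    exact (hB.2.1 t ht htd).2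
  · intro x hx
    obtain ⟨k, hk, d, hd, rfl⟩ := mem_sup_of_le_normalizer (inf_le_left.trans hBn) (hBD hx)
    exact ⟨k, hk, d, Subgroup.mem_inf.mpr ⟨hDM hd, (inf_le_left : D ≤ Ms) hd⟩, rfl⟩

/-- cover, case `q ∉ σ(M*)`: `M* = M*_σ (M ∩ M*)` -/
theorem coverB (hG : Cfsg.IsMinSimpleOddOrder G) (h2 : F1417 G) (h3 : F1416 G)
    (M : Subgroup G) (hM : IsCoatom M)
    (q : ℕ) [hq' : Fact q.Prime] (hq : q ∈ Cfsg.sigma M)
    (X : Subgroup G) (hXq : IsPGroup q X) (hX1 : X ≠ ⊥)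
    (Ms : Subgroup G) (hMs : IsCoatom Ms) (hNMs : Subgroup.normalizer (X : Set G) ≤ Ms)
    (ha : ∀ g : G, Ms ≠ conjSub g M)
    (S : Subgroup G) (hSM : S ≤ M) (hXS : X ≤ S) (hc : IsSylowIn q S Ms)
    (hqs : q ∉ Cfsg.sigma Ms) :
    ∃ K : Subgroup G, K ≤ Ms ∧ Ms ≤ Subgroup.normalizer (K : Set G) ∧
      (∀ t : ℕ, t.Prime → t ∣ Nat.card K → t ∣ Nat.card M → Cfsg.IsIdealPrime t G) ∧
      ∀ x ∈ Ms, ∃ k ∈ K, ∃ d ∈ M ⊓ Ms, x = k * d := by
  have hq2 : q ≠ 2 := odd_prime_of_pgroup hG q X hX1 hXq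
  have hS1 : S ≠ ⊥ := by
    intro h
    apply hX1
    rw [eq_bot_iff, ← h]
    exact hXS
  have hSnc : ¬ IsCyclic S := by
    intro hcyc
    have hN : Subgroup.normalizer (S : Set G) ≤ Ms :=
      (normalizer_le_of_cyclic hcyc hXS).trans hNMs
    exact hqs (sigma_of_good Ms q S (good_of_sigma Ms q S hc hN) hS1)
  obtain ⟨A, hAS, -, hAe, hAc⟩ := exists_normal_sq q hq2 S hc.isPGroup hSnc
  have hAM : A ≤ M := hAS.trans hSM
  have hAMs : A ≤ Ms := hAS.trans hc.le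
  have hAp : IsPGroup q A := Helper1.BG10.elemAb_isPGroup hAe
  have hA1 : A ≠ ⊥ := by
    intro h
    rw [h, Subgroup.card_bot] at hAc
    have : 1 < q ^ 2 := Nat.one_lt_pow (by norm_num) hq'.out.one_lt
    omega
  have hr1 : ¬ Cfsg.PRankLE q 1 Ms := by
    intro h
    have h1 := h (A.subgroupOf Ms) ?_ ?_
    · rw [Helper5.card_subgroupOf_of_le hAMs, hAc] at h1
      have : q ^ 1 < q ^ 2 := Nat.pow_lt_pow_right hq'.out.one_lt (by norm_num)
      omega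
    · refine ⟨⟨fun a b => ?_⟩⟩
      apply Subtype.ext
      apply Subtype.ext
      have := hAe.1.is_comm.comm ⟨(a : Ms), a.2⟩ ⟨(b : Ms), b.2⟩
      exact congrArg (fun t : ↥A => (t : G)) this
    · intro a ha
      apply Subtype.ext
      have := hAe.2 (a : G) ha
      simpa using this
  have hr2 : Cfsg.PRankLE q 2 Ms := by
    by_contra h
    exact hqs (alpha_sub_sigma hG Ms hMs q ⟨hq'.out, h⟩)
  have htau : q ∈ Cfsg.tau2 Ms := ⟨hq'.out, hqs, hr2, hr1⟩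
  obtain ⟨hnil, -, hnorm, -⟩ := h2 Ms hMs q htau A ⟨hAMs, hAe, hAc⟩
  have hCA : Subgroup.centralizer (A : Set G) ≤ M := (h3 M hM q A ⟨hAM, hAe, hAc⟩).1
  have hNA : Subgroup.normalizer (A : Set G) ≤ M := by
    rw [(sigma_fusion hG M hM q hq A hAp hA1 hAM).2]
    exact sup_le inf_le_left hCA
  set Nσ : Subgroup G := Cfsg.sigmaCore Ms with hNσ
  set E : Subgroup G := Ms ⊓ Subgroup.normalizer (A : Set G) with hE
  have hEM : E ≤ M := inf_le_right.trans hNA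
  obtain ⟨hHall, -, -⟩ := sigma_hall hG Ms hMs
  have hNσle : Nσ ≤ Ms := hHall.1
  have hNσn : Ms ≤ Subgroup.normalizer (Nσ : Set G) := le_normalizer_sigmaCore Ms
  -- `A` is a Sylow `q`-subgroup of `Nσ ⊔ A`
  have hqN : ¬ q ∣ Nat.card Nσ := fun h => hqs (hHall.2.1 q hq'.out h)
  have hASyl : IsSylowIn q A (Nσ ⊔ A) := by
    refine ⟨le_sup_right, hAp, ?_⟩
    have h1 := Helper18.relIndex_sup_of_le_normalizer A Nσ (hAMs.trans hNσn)
    rw [sup_comm] at h1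
    rw [h1, ← Subgroup.inf_relIndex_right]
    intro hd
    exact hqN (hd.trans (Subgroup.relIndex_dvd_card _ _))
  have hfrat : Ms ≤ E ⊔ Nσ := by
    intro g hg
    obtain ⟨n, hn, hng⟩ := hASyl.frattini (hnorm hg)
    have hnMs : n ∈ Ms := (sup_le hNσle hAMs) hn
    have hngE : n * g ∈ E := Subgroup.mem_inf.mpr ⟨Ms.mul_mem hnMs hg, hng⟩
    have hAE : A ≤ E := le_inf hAMs Subgroup.le_normalizer
    have hn' : n⁻¹ ∈ E ⊔ Nσ :=
      Subgroup.inv_mem _ ((sup_le le_sup_right (hAE.trans le_sup_left)) hn)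
    have e : g = n⁻¹ * (n * g) := by group
    rw [e]
    exact Subgroup.mul_mem _ hn' (Subgroup.mem_sup_left hngE)
  have hsup : E ⊔ Nσ = Ms := le_antisymm (sup_le inf_le_left hNσle) hfrat
  refine ⟨Nσ, hNσle, hNσn, ?_, ?_⟩
  · intro t ht htd htM
    exact g2 hG h2 h3 M hM Ms hMs ha q hq htau A hAM hAMs hAe hAc t ht htM (hHall.2.1 t ht htd)
  · intro x hx
    have hx' : x ∈ Nσ ⊔ E := by
      rw [sup_comm, hsup]
      exact hx
    obtain ⟨k, hk, d, hd, rfl⟩ := mem_sup_of_le_normalizer (inf_le_left.trans hNσn) hx'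
    exact ⟨k, hk, d, Subgroup.mem_inf.mpr ⟨hEM hd, (inf_le_left : E ≤ Ms) hd⟩, rfl⟩


omit [Finite G] in
theorem not_pRankLE_of_elemAb' {p k : ℕ} {Z M : Subgroup G} (hZM : Z ≤ M)
    (hZ : Cfsg.IsElementaryAbelian p Z) (hc : p ^ k < Nat.card Z) : ¬ Cfsg.PRankLE p k ↥M := by
  intro h
  have h1 := Cfsg.Agent.Lib.Helper5.elemAb_comap_of_injective M.subtype
    (Subgroup.subtype_injective _) hZ
  have h2 := h _ h1.1 h1.2
  have h3 : Nat.card (Z.comap M.subtype) = Nat.card Z :=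
    Cfsg.Agent.Lib.Helper5.card_subgroupOf_of_le hZM
  rw [h3] at h2
  omega

/-- the counting step of **B & G, 12.17(b),(c)** -/
theorem key (hG : Cfsg.IsMinSimpleOddOrder G) (h2 : F1417 G) (M : Subgroup G) (hM : IsCoatom M)
    (L K Mstar : Subgroup G) (hMstar : IsCoatom Mstar) (hne : Mstar ≠ M) (hLM : L ≤ Mstar)
    (hKL : K ≤ L) (hKn : L ≤ Subgroup.normalizer (K : Set G))
    (hcov : ∀ x ∈ L, ∃ k ∈ K, ∃ d ∈ M ⊓ L, x = k * d)
    (hX : Cfsg.sigmaCore M ⊓ Mstar ≠ ⊥) (p : ℕ) [hp : Fact p.Prime] (hpσ : p ∉ Cfsg.sigma M)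
    (hpK : ¬ p ∣ Nat.card K) :
    Cfsg.PRankLE p 1 ↥L ∧ (p ∈ Cfsg.tau1 M → ¬ p ∣ Nat.card ↥⁅L, L⁆) := by
  set D : Subgroup G := M ⊓ L with hD
  have hDL : D ≤ L := inf_le_right
  have hDM : D ≤ M := inf_le_left
  have hDK : D ≤ Subgroup.normalizer (K : Set G) := hDL.trans hKn
  have hsup : D ⊔ K = L := by
    apply le_antisymm (sup_le hDL hKL)
    intro x hx
    obtain ⟨k, hk, d, hd, rfl⟩ := hcov x hx
    exact Subgroup.mul_mem _ (Subgroup.mem_sup_right hk) (Subgroup.mem_sup_left hd)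
  have hpDL : ¬ p ∣ D.relIndex L := by
    intro hd
    have h5 := Helper18.relIndex_sup_of_le_normalizer D K hDK
    rw [hsup] at h5
    rw [h5, ← Subgroup.inf_relIndex_right] at hd
    exact hpK (hd.trans (Subgroup.relIndex_dvd_card _ _))
  constructor
  · by_contra hr1
    obtain ⟨A₀, hA₀L, hA₀e, hA₀c⟩ :=
      Helper1.BG10.exists_elemAb_sq_of_not_pRankLE_one p L hr1
    obtain ⟨PD⟩ : Nonempty (Sylow p ↥D) := inferInstance
    have hPD : IsSylowIn p ((PD : Subgroup ↥D).map D.subtype) D := isSylowIn_of_sylow PD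
    set P : Subgroup G := (PD : Subgroup ↥D).map D.subtype with hP
    have hPL : IsSylowIn p P L := by
      refine ⟨hPD.le.trans hDL, hPD.isPGroup, ?_⟩
      rw [← Subgroup.relIndex_mul_relIndex P D L hPD.le hDL]
      intro hd
      rcases (Nat.Prime.dvd_mul hp.out).mp hd with h | h
      · exact hPD.not_dvd h
      · exact hpDL h
    obtain ⟨x, hx, hle⟩ := hPL.exists_conj_le hA₀L (Helper1.BG10.elemAb_isPGroup hA₀e)
    set A₁ : Subgroup G := conjSub x A₀ with hA₁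
    have hA₁D : A₁ ≤ D := hle.trans hPD.le
    have hA₁e : Cfsg.IsElementaryAbelian p A₁ := elemAb_conjSub p x hA₀e
    have hA₁c : Nat.card A₁ = p ^ 2 := by rw [hA₁, card_conjSub, hA₀c]
    have hr1M : ¬ Cfsg.PRankLE p 1 ↥M := by
      apply not_pRankLE_of_elemAb' (hA₁D.trans hDM) hA₁e
      rw [hA₁c]
      exact Nat.pow_lt_pow_right hp.out.one_lt (by norm_num)
    have hτ : p ∈ Cfsg.tau2 M := ⟨hp.out, hpσ, pRankLE_of_not_sigma hG M hM p hpσ, hr1M⟩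
    obtain ⟨-, -, -, -, hdisj, -⟩ := h2 M hM p hτ A₁ ⟨hA₁D.trans hDM, hA₁e, hA₁c⟩
    exact hX (hdisj Mstar hMstar hne ((hA₁D.trans hDL).trans hLM))
  · intro hτ1
    have hpM' : ¬ p ∣ Nat.card ↥⁅M, M⁆ := hτ1.2.2.2.1
    have h5 : ⁅L, L⁆ ≤ K ⊔ ⁅D, D⁆ := derived_le_sup L K D hKn hKL hDL (by
      intro x hx
      obtain ⟨k, hk, d, hd, rfl⟩ := hcov x hx
      exact ⟨k, hk, d, hd, rfl⟩)
    have hDD : ⁅D, D⁆ ≤ ⁅M, M⁆ := Subgroup.commutator_mono hDM hDM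
    have hpDD : ¬ p ∣ Nat.card ↥⁅D, D⁆ := fun h => hpM' (h.trans (Subgroup.card_dvd_of_le hDD))
    have hDDn : ⁅D, D⁆ ≤ Subgroup.normalizer (K : Set G) :=
      ((Helper1.BG12.derived_le D).trans hDL).trans hKn
    intro hd
    have h6 : p ∣ Nat.card ↥(⁅D, D⁆ ⊔ K) := by
      rw [sup_comm]
      exact hd.trans (Subgroup.card_dvd_of_le h5)
    have h7 : Nat.card ↥⁅D, D⁆ * (⁅D, D⁆).relIndex (⁅D, D⁆ ⊔ K) = Nat.card ↥(⁅D, D⁆ ⊔ K) :=
      card_mul_relIndex_of_le le_sup_left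
    rw [← h7, Helper18.relIndex_sup_of_le_normalizer _ K hDDn] at h6
    rcases (Nat.Prime.dvd_mul hp.out).mp h6 with h | h
    · exact hpDD h
    · rw [← Subgroup.inf_relIndex_right] at h
      exact hpK (h.trans (Subgroup.relIndex_dvd_card _ _))

/-- a nontrivial solvable normal subgroup contains a nontrivial normal `q`-subgroup -/
theorem exists_normal_pgroup_le {Γ : Type*} [Group Γ] [Finite Γ] (Y : Subgroup Γ) [hYn : Y.Normal]
    (hs : Group.IsSolvable ↥Y) (hne : Y ≠ ⊥) :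
    ∃ (q : ℕ) (N : Subgroup Γ), q.Prime ∧ N.Normal ∧ N ≠ ⊥ ∧ IsPGroup q N ∧ N ≤ Y := by
  classical
  haveI : Nontrivial ↥Y := (Subgroup.nontrivial_iff_ne_bot Y).mpr hne
  obtain ⟨n, hn⟩ := hs.solvable
  have hex : ∃ n, derivedSeries ↥Y n = ⊥ := ⟨n, hn⟩
  have hm1 : derivedSeries ↥Y (Nat.find hex) = ⊥ := Nat.find_spec hex
  have hm0 : Nat.find hex ≠ 0 := by
    intro h0
    rw [h0, derivedSeries_zero] at hm1
    exact top_ne_bot hm1
  obtain ⟨k, hk⟩ := Nat.exists_eq_succ_of_ne_zero hm0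
  have hk1 : derivedSeries ↥Y k ≠ ⊥ := by
    intro h
    have := Nat.find_min' hex h
    omega
  obtain ⟨A, hA⟩ : ∃ A : Subgroup ↥Y, A = derivedSeries ↥Y k := ⟨_, rfl⟩
  haveI hAchar : A.Characteristic := hA ▸ derivedSeries_characteristic (G := ↥Y) k
  have hAc : ⁅A, A⁆ = ⊥ := by
    rw [hA, ← derivedSeries_succ]
    rw [hk] at hm1; exact hm1
  have hA1 : A ≠ ⊥ := hA ▸ hk1
  set A' : Subgroup Γ := A.map Y.subtype with hA'
  haveI hA'n : A'.Normal := ConjAct.normal_of_characteristic_of_normal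
  have hA'Y : A' ≤ Y := Subgroup.map_subtype_le _
  have hA'1 : A' ≠ ⊥ := by
    intro h
    apply hA1
    rwa [hA', Subgroup.map_eq_bot_iff_of_injective _ Y.subtype_injective] at h
  have hA'comm : ∀ a b : ↥A', a * b = b * a := by
    rintro ⟨_, a, ha, rfl⟩ ⟨_, b, hb, rfl⟩
    have h1 : ⁅a, b⁆ ∈ ⁅A, A⁆ := Subgroup.commutator_mem_commutator ha hb
    rw [hAc, Subgroup.mem_bot, commutatorElement_eq_one_iff_mul_comm] at h1
    apply Subtype.ext
    show Y.subtype a * Y.subtype b = Y.subtype b * Y.subtype a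
    rw [← map_mul, ← map_mul, h1]
  have hcard : 1 < Nat.card ↥A' := by
    rw [Subgroup.one_lt_card_iff_ne_bot]; exact hA'1
  obtain ⟨q, hq, hqd⟩ := Nat.exists_prime_and_dvd (Nat.ne_of_gt hcard)
  haveI : Fact q.Prime := ⟨hq⟩
  let Q : Sylow q ↥A' := default
  have hQn : (Q : Subgroup ↥A').Normal := ⟨fun x hx g => by
    rw [hA'comm g x, mul_inv_cancel_right]; exact hx⟩
  haveI hQc : (Q : Subgroup ↥A').Characteristic := Sylow.characteristic_of_normal Q hQn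
  refine ⟨q, (Q : Subgroup ↥A').map A'.subtype, hq, ?_, ?_, Q.2.map _, ?_⟩
  · exact ConjAct.normal_of_characteristic_of_normal
  · intro h
    rw [Subgroup.map_eq_bot_iff_of_injective _ A'.subtype_injective] at h
    exact Q.ne_bot_of_dvd_card hqd h
  · exact (Subgroup.map_subtype_le _).trans hA'Y


/-- **B & G, 12.17(b),(c)** for `Y ≤ M_σ` -/
theorem b_aux (hG : Cfsg.IsMinSimpleOddOrder G) (h1 : F1424 G) (h2 : F1417 G) (h3 : F1416 G)
    (M : Subgroup G) (hM : IsCoatom M) (Y : Subgroup G) (hY1 : Y ≠ ⊥)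
    (hYσ : Y ≤ Cfsg.sigmaCore M) (H : Subgroup G) (hH : IsCoatom H) (hYH : Y ≤ H)
    (hnc : ∀ g : G, H ≠ conjSub g M)
    (p : ℕ) [hp : Fact p.Prime] (hpM : p ∣ Nat.card M) (hpσ : p ∉ Cfsg.sigma M)
    (hpi : ¬ Cfsg.IsIdealPrime p G) :
    Cfsg.PRankLE p 1 ↥(H ⊓ Subgroup.normalizer (Y : Set G)) ∧
      (p ∈ Cfsg.tau1 M → ¬ p ∣ Nat.card ↥⁅H ⊓ Subgroup.normalizer (Y : Set G),
        H ⊓ Subgroup.normalizer (Y : Set G)⁆) := by
  have hσM : Cfsg.sigmaCore M ≤ M := sigmaCore_le M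
  have hYtop : Y ≠ ⊤ := by
    rintro rfl
    apply hM.1
    rw [eq_top_iff]
    exact hYσ.trans hσM
  set NY : Subgroup G := Subgroup.normalizer (Y : Set G) with hNY
  have hNYtop : NY ≠ ⊤ := Helper1.BG10.normalizer_ne_top hG hY1 hYtop
  haveI hNYs : Group.IsSolvable ↥NY := hG.2.2.2 NY hNYtop
  have hYNY : Y ≤ NY := Subgroup.le_normalizer
  haveI hY₁n : (Y.subgroupOf NY).Normal := Subgroup.normal_in_normalizer
  have hY₁1 : Y.subgroupOf NY ≠ ⊥ := by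
    intro h
    apply hY1
    rw [eq_bot_iff]
    intro y hy
    have : (⟨y, hYNY hy⟩ : ↥NY) ∈ Y.subgroupOf NY := Subgroup.mem_subgroupOf.mpr hy
    rw [h, Subgroup.mem_bot] at this
    rw [Subgroup.mem_bot]
    exact congrArg Subtype.val this
  obtain ⟨q, N₁, hq, hN₁n, hN₁1, hN₁q, hN₁Y⟩ :=
    exists_normal_pgroup_le (Y.subgroupOf NY) inferInstance hY₁1
  haveI : Fact q.Prime := ⟨hq⟩
  set X : Subgroup G := N₁.map NY.subtype with hX
  have hXY : X ≤ Y := by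
    rintro _ ⟨x, hx, rfl⟩
    exact Subgroup.mem_subgroupOf.mp (hN₁Y hx)
  have hXq : IsPGroup q X := hN₁q.map _
  have hX1 : X ≠ ⊥ := by
    intro h
    apply hN₁1
    rwa [hX, Subgroup.map_eq_bot_iff_of_injective _ NY.subtype_injective] at h
  have hNYX : NY ≤ Subgroup.normalizer (X : Set G) := map_normal_le_normalizer NY N₁
  have hXσ : X ≤ Cfsg.sigmaCore M := hXY.trans hYσ
  have hXM : X ≤ M := hXσ.trans hσM
  have hqσ : q ∈ Cfsg.sigma M :=
    sigmaCore_primes hG M hM q hq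
      ((dvd_card_of_pgroup_ne_bot hXq hX1).trans (Subgroup.card_dvd_of_le hXσ))
  set N : Subgroup G := H ⊓ NY with hN
  have hN_X : N ≤ Subgroup.normalizer (X : Set G) := inf_le_right.trans hNYX
  have hHM : H ≠ M := by
    intro h
    apply hnc 1
    rw [conjSub_one]
    exact h
  by_cases hNX : Subgroup.normalizer (X : Set G) ≤ M
  · -- case 1
    have hXH : Cfsg.sigmaCore M ⊓ H ≠ ⊥ := by
      intro h
      apply hX1
      rw [eq_bot_iff, ← h]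
      exact le_inf hXσ (hXY.trans hYH)
    refine key hG h2 M hM N ⊥ H hH hHM inf_le_left bot_le ?_ ?_ hXH p hpσ ?_
    · intro x _
      rw [Subgroup.mem_normalizer_iff]
      intro y
      simp only [Subgroup.mem_bot]
      constructor
      · rintro rfl
        group
      · intro h
        have e : y = x⁻¹ * (x * y * x⁻¹) * x := by group
        rw [e, h]
        group
    · intro x hx
      exact ⟨1, Subgroup.one_mem _, x, Subgroup.mem_inf.mpr ⟨hNX (hN_X hx), hx⟩, (one_mul x).symm⟩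
    · rw [Subgroup.card_bot]
      exact hp.out.not_dvd_one
  · -- case 2
    have hXtop : X ≠ ⊤ := pgroup_ne_top hG q X hXq
    have hNtop := Helper1.BG10.normalizer_ne_top hG hX1 hXtop
    obtain ⟨Ms, hMs, hNMs⟩ := exists_coatom_ge _ hNtop
    have hne : Ms ≠ M := by
      rintro rfl
      exact hNX hNMs
    have hXMs : X ≤ Ms := Subgroup.le_normalizer.trans hNMs
    have hXI : X ≤ M ⊓ Ms := le_inf hXM hXMs
    have hXp' : IsPGroup q (X.subgroupOf (M ⊓ Ms)) := hXq.comap_subtype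
    obtain ⟨P, hP⟩ := hXp'.exists_le_sylow
    have hS : IsSylowIn q ((P : Subgroup ↥(M ⊓ Ms)).map (M ⊓ Ms).subtype) (M ⊓ Ms) :=
      isSylowIn_of_sylow P
    set S : Subgroup G := (P : Subgroup ↥(M ⊓ Ms)).map (M ⊓ Ms).subtype with hSdef
    have hXS : X ≤ S := by
      intro x hx
      exact ⟨⟨x, hXI hx⟩, hP (Subgroup.mem_subgroupOf.mpr hx), rfl⟩
    obtain ⟨ha, hb, hc⟩ := emb_of h1 M hM q hq hqσ X hXq hX1 hXM Ms hMs hne hNMs S hS hXS
    have hcover : ∃ K : Subgroup G, K ≤ Ms ∧ Ms ≤ Subgroup.normalizer (K : Set G) ∧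
        (∀ t : ℕ, t.Prime → t ∣ Nat.card K → t ∣ Nat.card M → Cfsg.IsIdealPrime t G) ∧
        ∀ x ∈ Ms, ∃ k ∈ K, ∃ d ∈ M ⊓ Ms, x = k * d := by
      by_cases hqs : q ∈ Cfsg.sigma Ms
      · exact coverA hG M hM q hqσ Ms hMs ha S hb hc hqs
      · exact coverB hG h2 h3 M hM q hqσ X hXq hX1 Ms hMs hNMs ha S
          (hS.le.trans inf_le_left) hXS hc hqs
    obtain ⟨K, hKMs, hKn, hKid, hcov⟩ := hcover
    have hpK : ¬ p ∣ Nat.card K := fun h => hpi (hKid p hp.out h hpM)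
    have hXMs' : Cfsg.sigmaCore M ⊓ Ms ≠ ⊥ := by
      intro h
      apply hX1
      rw [eq_bot_iff, ← h]
      exact le_inf hXσ hXMs
    obtain ⟨hr, hd⟩ := key hG h2 M hM Ms K Ms hMs hne le_rfl hKMs hKn hcov hXMs' p hpσ hpK
    have hNMs' : N ≤ Ms := hN_X.trans hNMs
    refine ⟨pRankLE_of_le hNMs' hr, ?_⟩
    intro hτ hdvd
    exact hd hτ (hdvd.trans (Subgroup.card_dvd_of_le (Subgroup.commutator_mono hNMs' hNMs')))

/-- **B & G, 12.17(b),(c)** (`sigma_Jsub`, second part), from the frozen forms of S1424, S1417,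
S1416 -/
theorem twelve_seventeen_b (hG : Cfsg.IsMinSimpleOddOrder G) (h1 : F1424 G) (h2 : F1417 G)
    (h3 : F1416 G) (M : Subgroup G) (hM : IsCoatom M) (Y : Subgroup G) (hY1 : Y ≠ ⊥)
    (hY : ∀ p : ℕ, p.Prime → p ∣ Nat.card Y → p ∈ Cfsg.sigma M)
    (H : Subgroup G) (hH : IsCoatom H) (hYH : Y ≤ H) (hnc : ∀ g : G, H ≠ conjSub g M)
    (p : ℕ) [hp : Fact p.Prime] (hpM : p ∣ Nat.card M) (hpσ : p ∉ Cfsg.sigma M)
    (hpi : ¬ Cfsg.IsIdealPrime p G) :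
    Cfsg.PRankLE p 1 ↥(H ⊓ Subgroup.normalizer (Y : Set G)) ∧
      (p ∈ Cfsg.tau1 M → ¬ p ∣ Nat.card ↥⁅H ⊓ Subgroup.normalizer (Y : Set G),
        H ⊓ Subgroup.normalizer (Y : Set G)⁆) := by
  obtain ⟨g, hg⟩ := sigma_jsub' hG h1 h2 h3 M hM Y hY1 hY
  change conjSub g Y ≤ Cfsg.sigmaCore M at hg
  have hY1' : conjSub g Y ≠ ⊥ := by
    intro h
    apply hY1
    rw [← Subgroup.card_eq_one] at h ⊢
    rwa [card_conjSub] at h
  have hnc' : ∀ g' : G, conjSub g H ≠ conjSub g' M := by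
    intro g' h
    apply hnc (g⁻¹ * g')
    rw [← conjSub_mul, ← h, conjSub_mul, inv_mul_cancel, conjSub_one]
  obtain ⟨hr, hd⟩ := b_aux hG h1 h2 h3 M hM (conjSub g Y) hY1' hg (conjSub g H)
    (isCoatom_conjSub g hH) (conjSub_mono hYH) hnc' p hpM hpσ hpi
  set N : Subgroup G := H ⊓ Subgroup.normalizer (Y : Set G) with hN
  have hle : conjSub g N ≤ conjSub g H ⊓ Subgroup.normalizer ((conjSub g Y : Subgroup G) : Set G) :=
    le_inf (conjSub_mono inf_le_left) (conjSub_le_normalizer inf_le_right)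
  constructor
  · have h4 : Cfsg.PRankLE p 1 ↥(conjSub g N) := pRankLE_of_le hle hr
    exact Cfsg.Agent.Lib.Helper11.RankTwoTower.prank_of_injective
      (N.equivMapOfInjective (MulAut.conj g).toMonoidHom (MulAut.conj g).injective).toMonoidHom
      (MulEquiv.injective _) h4
  · intro hτ hdvd
    apply hd hτ
    have h5 : ⁅conjSub g N, conjSub g N⁆ = conjSub g ⁅N, N⁆ := by
      change ⁅N.map (MulAut.conj g).toMonoidHom, N.map (MulAut.conj g).toMonoidHom⁆ =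
        (⁅N, N⁆).map (MulAut.conj g).toMonoidHom
      rw [Subgroup.map_commutator]
    have h6 : Nat.card ↥⁅conjSub g N, conjSub g N⁆ = Nat.card ↥⁅N, N⁆ := by
      rw [h5, card_conjSub]
    rw [← h6] at hdvd
    exact hdvd.trans (Subgroup.card_dvd_of_le (Subgroup.commutator_mono hle hle))

end Cfsg.Agent.Lib.Helper10.SigmaJsubD
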