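import Mathlib
import Cfsg.Prelude.Def_OddOrderLocal
import Cfsg.Agent.Lib.Helper11.ExcB
import Cfsg.Agent.Lib.Helper1.BG12.TwelveThreeMain
import Cfsg.Agent.Lib.Helper10.SigmaJsubC

set_option autoImplicit false
open scoped commutatorElement

/-! B & G, Theorem 12.5, assembled from Proposition 12.4 and section 11 -/

namespace Cfsg.Agent.Lib.Helper10.TwelveFive

open Cfsg Cfsg.Agent.Lib Cfsg.Agent.Lib.Helper18
open Cfsg.Agent.Lib.Helper11.BenderM Cfsg.Agent.Lib.Helper11.BenderN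
  Cfsg.Agent.Lib.Helper11.BenderO Cfsg.Agent.Lib.Helper11.BenderS
  Cfsg.Agent.Lib.Helper1.BG12 Cfsg.Agent.Lib.Helper11.ExcA Cfsg.Agent.Lib.Helper11.ExcB
  Cfsg.Agent.Lib.Helper10.SigmaJsubC

/-- **B & G, Lemma 11.5**: the Sylow `p`-subgroups of an exceptional `M` are abelian -/
def Hyp115 (G : Type*) [Group G] : Prop :=
  ∀ (M : Subgroup G) (p : ℕ) (A₀ A : Subgroup G), p.Prime → Exc M p A₀ A →
    ∀ P : Subgroup G, IsSylowIn p P M → IsMulCommutative P

/-- **B & G, Lemma 11.6(a)**: `A = Ω₁(P)` -/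
def Hyp116 (G : Type*) [Group G] : Prop :=
  ∀ (M : Subgroup G) (p : ℕ) (A₀ A : Subgroup G), p.Prime → Exc M p A₀ A →
    ∀ P : Subgroup G, IsSylowIn p P M → A ≤ P → ∀ x ∈ P, x ^ p = 1 → x ∈ A

universe u

variable {G : Type u} [Group G] [Finite G]

/-- for `p ∈ τ₂(M)`, `M` is exceptional -/
theorem exists_exc (h1416 : F1416 G) (M : Subgroup G) (hM : IsCoatom M) (p : ℕ)
    [hp : Fact p.Prime] (hpσ : p ∉ Cfsg.sigma M) (A : Subgroup G) (hAM : A ≤ M)
    (hAe : Cfsg.IsElementaryAbelian p A) (hAc : Nat.card A = p ^ 2) :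
    ∃ A₀ : Subgroup G, Exc M p A₀ A := by
  by_contra hno
  push Not at hno
  apply hpσ
  refine ((h1416 M hM p A ⟨hAM, hAe, hAc⟩).2 ?_).1
  intro A₀ hA₀A hA₀c hN
  exact hno A₀ ⟨hM, hpσ, hAM, hAe, hAc, hA₀A, hA₀c, hN.1⟩

theorem tau2_of_sq (hG : Cfsg.IsMinSimpleOddOrder G) (M : Subgroup G) (hM : IsCoatom M) (p : ℕ)
    [hp : Fact p.Prime] (hpσ : p ∉ Cfsg.sigma M) (A : Subgroup G) (hAM : A ≤ M)
    (hAe : Cfsg.IsElementaryAbelian p A) (hAc : Nat.card A = p ^ 2) : p ∈ Cfsg.tau2 M := by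
  refine ⟨hp.out, hpσ, ?_, ?_⟩
  · by_contra h
    exact hpσ (alpha_sub_sigma hG M hM p ⟨hp.out, h⟩)
  · intro h
    have h1 := h (A.subgroupOf M) ?_ ?_
    · rw [Helper5.card_subgroupOf_of_le hAM, hAc] at h1
      have : p ^ 1 < p ^ 2 := Nat.pow_lt_pow_right hp.out.one_lt (by norm_num)
      omega
    · refine ⟨⟨fun a b => ?_⟩⟩
      apply Subtype.ext
      apply Subtype.ext
      have := hAe.1.is_comm.comm ⟨(a : M), a.2⟩ ⟨(b : M), b.2⟩
      exact congrArg (fun t : ↥A => (t : G)) this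
    · intro a ha
      apply Subtype.ext
      have := hAe.2 (a : G) ha
      simpa using this

/-- **B & G, Theorem 12.5** -/
theorem twelve_five (hG : Cfsg.IsMinSimpleOddOrder G)
    (h36 : ∀ M : Subgroup G, IsCoatom M → Thm36 ↥M) (h1416 : F1416 G) (h117 : Hyp117 G)
    (h115 : Hyp115 G) (h116 : Hyp116 G) : F1417 G := by
  intro M hM p hp' hpτ A hA
  obtain ⟨hAM, hAe, hAc⟩ := hA
  have hp : p.Prime := hp'.out
  have hpσ : p ∉ Cfsg.sigma M := hpτ.2.1
  have hAp : IsPGroup p A := Helper1.BG10.elemAb_isPGroup hAe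
  obtain ⟨A₀, hexc⟩ := exists_exc h1416 M hM p hpσ A hAM hAe hAc
  have hnil : Group.IsNilpotent (Cfsg.sigmaCore M) := eleven_three hG h36 hp hexc
  -- (f) and (d)
  obtain ⟨P, hP, hAP, g, hgP, hgM⟩ := exists_sylow_normalizer hp hexc
  have hAg : conjSub g A = A := by
    apply conjSub_eq_of_le
    intro x hx
    have hxP : x ∈ P := by
      have := conjSub_mono (g := g) hAP hx
      rwa [conjSub_eq_of_mem_normalizer hgP] at this
    apply h116 M p A₀ A hp hexc P hP hAP x hxP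
    rw [mem_conjSub] at hx
    have h1 := hAe.2 _ hx
    have e : x = g * (g⁻¹ * x * g) * g⁻¹ := by group
    rw [e, conj_pow, h1]
    group
  have hAgM : A ≤ conjSub g M := by
    rw [← hAg]
    exact conjSub_mono hAM
  have hf := eleven_two_b hG h36 hp hexc g hgM hAgM
  have hA₁A : conjSub g A₀ ≤ A := by
    rw [← hAg]
    exact conjSub_mono hexc.2.2.2.2.2.1
  have hA₁c : Nat.card (conjSub g A₀) = p := by
    rw [card_conjSub]
    exact hexc.2.2.2.2.2.2.1
  have hd : Cfsg.sigmaCore M ⊓ Subgroup.centralizer (A : Set G) = ⊥ := by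
    rw [eq_bot_iff, ← hf]
    exact inf_le_inf_left _ (Subgroup.centralizer_le hA₁A)
  have hpM : p ∣ Nat.card M := by
    have h1 : Nat.card A ∣ Nat.card M := Subgroup.card_dvd_of_le hAM
    rw [hAc] at h1
    exact (dvd_pow_self p (by norm_num)).trans h1
  refine ⟨hnil, ?_, h117 M p A₀ A hp hexc, hd, ?_, ⟨conjSub g A₀, hA₁A, hA₁c, hf⟩⟩
  · -- (b)
    intro Q
    have hQ : IsSylowIn p ((Q : Subgroup M).map M.subtype) M := isSylowIn_of_sylow Q
    refine ⟨?_, fun hAQ => ⟨fun x hx => ⟨?_, fun hxA => hAe.2 x hxA⟩, ?_⟩⟩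
    · have hc := h115 M p A₀ A hp hexc _ hQ
      refine ⟨⟨fun a b => ?_⟩⟩
      apply Subtype.ext
      have := hc.is_comm.comm ⟨M.subtype a, ⟨a, a.2, rfl⟩⟩ ⟨M.subtype b, ⟨b, b.2, rfl⟩⟩
      have h2 := congrArg (fun t : ↥((Q : Subgroup M).map M.subtype) => (t : G)) this
      apply Subtype.ext
      simpa using h2
    · exact h116 M p A₀ A hp hexc _ hQ hAQ x hx
    · intro hle
      exact hpσ ⟨hp, hpM, Q, hle⟩
  · -- (e)
    intro Ms hMs hne hAMs
    by_cases hconj : ∃ x : G, Ms = conjSub x M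
    · obtain ⟨x, rfl⟩ := hconj
      have hxM : x ∉ M := by
        intro hx
        apply hne
        exact conjSub_eq_of_mem_normalizer (Subgroup.le_normalizer hx)
      exact eleven_two_a hG h36 hp hexc x hxM hAMs
    · push Not at hconj
      set D : Subgroup G := Cfsg.sigmaCore M ⊓ Ms with hD
      have hL : Ms ≤ Subgroup.normalizer ((Cfsg.sigmaCore Ms ⊔ A : Subgroup G) : Set G) := by
        by_cases hpMs : p ∈ Cfsg.sigma Ms
        · have : A ≤ Cfsg.sigmaCore Ms := pgroup_le_sigmaCore hG Ms hMs p hpMs A hAMs hAp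
          rw [sup_eq_left.mpr this]
          exact le_normalizer_sigmaCore Ms
        · obtain ⟨A₀', hexc'⟩ := exists_exc h1416 Ms hMs p hpMs A hAMs hAe hAc
          exact h117 Ms p A₀' A hp hexc'
      have hDcop : (Nat.card D).Coprime p := by
        rw [Nat.coprime_comm, Nat.Prime.coprime_iff_not_dvd hp]
        intro hd'
        exact hpσ (sigmaCore_primes hG M hM p hp
          (hd'.trans (Subgroup.card_dvd_of_le inf_le_left)))
      have hAD : A ≤ Subgroup.normalizer (D : Set G) :=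
        le_normalizer_inf_of_le (hAM.trans (le_normalizer_sigmaCore M))
          (hAMs.trans Subgroup.le_normalizer)
      have hcomm : ⁅D, A⁆ ≤ D ⊓ Cfsg.sigmaCore Ms :=
        commutator_le_of_normal_sup Ms (Cfsg.sigmaCore Ms) A D p (sigmaCore_le Ms)
          (le_normalizer_sigmaCore Ms) hAMs hAp hL inf_le_right hDcop hAD
      have hint : D ⊓ Cfsg.sigmaCore Ms = ⊥ := by
        by_contra hne'
        obtain ⟨q, hq, hqd⟩ := exists_prime_dvd_of_ne_bot hne'
        have hqM : q ∈ Cfsg.sigma M := sigmaCore_primes hG M hM q hq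
          (hqd.trans (Subgroup.card_dvd_of_le (inf_le_left.trans inf_le_left)))
        have hqMs : q ∈ Cfsg.sigma Ms := sigmaCore_primes hG Ms hMs q hq
          (hqd.trans (Subgroup.card_dvd_of_le inf_le_right))
        obtain ⟨x, hx⟩ := conj_of_sigma_sigma_nilp hG M Ms hM hMs hnil q hqM hqMs
        exact hconj x hx
      rw [hint, le_bot_iff] at hcomm
      have hAC : A ≤ Subgroup.centralizer (D : Set G) := le_centralizer_of_commutator_eq_bot hcomm
      have hDC : D ≤ Subgroup.centralizer (A : Set G) := Subgroup.le_centralizer_iff.mp hAC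
      rw [eq_bot_iff, ← hd]
      exact le_inf inf_le_left hDC

end Cfsg.Agent.Lib.Helper10.TwelveFive
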