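import Mathlib
import Cfsg.Prelude.Def_OddOrderLocal
import Cfsg.Agent.Lib.Helper10.SigmaJsubD
import Cfsg.Agent.S1424
import Cfsg.Agent.S1417
import Cfsg.Agent.S1416

set_option autoImplicit false

namespace Cfsg.Agent.Lib.Helper10.SigmaJsubE

open Cfsg Cfsg.Agent.Lib Cfsg.Agent.Lib.Helper18
  Cfsg.Agent.Lib.Helper10.SigmaJsubC Cfsg.Agent.Lib.Helper10.SigmaJsubD

variable {G : Type*} [Group G] [Finite G]

theorem f1424 (hG : Cfsg.IsMinSimpleOddOrder G) : F1424 G :=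
  fun M hM q _ hq X hXq hX1 hXM Ms hMs hne hNX S hXS =>
    Cfsg.Agent.S1424.result hG M hM q hq X hXq hX1 hXM Ms hMs hne hNX S hXS

theorem f1417 (hG : Cfsg.IsMinSimpleOddOrder G) : F1417 G :=
  fun M hM p _ hp A hA => Cfsg.Agent.S1417.result hG M hM p hp A hA

theorem f1416 (hG : Cfsg.IsMinSimpleOddOrder G) : F1416 G :=
  fun M hM p _ A hA => Cfsg.Agent.S1416.result hG M hM p A hA

/-- **B & G, 12.17(b),(c)** (`sigma_Jsub`, second part), unconditional -/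
theorem jsub_b (hG : Cfsg.IsMinSimpleOddOrder G) (M : Subgroup G) (hM : IsCoatom M)
    (Y : Subgroup G) (hY1 : Y ≠ ⊥)
    (hY : ∀ p : ℕ, p.Prime → p ∣ Nat.card Y → p ∈ Cfsg.sigma M)
    (H : Subgroup G) (hH : IsCoatom H) (hYH : Y ≤ H) (hnc : ∀ g : G, H ≠ conjSub g M)
    (p : ℕ) [hp : Fact p.Prime] (hpM : p ∣ Nat.card M) (hpσ : p ∉ Cfsg.sigma M)
    (hpi : ¬ Cfsg.IsIdealPrime p G) :
    Cfsg.PRankLE p 1 ↥(H ⊓ Subgroup.normalizer (Y : Set G)) ∧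
      (p ∈ Cfsg.tau1 M → ¬ p ∣ Nat.card ↥⁅H ⊓ Subgroup.normalizer (Y : Set G),
        H ⊓ Subgroup.normalizer (Y : Set G)⁆) :=
  twelve_seventeen_b hG (f1424 hG) (f1417 hG) (f1416 hG) M hM Y hY1 hY H hH hYH hnc p hpM hpσ hpi

/-- **B & G, 12.17(a)**, unconditional, in `conjSub` form -/
theorem jsub_a (hG : Cfsg.IsMinSimpleOddOrder G) (M : Subgroup G) (hM : IsCoatom M)
    (Y : Subgroup G) (hY1 : Y ≠ ⊥)
    (hY : ∀ p : ℕ, p.Prime → p ∣ Nat.card Y → p ∈ Cfsg.sigma M) :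
    ∃ g : G, conjSub g Y ≤ Cfsg.sigmaCore M :=
  sigma_jsub' hG (f1424 hG) (f1417 hG) (f1416 hG) M hM Y hY1 hY

end Cfsg.Agent.Lib.Helper10.SigmaJsubE
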