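import Mathlib
import Cfsg.Prelude.Def_OddOrderLocal
import Cfsg.Agent.Lib.Helper11.ThirteenB
import Cfsg.Agent.Lib.Helper11.JsubC
import Cfsg.Agent.Lib.Helper28.BGtJ
import Cfsg.Agent.Lib.Helper18.Isolated

set_option autoImplicit false

/-! B & G, Corollary 13.2 (helper10). -/

namespace Cfsg.Agent.Lib.Helper10.ThirteenTwo

open Cfsg Cfsg.Agent.Lib Cfsg.Agent.Lib.Helper18

variable {G : Type*} [Group G] [Finite G]

/-- `p`-rank at most one is invariant under conjugation -/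
theorem pRankLE_conjSub {p k : ℕ} {M : Subgroup G} (g : G) (h : Cfsg.PRankLE p k ↥M) :
    Cfsg.PRankLE p k ↥(conjSub g M) := by
  let f : ↥(conjSub g M) →* ↥M :=
    { toFun := fun x => ⟨g⁻¹ * x.1 * g, mem_conjSub.mp x.2⟩
      map_one' := by apply Subtype.ext; simp
      map_mul' := by
        intro x y
        apply Subtype.ext
        simp only [Subgroup.coe_mul]
        group }
  refine Cfsg.Agent.Lib.Helper11.RankTwoTower.prank_of_injective f ?_ h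
  intro x y hxy
  have := congrArg Subtype.val hxy
  simp only [f, MonoidHom.coe_mk, OneHom.coe_mk] at this
  apply Subtype.ext
  have h2 := mul_left_cancel (mul_right_cancel this)
  exact h2

/-- the setting of **B & G, Corollary 13.2**: `p ∈ τ₁(M) ∪ τ₃(M)`, `P ≠ 1` a `p`-subgroup of `M`,
`H` a maximal subgroup containing `N_G(P)`.  Then `H` is not conjugate to `M` and `p ∈ σ(H) ∪ τ₂(H)`. -/
theorem basic (hG : Cfsg.IsMinSimpleOddOrder G) {M H : Subgroup G} (hM : IsCoatom M)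
    (hH : IsCoatom H) {p : ℕ} [hp : Fact p.Prime] (hpσ : p ∉ Cfsg.sigma M)
    (hr1 : Cfsg.PRankLE p 1 ↥M) {P : Subgroup G} (hPp : IsPGroup p P)
    (hP1 : P ≠ ⊥) (hPM : P ≤ M) (hNP : Subgroup.normalizer (P : Set G) ≤ H) :
    (∀ g : G, H ≠ conjSub g M) ∧ (p ∈ Cfsg.sigma H ∨ p ∈ Cfsg.tau2 H) := by
  have hPH : P ≤ H := Subgroup.le_normalizer.trans hNP
  have h2 : p ∈ Cfsg.sigma H ∨ p ∈ Cfsg.tau2 H := by
    by_cases hσ : p ∈ Cfsg.sigma H
    · exact Or.inl hσ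
    · right
      obtain ⟨S, hS, hPS⟩ := exists_isSylowIn_ge hPH hPp
      exact Cfsg.Agent.Lib.Helper11.JsubC.tau2_of_normalizer_le hG hH hσ hP1 hNP hPS hS
  refine ⟨?_, h2⟩
  intro g hg
  rcases h2 with h | h
  · apply hpσ
    have := Cfsg.Agent.Lib.Helper1.BG12.sigma_conjSub H p h g⁻¹
    rwa [hg, conjSub_mul, inv_mul_cancel, conjSub_one] at this
  · apply h.2.2.2
    rw [hg]
    exact pRankLE_conjSub g hr1

/-- **B & G, Corollary 13.2(a)** -/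
theorem part_a (hG : Cfsg.IsMinSimpleOddOrder G) {M H : Subgroup G} (hM : IsCoatom M)
    (hH : IsCoatom H) {p : ℕ} [hp : Fact p.Prime] (hpσ : p ∉ Cfsg.sigma M)
    (hr1 : Cfsg.PRankLE p 1 ↥M) {P : Subgroup G} (hPp : IsPGroup p P)
    (hP1 : P ≠ ⊥) (hPM : P ≤ M) (hNP : Subgroup.normalizer (P : Set G) ≤ H) :
    ∀ x ∈ M ⊓ H, (∃ k : ℕ, x ^ p ^ k = 1) → ∀ d ∈ Cfsg.sigmaCore M ⊓ H, x * d = d * x := by
  obtain ⟨hnc, h2⟩ := basic hG hM hH hpσ hr1 hPp hP1 hPM hNP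
  have hPH : P ≤ H := Subgroup.le_normalizer.trans hNP
  have hpP : p ∣ Nat.card P := by
    obtain ⟨n, hn⟩ := IsPGroup.iff_card.mp hPp
    rw [hn]
    apply dvd_pow_self
    rintro rfl
    rw [pow_zero] at hn
    exact hP1 (Subgroup.card_eq_one.mp hn)
  have hpM : p ∣ Nat.card M := hpP.trans (Subgroup.card_dvd_of_le hPM)
  have hpH : p ∣ Nat.card H := hpP.trans (Subgroup.card_dvd_of_le hPH)
  have hpτ : p ∉ Cfsg.tau1 H := by
    intro h
    rcases h2 with h' | h'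
    · exact h.2.1 h'
    · exact h'.2.2.2 h.2.2.2.2
  exact Cfsg.Agent.Lib.Helper11.ThirteenB.thirteen_one_a hG hM hH hnc hpM hpσ hpH hpτ

/-- **B & G, Corollary 13.2(b)**, elementwise: a `t`-element of `M ⊓ H`, `t ∉ σ(M) ∪ τ₁(H)`, centralizes
`M_σ ⊓ H` -/
theorem part_b (hG : Cfsg.IsMinSimpleOddOrder G) {M H : Subgroup G} (hM : IsCoatom M)
    (hH : IsCoatom H) {p : ℕ} [hp : Fact p.Prime] (hpσ : p ∉ Cfsg.sigma M)
    (hr1 : Cfsg.PRankLE p 1 ↥M) {P : Subgroup G} (hPp : IsPGroup p P)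
    (hP1 : P ≠ ⊥) (hPM : P ≤ M) (hNP : Subgroup.normalizer (P : Set G) ≤ H)
    {t : ℕ} [ht : Fact t.Prime] (htσ : t ∉ Cfsg.sigma M) (htτ : t ∉ Cfsg.tau1 H) :
    ∀ x ∈ M ⊓ H, (∃ k : ℕ, x ^ t ^ k = 1) → ∀ d ∈ Cfsg.sigmaCore M ⊓ H, x * d = d * x := by
  obtain ⟨hnc, -⟩ := basic hG hM hH hpσ hr1 hPp hP1 hPM hNP
  intro x hx hxk d hd
  by_cases hx1 : x = 1
  · rw [hx1, one_mul, mul_one]
  obtain ⟨k, hk⟩ := hxk
  have hto : t ∣ orderOf x := by
    obtain ⟨n, -, hn⟩ := (Nat.dvd_prime_pow ht.out).mp (orderOf_dvd_of_pow_eq_one hk)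
    rw [hn]
    apply dvd_pow_self
    rintro rfl
    rw [pow_zero, orderOf_eq_one_iff] at hn
    exact hx1 hn
  have htM : t ∣ Nat.card M := by
    have := orderOf_dvd_natCard (⟨x, hx.1⟩ : ↥M)
    rw [Subgroup.orderOf_mk] at this
    exact hto.trans this
  have htH : t ∣ Nat.card H := by
    have := orderOf_dvd_natCard (⟨x, hx.2⟩ : ↥H)
    rw [Subgroup.orderOf_mk] at this
    exact hto.trans this
  exact Cfsg.Agent.Lib.Helper11.ThirteenB.thirteen_one_a hG hM hH hnc htM htσ htH htτ x hx ⟨k, hk⟩ d hd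

/-- **B & G, Corollary 13.2(c)** -/
theorem part_c (hG : Cfsg.IsMinSimpleOddOrder G) {M H : Subgroup G} (hM : IsCoatom M)
    (hH : IsCoatom H) {p : ℕ} [hp : Fact p.Prime] (hpσ : p ∉ Cfsg.sigma M)
    (hr1 : Cfsg.PRankLE p 1 ↥M) {P : Subgroup G} (hPp : IsPGroup p P)
    (hP1 : P ≠ ⊥) (hPM : P ≤ M) (hNP : Subgroup.normalizer (P : Set G) ≤ H)
    (hR : ∃ d ∈ Cfsg.sigmaCore M ⊓ H, ∃ m ∈ M ⊓ H, m * d ≠ d * m) :
    p ∈ Cfsg.sigma H ∧ (p ∈ Cfsg.tau1 M → Cfsg.IsIdealPrime p G) := by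
  obtain ⟨hnc, h2⟩ := basic hG hM hH hpσ hr1 hPp hP1 hPM hNP
  have hPH : P ≤ H := Subgroup.le_normalizer.trans hNP
  have hpP : p ∣ Nat.card P := by
    obtain ⟨n, hn⟩ := IsPGroup.iff_card.mp hPp
    rw [hn]
    apply dvd_pow_self
    rintro rfl
    rw [pow_zero] at hn
    exact hP1 (Subgroup.card_eq_one.mp hn)
  have hpM : p ∣ Nat.card M := hpP.trans (Subgroup.card_dvd_of_le hPM)
  have hpH : p ∣ Nat.card H := hpP.trans (Subgroup.card_dvd_of_le hPH)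
  have hτ2 := Cfsg.Agent.Lib.Helper11.ThirteenB.thirteen_one_b hG hM hH hnc hpM hpσ hR
  have hσ : p ∈ Cfsg.sigma H := by
    rcases h2 with h | h
    · exact h
    · exact absurd h hτ2
  refine ⟨hσ, ?_⟩
  have hpτ : p ∉ Cfsg.tau1 H := fun h => h.2.1 hσ
  exact Cfsg.Agent.Lib.Helper11.ThirteenB.thirteen_one_c hG hM hH hnc hpM hpσ hpH hpτ hR

/-- in the setting of 13.2 with `P` of order `p`: `M_σ ⊓ H = C_{M_σ}(P)` -/
theorem inf_eq_cent (hG : Cfsg.IsMinSimpleOddOrder G) {M H : Subgroup G} (hM : IsCoatom M)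
    (hH : IsCoatom H) {p : ℕ} [hp : Fact p.Prime] (hpσ : p ∉ Cfsg.sigma M)
    (hr1 : Cfsg.PRankLE p 1 ↥M) {P : Subgroup G} (hPp : IsPGroup p P)
    (hP1 : P ≠ ⊥) (hPM : P ≤ M) (hNP : Subgroup.normalizer (P : Set G) ≤ H) :
    Cfsg.sigmaCore M ⊓ H = Cfsg.sigmaCore M ⊓ Subgroup.centralizer (P : Set G) := by
  have hPH : P ≤ H := Subgroup.le_normalizer.trans hNP
  apply le_antisymm
  · intro d hd
    refine ⟨hd.1, ?_⟩
    show d ∈ Subgroup.centralizer (P : Set G)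
    rw [Subgroup.mem_centralizer_iff]
    intro x hx
    have hxk : ∃ k : ℕ, x ^ p ^ k = 1 := by
      obtain ⟨k, hk⟩ := hPp ⟨x, hx⟩
      exact ⟨k, by simpa using congrArg Subtype.val hk⟩
    exact part_a hG hM hH hpσ hr1 hPp hP1 hPM hNP x ⟨hPM hx, hPH hx⟩ hxk d hd
  · intro d hd
    refine ⟨hd.1, hNP ?_⟩
    have h2 : d ∈ Subgroup.centralizer (P : Set G) := hd.2
    exact Subgroup.centralizer_le_normalizer _ h2

end Cfsg.Agent.Lib.Helper10.ThirteenTwo
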