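import Mathlib
import Cfsg.Prelude.Def_OddOrderLocal
import Cfsg.Agent.Lib.Helper10.SubgroupBasic

set_option autoImplicit false

namespace Cfsg.Agent.Lib.Helper10

section

variable {M : Type*} [Group M]

lemma sSup_induction_of_finite [Finite M] (S : Set (Subgroup M)) (P : Subgroup M → Prop) (h0 : P ⊥)
    (hsup : ∀ a, P a → ∀ b, P b → P (a ⊔ b)) (hS : ∀ N ∈ S, P N) : P (sSup S) := by
  classical
  have hfin : S.Finite := Set.toFinite S
  have h1 : sSup S = hfin.toFinset.sup id := by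
    rw [Finset.sup_id_eq_sSup]
    simp
  rw [h1]
  apply Finset.sup_induction h0 hsup
  intro b hb
  exact hS b (by simpa using hb)

lemma card_sup_dvd_mul [Finite M] (a b : Subgroup M) [hb : b.Normal] :
    Nat.card ↥(a ⊔ b) ∣ Nat.card a * Nat.card b := by
  have h1 : Nat.card b * b.relIndex (a ⊔ b) = Nat.card ↥(a ⊔ b) := by
    have := Subgroup.relIndex_mul_relIndex (H := (⊥ : Subgroup M)) (K := b) (L := a ⊔ b) bot_le
      le_sup_right
    rwa [Subgroup.relIndex_bot_left, Subgroup.relIndex_bot_left] at this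
  rw [← h1, Subgroup.relIndex_sup_right, mul_comm]
  exact Nat.mul_dvd_mul_right (Subgroup.relIndex_dvd_card b a) _

lemma prime_dvd_card_sSup [Finite M] (S : Set (Subgroup M)) (hS : ∀ N ∈ S, N.Normal) (q : ℕ)
    (hq : q.Prime) (h : q ∣ Nat.card ↥(sSup S)) : ∃ N ∈ S, q ∣ Nat.card N := by
  by_contra hcon
  push Not at hcon
  have := sSup_induction_of_finite S (fun K => K.Normal ∧ ¬ q ∣ Nat.card K) ?_ ?_ ?_
  · exact this.2 h
  · refine ⟨inferInstance, ?_⟩
    rw [Subgroup.card_bot]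
    exact hq.one_lt.ne' ∘ Nat.dvd_one.mp
  · rintro a ⟨ha1, ha2⟩ b ⟨hb1, hb2⟩
    refine ⟨inferInstance, ?_⟩
    intro hdvd
    rcases (Nat.Prime.dvd_mul hq).mp (dvd_trans hdvd (card_sup_dvd_mul a b)) with h1 | h1
    · exact ha2 h1
    · exact hb2 h1
  · intro N hN
    exact ⟨hS N hN, hcon N hN⟩

lemma fittingHall_coprime [Finite M] :
    (Nat.card (fittingHall M)).Coprime (fittingHall M).index := by
  apply Nat.coprime_of_dvd
  intro q hq hdvd hidx
  unfold fittingHall at hdvd hidx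
  obtain ⟨N, ⟨hN1, hN2, hN3⟩, hqN⟩ := prime_dvd_card_sSup _ (fun N hN => hN.1) q hq hdvd
  have hle : N ≤ sSup {N : Subgroup M | N.Normal ∧ Group.IsNilpotent N ∧ (Nat.card N).Coprime N.index} :=
    le_sSup ⟨hN1, hN2, hN3⟩
  have h2 : q ∣ N.index := dvd_trans hidx (Subgroup.index_dvd_of_le hle)
  have h3 : q ∣ Nat.gcd (Nat.card N) N.index := Nat.dvd_gcd hqN h2
  rw [Nat.Coprime.gcd_eq_one hN3] at h3
  exact (Nat.Prime.one_lt hq).ne' (Nat.dvd_one.mp h3)

lemma le_fittingHall (N : Subgroup M) (h1 : N.Normal) (h2 : Group.IsNilpotent N)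
    (h3 : (Nat.card N).Coprime N.index) : N ≤ fittingHall M :=
  le_sSup ⟨h1, h2, h3⟩

end

end Cfsg.Agent.Lib.Helper10
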