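import Mathlib
import Cfsg.Agent.Lib.Helper11.PKClaim

set_option autoImplicit false

/-! # A cyclic Sylow subgroup inside the derived group is not centralized (helper10)

Burnside's transfer theorem: if a non-trivial cyclic Sylow `p`-subgroup `S` (`p` odd) of a finite
group `Γ` lies in the derived group of `Γ`, then some element of `Γ` fails to centralize an element
of order `p` of `S`. -/

namespace Cfsg.Agent.Lib.Helper10.KappaTauA

variable {Γ : Type*} [Group Γ]

/-- an element commuting with two coprime powers of `g` commutes with `g` -/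
theorem comm_of_comm_coprime_pows {g y : Γ} {m n : ℕ} (hmn : Nat.Coprime m n)
    (h1 : g ^ m * y = y * g ^ m) (h2 : g ^ n * y = y * g ^ n) : g * y = y * g := by
  have hb := Int.gcd_eq_gcd_ab (m : ℤ) (n : ℤ)
  have hg1 : Int.gcd (m : ℤ) (n : ℤ) = 1 := by
    rw [Int.gcd_natCast_natCast]; exact hmn
  rw [hg1] at hb
  have hg : g = (g ^ m) ^ (Int.gcdA m n) * (g ^ n) ^ (Int.gcdB m n) := by
    rw [← zpow_natCast g m, ← zpow_natCast g n, ← zpow_mul, ← zpow_mul, ← zpow_add]
    have : (m : ℤ) * Int.gcdA m n + (n : ℤ) * Int.gcdB m n = 1 := by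
      rw [← hb]; rfl
    rw [this, zpow_one]
  have c1 : Commute (g ^ m) y := h1
  have c2 : Commute (g ^ n) y := h2
  have c : Commute ((g ^ m) ^ (Int.gcdA m n) * (g ^ n) ^ (Int.gcdB m n)) y :=
    (c1.zpow_left _).mul_left (c2.zpow_left _)
  rw [← hg] at c
  exact c

theorem exists_not_comm_of_cyclic_sylow_le_commutator [Finite Γ] {p : ℕ} [hp : Fact p.Prime] (hp2 : p ≠ 2)
    (S : Sylow p Γ) (hSc : IsCyclic (S : Subgroup Γ)) (hS1 : (S : Subgroup Γ) ≠ ⊥)
    (hSd : (S : Subgroup Γ) ≤ commutator Γ) :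
    ∃ g : Γ, ∃ y ∈ (S : Subgroup Γ), y ^ p = 1 ∧ g * y ≠ y * g := by
  by_contra hcon
  push Not at hcon
  have hScomm : ∀ a ∈ (S : Subgroup Γ), ∀ b ∈ (S : Subgroup Γ), a * b = b * a := by
    intro a ha b hb
    obtain ⟨g, hg⟩ := IsCyclic.exists_generator (α := (S : Subgroup Γ))
    obtain ⟨i, hi⟩ := Subgroup.mem_zpowers_iff.mp (hg ⟨a, ha⟩)
    obtain ⟨j, hj⟩ := Subgroup.mem_zpowers_iff.mp (hg ⟨b, hb⟩)
    have h := (Commute.zpow_zpow_self g i j).eq
    rw [hi, hj] at h
    exact congrArg Subtype.val h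
  have hNC : Subgroup.normalizer ((S : Subgroup Γ) : Set Γ) ≤
      Subgroup.centralizer ((S : Subgroup Γ) : Set Γ) := by
    intro g hg
    rw [Subgroup.mem_centralizer_iff]
    intro y hy
    symm
    obtain ⟨a, m, hpm, hn⟩ := Nat.exists_eq_pow_mul_and_not_dvd
      (orderOf_pos g).ne' p hp.out.ne_one
    have hcop : Nat.Coprime m (p ^ a) :=
      (Nat.Coprime.pow_right a ((Nat.Prime.coprime_iff_not_dvd hp.out).mpr hpm).symm)
    apply comm_of_comm_coprime_pows hcop
    · -- the `p`-part lies in `S`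
      have hmem : g ^ m ∈ (S : Subgroup Γ) := by
        have h1 : (g ^ m) ^ (p ^ a) = 1 := by
          rw [← pow_mul, mul_comm, ← hn, pow_orderOf_eq_one]
        have hpg : IsPGroup p (Subgroup.zpowers (g ^ m)) := by
          rintro ⟨z, hz⟩
          obtain ⟨k, rfl⟩ := Subgroup.mem_zpowers_iff.mp hz
          refine ⟨a, Subtype.ext ?_⟩
          show ((g ^ m) ^ k) ^ p ^ a = 1
          rw [← zpow_natCast, ← zpow_mul, mul_comm, zpow_mul, zpow_natCast, h1, one_zpow]
        have h3 := hpg.inf_normalizer_sylow S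
        have h2 : g ^ m ∈ Subgroup.zpowers (g ^ m) ⊓
            Subgroup.normalizer ((S : Subgroup Γ) : Set Γ) :=
          ⟨Subgroup.mem_zpowers _, Subgroup.pow_mem _ hg m⟩
        exact (h3.le h2).2
      exact hScomm _ hmem y hy
    · have hN : g ^ p ^ a ∈ Subgroup.normalizer ((S : Subgroup Γ) : Set Γ) :=
        Subgroup.pow_mem _ hg _
      have hco : (orderOf (g ^ p ^ a)).Coprime p := by
        have : (g ^ p ^ a) ^ m = 1 := by
          rw [← pow_mul, ← hn, pow_orderOf_eq_one]
        exact Nat.Coprime.coprime_dvd_left (orderOf_dvd_of_pow_eq_one this)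
          ((Nat.Prime.coprime_iff_not_dvd hp.out).mpr hpm).symm
      exact Cfsg.Agent.Lib.Helper11.centralizes_of_centralizes_omega p hp2 (S : Subgroup Γ)
        S.isPGroup' (g ^ p ^ a) hN hco (fun x hx hxp => hcon (g ^ p ^ a) x hx hxp) y hy
  have hcompl := MonoidHom.ker_transferSylow_isComplement' S hNC
  have hle : commutator Γ ≤ (MonoidHom.transferSylow S hNC).ker := by
    let _ : CommGroup (S : Subgroup Γ) :=
      { (inferInstance : Group (S : Subgroup Γ)) with
        mul_comm := fun a b => Subtype.ext (hScomm a a.2 b b.2) }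
    exact Abelianization.commutator_subset_ker _
  apply hS1
  have hdis := hcompl.disjoint
  rw [disjoint_iff] at hdis
  rw [eq_bot_iff, ← hdis]
  exact le_inf (hSd.trans hle) le_rfl

end Cfsg.Agent.Lib.Helper10.KappaTauA
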