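import Mathlib
import Cfsg.Agent.Lib.Helper10.KappaTauA
import Cfsg.Agent.Lib.Helper10.ThirteenTwo
import Cfsg.Agent.Lib.Helper21.BG13s
import Cfsg.Agent.Lib.Helper21.BG13t
import Cfsg.Agent.Lib.Helper13.BG14D
import Cfsg.Agent.Lib.Helper28.BGtO
import Cfsg.Agent.Lib.Helper28.BGtJ
import Cfsg.Agent.Lib.Helper11.ThirteenA
import Cfsg.Agent.Lib.Helper11.NilpCoprime
import Cfsg.Agent.Lib.Helper18.Asym13D
import Cfsg.Agent.Lib.Helper1.BG15.URegular
import Cfsg.Agent.Lib.Helper11.RegD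
import Cfsg.Agent.Lib.Helper11.ThirteenB
import Cfsg.Agent.S1405
import Cfsg.Agent.S1427

set_option autoImplicit false
open scoped commutatorElement

/-! # `κ(M) ⊆ τ₁(M)` for a commutative Hall `κ(M)`-subgroup: preliminaries (helper10) -/

namespace Cfsg.Agent.Lib.Helper10.KappaTau

open Cfsg Cfsg.Agent.Lib.Helper18 Cfsg.Agent.Lib.Helper28.BGt

variable {G : Type*} [Group G] [Finite G]

/-- if `M_α = 1` then `M'` is nilpotent, so a `p`-subgroup of `M'` (`p ∉ σ(M)`) centralizes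
`M_σ` -/
theorem sigmaCore_le_centralizer_of_alphaCore_eq_bot (hG : Cfsg.IsMinSimpleOddOrder G)
    {M : Subgroup G} (hM : IsCoatom M) (hα : Cfsg.alphaCore M = ⊥) {p : ℕ} [hp : Fact p.Prime]
    (hpσ : p ∉ Cfsg.sigma M) {P : Subgroup G} (hPp : IsPGroup p P) (hPd : P ≤ ⁅M, M⁆) :
    Cfsg.sigmaCore M ≤ Subgroup.centralizer (P : Set G) := by
  have h5 := (Cfsg.Agent.S1405.result hG M hM).2.2.2.2
  have hbot : Cfsg.piCore (Cfsg.alpha M) ↥M = ⊥ := by
    unfold Cfsg.alphaCore at hα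
    exact (Subgroup.map_eq_bot_iff_of_injective _ (Subgroup.subtype_injective M)).mp hα
  have hinj : Function.Injective (QuotientGroup.mk' (Cfsg.piCore (Cfsg.alpha M) ↥M)) := by
    rw [← MonoidHom.ker_eq_bot_iff, QuotientGroup.ker_mk', hbot]
  haveI hnil : Group.IsNilpotent ↥(commutator ↥M) :=
    Group.nilpotent_of_mulEquiv
      ((commutator ↥M).equivMapOfInjective _ hinj).symm
  intro y hy
  rw [Subgroup.mem_centralizer_iff]
  intro x hx
  have hyd : y ∈ ⁅M, M⁆ := sigmaCore_le_derived hG hM hy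
  have hxd : x ∈ ⁅M, M⁆ := hPd hx
  rw [← Subgroup.map_subtype_commutator] at hyd hxd
  obtain ⟨y', hy', rfl⟩ := hyd
  obtain ⟨x', hx', rfl⟩ := hxd
  have hox : orderOf (⟨x', hx'⟩ : commutator ↥M) = orderOf ((M.subtype x' : G)) := by
    rw [← Subgroup.orderOf_coe (⟨x', hx'⟩ : commutator ↥M)]
    exact (orderOf_injective M.subtype (Subgroup.subtype_injective M) x').symm
  have hoy : orderOf (⟨y', hy'⟩ : commutator ↥M) = orderOf ((M.subtype y' : G)) := by
    rw [← Subgroup.orderOf_coe (⟨y', hy'⟩ : commutator ↥M)]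
    exact (orderOf_injective M.subtype (Subgroup.subtype_injective M) y').symm
  have hcop : (orderOf (⟨x', hx'⟩ : commutator ↥M)).Coprime
      (orderOf (⟨y', hy'⟩ : commutator ↥M)) := by
    rw [hox, hoy]
    obtain ⟨k, hk⟩ := (IsPGroup.iff_orderOf.mp hPp) ⟨_, hx⟩
    have hk' : orderOf (M.subtype x' : G) = p ^ k := by
      rw [← hk]; exact (Subgroup.orderOf_mk _ hx).symm
    rw [hk']
    apply Nat.Coprime.pow_left
    rw [Nat.Prime.coprime_iff_not_dvd hp.out]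
    intro hd
    apply hpσ
    apply prime_sigmaCore hG hM hp.out
    exact hd.trans (Subgroup.orderOf_dvd_natCard _ hy)
  have hc := Cfsg.Agent.Lib.Helper11.commute_of_coprime_orderOf
    (⟨x', hx'⟩ : commutator ↥M) ⟨y', hy'⟩ hcop
  have h1 : x' * y' = y' * x' := by
    have := congrArg Subtype.val hc.eq
    simpa using this
  have h2 := congrArg M.subtype h1
  simpa using h2


/-- a Sylow `p`-subgroup of a Hall `κ(M)`-subgroup `K` (`p ∈ κ(M)`) is a Sylow `p`-subgroup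
of `M` -/
theorem sylow_of_kappa_hall {M K S : Subgroup G} {p : ℕ} (hpκ : p ∈ Cfsg.kappa M)
    (hK : Cfsg.IsPiHallOf (Cfsg.kappa M) K M) (hS : IsSylowIn p S K) : IsSylowIn p S M := by
  refine ⟨hS.le.trans hK.1, hS.isPGroup, ?_⟩
  rw [← Subgroup.relIndex_mul_relIndex S K M hS.le hK.1]
  intro hd
  rcases (Nat.Prime.dvd_mul hpκ.1).mp hd with h | h
  · exact hS.not_dvd h
  · exact hK.2.2 p hpκ.1 hpκ h

/-- the setting: `p ∈ κ(M) ∩ τ₃(M)`, `P ≤ E` of order `p`, `H ⊇ N_G(P)` -/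
structure Ctx (M E P H : Subgroup G) (p : ℕ) : Prop where
  hG : Cfsg.IsMinSimpleOddOrder G
  hM : IsCoatom M
  hE : Cfsg.IsComplIn E (Cfsg.sigmaCore M) M
  hpκ : p ∈ Cfsg.kappa M
  hp3 : p ∈ Cfsg.tau3 M
  hPE : P ≤ E
  hPc : Nat.card P = p
  hH : IsCoatom H
  hNP : Subgroup.normalizer (P : Set G) ≤ H

namespace Ctx

variable {M E P H : Subgroup G} {p : ℕ}

theorem prime (c : Ctx M E P H p) : p.Prime := c.hpκ.1
theorem hpσ (c : Ctx M E P H p) : p ∉ Cfsg.sigma M := c.hpκ.2.2.1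
theorem hr1 (c : Ctx M E P H p) : Cfsg.PRankLE p 1 ↥M := c.hp3.2.2.2
theorem hPM (c : Ctx M E P H p) : P ≤ M := c.hPE.trans c.hE.1
theorem hPp (c : Ctx M E P H p) : IsPGroup p P :=
  IsPGroup.of_card (n := 1) (by rw [c.hPc, pow_one])
theorem hP1 (c : Ctx M E P H p) : P ≠ ⊥ := by
  intro h
  have := c.hPc
  rw [h, Subgroup.card_bot] at this
  exact c.prime.one_lt.ne this

theorem hEP (c : Ctx M E P H p) : E ≤ Subgroup.normalizer (P : Set G) := by
  haveI : Fact p.Prime := ⟨c.prime⟩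
  exact Cfsg.Agent.Lib.Helper21.BG13s.tau3_prime_normal c.hG c.hM c.hE c.hp3 c.hPE c.hPc

theorem hEH (c : Ctx M E P H p) : E ≤ H := c.hEP.trans c.hNP

theorem hPcyc (c : Ctx M E P H p) : IsCyclic P := by
  haveI : Fact p.Prime := ⟨c.prime⟩
  exact isCyclic_of_prime_card c.hPc

/-- `C_{M_σ}(P) ≠ 1` -/
theorem hY (c : Ctx M E P H p) :
    Cfsg.sigmaCore M ⊓ Subgroup.centralizer (P : Set G) ≠ ⊥ := by
  haveI : Fact p.Prime := ⟨c.prime⟩
  have hpd : p ∣ Nat.card P := by rw [c.hPc]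
  obtain ⟨x, hx⟩ := exists_prime_orderOf_dvd_card' p hpd
  have hxo : orderOf (x : G) = p := by rw [Subgroup.orderOf_coe]; exact hx
  obtain ⟨y, hy, hy1, hxy⟩ := Cfsg.Agent.Lib.Helper13.BG14.bg14_kappa_fixed c.hpκ
    (c.hPM x.2) hxo
  have hzP : Subgroup.zpowers (x : G) = P := by
    apply Subgroup.eq_of_le_of_card_ge
    · rw [Subgroup.zpowers_le]; exact x.2
    · rw [Nat.card_zpowers, hxo, c.hPc]
  intro hbot
  apply hy1
  have : y ∈ Cfsg.sigmaCore M ⊓ Subgroup.centralizer (P : Set G) := by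
    refine ⟨hy, ?_⟩
    show y ∈ Subgroup.centralizer (P : Set G)
    rw [Subgroup.mem_centralizer_iff]
    intro h hh
    rw [← hzP] at hh
    obtain ⟨i, rfl⟩ := Subgroup.mem_zpowers_iff.mp hh
    have hc : Commute (x : G) y := hxy
    exact (hc.zpow_left i).eq
  rw [hbot] at this
  exact Subgroup.mem_bot.mp this

theorem partner (c : Ctx M E P H p) :
    (∀ g : G, H ≠ conjSub g M) ∧ p ∈ Cfsg.sigma H ∧ P ≤ Cfsg.sigmaCore H := by
  haveI : Fact p.Prime := ⟨c.prime⟩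
  exact Cfsg.Agent.Lib.Helper21.BG13t.le_sigmaCore_of_normalizer_le c.hG c.hM c.hH c.hpσ c.hr1
    c.hPc c.hPM c.hNP c.hY

theorem hHM (c : Ctx M E P H p) : H ≠ M := by
  intro h
  apply c.partner.1 1
  rw [conjSub_one]; exact h

theorem tau2_empty (c : Ctx M E P H p) (r : ℕ) : r ∉ Cfsg.tau2 M := by
  haveI : Fact p.Prime := ⟨c.prime⟩
  exact Cfsg.Agent.Lib.Helper21.BG13s.tau2_empty_of_tau3_kappa c.hG c.hM c.hE c.hp3 c.hPE c.hPc
    c.hY r

/-- `M_α ≠ 1` -/
theorem alphaCore_ne_bot (c : Ctx M E P H p) : Cfsg.alphaCore M ≠ ⊥ := by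
  haveI : Fact p.Prime := ⟨c.prime⟩
  intro hα
  obtain ⟨S, hS, hPS⟩ := exists_isSylowIn_ge c.hPE c.hPp
  have hSd : S ≤ ⁅E, E⁆ :=
    Cfsg.Agent.Lib.Helper11.ThirteenA.sylow_tau3_le_derived c.hG c.hM c.hE c.hp3 hS
  have hPd : P ≤ ⁅M, M⁆ :=
    (hPS.trans hSd).trans (Subgroup.commutator_mono c.hE.1 c.hE.1)
  have h1 := sigmaCore_le_centralizer_of_alphaCore_eq_bot c.hG c.hM hα c.hpσ c.hPp hPd
  have hMN : M ≤ Subgroup.normalizer (P : Set G) := by
    intro m hm
    obtain ⟨a, ha, b, hb, rfl⟩ := c.hE.2.2.2 m hm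
    exact Subgroup.mul_mem _ (c.hEP ha) (Subgroup.centralizer_le_normalizer _ (h1 hb))
  have hMH : M ≤ H := hMN.trans c.hNP
  rcases eq_or_lt_of_le hMH with h | h
  · exact c.hHM h.symm
  · exact c.hH.1 (c.hM.2 H h)


/-- the `τ₁`-case: a Sylow `r`-subgroup `E_r` of `E` (`r ∈ τ₁(M) \ κ(M)`) centralizes `P` -/
theorem tau1_case (c : Ctx M E P H p) {r : ℕ} [hr : Fact r.Prime] (hrτ : r ∈ Cfsg.tau1 M)
    (hrκ : r ∉ Cfsg.kappa M) {Er : Subgroup G} (hEr : IsSylowIn r Er E) {e : G} (he : e ∈ Er) :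
    e ∈ Subgroup.centralizer (P : Set G) := by
  haveI : Fact p.Prime := ⟨c.prime⟩
  by_contra hne
  have hG := c.hG
  have hM := c.hM
  have hE := c.hE
  have hErM : Er ≤ M := hEr.le.trans hE.1
  have hr2 : r ≠ 2 := Cfsg.Agent.Lib.Helper1.BG10.prime_ne_two hG r M hrτ.2.2.1
  have he1 : e ≠ 1 := by
    rintro rfl
    exact hne (Subgroup.one_mem _)
  have hEr1 : Er ≠ ⊥ := by
    intro h
    rw [h, Subgroup.mem_bot] at he
    exact he1 he
  have hrd : r ∣ Nat.card Er := by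
    obtain ⟨k, hk⟩ := IsPGroup.iff_card.mp hEr.isPGroup
    rw [hk]
    apply dvd_pow_self
    rintro rfl
    rw [pow_zero] at hk
    exact hEr1 (Subgroup.card_eq_one.mp hk)
  obtain ⟨z, hz⟩ := exists_prime_orderOf_dvd_card' r hrd
  have hzo : orderOf (z : G) = r := by rw [Subgroup.orderOf_coe]; exact hz
  have hzEr : (z : G) ∈ Er := z.2
  have hzE : (z : G) ∈ E := hEr.le hzEr
  have hzM : (z : G) ∈ M := hE.1 hzE
  have hz1 : (z : G) ≠ 1 := by
    intro h
    rw [h, orderOf_one] at hzo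
    exact hr.out.one_lt.ne hzo
  obtain ⟨R, hRdef⟩ : ∃ R : Subgroup G, R = Subgroup.zpowers (z : G) := ⟨_, rfl⟩
  have hRc : Nat.card R = r := by rw [hRdef, Nat.card_zpowers, hzo]
  have hRE : R ≤ E := by rw [hRdef, Subgroup.zpowers_le]; exact hzE
  have hRM : R ≤ M := hRE.trans hE.1
  have hCR : Subgroup.centralizer (R : Set G) = Subgroup.centralizer ({(z : G)} : Set G) := by
    rw [hRdef]; exact Cfsg.Agent.Lib.Helper11.RegD.centralizer_zpowers_eq _
  -- `C_{M_σ}(R) = 1`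
  have hreg : Cfsg.sigmaCore M ⊓ Subgroup.centralizer (R : Set G) = ⊥ := by
    by_contra hne'
    obtain ⟨⟨y, hy⟩, hy1⟩ := (Subgroup.ne_bot_iff_exists_ne_one).mp hne'
    apply hrκ
    have hyc : y ∈ Subgroup.centralizer ({(z : G)} : Set G) := by rw [← hCR]; exact hy.2
    have hzy : (z : G) * y = y * z := (Subgroup.mem_centralizer_singleton_iff.mp hyc).symm
    exact Cfsg.Agent.Lib.Helper1.BG15.mem_kappa_of_nonregular hG hM hr.out hrτ.2.1 hrτ.2.2.2.2
      hzM hzo hy.1 (fun h => hy1 (Subtype.ext h)) hzy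
  by_cases hF : P ⊓ Subgroup.centralizer (R : Set G) = ⊥
  · -- case (F)
    have hpα : p ∉ Cfsg.alpha M := by
      intro h
      apply h.2
      intro A hA hAp
      have := c.hr1 A hA hAp
      calc Nat.card A ≤ p ^ 1 := this
        _ ≤ p ^ 2 := Nat.pow_le_pow_right c.prime.pos (by norm_num)
    have h12 := (twelve_twelve_a hG hM hrτ hRM hRc hpα c.hPp c.hPM (hRE.trans c.hEP) hF
      c.alphaCore_ne_bot c.hH c.hHM c.hNP).1
    apply h12
    rw [eq_bot_iff, ← hreg]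
    exact inf_le_inf_right _ (Cfsg.Agent.S1405.result hG M hM).2.2.1
  · -- case (C)
    have hPC : P ≤ Subgroup.centralizer (R : Set G) := by
      have hd : Nat.card ↥(P ⊓ Subgroup.centralizer (R : Set G)) ∣ p := by
        rw [← c.hPc]; exact Subgroup.card_dvd_of_le inf_le_left
      rcases (Nat.dvd_prime c.prime).mp hd with h | h
      · exact absurd (Subgroup.card_eq_one.mp h) hF
      · have : P ⊓ Subgroup.centralizer (R : Set G) = P := by
          apply Subgroup.eq_of_le_of_card_ge inf_le_left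
          rw [h, c.hPc]
        rw [← this]; exact inf_le_right
    have hzP : ∀ y ∈ P, y * (z : G) = z * y := by
      intro y hy
      have := hPC hy
      rw [hCR] at this
      exact Subgroup.mem_centralizer_singleton_iff.mp this
    have hErH : Er ≤ H := hEr.le.trans c.hEH
    -- `r ∈ τ₁(H)`
    have hrH : r ∈ Cfsg.tau1 H := by
      by_contra hrH
      have hb := Cfsg.Agent.Lib.Helper10.ThirteenTwo.part_b hG hM c.hH c.hpσ c.hr1 c.hPp c.hP1
        c.hPM c.hNP hrτ.2.1 hrH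
      apply c.hY
      rw [eq_bot_iff, ← hreg]
      intro d hd
      refine ⟨hd.1, ?_⟩
      show d ∈ Subgroup.centralizer (R : Set G)
      rw [hCR, Subgroup.mem_centralizer_singleton_iff]
      have hdH : d ∈ H := c.hNP (Subgroup.centralizer_le_normalizer _ hd.2)
      exact (hb (z : G) ⟨hzM, hErH hzEr⟩ ⟨1, by rw [pow_one, ← hzo]; exact pow_orderOf_eq_one _⟩
        d ⟨hd.1, hdH⟩).symm
    obtain ⟨EH, hEH, hErEH⟩ := exists_compl_ge hG c.hH hErH (by
      intro q hq hqd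
      have := Cfsg.Agent.Lib.Helper11.ThirteenB.prime_of_dvd_pgroup hEr.isPGroup hq hqd
      rw [this]; exact hrH.2.1)
    obtain ⟨Q, hQ, hErQ⟩ := exists_isSylowIn_ge hErEH hEr.isPGroup
    have hQc : IsCyclic Q :=
      Cfsg.Agent.Lib.Helper11.BenderQ.isCyclic_of_pRankLE_one r hr2 hQ.isPGroup
        (Cfsg.Agent.Lib.Helper1.BG12.pRankLE_of_le (hQ.le.trans hEH.1) hrH.2.2.2.2)
    obtain ⟨S, hS⟩ := hQ.exists_sylow
    have hmap : ((S : Subgroup EH).map EH.subtype : Subgroup G) = Q := by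
      rw [hS]; exact Subgroup.map_subgroupOf_eq_of_le hQ.le
    have hS1 : (S : Subgroup EH) ≠ ⊥ := by
      intro h
      have h2 : (z : G) ∈ ((S : Subgroup EH).map EH.subtype : Subgroup G) := by
        rw [hmap]; exact hErQ hzEr
      rw [h, Subgroup.map_bot, Subgroup.mem_bot] at h2
      exact hz1 h2
    have hSc : IsCyclic (S : Subgroup EH) := by
      rw [hS]
      exact (Subgroup.subgroupOfEquivOfLe hQ.le).symm.isCyclic.mp hQc
    have h27 := Cfsg.Agent.S1427.result hG H c.hH EH hEH r S hS1 hSc (z : G)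
      (by rw [hmap]; exact hErQ hzEr) hz1
    rw [hmap] at h27
    apply hne
    rw [Subgroup.mem_centralizer_iff]
    intro y hy
    have hy1 : y ∈ Cfsg.sigmaCore H ⊓ Subgroup.centralizer ({(z : G)} : Set G) :=
      ⟨c.partner.2.2 hy, Subgroup.mem_centralizer_singleton_iff.mpr (hzP y hy)⟩
    rw [h27] at hy1
    exact (Subgroup.mem_centralizer_iff.mp hy1.2 e (hErQ he)).symm

end Ctx

end Cfsg.Agent.Lib.Helper10.KappaTau
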