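import Mathlib
import Cfsg.Agent.Lib.Helper10.KappaTauB

set_option autoImplicit false
open scoped commutatorElement

/-! # The `κ(M) ∩ τ₃(M) ≠ ∅` configuration: a moving Sylow subgroup and the (C,b) kill (helper10) -/

namespace Cfsg.Agent.Lib.Helper10.KappaTau

open Cfsg Cfsg.Agent.Lib.Helper18 Cfsg.Agent.Lib.Helper28.BGt

variable {G : Type*} [Group G] [Finite G]

namespace Ctx

variable {M E P H : Subgroup G} {p : ℕ}

theorem hp2 (c : Ctx M E P H p) : p ≠ 2 :=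
  Cfsg.Agent.Lib.Helper1.BG10.prime_ne_two c.hG p M c.hpκ.2.1

/-- a Sylow `p`-subgroup of `E` containing `P`: cyclic, normal in `E`, inside `E'` -/
theorem exists_sylow (c : Ctx M E P H p) :
    ∃ S : Subgroup G, IsSylowIn p S E ∧ P ≤ S ∧ IsCyclic S ∧
      E ≤ Subgroup.normalizer (S : Set G) ∧ S ≤ ⁅E, E⁆ := by
  haveI : Fact p.Prime := ⟨c.prime⟩
  obtain ⟨S, hS, hPS⟩ := exists_isSylowIn_ge c.hPE c.hPp
  refine ⟨S, hS, hPS, ?_, ?_, ?_⟩
  · exact Cfsg.Agent.Lib.Helper11.BenderQ.isCyclic_of_pRankLE_one p c.hp2 hS.isPGroup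
      (Cfsg.Agent.Lib.Helper1.BG12.pRankLE_of_le (hS.le.trans c.hE.1) c.hr1)
  · exact sylow_tau3_normal c.hG c.hM c.hE c.hpσ c.hp3.2.2.1 c.hr1 hS
  · exact Cfsg.Agent.Lib.Helper11.ThirteenA.sylow_tau3_le_derived c.hG c.hM c.hE c.hp3 hS

/-- `E` does not centralize `P` -/
theorem not_le_centralizer (c : Ctx M E P H p) : ¬ E ≤ Subgroup.centralizer (P : Set G) := by
  haveI : Fact p.Prime := ⟨c.prime⟩
  obtain ⟨S, hSE, hPS, hScyc, -, hSd⟩ := c.exists_sylow
  intro hEC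
  obtain ⟨S', hS'⟩ := hSE.exists_sylow
  have hS'c : IsCyclic (S' : Subgroup E) := by
    rw [hS']
    exact (Subgroup.subgroupOfEquivOfLe hSE.le).symm.isCyclic.mp hScyc
  have hS'1 : (S' : Subgroup E) ≠ ⊥ := by
    intro h
    apply c.hP1
    rw [eq_bot_iff]
    intro x hx
    have h2 : (⟨x, c.hPE hx⟩ : E) ∈ (S' : Subgroup E) := by
      rw [hS']; exact Subgroup.mem_subgroupOf.mpr (hPS hx)
    rw [h, Subgroup.mem_bot] at h2
    exact Subgroup.mem_bot.mpr (congrArg Subtype.val h2)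
  have hS'd : (S' : Subgroup E) ≤ commutator E := by
    intro y hy
    rw [hS'] at hy
    have h1 : (y : G) ∈ ⁅E, E⁆ := hSd (Subgroup.mem_subgroupOf.mp hy)
    rw [← Subgroup.map_subtype_commutator] at h1
    obtain ⟨y', hy', hyy⟩ := h1
    have : y' = y := Subtype.ext hyy
    rw [← this]; exact hy'
  obtain ⟨g, y, hy, hyp, hgy⟩ :=
    Cfsg.Agent.Lib.Helper10.KappaTauA.exists_not_comm_of_cyclic_sylow_le_commutator c.hp2 S'
      hS'c hS'1 hS'd
  apply hgy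
  rw [hS'] at hy
  have hyS : (y : G) ∈ S := Subgroup.mem_subgroupOf.mp hy
  have hyP : (y : G) ∈ P := by
    by_cases hy1 : (y : G) = 1
    · rw [hy1]; exact P.one_mem
    · have hyo : orderOf (y : G) = p := by
        apply orderOf_eq_prime
        · have := congrArg Subtype.val hyp
          simpa using this
        · exact hy1
      have hz : Subgroup.zpowers (y : G) = P := by
        apply Cfsg.Agent.Lib.Helper10.SigmaJsubA.eq_of_card_eq_of_le_cyclic hScyc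
          (by rw [Subgroup.zpowers_le]; exact hyS) hPS
        rw [Nat.card_zpowers, hyo, c.hPc]
      rw [← hz]; exact Subgroup.mem_zpowers _
  have := Subgroup.mem_centralizer_iff.mp (hEC g.2) (y : G) hyP
  exact Subtype.ext this.symm

/-- there is a prime `r ∈ τ₁(M)` and a Sylow `r`-subgroup of `E` not centralizing `P` -/
theorem exists_moving (c : Ctx M E P H p) :
    ∃ (r : ℕ) (Er : Subgroup G) (e : G), r.Prime ∧ r ∈ Cfsg.tau1 M ∧ IsSylowIn r Er E ∧ e ∈ Er ∧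
      e ∉ Subgroup.centralizer (P : Set G) := by
  have hG := c.hG
  have hM := c.hM
  have hE := c.hE
  obtain ⟨C, hCdef⟩ : ∃ C : Subgroup G, C = E ⊓ Subgroup.centralizer (P : Set G) := ⟨_, rfl⟩
  have hCE : C ≤ E := by rw [hCdef]; exact inf_le_left
  have hidx : C.relIndex E ≠ 1 := by
    intro h
    apply c.not_le_centralizer
    have := Subgroup.relIndex_eq_one.mp h
    exact fun g hg => (hCdef ▸ this hg : g ∈ E ⊓ Subgroup.centralizer (P : Set G)).2
  obtain ⟨r, hr, hrd⟩ := Nat.exists_prime_and_dvd hidx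
  haveI : Fact r.Prime := ⟨hr⟩
  obtain ⟨Er, hEr, -⟩ := exists_isSylowIn_ge (p := r) (bot_le : (⊥ : Subgroup G) ≤ E)
    IsPGroup.of_bot
  have hErC : ¬ Er ≤ C := by
    intro h
    apply hEr.not_dvd
    exact hrd.trans (Subgroup.relIndex_dvd_of_le_left E h)
  obtain ⟨e, heEr, heC⟩ := SetLike.not_le_iff_exists.mp hErC
  have heP : e ∉ Subgroup.centralizer (P : Set G) := by
    intro h
    apply heC
    rw [hCdef]; exact ⟨hEr.le heEr, h⟩
  have hrE : r ∣ Nat.card E := hrd.trans (Subgroup.relIndex_dvd_card C E)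
  have hrσ : r ∉ Cfsg.sigma M := compl_prime_not_sigma hG hM hE hr hrE
  have hrM : r ∣ Nat.card M := hrE.trans (Subgroup.card_dvd_of_le hE.1)
  have hrk2 : Cfsg.PRankLE r 2 M :=
    Cfsg.Agent.Lib.Helper1.BG15.rank_le_two_of_not_sigma hG hM hr hrσ
  have hrk1 : Cfsg.PRankLE r 1 M := by
    by_contra h
    exact c.tau2_empty r ⟨hr, hrσ, hrk2, h⟩
  refine ⟨r, Er, e, hr, ?_, hEr, heEr, heP⟩
  by_contra hr1'
  have hrd' : r ∣ Nat.card ↥⁅M, M⁆ := by
    by_contra hnd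
    exact hr1' ⟨hr, hrσ, hrM, hnd, hrk1⟩
  have hr3 : r ∈ Cfsg.tau3 M := ⟨hr, hrσ, hrd', hrk1⟩
  have h1 : Er ≤ ⁅E, E⁆ :=
    Cfsg.Agent.Lib.Helper11.ThirteenA.sylow_tau3_le_derived hG hM hE hr3 hEr
  have h2 := Cfsg.Agent.Lib.Helper18.Asym13D.commutator_le_centralizer_cyclic c.hPcyc c.hEP c.hEP
  exact heP (h2 (h1 heEr))

/-- the (C,b) kill: if `z ∈ E_r` of order `r ∈ τ₁(M)` centralizes `P` while `E_r` does not, then
`z` centralizes `C_{M_σ}(P)` -/
theorem cb_kill (c : Ctx M E P H p) {r : ℕ} [hr : Fact r.Prime] (hrτ : r ∈ Cfsg.tau1 M)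
    {Er : Subgroup G} (hEr : IsSylowIn r Er E) {e : G} (he : e ∈ Er)
    (hne : e ∉ Subgroup.centralizer (P : Set G)) {z : G} (hzEr : z ∈ Er) (hzo : orderOf z = r)
    (hzP : ∀ y ∈ P, y * z = z * y) :
    Cfsg.sigmaCore M ⊓ Subgroup.centralizer (P : Set G) ≤
      Subgroup.centralizer ({z} : Set G) := by
  haveI : Fact p.Prime := ⟨c.prime⟩
  have hG := c.hG
  have hM := c.hM
  have hE := c.hE
  have hr2 : r ≠ 2 := Cfsg.Agent.Lib.Helper1.BG10.prime_ne_two hG r M hrτ.2.2.1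
  have hzE : z ∈ E := hEr.le hzEr
  have hzM : z ∈ M := hE.1 hzE
  have hz1 : z ≠ 1 := by
    intro h
    rw [h, orderOf_one] at hzo
    exact hr.out.one_lt.ne hzo
  have hErH : Er ≤ H := hEr.le.trans c.hEH
  by_contra hnc
  -- `r ∈ τ₁(H)`
  have hrH : r ∈ Cfsg.tau1 H := by
    by_contra hrH
    have hb := Cfsg.Agent.Lib.Helper10.ThirteenTwo.part_b hG hM c.hH c.hpσ c.hr1 c.hPp c.hP1
      c.hPM c.hNP hrτ.2.1 hrH
    apply hnc
    intro d hd
    rw [Subgroup.mem_centralizer_singleton_iff]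
    have hdH : d ∈ H := c.hNP (Subgroup.centralizer_le_normalizer _ hd.2)
    exact (hb z ⟨hzM, hErH hzEr⟩ ⟨1, by rw [pow_one, ← hzo]; exact pow_orderOf_eq_one _⟩
      d ⟨hd.1, hdH⟩).symm
  obtain ⟨EH, hEH, hErEH⟩ := exists_compl_ge hG c.hH hErH (by
    intro q hq hqd
    have := Cfsg.Agent.Lib.Helper11.ThirteenB.prime_of_dvd_pgroup hEr.isPGroup hq hqd
    rw [this]; exact hrH.2.1)
  obtain ⟨Q, hQ, hErQ⟩ := exists_isSylowIn_ge hErEH hEr.isPGroup
  have hQc : IsCyclic Q :=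
    Cfsg.Agent.Lib.Helper11.BenderQ.isCyclic_of_pRankLE_one r hr2 hQ.isPGroup
      (Cfsg.Agent.Lib.Helper1.BG12.pRankLE_of_le (hQ.le.trans hEH.1) hrH.2.2.2.2)
  obtain ⟨S, hS⟩ := hQ.exists_sylow
  have hmap : ((S : Subgroup EH).map EH.subtype : Subgroup G) = Q := by
    rw [hS]; exact Subgroup.map_subgroupOf_eq_of_le hQ.le
  have hS1 : (S : Subgroup EH) ≠ ⊥ := by
    intro h
    have h2 : z ∈ ((S : Subgroup EH).map EH.subtype : Subgroup G) := by
      rw [hmap]; exact hErQ hzEr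
    rw [h, Subgroup.map_bot, Subgroup.mem_bot] at h2
    exact hz1 h2
  have hSc : IsCyclic (S : Subgroup EH) := by
    rw [hS]
    exact (Subgroup.subgroupOfEquivOfLe hQ.le).symm.isCyclic.mp hQc
  have h27 := Cfsg.Agent.S1427.result hG H c.hH EH hEH r S hS1 hSc z
    (by rw [hmap]; exact hErQ hzEr) hz1
  rw [hmap] at h27
  apply hne
  rw [Subgroup.mem_centralizer_iff]
  intro y hy
  have hy1 : y ∈ Cfsg.sigmaCore H ⊓ Subgroup.centralizer ({z} : Set G) :=
    ⟨c.partner.2.2 hy, Subgroup.mem_centralizer_singleton_iff.mpr (hzP y hy)⟩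
  rw [h27] at hy1
  exact (Subgroup.mem_centralizer_iff.mp hy1.2 e (hErQ he)).symm

end Ctx

end Cfsg.Agent.Lib.Helper10.KappaTau
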