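import Mathlib
import Cfsg.Agent.Lib.Helper10.KappaTauC
import Cfsg.Agent.Lib.Helper11.BenderP
import Cfsg.Agent.Lib.Helper11.BenderM

set_option autoImplicit false
open scoped commutatorElement

/-! # The `κ(M) ∩ τ₃(M) ≠ ∅` configuration: set-up of the (F) kill (helper10) -/

namespace Cfsg.Agent.Lib.Helper10.KappaTau

open Cfsg Cfsg.Agent.Lib.Helper18 Cfsg.Agent.Lib.Helper28.BGt

variable {G : Type*} [Group G] [Finite G]

namespace Ctx

variable {M E P H : Subgroup G} {p : ℕ}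

/-- `M_σ ∩ H = C_{M_σ}(P)` -/
theorem inf_eq (c : Ctx M E P H p) :
    Cfsg.sigmaCore M ⊓ H = Cfsg.sigmaCore M ⊓ Subgroup.centralizer (P : Set G) := by
  haveI : Fact p.Prime := ⟨c.prime⟩
  exact Cfsg.Agent.Lib.Helper10.ThirteenTwo.inf_eq_cent c.hG c.hM c.hH c.hpσ c.hr1 c.hPp c.hP1
    c.hPM c.hNP

theorem Y_le (c : Ctx M E P H p) :
    Cfsg.sigmaCore M ⊓ Subgroup.centralizer (P : Set G) ≤ M ⊓ H := by
  rw [← c.inf_eq]
  exact inf_le_inf_right _ (Cfsg.Agent.Lib.Helper1.BG12.sigmaCore_le M)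

/-- the Sylow `p`-subgroup `S ⊇ P` of `E` is a Sylow subgroup of `M ∩ H` with `N_G(S) ≤ H` -/
theorem sylow_facts (c : Ctx M E P H p) {S : Subgroup G} (hS : IsSylowIn p S E) (hPS : P ≤ S)
    (hSc : IsCyclic S) :
    IsSylowIn p S (M ⊓ H) ∧ Subgroup.normalizer (S : Set G) ≤ H ∧ S ≠ ⊥ := by
  haveI : Fact p.Prime := ⟨c.prime⟩
  have hSM : IsSylowIn p S M := sylow_compl c.hG c.hM c.hE c.hpσ hS
  refine ⟨hSM.of_le (le_inf hSM.le (hS.le.trans c.hEH)) inf_le_left, ?_, ?_⟩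
  · exact (Cfsg.Agent.Lib.Helper1.BG10.normalizer_le_of_cyclic p S P hPS hSc).trans c.hNP
  · intro h
    apply c.hP1
    rw [eq_bot_iff, ← h]; exact hPS

/-- a subgroup acting without fixed points on `P` acts without fixed points on `S` -/
theorem fpf_sylow (c : Ctx M E P H p) {S : Subgroup G} (hS : IsSylowIn p S E) (hPS : P ≤ S)
    (hSc : IsCyclic S) {R : Subgroup G}
    (hF : P ⊓ Subgroup.centralizer (R : Set G) = ⊥) :
    S ⊓ Subgroup.centralizer (R : Set G) = ⊥ := by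
  haveI : Fact p.Prime := ⟨c.prime⟩
  by_contra hne
  have hTp : IsPGroup p ↥(S ⊓ Subgroup.centralizer (R : Set G)) := hS.isPGroup.to_le inf_le_left
  have hpd : p ∣ Nat.card ↥(S ⊓ Subgroup.centralizer (R : Set G)) := by
    obtain ⟨k, hk⟩ := IsPGroup.iff_card.mp hTp
    rw [hk]
    apply dvd_pow_self
    rintro rfl
    rw [pow_zero] at hk
    exact hne (Subgroup.card_eq_one.mp hk)
  obtain ⟨x, hx⟩ := exists_prime_orderOf_dvd_card' p hpd
  have hxo : orderOf (x : G) = p := by rw [Subgroup.orderOf_coe]; exact hx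
  have hz : Subgroup.zpowers (x : G) = P := by
    apply Cfsg.Agent.Lib.Helper10.SigmaJsubA.eq_of_card_eq_of_le_cyclic hSc
      (by rw [Subgroup.zpowers_le]; exact x.2.1) hPS
    rw [Nat.card_zpowers, hxo, c.hPc]
  have hxP : (x : G) ∈ P := by rw [← hz]; exact Subgroup.mem_zpowers _
  have : (x : G) ∈ P ⊓ Subgroup.centralizer (R : Set G) := ⟨hxP, x.2.2⟩
  rw [hF, Subgroup.mem_bot] at this
  rw [this, orderOf_one] at hxo
  exact c.prime.one_lt.ne hxo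

theorem hEY (c : Ctx M E P H p) :
    E ≤ Subgroup.normalizer
      ((Cfsg.sigmaCore M ⊓ Subgroup.centralizer (P : Set G) : Subgroup G) : Set G) := by
  intro e he
  have h1 : e ∈ Subgroup.normalizer ((Cfsg.sigmaCore M : Subgroup G) : Set G) :=
    Cfsg.Agent.Lib.Helper1.BG12.le_normalizer_sigmaCore M (c.hE.1 he)
  have h2 : e ∈ Subgroup.normalizer (P : Set G) := c.hEP he
  rw [Subgroup.mem_normalizer_iff] at h1 h2 ⊢
  intro x
  have key : ∀ (g : G), (∀ y, y ∈ P ↔ g * y * g⁻¹ ∈ P) →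
      ∀ x, x ∈ Subgroup.centralizer (P : Set G) → g * x * g⁻¹ ∈ Subgroup.centralizer (P : Set G) := by
    intro g hg x hx
    rw [Subgroup.mem_centralizer_iff] at hx ⊢
    intro y hy
    have hy' : g⁻¹ * y * g ∈ P := by
      rw [hg]
      have : g * (g⁻¹ * y * g) * g⁻¹ = y := by group
      rw [this]; exact hy
    have h3 := hx _ hy'
    calc y * (g * x * g⁻¹) = g * ((g⁻¹ * y * g) * x) * g⁻¹ := by group
      _ = g * (x * (g⁻¹ * y * g)) * g⁻¹ := by rw [h3]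
      _ = g * x * g⁻¹ * y := by group
  constructor
  · rintro ⟨hx1, hx2⟩
    exact ⟨(h1 x).mp hx1, key e h2 x hx2⟩
  · rintro ⟨hx1, hx2⟩
    refine ⟨(h1 x).mpr hx1, ?_⟩
    have h2' : ∀ y, y ∈ P ↔ e⁻¹ * y * e⁻¹⁻¹ ∈ P := by
      intro y
      rw [h2 (e⁻¹ * y * e⁻¹⁻¹)]
      have : e * (e⁻¹ * y * e⁻¹⁻¹) * e⁻¹ = y := by group
      rw [this]
    have := key e⁻¹ h2' _ hx2
    have e1 : e⁻¹ * (e * x * e⁻¹) * e⁻¹⁻¹ = x := by group
    rwa [e1] at this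


theorem cop_E (c : Ctx M E P H p) : (Nat.card E).Coprime (Nat.card (Cfsg.sigmaCore M)) := by
  apply Nat.coprime_of_dvd
  intro k hk h1 h2
  exact compl_prime_not_sigma c.hG c.hM c.hE hk h1 (prime_sigmaCore c.hG c.hM hk h2)

/-- an `E`-invariant Sylow subgroup `Q` of `Y = C_{M_σ}(P)`; it is a Sylow subgroup of `M ∩ H` -/
theorem exists_Q (c : Ctx M E P H p) :
    ∃ (q : ℕ) (Q : Subgroup G), q.Prime ∧ q ∈ Cfsg.sigma M ∧
      IsSylowIn q Q (Cfsg.sigmaCore M ⊓ Subgroup.centralizer (P : Set G)) ∧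
      E ≤ Subgroup.normalizer (Q : Set G) ∧ Q ≠ ⊥ ∧ IsSylowIn q Q (M ⊓ H) := by
  have hG := c.hG
  have hM := c.hM
  obtain ⟨Y, hYdef⟩ : ∃ Y : Subgroup G,
      Y = Cfsg.sigmaCore M ⊓ Subgroup.centralizer (P : Set G) := ⟨_, rfl⟩
  have hY1 : Y ≠ ⊥ := by rw [hYdef]; exact c.hY
  have hYσ : Y ≤ Cfsg.sigmaCore M := by rw [hYdef]; exact inf_le_left
  have hYMH : Y ≤ M ⊓ H := by rw [hYdef]; exact c.Y_le
  have hEY : E ≤ Subgroup.normalizer (Y : Set G) := by rw [hYdef]; exact c.hEY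
  have hc1 : Nat.card Y ≠ 1 := fun h => hY1 (Subgroup.card_eq_one.mp h)
  obtain ⟨q, hq, hqd⟩ := Nat.exists_prime_and_dvd hc1
  haveI : Fact q.Prime := ⟨hq⟩
  have hqσ : q ∈ Cfsg.sigma M :=
    prime_sigmaCore hG hM hq (hqd.trans (Subgroup.card_dvd_of_le hYσ))
  have hcop : (Nat.card E).Coprime (Nat.card Y) :=
    Nat.Coprime.coprime_dvd_right (Subgroup.card_dvd_of_le hYσ) c.cop_E
  have hEs : Group.IsSolvable E := by
    haveI := Cfsg.Agent.Lib.Helper11.MaxSubB.coatom_solvable hG M hM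
    exact Cfsg.Agent.Lib.Lead.solvable_of_le c.hE.1
  obtain ⟨Q, hQY, hEQ, -⟩ := Cfsg.Agent.Lib.Helper11.BenderP.exists_inv_sylow_ge E Y hEY hcop hEs q
    ⊥ bot_le IsPGroup.of_bot (by
      intro e _
      rw [Subgroup.mem_normalizer_iff]
      intro x
      simp [Subgroup.mem_bot])
  have hQ1 : Q ≠ ⊥ := by
    intro h
    apply hQY.not_dvd
    rw [h, Subgroup.relIndex_bot_left]
    exact hqd
  refine ⟨q, Q, hq, hqσ, hYdef ▸ hQY, hEQ, hQ1, ?_⟩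
  -- Sylow in `M ∩ H`
  obtain ⟨Q₂, hQ₂, hQQ₂⟩ := exists_isSylowIn_ge (hQY.le.trans hYMH) hQY.isPGroup
  have h1 : Q₂ ≤ Cfsg.sigmaCore M :=
    Cfsg.Agent.Lib.Helper1.BG12.pgroup_le_sigmaCore hG M hM q hqσ Q₂ (hQ₂.le.trans inf_le_left)
      hQ₂.isPGroup
  have h2 : Q₂ ≤ Y := by
    rw [hYdef, ← c.inf_eq]
    exact le_inf h1 (hQ₂.le.trans inf_le_right)
  have h3 : Q₂ = Q := hQY.eq_of_le h2 hQ₂.isPGroup hQQ₂
  rw [← h3]; exact hQ₂

end Ctx

end Cfsg.Agent.Lib.Helper10.KappaTau
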