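import Mathlib
import Cfsg.Agent.Lib.Helper10.KappaTauD
import Cfsg.Agent.S1404
import Cfsg.Agent.S1423

set_option autoImplicit false
open scoped commutatorElement

/-! # The (F) kill, case `q ∈ β(M)` (helper10) -/

namespace Cfsg.Agent.Lib.Helper10.KappaTau

open Cfsg Cfsg.Agent.Lib.Helper18 Cfsg.Agent.Lib.Helper28.BGt

variable {G : Type*} [Group G] [Finite G]

namespace Ctx

variable {M E P H : Subgroup G} {p : ℕ}

theorem hpα (c : Ctx M E P H p) : p ∉ Cfsg.alpha M := by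
  intro h
  apply h.2
  intro A hA hAp
  have := c.hr1 A hA hAp
  calc Nat.card A ≤ p ^ 1 := this
    _ ≤ p ^ 2 := Nat.pow_le_pow_right c.prime.pos (by norm_num)

/-- case `q ∈ β(M)` -/
theorem caseA (c : Ctx M E P H p) {r : ℕ} (hrτ : r ∈ Cfsg.tau1 M) {R : Subgroup G}
    (hRE : R ≤ E) (hRc : Nat.card R = r) (hF : P ⊓ Subgroup.centralizer (R : Set G) = ⊥)
    {q : ℕ} [hq : Fact q.Prime] (hqβ : q ∈ Cfsg.beta M) {Q : Subgroup G} (hQp : IsPGroup q Q)
    (hQY : Q ≤ Cfsg.sigmaCore M ⊓ Subgroup.centralizer (P : Set G)) (hQ1 : Q ≠ ⊥) :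
    Q ⊓ Subgroup.centralizer (R : Set G) = ⊥ ∧ Subgroup.normalizer (Q : Set G) ≤ M := by
  haveI : Fact p.Prime := ⟨c.prime⟩
  have hG := c.hG
  have hM := c.hM
  have hQM : Q ≤ M := (hQY.trans inf_le_left).trans (Cfsg.Agent.Lib.Helper1.BG12.sigmaCore_le M)
  have hqσ : q ∈ Cfsg.sigma M := Cfsg.Agent.Lib.Helper11.BenderN.alpha_sub_sigma hG M hM q hqβ.1
  constructor
  · have h12 := (twelve_twelve_a hG hM hrτ (hRE.trans c.hE.1) hRc c.hpα c.hPp c.hPM
      (hRE.trans c.hEP) hF c.alphaCore_ne_bot c.hH c.hHM c.hNP).2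
    have hQα : Q ≤ Cfsg.alphaCore M :=
      Cfsg.Agent.Lib.Helper1.BG12.pgroup_le_alphaCore hG M hM q hqβ.1 Q hQM hQp
    rw [eq_bot_iff, ← h12]
    intro x hx
    exact ⟨⟨hQα hx.1, (hQY hx.1).2⟩, hx.2⟩
  · have h04 := (Cfsg.Agent.S1404.result hG M hM q hqσ Q hQp hQ1 hQM).2
    rw [h04]
    apply sup_le inf_le_left
    -- a subgroup of order `q`
    have hqd : q ∣ Nat.card Q := by
      obtain ⟨k, hk⟩ := IsPGroup.iff_card.mp hQp
      rw [hk]
      apply dvd_pow_self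
      rintro rfl
      rw [pow_zero] at hk
      exact hQ1 (Subgroup.card_eq_one.mp hk)
    obtain ⟨x, hx⟩ := exists_prime_orderOf_dvd_card' q hqd
    have hxo : orderOf (x : G) = q := by rw [Subgroup.orderOf_coe]; exact hx
    have hXQ : Subgroup.zpowers (x : G) ≤ Q := by rw [Subgroup.zpowers_le]; exact x.2
    obtain ⟨P₀⟩ : Nonempty (Sylow q ↥(Cfsg.sigmaCore M)) := inferInstance
    have h23 := (Cfsg.Agent.S1423.result hG M hM q hqσ (Subgroup.zpowers (x : G))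
      (hXQ.trans hQM) (by rw [Nat.card_zpowers, hxo]) P₀ (Or.inl hqβ)).1.1
    exact (Subgroup.centralizer_le hXQ).trans h23

end Ctx

end Cfsg.Agent.Lib.Helper10.KappaTau
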