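import Mathlib
import Cfsg.Agent.Lib.Helper10.KappaTauE
import Cfsg.Agent.Lib.Helper18.Asym13C
import Cfsg.Agent.S1378
import Cfsg.Agent.S1420

set_option autoImplicit false
open scoped commutatorElement

/-! # The (F) kill, case `q ∉ β(M)`: `Q` is an abelian Sylow subgroup of `G` (helper10) -/

namespace Cfsg.Agent.Lib.Helper10.KappaTau

open Cfsg Cfsg.Agent.Lib.Helper18 Cfsg.Agent.Lib.Helper28.BGt
open Cfsg.Agent.Lib.Helper18.SigPartB

variable {G : Type*} [Group G] [Finite G]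

namespace Ctx

variable {M E P H : Subgroup G} {p : ℕ}

/-- in the (F) case, `|M : M ∩ H|` divides `|M_β|` -/
theorem index_dvd (c : Ctx M E P H p) {r : ℕ} (hr : r.Prime) (hrσ : r ∉ Cfsg.sigma M)
    {R : Subgroup G} (hRE : R ≤ E) (hRc : Nat.card R = r)
    (hF : P ⊓ Subgroup.centralizer (R : Set G) = ⊥) :
    (M ⊓ H).relIndex M ∣ Nat.card (Mb M) := by
  haveI : Fact p.Prime := ⟨c.prime⟩
  obtain ⟨S, hSE, hPS, hScyc, hES, -⟩ := c.exists_sylow
  obtain ⟨hSMH, hNS, hS1⟩ := c.sylow_facts hSE hPS hScyc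
  have hfpf := c.fpf_sylow hSE hPS hScyc hF
  have half : Cfsg.Agent.Lib.Helper18.Asym13C.Half M H S R p r :=
    { hG := c.hG, hM := c.hM, hL := c.hH, hne := c.hHM, hq := c.prime, hp := hr,
      hpβ := fun h => hrσ (beta_sub_sigma c.hG c.hM h),
      hQ := hSMH, hQ1 := hS1, hNL := hNS,
      hPM := le_inf (hRE.trans c.hE.1) (hRE.trans c.hEH),
      hPN := hRE.trans hES, hPc := hRc, hfpf := hfpf }
  have hcov := half.cover
  have hsup : (M ⊓ H) ⊔ Mb M = M := by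
    apply le_antisymm (sup_le inf_le_left (Mb_le M))
    intro m hm
    obtain ⟨a, ha, n, hn, rfl⟩ := hcov m hm
    have hnM : n ∈ M := by
      have : n = a⁻¹ * (a * n) := by group
      rw [this]
      exact M.mul_mem (M.inv_mem (Mb_le M ha)) hm
    exact Subgroup.mul_mem _ (Subgroup.mem_sup_right ha)
      (Subgroup.mem_sup_left ⟨hnM, hNS hn⟩)
  have h1 := Cfsg.Agent.Lib.Helper18.relIndex_sup_of_le_normalizer (M ⊓ H) (Mb M)
    (inf_le_left.trans (le_normalizer_Mb M))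
  rw [hsup] at h1
  rw [h1]
  exact Subgroup.relIndex_dvd_card _ _

/-- in the (F) case a Sylow `q`-subgroup of `M ∩ H`, `q ∈ σ(M) \ β(M)`, is a Sylow subgroup of `G`
with normalizer in `M`, and it is commutative -/
theorem sylow_good (c : Ctx M E P H p) {r : ℕ} (hr : r.Prime) (hrσ : r ∉ Cfsg.sigma M)
    {R : Subgroup G} (hRE : R ≤ E) (hRc : Nat.card R = r)
    (hF : P ⊓ Subgroup.centralizer (R : Set G) = ⊥)
    {q : ℕ} [hq : Fact q.Prime] (hqσ : q ∈ Cfsg.sigma M) (hqβ : q ∉ Cfsg.beta M)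
    {Q : Subgroup G} (hQ : IsSylowIn q Q (M ⊓ H)) :
    Cfsg.Agent.Lib.Helper11.BenderM.Good M q Q ∧ IsMulCommutative Q := by
  have hG := c.hG
  have hM := c.hM
  have hQM : IsSylowIn q Q M := by
    refine ⟨hQ.le.trans inf_le_left, hQ.isPGroup, ?_⟩
    rw [← Subgroup.relIndex_mul_relIndex Q (M ⊓ H) M hQ.le inf_le_left]
    intro hd
    rcases (Nat.Prime.dvd_mul hq.out).mp hd with h | h
    · exact hQ.not_dvd h
    · exact hqβ (Mb_prime M hq.out (h.trans (c.index_dvd hr hrσ hRE hRc hF)))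
  constructor
  · obtain ⟨S₀, hS₀⟩ := Cfsg.Agent.Lib.Helper11.BenderM.exists_good_of_sigma M q hqσ
    obtain ⟨S', hS', hQS'⟩ :=
      Cfsg.Agent.Lib.Helper11.BenderM.exists_good_ge hS₀ Q hQM.le hQM.isPGroup
    have : S' = Q := hQM.eq_of_le hS'.1.le hS'.1.isPGroup hQS'
    rw [← this]; exact hS'
  · -- `q ∉ σ(H)`
    have hqH : q ∉ Cfsg.sigma H := by
      intro hqH
      obtain ⟨g, hg⟩ := (Cfsg.Agent.S1378.result hG).2 M H hM c.hH ⟨q, hqσ, hqH⟩
      exact c.partner.1 g hg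
    obtain ⟨EH, hEH⟩ := Cfsg.Agent.Lib.Helper18.BGTwelveA.exists_complIn_sigmaCore hG H c.hH
    have h20 := (Cfsg.Agent.S1420.result hG H c.hH EH hEH).1
    apply h20 Q (hQ.le.trans inf_le_right) hQ.isPGroup.isNilpotent
    intro t ht htd
    have := Cfsg.Agent.Lib.Helper11.ThirteenB.prime_of_dvd_pgroup hQ.isPGroup ht htd
    rw [this]; exact hqH

end Ctx

end Cfsg.Agent.Lib.Helper10.KappaTau
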