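import Mathlib
import Cfsg.Prelude.Def_Transfer

set_option autoImplicit false

/-! # A commutative Sylow subgroup of a group with a normal `q`-complement is central in its
normalizer (helper10) -/

namespace Cfsg.Agent.Lib.Helper10.KappaTauG

variable {Γ : Type*} [Group Γ] [Finite Γ]

theorem normalizer_le_centralizer_of_normalPComplement {q : ℕ} [hq : Fact q.Prime]
    (h : Cfsg.HasNormalPComplement q Γ) (Q : Sylow q Γ)
    (hQc : ∀ a ∈ (Q : Subgroup Γ), ∀ b ∈ (Q : Subgroup Γ), a * b = b * a) :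
    Subgroup.normalizer ((Q : Subgroup Γ) : Set Γ) ≤
      Subgroup.centralizer ((Q : Subgroup Γ) : Set Γ) := by
  obtain ⟨P₁, N, hN, hcompl⟩ := h
  have hcard : Nat.card N * Nat.card (P₁ : Subgroup Γ) = Nat.card Γ := hcompl.card_mul_card
  have hPQ : Nat.card (P₁ : Subgroup Γ) = Nat.card (Q : Subgroup Γ) := by
    rw [Sylow.card_eq_multiplicity, Sylow.card_eq_multiplicity]
  have hNq : (Nat.card N).Coprime q := by
    rw [Nat.coprime_comm, Nat.Prime.coprime_iff_not_dvd hq.out]
    intro hd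
    have h2 : (P₁ : Subgroup Γ).index = Nat.card N := hcompl.index_eq_card
    rw [← h2] at hd
    exact P₁.not_dvd_index hd
  have hdisj : Disjoint N (Q : Subgroup Γ) := by
    apply Subgroup.disjoint_of_coprime_natCard
    obtain ⟨k, hk⟩ := IsPGroup.iff_card.mp Q.isPGroup'
    rw [hk]
    exact Nat.Coprime.pow_right k hNq
  have hcompl' : N.IsComplement' (Q : Subgroup Γ) :=
    Subgroup.isComplement'_of_card_mul_and_disjoint (by rw [← hPQ, hcard]) hdisj
  intro s hs
  rw [Subgroup.mem_centralizer_iff]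
  intro x hx
  -- decompose `s = n * u`
  obtain ⟨⟨⟨n, hn⟩, ⟨u, hu⟩⟩, hnu⟩ := hcompl'.2 s
  simp only at hnu
  have hnN : n ∈ Subgroup.normalizer ((Q : Subgroup Γ) : Set Γ) := by
    have : n = s * u⁻¹ := by rw [← hnu]; group
    rw [this]
    exact Subgroup.mul_mem _ hs (Subgroup.inv_mem _ (Subgroup.le_normalizer hu))
  have hnx : n * x * n⁻¹ ∈ (Q : Subgroup Γ) := (Subgroup.mem_normalizer_iff.mp hnN x).mp hx
  have h1 : n * x * n⁻¹ * x⁻¹ ∈ (Q : Subgroup Γ) :=
    Subgroup.mul_mem _ hnx (Subgroup.inv_mem _ hx)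
  have h2 : n * x * n⁻¹ * x⁻¹ ∈ N := by
    have h3 : x * n⁻¹ * x⁻¹ ∈ N := hN.conj_mem _ (N.inv_mem hn) x
    have : n * x * n⁻¹ * x⁻¹ = n * (x * n⁻¹ * x⁻¹) := by group
    rw [this]
    exact N.mul_mem hn h3
  have h4 : n * x * n⁻¹ * x⁻¹ = 1 := by
    have := Subgroup.disjoint_def.mp hdisj h2 h1
    exact this
  have hnc : n * x = x * n := by
    calc n * x = (n * x * n⁻¹ * x⁻¹) * (x * n) := by group
      _ = x * n := by rw [h4, one_mul]
  have huc : u * x = x * u := hQc u hu x hx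
  rw [← hnu]
  calc x * (n * u) = (x * n) * u := by group
    _ = (n * x) * u := by rw [hnc]
    _ = n * (x * u) := by group
    _ = n * (u * x) := by rw [huc]
    _ = n * u * x := by group

end Cfsg.Agent.Lib.Helper10.KappaTauG
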