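import Mathlib
import Cfsg.Agent.Lib.Helper10.KappaTauF
import Cfsg.Agent.Lib.Helper10.KappaTauG
import Cfsg.Agent.Lib.Helper1.AbelianSylowQuot
import Cfsg.Agent.S1414

set_option autoImplicit false
open scoped commutatorElement

/-! # The (F) kill, case `q ∉ β(M)` (helper10) -/

namespace Cfsg.Agent.Lib.Helper10.KappaTau

open Cfsg Cfsg.Agent.Lib.Helper18 Cfsg.Agent.Lib.Helper28.BGt
open Cfsg.Agent.Lib.Helper18.SigPartB

variable {G : Type*} [Group G] [Finite G]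

/-- for `q ∉ β(M)` a commutative Sylow `q`-subgroup `Q` of `M_σ` is centralized by
`N_{M_σ}(Q)` -/
theorem sigmaCore_normalizer_le_centralizer (hG : Cfsg.IsMinSimpleOddOrder G) {M : Subgroup G}
    (hM : IsCoatom M) {q : ℕ} [hq : Fact q.Prime] (hqM : q ∣ Nat.card M)
    (hqβ : q ∉ Cfsg.beta M) {Q : Subgroup G} (hQ : IsSylowIn q Q (Cfsg.sigmaCore M))
    (hQc : IsMulCommutative Q) :
    Cfsg.sigmaCore M ⊓ Subgroup.normalizer (Q : Set G) ≤ Subgroup.centralizer (Q : Set G) := by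
  have h14 := ((Cfsg.Agent.S1414.result hG M hM).2.2.2.2 q hq.out hqM hqβ).2.1
  obtain ⟨Q₁, hQ₁⟩ := hQ.exists_sylow
  have hcomm : ∀ a ∈ (Q₁ : Subgroup ↥(Cfsg.sigmaCore M)), ∀ b ∈ (Q₁ : Subgroup ↥(Cfsg.sigmaCore M)),
      a * b = b * a := by
    intro a ha b hb
    rw [hQ₁, Subgroup.mem_subgroupOf] at ha hb
    apply Subtype.ext
    have := hQc.is_comm.comm ⟨(a : G), ha⟩ ⟨(b : G), hb⟩
    have h3 : (a : G) * (b : G) = (b : G) * (a : G) := congrArg Subtype.val this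
    exact h3
  have key := Cfsg.Agent.Lib.Helper10.KappaTauG.normalizer_le_centralizer_of_normalPComplement
    h14 Q₁ hcomm
  rintro b ⟨hbσ, hbN⟩
  rw [Subgroup.mem_centralizer_iff]
  intro x hx
  have hb' : (⟨b, hbσ⟩ : ↥(Cfsg.sigmaCore M)) ∈
      Subgroup.normalizer ((Q₁ : Subgroup ↥(Cfsg.sigmaCore M)) : Set ↥(Cfsg.sigmaCore M)) := by
    rw [Subgroup.mem_normalizer_iff]
    intro h
    rw [hQ₁, Subgroup.mem_subgroupOf, Subgroup.mem_subgroupOf]
    exact Subgroup.mem_normalizer_iff.mp hbN (h : G)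
  have h2 := Subgroup.mem_centralizer_iff.mp (key hb') ⟨x, hQ.le hx⟩
    (by
      show (⟨x, hQ.le hx⟩ : ↥(Cfsg.sigmaCore M)) ∈ (Q₁ : Subgroup ↥(Cfsg.sigmaCore M))
      rw [hQ₁, Subgroup.mem_subgroupOf]; exact hx)
  exact congrArg Subtype.val h2

namespace Ctx

variable {M E P H : Subgroup G} {p : ℕ}

/-- case `q ∉ β(M)` -/
theorem caseB (c : Ctx M E P H p) {r : ℕ} (hr : r.Prime) (hrσ : r ∉ Cfsg.sigma M) {z : G}
    (hzE : z ∈ E) (hzo : orderOf z = r)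
    (hF : P ⊓ Subgroup.centralizer ((Subgroup.zpowers z : Subgroup G) : Set G) = ⊥)
    (hPA : Cfsg.sigmaCore M ⊓ Subgroup.centralizer (P : Set G) ⊓
      Subgroup.centralizer ({z} : Set G) ≤ Subgroup.centralizer (E : Set G))
    {q : ℕ} [hq : Fact q.Prime] (hqσ : q ∈ Cfsg.sigma M) (hqβ : q ∉ Cfsg.beta M)
    {Q : Subgroup G} (hQ : IsSylowIn q Q (M ⊓ H))
    (hQY : Q ≤ Cfsg.sigmaCore M ⊓ Subgroup.centralizer (P : Set G))
    (hEQ : E ≤ Subgroup.normalizer (Q : Set G)) :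
    Q ⊓ Subgroup.centralizer ((Subgroup.zpowers z : Subgroup G) : Set G) = ⊥ ∧
      Subgroup.normalizer (Q : Set G) ≤ M := by
  have hG := c.hG
  have hM := c.hM
  have hRE : Subgroup.zpowers z ≤ E := by rw [Subgroup.zpowers_le]; exact hzE
  have hRc : Nat.card (Subgroup.zpowers z) = r := by rw [Nat.card_zpowers, hzo]
  obtain ⟨hgood, hQc⟩ := c.sylow_good hr hrσ hRE hRc hF hqσ hqβ hQ
  have hNQ : Subgroup.normalizer (Q : Set G) ≤ M := hgood.2.1
  refine ⟨?_, hNQ⟩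
  -- `Q` as a Sylow subgroup of `G`
  have hidx : ¬ q ∣ Q.index := by
    have := hgood.2.2.not_dvd
    rwa [Subgroup.relIndex_top_right] at this
  obtain ⟨Pq, hPq⟩ : ∃ Pq : Sylow q G, (Pq : Subgroup G) = Q :=
    ⟨hgood.1.isPGroup.toSylow hidx, rfl⟩
  have hPqc : IsMulCommutative Pq := by
    have : IsMulCommutative (Pq : Subgroup G) := by rw [hPq]; exact hQc
    exact this
  have hdec := (Cfsg.Agent.Lib.Helper1.sylow_abelian_decomposition Pq hPqc).1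
  have hfoc := Subgroup.commutator_inf_eq_focalSubgroup Pq
  rw [Cfsg.Agent.Lib.Helper11.BenderN.commutator_eq_top hG, top_inf_eq] at hfoc
  rw [← hfoc, hPq] at hdec
  have hZ : Q ⊓ Subgroup.centralizer (Subgroup.normalizer (Q : Set G) : Set G) = ⊥ := by
    rw [eq_bot_iff, ← hdec]
    exact le_inf le_rfl inf_le_left
  -- `N_{M_σ}(Q) ≤ C(Q)`
  have hQσ : IsSylowIn q Q (Cfsg.sigmaCore M) :=
    hgood.1.of_le (hQY.trans inf_le_left) (Cfsg.Agent.Lib.Helper1.BG12.sigmaCore_le M)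
  have hNC := sigmaCore_normalizer_le_centralizer hG hM hqσ.2.1 hqβ hQσ hQc
  -- `C_Q(E) = 1`
  have hQE : Q ⊓ Subgroup.centralizer (E : Set G) = ⊥ := by
    rw [eq_bot_iff, ← hZ]
    rintro c₀ ⟨hc₀Q, hc₀E⟩
    refine ⟨hc₀Q, ?_⟩
    show c₀ ∈ Subgroup.centralizer (Subgroup.normalizer (Q : Set G) : Set G)
    rw [Subgroup.mem_centralizer_iff]
    intro n hn
    obtain ⟨a, ha, b, hb, hab⟩ := c.hE.2.2.2 n (hNQ hn)
    rw [hab] at hn ⊢
    have hbN : b ∈ Subgroup.normalizer (Q : Set G) := by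
      have : b = a⁻¹ * (a * b) := by group
      rw [this]
      exact Subgroup.mul_mem _ (Subgroup.inv_mem _ (hEQ ha)) hn
    have h1 : b * c₀ = c₀ * b :=
      (Subgroup.mem_centralizer_iff.mp (hNC ⟨hb, hbN⟩) c₀ hc₀Q).symm
    have h2 : a * c₀ = c₀ * a := Subgroup.mem_centralizer_iff.mp hc₀E a ha
    calc a * b * c₀ = a * (b * c₀) := by group
      _ = a * (c₀ * b) := by rw [h1]
      _ = (a * c₀) * b := by group
      _ = c₀ * a * b := by rw [h2]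
      _ = c₀ * (a * b) := by group
  rw [eq_bot_iff, ← hQE]
  rintro x ⟨hxQ, hxR⟩
  refine ⟨hxQ, hPA ⟨hQY hxQ, ?_⟩⟩
  rw [← Cfsg.Agent.Lib.Helper11.RegD.centralizer_zpowers_eq]
  exact hxR

end Ctx

end Cfsg.Agent.Lib.Helper10.KappaTau
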