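import Mathlib
import Cfsg.Agent.Lib.Helper10.KappaTauH
import Cfsg.Agent.Lib.Helper18.Asym13D
import Cfsg.Agent.S1428

set_option autoImplicit false
open scoped commutatorElement

/-! # The (F) kill and `C_{M_σ}(z) = C_{M_σ}(P)` (helper10) -/

namespace Cfsg.Agent.Lib.Helper10.KappaTau

open Cfsg Cfsg.Agent.Lib.Helper18 Cfsg.Agent.Lib.Helper28.BGt

variable {G : Type*} [Group G] [Finite G]

namespace Ctx

variable {M E P H : Subgroup G} {p : ℕ}

/-- **the (F) kill**: an element `z ∈ E` of order `r ∈ τ₁(M)` cannot act without fixed points on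
`P` (given the prime action datum `hPA`) -/
theorem f_kill (c : Ctx M E P H p) {r : ℕ} [hr : Fact r.Prime] (hrτ : r ∈ Cfsg.tau1 M) {z : G}
    (hzE : z ∈ E) (hzo : orderOf z = r)
    (hF : P ⊓ Subgroup.centralizer ((Subgroup.zpowers z : Subgroup G) : Set G) = ⊥)
    (hPA : Cfsg.sigmaCore M ⊓ Subgroup.centralizer (P : Set G) ⊓
      Subgroup.centralizer ({z} : Set G) ≤ Subgroup.centralizer (E : Set G)) : False := by
  haveI : Fact p.Prime := ⟨c.prime⟩
  have hG := c.hG
  have hM := c.hM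
  have hRE : Subgroup.zpowers z ≤ E := by rw [Subgroup.zpowers_le]; exact hzE
  have hRc : Nat.card (Subgroup.zpowers z) = r := by rw [Nat.card_zpowers, hzo]
  obtain ⟨S, hSE, hPS, hScyc, hES, -⟩ := c.exists_sylow
  obtain ⟨hSMH, hNS, hS1⟩ := c.sylow_facts hSE hPS hScyc
  have hfpf := c.fpf_sylow hSE hPS hScyc hF
  obtain ⟨q, Q, hq, hqσ, hQY, hEQ, hQ1, hQMH⟩ := c.exists_Q
  haveI : Fact q.Prime := ⟨hq⟩
  have key : Q ⊓ Subgroup.centralizer ((Subgroup.zpowers z : Subgroup G) : Set G) = ⊥ ∧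
      Subgroup.normalizer (Q : Set G) ≤ M := by
    by_cases hqβ : q ∈ Cfsg.beta M
    · exact c.caseA hrτ hRE hRc hF hqβ hQY.isPGroup hQY.le hQ1
    · exact c.caseB hr.out hrτ.2.1 hzE hzo hF hPA hqσ hqβ hQMH hQY.le hEQ
  have hzM : z ∈ M := c.hE.1 hzE
  have hzH : z ∈ H := c.hEH hzE
  have hrH : r ∈ Cfsg.tau1 H := by
    by_contra hrH
    have hb := Cfsg.Agent.Lib.Helper10.ThirteenTwo.part_b hG hM c.hH c.hpσ c.hr1 c.hPp c.hP1
      c.hPM c.hNP hrτ.2.1 hrH
    apply hQ1
    rw [eq_bot_iff, ← key.1]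
    intro d hd
    refine ⟨hd, ?_⟩
    show d ∈ Subgroup.centralizer ((Subgroup.zpowers z : Subgroup G) : Set G)
    rw [Cfsg.Agent.Lib.Helper11.RegD.centralizer_zpowers_eq,
      Subgroup.mem_centralizer_singleton_iff]
    have hdY := hQY.le hd
    have hdH : d ∈ H := (c.Y_le hdY).2
    exact (hb z ⟨hzM, hzH⟩ ⟨1, by rw [pow_one, ← hzo]; exact pow_orderOf_eq_one _⟩
      d ⟨hdY.1, hdH⟩).symm
  exact Cfsg.Agent.Lib.Helper18.Asym13D.twelve_thirteen_tau1 hG hM c.hH c.partner.1 hrτ hrH hRc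
    (le_inf (hRE.trans c.hE.1) (hRE.trans c.hEH)) hSMH hQMH hS1 hQ1 (hRE.trans hES)
    (hRE.trans hEQ) hfpf key.1 hNS key.2

/-- **`C_{M_σ}(z) = C_{M_σ}(P)`** for an element `z` of order `r ∈ τ₁(M)` of a Sylow
`r`-subgroup of `E` that does not centralize `P` -/
theorem cent_eq (c : Ctx M E P H p) {r : ℕ} [hr : Fact r.Prime] (hrτ : r ∈ Cfsg.tau1 M)
    {Er : Subgroup G} (hEr : IsSylowIn r Er E) {e : G} (he : e ∈ Er)
    (hne : e ∉ Subgroup.centralizer (P : Set G)) {z : G} (hzEr : z ∈ Er) (hzo : orderOf z = r)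
    (hPA : Cfsg.sigmaCore M ⊓ Subgroup.centralizer (P : Set G) ⊓
      Subgroup.centralizer ({z} : Set G) ≤ Subgroup.centralizer (E : Set G)) :
    Cfsg.sigmaCore M ⊓ Subgroup.centralizer ({z} : Set G) =
      Cfsg.sigmaCore M ⊓ Subgroup.centralizer (P : Set G) := by
  haveI : Fact p.Prime := ⟨c.prime⟩
  have hzE : z ∈ E := hEr.le hzEr
  have hCR := Cfsg.Agent.Lib.Helper11.RegD.centralizer_zpowers_eq z
  by_cases hF : P ⊓ Subgroup.centralizer ((Subgroup.zpowers z : Subgroup G) : Set G) = ⊥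
  · exact absurd (c.f_kill hrτ hzE hzo hF hPA) id
  · have hPC : P ≤ Subgroup.centralizer ((Subgroup.zpowers z : Subgroup G) : Set G) := by
      have hd : Nat.card ↥(P ⊓ Subgroup.centralizer
          ((Subgroup.zpowers z : Subgroup G) : Set G)) ∣ p := by
        rw [← c.hPc]; exact Subgroup.card_dvd_of_le inf_le_left
      rcases (Nat.dvd_prime c.prime).mp hd with h | h
      · exact absurd (Subgroup.card_eq_one.mp h) hF
      · have : P ⊓ Subgroup.centralizer ((Subgroup.zpowers z : Subgroup G) : Set G) = P := by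
          apply Subgroup.eq_of_le_of_card_ge inf_le_left
          rw [h, c.hPc]
        rw [← this]; exact inf_le_right
    have hzP : ∀ y ∈ P, y * z = z * y := by
      intro y hy
      have := hPC hy
      rw [hCR] at this
      exact Subgroup.mem_centralizer_singleton_iff.mp this
    have hcb := c.cb_kill hrτ hEr he hne hzEr hzo hzP
    apply le_antisymm
    · have h28 := Cfsg.Agent.S1428.result c.hG M c.hM E c.hE r hrτ (Subgroup.zpowers z)
        (by rw [Subgroup.zpowers_le]; exact hzE) (by rw [Nat.card_zpowers, hzo]) P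
        (le_inf c.hPE hPC) (by rw [c.hPc]; exact c.prime)
      rw [hCR] at h28
      exact h28
    · exact le_inf inf_le_left hcb

end Ctx

end Cfsg.Agent.Lib.Helper10.KappaTau
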