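import Mathlib
import Cfsg.Agent.Lib.Helper10.ZJsc
import Cfsg.Agent.Lib.Helper9.ZJ14
import Cfsg.Agent.Lib.Helper1.TNPC.Final3

set_option autoImplicit false

namespace Cfsg.Agent.Lib.Helper10.ZJnpc

open scoped Pointwise commutatorElement
open Cfsg.Agent.Lib.Helper9

universe u

section General

variable {G : Type*} [Group G] {H : Type*} [Group H]

theorem famQ_map_of_injOn [Finite G] [Finite H] (f : G →* H) (S : Subgroup G)
    (hinj : Set.InjOn f (S : Set G)) (Q : Subgroup G → Prop) (Q' : Subgroup H → Prop)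
    (hQ : ∀ A : Subgroup G, A ≤ S → (Q A ↔ Q' (A.map f))) :
    famQ Q' (S.map f) = (fun A : Subgroup G => A.map f) '' famQ Q S := by
  ext B
  constructor
  · intro hB
    refine ⟨B.comap f ⊓ S, ⟨inf_le_right, ?_, ?_⟩, map_comap_inf_of_le_map f hB.1⟩
    · rw [hQ _ inf_le_right, map_comap_inf_of_le_map f hB.1]; exact hB.2.1
    · intro V hV hVc
      have h1 := hB.2.2 (V.map f) (Subgroup.map_mono hV) ((hQ V hV).mp hVc)
      rw [Helper9.card_map_of_injOn f hinj hV] at h1
      have h2 := Helper9.card_map_of_injOn f hinj (inf_le_right : B.comap f ⊓ S ≤ S)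
      rw [map_comap_inf_of_le_map f hB.1] at h2
      omega
  · rintro ⟨A, hA, rfl⟩
    refine ⟨Subgroup.map_mono hA.1, (hQ A hA.1).mp hA.2.1, ?_⟩
    intro V hV hVc
    have h0 := map_comap_inf_of_le_map f hV
    have h1 := hA.2.2 (V.comap f ⊓ S) inf_le_right
      ((hQ _ inf_le_right).mpr (by rw [h0]; exact hVc))
    have h2 := Helper9.card_map_of_injOn f hinj (inf_le_right : V.comap f ⊓ S ≤ S)
    rw [h0] at h2
    rw [Helper9.card_map_of_injOn f hinj hA.1]
    omega

theorem zfam_map_of_injOn [Finite G] [Finite H] (f : G →* H) (S : Subgroup G)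
    (hinj : Set.InjOn f (S : Set G)) (Q : Subgroup G → Prop) (Q' : Subgroup H → Prop)
    (hbot : Q ⊥)
    (hQ : ∀ A : Subgroup G, A ≤ S → (Q A ↔ Q' (A.map f))) :
    zfam Q' (S.map f) = (zfam Q S).map f := by
  unfold zfam
  rw [famQ_map_of_injOn f S hinj Q Q' hQ]
  obtain ⟨A₀, hA₀⟩ := famQ_nonempty Q hbot S
  ext x
  rw [Subgroup.mem_sInf]
  constructor
  · intro hx
    obtain ⟨z, hz, rfl⟩ := Subgroup.mem_map.mp (hx _ ⟨A₀, hA₀, rfl⟩)
    refine Subgroup.mem_map.mpr ⟨z, ?_, rfl⟩
    rw [Subgroup.mem_sInf]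
    intro A hA
    obtain ⟨z', hz', hzz⟩ := Subgroup.mem_map.mp (hx _ ⟨A, hA, rfl⟩)
    have : z' = z := hinj (hA.1 hz') (hA₀.1 hz) hzz
    rw [← this]; exact hz'
  · intro hx
    obtain ⟨z, hz, rfl⟩ := Subgroup.mem_map.mp hx
    rw [Subgroup.mem_sInf] at hz
    rintro _ ⟨A, hA, rfl⟩
    exact Subgroup.mem_map.mpr ⟨z, hz A hA, rfl⟩

end General

/-- A family predicate defined uniformly on all groups of a universe, suitable for ZJ-arguments. -/
structure QFam (p : ℕ) (Qf : ∀ (X : Type u) [Group X], Subgroup X → Prop) : Prop where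
  hyp : ∀ (X : Type u) [Group X] [Finite X] (P : Sylow p X), ZJHyp (Qf X) (P : Subgroup X)
  map : ∀ (X Y : Type u) [Group X] [Group Y] (f : X →* Y) (S A : Subgroup X),
    Set.InjOn f (S : Set X) → A ≤ S → (Qf X A ↔ Qf Y (A.map f))
  ne_bot : ∀ (X : Type u) [Group X] [Finite X] (R : Subgroup X), IsPGroup p R → R ≠ ⊥ →
    zfam (Qf X) R ≠ ⊥
  le : ∀ (X : Type u) [Group X] [Finite X] (R : Subgroup X), zfam (Qf X) R ≤ R

theorem qfam_comm {p : ℕ} [Fact p.Prime] (hp : p ≠ 2) :
    QFam.{u} p (fun (X : Type u) [Group X] (A : Subgroup X) => IsMulCommutative A) := by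
  refine ⟨fun X _ _ P => zjhyp_comm hp P, ?_, ?_, ?_⟩
  · intro X Y _ _ f S A hinj hAS
    constructor
    · intro h
      haveI := h
      infer_instance
    · intro h
      exact comm_of_map_comm_of_injOn f hinj hAS h
  · intro X _ _ R hR hne
    exact zfam_comm_ne_bot R hR hne
  · intro X _ _ R
    exact zfam_comm_le R

theorem zfam_elem_le {X : Type*} [Group X] [Finite X] (p : ℕ) (R : Subgroup X) :
    zfam (fun A : Subgroup X => Cfsg.IsElementaryAbelian p A) R ≤ R := by
  obtain ⟨A₀, hA₀⟩ := famQ_nonempty (fun A : Subgroup X => Cfsg.IsElementaryAbelian p A)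
    (Helper5.elemAb_bot p) R
  exact (zfam_le_of_mem _ hA₀).trans hA₀.1

theorem zfam_elem_ne_bot {X : Type*} [Group X] [Finite X] {p : ℕ} [Fact p.Prime] (R : Subgroup X)
    (hR : IsPGroup p R) (hR1 : R ≠ ⊥) :
    zfam (fun A : Subgroup X => Cfsg.IsElementaryAbelian p A) R ≠ ⊥ := by
  have hnt : Nontrivial R := (Subgroup.nontrivial_iff_ne_bot R).mpr hR1
  have hcn : Nontrivial (Subgroup.center R) := hR.center_nontrivial
  have hZp : IsPGroup p (Subgroup.center R) := hR.to_subgroup _
  -- an element of order p in the centre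
  have hcard : p ∣ Nat.card (Subgroup.center R) := by
    obtain ⟨k, hk⟩ := IsPGroup.iff_card.mp hZp
    rw [hk]
    have hk0 : k ≠ 0 := by
      intro h0
      rw [h0, pow_zero] at hk
      have := (Nat.card_eq_one_iff_unique.mp hk).1
      exact not_subsingleton _ this
    exact dvd_pow_self p hk0
  obtain ⟨z, hz⟩ := exists_prime_orderOf_dvd_card' p hcard
  have hz1 : ((z : R) : X) ≠ 1 := by
    intro h
    have : z = 1 := by
      apply Subtype.ext
      apply Subtype.ext
      simpa using h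
    rw [this, orderOf_one] at hz
    exact (Fact.out : p.Prime).one_lt.ne hz
  have hzp : ((z : R) : X) ^ p = 1 := by
    have := pow_orderOf_eq_one z
    rw [hz] at this
    have h2 := congrArg (fun w : Subgroup.center R => ((w : R) : X)) this
    simpa using h2
  have hzc : ∀ r ∈ R, r * ((z : R) : X) = ((z : R) : X) * r := by
    intro r hr
    have h1 := Subgroup.mem_center_iff.mp z.2 ⟨r, hr⟩
    have h2 := congrArg Subtype.val h1
    simpa using h2
  have hmem : ((z : R) : X) ∈ zfam (fun A : Subgroup X => Cfsg.IsElementaryAbelian p A) R := by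
    unfold zfam
    rw [Subgroup.mem_sInf]
    intro A hA
    have hZea : Cfsg.IsElementaryAbelian p (Subgroup.zpowers ((z : R) : X)) := by
      refine ⟨inferInstance, ?_⟩
      intro a ha
      obtain ⟨k, rfl⟩ := Subgroup.mem_zpowers_iff.mp ha
      rw [← zpow_natCast, ← zpow_mul, mul_comm, zpow_mul, zpow_natCast, hzp, one_zpow]
    have hsup : Cfsg.IsElementaryAbelian p (A ⊔ Subgroup.zpowers ((z : R) : X)) := by
      apply Helper1.TNPC.ea_sup hA.2.1 hZea
      rw [Subgroup.zpowers_le]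
      rw [Subgroup.mem_centralizer_iff]
      intro a ha
      exact hzc a (hA.1 ha)
    have hle : A ⊔ Subgroup.zpowers ((z : R) : X) ≤ R :=
      sup_le hA.1 (Subgroup.zpowers_le.mpr (z : R).2)
    have hcard := hA.2.2 _ hle hsup
    have heq := Subgroup.eq_of_le_of_card_ge (le_sup_left : A ≤ A ⊔ Subgroup.zpowers ((z : R) : X)) hcard
    rw [heq]
    exact (le_sup_right : Subgroup.zpowers ((z : R) : X) ≤ _) (Subgroup.mem_zpowers _)
  intro hbot
  rw [hbot, Subgroup.mem_bot] at hmem
  exact hz1 hmem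

theorem qfam_elem {p : ℕ} [Fact p.Prime] (hp : p ≠ 2) :
    QFam.{u} p (fun (X : Type u) [Group X] (A : Subgroup X) => Cfsg.IsElementaryAbelian p A) := by
  refine ⟨fun X _ _ P => zjhyp_elem hp P, ?_, ?_, ?_⟩
  · intro X Y _ _ f S A hinj hAS
    constructor
    · intro h
      exact Helper5.elemAb_map f h
    · intro h
      exact Helper1.TNPC.ea_of_map_injOn f hinj hAS h
  · intro X _ _ R hR hne
    exact zfam_elem_ne_bot R hR hne
  · intro X _ _ R
    exact zfam_elem_le p R

end Cfsg.Agent.Lib.Helper10.ZJnpc
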