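import Mathlib
import Cfsg.Agent.Lib.Helper10.NPStab3
import Cfsg.Agent.Lib.Helper10.ZJnpc1
import Cfsg.Agent.Lib.Helper13.SecFusI

set_option autoImplicit false

/-! `ZJ`-type functors control strong fusion in `SL₂(p)`-free groups (`p` odd). -/

universe u

namespace Cfsg.Agent.Lib.Helper10.ZJfree

open scoped Pointwise commutatorElement
open Cfsg.Agent.Lib.Helper9 Cfsg.Agent.Lib.Helper10.ZJnpc Cfsg.Agent.Lib.Helper10.ZJsc
  Cfsg.Agent.Lib.Helper13 Cfsg.Agent.Lib.Helper10.NPStab

variable {p : ℕ} [Fact p.Prime]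

/-- The functor on groups attached to a family predicate: the intersection of the members of the
family of the whole group. -/
def Wz (Qf : ∀ (X : Type u) [Group X], Subgroup X → Prop) : ∀ (Q : Type u) [Group Q], Subgroup Q :=
  fun Q _ => zfam (Qf Q) ⊤

theorem inducedFunctor_Wz {Qf : ∀ (X : Type u) [Group X], Subgroup X → Prop} (hQ : QFam p Qf)
    {G : Type u} [Group G] [Finite G] (P : Subgroup G) :
    Cfsg.inducedFunctor (G := G) (Wz Qf) P = zfam (Qf G) P := by
  unfold Cfsg.inducedFunctor Wz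
  obtain ⟨S⟩ : Nonempty (Sylow p ↥P) := inferInstance
  have h := zfam_map_of_injOn P.subtype ⊤ (P.subtype_injective.injOn) (Qf ↥P) (Qf G)
    (hQ.hyp ↥P S).bot
    (fun A hA => hQ.map ↥P G P.subtype ⊤ A P.subtype_injective.injOn hA)
  rw [← h, ← MonoidHom.range_eq_map, Subgroup.range_subtype]

theorem isCharPFunctor_Wz {Qf : ∀ (X : Type u) [Group X], Subgroup X → Prop} (hQ : QFam p Qf) :
    Cfsg.IsCharPFunctor.{u} p (Wz Qf) := by
  constructor
  · intro Q _ _ hQp hnt
    unfold Wz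
    apply hQ.ne_bot Q ⊤ (hQp.to_subgroup ⊤)
    intro h
    obtain ⟨x, hx⟩ := exists_ne (1 : Q)
    apply hx
    have : x ∈ (⊤ : Subgroup Q) := Subgroup.mem_top x
    rw [h] at this
    exact this
  · intro Q R _ _ _ hQp φ
    unfold Wz
    haveI : Finite R := Finite.of_equiv Q φ.toEquiv
    obtain ⟨S⟩ : Nonempty (Sylow p Q) := inferInstance
    have h := zfam_map_of_injOn φ.toMonoidHom ⊤ (φ.injective.injOn) (Qf Q) (Qf R)
      (hQ.hyp Q S).bot
      (fun A hA => hQ.map Q R φ.toMonoidHom ⊤ A φ.injective.injOn hA)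
    rw [← h, Subgroup.map_top_of_surjective _ φ.surjective]

/-- `SL₂(p)`-free groups (`p` odd) are `p`-stable in the normalizer form. -/
theorem sl2free_nps (hp : p ≠ 2) (Q : Type u) [Group Q] [Finite Q]
    (h : ¬ Cfsg.Involves (Matrix.SpecialLinearGroup (Fin 2) (ZMod p)) Q) :
    Cfsg.IsNormalizerPStable p Q := by
  apply isNormalizerPStable_of_abs
  intro P _ _ M hM
  apply absPStable_of_sl2free hp
  intro hinv
  apply h
  exact Cfsg.Agent.Lib.Helper1.GNPC2.involves_of_injective (Subgroup.normalizer (P : Set Q)).subtype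
    (Subgroup.normalizer (P : Set Q)).subtype_injective
    (Cfsg.Agent.Lib.Helper1.GNPC2.involves_of_quotient' M hinv)

theorem hW_singleton {Qf : ∀ (X : Type u) [Group X], Subgroup X → Prop} (hQ : QFam p Qf) :
    ∀ W' ∈ ({Wz Qf} : Set (∀ (Q : Type u) [Group Q], Subgroup Q)),
      Cfsg.IsCharPFunctor.{u} p W' := by
  intro W' hW'
  rw [Set.mem_singleton_iff] at hW'
  rw [hW']; exact isCharPFunctor_Wz hQ

/-- In an `SL₂(p)`-free group the functor `Wz` controls strong fusion. -/
theorem fcs_of_sl2free (hp : p ≠ 2) {Qf : ∀ (X : Type u) [Group X], Subgroup X → Prop}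
    (hQ : QFam p Qf) (Y : Type u) [Group Y] [Finite Y]
    (h : ¬ Cfsg.Involves (Matrix.SpecialLinearGroup (Fin 2) (ZMod p)) Y) :
    FCS p {Wz Qf} Y := by
  apply sec_main (hW_singleton hQ) _ Y rfl
  rintro Q _ _ ⟨K, f, hf⟩ hc
  have hQfree : ¬ Cfsg.Involves (Matrix.SpecialLinearGroup (Fin 2) (ZMod p)) Q := fun hi =>
    h (involves_of_inj_surj_trans K.subtype K.subtype_injective f hf hi)
  have hst := sl2free_nps hp Q hQfree
  apply fcs_singleton_of_normal
  intro T
  rw [inducedFunctor_Wz hQ]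
  exact zfam_normal_sc (Qf Q) T (hQ.hyp Q T) T ⟨le_rfl, fun x _ g hg => hg⟩ hc hst

theorem freach_singleton_mem {G : Type u} [Group G]
    (W : ∀ (Q : Type u) [Group Q], Subgroup Q) {H T : Subgroup G} {A : Set G} {c : G}
    (h : FReach (indFam {W} G) H T A c) :
    c ∈ H ⊓ Subgroup.normalizer ((Cfsg.inducedFunctor (G := G) W T : Subgroup G) : Set G) := by
  induction h with
  | one _ => exact Subgroup.one_mem _
  | step c y V hV hy hc hA ih =>
    obtain ⟨W', hW', rfl⟩ := hV
    rw [Set.mem_singleton_iff] at hW'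
    subst hW'
    exact Subgroup.mul_mem _ hy ih

theorem controlsIn_of_family {G : Type u} [Group G]
    (W : ∀ (Q : Type u) [Group Q], Subgroup Q) (N : Subgroup G)
    (h : Cfsg.FamilyControlsStrongFusionIn p (indFam {W} G) N) :
    Cfsg.ControlsStrongFusionIn p (Cfsg.inducedFunctor (G := G) W) N := by
  obtain ⟨T, hTN, hTp, hTi, hT⟩ := familyControlsStrongFusionIn_iff.mp h
  refine ⟨T, hTN, hTp, hTi, ?_⟩
  intro A h' hh hA hhA
  obtain ⟨c, hc, hca⟩ := hT A h' hh hA hhA
  exact ⟨c, freach_singleton_mem W hc, hca⟩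

/-- Local control: in an `SL₂(p)`-free subgroup `N` of `G`, the functor controls strong fusion. -/
theorem local_controls (hp : p ≠ 2) {Qf : ∀ (X : Type u) [Group X], Subgroup X → Prop}
    (hQ : QFam p Qf) {G : Type u} [Group G] [Finite G] (N : Subgroup G)
    (h : ¬ Cfsg.Involves (Matrix.SpecialLinearGroup (Fin 2) (ZMod p)) ↥N) :
    Cfsg.ControlsStrongFusionIn p (Cfsg.inducedFunctor (G := G) (Wz Qf)) N :=
  controlsIn_of_family _ N (fcs_subgroup_of_type (hW_singleton hQ) N (fcs_of_sl2free hp hQ ↥N h))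

end Cfsg.Agent.Lib.Helper10.ZJfree
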