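import Mathlib
import Cfsg.Agent.Lib.Helper10.ZJfree1
import Cfsg.Agent.Lib.Helper18.CharP
import Cfsg.Agent.Lib.Helper13.Tight
import Cfsg.Agent.Lib.helper17.PClosed

set_option autoImplicit false

/-! Groups of characteristic `p` all of whose sections are `p`-stable (`Nice`), and their closure
properties. -/

universe u

namespace Cfsg.Agent.Lib.Helper10.KF

open scoped Pointwise
open Cfsg.Agent.Lib.Helper13

section NiceDef

variable (p : ℕ)

/-- Groups `X` with `C_X(O_p(X)) ≤ O_p(X)` all of whose sections are `p`-stable in the normalizer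
form. -/
def Nice (X : Type u) [Group X] : Prop :=
  Subgroup.centralizer (Cfsg.pCore p X : Set X) ≤ Cfsg.pCore p X ∧
    SecAll (fun (Q : Type u) [Group Q] => Cfsg.IsNormalizerPStable p Q) X

end NiceDef

section Quot

variable {p : ℕ} [Fact p.Prime] {G : Type*} [Group G] [Finite G]

/-- Characteristic `p` passes to quotients by central `p`-subgroups. -/
theorem cent_quotient_central (hG : Subgroup.centralizer (Cfsg.pCore p G : Set G) ≤ Cfsg.pCore p G)
    (Z : Subgroup G) [Z.Normal] (hZp : IsPGroup p Z) (hZc : Z ≤ Subgroup.center G) :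
    Subgroup.centralizer (Cfsg.pCore p (G ⧸ Z) : Set (G ⧸ Z)) ≤ Cfsg.pCore p (G ⧸ Z) := by
  have hQn : (Cfsg.pCore p (G ⧸ Z)).Normal := Cfsg.Agent.Lib.Helper18.pCore_normal_h18 p (G ⧸ Z)
  have hCn : (Subgroup.centralizer (Cfsg.pCore p (G ⧸ Z) : Set (G ⧸ Z))).Normal := inferInstance
  apply Cfsg.Agent.Lib.Helper18.le_pCore hCn
  have hQ := Cfsg.Agent.Lib.helper17.pCore_quotient (p := p) Z hZp
  have hQp : IsPGroup p (Cfsg.pCore p G) := Cfsg.Agent.Lib.Helper18.pCore_isPGroup p G
  obtain ⟨a, ha⟩ := IsPGroup.iff_card.mp hZp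
  obtain ⟨b, hb⟩ := IsPGroup.iff_card.mp hQp
  rintro ⟨xb, hxb⟩
  obtain ⟨x, rfl⟩ := QuotientGroup.mk_surjective xb
  -- `x` acts on `O_p(G)` modulo `Z`
  have hcomm : ∀ q ∈ Cfsg.pCore p G, x * q * x⁻¹ * q⁻¹ ∈ Z := by
    intro q hq
    have h1 : (QuotientGroup.mk' Z q) ∈ Cfsg.pCore p (G ⧸ Z) := by
      rw [hQ]; exact ⟨q, hq, rfl⟩
    have h2 := Subgroup.mem_centralizer_iff.mp hxb _ h1
    rw [← QuotientGroup.eq_one_iff]
    have e : ((x * q * x⁻¹ * q⁻¹ : G) : G ⧸ Z) =
        (QuotientGroup.mk' Z x) * (QuotientGroup.mk' Z q) * (QuotientGroup.mk' Z x)⁻¹ *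
          (QuotientGroup.mk' Z q)⁻¹ := by simp
    rw [e]
    have h3 : (QuotientGroup.mk' Z q) * (QuotientGroup.mk' Z x) =
        (QuotientGroup.mk' Z x) * (QuotientGroup.mk' Z q) := h2
    rw [← h3]
    group
  have hpow : ∀ (k : ℕ), ∀ q ∈ Cfsg.pCore p G,
      x ^ k * q * (x ^ k)⁻¹ = (x * q * x⁻¹ * q⁻¹) ^ k * q := by
    intro k
    induction k with
    | zero => intro q _; simp
    | succ k ih =>
      intro q hq
      have hz := hcomm q hq
      have hzc : ∀ y : G, y * (x * q * x⁻¹ * q⁻¹) = (x * q * x⁻¹ * q⁻¹) * y := by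
        intro y
        exact (Subgroup.mem_center_iff.mp (hZc hz) y)
      have hzk : ∀ y : G, y * (x * q * x⁻¹ * q⁻¹) ^ k = (x * q * x⁻¹ * q⁻¹) ^ k * y := by
        intro y
        exact (Subgroup.mem_center_iff.mp (Subgroup.pow_mem _ (hZc hz) k) y)
      calc x ^ (k + 1) * q * (x ^ (k + 1))⁻¹ = x * (x ^ k * q * (x ^ k)⁻¹) * x⁻¹ := by
            rw [pow_succ']; group
        _ = x * ((x * q * x⁻¹ * q⁻¹) ^ k * q) * x⁻¹ := by rw [ih q hq]
        _ = (x * (x * q * x⁻¹ * q⁻¹) ^ k) * q * x⁻¹ := by group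
        _ = ((x * q * x⁻¹ * q⁻¹) ^ k * x) * q * x⁻¹ := by rw [hzk x]
        _ = (x * q * x⁻¹ * q⁻¹) ^ k * ((x * q * x⁻¹ * q⁻¹) * q) := by group
        _ = (x * q * x⁻¹ * q⁻¹) ^ (k + 1) * q := by rw [pow_succ]; group
  have hxa : x ^ (p ^ a) ∈ Subgroup.centralizer (Cfsg.pCore p G : Set G) := by
    rw [Subgroup.mem_centralizer_iff]
    intro q hq
    have h1 := hpow (p ^ a) q hq
    have h2 : (x * q * x⁻¹ * q⁻¹) ^ (p ^ a) = 1 := by
      have h3 := pow_card_eq_one' (x := (⟨_, hcomm q hq⟩ : ↥Z))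
      rw [ha] at h3
      have := congrArg Subtype.val h3
      simpa using this
    rw [h2, one_mul] at h1
    calc q * x ^ (p ^ a) = (x ^ (p ^ a) * q * (x ^ (p ^ a))⁻¹) * x ^ (p ^ a) := by rw [h1]
      _ = x ^ (p ^ a) * q := by group
  have hxq : x ^ (p ^ a) ∈ Cfsg.pCore p G := hG hxa
  have hxab : (x ^ (p ^ a)) ^ (p ^ b) = 1 := by
    have h3 := pow_card_eq_one' (x := (⟨_, hxq⟩ : ↥(Cfsg.pCore p G)))
    rw [hb] at h3
    have := congrArg Subtype.val h3
    simpa using this
  refine ⟨a + b, ?_⟩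
  apply Subtype.ext
  show (QuotientGroup.mk x : G ⧸ Z) ^ (p ^ (a + b)) = 1
  rw [← QuotientGroup.mk_pow, pow_add, pow_mul, hxab]
  rfl

end Quot

section Closure

variable {p : ℕ} [Fact p.Prime]

theorem nice_normal_subgroup {X : Type u} [Group X] [Finite X] (h : Nice p X) (C : Subgroup X)
    [C.Normal] : Nice p ↥C := by
  refine ⟨?_, secAll_subgroup h.2 C⟩
  apply Cfsg.Agent.Lib.Helper18.charP_of_pCore_le_normalizer h.1 C
  rw [Subgroup.normalizer_eq_top_iff.mpr inferInstance]
  exact le_top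

theorem nice_quotient_central {X : Type u} [Group X] [Finite X] (h : Nice p X) (Z : Subgroup X)
    [Z.Normal] (hZp : IsPGroup p Z) (hZc : Z ≤ Subgroup.center X) : Nice p (X ⧸ Z) :=
  ⟨cent_quotient_central h.1 Z hZp hZc, secAll_quotient h.2 Z⟩

theorem nice_nps {X : Type u} [Group X] [Finite X] (h : Nice p X) :
    Cfsg.IsNormalizerPStable p X := secAll_self h.2

end Closure

section CharMap

variable {S : Type*} [Group S] {X : Type*} [Group X]

/-- The image of a characteristic subgroup under an embedding depends only on the range. -/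
theorem char_map_eq (K : Subgroup S) [hK : K.Characteristic] (ι ι' : S →* X)
    (hι : Function.Injective ι) (hι' : Function.Injective ι') (h : ι.range = ι'.range) :
    K.map ι = K.map ι' := by
  let φ : S ≃* S := ((MonoidHom.ofInjective hι').trans (MulEquiv.subgroupCongr h.symm)).trans
    (MonoidHom.ofInjective hι).symm
  have hφ : ∀ s, ι (φ s) = ι' s := by
    intro s
    have h1 : MonoidHom.ofInjective hι (φ s) =
        (MulEquiv.subgroupCongr h.symm) (MonoidHom.ofInjective hι' s) := by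
      simp [φ]
    have h2 := congrArg Subtype.val h1
    rw [MonoidHom.ofInjective_apply] at h2
    rw [h2]
    rfl
  have hcomp : ι' = ι.comp φ.toMonoidHom := by
    ext s
    exact (hφ s).symm
  rw [hcomp, ← Subgroup.map_map, Subgroup.characteristic_iff_map_eq.mp hK φ]

/-- An element normalizing the range of an embedding normalizes the image of a characteristic
subgroup. -/
theorem normalizer_range_le (K : Subgroup S) [hK : K.Characteristic] (ι : S →* X)
    (hι : Function.Injective ι) :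
    Subgroup.normalizer (ι.range : Set X) ≤ Subgroup.normalizer (K.map ι : Set X) := by
  intro n hn
  have hrange : ((MulAut.conj n).toMonoidHom.comp ι).range = ι.range := by
    rw [MonoidHom.range_comp]
    exact mem_normalizer_iff_cj_eq.mp hn
  have h1 := char_map_eq K ((MulAut.conj n).toMonoidHom.comp ι) ι
    ((MulAut.conj n).injective.comp hι) hι hrange
  rw [← Subgroup.map_map] at h1
  exact mem_normalizer_iff_cj_eq.mpr h1

end CharMap

end Cfsg.Agent.Lib.Helper10.KF
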