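import Mathlib
import Cfsg.Agent.Lib.Helper10.KappaTauB

set_option autoImplicit false
open scoped commutatorElement

/-! # `κ(M) ⊆ τ₁(M)` when a Hall `κ(M)`-subgroup of `M` is commutative (helper10)

B & G, Section 13/14: if the Hall `κ(M)`-subgroup `K` of the maximal subgroup `M` is commutative (in
particular if it is cyclic, as in a `σ`-decomposition), then every prime of `κ(M)` lies in
`τ₁(M)`. -/

namespace Cfsg.Agent.Lib.Helper10.KappaTau

open Cfsg Cfsg.Agent.Lib.Helper18 Cfsg.Agent.Lib.Helper28.BGt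

variable {G : Type*} [Group G] [Finite G]

/-- **`κ(M) ⊆ τ₁(M)`** for a commutative Hall `κ(M)`-subgroup `K` of `M` -/
theorem kappa_sub_tau1_of_comm (hG : Cfsg.IsMinSimpleOddOrder G) {M K : Subgroup G}
    (hM : IsCoatom M) (hK : Cfsg.IsPiHallOf (Cfsg.kappa M) K M)
    (hKc : ∀ a ∈ K, ∀ b ∈ K, a * b = b * a) : ∀ p ∈ Cfsg.kappa M, p ∈ Cfsg.tau1 M := by
  intro p hpκ
  by_contra hp1
  obtain ⟨hpp, hpM, hpσ, hSyl⟩ := hpκ
  have hpκ : p ∈ Cfsg.kappa M := ⟨hpp, hpM, hpσ, hSyl⟩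
  haveI : Fact p.Prime := ⟨hpp⟩
  haveI : IsSimpleGroup G := hG.2.1
  have hp2 : p ≠ 2 := Cfsg.Agent.Lib.Helper1.BG10.prime_ne_two hG p M hpM
  obtain ⟨E, hE, hKE⟩ := exists_compl_ge hG hM hK.1 (fun q hq hqd => (hK.2.1 q hq hqd).2.2.1)
  -- a Sylow `p`-subgroup `S` of `K`
  obtain ⟨S, hSK, -⟩ := exists_isSylowIn_ge (p := p) (bot_le : (⊥ : Subgroup G) ≤ K)
    IsPGroup.of_bot
  have hSM : IsSylowIn p S M := sylow_of_kappa_hall hpκ hK hSK
  have hSE : IsSylowIn p S E := hSM.of_le (hSK.le.trans hKE) hE.1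
  -- `S` is cyclic
  have hScyc : IsCyclic S := by
    obtain ⟨S', hS'⟩ := hSM.exists_sylow
    have h1 := (hSyl S').1
    rw [hS'] at h1
    exact (Subgroup.subgroupOfEquivOfLe hSM.le).isCyclic.mp h1
  have hr1 : Cfsg.PRankLE p 1 ↥M := pRankLE_one_of_cyclic_sylow hSM hScyc
  have hd : p ∣ Nat.card ↥⁅M, M⁆ := by
    by_contra hnd
    exact hp1 ⟨hpp, hpσ, hpM, hnd, hr1⟩
  have hp3 : p ∈ Cfsg.tau3 M := ⟨hpp, hpσ, hd, hr1⟩
  -- `S ≠ 1`
  have hpS : p ∣ Nat.card S := by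
    have h1 := Cfsg.Agent.Lib.Helper1.BG12.card_mul_relIndex_of_le hSM.le
    rw [← h1] at hpM
    rcases (Nat.Prime.dvd_mul hpp).mp hpM with h | h
    · exact h
    · exact absurd h hSM.not_dvd
  obtain ⟨x, hx⟩ := exists_prime_orderOf_dvd_card' p hpS
  have hxo : orderOf (x : G) = p := by rw [Subgroup.orderOf_coe]; exact hx
  obtain ⟨P, hPdef⟩ : ∃ P : Subgroup G, P = Subgroup.zpowers (x : G) := ⟨_, rfl⟩
  have hPc : Nat.card P = p := by rw [hPdef, Nat.card_zpowers, hxo]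
  have hPS : P ≤ S := by rw [hPdef, Subgroup.zpowers_le]; exact x.2
  have hPK : P ≤ K := hPS.trans hSK.le
  have hPE : P ≤ E := hPK.trans hKE
  have hPp : IsPGroup p P := IsPGroup.of_card (n := 1) (by rw [hPc, pow_one])
  have hP1 : P ≠ ⊥ := by
    intro h
    rw [h, Subgroup.card_bot] at hPc
    exact hpp.one_lt.ne hPc
  have hPtop : P ≠ ⊤ := Cfsg.Agent.Lib.Helper11.MaxSubD.pgroup_ne_top hG p P hPp
  have hNne : Subgroup.normalizer (P : Set G) ≠ ⊤ :=
    Cfsg.Agent.Lib.Helper11.normalizer_ne_top_of_simple hP1 hPtop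
  obtain ⟨H, hH, hNP⟩ := Cfsg.Agent.Lib.Helper11.BenderE.exists_coatom_ge _ hNne
  have c : Ctx M E P H p := ⟨hG, hM, hE, hpκ, hp3, hPE, hPc, hH, hNP⟩
  -- some element of `E` does not centralize `P`
  have hnc : ¬ E ≤ Subgroup.centralizer (P : Set G) := by
    intro hEC
    obtain ⟨S', hS'⟩ := hSE.exists_sylow
    have hS'c : IsCyclic (S' : Subgroup E) := by
      rw [hS']
      exact (Subgroup.subgroupOfEquivOfLe hSE.le).symm.isCyclic.mp hScyc
    have hS'1 : (S' : Subgroup E) ≠ ⊥ := by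
      intro h
      have h2 : (⟨(x : G), hSE.le x.2⟩ : E) ∈ (S' : Subgroup E) := by
        rw [hS']; exact Subgroup.mem_subgroupOf.mpr x.2
      rw [h, Subgroup.mem_bot] at h2
      have h3 : (x : G) = 1 := congrArg Subtype.val h2
      rw [h3, orderOf_one] at hxo
      exact hpp.one_lt.ne hxo
    have hS'd : (S' : Subgroup E) ≤ commutator E := by
      intro y hy
      rw [hS'] at hy
      have h1 : (y : G) ∈ ⁅E, E⁆ :=
        Cfsg.Agent.Lib.Helper11.ThirteenA.sylow_tau3_le_derived hG hM hE hp3 hSE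
          (Subgroup.mem_subgroupOf.mp hy)
      rw [← Subgroup.map_subtype_commutator] at h1
      obtain ⟨y', hy', hyy⟩ := h1
      have : y' = y := Subtype.ext hyy
      rw [← this]; exact hy'
    obtain ⟨g, y, hy, hyp, hgy⟩ :=
      Cfsg.Agent.Lib.Helper10.KappaTauA.exists_not_comm_of_cyclic_sylow_le_commutator hp2 S'
        hS'c hS'1 hS'd
    apply hgy
    rw [hS'] at hy
    have hyS : (y : G) ∈ S := Subgroup.mem_subgroupOf.mp hy
    -- `y ∈ P`
    have hyP : (y : G) ∈ P := by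
      by_cases hy1 : (y : G) = 1
      · rw [hy1]; exact P.one_mem
      · have hyo : orderOf (y : G) = p := by
          apply orderOf_eq_prime
          · have := congrArg Subtype.val hyp
            simpa using this
          · exact hy1
        have hz : Subgroup.zpowers (y : G) = P := by
          apply Cfsg.Agent.Lib.Helper10.SigmaJsubA.eq_of_card_eq_of_le_cyclic hScyc
            (by rw [Subgroup.zpowers_le]; exact hyS) hPS
          rw [Nat.card_zpowers, hyo, hPc]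
        rw [← hz]; exact Subgroup.mem_zpowers _
    have := Subgroup.mem_centralizer_iff.mp (hEC g.2) (y : G) hyP
    exact Subtype.ext this.symm
  -- a Sylow `r`-subgroup of `E` not centralizing `P`
  obtain ⟨C, hCdef⟩ : ∃ C : Subgroup G, C = E ⊓ Subgroup.centralizer (P : Set G) := ⟨_, rfl⟩
  have hCE : C ≤ E := by rw [hCdef]; exact inf_le_left
  have hidx : C.relIndex E ≠ 1 := by
    intro h
    apply hnc
    have := Subgroup.relIndex_eq_one.mp h
    exact fun g hg => (hCdef ▸ this hg : g ∈ E ⊓ Subgroup.centralizer (P : Set G)).2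
  obtain ⟨r, hr, hrd⟩ := Nat.exists_prime_and_dvd hidx
  haveI : Fact r.Prime := ⟨hr⟩
  obtain ⟨Er, hEr, -⟩ := exists_isSylowIn_ge (p := r) (bot_le : (⊥ : Subgroup G) ≤ E)
    IsPGroup.of_bot
  have hErC : ¬ Er ≤ C := by
    intro h
    apply hEr.not_dvd
    exact hrd.trans (Subgroup.relIndex_dvd_of_le_left E h)
  obtain ⟨e, heEr, heC⟩ := SetLike.not_le_iff_exists.mp hErC
  have heP : e ∉ Subgroup.centralizer (P : Set G) := by
    intro h
    apply heC
    rw [hCdef]; exact ⟨hEr.le heEr, h⟩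
  have hrE : r ∣ Nat.card E := hrd.trans (Subgroup.relIndex_dvd_card C E)
  have hrσ : r ∉ Cfsg.sigma M := compl_prime_not_sigma hG hM hE hr hrE
  have hrM : r ∣ Nat.card M := hrE.trans (Subgroup.card_dvd_of_le hE.1)
  have hrk2 : Cfsg.PRankLE r 2 M := Cfsg.Agent.Lib.Helper1.BG15.rank_le_two_of_not_sigma hG hM hr hrσ
  have hrk1 : Cfsg.PRankLE r 1 M := by
    by_contra h
    exact c.tau2_empty r ⟨hr, hrσ, hrk2, h⟩
  by_cases hrd' : r ∣ Nat.card ↥⁅M, M⁆
  · -- `r ∈ τ₃(M)`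
    have hr3 : r ∈ Cfsg.tau3 M := ⟨hr, hrσ, hrd', hrk1⟩
    have h1 : Er ≤ ⁅E, E⁆ :=
      Cfsg.Agent.Lib.Helper11.ThirteenA.sylow_tau3_le_derived hG hM hE hr3 hEr
    have h2 := Cfsg.Agent.Lib.Helper18.Asym13D.commutator_le_centralizer_cyclic c.hPcyc c.hEP c.hEP
    exact heP (h2 (h1 heEr))
  · have hr1' : r ∈ Cfsg.tau1 M := ⟨hr, hrσ, hrM, hrd', hrk1⟩
    have hrκ : r ∉ Cfsg.kappa M := by
      intro hrκ
      obtain ⟨Kr, hKr, -⟩ := exists_isSylowIn_ge (p := r) (bot_le : (⊥ : Subgroup G) ≤ K)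
        IsPGroup.of_bot
      have hKrM : IsSylowIn r Kr M := sylow_of_kappa_hall hrκ hK hKr
      have hKrE : IsSylowIn r Kr E := hKrM.of_le (hKr.le.trans hKE) hE.1
      obtain ⟨u, hu, hle⟩ := hKrE.exists_conj_le hEr.le hEr.isPGroup
      apply heP
      rw [Subgroup.mem_centralizer_iff]
      intro y hy
      have h1 : u * e * u⁻¹ ∈ K := hKr.le (hle (conj_mem_conjSub heEr))
      have h2 : u * y * u⁻¹ ∈ P := (Subgroup.mem_normalizer_iff.mp (c.hEP hu) y).mp hy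
      have h3 := hKc _ h1 _ (hPK h2)
      have h4 : u * (e * y) * u⁻¹ = u * (y * e) * u⁻¹ := by
        calc u * (e * y) * u⁻¹ = (u * e * u⁻¹) * (u * y * u⁻¹) := by group
          _ = (u * y * u⁻¹) * (u * e * u⁻¹) := h3
          _ = u * (y * e) * u⁻¹ := by group
      have h5 := mul_left_cancel (mul_right_cancel h4)
      exact h5.symm
    exact heP (c.tau1_case hr1' hrκ hEr heEr)

/-- **`κ(M) ⊆ τ₁(M)`** for a cyclic Hall `κ(M)`-subgroup `K` of `M` -/
theorem kappa_sub_tau1_of_cyclic (hG : Cfsg.IsMinSimpleOddOrder G) {M K : Subgroup G}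
    (hM : IsCoatom M) (hK : Cfsg.IsPiHallOf (Cfsg.kappa M) K M) (hKc : IsCyclic K) :
    ∀ p ∈ Cfsg.kappa M, p ∈ Cfsg.tau1 M := by
  apply kappa_sub_tau1_of_comm hG hM hK
  intro a ha b hb
  obtain ⟨g, hg⟩ := IsCyclic.exists_generator (α := K)
  obtain ⟨i, hi⟩ := Subgroup.mem_zpowers_iff.mp (hg ⟨a, ha⟩)
  obtain ⟨j, hj⟩ := Subgroup.mem_zpowers_iff.mp (hg ⟨b, hb⟩)
  have h := (Commute.zpow_zpow_self g i j).eq
  rw [hi, hj] at h
  exact congrArg Subtype.val h

/-- the form for a `σ`-decomposition -/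
theorem kappa_sub_tau1_of_decomp (hG : Cfsg.IsMinSimpleOddOrder G) {M K U : Subgroup G}
    (hM : IsCoatom M) (hKU : Cfsg.IsSigmaDecomposition M K U) :
    ∀ p ∈ Cfsg.kappa M, p ∈ Cfsg.tau1 M :=
  kappa_sub_tau1_of_cyclic hG hM hKU.hall hKU.cyclic

end Cfsg.Agent.Lib.Helper10.KappaTau
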