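import Mathlib
import Cfsg.Agent.Lib.Helper10.KappaTauI
import Cfsg.Agent.Lib.Helper21.BG13o
import Cfsg.Agent.Lib.Helper21.BG13p

set_option autoImplicit false
open scoped commutatorElement

/-! # B & G, Lemma 13.10: the structure of a complement `E` when `κ(M) ∩ τ₃(M) ≠ ∅` (helper10)

If some prime `p ∈ κ(M)` lies in `τ₃(M)`, then every prime divisor of `|E|` lies in `κ(M)`, `E` acts
in a prime manner on `M_σ` and every subgroup of prime order of `E` is normal in `E`. -/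

namespace Cfsg.Agent.Lib.Helper10.KappaTau

open Cfsg Cfsg.Agent.Lib.Helper18 Cfsg.Agent.Lib.Helper28.BGt

variable {G : Type*} [Group G] [Finite G]

/-- a subgroup `P ≤ E` of order `p` with `C_{M_σ}(P) ≠ 1` for `p ∈ κ(M) ∩ τ₃(M)`, and the whole
context -/
theorem exists_ctx (hG : Cfsg.IsMinSimpleOddOrder G) {M E : Subgroup G} (hM : IsCoatom M)
    (hE : Cfsg.IsComplIn E (Cfsg.sigmaCore M) M) {p : ℕ} (hpκ : p ∈ Cfsg.kappa M)
    (hp3 : p ∈ Cfsg.tau3 M) : ∃ P H : Subgroup G, Ctx M E P H p := by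
  haveI : Fact p.Prime := ⟨hpκ.1⟩
  haveI : IsSimpleGroup G := hG.2.1
  -- `p ∣ |E|`
  have hpE : p ∣ Nat.card E := by
    have h1 := card_compl hE
    have h2 := hpκ.2.1
    rw [h1] at h2
    rcases (Nat.Prime.dvd_mul hpκ.1).mp h2 with h | h
    · exact absurd (prime_sigmaCore hG hM hpκ.1 h) hpκ.2.2.1
    · exact h
  obtain ⟨x, hx⟩ := exists_prime_orderOf_dvd_card' p hpE
  have hxo : orderOf (x : G) = p := by rw [Subgroup.orderOf_coe]; exact hx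
  obtain ⟨P, hPdef⟩ : ∃ P : Subgroup G, P = Subgroup.zpowers (x : G) := ⟨_, rfl⟩
  have hPc : Nat.card P = p := by rw [hPdef, Nat.card_zpowers, hxo]
  have hPE : P ≤ E := by rw [hPdef, Subgroup.zpowers_le]; exact x.2
  have hPp : IsPGroup p P := IsPGroup.of_card (n := 1) (by rw [hPc, pow_one])
  have hP1 : P ≠ ⊥ := by
    intro h
    rw [h, Subgroup.card_bot] at hPc
    exact hpκ.1.one_lt.ne hPc
  have hPtop : P ≠ ⊤ := Cfsg.Agent.Lib.Helper11.MaxSubD.pgroup_ne_top hG p P hPp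
  have hNne : Subgroup.normalizer (P : Set G) ≠ ⊤ :=
    Cfsg.Agent.Lib.Helper11.normalizer_ne_top_of_simple hP1 hPtop
  obtain ⟨H, hH, hNP⟩ := Cfsg.Agent.Lib.Helper11.BenderE.exists_coatom_ge _ hNne
  exact ⟨P, H, ⟨hG, hM, hE, hpκ, hp3, hPE, hPc, hH, hNP⟩⟩

/-- **prime action of `E`** when `κ(M) ∩ τ₃(M) ≠ ∅` -/
theorem prime_action_of_kappa_tau3 (hG : Cfsg.IsMinSimpleOddOrder G) {M E : Subgroup G}
    (hM : IsCoatom M) (hE : Cfsg.IsComplIn E (Cfsg.sigmaCore M) M) {p : ℕ}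
    (hpκ : p ∈ Cfsg.kappa M) (hp3 : p ∈ Cfsg.tau3 M) :
    ∀ e ∈ E, e ≠ 1 → Cfsg.sigmaCore M ⊓ Subgroup.centralizer ({e} : Set G) =
      Cfsg.sigmaCore M ⊓ Subgroup.centralizer (E : Set G) := by
  haveI : Fact p.Prime := ⟨hpκ.1⟩
  obtain ⟨P, H, c⟩ := exists_ctx hG hM hE hpκ hp3
  obtain ⟨r, Er, e₀, hr, hrτ, hEr, he₀, hne⟩ := c.exists_moving
  haveI : Fact r.Prime := ⟨hr⟩
  -- an element of order `r` in `Er`
  have he₀1 : e₀ ≠ 1 := by
    rintro rfl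
    exact hne (Subgroup.one_mem _)
  have hEr1 : Er ≠ ⊥ := by
    intro h
    rw [h, Subgroup.mem_bot] at he₀
    exact he₀1 he₀
  have hrd : r ∣ Nat.card Er := by
    obtain ⟨k, hk⟩ := IsPGroup.iff_card.mp hEr.isPGroup
    rw [hk]
    apply dvd_pow_self
    rintro rfl
    rw [pow_zero] at hk
    exact hEr1 (Subgroup.card_eq_one.mp hk)
  obtain ⟨z, hz⟩ := exists_prime_orderOf_dvd_card' r hrd
  have hzo : orderOf (z : G) = r := by rw [Subgroup.orderOf_coe]; exact hz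
  have hzE : (z : G) ∈ E := hEr.le z.2
  have hPA := Cfsg.Agent.Lib.Helper21.BG13o.prime_action_pa1 hG hM hE c.tau2_empty hp3 c.hPE c.hPc
    hrτ hzE hzo
  have hzP := c.cent_eq hrτ hEr he₀ hne z.2 hzo hPA
  exact Cfsg.Agent.Lib.Helper21.BG13o.prime_action_pa2 hG hM hE c.tau2_empty hp3 c.hPE c.hPc hrτ
    hzE hzo hzP

/-- **B & G, Lemma 13.10** (the structure when `κ(M) ∩ τ₃(M) ≠ ∅`) -/
theorem nonregular_structure (hG : Cfsg.IsMinSimpleOddOrder G) {M E : Subgroup G}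
    (hM : IsCoatom M) (hE : Cfsg.IsComplIn E (Cfsg.sigmaCore M) M) {p : ℕ}
    (hpκ : p ∈ Cfsg.kappa M) (hp3 : p ∈ Cfsg.tau3 M) :
    (∀ q : ℕ, q.Prime → q ∣ Nat.card E → q ∈ Cfsg.kappa M) ∧
    (∀ e ∈ E, e ≠ 1 → Cfsg.sigmaCore M ⊓ Subgroup.centralizer ({e} : Set G) =
      Cfsg.sigmaCore M ⊓ Subgroup.centralizer (E : Set G)) ∧
    (∀ X : Subgroup G, X ≤ E → (Nat.card X).Prime → E ≤ Subgroup.normalizer (X : Set G)) ∧
    (∀ t : ℕ, t ∉ Cfsg.tau2 M) := by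
  haveI : Fact p.Prime := ⟨hpκ.1⟩
  obtain ⟨P, H, c⟩ := exists_ctx hG hM hE hpκ hp3
  have hPA := prime_action_of_kappa_tau3 hG hM hE hpκ hp3
  obtain ⟨h1, h3⟩ := Cfsg.Agent.Lib.Helper21.BG13p.nonreg_of_prime_action hG hM hE hp3 c.hPE c.hPc
    c.hY hPA
  exact ⟨h1, hPA, h3, c.tau2_empty⟩

end Cfsg.Agent.Lib.Helper10.KappaTau
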