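import Mathlib
import Cfsg.Agent.Lib.Helper10.ThirteenTwo
import Cfsg.Agent.Lib.Helper18.KStarF
import Cfsg.Agent.Lib.Helper13.BG14Z
import Cfsg.Agent.S1430
import Cfsg.Agent.S1431

set_option autoImplicit false

/-! # B & G, Theorem 14.7: the pair `(M, M*)` (helper10)

Setting: `K ≠ 1` a Hall `κ(M)`-subgroup of `M`, `K* = C_{M_σ}(K)`, and a maximal subgroup `M*` with
`K = C_{M*_σ}(K*)` and `K*` a Hall `κ(M*)`-subgroup of `M*`.  The situation is symmetric in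
`(M, K)` and `(M*, K*)`. -/

namespace Cfsg.Agent.Lib.Helper10.PPair

open Cfsg Cfsg.Agent.Lib.Helper18 Cfsg.Agent.Lib.Helper28.BGt

variable {G : Type*} [Group G] [Finite G]

/-- the data of a pair `(M, M*)` -/
structure Pair (M Ms K : Subgroup G) : Prop where
  hG : Cfsg.IsMinSimpleOddOrder G
  hM : IsCoatom M
  hMs : IsCoatom Ms
  hK : Cfsg.IsPiHallOf (Cfsg.kappa M) K M
  hK1 : K ≠ ⊥
  hKst : K = Cfsg.sigmaCore Ms ⊓ Subgroup.centralizer
    ((Cfsg.sigmaCore M ⊓ Subgroup.centralizer (K : Set G) : Subgroup G) : Set G)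
  hKstH : Cfsg.IsPiHallOf (Cfsg.kappa Ms) (Cfsg.sigmaCore M ⊓ Subgroup.centralizer (K : Set G)) Ms

namespace Pair

variable {M Ms K : Subgroup G}

theorem hKs1 (c : Pair M Ms K) : Cfsg.sigmaCore M ⊓ Subgroup.centralizer (K : Set G) ≠ ⊥ :=
  Cfsg.Agent.Lib.Helper13.BG14.bg14_kstar_ne_bot c.hG c.hM c.hK c.hK1

/-- the symmetric pair -/
theorem symm (c : Pair M Ms K) :
    Pair Ms M (Cfsg.sigmaCore M ⊓ Subgroup.centralizer (K : Set G)) := by
  refine ⟨c.hG, c.hMs, c.hM, c.hKstH, c.hKs1, ?_, ?_⟩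
  · rw [← c.hKst]
  · rw [← c.hKst]; exact c.hK

theorem hKσ (c : Pair M Ms K) : K ≤ Cfsg.sigmaCore Ms := by
  have h := c.hKst
  intro k hk
  rw [h] at hk
  exact hk.1

theorem hKMs (c : Pair M Ms K) : K ≤ Ms := c.hKσ.trans (sigmaCore_le Ms)

theorem hKsM (c : Pair M Ms K) : Cfsg.sigmaCore M ⊓ Subgroup.centralizer (K : Set G) ≤ M :=
  inf_le_left.trans (sigmaCore_le M)

/-- `N_G(X) ≤ M*` for `X ≤ K` of prime order -/
theorem normalizer_le_star (c : Pair M Ms K) {p : ℕ} [Fact p.Prime] {X : Subgroup G}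
    (hXc : Nat.card X = p) (hXK : X ≤ K) : Subgroup.normalizer (X : Set G) ≤ Ms := by
  apply Cfsg.Agent.Lib.Helper18.KStar.normalizer_le_of_le_kstar c.hG c.hMs c.hKstH c.hKs1 hXc
  rw [← c.hKst]
  exact hXK

/-- `M_σ ∩ M* = K*` -/
theorem sigma_inf_star (c : Pair M Ms K) :
    Cfsg.sigmaCore M ⊓ Ms = Cfsg.sigmaCore M ⊓ Subgroup.centralizer (K : Set G) := by
  obtain ⟨p, X, hp, hXK, hXc⟩ := Cfsg.Agent.Lib.Helper18.KStar.exists_prime_card_le c.hK1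
  haveI : Fact p.Prime := ⟨hp⟩
  have hpκ : p ∈ Cfsg.kappa M := c.hK.2.1 p hp (by rw [← hXc]; exact Subgroup.card_dvd_of_le hXK)
  have hXp : IsPGroup p X := IsPGroup.of_card (n := 1) (by rw [hXc, pow_one])
  have hX1 : X ≠ ⊥ := ne_bot_of_card_prime' hp hXc
  have h1 := Cfsg.Agent.Lib.Helper10.ThirteenTwo.inf_eq_cent c.hG c.hM c.hMs hpκ.2.2.1
    (Cfsg.Agent.Lib.Helper1.BG14.kappa_pRankLE_one hpκ) hXp hX1 (hXK.trans c.hK.1)
    (c.normalizer_le_star hXc hXK)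
  rw [h1]
  obtain ⟨x, hxX, hx1⟩ := exists_ne_one_of_ne_bot' hX1
  have hzx : Subgroup.zpowers x = X := zpowers_eq_of_card_prime hXc hxX hx1
  have hpa := (Cfsg.Agent.S1430.result c.hG M c.hM K c.hK c.hK1).1 x (hXK hxX) hx1
  rw [← hpa, ← hzx, Cfsg.Agent.Lib.Helper1.BG14.centralizer_zpowers_eq]

/-- `M*_σ ∩ M = K` -/
theorem sigma_star_inf (c : Pair M Ms K) : Cfsg.sigmaCore Ms ⊓ M = K := by
  rw [c.symm.sigma_inf_star, ← c.hKst]

/-- `M ∩ M* = K K*` -/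
theorem inf_eq (c : Pair M Ms K) :
    M ⊓ Ms = K ⊔ (Cfsg.sigmaCore M ⊓ Subgroup.centralizer (K : Set G)) := by
  obtain ⟨p, X, hp, hXK, hXc⟩ := Cfsg.Agent.Lib.Helper18.KStar.exists_prime_card_le c.hK1
  have h30 := ((Cfsg.Agent.S1430.result c.hG M c.hM K c.hK c.hK1).2.2 X hXK (by rw [hXc]; exact hp)).2.1
  apply le_antisymm
  · rw [← h30]
    intro t ht
    refine ⟨ht.1, ?_⟩
    -- `t` normalizes `M*_σ ∩ M = K`
    have hn1 : t ∈ Subgroup.normalizer (Cfsg.sigmaCore Ms : Set G) := le_normalizer_sigmaCore Ms ht.2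
    have hn2 : t ∈ Subgroup.normalizer (M : Set G) := Subgroup.le_normalizer ht.1
    have := Cfsg.Agent.Lib.Helper1.BG14.mem_normalizer_inf hn1 hn2
    rw [c.sigma_star_inf] at this
    exact this
  · exact sup_le (le_inf c.hK.1 c.hKMs) (le_inf c.hKsM c.hKstH.1)

end Pair

end Cfsg.Agent.Lib.Helper10.PPair
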