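import Mathlib
import Cfsg.Agent.Lib.Helper10.PPairA
import Cfsg.Agent.Lib.Helper13.BG14Cyc

set_option autoImplicit false

/-! # The two-cycle count for a pair `(M, M*)` (helper10)

If `M = M_σ K` and `M* = M*_σ K*` then the counting argument gives a contradiction. -/

namespace Cfsg.Agent.Lib.Helper10.PPair

open Cfsg Cfsg.Agent.Lib.Helper18 Cfsg.Agent.Lib.Helper28.BGt

variable {G : Type*} [Group G] [Finite G]

namespace Pair

variable {M Ms K : Subgroup G}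

/-- `K*` normalizes `K` -/
theorem hKsN (c : Pair M Ms K) :
    Cfsg.sigmaCore M ⊓ Subgroup.centralizer (K : Set G) ≤ Subgroup.normalizer (K : Set G) :=
  inf_le_right.trans (Subgroup.centralizer_le_normalizer _)

/-- `M_σ ∩ K K* = K*` -/
theorem sigma_inf_Z (c : Pair M Ms K) :
    Cfsg.sigmaCore M ⊓ (K ⊔ (Cfsg.sigmaCore M ⊓ Subgroup.centralizer (K : Set G))) ≤
      Cfsg.sigmaCore M ⊓ Subgroup.centralizer (K : Set G) := by
  intro z hz
  obtain ⟨k, hk, s, hs, rfl⟩ :=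
    Cfsg.Agent.Lib.Helper10.exists_mul_of_mem_sup K _ c.hKsN z hz.2
  have hKσ : K ⊓ Cfsg.sigmaCore M = ⊥ :=
    Cfsg.Agent.Lib.Helper1.BG15.kappa_inf_sigmaCore c.hG c.hM c.hK.2.1
  have hk1 : k = 1 := by
    rw [← Subgroup.mem_bot, ← hKσ]
    refine ⟨hk, ?_⟩
    have : k = (k * s) * s⁻¹ := by group
    rw [this]
    exact Subgroup.mul_mem _ hz.1 (Subgroup.inv_mem _ hs.1)
  rw [hk1, one_mul]
  exact hs

/-- `M*` is not conjugate to `M` -/
theorem not_conj (c : Pair M Ms K) (g : G) : Ms ≠ M.map (MulAut.conj g).toMonoidHom := by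
  intro h
  obtain ⟨p, X, hp, hXK, hXc⟩ := Cfsg.Agent.Lib.Helper18.KStar.exists_prime_card_le c.hK1
  have hpK : p ∣ Nat.card K := by rw [← hXc]; exact Subgroup.card_dvd_of_le hXK
  have hpκ : p ∈ Cfsg.kappa M := c.hK.2.1 p hp hpK
  have hpσ : p ∈ Cfsg.sigma Ms :=
    prime_sigmaCore c.hG c.hMs hp (hpK.trans (Subgroup.card_dvd_of_le c.hKσ))
  have h2 := Cfsg.Agent.Lib.Helper1.BG12.sigma_conjSub Ms p hpσ g⁻¹
  have h3 : conjSub g⁻¹ Ms = M := by
    rw [h]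
    show conjSub g⁻¹ (conjSub g M) = M
    rw [conjSub_mul, inv_mul_cancel, conjSub_one]
  rw [h3] at h2
  exact hpκ.2.2.1 h2

/-- `M_σ ≰ K K*` -/
theorem hprop (c : Pair M Ms K) :
    ¬ Cfsg.sigmaCore M ≤ K ⊔ (Cfsg.sigmaCore M ⊓ Subgroup.centralizer (K : Set G)) := by
  intro h
  obtain ⟨q, Y, hq, hYK, hYc⟩ := Cfsg.Agent.Lib.Helper18.KStar.exists_prime_card_le c.hKs1
  haveI : Fact q.Prime := ⟨hq⟩
  have hqd : q ∣ Nat.card ↥(Cfsg.sigmaCore M ⊓ Subgroup.centralizer (K : Set G)) := by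
    rw [← hYc]; exact Subgroup.card_dvd_of_le hYK
  obtain ⟨S⟩ : Nonempty (Sylow q ↥(Cfsg.sigmaCore M)) := inferInstance
  have h3 := ((Cfsg.Agent.S1431.result c.hG M c.hM K c.hK c.hK1).2.2.1 q hq hqd S).2.2
  apply h3
  have hS : (S : Subgroup ↥(Cfsg.sigmaCore M)).map (Cfsg.sigmaCore M).subtype ≤ Cfsg.sigmaCore M :=
    Subgroup.map_subtype_le _
  exact (le_inf hS (hS.trans h)).trans c.sigma_inf_Z

/-- `C_G(x) ≤ M` for `x ∈ K K* ∩ M_σ`, `x ≠ 1` -/
theorem hcent (c : Pair M Ms K) (x : G)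
    (hx : x ∈ (K ⊔ (Cfsg.sigmaCore M ⊓ Subgroup.centralizer (K : Set G))) ⊓ Cfsg.sigmaCore M)
    (hx1 : x ≠ 1) : Subgroup.centralizer ({x} : Set G) ≤ M := by
  have hxs : x ∈ Cfsg.sigmaCore M ⊓ Subgroup.centralizer (K : Set G) :=
    c.sigma_inf_Z ⟨hx.2, hx.1⟩
  obtain ⟨n, -, hC⟩ := Cfsg.Agent.Lib.Helper18.KStar.centralizer_pow_le c.hG c.hM c.hK c.hK1 hxs hx1
  refine le_trans ?_ hC
  intro g hg
  rw [Subgroup.mem_centralizer_iff] at hg ⊢
  intro y hy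
  rw [Set.mem_singleton_iff] at hy
  rw [hy]
  have h0 : Commute x g := hg x (Set.mem_singleton x)
  exact (h0.pow_left n).eq

/-- `M = M_σ (K K*)` forces `τ₂(M) = ∅` -/
theorem htau2 (c : Pair M Ms K)
    (hf : ∀ m ∈ M, ∃ s ∈ Cfsg.sigmaCore M,
      ∃ t ∈ K ⊔ (Cfsg.sigmaCore M ⊓ Subgroup.centralizer (K : Set G)), m = s * t)
    (p : ℕ) : p ∉ Cfsg.tau2 M := by
  intro hp
  haveI : Fact p.Prime := ⟨hp.1⟩
  obtain ⟨B₀, hB₀M, -, hB₀c⟩ :=
    Cfsg.Agent.Lib.Helper1.BG10.exists_elemAb_sq_of_not_pRankLE_one p M hp.2.2.2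
  have hpM : p ∣ Nat.card M := by
    have h1 : Nat.card B₀ ∣ Nat.card M := Subgroup.card_dvd_of_le hB₀M
    rw [hB₀c] at h1
    exact (dvd_pow_self p (by norm_num)).trans h1
  -- `M = M_σ ⊔ K ⊔ K*`
  have hMeq : M = Cfsg.sigmaCore M ⊔ K := by
    apply le_antisymm
    · intro m hm
      obtain ⟨s, hs, t, ht, rfl⟩ := hf m hm
      obtain ⟨k, hk, s', hs', rfl⟩ :=
        Cfsg.Agent.Lib.Helper10.exists_mul_of_mem_sup K _ c.hKsN t ht
      -- `s * (k * s') = (s * (k s' k⁻¹)) * k`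
      have e : s * (k * s') = (s * (k * s' * k⁻¹)) * k := by group
      rw [e]
      apply Subgroup.mul_mem _ (Subgroup.mem_sup_left _) (Subgroup.mem_sup_right hk)
      apply Subgroup.mul_mem _ hs
      have hkn : k ∈ Subgroup.normalizer (Cfsg.sigmaCore M : Set G) :=
        le_normalizer_sigmaCore M (c.hK.1 hk)
      exact (Subgroup.mem_normalizer_iff.mp hkn s').mp hs'.1
    · exact sup_le (sigmaCore_le M) c.hK.1
  have hdvd : Nat.card M ∣ Nat.card (Cfsg.sigmaCore M) * Nat.card K := by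
    conv_lhs => rw [hMeq]
    exact Cfsg.Agent.Lib.Helper11.ThirteenB.card_sup_dvd _ _
      (c.hK.1.trans (le_normalizer_sigmaCore M))
  rcases (Nat.Prime.dvd_mul hp.1).mp (hpM.trans hdvd) with h | h
  · exact hp.2.1 (prime_sigmaCore c.hG c.hM hp.1 h)
  · exact hp.2.2.2 (Cfsg.Agent.Lib.Helper1.BG14.kappa_pRankLE_one (c.hK.2.1 p hp.1 h))

/-- primes of `K K*` lie in `σ(M)` or `σ(M*)` -/
theorem hpr (c : Pair M Ms K) (p : ℕ) (hp : p.Prime)
    (hpd : p ∣ Nat.card ↥(K ⊔ (Cfsg.sigmaCore M ⊓ Subgroup.centralizer (K : Set G)))) :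
    p ∈ Cfsg.sigma M ∨ p ∈ Cfsg.sigma Ms := by
  have h1 := hpd.trans (Cfsg.Agent.Lib.Helper11.ThirteenB.card_sup_dvd K _ c.hKsN)
  rcases (Nat.Prime.dvd_mul hp).mp h1 with h | h
  · right
    exact prime_sigmaCore c.hG c.hMs hp (h.trans (Subgroup.card_dvd_of_le c.hKσ))
  · left
    exact prime_sigmaCore c.hG c.hM hp (h.trans (Subgroup.card_dvd_of_le inf_le_left))

/-- **the two-cycle count**: `M = M_σ (K K*)` and `M* = M*_σ (K K*)` is impossible -/
theorem two_cycle_false (c : Pair M Ms K)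
    (hf : ∀ m ∈ M, ∃ s ∈ Cfsg.sigmaCore M,
      ∃ t ∈ K ⊔ (Cfsg.sigmaCore M ⊓ Subgroup.centralizer (K : Set G)), m = s * t)
    (hfs : ∀ m ∈ Ms, ∃ s ∈ Cfsg.sigmaCore Ms,
      ∃ t ∈ K ⊔ (Cfsg.sigmaCore M ⊓ Subgroup.centralizer (K : Set G)), m = s * t) : False := by
  obtain ⟨Ks, hKs⟩ : ∃ Ks : Subgroup G,
      Ks = Cfsg.sigmaCore M ⊓ Subgroup.centralizer (K : Set G) := ⟨_, rfl⟩
  have key : ∀ b : Bool, Pair (cond b M Ms) (cond b Ms M) (cond b K Ks) ∧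
      (cond b K Ks ⊔ (Cfsg.sigmaCore (cond b M Ms) ⊓
        Subgroup.centralizer ((cond b K Ks : Subgroup G) : Set G)) = K ⊔ Ks) := by
    intro b
    cases b
    · refine ⟨?_, ?_⟩
      · show Pair Ms M Ks
        rw [hKs]; exact c.symm
      · show Ks ⊔ (Cfsg.sigmaCore Ms ⊓ Subgroup.centralizer ((Ks : Subgroup G) : Set G)) = K ⊔ Ks
        rw [hKs, ← c.hKst, sup_comm]
    · refine ⟨c, ?_⟩
      show K ⊔ (Cfsg.sigmaCore M ⊓ Subgroup.centralizer (K : Set G)) = K ⊔ Ks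
      rw [hKs]
  rw [← hKs] at hf hfs
  apply Cfsg.Agent.Lib.Helper13.BG14.bg14_cycle_false c.hG (fun b : Bool => cond b M Ms) (K ⊔ Ks)
  · intro b; exact (key b).1.hM
  · intro i j hij g
    cases i <;> cases j
    · exact absurd rfl hij
    · exact (key false).1.not_conj g
    · exact (key true).1.not_conj g
    · exact absurd rfl hij
  · intro b
    rw [← (key b).2]
    exact sup_le (key b).1.hK.1 (key b).1.hKsM
  · intro b
    cases b
    · exact hfs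
    · exact hf
  · intro b
    rw [← (key b).2]
    exact (key b).1.hprop
  · intro b x hx hx1
    rw [← (key b).2] at hx
    exact (key b).1.hcent x hx hx1
  · intro i j hij
    cases i <;> cases j
    · exact absurd rfl hij
    · show Cfsg.sigmaCore Ms ⊓ M ≤ K ⊔ Ks
      rw [c.sigma_star_inf]; exact le_sup_left
    · show Cfsg.sigmaCore M ⊓ Ms ≤ K ⊔ Ks
      rw [c.sigma_inf_star, hKs]; exact le_sup_right
    · exact absurd rfl hij
  · intro b p
    apply (key b).1.htau2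
    rw [(key b).2]
    cases b
    · exact hfs
    · exact hf
  · intro p hp hpd
    rw [hKs] at hpd
    rcases c.hpr p hp hpd with h | h
    · exact ⟨true, h⟩
    · exact ⟨false, h⟩
  · exact ⟨true, false, by decide⟩

end Pair

end Cfsg.Agent.Lib.Helper10.PPair
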