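import Mathlib
import Cfsg.Agent.Lib.Helper10.PPairB
import Cfsg.Agent.Lib.Helper10.KappaTauJ
import Cfsg.Agent.Lib.Helper10.KappaTau
import Cfsg.Agent.Lib.Helper1.BG14.KappaDecomp
import Cfsg.Agent.S1429
import Cfsg.Agent.S1420

set_option autoImplicit false

/-! # `K*` is cyclic for a pair `(M, M*)` with `K` cyclic (helper10) -/

namespace Cfsg.Agent.Lib.Helper10.PPair

open Cfsg Cfsg.Agent.Lib.Helper18 Cfsg.Agent.Lib.Helper28.BGt

variable {G : Type*} [Group G] [Finite G]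

/-- a complement of `M_σ` containing the Hall `κ(M)`-subgroup `K`, all of whose primes lie in
`κ(M)`, equals `K` -/
theorem compl_eq_of_kappa {M K E : Subgroup G}
    (hK : Cfsg.IsPiHallOf (Cfsg.kappa M) K M) (hE : Cfsg.IsComplIn E (Cfsg.sigmaCore M) M)
    (hKE : K ≤ E) (h : ∀ q : ℕ, q.Prime → q ∣ Nat.card E → q ∈ Cfsg.kappa M) : E = K := by
  apply le_antisymm _ hKE
  rw [← Subgroup.relIndex_eq_one]
  by_contra hne
  obtain ⟨q, hq, hqd⟩ := Nat.exists_prime_and_dvd hne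
  have h1 : K.relIndex E ∣ Nat.card E := Subgroup.relIndex_dvd_card K E
  have h2 : K.relIndex E ∣ K.relIndex M :=
    Dvd.intro _ (Subgroup.relIndex_mul_relIndex K E M hKE hE.1)
  exact hK.2.2 q hq (h q hq (hqd.trans h1)) (hqd.trans h2)

/-- the factorization `M = M_σ (K K*)` when `K` is a complement of `M_σ` -/
theorem fac_of_compl {M K : Subgroup G} (hE : Cfsg.IsComplIn K (Cfsg.sigmaCore M) M)
    (T : Subgroup G) (hKT : K ≤ T) :
    ∀ m ∈ M, ∃ s ∈ Cfsg.sigmaCore M, ∃ t ∈ T, m = s * t := by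
  intro m hm
  obtain ⟨a, ha, b, hb, rfl⟩ := hE.2.2.2 m hm
  refine ⟨a * b * a⁻¹, ?_, a, hKT ha, by group⟩
  have han : a ∈ Subgroup.normalizer (Cfsg.sigmaCore M : Set G) :=
    le_normalizer_sigmaCore M (hE.1 ha)
  exact (Subgroup.mem_normalizer_iff.mp han b).mp hb

namespace Pair

variable {M Ms K : Subgroup G}

/-- if every prime of `M` outside `σ(M)` lies in `κ(M)`, then `K` is a complement of `M_σ` -/
theorem compl_of_all_kappa (c : Pair M Ms K)
    (h : ∀ q : ℕ, q.Prime → q ∣ Nat.card M → q ∉ Cfsg.sigma M → q ∈ Cfsg.kappa M) :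
    Cfsg.IsComplIn K (Cfsg.sigmaCore M) M := by
  obtain ⟨E, hE, hKE⟩ := exists_compl_ge c.hG c.hM c.hK.1
    (fun q hq hqd => (c.hK.2.1 q hq hqd).2.2.1)
  have hEK : E = K := by
    apply compl_eq_of_kappa c.hK hE hKE
    intro q hq hqd
    apply h q hq (hqd.trans (Subgroup.card_dvd_of_le hE.1))
    exact compl_prime_not_sigma c.hG c.hM hE hq hqd
  rw [← hEK]
  exact hE

/-- **`K*` is cyclic** -/
theorem kstar_cyclic (c : Pair M Ms K) :
    IsCyclic ↥(Cfsg.sigmaCore M ⊓ Subgroup.centralizer (K : Set G)) := by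
  by_cases Hκ : ∀ p ∈ Cfsg.kappa Ms, p ∈ Cfsg.tau1 Ms
  · exact (Cfsg.Agent.Lib.Helper1.BG14.kappa_hall_exists_cyclic c.hG c.hMs Hκ).2 _ c.hKstH
  exfalso
  push Not at Hκ
  obtain ⟨p, hpκ, hp1⟩ := Hκ
  have hr1 := Cfsg.Agent.Lib.Helper1.BG14.kappa_pRankLE_one hpκ
  have hp3 : p ∈ Cfsg.tau3 Ms := by
    refine ⟨hpκ.1, hpκ.2.2.1, ?_, hr1⟩
    by_contra hnd
    exact hp1 ⟨hpκ.1, hpκ.2.2.1, hpκ.2.1, hnd, hr1⟩
  obtain ⟨E, hE, hKE⟩ := exists_compl_ge c.hG c.hMs c.hKstH.1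
    (fun q hq hqd => (c.hKstH.2.1 q hq hqd).2.2.1)
  obtain ⟨hall, -, -, -⟩ :=
    Cfsg.Agent.Lib.Helper10.KappaTau.nonregular_structure c.hG c.hMs hE hpκ hp3
  have hEK := compl_eq_of_kappa c.hKstH hE hKE hall
  rw [hEK] at hE
  have hfs := fac_of_compl hE (K ⊔ (Cfsg.sigmaCore M ⊓ Subgroup.centralizer (K : Set G)))
    le_sup_right
  -- `M_σ` is not nilpotent, so `K` is a complement of `M_σ`
  have hallM : ∀ q : ℕ, q.Prime → q ∣ Nat.card M → q ∉ Cfsg.sigma M → q ∈ Cfsg.kappa M := by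
    by_contra hne
    have hne' := hne
    push Not at hne'
    obtain ⟨q, hq, hqM, hqσ, hqκ⟩ := hne'
    haveI : Fact q.Prime := ⟨hq⟩
    obtain ⟨S⟩ : Nonempty (Sylow q ↥M) := inferInstance
    have hnil := (Cfsg.Agent.S1429.result c.hG M c.hM hne q hqM
      (by rintro (h | h); exact hqσ h; exact hqκ h) S).2.2
    -- `K*` is nilpotent, hence commutative
    have hKsnil : Group.IsNilpotent
        ↥(Cfsg.sigmaCore M ⊓ Subgroup.centralizer (K : Set G)) := by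
      have hle : Cfsg.sigmaCore M ⊓ Subgroup.centralizer (K : Set G) ≤ Cfsg.sigmaCore M :=
        inf_le_left
      have h1 : Group.IsNilpotent
          ((Cfsg.sigmaCore M ⊓ Subgroup.centralizer (K : Set G)).subgroupOf (Cfsg.sigmaCore M)) :=
        inferInstance
      exact (Group.isNilpotent_congr (Subgroup.subgroupOfEquivOfLe hle)).mp h1
    have hcomm := (Cfsg.Agent.S1420.result c.hG Ms c.hMs _ hE).1 _ c.hKstH.1 hKsnil
      (fun r hr hrd => (c.hKstH.2.1 r hr hrd).2.2.1)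
    have := Cfsg.Agent.Lib.Helper10.KappaTau.kappa_sub_tau1_of_comm c.hG c.hMs c.hKstH
      (by
        intro a ha b hb
        have := hcomm.is_comm.comm ⟨a, ha⟩ ⟨b, hb⟩
        exact congrArg Subtype.val this)
    exact hp1 (this p hpκ)
  have hf := fac_of_compl (c.compl_of_all_kappa hallM)
    (K ⊔ (Cfsg.sigmaCore M ⊓ Subgroup.centralizer (K : Set G))) le_sup_left
  exact c.two_cycle_false hf hfs

end Pair

end Cfsg.Agent.Lib.Helper10.PPair
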