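import Mathlib
import Cfsg.Agent.Lib.Helper10.PPairC

set_option autoImplicit false

/-! # `K K*` is cyclic for a pair `(M, M*)` (helper10) -/

namespace Cfsg.Agent.Lib.Helper10.PPair

open Cfsg Cfsg.Agent.Lib.Helper18 Cfsg.Agent.Lib.Helper28.BGt

variable {G : Type*} [Group G] [Finite G]

/-- the join of two commuting cyclic subgroups of coprime orders is cyclic -/
theorem isCyclic_sup_of_comm_coprime {A B : Subgroup G} (hA : IsCyclic A) (hB : IsCyclic B)
    (hcomm : ∀ a ∈ A, ∀ b ∈ B, a * b = b * a)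
    (hcop : (Nat.card A).Coprime (Nat.card B)) : IsCyclic ↥(A ⊔ B) := by
  obtain ⟨a, ha⟩ := hA.exists_generator
  obtain ⟨b, hb⟩ := hB.exists_generator
  have hoa : orderOf (a : G) = Nat.card A := by
    rw [Subgroup.orderOf_coe]; exact orderOf_eq_card_of_forall_mem_zpowers ha
  have hob : orderOf (b : G) = Nat.card B := by
    rw [Subgroup.orderOf_coe]; exact orderOf_eq_card_of_forall_mem_zpowers hb
  have hc : Commute (a : G) (b : G) := hcomm a a.2 b b.2
  have hoab : orderOf ((a : G) * (b : G)) = Nat.card A * Nat.card B := by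
    rw [hc.orderOf_mul_eq_mul_orderOf_of_coprime (by rw [hoa, hob]; exact hcop), hoa, hob]
  have hmem : (a : G) * (b : G) ∈ A ⊔ B :=
    Subgroup.mul_mem _ (Subgroup.mem_sup_left a.2) (Subgroup.mem_sup_right b.2)
  have hBN : B ≤ Subgroup.normalizer (A : Set G) := by
    refine le_trans ?_ (Subgroup.centralizer_le_normalizer _)
    intro y hy
    rw [Subgroup.mem_centralizer_iff]
    intro x hx
    exact hcomm x hx y hy
  have hdvd : Nat.card ↥(A ⊔ B) ∣ Nat.card A * Nat.card B :=
    Cfsg.Agent.Lib.Helper11.ThirteenB.card_sup_dvd A B hBN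
  apply isCyclic_of_orderOf_eq_card (⟨(a : G) * (b : G), hmem⟩ : ↥(A ⊔ B))
  have h1 : orderOf (⟨(a : G) * (b : G), hmem⟩ : ↥(A ⊔ B)) = Nat.card A * Nat.card B := by
    rw [← hoab, ← Subgroup.orderOf_coe]
  rw [h1]
  apply Nat.dvd_antisymm _ hdvd
  rw [← h1]
  exact orderOf_dvd_natCard _

namespace Pair

variable {M Ms K : Subgroup G}

/-- `K` is cyclic -/
theorem k_cyclic (c : Pair M Ms K) : IsCyclic K := by
  have h := c.symm.kstar_cyclic
  rw [← c.hKst] at h
  exact h

/-- **`Z = K K*` is cyclic** -/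
theorem z_cyclic (c : Pair M Ms K) :
    IsCyclic ↥(K ⊔ (Cfsg.sigmaCore M ⊓ Subgroup.centralizer (K : Set G))) := by
  apply isCyclic_sup_of_comm_coprime c.k_cyclic c.kstar_cyclic
  · intro a ha b hb
    exact Subgroup.mem_centralizer_iff.mp hb.2 a ha
  · apply Nat.Coprime.coprime_dvd_right (Subgroup.card_dvd_of_le inf_le_left)
    exact Cfsg.Agent.Lib.Helper13.BG14.bg14_coprime_K_sigma c.hG c.hM c.hK

end Pair

end Cfsg.Agent.Lib.Helper10.PPair
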