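import Mathlib
import Cfsg.Agent.Lib.Helper10.PPairD

set_option autoImplicit false

/-! # Every maximal subgroup with `κ ≠ ∅` is conjugate to `M` or `M*` (helper10)

B & G, Theorem 14.7(g), via the count of the conjugates of `Ẑ`. -/

namespace Cfsg.Agent.Lib.Helper10.PPair

open Cfsg Cfsg.Agent.Lib.Helper18 Cfsg.Agent.Lib.Helper28.BGt Cfsg.Agent.Lib.Helper13.BG14

variable {G : Type*} [Group G] [Finite G]

/-- a power of prime order of an element of `Ẑ` lies in `K` or in `K*` -/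
theorem prime_pow_mem (hG : Cfsg.IsMinSimpleOddOrder G) {M K : Subgroup G} (hM : IsCoatom M)
    (hK : Cfsg.IsPiHallOf (Cfsg.kappa M) K M) {z : G} (hz : z ∈ bg14Zhat M K) (n : ℕ)
    (hq : (orderOf (z ^ n)).Prime) :
    z ^ n ∈ K ∨ z ^ n ∈ Cfsg.sigmaCore M ⊓ Subgroup.centralizer (K : Set G) := by
  obtain ⟨k, hk, s, hs, -, -, rfl, hks⟩ := bg14_zhat_decomp hz
  have hcop := bg14_coprime_K_sigma hG hM hK
  have hdk : orderOf (k ^ n) ∣ Nat.card K := Subgroup.orderOf_dvd_natCard K (K.pow_mem hk n)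
  have hds : orderOf (s ^ n) ∣ Nat.card (Cfsg.sigmaCore M) :=
    Subgroup.orderOf_dvd_natCard _ (Subgroup.pow_mem _ hs.1 n)
  have hc : Commute (k ^ n) (s ^ n) := hks.pow_pow n n
  have ho : orderOf ((k * s) ^ n) = orderOf (k ^ n) * orderOf (s ^ n) := by
    rw [hks.mul_pow]
    exact hc.orderOf_mul_eq_mul_orderOf_of_coprime
      (Nat.Coprime.coprime_dvd_left hdk (Nat.Coprime.coprime_dvd_right hds hcop))
  rw [ho] at hq
  rw [hks.mul_pow]
  rcases Nat.prime_mul_iff.mp hq with ⟨-, h1⟩ | ⟨-, h1⟩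
  · left
    rw [orderOf_eq_one_iff.mp h1, mul_one]
    exact K.pow_mem hk n
  · right
    rw [orderOf_eq_one_iff.mp h1, one_mul]
    exact Subgroup.pow_mem _ hs n

/-- an element of `Ẑ` has a power of prime order in `K*` -/
theorem exists_prime_pow_kstar (hG : Cfsg.IsMinSimpleOddOrder G) {M K : Subgroup G}
    (hM : IsCoatom M) (hK : Cfsg.IsPiHallOf (Cfsg.kappa M) K M) {z : G}
    (hz : z ∈ bg14Zhat M K) :
    ∃ n : ℕ, (orderOf (z ^ n)).Prime ∧
      z ^ n ∈ Cfsg.sigmaCore M ⊓ Subgroup.centralizer (K : Set G) := by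
  obtain ⟨k, hk, s, hs, -, hs1, rfl, hks⟩ := bg14_zhat_decomp hz
  have hcop := bg14_coprime_K_sigma hG hM hK
  have hdk : orderOf k ∣ Nat.card K := Subgroup.orderOf_dvd_natCard K hk
  have hds : orderOf s ∣ Nat.card (Cfsg.sigmaCore M) := Subgroup.orderOf_dvd_natCard _ hs.1
  obtain ⟨m, hm⟩ := bg14_exists_pow_eq_left hks.symm
    (Nat.Coprime.coprime_dvd_left hds (Nat.Coprime.coprime_dvd_right hdk hcop.symm))
  rw [← hks.eq] at hm
  obtain ⟨q, hq, -, hqo⟩ := Cfsg.Agent.Lib.Helper18.KStar.exists_prime_pow hs1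
  refine ⟨m * (orderOf s / q), ?_, ?_⟩
  · rw [pow_mul, hm, hqo]; exact hq
  · rw [pow_mul, hm]; exact Subgroup.pow_mem _ hs _

/-- transport of the uniqueness of the maximal subgroup over a centralizer under conjugation -/
theorem eq_conj_of_uniq {H N : Subgroup G} (hN : IsCoatom N) {y c : G}
    (hyN : Subgroup.centralizer ({y} : Set G) ≤ N)
    (hu : ∀ L : Subgroup G, IsCoatom L → Subgroup.centralizer ({c * y * c⁻¹} : Set G) ≤ L → L = H) :
    H = N.map (MulAut.conj c).toMonoidHom := by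
  symm
  apply hu _ (Cfsg.Agent.Lib.Helper11.BenderF.isCoatom_conjSub c hN)
  intro t ht
  refine ⟨c⁻¹ * t * c, hyN ?_, by simp [MulAut.conj_apply, mul_assoc]⟩
  rw [Subgroup.mem_centralizer_iff] at ht ⊢
  intro x hx
  rw [Set.mem_singleton_iff] at hx
  rw [hx]
  have h1 := ht (c * y * c⁻¹) (Set.mem_singleton _)
  calc y * (c⁻¹ * t * c) = c⁻¹ * ((c * y * c⁻¹) * t) * c := by group
    _ = c⁻¹ * (t * (c * y * c⁻¹)) * c := by rw [h1]
    _ = c⁻¹ * t * c * y := by group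

/-- uniqueness of the maximal subgroup over `C_G(y)`, `y ∈ K*` of prime order -/
theorem uniq_of_mem_kstar (hG : Cfsg.IsMinSimpleOddOrder G) {M K : Subgroup G} (hM : IsCoatom M)
    (hK : Cfsg.IsPiHallOf (Cfsg.kappa M) K M) (hK1 : K ≠ ⊥) {y : G}
    (hy : y ∈ Cfsg.sigmaCore M ⊓ Subgroup.centralizer (K : Set G)) (hq : (orderOf y).Prime) :
    Subgroup.centralizer ({y} : Set G) ≤ M ∧
      ∀ L : Subgroup G, IsCoatom L → Subgroup.centralizer ({y} : Set G) ≤ L → L = M := by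
  haveI : Fact (orderOf y).Prime := ⟨hq⟩
  obtain ⟨S⟩ : Nonempty (Sylow (orderOf y) ↥(Cfsg.sigmaCore M)) := inferInstance
  have h := (Cfsg.Agent.Lib.Helper18.KStar.kstar_uniq hG hM hK hK1 (X := Subgroup.zpowers y)
    (Nat.card_zpowers y) (by rw [Subgroup.zpowers_le]; exact hy) S).1
  rw [Cfsg.Agent.Lib.Helper1.BG14.centralizer_zpowers_eq] at h
  exact h

namespace Pair

variable {M Ms K : Subgroup G}

/-- **B & G 14.7(g)**: every maximal subgroup `H` with `κ(H) ≠ ∅` is conjugate to `M` or `M*` -/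
theorem conj_of_kappa (c : Pair M Ms K) {H : Subgroup G} (hH : IsCoatom H)
    (hκ : (Cfsg.kappa H).Nonempty) :
    ∃ g : G, H = M.map (MulAut.conj g).toMonoidHom ∨ H = Ms.map (MulAut.conj g).toMonoidHom := by
  classical
  have hG := c.hG
  haveI : Group.IsSolvable ↥H := hG.2.2.2 H hH.1
  obtain ⟨KH, hKH⟩ := Cfsg.Agent.Lib.Helper1.BG12b.exists_piHallOf (Cfsg.kappa H) H
  obtain ⟨p, hp⟩ := hκ
  have hKH1 : KH ≠ ⊥ := by
    intro h
    apply hKH.2.2 p hp.1 hp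
    rw [h, Subgroup.relIndex_bot_left]
    exact hp.2.1
  have h31 := Cfsg.Agent.S1431.result hG M c.hM K c.hK c.hK1
  have h31H := Cfsg.Agent.S1431.result hG H hH KH hKH hKH1
  have hc1 := (bg14_zhat_count hG c.hM c.hK c.hK1 h31.1 h31.2.1).2
  have hc2 := (bg14_zhat_count hG hH hKH hKH1 h31H.1 h31H.2.1).2
  -- the two supports meet
  obtain ⟨a, ⟨g, z, hz, hga⟩, ⟨g', z', hz', hga'⟩⟩ :
      ({a : G | ∃ g : G, ∃ z ∈ bg14Zhat M K, a = g * z * g⁻¹} ∩
        {a : G | ∃ g : G, ∃ z ∈ bg14Zhat H KH, a = g * z * g⁻¹}).Nonempty := by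
    by_contra hemp
    rw [Set.not_nonempty_iff_eq_empty] at hemp
    have hdisj : Disjoint {a : G | ∃ g : G, ∃ z ∈ bg14Zhat M K, a = g * z * g⁻¹}
        {a : G | ∃ g : G, ∃ z ∈ bg14Zhat H KH, a = g * z * g⁻¹} :=
      Set.disjoint_iff_inter_eq_empty.mpr hemp
    have h1 := Set.ncard_union_eq hdisj (Set.toFinite _) (Set.toFinite _)
    have h2 : ({a : G | ∃ g : G, ∃ z ∈ bg14Zhat M K, a = g * z * g⁻¹} ∪
        {a : G | ∃ g : G, ∃ z ∈ bg14Zhat H KH, a = g * z * g⁻¹}).ncard ≤ Nat.card G := by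
      rw [← Set.ncard_univ]
      exact Set.ncard_le_ncard (Set.subset_univ _) (Set.toFinite _)
    omega
  -- `z' = d z d⁻¹`
  obtain ⟨d, hd⟩ : ∃ d : G, z' = d * z * d⁻¹ := by
    refine ⟨g'⁻¹ * g, ?_⟩
    have : g' * z' * g'⁻¹ = g * z * g⁻¹ := by rw [← hga', hga]
    calc z' = g'⁻¹ * (g' * z' * g'⁻¹) * g' := by group
      _ = g'⁻¹ * (g * z * g⁻¹) * g' := by rw [this]
      _ = g'⁻¹ * g * z * (g'⁻¹ * g)⁻¹ := by group
  obtain ⟨n, hnq, hnK⟩ := exists_prime_pow_kstar hG hH hKH hz'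
  have hpow : z' ^ n = d * z ^ n * d⁻¹ := by
    rw [hd, conj_pow]
  have hord : orderOf (z ^ n) = orderOf (z' ^ n) := by
    rw [hpow]
    have := (MulAut.conj d).orderOf_eq (z ^ n)
    rw [MulAut.conj_apply] at this
    exact this.symm
  have huH := (uniq_of_mem_kstar hG hH hKH hKH1 hnK hnq).2
  rw [hpow] at huH
  refine ⟨d, ?_⟩
  rcases prime_pow_mem hG c.hM c.hK hz n (by rw [hord]; exact hnq) with h | h
  · right
    have h' : z ^ n ∈ Cfsg.sigmaCore Ms ⊓ Subgroup.centralizer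
        ((Cfsg.sigmaCore M ⊓ Subgroup.centralizer (K : Set G) : Subgroup G) : Set G) := by
      rw [← c.hKst]; exact h
    have hu := (uniq_of_mem_kstar hG c.hMs c.hKstH c.hKs1 h' (by rw [hord]; exact hnq)).1
    exact eq_conj_of_uniq c.hMs hu huH
  · left
    have hu := (uniq_of_mem_kstar hG c.hM c.hK c.hK1 h (by rw [hord]; exact hnq)).1
    exact eq_conj_of_uniq c.hM hu huH

end Pair

end Cfsg.Agent.Lib.Helper10.PPair
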