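import Mathlib
import Cfsg.Agent.Lib.Helper10.PPairE

set_option autoImplicit false

/-! # B & G 14.7(f): `M` or `M*` has `U ≠ 1` (helper10) -/

namespace Cfsg.Agent.Lib.Helper10.PPair

open Cfsg Cfsg.Agent.Lib.Helper18 Cfsg.Agent.Lib.Helper28.BGt

variable {G : Type*} [Group G] [Finite G]

/-- the factorization `M = M_σ T` from a `σ`-decomposition with `U = 1` -/
theorem fac_of_decomp {M K U : Subgroup G} (h : Cfsg.IsSigmaDecomposition M K U) (hU : U = ⊥)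
    (T : Subgroup G) (hKT : K ≤ T) :
    ∀ m ∈ M, ∃ s ∈ Cfsg.sigmaCore M, ∃ t ∈ T, m = s * t := by
  intro m hm
  obtain ⟨a, ha, b, hb, rfl⟩ := h.compl.2.2.2 m hm
  rw [hU, Subgroup.mem_bot] at ha
  rw [ha, one_mul]
  rw [sup_comm] at hb
  obtain ⟨s, hs, k, hk, rfl⟩ := Cfsg.Agent.Lib.Helper10.exists_mul_of_mem_sup (Cfsg.sigmaCore M) K
    (h.hall.1.trans (le_normalizer_sigmaCore M)) b hb
  exact ⟨s, hs, k, hKT hk, rfl⟩

namespace Pair

variable {M Ms K : Subgroup G}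

/-- **B & G 14.7(f)** -/
theorem u_ne_bot (c : Pair M Ms K) {U : Subgroup G} (hKU : Cfsg.IsSigmaDecomposition M K U) :
    U ≠ ⊥ ∨ ∀ Ustar : Subgroup G, Cfsg.IsSigmaDecomposition Ms
      (Cfsg.sigmaCore M ⊓ Subgroup.centralizer (K : Set G)) Ustar → Ustar ≠ ⊥ := by
  by_contra hcon
  push Not at hcon
  obtain ⟨hU, Us, hUs, hUs1⟩ := hcon
  exact c.two_cycle_false (fac_of_decomp hKU hU _ le_sup_left)
    (fac_of_decomp hUs hUs1 _ le_sup_right)

end Pair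

end Cfsg.Agent.Lib.Helper10.PPair
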