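import Mathlib
import Cfsg.Prelude.Def_OddOrderLocal
import Cfsg.Agent.Lib.Helper10.SubgroupBasic
import Cfsg.Agent.Lib.Helper10.FittingHall

set_option autoImplicit false

namespace Cfsg.Agent.Lib.Helper10

section

variable {G : Type*} [Group G]

lemma fittingHallOf_le (M : Subgroup G) : fittingHallOf M ≤ M := by
  unfold fittingHallOf
  rintro _ ⟨y, _, rfl⟩
  exact y.2

lemma le_normalizer_fittingHallOf (M : Subgroup G) :
    M ≤ Subgroup.normalizer (fittingHallOf M : Set G) := by
  intro m hm
  have key : ∀ m ∈ M, ∀ h ∈ fittingHallOf M, m * h * m⁻¹ ∈ fittingHallOf M := by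
    intro m hm h hh
    unfold fittingHallOf at hh ⊢
    obtain ⟨y, hy, rfl⟩ := hh
    refine ⟨⟨m, hm⟩ * y * ⟨m, hm⟩⁻¹, ?_, rfl⟩
    exact (fittingHall_normal M).conj_mem y hy ⟨m, hm⟩
  rw [Subgroup.mem_normalizer_iff]
  intro h
  constructor
  · exact key m hm h
  · intro hh
    have := key m⁻¹ (M.inv_mem hm) _ hh
    have e : m⁻¹ * (m * h * m⁻¹) * m⁻¹⁻¹ = h := by group
    rwa [e] at this

lemma card_fittingHallOf (M : Subgroup G) :
    Nat.card (fittingHallOf M) = Nat.card (fittingHall M) := by
  unfold fittingHallOf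
  exact Subgroup.card_map_of_injective M.subtype_injective

lemma fittingHallOf_coprime [Finite G] (M : Subgroup G) :
    (Nat.card (fittingHallOf M)).Coprime ((fittingHallOf M).relIndex M) := by
  have h := fittingHall_coprime (M := M)
  rw [card_fittingHallOf]
  have : (fittingHallOf M).relIndex M = (fittingHall M).index := by
    unfold Subgroup.relIndex fittingHallOf
    congr 1
    unfold Subgroup.subgroupOf
    exact Subgroup.comap_map_eq_self_of_injective M.subtype_injective _
  rwa [this]

lemma isComplIn_sup {A B M : Subgroup G} (h : IsComplIn A B M) : A ⊔ B = M := by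
  obtain ⟨hA, hB, _, hfac⟩ := h
  apply le_antisymm (sup_le hA hB)
  intro m hm
  obtain ⟨a, ha, b, hb, rfl⟩ := hfac m hm
  exact mul_mem (Subgroup.mem_sup_left ha) (Subgroup.mem_sup_right hb)

lemma isComplIn_card {A B M : Subgroup G} (h : IsComplIn A B M)
    (hn : B ≤ Subgroup.normalizer (A : Set G)) : Nat.card M = Nat.card A * Nat.card B := by
  rw [← isComplIn_sup h]
  exact card_sup_of_inf_eq_bot A B hn h.2.2.1

end

section TypeP

variable {G : Type*} [Group G] [Finite G] {M W₁ U W₂ : Subgroup G}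

omit [Finite G] in
lemma typeP_U_le (hP : IsTypePWith M W₁ U W₂) : U ≤ M :=
  le_trans hP.U_compl.2.1 (Subgroup.commutator_le_self M)

omit [Finite G] in
lemma typeP_U_normalizes (hP : IsTypePWith M W₁ U W₂) :
    U ≤ Subgroup.normalizer (fittingHallOf M : Set G) :=
  le_trans (typeP_U_le hP) (le_normalizer_fittingHallOf M)

omit [Finite G] in
lemma typeP_card_derived (hP : IsTypePWith M W₁ U W₂) :
    Nat.card ↥⁅M, M⁆ = Nat.card (fittingHallOf M) * Nat.card U :=
  isComplIn_card hP.U_compl (typeP_U_normalizes hP)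

lemma typeP_coprime_U_H (hP : IsTypePWith M W₁ U W₂) :
    (Nat.card U).Coprime (Nat.card (fittingHallOf M)) := by
  have h1 := typeP_card_derived hP
  have h2 : Nat.card ↥⁅M, M⁆ ∣ Nat.card M := Subgroup.card_dvd_of_le (Subgroup.commutator_le_self M)
  have h3 : Nat.card (fittingHallOf M) * (fittingHallOf M).relIndex M = Nat.card M := by
    have := Subgroup.relIndex_mul_relIndex (H := (⊥ : Subgroup G)) (K := fittingHallOf M) (L := M)
      bot_le (fittingHallOf_le M)
    rwa [Subgroup.relIndex_bot_left, Subgroup.relIndex_bot_left] at this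
  rw [h1, ← h3] at h2
  have hpos : 0 < Nat.card (fittingHallOf M) := Nat.card_pos
  have h4 : Nat.card U ∣ (fittingHallOf M).relIndex M := Nat.dvd_of_mul_dvd_mul_left hpos h2
  exact Nat.Coprime.coprime_dvd_left h4 (fittingHallOf_coprime M).symm

end TypeP

end Cfsg.Agent.Lib.Helper10
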