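import Mathlib
import Cfsg.Agent.Lib.Helper18.BLK.Defs
import Cfsg.Agent.Lib.Helper20.HupA

/-!
# BLK piece T1 : local class-two power formula
-/

set_option autoImplicit false

namespace Cfsg.Agent.Lib.Helper18.BLK

/-- **T1**. local class-two power formula (from `Helper20.Hup.norm_formula`). -/
theorem pow_mul_local {G : Type*} [Group G] (p : ℕ) [Fact p.Prime] (hp2 : p ≠ 2) (a b : G)
    (ha : Commute a (rc b a)) (hb : Commute b (rc b a)) (hm : rc b a ^ p = 1) :
    (a * b) ^ p = a ^ p * b ^ p := by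
  have hp : p.Prime := Fact.out
  have h1 : a⁻¹ * b * a = b * rc b a := conj_eq b a
  have h2 : a⁻¹ * rc b a * a = rc b a * 1 := by
    rw [mul_one, mul_assoc, ← ha.eq, ← mul_assoc, inv_mul_cancel, one_mul]
  have h3 : a⁻¹ * (1 : G) * a = 1 := by group
  have key := Cfsg.Agent.Lib.Helper20.Hup.norm_formula a b (rc b a) 1 h1 h2 h3 hb
    (Commute.one_right b) (Commute.one_right _) p
  rw [key, one_pow, mul_one]
  have hdvd : p ∣ p.choose 2 := by
    apply hp.dvd_choose_self (by norm_num)
    have := hp.two_le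
    omega
  obtain ⟨c, hc⟩ := hdvd
  rw [hc, pow_mul, hm, one_pow, mul_one]

end Cfsg.Agent.Lib.Helper18.BLK
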