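import Mathlib
import Cfsg.Agent.Lib.helper7.BR.Defs
import Cfsg.Agent.Lib.helper2.CharNat
import Cfsg.Agent.Lib.helper2.CharInd
import Cfsg.Agent.Lib.Helper25.CharBasic
import Cfsg.Agent.Lib.Helper24.GaloisNorm

/-!
# Project BR, piece VAN1 : `∑_{x ∈ P} |θ(x)|² ≥ p θ(1)` for a character `θ` and `|P| = p`
-/

set_option autoImplicit false
set_option linter.unusedVariables false
set_option linter.unusedSectionVars false

namespace Cfsg.Agent.Lib.helper7.BR

open Classical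
open Cfsg.Agent.Lib.Helper25
open Cfsg.Agent.Lib.helper2
open scoped ComplexConjugate

universe u

variable {G : Type u} [Group G] [Fintype G] {p : ℕ} [Fact p.Prime] {P : Sylow p G} {q t : ℕ}
  {Xp Xm Y : Finset (Cfsg.IrrCharacter G)} {H : Subgroup G}

/-- for a character `ψ` of a commutative group `C`: `|C| ψ(1) ≤ ∑_x |ψ(x)|²` -/
theorem brvan1_comm {C : Type u} [Group C] [Fintype C] [IsMulCommutative C] (ψ : C → ℂ)
    (hψ : Cfsg.IsCharacter C ψ) (d : ℕ) (hd : ψ 1 = (d : ℂ)) :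
    ((Nat.card C * d : ℕ) : ℝ) ≤ ∑ x : C, Complex.normSq (ψ x) := by
  haveI : Fintype (Cfsg.IrrCharacter C) := Fintype.ofFinite _
  obtain ⟨m, hm, hexp⟩ := isCharacter_expansion hψ
  -- the degree
  have hdeg : (d : ℂ) = ∑ μ : Cfsg.IrrCharacter C, (m μ : ℂ) := by
    rw [← hd]
    conv_lhs => rw [hexp]
    rw [Finset.sum_apply]
    refine Finset.sum_congr rfl fun μ _ => ?_
    rw [Pi.smul_apply, smul_eq_mul, Cfsg.Agent.Lib.Helper24.gn_irr_one_of_isMulCommutative μ, mul_one]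
  have hdegN : d = ∑ μ : Cfsg.IrrCharacter C, m μ := by
    have : (d : ℂ) = ((∑ μ : Cfsg.IrrCharacter C, m μ : ℕ) : ℂ) := by
      rw [hdeg]; push_cast; rfl
    exact_mod_cast this
  -- the norm
  have hinner : Cfsg.classInner ψ ψ = ∑ μ : Cfsg.IrrCharacter C, ((m μ : ℂ)) ^ 2 := by
    conv_lhs => rw [hexp]
    rw [← hexp]
    have h1 : Cfsg.classInner (∑ μ : Cfsg.IrrCharacter C, (m μ : ℂ) • (μ : C → ℂ)) ψ =
        ∑ μ : Cfsg.IrrCharacter C, (m μ : ℂ) * Cfsg.classInner (μ : C → ℂ) ψ := by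
      rw [classInner_sum_left]
      refine Finset.sum_congr rfl fun μ _ => ?_
      rw [classInner_smul_left]
    have h2 : Cfsg.classInner ψ ψ =
        Cfsg.classInner (∑ μ : Cfsg.IrrCharacter C, (m μ : ℂ) • (μ : C → ℂ)) ψ := by
      rw [← hexp]
    rw [h2, h1]
    refine Finset.sum_congr rfl fun μ _ => ?_
    rw [Cfsg.Agent.Lib.helper2.classInner_conj_symm, hm μ, Complex.conj_natCast, sq]
  -- in terms of `normSq`
  have hsum : (∑ x : C, (Complex.normSq (ψ x) : ℂ)) =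
      (Nat.card C : ℂ) * ∑ μ : Cfsg.IrrCharacter C, ((m μ : ℂ)) ^ 2 := by
    rw [← hinner]
    unfold Cfsg.classInner
    have hne : (Nat.card C : ℂ) ≠ 0 := by
      have : 0 < Nat.card C := Nat.card_pos
      exact_mod_cast this.ne'
    rw [← mul_assoc, mul_inv_cancel₀ hne, one_mul]
    refine Finset.sum_congr rfl fun x _ => ?_
    rw [Complex.mul_conj]
  have hsumR : (∑ x : C, Complex.normSq (ψ x)) =
      ((Nat.card C * ∑ μ : Cfsg.IrrCharacter C, (m μ) ^ 2 : ℕ) : ℝ) := by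
    have : ((∑ x : C, Complex.normSq (ψ x) : ℝ) : ℂ) =
        (((Nat.card C * ∑ μ : Cfsg.IrrCharacter C, (m μ) ^ 2 : ℕ) : ℝ) : ℂ) := by
      push_cast
      rw [← hsum]
    exact_mod_cast this
  rw [hsumR]
  have hle : Nat.card C * d ≤ Nat.card C * ∑ μ : Cfsg.IrrCharacter C, (m μ) ^ 2 := by
    apply Nat.mul_le_mul_left
    rw [hdegN]
    apply Finset.sum_le_sum
    intro μ _
    nlinarith [Nat.zero_le (m μ)]
  exact_mod_cast hle

/-- VAN1 : `∑_{x ∈ P} |θ(x)|² ≥ p θ(1)` for a character `θ` (`P` abelian: `θ_P = ∑ m_λ λ`, `∑ m_λ² ≥ ∑ m_λ`). -/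
theorem sum_normSq_ge (P : Sylow p G) (hP : Nat.card ↥(P : Subgroup G) = p) (θ : G → ℂ)
    (hθ : Cfsg.IsCharacter G θ) (d : ℕ) (hd : θ 1 = (d : ℂ)) :
    ((p * d : ℕ) : ℝ) ≤ ∑ x : ↥(P : Subgroup G), Complex.normSq (θ (x : G)) := by
  have : IsCyclic ↥(P : Subgroup G) := isCyclic_of_prime_card hP
  have hres := isCharacter_restrict hθ (P : Subgroup G)
  have h1 := brvan1_comm (C := ↥(P : Subgroup G)) (fun h => θ h) hres d (by simpa using hd)
  rw [hP] at h1
  exact h1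

end Cfsg.Agent.Lib.helper7.BR
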