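import Mathlib
import Cfsg.Agent.Lib.helper7.BR.Defs

/-!
# Project BR, piece PERM5 : `|N ∩ x N x⁻¹|` divides `q` for `x ∉ N`
-/

set_option autoImplicit false
set_option linter.unusedVariables false
set_option linter.unusedSectionVars false

namespace Cfsg.Agent.Lib.helper7.BR

open Classical
open Cfsg.Agent.Lib.Helper25

universe u

variable {G : Type u} [Group G] [Fintype G] {p : ℕ} [Fact p.Prime] {P : Sylow p G} {q t : ℕ}
  {Xp Xm Y : Finset (Cfsg.IrrCharacter G)} {H : Subgroup G}

/-- an element of order `p` of `N_G(P)` lies in `P` -/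
theorem brperm5_mem_of_orderOf (P : Sylow p G) (g : G) (hg : g ∈ nrm P) (ho : orderOf g = p) :
    g ∈ (P : Subgroup G) := by
  have hpg : IsPGroup p (Subgroup.zpowers g) := by
    apply IsPGroup.of_card (n := 1)
    rw [Nat.card_zpowers, ho, pow_one]
  have h1 := hpg.inf_normalizer_sylow P
  have h2 : g ∈ Subgroup.zpowers g ⊓ Subgroup.normalizer ((P : Subgroup G) : Set G) :=
    ⟨Subgroup.mem_zpowers g, hg⟩
  have h3 : g ∈ Subgroup.zpowers g ⊓ (P : Subgroup G) := by
    rw [← h1]
    exact h2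
  exact h3.2

/-- if `x⁻¹ y x ∈ P` for some `1 ≠ y ∈ P` and `|P| = p` then `x` normalizes `P` -/
theorem brperm5_mem_nrm (P : Sylow p G) (hP : Nat.card (P : Subgroup G) = p) (x y : G)
    (hy : y ∈ (P : Subgroup G)) (hy1 : y ≠ 1) (hxy : x⁻¹ * y * x ∈ (P : Subgroup G)) :
    x ∈ nrm P := by
  -- every element of `P` is a power of `y`
  have hpow : ∀ g ∈ (P : Subgroup G), x⁻¹ * g * x ∈ (P : Subgroup G) := by
    intro g hg
    have hy' : (⟨y, hy⟩ : (P : Subgroup G)) ≠ 1 := by
      intro h
      exact hy1 (congrArg Subtype.val h)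
    have hmem : (⟨g, hg⟩ : (P : Subgroup G)) ∈ Subgroup.zpowers (⟨y, hy⟩ : (P : Subgroup G)) :=
      mem_zpowers_of_prime_card hP hy'
    obtain ⟨k, hk⟩ := Subgroup.mem_zpowers_iff.mp hmem
    have hk' : y ^ k = g := by
      have := congrArg Subtype.val hk
      simpa using this
    have e : x⁻¹ * g * x = (x⁻¹ * y * x) ^ k := by
      rw [← hk']
      have : x⁻¹ * y * x = x⁻¹ * y * x⁻¹⁻¹ := by rw [inv_inv]
      rw [this, conj_zpow, inv_inv]
    rw [e]
    exact Subgroup.zpow_mem _ hxy k
  -- the conjugation map `P → P` is injective, hence surjective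
  let φ : ↥(P : Subgroup G) → ↥(P : Subgroup G) := fun g => ⟨x⁻¹ * (g : G) * x, hpow g g.2⟩
  have hinj : Function.Injective φ := by
    intro a b hab
    have := congrArg Subtype.val hab
    simp only [φ] at this
    apply Subtype.ext
    have h2 : x⁻¹ * (a : G) = x⁻¹ * (b : G) := mul_right_cancel this
    exact mul_left_cancel h2
  have hsurj : Function.Surjective φ := Finite.injective_iff_surjective.mp hinj
  have hxinv : x⁻¹ ∈ nrm P := by
    rw [Subgroup.mem_normalizer_iff]
    intro h
    rw [inv_inv]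
    constructor
    · intro hh
      exact hpow h hh
    · intro hh
      obtain ⟨g, hg⟩ := hsurj ⟨x⁻¹ * h * x, hh⟩
      have := congrArg Subtype.val hg
      simp only [φ] at this
      have h2 : x⁻¹ * (g : G) = x⁻¹ * h := mul_right_cancel this
      have h3 : (g : G) = h := mul_left_cancel h2
      rw [← h3]
      exact g.2
  have := Subgroup.inv_mem _ hxinv
  rwa [inv_inv] at this

/-- PERM5 : `|N ∩ x N x⁻¹|` divides `q` for `x ∉ N` (it meets `P` trivially). -/
theorem card_inter_dvd (hS : Setting p P q t) (x : G) (hx : x ∉ nrm P) :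
    Nat.card ↥(nrm P ⊓ conjSub x (nrm P)) ∣ q := by
  have hpp := hS.prime
  set I : Subgroup G := nrm P ⊓ conjSub x (nrm P) with hI
  have hdvd : Nat.card I ∣ p * q := by
    rw [← hS.cardN]
    exact Subgroup.card_dvd_of_le inf_le_left
  have hcop : Nat.Coprime (Nat.card I) p := by
    rw [Nat.coprime_comm, Nat.Prime.coprime_iff_not_dvd hpp]
    intro hpd
    obtain ⟨g, hg⟩ := exists_prime_orderOf_dvd_card' (G := I) p hpd
    have hgo : orderOf (g : G) = p := by rw [Subgroup.orderOf_coe, hg]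
    have hgN : (g : G) ∈ nrm P := g.2.1
    have hgP : (g : G) ∈ (P : Subgroup G) := brperm5_mem_of_orderOf P g hgN hgo
    have hg1 : (g : G) ≠ 1 := by
      intro h1
      rw [h1, orderOf_one] at hgo
      exact hpp.one_lt.ne hgo
    have hgx : x⁻¹ * (g : G) * x ∈ nrm P := (mem_conjSub x (nrm P) g).mp g.2.2
    have hgxo : orderOf (x⁻¹ * (g : G) * x) = p := by
      have hsc : SemiconjBy x (x⁻¹ * (g : G) * x) (g : G) := by
        show x * (x⁻¹ * (g : G) * x) = (g : G) * x
        group
      rw [SemiconjBy.orderOf_eq x hsc, hgo]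
    have hgxP := brperm5_mem_of_orderOf P _ hgx hgxo
    exact hx (brperm5_mem_nrm P hS.cardP x g hgP hg1 hgxP)
  exact hcop.dvd_of_dvd_mul_left hdvd

end Cfsg.Agent.Lib.helper7.BR
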