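import Mathlib
import Cfsg.Agent.Lib.helper7.BR.Defs
import Cfsg.Agent.Lib.Helper24.SigmaParity3

/-!
# Project BR, piece INVOL : the value of a character at an involution is an integer congruent to the
degree modulo `2`
-/

set_option autoImplicit false
set_option linter.unusedVariables false
set_option linter.unusedSectionVars false

namespace Cfsg.Agent.Lib.helper7.BR

open Classical
open Cfsg.Agent.Lib.Helper25

universe u

variable {G : Type u} [Group G] [Fintype G] {p : ℕ} [Fact p.Prime] {P : Sylow p G} {q t : ℕ}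
  {Xp Xm Y : Finset (Cfsg.IrrCharacter G)} {H : Subgroup G}

/-- INVOL : the value of a character at an involution is an integer congruent to the degree mod 2. -/
theorem char_involution_int (χ : G → ℂ) (hχ : Cfsg.IsCharacter G χ) (τ : G) (hτ : τ ^ 2 = 1)
    (d : ℕ) (hd : χ 1 = (d : ℂ)) : ∃ k : ℤ, χ τ = (k : ℂ) ∧ (2 : ℤ) ∣ (d : ℤ) - k := by
  obtain ⟨s, c, hs, hk⟩ := Cfsg.Agent.Lib.Helper24.sp_char_pow_expansion hχ τ
  have h0 := hk 0
  have h1 := hk 1
  rw [pow_zero] at h0
  rw [pow_one] at h1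
  have hdvd : orderOf τ ∣ 2 := orderOf_dvd_of_pow_eq_one hτ
  set m : ℕ := if (-1 : ℂ) ∈ s then c (-1) else 0 with hm
  have key : ∀ z ∈ s, (c z : ℂ) * z ^ 1 =
      (c z : ℂ) * z ^ 0 - (if z = -1 then 2 * (c z : ℂ) else 0) := by
    intro z hz
    have hz2 : z ^ 2 = 1 := by
      obtain ⟨e, he⟩ := hdvd
      rw [he, pow_mul, hs z hz, one_pow]
    rcases sq_eq_one_iff.mp hz2 with h | h
    · rw [h, if_neg (by norm_num)]
      ring
    · rw [h, if_pos rfl]
      ring
  have hval : χ τ = χ 1 - 2 * (m : ℂ) := by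
    rw [h0, h1, Finset.sum_congr rfl key, Finset.sum_sub_distrib, Finset.sum_ite_eq' s (-1 : ℂ)]
    congr 1
    rw [hm]
    split_ifs <;> simp
  refine ⟨(d : ℤ) - 2 * (m : ℤ), ?_, ⟨(m : ℤ), by ring⟩⟩
  rw [hval, hd]
  push_cast
  ring

end Cfsg.Agent.Lib.helper7.BR
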