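import Mathlib
import Cfsg.Agent.Lib.helper7.BD.Defs
import Cfsg.Agent.Lib.helper7.R1.Link
import Cfsg.Agent.Lib.helper7.Rob1
import Cfsg.Agent.Lib.Helper25.CharLinear

set_option autoImplicit false
set_option linter.unusedVariables false
set_option linter.unusedSectionVars false
set_option linter.style.haveILetI false

namespace Cfsg.Agent.Lib.helper7.BD

open Cfsg.Agent.Lib.helper7 Cfsg.Agent.Lib.helper7.Br Cfsg.Agent.Lib.helper7.R1
open scoped ComplexConjugate

universe u v w

section E2
variable {G : Type u} [Group G] [Fintype G] {M : Ideal Cfsg.AlgInt}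

/-- the sum of the coefficients of the idempotent of a set of characters containing the trivial one -/
theorem bdaug_sum_blockCoeff (B : Set (Cfsg.IrrCharacter G))
    (h1 : Cfsg.Agent.Lib.Helper25.trivIrr G ∈ B) : ∑ g : G, Cfsg.blockCoeff B g = 1 := by
  classical
  haveI : Fintype (Cfsg.IrrCharacter G) := Fintype.ofFinite _
  have hstep : ∀ g : G, Cfsg.blockCoeff B g =
      h7_coef (fun χ : Cfsg.IrrCharacter G => if χ ∈ B then (1 : ℂ) else 0) g :=
    fun g => (h7_coef_indicator B g).symm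
  simp only [hstep]
  unfold h7_coef
  rw [← Finset.mul_sum, Finset.sum_comm]
  have hinner : ∀ χ : Cfsg.IrrCharacter G,
      ∑ g : G, (if χ ∈ B then (1 : ℂ) else 0) * ((χ : G → ℂ) 1 * conj ((χ : G → ℂ) g)) =
        (if χ ∈ B then (1 : ℂ) else 0) * ((χ : G → ℂ) 1 *
          ((Nat.card G : ℂ) * (if Cfsg.Agent.Lib.Helper25.trivIrr G = χ then 1 else 0))) := by
    intro χ
    rw [← Finset.mul_sum, ← Finset.mul_sum]
    congr 2
    have h := Cfsg.Agent.Lib.Helper25.irr_classInner (Cfsg.Agent.Lib.Helper25.trivIrr G) χ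
    unfold Cfsg.classInner at h
    have hne : (Nat.card G : ℂ) ≠ 0 := by
      have : 0 < Nat.card G := Nat.card_pos
      exact_mod_cast this.ne'
    have h2 : ∑ g : G, conj ((χ : G → ℂ) g) =
        ∑ g : G, ((Cfsg.Agent.Lib.Helper25.trivIrr G : Cfsg.IrrCharacter G) : G → ℂ) g *
          conj ((χ : G → ℂ) g) := by
      refine Finset.sum_congr rfl fun g _ => ?_
      rw [Cfsg.Agent.Lib.Helper25.trivIrr_apply, one_mul]
    rw [h2, ← h]
    field_simp
  simp only [hinner]
  have hne : (Nat.card G : ℂ) ≠ 0 := by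
    have : 0 < Nat.card G := Nat.card_pos
    exact_mod_cast this.ne'
  rw [Finset.sum_eq_single (Cfsg.Agent.Lib.Helper25.trivIrr G)]
  · rw [if_pos h1, if_pos rfl, Cfsg.Agent.Lib.Helper25.trivIrr_apply]
    field_simp
  · intro χ _ hχ
    rw [if_neg (Ne.symm hχ)]
    ring
  · intro h
    exact absurd (Finset.mem_univ _) h

/-- AUG : the augmentation of the principal block idempotent is `1` -/
theorem sum_eBar_principal {p : ℕ} [Fact p.Prime] (hM : Cfsg.IsPModular p M) :
    ∑ g : G, eBar hM.2.1.isPrime (Cfsg.principalBlock M G) g = 1 := by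
  classical
  haveI : Fintype (Cfsg.IrrCharacter G) := Fintype.ofFinite _
  have hPr := hM.2.1.isPrime
  have hB : Cfsg.IsPBlock M (Cfsg.principalBlock M G) :=
    ⟨Cfsg.Agent.Lib.Helper25.trivIrr G, rfl⟩
  have h1 : Cfsg.Agent.Lib.Helper25.trivIrr G ∈ Cfsg.principalBlock M G :=
    h7_sameBlock_refl hPr _
  simp only [eBar_apply]
  rw [← h7_res_sum hPr _ _ (fun g _ => blockCoeff_mem hPr _ hB g), bdaug_sum_blockCoeff _ h1,
    h7_res_one]

end E2

end Cfsg.Agent.Lib.helper7.BD
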