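import Mathlib
import Cfsg.Agent.Lib.helper7.BD.Defs

set_option autoImplicit false
set_option linter.unusedVariables false
set_option linter.unusedSectionVars false
set_option linter.style.haveILetI false

namespace Cfsg.Agent.Lib.helper7.BD

universe u v w

section E1
variable {F : Type*} [Field F] {G : Type u} [Group G] [Fintype G]

/-- LIN : one-dimensional representations -/
theorem linRep_irreducible {H : Type u} [Group H] (μ : H →* Fˣ) : (linRep (F := F) μ).IsIrreducible := by
  refine { exists_pair_ne := ⟨⊥, ⊤, ?_⟩, eq_bot_or_eq_top := ?_ }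
  · intro h
    have h2 := congrArg Subrepresentation.toSubmodule h
    have h3 : (⊥ : Submodule F F) = ⊤ := h2
    exact bot_ne_top h3
  · intro σ
    rcases Ideal.eq_bot_or_top (σ.toSubmodule : Ideal F) with h | h
    · left
      exact Subrepresentation.toSubmodule_injective h
    · right
      exact Subrepresentation.toSubmodule_injective h

/-- LIN -/
theorem linRep_eq_of_iso {H : Type u} [Group H] (μ ν : H →* Fˣ)
    (h : IsIso (linRep (F := F) μ) (linRep (F := F) ν)) : μ = ν := by
  obtain ⟨e, he⟩ := h
  have he1 : e 1 ≠ 0 := by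
    intro h0
    have : (1 : F) = 0 := e.injective (by rw [h0, map_zero])
    exact one_ne_zero this
  ext g
  have h1 := LinearMap.congr_fun (he g) 1
  simp only [LinearMap.comp_apply, LinearEquiv.coe_coe, linRep_apply, mul_one] at h1
  have h2 : e ((μ g : Fˣ) : F) = ((μ g : Fˣ) : F) * e 1 := by
    have : ((μ g : Fˣ) : F) = ((μ g : Fˣ) : F) • (1 : F) := by rw [smul_eq_mul, mul_one]
    conv_lhs => rw [this]
    rw [map_smul, smul_eq_mul]
  rw [h2] at h1
  exact mul_right_cancel₀ he1 h1

end E1

end Cfsg.Agent.Lib.helper7.BD
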