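import Mathlib
import Cfsg.Agent.Lib.helper7.BD.Defs
import Cfsg.Agent.Lib.helper7.R1.Link
import Cfsg.Agent.Lib.helper7.Rob1
import Cfsg.Agent.Lib.Helper25.CharLinear

set_option autoImplicit false
set_option linter.unusedVariables false
set_option linter.unusedSectionVars false
set_option linter.style.haveILetI false

namespace Cfsg.Agent.Lib.helper7.BD

open Cfsg.Agent.Lib.helper7 Cfsg.Agent.Lib.helper7.Br Cfsg.Agent.Lib.helper7.R1

universe u v w

section act

variable {K : Type*} [Field K] {G : Type*} [Group G] [Fintype G]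
  {V : Type*} [AddCommGroup V] [Module K V]

/-- the action of the group algebra on a representation space -/
noncomputable def bdlinkb_act (ρ : Representation K G V) : GA K G →ₗ[K] (V →ₗ[K] V) where
  toFun a := ∑ g : G, a g • ρ g
  map_add' a b := by
    simp only [GA.add_apply, add_smul, Finset.sum_add_distrib]
  map_smul' c a := by
    simp only [GA.smul_apply, mul_smul, Finset.smul_sum, RingHom.id_apply]

theorem bdlinkb_act_apply (ρ : Representation K G V) (a : GA K G) :
    bdlinkb_act ρ a = ∑ g : G, a g • ρ g := rfl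

theorem bdlinkb_act_mul (ρ : Representation K G V) (a b : GA K G) :
    bdlinkb_act ρ (a * b) = bdlinkb_act ρ a * bdlinkb_act ρ b := by
  rw [bdlinkb_act_apply, bdlinkb_act_apply, bdlinkb_act_apply, Finset.sum_mul]
  simp only [GA.mul_apply, Finset.sum_smul, Finset.mul_sum]
  rw [Finset.sum_comm]
  refine Finset.sum_congr rfl fun h _ => ?_
  refine Fintype.sum_equiv (Equiv.mulLeft h⁻¹) _ _ fun g => ?_
  rw [Equiv.coe_mulLeft, smul_mul_smul_comm, ← map_mul, mul_inv_cancel_left]

theorem bdlinkb_act_gof (ρ : Representation K G V) (g : G) :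
    bdlinkb_act ρ (gof K g) = ρ g := by
  classical
  rw [bdlinkb_act_apply, Finset.sum_eq_single g]
  · rw [gof_self, one_smul]
  · intro h _ hh
    rw [gof_apply, if_neg hh, zero_smul]
  · intro h
    exact absurd (Finset.mem_univ g) h

theorem bdlinkb_act_pow (ρ : Representation K G V) (a : GA K G) (n : ℕ) :
    bdlinkb_act ρ (a ^ (n + 1)) = (bdlinkb_act ρ a) ^ (n + 1) := by
  induction n with
  | zero => simp
  | succ n ih => rw [pow_succ, bdlinkb_act_mul, ih, ← pow_succ]

end act

section E2
variable {G : Type u} [Group G] [Fintype G] {M : Ideal Cfsg.AlgInt}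

/-- LINKB : linearly independent traces of simple modules belonging to the block `B` -/
theorem card_le_blockRank {p : ℕ} [Fact p.Prime] (hM : Cfsg.IsPModular p M)
    (B : Set (Cfsg.IrrCharacter G)) (hB : Cfsg.IsPBlock M B) {m : ℕ} (V : Fin m → Type v)
    [∀ i, AddCommGroup (V i)] [∀ i, Module (h7_resRing M hM.2.1.isPrime) (V i)]
    [∀ i, FiniteDimensional (h7_resRing M hM.2.1.isPrime) (V i)]
    (ρ : ∀ i, Representation (h7_resRing M hM.2.1.isPrime) G (V i))
    (hindep : LinearIndependent (h7_resRing M hM.2.1.isPrime)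
      (fun i => (fun g : G => LinearMap.trace (h7_resRing M hM.2.1.isPrime) (V i) (ρ i g))))
    (hblock : ∀ i, ∑ g : G, eBar hM.2.1.isPrime B g • ρ i g = LinearMap.id) :
    m ≤ Cfsg.blockRank p B := by
  classical
  have hPr := hM.2.1.isPrime
  set S := Submodule.span (h7_resRing M hM.2.1.isPrime)
    ((fun χ : Cfsg.IrrCharacter G => redFun hM.2.1.isPrime (χ : G → ℂ)) '' B) with hS
  have hmem : ∀ i, (fun g : G => LinearMap.trace (h7_resRing M hM.2.1.isPrime) (V i) (ρ i g)) ∈ S := by
    intro i
    set τ : BlockAlg hM.2.1.isPrime B hB →ₗ[h7_resRing M hM.2.1.isPrime]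
        h7_resRing M hM.2.1.isPrime :=
      LinearMap.trace (h7_resRing M hM.2.1.isPrime) (V i) ∘ₗ bdlinkb_act (ρ i) ∘ₗ
        cvalLin (F := h7_resRing M hM.2.1.isPrime) (eBar_idem hM.2.1.isPrime B hB) with hτ
    have hτapp : ∀ a, τ a = LinearMap.trace (h7_resRing M hM.2.1.isPrime) (V i)
        (bdlinkb_act (ρ i) (cval (eBar_idem hM.2.1.isPrime B hB) a)) := fun a => rfl
    have hτc : ∀ a b, τ (a * b) = τ (b * a) := by
      intro a b
      rw [hτapp, hτapp, cval_mul, cval_mul, bdlinkb_act_mul, bdlinkb_act_mul,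
        LinearMap.trace_mul_comm]
    have hτn : ∀ a, IsNilpotent a → τ a = 0 := by
      intro a ha
      obtain ⟨n, hn⟩ := ha
      have hn1 : a ^ (n + 1) = 0 := by rw [pow_succ, hn, zero_mul]
      have h1 : (bdlinkb_act (ρ i) (cval (eBar_idem hM.2.1.isPrime B hB) a)) ^ (n + 1) = 0 := by
        rw [← bdlinkb_act_pow, ← cval_pow, hn1, cval_zero, map_zero]
      have h2 : IsNilpotent (bdlinkb_act (ρ i) (cval (eBar_idem hM.2.1.isPrime B hB) a)) :=
        ⟨n + 1, h1⟩
      rw [hτapp]
      exact (LinearMap.isNilpotent_trace_of_isNilpotent h2).eq_zero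
    have key := trace_fnl_mem_span hM B hB τ hτc hτn
    have hfun : (fun g : G => τ (toBlock hM.2.1.isPrime B hB (gof _ g))) =
        (fun g : G => LinearMap.trace (h7_resRing M hM.2.1.isPrime) (V i) (ρ i g)) := by
      funext g
      rw [hτapp, cval_toBlock, bdlinkb_act_mul, bdlinkb_act_gof]
      have : bdlinkb_act (ρ i) (eBar hM.2.1.isPrime B) = 1 := by
        rw [bdlinkb_act_apply]
        exact hblock i
      rw [this, one_mul]
    rw [hfun] at key
    exact key
  have hli : LinearIndependent (h7_resRing M hM.2.1.isPrime)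
      (fun i => (⟨_, hmem i⟩ : S)) := by
    apply LinearIndependent.of_comp S.subtype
    exact hindep
  have h1 := hli.fintype_card_le_finrank
  rw [Fintype.card_fin] at h1
  exact le_trans h1 (Cfsg.Agent.Lib.helper15.R1.finrank_span_red_le hM B)

end E2

end Cfsg.Agent.Lib.helper7.BD
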