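import Mathlib
import Cfsg.Agent.Lib.helper15.PSL.Defs
import Cfsg.Agent.Lib.Helper25.CharOrth
import Cfsg.Agent.Lib.Helper25.BHE1
import Cfsg.Agent.Lib.helper2.CharNat
import Cfsg.Agent.Lib.helper2.BergerG1
import Cfsg.Agent.Lib.helper7.CharMul
import Cfsg.Agent.Lib.Helper10.PSLYSQcore

/-!
# Project PSL, piece A1, core (helper10): in case A the members of `Y` have the same absolute values
as `χ` (with the statement of DECOMP as a hypothesis)
-/

set_option autoImplicit false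
set_option linter.unusedVariables false
set_option linter.unusedSectionVars false
open scoped ComplexConjugate
open Classical

namespace Cfsg.Agent.Lib.helper15.PSL

open Cfsg.Agent.Lib.helper7 Cfsg.Agent.Lib.helper7.BR Cfsg.Agent.Lib.helper2 Cfsg.Agent.Lib.Helper25
  Cfsg.Agent.Lib.Helper29 Cfsg.Agent.Lib.helper15.BH

universe u

variable {G : Type u} [Group G] [Fintype G] {p : ℕ} [Fact p.Prime]

/-- a nontrivial element of `P` -/
theorem psla1_exists_ne {P : Sylow p G} (hP : Nat.card ↥(P : Subgroup G) = p) :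
    ∃ x : ↥(P : Subgroup G), (x : G) ≠ 1 := by
  have hp : p.Prime := Fact.out
  have : Nontrivial ↥(P : Subgroup G) := by
    rw [← Finite.one_lt_card_iff_nontrivial, hP]
    exact hp.one_lt
  obtain ⟨x, hx⟩ := exists_ne (1 : ↥(P : Subgroup G))
  exact ⟨x, fun e => hx (Subtype.ext e)⟩

/-- the principal character has sign `+ 1` -/
theorem psla1_triv_mem {f : ℕ} {P : Sylow p G} {X Y : Finset (Cfsg.IrrCharacter G)}
    {a : Cfsg.IrrCharacter G → ℤ} {ε : ℤ} (hP : Nat.card ↥(P : Subgroup G) = p)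
    (hB : PB0 p f (P : Subgroup G) X Y a ε) : trivIrr G ∈ Xp X a := by
  obtain ⟨x, hx⟩ := psla1_exists_ne hP
  have hxs := pslysq_sing hP x hx
  have h := hB.valX (trivIrr G) hB.triv_mem (x : G) hxs
  rw [trivIrr_apply] at h
  unfold Xp
  rw [Finset.mem_filter]
  refine ⟨hB.triv_mem, ?_⟩
  exact_mod_cast h.symm

/-- the degrees of the members of `Xp` add up to `1 + (|Xp| - 1)(p + 1)` -/
theorem psla1_deg_sum {f : ℕ} {P : Sylow p G} {X Y : Finset (Cfsg.IrrCharacter G)}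
    {a : Cfsg.IrrCharacter G → ℤ} {ε : ℤ} {D : ℕ} (hP : Nat.card ↥(P : Subgroup G) = p)
    (hB : PB p f (P : Subgroup G) X Y a ε D) :
    ((∑ ξ ∈ Xp X a, leoDeg ξ : ℕ) : ℂ) = 1 + (((Xp X a).card : ℂ) - 1) * ((p : ℂ) + 1) := by
  have htm := psla1_triv_mem hP hB.toPB0
  rw [Nat.cast_sum, ← Finset.add_sum_erase _ _ htm]
  have h1 : (leoDeg (trivIrr G) : ℂ) = 1 := by
    rw [← leoDeg_spec, trivIrr_apply]
  rw [h1]
  congr 1
  have h2 : ∀ ξ ∈ (Xp X a).erase (trivIrr G), (leoDeg ξ : ℂ) = (p : ℂ) + 1 := by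
    intro ξ hξ
    rw [Finset.mem_erase] at hξ
    have hξX : ξ ∈ X ∧ a ξ = 1 := by
      have := hξ.2
      unfold Xp at this
      rwa [Finset.mem_filter] at this
    rw [← leoDeg_spec]
    exact hB.deg_plus ξ hξX.1 hξX.2 hξ.1
  rw [Finset.sum_congr rfl h2, Finset.sum_const, nsmul_eq_mul, Finset.card_erase_of_mem htm,
    Nat.cast_sub (Finset.card_pos.mpr ⟨_, htm⟩)]
  simp

/-- A1, core -/
theorem psla1_core {f : ℕ} {P : Sylow p G} {X Y : Finset (Cfsg.IrrCharacter G)}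
    {a : Cfsg.IrrCharacter G → ℤ} {ε : ℤ} {D : ℕ} {χ : Cfsg.IrrCharacter G} (hL : Loc p f P)
    (hB : PB p f (P : Subgroup G) X Y a ε D) (hA : CaseA f χ X a ε D)
    (hdec : ∀ {Ψ : G → ℂ}, Cfsg.IsCharacter G Ψ → ∀ (S : Finset (Cfsg.IrrCharacter G)),
      (∀ ξ ∈ S, Cfsg.classInner Ψ (ξ : G → ℂ) ≠ 0) → ∀ (d : ℕ), Ψ 1 = (d : ℂ) →
      ∑ ξ ∈ S, leoDeg ξ = d → ∀ g : G, Ψ g = ∑ ξ ∈ S, (ξ : G → ℂ) g)
    (η : Cfsg.IrrCharacter G) (hη : η ∈ Y) (g : G) :
    (η : G → ℂ) g * conj ((η : G → ℂ) g) = (χ : G → ℂ) g * conj ((χ : G → ℂ) g) := by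
  obtain ⟨η', hη', hne, hY⟩ := pslysq_pair hB.toPB0 η hη
  have hreg : ∀ g : G, ¬ p ∣ orderOf g → (η' : G → ℂ) g = (η : G → ℂ) g :=
    fun g hg => hB.agree η' hη' η hη g hg
  have hΨ : Cfsg.IsCharacter G (fun g => (η : G → ℂ) g * conj ((η : G → ℂ) g)) :=
    h7_isCharacter_mul (isCharacter_of_irr η) (bg_isCharacter_conj (isCharacter_of_irr η))
  have hΨ' : Cfsg.IsCharacter G (fun g => (η : G → ℂ) g * conj ((η' : G → ℂ) g)) :=
    h7_isCharacter_mul (isCharacter_of_irr η) (bg_isCharacter_conj (isCharacter_of_irr η'))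
  -- every member of `Xp` is a constituent
  have hS : ∀ ξ ∈ Xp X a, Cfsg.classInner (fun g => (η : G → ℂ) g * conj ((η : G → ℂ) g))
      (ξ : G → ℂ) ≠ 0 := by
    intro ξ hξ
    have hξX : ξ ∈ X ∧ a ξ = 1 := by
      unfold Xp at hξ
      rwa [Finset.mem_filter] at hξ
    have h1 := inner_diff_of_const_sing p η η' hne hreg (ξ : G → ℂ) ((a ξ : ℤ) : ℂ)
      (fun g hg => hB.valX ξ hξX.1 g hg)
    rw [hξX.2] at h1
    obtain ⟨m1, hm1⟩ := classInner_character_nat hΨ (isCharacter_of_irr ξ)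
    obtain ⟨m2, hm2⟩ := classInner_character_nat hΨ' (isCharacter_of_irr ξ)
    rw [hm1, hm2] at h1
    rw [hm1]
    intro h0
    have h0' : m1 = 0 := by exact_mod_cast h0
    rw [h0'] at h1
    have h2 : ((0 : ℕ) : ℂ) - (m2 : ℂ) = 1 := by
      rw [h1]; simp
    have h3 : ((m2 + 1 : ℕ) : ℂ) = ((0 : ℕ) : ℂ) := by
      push_cast
      linear_combination -h2
    have h4 : m2 + 1 = 0 := by exact_mod_cast h3
    omega
  -- degrees
  have hpf : (p : ℂ) = 2 * (f : ℂ) + 1 := by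
    have := hL.two_f
    rw [← this]; push_cast; ring
  have hd : (fun g => (η : G → ℂ) g * conj ((η : G → ℂ) g)) 1 = ((f ^ 2 : ℕ) : ℂ) := by
    show (η : G → ℂ) 1 * conj ((η : G → ℂ) 1) = ((f ^ 2 : ℕ) : ℂ)
    rw [hB.degY η hη, hA.D_eq]
    simp only [Complex.conj_natCast]
    push_cast
    ring
  have hdeg : ∑ ξ ∈ Xp X a, leoDeg ξ = f ^ 2 := by
    have h1 := psla1_deg_sum hL.cardP hB
    have h2 : (((Xp X a).card : ℕ) : ℂ) = ((f : ℂ) + 1) / 2 := by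
      have := hA.cardXp
      have h3 : ((2 * (Xp X a).card : ℕ) : ℂ) = ((f + 1 : ℕ) : ℂ) := by rw [this]
      push_cast at h3
      linear_combination (1 / 2 : ℂ) * h3
    rw [h2, hpf] at h1
    have h4 : ((∑ ξ ∈ Xp X a, leoDeg ξ : ℕ) : ℂ) = ((f ^ 2 : ℕ) : ℂ) := by
      rw [h1]; push_cast; ring
    exact_mod_cast h4
  have := hdec hΨ (Xp X a) hS (f ^ 2) hd hdeg g
  rw [hA.W g]
  exact this

end Cfsg.Agent.Lib.helper15.PSL
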