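import Mathlib
import Cfsg.Agent.Lib.helper15.PSL.Defs
import Cfsg.Agent.Lib.Helper10.PSLA1core
import Cfsg.Agent.Lib.Helper29.PSLDECOMP

/-!
# Project PSL (S4504), piece A1 (wrapper of `psla1_core` with DECOMP)
-/

set_option autoImplicit false
set_option linter.unusedVariables false
set_option linter.unusedSectionVars false
open scoped ComplexConjugate
open Classical

namespace Cfsg.Agent.Lib.helper15.PSL

open Cfsg.Agent.Lib.helper7 Cfsg.Agent.Lib.helper7.BR Cfsg.Agent.Lib.helper2 Cfsg.Agent.Lib.Helper25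
  Cfsg.Agent.Lib.Helper29 Cfsg.Agent.Lib.helper15.BH

universe u

variable {G : Type u} [Group G] [Fintype G] {p : ℕ} [Fact p.Prime]

/-- A1 : in case A the members of `Y` have the same absolute values as `χ` -/
theorem caseA_abs {f : ℕ} {P : Sylow p G} {X Y : Finset (Cfsg.IrrCharacter G)}
    {a : Cfsg.IrrCharacter G → ℤ} {ε : ℤ} {D : ℕ} {χ : Cfsg.IrrCharacter G} (hL : Loc p f P)
    (hB : PB p f (P : Subgroup G) X Y a ε D) (hA : CaseA f χ X a ε D)
    (η : Cfsg.IrrCharacter G) (hη : η ∈ Y) (g : G) :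
    (η : G → ℂ) g * conj ((η : G → ℂ) g) = (χ : G → ℂ) g * conj ((χ : G → ℂ) g) :=
  psla1_core hL hB hA (fun hΨ S hS d hd hdeg => decomp_of_degree hΨ S hS d hd hdeg) η hη g

end Cfsg.Agent.Lib.helper15.PSL
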