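import Mathlib
import Cfsg.Agent.Lib.helper15.PSL.Defs
import Cfsg.Agent.Lib.Helper25.CharOrth
import Cfsg.Agent.Lib.Helper10.PSLYSQcore

/-!
# Project PSL, piece QY, core (helper10): `QGEN` for the two members of `Y`, with the statements of
QGEN and YSQ as hypotheses
-/

set_option autoImplicit false
set_option linter.unusedVariables false
set_option linter.unusedSectionVars false
open scoped ComplexConjugate
open Classical

namespace Cfsg.Agent.Lib.helper15.PSL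

open Cfsg.Agent.Lib.helper7 Cfsg.Agent.Lib.helper7.BR Cfsg.Agent.Lib.helper2 Cfsg.Agent.Lib.Helper25
  Cfsg.Agent.Lib.Helper29 Cfsg.Agent.Lib.helper15.BH

universe u

variable {G : Type u} [Group G] [Fintype G] {p : ℕ} [Fact p.Prime]

/-- QY, core -/
theorem pslqy_core {f : ℕ} {P : Sylow p G} {X Y : Finset (Cfsg.IrrCharacter G)}
    {a : Cfsg.IrrCharacter G → ℤ} {ε : ℤ} {D : ℕ} (hL : Loc p f P)
    (hB : PB p f (P : Subgroup G) X Y a ε D)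
    (hq : ∀ (η₁ η₂ : Cfsg.IrrCharacter G) (ε' : ℂ), (ε' = 1 ∨ ε' = -1) →
      (∀ x ∈ (P : Subgroup G), x ≠ 1 → (η₁ : G → ℂ) x + (η₂ : G → ℂ) x = -ε') →
      (∑ x : ↥(P : Subgroup G), (if (x : G) = 1 then 0 else (η₁ : G → ℂ) (x : G)) = -ε' * (f : ℂ)) →
      (∑ x : ↥(P : Subgroup G),
          (if (x : G) = 1 then 0 else (η₁ : G → ℂ) (x : G) * conj ((η₁ : G → ℂ) (x : G))) =
        (f : ℂ) * ((f : ℂ) + 1)) →
      ∀ (a₀ b : G), a₀ ∈ (P : Subgroup G) → a₀ ≠ 1 → b ∈ (P : Subgroup G) → b ≠ 1 →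
        (η₁ : G → ℂ) a₀ * (η₁ : G → ℂ) b + (η₂ : G → ℂ) a₀ * (η₂ : G → ℂ) b =
          if IsConj a₀⁻¹ b then (f : ℂ) + 1 else -(f : ℂ))
    (hysq : ∀ η ∈ Y, ∑ x : ↥(P : Subgroup G),
        (if (x : G) = 1 then 0 else (η : G → ℂ) (x : G) * conj ((η : G → ℂ) (x : G))) =
      (f : ℂ) * ((f : ℂ) + 1))
    (a₀ b : G) (ha₀ : a₀ ∈ (P : Subgroup G)) (ha₀1 : a₀ ≠ 1) (hb : b ∈ (P : Subgroup G)) (hb1 : b ≠ 1) :
    ∑ η ∈ Y, (η : G → ℂ) a₀ * (η : G → ℂ) b =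
      if IsConj a₀⁻¹ b then (f : ℂ) + 1 else -(f : ℂ) := by
  -- the two members of `Y`
  have hne0 : Y.Nonempty := by
    rw [← Finset.card_pos, hB.cardY]; norm_num
  obtain ⟨η₁, hη₁⟩ := hne0
  obtain ⟨η₂, hη₂, hne, hY⟩ := pslysq_pair hB.toPB0 η₁ hη₁
  have hε : ((ε : ℂ) = 1 ∨ (ε : ℂ) = -1) := by
    rcases hB.eps_pm with h | h
    · left; rw [h]; norm_num
    · right; rw [h]; norm_num
  have hsum : ∀ x ∈ (P : Subgroup G), x ≠ 1 → (η₁ : G → ℂ) x + (η₂ : G → ℂ) x = -(ε : ℂ) := by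
    intro x hx hx1
    have hxs := pslysq_sing hL.cardP ⟨x, hx⟩ hx1
    have := hB.sumY x hxs
    rw [hY, Finset.sum_pair hne.symm] at this
    exact this
  have h := hq η₁ η₂ (ε : ℂ) hε hsum (pslysq_sumP1 hB.toPB0 η₁ hη₁) (hysq η₁ hη₁) a₀ b ha₀ ha₀1 hb hb1
  rw [hY, Finset.sum_pair hne.symm]
  exact h

end Cfsg.Agent.Lib.helper15.PSL
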