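import Mathlib
import Cfsg.Agent.Lib.helper15.PSL.Defs
import Cfsg.Agent.Lib.Helper10.PSLYSQcore
import Cfsg.Agent.Lib.Helper16.PSLSINGSUM2
import Cfsg.Agent.Lib.Helper28.PSLCARDG

/-!
# Project PSL (S4504), piece YSQ (wrapper of `pslysq_core` with SINGSUM2 and CARDG)
-/

set_option autoImplicit false
set_option linter.unusedVariables false
set_option linter.unusedSectionVars false
open scoped ComplexConjugate
open Classical

namespace Cfsg.Agent.Lib.helper15.PSL

open Cfsg.Agent.Lib.helper7 Cfsg.Agent.Lib.helper7.BR Cfsg.Agent.Lib.helper2 Cfsg.Agent.Lib.Helper25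
  Cfsg.Agent.Lib.Helper29 Cfsg.Agent.Lib.helper15.BH

universe u

variable {G : Type u} [Group G] [Fintype G] {p : ℕ} [Fact p.Prime]

/-- YSQ : the square sum over `P ∖ 1` of a member of `Y` -/
theorem Y_sq_sum {f : ℕ} {P : Sylow p G} {X Y : Finset (Cfsg.IrrCharacter G)}
    {a : Cfsg.IrrCharacter G → ℤ} {ε : ℤ} {D : ℕ} (hL : Loc p f P)
    (hB : PB p f (P : Subgroup G) X Y a ε D) (η : Cfsg.IrrCharacter G) (hη : η ∈ Y) :
    ∑ x : ↥(P : Subgroup G),
        (if (x : G) = 1 then 0 else (η : G → ℂ) (x : G) * conj ((η : G → ℂ) (x : G))) =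
      (f : ℂ) * ((f : ℂ) + 1) :=
  pslysq_core hL hB (fun F hF => sing_sum_loc hL F hF) (card_G hL) η hη

end Cfsg.Agent.Lib.helper15.PSL
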