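import Mathlib
import Cfsg.Agent.Lib.helper15.PSL.Defs
import Cfsg.Agent.Lib.Helper10.PSLQYcore
import Cfsg.Agent.Lib.Helper10.PSLYSQ
import Cfsg.Agent.Lib.Helper20.PSLQGEN

/-!
# Project PSL (S4504), piece QY (wrapper of `pslqy_core` with QGEN and YSQ)
-/

set_option autoImplicit false
set_option linter.unusedVariables false
set_option linter.unusedSectionVars false
open scoped ComplexConjugate
open Classical

namespace Cfsg.Agent.Lib.helper15.PSL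

open Cfsg.Agent.Lib.helper7 Cfsg.Agent.Lib.helper7.BR Cfsg.Agent.Lib.helper2 Cfsg.Agent.Lib.Helper25
  Cfsg.Agent.Lib.Helper29 Cfsg.Agent.Lib.helper15.BH

universe u

variable {G : Type u} [Group G] [Fintype G] {p : ℕ} [Fact p.Prime]

/-- QY : `QGEN` for the two members of `Y` -/
theorem Q_Y {f : ℕ} {P : Sylow p G} {X Y : Finset (Cfsg.IrrCharacter G)}
    {a : Cfsg.IrrCharacter G → ℤ} {ε : ℤ} {D : ℕ} (hL : Loc p f P)
    (hB : PB p f (P : Subgroup G) X Y a ε D)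
    (a₀ b : G) (ha₀ : a₀ ∈ (P : Subgroup G)) (ha₀1 : a₀ ≠ 1) (hb : b ∈ (P : Subgroup G)) (hb1 : b ≠ 1) :
    ∑ η ∈ Y, (η : G → ℂ) a₀ * (η : G → ℂ) b =
      if IsConj a₀⁻¹ b then (f : ℂ) + 1 else -(f : ℂ) :=
  pslqy_core hL hB
    (fun η₁ η₂ ε' hε hsum hP1 hsq a₀ b h1 h2 h3 h4 => Q_gen hL η₁ η₂ ε' hε hsum hP1 hsq a₀ b h1 h2 h3 h4)
    (fun η hη => Y_sq_sum hL hB η hη) a₀ b ha₀ ha₀1 hb hb1

end Cfsg.Agent.Lib.helper15.PSL
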