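import Mathlib
import Cfsg.Agent.Lib.helper15.PSL.Defs
import Cfsg.Agent.Lib.Helper25.CharOrth
import Cfsg.Agent.Lib.Helper10.PSLYSQcore
import Cfsg.Agent.Lib.Helper10.PSLA1core

/-!
# Project PSL, piece UA, core (helper10): the `X`-part in case A (with the statement of A1 as a
hypothesis)
-/

set_option autoImplicit false
set_option linter.unusedVariables false
set_option linter.unusedSectionVars false
open scoped ComplexConjugate
open Classical

namespace Cfsg.Agent.Lib.helper15.PSL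

open Cfsg.Agent.Lib.helper7 Cfsg.Agent.Lib.helper7.BR Cfsg.Agent.Lib.helper2 Cfsg.Agent.Lib.Helper25
  Cfsg.Agent.Lib.Helper29 Cfsg.Agent.Lib.helper15.BH

universe u

variable {G : Type u} [Group G] [Fintype G] {p : ℕ} [Fact p.Prime]

/-- `X` is the disjoint union of `Xp` and `Xm` -/
theorem pslua_split {f : ℕ} {P : Subgroup G} {X Y : Finset (Cfsg.IrrCharacter G)}
    {a : Cfsg.IrrCharacter G → ℤ} {ε : ℤ} (hB : PB0 p f P X Y a ε) (F : Cfsg.IrrCharacter G → ℂ) :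
    ∑ ξ ∈ X, F ξ = ∑ ξ ∈ Xp X a, F ξ + ∑ ξ ∈ Xm X a, F ξ := by
  unfold Xp Xm
  rw [← Finset.sum_filter_add_sum_filter_not X (fun ξ => a ξ = 1)]
  congr 1
  apply Finset.sum_congr _ (fun _ _ => rfl)
  ext ξ
  simp only [Finset.mem_filter]
  constructor
  · rintro ⟨hX, h1⟩
    refine ⟨hX, ?_⟩
    rcases hB.a_pm ξ hX with h | h
    · exact absurd h h1
    · exact h
  · rintro ⟨hX, h1⟩
    refine ⟨hX, ?_⟩
    rw [h1]; norm_num

/-- UA, core -/
theorem pslua_core {f : ℕ} {P : Sylow p G} {X Y : Finset (Cfsg.IrrCharacter G)}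
    {a : Cfsg.IrrCharacter G → ℤ} {ε : ℤ} {D : ℕ} {χ : Cfsg.IrrCharacter G} (hL : Loc p f P)
    (hB : PB p f (P : Subgroup G) X Y a ε D) (hA : CaseA f χ X a ε D)
    (ha1 : ∀ η ∈ Y, ∀ g : G,
      (η : G → ℂ) g * conj ((η : G → ℂ) g) = (χ : G → ℂ) g * conj ((χ : G → ℂ) g))
    (z : G) (hz : ¬ p ∣ orderOf z) (y : ℂ) (hy : ∀ η ∈ Y, (η : G → ℂ) z = y) :
    Upart X z = 1 + (y * conj y - 1) / ((p : ℂ) + 1) + (y * conj y - conj y) / ((p : ℂ) - 1) := by
  have hp : p.Prime := Fact.out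
  have hne0 : Y.Nonempty := by
    rw [← Finset.card_pos, hB.cardY]; norm_num
  obtain ⟨η, hη⟩ := hne0
  have hyz := hy η hη
  -- the sum over `Xp`
  have hXp : ∑ ξ ∈ Xp X a, (ξ : G → ℂ) z = y * conj y := by
    rw [← hA.W z, ← ha1 η hη z, hyz]
  -- the sum over `Xm`
  have hXm : ∑ ξ ∈ Xm X a, (ξ : G → ℂ) z = y * conj y - y := by
    have h := hB.rel η hη z hz
    rw [hA.eps, hyz, pslua_split hB.toPB0] at h
    have h1 : ∑ ξ ∈ Xp X a, ((a ξ : ℤ) : ℂ) * (ξ : G → ℂ) z = ∑ ξ ∈ Xp X a, (ξ : G → ℂ) z := by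
      apply Finset.sum_congr rfl
      intro ξ hξ
      unfold Xp at hξ
      rw [Finset.mem_filter] at hξ
      rw [hξ.2]; norm_num
    have h2 : ∑ ξ ∈ Xm X a, ((a ξ : ℤ) : ℂ) * (ξ : G → ℂ) z = -∑ ξ ∈ Xm X a, (ξ : G → ℂ) z := by
      rw [← Finset.sum_neg_distrib]
      apply Finset.sum_congr rfl
      intro ξ hξ
      unfold Xm at hξ
      rw [Finset.mem_filter] at hξ
      rw [hξ.2]; norm_num
    rw [h1, h2, hXp] at h
    push_cast at h
    linear_combination h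
  have htm := psla1_triv_mem hL.cardP hB.toPB0
  have hp1 : (p : ℂ) + 1 ≠ 0 := by
    have : ((p + 1 : ℕ) : ℂ) ≠ 0 := by exact_mod_cast (Nat.succ_ne_zero p)
    simpa using this
  have hpm1 : (p : ℂ) - 1 ≠ 0 := by
    have h2 : (1 : ℕ) < p := hp.one_lt
    have : ((p - 1 : ℕ) : ℂ) ≠ 0 := by
      have : p - 1 ≠ 0 := by omega
      exact_mod_cast this
    rw [Nat.cast_sub hp.one_le] at this
    simpa using this
  unfold Upart
  rw [pslua_split hB.toPB0, ← Finset.add_sum_erase _ _ htm]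
  -- the principal character
  have e0 : conj ((trivIrr G : G → ℂ) z) / (trivIrr G : G → ℂ) 1 = 1 := by
    rw [trivIrr_apply, trivIrr_apply]; simp
  -- the other members of `Xp`
  have e1 : ∑ ξ ∈ (Xp X a).erase (trivIrr G), conj ((ξ : G → ℂ) z) / (ξ : G → ℂ) 1 =
      (y * conj y - 1) / ((p : ℂ) + 1) := by
    have h2 : ∀ ξ ∈ (Xp X a).erase (trivIrr G), conj ((ξ : G → ℂ) z) / (ξ : G → ℂ) 1 =
        conj ((ξ : G → ℂ) z) / ((p : ℂ) + 1) := by
      intro ξ hξ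
      rw [Finset.mem_erase] at hξ
      have hξX : ξ ∈ X ∧ a ξ = 1 := by
        have := hξ.2
        unfold Xp at this
        rwa [Finset.mem_filter] at this
      rw [hB.deg_plus ξ hξX.1 hξX.2 hξ.1]
    rw [Finset.sum_congr rfl h2, ← Finset.sum_div, ← map_sum]
    have h3 : ∑ ξ ∈ (Xp X a).erase (trivIrr G), (ξ : G → ℂ) z = y * conj y - 1 := by
      have := Finset.add_sum_erase (Xp X a) (fun ξ => (ξ : G → ℂ) z) htm
      rw [hXp, trivIrr_apply] at this
      linear_combination this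
    rw [h3]
    congr 1
    simp only [map_sub, map_mul, Complex.conj_conj, map_one]
    ring
  -- the members of `Xm`
  have e2 : ∑ ξ ∈ Xm X a, conj ((ξ : G → ℂ) z) / (ξ : G → ℂ) 1 =
      (y * conj y - conj y) / ((p : ℂ) - 1) := by
    have h2 : ∀ ξ ∈ Xm X a, conj ((ξ : G → ℂ) z) / (ξ : G → ℂ) 1 =
        conj ((ξ : G → ℂ) z) / ((p : ℂ) - 1) := by
      intro ξ hξ
      unfold Xm at hξ
      rw [Finset.mem_filter] at hξ
      rw [hB.deg_minus ξ hξ.1 hξ.2]
    rw [Finset.sum_congr rfl h2, ← Finset.sum_div, ← map_sum, hXm]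
    congr 1
    simp only [map_sub, map_mul, Complex.conj_conj]
    ring
  rw [e0, e1, e2]

end Cfsg.Agent.Lib.helper15.PSL
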