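import Mathlib
import Cfsg.Agent.Lib.helper15.PSL.Defs

/-!
# Project PSL (S4504), piece L0 : the number of Sylow subgroups of a normal subgroup `K ≥ P` (Frattini)
-/

set_option autoImplicit false
set_option linter.unusedVariables false
set_option linter.unusedSectionVars false
open scoped ComplexConjugate
open Classical

namespace Cfsg.Agent.Lib.helper15.PSL

open Cfsg.Agent.Lib.helper7 Cfsg.Agent.Lib.helper7.BR Cfsg.Agent.Lib.helper2 Cfsg.Agent.Lib.Helper25
  Cfsg.Agent.Lib.Helper29 Cfsg.Agent.Lib.helper15.BH

universe u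

variable {G : Type u} [Group G] [Fintype G] {p : ℕ} [Fact p.Prime]

/-- L0 : the number of Sylow subgroups of a normal subgroup `K ≥ P` (Frattini) -/
theorem index_nrm_subtype (K : Subgroup G) [K.Normal] (P : Sylow p G)
    (hPK : (P : Subgroup G) ≤ K) :
    (nrm P).index = (nrm (P.subtype hPK : Sylow p ↥K)).index := by
  have hsup : nrm P ⊔ K = ⊤ := Sylow.normalizer_sup_eq_top' P hPK
  have h1 : K.relIndex (nrm P) = K.index := by
    have := Subgroup.relIndex_sup_right (nrm P) K
    rw [hsup, Subgroup.relIndex_top_right] at this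
    exact this.symm
  have h2 : (nrm P).relIndex K * K.index = (nrm P ⊓ K).index := by
    have := Subgroup.relIndex_inf_mul_relIndex (nrm P) K ⊤
    simpa [Subgroup.relIndex_top_right] using this
  have h3 : K.relIndex (nrm P) * (nrm P).index = (K ⊓ nrm P).index := by
    have := Subgroup.relIndex_inf_mul_relIndex K (nrm P) ⊤
    simpa [Subgroup.relIndex_top_right] using this
  have hK0 : K.index ≠ 0 := Subgroup.index_ne_zero_of_finite
  have h4 : (nrm P).index = (nrm P).relIndex K := by
    rw [h1, inf_comm, ← h2, mul_comm] at h3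
    exact Nat.eq_of_mul_eq_mul_right (Nat.pos_of_ne_zero hK0) h3
  rw [h4]
  have h5 : (nrm P).subgroupOf K = nrm (P.subtype hPK : Sylow p ↥K) := by
    have := Subgroup.subgroupOf_normalizer_eq (H := (P : Subgroup G)) (N := K) hPK
    rw [show nrm (P.subtype hPK : Sylow p ↥K)
      = Subgroup.normalizer (((P : Subgroup G).subgroupOf K : Subgroup ↥K) : Set ↥K) from rfl]
    exact this
  rw [← h5]
  rfl

end Cfsg.Agent.Lib.helper15.PSL
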