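import Mathlib
import Cfsg.Agent.Lib.helper15.PSL.Defs

/-!
# Project PSL (S4504), piece L1 : a `p`-regular element of `C_G(P)` acts trivially on the `p + 1` Sylow subgroups
-/

set_option autoImplicit false
set_option linter.unusedVariables false
set_option linter.unusedSectionVars false
open scoped ComplexConjugate
open Classical

namespace Cfsg.Agent.Lib.helper15.PSL

open Cfsg.Agent.Lib.helper7 Cfsg.Agent.Lib.helper7.BR Cfsg.Agent.Lib.helper2 Cfsg.Agent.Lib.Helper25
  Cfsg.Agent.Lib.Helper29 Cfsg.Agent.Lib.helper15.BH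

universe u

variable {G : Type u} [Group G] [Fintype G] {p : ℕ} [Fact p.Prime]

/-- a non-trivial element of `P` (of order `p`) fixes no other Sylow subgroup -/
theorem psll1_stab (P : Sylow p G) (hP : Nat.card ↥(P : Subgroup G) = p)
    (x : G) (hx : x ∈ (P : Subgroup G)) (Q : Sylow p G) (hQ : Q ≠ P) (hxQ : x • Q = Q) : x = 1 := by
  have hpp : p.Prime := Fact.out
  by_contra hx1
  have hxo : orderOf x = p := by
    have h1 : orderOf x ∣ p := by
      have := Subgroup.orderOf_dvd_natCard (P : Subgroup G) hx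
      rwa [hP] at this
    rcases (Nat.dvd_prime hpp).mp h1 with h | h
    · exact absurd (orderOf_eq_one_iff.mp h) hx1
    · exact h
  have hZ : IsPGroup p (Subgroup.zpowers x) := by
    apply IsPGroup.of_card (n := 1)
    rw [Nat.card_zpowers, hxo, pow_one]
  have hle : Subgroup.zpowers x ≤ (Q : Subgroup G) := by
    rw [← hZ.sylow_mem_fixedPoints_iff]
    intro z
    obtain ⟨z, hz⟩ := z
    obtain ⟨m, rfl⟩ := Subgroup.mem_zpowers_iff.mp hz
    show (x ^ m) • Q = Q
    have hmem : x ∈ MulAction.stabilizer G Q := hxQ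
    exact Subgroup.zpow_mem _ hmem m
  have hPZ : (P : Subgroup G) = Subgroup.zpowers x := by
    symm
    apply Subgroup.eq_of_le_of_card_ge (Subgroup.zpowers_le.mpr hx)
    rw [Nat.card_zpowers, hxo, hP]
  apply hQ
  apply Sylow.ext
  have h1 : (P : Subgroup G) ≤ (Q : Subgroup G) := by rw [hPZ]; exact hle
  exact P.is_maximal' Q.isPGroup' h1

/-- the number of elements different from a given one -/
theorem psll1_card_ne {α : Type*} [Finite α] (a : α) (n : ℕ) (h : Nat.card α = n + 1) :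
    Nat.card {x : α // x ≠ a} = n := by
  have := Fintype.ofFinite α
  rw [Nat.card_eq_fintype_card] at h ⊢
  rw [Fintype.card_subtype_compl, Fintype.card_subtype_eq, h]
  simp

/-- `P` acts transitively on the other `p` Sylow subgroups -/
theorem psll1_trans (P : Sylow p G) (hP : Nat.card ↥(P : Subgroup G) = p)
    (hcard : Nat.card (Sylow p G) = p + 1) (Q Q' : Sylow p G) (hQ : Q ≠ P) (hQ' : Q' ≠ P) :
    ∃ x ∈ (P : Subgroup G), x • Q = Q' := by
  have hpp : p.Prime := Fact.out
  have hfixP : ∀ x ∈ (P : Subgroup G), x • P = P := fun x hx =>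
    Sylow.smul_eq_iff_mem_normalizer.mpr (Subgroup.le_normalizer hx)
  -- the map `P → {Q' // Q' ≠ P}`
  have hne : ∀ x : ↥(P : Subgroup G), (x : G) • Q ≠ P := by
    intro x hxQ
    apply hQ
    have h1 : (x : G) • Q = (x : G) • P := by rw [hxQ, hfixP _ x.2]
    exact MulAction.injective (x : G) h1
  let F : ↥(P : Subgroup G) → {R : Sylow p G // R ≠ P} := fun x => ⟨(x : G) • Q, hne x⟩
  have hinj : Function.Injective F := by
    intro x y hxy
    have h1 : (x : G) • Q = (y : G) • Q := congrArg Subtype.val hxy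
    have h2 : ((y : G)⁻¹ * (x : G)) • Q = Q := by
      rw [mul_smul, h1, inv_smul_smul]
    have h3 := psll1_stab P hP _ (Subgroup.mul_mem _ (Subgroup.inv_mem _ y.2) x.2) Q hQ h2
    apply Subtype.ext
    have : (x : G) = (y : G) * ((y : G)⁻¹ * (x : G)) := by group
    rw [this, h3, mul_one]
  have hc : Nat.card {R : Sylow p G // R ≠ P} ≤ Nat.card ↥(P : Subgroup G) := by
    rw [psll1_card_ne P p hcard, hP]
  have hbij := hinj.bijective_of_nat_card_le hc
  obtain ⟨x, hx⟩ := hbij.2 ⟨Q', hQ'⟩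
  exact ⟨(x : G), x.2, congrArg Subtype.val hx⟩

/-- L1 : a `p`-regular element of `C_G(P)` acts trivially on the `p + 1` Sylow subgroups -/
theorem pregular_cen_le_ker (P : Sylow p G) (hP : Nat.card ↥(P : Subgroup G) = p)
    (hcard : Nat.card (Sylow p G) = p + 1) (v : G) (hv : v ∈ cen P) (hreg : ¬ p ∣ orderOf v) :
    v ∈ (MulAction.toPermHom G (Sylow p G)).ker := by
  have hpp : p.Prime := Fact.out
  have hcomm : ∀ x ∈ (P : Subgroup G), x * v = v * x := fun x hx =>
    Subgroup.mem_centralizer_iff.mp hv x hx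
  have hvP : v • P = P := by
    apply Sylow.smul_eq_iff_mem_normalizer.mpr
    exact Subgroup.centralizer_le_normalizer _ hv
  have hfixP : ∀ x ∈ (P : Subgroup G), x • P = P := fun x hx =>
    Sylow.smul_eq_iff_mem_normalizer.mpr (Subgroup.le_normalizer hx)
  -- another Sylow subgroup
  have hex : ∃ Q₀ : Sylow p G, Q₀ ≠ P := by
    by_contra hno
    push Not at hno
    have : Subsingleton (Sylow p G) := ⟨fun A B => by rw [hno A, hno B]⟩
    have h1 : Nat.card (Sylow p G) ≤ 1 := Finite.card_le_one_iff_subsingleton.mpr this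
    have := hpp.two_le
    omega
  obtain ⟨Q₀, hQ₀⟩ := hex
  have hvQ₀ : v • Q₀ ≠ P := by
    intro h
    apply hQ₀
    have h1 : v • Q₀ = v • P := by rw [h, hvP]
    exact MulAction.injective v h1
  obtain ⟨x₀, hx₀P, hx₀⟩ := psll1_trans P hP hcard Q₀ (v • Q₀) hQ₀ hvQ₀
  -- `v` acts like `x₀` on every power
  have hpow : ∀ n : ℕ, (v ^ n) • Q₀ = (x₀ ^ n) • Q₀ := by
    intro n
    induction n with
    | zero => simp
    | succ n ih =>
      have hc : Commute x₀ (v ^ n) := Commute.pow_right (hcomm x₀ hx₀P) n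
      calc (v ^ (n + 1)) • Q₀ = (v ^ n) • (v • Q₀) := by rw [pow_succ, mul_smul]
        _ = (v ^ n) • (x₀ • Q₀) := by rw [hx₀]
        _ = (v ^ n * x₀) • Q₀ := by rw [mul_smul]
        _ = (x₀ * v ^ n) • Q₀ := by rw [hc.eq]
        _ = x₀ • ((v ^ n) • Q₀) := by rw [mul_smul]
        _ = x₀ • ((x₀ ^ n) • Q₀) := by rw [ih]
        _ = (x₀ ^ (n + 1)) • Q₀ := by rw [← mul_smul, ← pow_succ']
  -- hence `x₀ ^ (orderOf v)` fixes `Q₀`, so is trivial
  have h1 : (x₀ ^ orderOf v) • Q₀ = Q₀ := by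
    rw [← hpow, pow_orderOf_eq_one, one_smul]
  have h2 : x₀ ^ orderOf v = 1 :=
    psll1_stab P hP _ (Subgroup.pow_mem _ hx₀P _) Q₀ hQ₀ h1
  have h3 : x₀ ^ p = 1 := by
    have := Subgroup.orderOf_dvd_natCard (P : Subgroup G) hx₀P
    rw [hP] at this
    exact orderOf_dvd_iff_pow_eq_one.mp this
  have hx₀1 : x₀ = 1 := by
    have hcop : Nat.Coprime (orderOf v) p :=
      (Nat.Prime.coprime_iff_not_dvd hpp).mpr hreg |>.symm
    have hd1 : orderOf x₀ ∣ orderOf v := orderOf_dvd_iff_pow_eq_one.mpr h2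
    have hd2 : orderOf x₀ ∣ p := orderOf_dvd_iff_pow_eq_one.mpr h3
    have := Nat.dvd_gcd hd1 hd2
    rw [hcop.gcd_eq_one] at this
    exact orderOf_eq_one_iff.mp (Nat.dvd_one.mp this)
  have hvQ₀' : v • Q₀ = Q₀ := by rw [← hx₀, hx₀1, one_smul]
  -- `v` fixes every Sylow subgroup
  rw [MonoidHom.mem_ker]
  ext Q : 1
  show v • Q = Q
  by_cases hQ : Q = P
  · rw [hQ, hvP]
  · obtain ⟨x, hxP, hx⟩ := psll1_trans P hP hcard Q₀ Q hQ₀ hQ
    rw [← hx, ← mul_smul, ← hcomm x hxP, mul_smul, hvQ₀']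

end Cfsg.Agent.Lib.helper15.PSL
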