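import Mathlib
import Cfsg.Agent.Lib.helper15.PSL.Defs
import Cfsg.Agent.Lib.Helper28.BRN1a

/-!
# Project PSL (S4504), piece L2 : the kernel of the action on the Sylow subgroups centralizes the normal
closure of `P`
-/

set_option autoImplicit false
set_option linter.unusedVariables false
set_option linter.unusedSectionVars false
open scoped ComplexConjugate
open Classical

namespace Cfsg.Agent.Lib.helper15.PSL

open Cfsg.Agent.Lib.helper7 Cfsg.Agent.Lib.helper7.BR Cfsg.Agent.Lib.helper2 Cfsg.Agent.Lib.Helper25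
  Cfsg.Agent.Lib.Helper29 Cfsg.Agent.Lib.helper15.BH

universe u

variable {G : Type u} [Group G] [Fintype G] {p : ℕ} [Fact p.Prime]

/-- an element of the kernel commutes with every element of every Sylow `p`-subgroup -/
theorem psll2_sylow (P : Sylow p G) (hP : Nat.card ↥(P : Subgroup G) = p)
    (hPn : ¬ (P : Subgroup G).Normal) (m : G)
    (hm : m ∈ (MulAction.toPermHom G (Sylow p G)).ker) (Q : Sylow p G) (x : G)
    (hx : x ∈ (Q : Subgroup G)) : m * x = x * m := by
  have hpp : p.Prime := Fact.out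
  obtain ⟨_, hker⟩ := sylow_kernel P hP hPn
  have hNn : ((MulAction.toPermHom G (Sylow p G)).ker).Normal := MonoidHom.normal_ker _
  have hfix : m • Q = Q := by
    rw [MonoidHom.mem_ker] at hm
    have := congrArg (fun σ : Equiv.Perm (Sylow p G) => σ Q) hm
    simpa using this
  have hmN : m ∈ Subgroup.normalizer ((Q : Subgroup G) : Set G) :=
    Sylow.smul_eq_iff_mem_normalizer.mp hfix
  have h1 : m * x * m⁻¹ ∈ (Q : Subgroup G) := (Subgroup.mem_normalizer_iff.mp hmN x).mp hx
  have h2 : m * x * m⁻¹ * x⁻¹ ∈ (Q : Subgroup G) :=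
    Subgroup.mul_mem _ h1 (Subgroup.inv_mem _ hx)
  have h3 : m * x * m⁻¹ * x⁻¹ ∈ (MulAction.toPermHom G (Sylow p G)).ker := by
    have h31 : x * m⁻¹ * x⁻¹ ∈ (MulAction.toPermHom G (Sylow p G)).ker :=
      hNn.conj_mem _ (Subgroup.inv_mem _ hm) x
    have h32 := Subgroup.mul_mem _ hm h31
    have : m * x * m⁻¹ * x⁻¹ = m * (x * m⁻¹ * x⁻¹) := by group
    rw [this]; exact h32
  have h4 : m * x * m⁻¹ * x⁻¹ = 1 := by
    set y := m * x * m⁻¹ * x⁻¹ with hy
    obtain ⟨k, hk⟩ := Q.isPGroup' ⟨y, h2⟩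
    have hk' : y ^ p ^ k = 1 := by
      have := congrArg Subtype.val hk
      simpa using this
    have hd1 : orderOf y ∣ p ^ k := orderOf_dvd_iff_pow_eq_one.mpr hk'
    have hd2 : orderOf y ∣ Nat.card ↥(MulAction.toPermHom G (Sylow p G)).ker :=
      Subgroup.orderOf_dvd_natCard _ h3
    have hcop : Nat.Coprime (p ^ k) (Nat.card ↥(MulAction.toPermHom G (Sylow p G)).ker) :=
      Nat.Coprime.pow_left k ((Nat.Prime.coprime_iff_not_dvd hpp).mpr hker)
    have := Nat.dvd_gcd hd1 hd2
    rw [hcop.gcd_eq_one] at this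
    exact orderOf_eq_one_iff.mp (Nat.dvd_one.mp this)
  calc m * x = (m * x * m⁻¹ * x⁻¹) * (x * m) := by group
    _ = x * m := by rw [h4, one_mul]

/-- L2 : the kernel of the action on the Sylow subgroups centralizes the normal closure of `P` -/
theorem ker_commute_closure (P : Sylow p G) (hP : Nat.card ↥(P : Subgroup G) = p)
    (hPn : ¬ (P : Subgroup G).Normal) (m : G)
    (hm : m ∈ (MulAction.toPermHom G (Sylow p G)).ker) (k : G)
    (hk : k ∈ Subgroup.normalClosure ((P : Subgroup G) : Set G)) : m * k = k * m := by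
  have hsub : Group.conjugatesOfSet ((P : Subgroup G) : Set G) ⊆
      ((Subgroup.centralizer ({m} : Set G) : Subgroup G) : Set G) := by
    intro y hy
    obtain ⟨b, hb, hconj⟩ := Group.mem_conjugatesOfSet_iff.mp hy
    obtain ⟨c, hc⟩ := isConj_iff.mp hconj
    have hyQ : y ∈ ((c • P : Sylow p G) : Subgroup G) := by
      rw [Sylow.coe_subgroup_smul]
      rw [← hc]
      exact ⟨b, hb, rfl⟩
    have := psll2_sylow P hP hPn m hm (c • P) y hyQ
    show y ∈ Subgroup.centralizer ({m} : Set G)
    rw [Subgroup.mem_centralizer_iff]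
    intro z hz
    rw [Set.mem_singleton_iff.mp hz]
    exact this
  have hle : Subgroup.normalClosure ((P : Subgroup G) : Set G) ≤ Subgroup.centralizer ({m} : Set G) :=
    (Subgroup.closure_le _).mpr hsub
  have := hle hk
  rw [Subgroup.mem_centralizer_iff] at this
  exact this m rfl

end Cfsg.Agent.Lib.helper15.PSL
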