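import Mathlib
import Cfsg.Agent.Lib.helper15.PSL.Defs
import Cfsg.Agent.Lib.helper7.ProjExt
import Cfsg.Agent.Lib.Helper25.CharBasic

/-!
# Project PSL (S4504), piece L3 : (Schur) the centralizer of a subgroup on which the faithful character `χ`
restricts irreducibly is the centre
-/

set_option autoImplicit false
set_option linter.unusedVariables false
set_option linter.unusedSectionVars false
open scoped ComplexConjugate
open Classical

namespace Cfsg.Agent.Lib.helper15.PSL

open Cfsg.Agent.Lib.helper7 Cfsg.Agent.Lib.helper7.BR Cfsg.Agent.Lib.helper2 Cfsg.Agent.Lib.Helper25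
  Cfsg.Agent.Lib.Helper29 Cfsg.Agent.Lib.helper15.BH

universe u

variable {G : Type u} [Group G] [Fintype G] {p : ℕ} [Fact p.Prime]

/-- L3 : (Schur) the centralizer of a subgroup on which the faithful character `χ` restricts irreducibly is the
centre -/
theorem commute_le_center (K : Subgroup G) (χ : G → ℂ) (hχ : Cfsg.IsCharacter G χ)
    (hfaith : ∀ g : G, χ g = χ 1 → g = 1)
    (hirr : Cfsg.IsIrrCharacter ↥K (fun k : ↥K => χ (k : G))) (g : G)
    (hg : ∀ k ∈ K, g * k = k * g) : g ∈ Subgroup.center G := by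
  obtain ⟨n, ρ, hρ⟩ := hχ
  obtain ⟨m, σ, hσirr, hσ⟩ := hirr
  have := hσirr
  -- the restriction of `ρ` to `K`
  let τ : Representation ℂ ↥K (Fin n → ℂ) := ρ.comp K.subtype
  have hτ : τ.character = σ.character := by
    rw [hσ]
    funext k
    have : τ.character k = ρ.character (k : G) := rfl
    rw [this, hρ]
  obtain ⟨E, hE⟩ := h7_equiv_of_char_eq σ τ hτ
  have hτirr : τ.IsIrreducible := by
    apply isIrreducible_of_equiv σ τ E
    intro k v
    have := congrArg (fun L => L v) (hE k)
    simpa using this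
  -- `ρ g` commutes with `τ`
  have hcomm : ∀ k : ↥K, ρ g ∘ₗ τ k = τ k ∘ₗ ρ g := by
    intro k
    have h1 : τ k = ρ (k : G) := rfl
    rw [h1, ← Module.End.mul_eq_comp, ← Module.End.mul_eq_comp, ← map_mul, ← map_mul, hg _ k.2]
  obtain ⟨c, hc⟩ := commuting_end_scalar τ (ρ g) hcomm
  -- hence `ρ g` commutes with every `ρ x`
  rw [Subgroup.mem_center_iff]
  intro x
  have h1 : ρ (x * g) = ρ (g * x) := by
    rw [map_mul, map_mul, hc]
    rw [Module.End.mul_eq_comp, Module.End.mul_eq_comp, LinearMap.comp_smul, LinearMap.smul_comp,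
      LinearMap.comp_id, LinearMap.id_comp]
  have h2 : ρ ((g * x)⁻¹ * (x * g)) = 1 := by
    rw [map_mul, h1, ← map_mul, inv_mul_cancel, map_one]
  have h3 : χ ((g * x)⁻¹ * (x * g)) = χ 1 := by
    rw [← hρ]
    simp only [Representation.character]
    rw [h2, ← map_one ρ]
  have h4 := hfaith _ h3
  have : x * g = (g * x) * ((g * x)⁻¹ * (x * g)) := by group
  rw [this, h4, mul_one]

end Cfsg.Agent.Lib.helper15.PSL
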