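import Mathlib
import Cfsg.Agent.Lib.Helper22.C3L.Defs
import Cfsg.Agent.Lib.Helper10.C3O.Defs

set_option autoImplicit false
set_option linter.unusedVariables false
set_option linter.unusedSectionVars false

namespace Cfsg.Agent.Lib.Helper10.C3O

open Module Cfsg.Agent.Lib.Helper22.C3L
open scoped commutatorElement

variable {F K V : Type*} [Field F] [Field K] [Algebra F K] [AddCommGroup V] [Module F V] [Module K V]
  [IsScalarTower F K V]

/-- `(2 : K) ≠ 0` from `(2 : F) ≠ 0` -/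
theorem c3oksg_two (h2 : (2 : F) ≠ 0) : (2 : K) ≠ 0 := by
  intro h
  apply h2
  apply (algebraMap F K).injective
  rw [map_ofNat, h, map_zero]

/-- the `K`-Siegel map as a `K`-linear map -/
noncomputable def c3oksg_lin (B : V →ₗ[K] V →ₗ[K] K) (u y : V) : V →ₗ[K] V :=
  LinearMap.id + (B.flip u).smulRight y - (B.flip y).smulRight u - ((B y y / 2) • (B.flip u)).smulRight u

theorem c3oksg_lin_apply (B : V →ₗ[K] V →ₗ[K] K) (u y x : V) : c3oksg_lin B u y x = ksg B u y x := by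
  simp [c3oksg_lin, ksg]

/-- composition law -/
theorem c3oksg_comp (h2 : (2 : K) ≠ 0) (B : V →ₗ[K] V →ₗ[K] K) (hBs : ∀ x y, B x y = B y x) {u y y' : V}
    (hu0 : B u u = 0) (huy : B u y = 0) (huy' : B u y' = 0) (x : V) :
    ksg B u y (ksg B u y' x) = ksg B u (y + y') x := by
  have e1 : B y u = 0 := by rw [hBs]; exact huy
  have e2 : B y' u = 0 := by rw [hBs]; exact huy'
  have e3 : B y' y = B y y' := hBs _ _
  simp only [ksg, map_add, map_sub, map_smul, LinearMap.add_apply, LinearMap.sub_apply,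
    LinearMap.smul_apply, smul_eq_mul, hu0, huy, huy', e1, e2, e3, mul_zero, add_zero, sub_zero, zero_mul]
  match_scalars <;> field_simp <;> ring

theorem c3oksg_zero (B : V →ₗ[K] V →ₗ[K] K) (u x : V) : ksg B u 0 x = x := by
  simp [ksg]

/-- isometry -/
theorem c3oksg_iso (h2 : (2 : K) ≠ 0) (B : V →ₗ[K] V →ₗ[K] K) (hBs : ∀ x y, B x y = B y x) {u y : V}
    (hu0 : B u u = 0) (huy : B u y = 0) (x x' : V) :
    B (ksg B u y x) (ksg B u y x') = B x x' := by
  have e1 : B y u = 0 := by rw [hBs]; exact huy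
  have e2 : B u x' = B x' u := hBs _ _
  have e3 : B y x' = B x' y := hBs _ _
  simp only [ksg, map_add, map_sub, map_smul, LinearMap.add_apply, LinearMap.sub_apply,
    LinearMap.smul_apply, smul_eq_mul, hu0, huy, e1, e2, e3, mul_zero, add_zero, sub_zero, zero_mul]
  field_simp
  ring

/-- the `K`-Siegel map as an element of `OB` -/
theorem c3oksg_ob (h2 : (2 : K) ≠ 0) (B : V →ₗ[K] V →ₗ[K] K) (hBs : ∀ x y, B x y = B y x) {u y : V}
    (hu0 : B u u = 0) (huy : B u y = 0) : ∃ g ∈ OB F B, ∀ x : V, g x = ksg B u y x := by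
  have huy' : B u (-y) = 0 := by rw [map_neg, huy, neg_zero]
  have h1 : ∀ x, ksg B u y (ksg B u (-y) x) = x := fun x => by
    rw [c3oksg_comp h2 B hBs hu0 huy huy', add_neg_cancel, c3oksg_zero]
  have h2' : ∀ x, ksg B u (-y) (ksg B u y x) = x := fun x => by
    rw [c3oksg_comp h2 B hBs hu0 huy' huy, neg_add_cancel, c3oksg_zero]
  let e : V ≃ₗ[K] V := LinearEquiv.ofLinear (c3oksg_lin B u y) (c3oksg_lin B u (-y))
    (by ext x; simp only [LinearMap.comp_apply, c3oksg_lin_apply, LinearMap.id_apply]; exact h1 x)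
    (by ext x; simp only [LinearMap.comp_apply, c3oksg_lin_apply, LinearMap.id_apply]; exact h2' x)
  have he : ∀ x, e x = ksg B u y x := fun x => c3oksg_lin_apply B u y x
  refine ⟨e.restrictScalars F, ⟨fun a x => ?_, fun x x' => ?_⟩, fun x => ?_⟩
  · show e (a • x) = a • e x
    exact map_smul e a x
  · show B (e x) (e x') = B x x'
    rw [he, he, c3oksg_iso h2 B hBs hu0 huy]
  · exact he x

/-- conjugation -/
theorem c3oksg_conj (B : V →ₗ[K] V →ₗ[K] K) {t : V ≃ₗ[F] V} (ht : t ∈ OB F B) (u y x : V) :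
    t (ksg B u y (t.symm x)) = ksg B (t u) (t y) x := by
  have h1 : ∀ z w, B (t.symm z) w = B z (t w) := by
    intro z w
    rw [← ht.2 (t.symm z) w, LinearEquiv.apply_symm_apply]
  have h3 : B (t y) (t y) = B y y := ht.2 y y
  simp only [ksg, map_add, map_sub, ht.1, LinearEquiv.apply_symm_apply, h1, h3]

/-- replacing `u` by `2 u` -/
theorem c3oksg_two_u (h2 : (2 : K) ≠ 0) (B : V →ₗ[K] V →ₗ[K] K) (u y x : V) :
    ksg B ((2 : K) • u) y x = ksg B u ((2 : K) • y) x := by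
  simp only [ksg, map_smul, LinearMap.smul_apply, smul_eq_mul]
  match_scalars <;> field_simp <;> ring

/-- `ρ_{u, y + a u} = ρ_{u, y}` -/
theorem c3oksg_shift (h2 : (2 : K) ≠ 0) (B : V →ₗ[K] V →ₗ[K] K) (hBs : ∀ x y, B x y = B y x) {u y : V}
    (hu0 : B u u = 0) (huy : B u y = 0) (a : K) (x : V) : ksg B u (y + a • u) x = ksg B u y x := by
  have e1 : B y u = 0 := by rw [hBs]; exact huy
  simp only [ksg, map_add, map_smul, LinearMap.add_apply, LinearMap.smul_apply, smul_eq_mul, hu0, huy, e1,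
    mul_zero, add_zero, zero_mul]
  match_scalars <;> field_simp <;> ring

/-- a hyperbolic partner (own copy of HYP, used by KSG and KTOR) -/
theorem c3oksg_hyp (h2 : (2 : K) ≠ 0) (B : V →ₗ[K] V →ₗ[K] K) (hBs : ∀ x y, B x y = B y x)
    (hBn : ∀ x, x ≠ 0 → ∃ y, B x y ≠ 0) {u : V} (hu : u ≠ 0) (hu0 : B u u = 0) :
    ∃ u' : V, B u' u' = 0 ∧ B u u' = 1 := by
  obtain ⟨y, hy⟩ := hBn u hu
  have e1 : B y u = B u y := hBs _ _
  refine ⟨(B u y)⁻¹ • y - ((B u y)⁻¹ * (B u y)⁻¹ * B y y / 2) • u, ?_, ?_⟩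
  · simp only [map_sub, map_smul, LinearMap.sub_apply, LinearMap.smul_apply, smul_eq_mul, hu0, e1, mul_zero,
      sub_zero]
    field_simp
    ring
  · simp only [map_sub, map_smul, smul_eq_mul, hu0, mul_zero, sub_zero]
    field_simp

/-- the torus map `t_c`, as a function -/
noncomputable def c3oksg_tor (B : V →ₗ[K] V →ₗ[K] K) (u u' : V) (c : K) (x : V) : V :=
  x + ((c - 1) * B x u') • u + ((c⁻¹ - 1) * B x u) • u'

/-- the torus map as a `K`-linear map -/
noncomputable def c3oksg_torLin (B : V →ₗ[K] V →ₗ[K] K) (u u' : V) (c : K) : V →ₗ[K] V :=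
  LinearMap.id + ((c - 1) • (B.flip u')).smulRight u + ((c⁻¹ - 1) • (B.flip u)).smulRight u'

theorem c3oksg_torLin_apply (B : V →ₗ[K] V →ₗ[K] K) (u u' : V) (c : K) (x : V) :
    c3oksg_torLin B u u' c x = c3oksg_tor B u u' c x := by
  simp [c3oksg_torLin, c3oksg_tor]

theorem c3oksg_tor_comp (B : V →ₗ[K] V →ₗ[K] K) (hBs : ∀ x y, B x y = B y x) {u u' : V}
    (hu0 : B u u = 0) (hu'0 : B u' u' = 0) (huu' : B u u' = 1) {c d : K} (hc : c ≠ 0) (hd : d ≠ 0) (x : V) :
    c3oksg_tor B u u' c (c3oksg_tor B u u' d x) = c3oksg_tor B u u' (c * d) x := by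
  have e1 : B u' u = 1 := by rw [hBs]; exact huu'
  simp only [c3oksg_tor, map_add, map_smul, LinearMap.add_apply, LinearMap.smul_apply, smul_eq_mul, hu0, hu'0,
    huu', e1, mul_zero, add_zero, mul_one, zero_add]
  match_scalars <;> field_simp <;> ring

theorem c3oksg_tor_one (B : V →ₗ[K] V →ₗ[K] K) (u u' x : V) : c3oksg_tor B u u' 1 x = x := by
  simp [c3oksg_tor]

theorem c3oksg_tor_iso (B : V →ₗ[K] V →ₗ[K] K) (hBs : ∀ x y, B x y = B y x) {u u' : V}
    (hu0 : B u u = 0) (hu'0 : B u' u' = 0) (huu' : B u u' = 1) {c : K} (hc : c ≠ 0) (x x' : V) :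
    B (c3oksg_tor B u u' c x) (c3oksg_tor B u u' c x') = B x x' := by
  have e1 : B u' u = 1 := by rw [hBs]; exact huu'
  have e2 : B u x' = B x' u := hBs _ _
  have e3 : B u' x' = B x' u' := hBs _ _
  simp only [c3oksg_tor, map_add, map_smul, LinearMap.add_apply, LinearMap.smul_apply, smul_eq_mul, hu0, hu'0,
    huu', e1, e2, e3, mul_zero, add_zero, mul_one, zero_add]
  field_simp
  ring

/-- the torus element `t_c ∈ OB` -/
theorem c3oksg_tor_ob (B : V →ₗ[K] V →ₗ[K] K) (hBs : ∀ x y, B x y = B y x) {u u' : V}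
    (hu0 : B u u = 0) (hu'0 : B u' u' = 0) (huu' : B u u' = 1) {c : K} (hc : c ≠ 0) :
    ∃ t ∈ OB F B, ∀ x : V, t x = c3oksg_tor B u u' c x := by
  have hc' : c⁻¹ ≠ 0 := inv_ne_zero hc
  have h1 : ∀ x, c3oksg_tor B u u' c (c3oksg_tor B u u' c⁻¹ x) = x := fun x => by
    rw [c3oksg_tor_comp B hBs hu0 hu'0 huu' hc hc', mul_inv_cancel₀ hc, c3oksg_tor_one]
  have h2' : ∀ x, c3oksg_tor B u u' c⁻¹ (c3oksg_tor B u u' c x) = x := fun x => by
    rw [c3oksg_tor_comp B hBs hu0 hu'0 huu' hc' hc, inv_mul_cancel₀ hc, c3oksg_tor_one]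
  let e : V ≃ₗ[K] V := LinearEquiv.ofLinear (c3oksg_torLin B u u' c) (c3oksg_torLin B u u' c⁻¹)
    (by ext x; simp only [LinearMap.comp_apply, c3oksg_torLin_apply, LinearMap.id_apply]; exact h1 x)
    (by ext x; simp only [LinearMap.comp_apply, c3oksg_torLin_apply, LinearMap.id_apply]; exact h2' x)
  have he : ∀ x, e x = c3oksg_tor B u u' c x := fun x => c3oksg_torLin_apply B u u' c x
  refine ⟨e.restrictScalars F, ⟨fun a x => ?_, fun x x' => ?_⟩, fun x => ?_⟩
  · show e (a • x) = a • e x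
    exact map_smul e a x
  · show B (e x) (e x') = B x x'
    rw [he, he, c3oksg_tor_iso B hBs hu0 hu'0 huu' hc]
  · exact he x

/-- KSG [M-L] the `K`-Siegel maps lie in `OmB`. -/
theorem ksg_mem (h2 : (2 : F) ≠ 0) (B : V →ₗ[K] V →ₗ[K] K) (hBs : ∀ x y, B x y = B y x)
    (hBn : ∀ x, x ≠ 0 → ∃ y, B x y ≠ 0) {u y : V} (hu0 : B u u = 0) (huy : B u y = 0) :
    ∃ g ∈ OmB F B, ∀ x : V, g x = ksg B u y x := by
  have h2K : (2 : K) ≠ 0 := c3oksg_two h2
  by_cases hu : u = 0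
  · refine ⟨1, Subgroup.one_mem _, fun x => ?_⟩
    subst hu
    simp [ksg]
  obtain ⟨u', hu'0, huu'⟩ := c3oksg_hyp h2K B hBs hBn hu hu0
  have e1 : B u' u = 1 := by rw [hBs]; exact huu'
  obtain ⟨y₀, hy₀⟩ : ∃ y₀ : V, y₀ = y - B y u' • u := ⟨_, rfl⟩
  have huy₀ : B u y₀ = 0 := by
    rw [hy₀, map_sub, map_smul, hu0, huy, smul_zero, sub_zero]
  have hy₀u' : B y₀ u' = 0 := by
    rw [hy₀, map_sub, map_smul, LinearMap.sub_apply, LinearMap.smul_apply, huu', smul_eq_mul, mul_one, sub_self]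
  have hy₀u : B y₀ u = 0 := by rw [hBs]; exact huy₀
  have hsame : ∀ x, ksg B u y x = ksg B u y₀ x := by
    intro x
    have : y = y₀ + B y u' • u := by rw [hy₀]; abel
    rw [this, c3oksg_shift h2K B hBs hu0 huy₀]
  obtain ⟨t, ht, htx⟩ := c3oksg_tor_ob (F := F) B hBs hu0 hu'0 huu' h2K
  obtain ⟨g, hg, hgx⟩ := c3oksg_ob (F := F) h2K B hBs hu0 huy₀
  have htu : t u = (2 : K) • u := by
    rw [htx, c3oksg_tor, hu0, huu', mul_zero, zero_smul, add_zero, mul_one]
    module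
  have hty : t y₀ = y₀ := by
    rw [htx, c3oksg_tor, hy₀u', hy₀u, mul_zero, mul_zero, zero_smul, zero_smul, add_zero, add_zero]
  have huy₀n : B u (-y₀) = 0 := by rw [map_neg, huy₀, neg_zero]
  have huy₀2 : B u ((2 : K) • y₀) = 0 := by rw [map_smul, huy₀, smul_zero]
  have hginv : ∀ x, g.symm x = ksg B u (-y₀) x := by
    intro x
    apply g.injective
    rw [LinearEquiv.apply_symm_apply, hgx, c3oksg_comp h2K B hBs hu0 huy₀ huy₀n, add_neg_cancel, c3oksg_zero]
  refine ⟨⁅t, g⁆, Subgroup.commutator_mem_commutator ht hg, fun x => ?_⟩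
  rw [hsame, commutatorElement_def]
  show t (g (t.symm (g.symm x))) = _
  rw [hgx, c3oksg_conj B ht, htu, hty, c3oksg_two_u h2K, hginv, c3oksg_comp h2K B hBs hu0 huy₀2 huy₀n]
  congr 1
  module

end Cfsg.Agent.Lib.Helper10.C3O
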