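import Mathlib
import Cfsg.Agent.Lib.Helper22.C3L.Defs
import Cfsg.Agent.Lib.Helper10.C3O.Defs
import Cfsg.Agent.Lib.Helper10.C3OKSG

set_option autoImplicit false
set_option linter.unusedVariables false
set_option linter.unusedSectionVars false

namespace Cfsg.Agent.Lib.Helper10.C3O

open Module Cfsg.Agent.Lib.Helper22.C3L

variable {F K V : Type*} [Field F] [Field K] [Algebra F K] [AddCommGroup V] [Module F V] [Module K V]
  [IsScalarTower F K V]

/-- `y ∉ K v`: some `w ⊥ v` has `B y w ≠ 0` -/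
theorem c3ouorbo_sep (B : V →ₗ[K] V →ₗ[K] K) (hBn : ∀ x, x ≠ 0 → ∃ y, B x y ≠ 0) {v y : V}
    (hy : y ∉ Kl F K v) : ∃ w : V, B v w = 0 ∧ B y w ≠ 0 := by
  by_contra hcon
  push Not at hcon
  apply hy
  by_cases hv : ∀ w, B v w = 0
  · have hy0 : y = 0 := by
      by_contra hne
      obtain ⟨w, hw⟩ := hBn y hne
      exact hw (hcon w (hv w))
    rw [hy0]
    exact (Kl F K v).zero_mem
  · push Not at hv
    obtain ⟨w₁, hw₁⟩ := hv
    have key : ∀ w, B (y - (B y w₁ / B v w₁) • v) w = 0 := by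
      intro w
      have h1 : B v (w - (B v w / B v w₁) • w₁) = 0 := by
        rw [map_sub, map_smul, smul_eq_mul]
        field_simp
        ring
      have h3 := hcon _ h1
      rw [map_sub, map_smul, smul_eq_mul] at h3
      rw [map_sub, map_smul, LinearMap.sub_apply, LinearMap.smul_apply, smul_eq_mul]
      field_simp
      field_simp at h3
      linear_combination h3
    have : y - (B y w₁ / B v w₁) • v = 0 := by
      by_contra hne
      obtain ⟨w, hw⟩ := hBn _ hne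
      exact hw (key w)
    rw [mem_Kl]
    exact ⟨B y w₁ / B v w₁, (sub_eq_zero.mp this).symm⟩

/-- UORBO [M] -/
theorem o_u_orb [FiniteDimensional K V] (h2 : (2 : F) ≠ 0) (B : V →ₗ[K] V →ₗ[K] K) (hBs : ∀ x y, B x y = B y x)
    (hBn : ∀ x, x ≠ 0 → ∃ y, B x y ≠ 0) {v y z : V} (hv0 : B v v = 0) (hyv : B y v = 0)
    (hy : y ∉ Kl F K v) (hz : z ∈ Kl F K v) :
    ∃ u ∈ OmB F B, (∀ x ∈ Kl F K v, u x = x) ∧ u y = y + z := by
  obtain ⟨a, rfl⟩ := (mem_Kl F K).mp hz
  obtain ⟨w₀, hvw₀, hyw₀⟩ := c3ouorbo_sep B hBn hy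
  obtain ⟨w, hw⟩ : ∃ w : V, w = (-a / B y w₀) • w₀ := ⟨_, rfl⟩
  have hvw : B v w = 0 := by rw [hw, map_smul, hvw₀, smul_zero]
  have hyw : B y w = -a := by
    rw [hw, map_smul, smul_eq_mul]
    field_simp
  obtain ⟨g, hg, hgx⟩ := ksg_mem (F := F) h2 B hBs hBn hv0 hvw
  refine ⟨g, hg, fun x hx => ?_, ?_⟩
  · obtain ⟨c, rfl⟩ := (mem_Kl F K).mp hx
    rw [hgx, ksg]
    simp only [map_smul, LinearMap.smul_apply, hv0, hvw, smul_eq_mul, mul_zero, zero_smul, add_zero, sub_zero]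
  · rw [hgx, ksg, hyv, hyw]
    simp only [zero_smul, add_zero, mul_zero, sub_zero, neg_smul, sub_neg_eq_add]

end Cfsg.Agent.Lib.Helper10.C3O
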