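import Mathlib
import Cfsg.Agent.S1963
import Cfsg.Agent.Lib.Helper13.PairCtl

set_option autoImplicit false

/-! Local-to-global control of fusion when the local hypothesis is only available for the
subgroups between `Z(S)` and `S`. -/

namespace Cfsg.Agent.Lib.Helper10.ZJfree

open Cfsg.Agent.Lib.Helper13

section

variable {G : Type*} [Group G]

/-- `g = c n` with `c` centralizing `R` and `n` normalizing `W S`. -/
def GoodCN (W : Subgroup G → Subgroup G) (S R : Subgroup G) (g : G) : Prop :=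
  ∃ c ∈ Subgroup.centralizer (R : Set G),
    ∃ n ∈ Subgroup.normalizer ((W S : Subgroup G) : Set G), g = c * n

theorem GoodCN.mono {W : Subgroup G → Subgroup G} {S R R' : Subgroup G} {g : G} (hRR' : R' ≤ R)
    (h : GoodCN W S R g) : GoodCN W S R' g := by
  obtain ⟨c, hc, n, hn, rfl⟩ := h
  exact ⟨c, Subgroup.centralizer_le hRR' hc, n, hn, rfl⟩

theorem GoodCN.app {W : Subgroup G → Subgroup G} {S R : Subgroup G} {g k : G}
    (h1 : GoodCN W S R g) (h2 : GoodCN W S (rc R g) k) : GoodCN W S R (g * k) := by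
  obtain ⟨c, hc, n, hn, rfl⟩ := h1
  obtain ⟨c', hc', n', hn', rfl⟩ := h2
  refine ⟨c * (n * c' * n⁻¹), Subgroup.mul_mem _ hc ?_, n * n', Subgroup.mul_mem _ hn hn', by group⟩
  rw [Subgroup.mem_centralizer_iff]
  intro a ha
  have hca : c⁻¹ * a * c = a := by
    have := Subgroup.mem_centralizer_iff.mp hc a ha
    rw [mul_assoc, this]; group
  have h3 : (c * n)⁻¹ * a * (c * n) ∈ rc R (c * n) := rc_mem ha
  have e : (c * n)⁻¹ * a * (c * n) = n⁻¹ * a * n := by
    calc (c * n)⁻¹ * a * (c * n) = n⁻¹ * (c⁻¹ * a * c) * n := by group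
      _ = n⁻¹ * a * n := by rw [hca]
  rw [e] at h3
  have h4 := Subgroup.mem_centralizer_iff.mp hc' _ h3
  calc a * (n * c' * n⁻¹) = n * ((n⁻¹ * a * n) * c') * n⁻¹ := by group
    _ = n * (c' * (n⁻¹ * a * n)) * n⁻¹ := by rw [h4]
    _ = n * c' * n⁻¹ * a := by group

theorem GoodCN.rev {W : Subgroup G → Subgroup G} {S R : Subgroup G} {g : G}
    (h : GoodCN W S R g) : GoodCN W S (rc R g) g⁻¹ := by
  obtain ⟨c, hc, n, hn, rfl⟩ := h
  refine ⟨n⁻¹ * c⁻¹ * n, ?_, n⁻¹, Subgroup.inv_mem _ hn, by group⟩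
  rw [Subgroup.mem_centralizer_iff]
  intro b hb
  have hb' : c * n * b * (c * n)⁻¹ ∈ R := mem_rc.mp hb
  have h1 := Subgroup.mem_centralizer_iff.mp (Subgroup.inv_mem _ hc) _ hb'
  -- `h1 : (c n b (c n)⁻¹) * c⁻¹ = c⁻¹ * (c n b (c n)⁻¹)`
  have h2 : n * b * n⁻¹ * c⁻¹ = c⁻¹ * (n * b * n⁻¹) := by
    have e1 : c * n * b * (c * n)⁻¹ * c⁻¹ = c * (n * b * n⁻¹ * c⁻¹) * c⁻¹ := by group
    have e2 : c⁻¹ * (c * n * b * (c * n)⁻¹) = c * (c⁻¹ * (n * b * n⁻¹)) * c⁻¹ := by group
    rw [e1, e2] at h1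
    have := mul_left_cancel (mul_right_cancel h1)
    exact this
  calc b * (n⁻¹ * c⁻¹ * n) = n⁻¹ * (n * b * n⁻¹ * c⁻¹) * n := by group
    _ = n⁻¹ * (c⁻¹ * (n * b * n⁻¹)) * n := by rw [h2]
    _ = n⁻¹ * c⁻¹ * n * b := by group

end

section Global

variable {G : Type*} [Group G] [Finite G] {p : ℕ} [Fact p.Prime] (S : Sylow p G)
  (W : Subgroup G → Subgroup G) (hW : Cfsg.IsConjugacyFunctor p W)
  (hWZ : ∀ H : Subgroup G, IsPGroup p ↥H →
    H ⊓ Subgroup.centralizer ((H : Subgroup G) : Set G) ≤ W H)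
  (hloc : ∀ T : Subgroup G,
    (S : Subgroup G) ⊓ Subgroup.centralizer (((S : Subgroup G) : Subgroup G) : Set G) ≤ T →
    T ≤ (S : Subgroup G) →
    Cfsg.ControlsStrongFusionIn p W (Subgroup.normalizer ((T : Subgroup G) : Set G)))

include hW hWZ hloc in
theorem climb (U : Subgroup G) (hU : Cfsg.IsWellPlaced p W (S : Subgroup G) U)
    (hZU : (S : Subgroup G) ⊓ Subgroup.centralizer (((S : Subgroup G) : Subgroup G) : Set G) ≤ U)
    (R : Subgroup G) (hRU : R ≤ U) (x : G)
    (hx : x ∈ Subgroup.normalizer ((U : Subgroup G) : Set G)) :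
    ∃ y ∈ Subgroup.normalizer ((W (S : Subgroup G) : Subgroup G) : Set G),
      ∀ a ∈ R, y * a * y⁻¹ = x * a * x⁻¹ := by
  have hSp : IsPGroup p ↥(S : Subgroup G) := S.isPGroup'
  have key : ∀ j : ℕ, ∃ y ∈ Subgroup.normalizer
      ((Cfsg.functorTower W (S : Subgroup G) U j : Subgroup G) : Set G),
      ∀ a ∈ R, y * a * y⁻¹ = x * a * x⁻¹ := by
    intro j
    induction j with
    | zero => exact ⟨x, hx, fun _ _ => rfl⟩
    | succ j ih =>
      obtain ⟨y, hy, hya⟩ := ih
      have hc := hloc _ (center_le_tower hW hSp hWZ hU.1 hZU j) (tower_le hW hSp hU.1 j)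
      have hUQ : U ≤ (S : Subgroup G) ⊓ Subgroup.normalizer
          ((Cfsg.functorTower W (S : Subgroup G) U j : Subgroup G) : Set G) := by
        have h0 : U ≤ (S : Subgroup G) ⊓ Subgroup.normalizer
            ((Cfsg.functorTower W (S : Subgroup G) U 0 : Subgroup G) : Set G) :=
          le_inf hU.1 Subgroup.le_normalizer
        exact h0.trans (tower_normalizer_mono' hW hSp U (Nat.zero_le j))
      have hxU : ∀ a ∈ R, x * a * x⁻¹ ∈ U := fun a ha =>
        (Subgroup.mem_normalizer_iff.mp hx a).mp (hRU ha)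
      obtain ⟨y', hy', hy'a⟩ := controls_of_sylow hW hc
        (inf_le_right : (S : Subgroup G) ⊓ Subgroup.normalizer
          ((Cfsg.functorTower W (S : Subgroup G) U j : Subgroup G) : Set G) ≤ _)
        (hSp.to_le inf_le_left) (hU.2 j) (R : Set G) y hy
        (fun a ha => hUQ (hRU ha))
        (by
          rintro _ ⟨a, ha, rfl⟩
          show y * a * y⁻¹ ∈ _
          rw [hya a ha]
          exact hUQ (hxU a ha))
      refine ⟨y', (Subgroup.mem_inf.mp hy').2, fun a ha => ?_⟩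
      rw [hy'a a ha, hya a ha]
  obtain ⟨y, hy, hya⟩ := key (Nat.card ↥(S : Subgroup G) + 1)
  rw [tower_eq_functor_top hW hSp U] at hy
  exact ⟨y, hy, hya⟩

include hW hWZ hloc in
theorem cn_key (R : Subgroup G) (hRS : R ≤ (S : Subgroup G))
    (ih : ∀ R' : Subgroup G, R' ≤ (S : Subgroup G) → Nat.card ↥R < Nat.card ↥R' →
        ∀ g : G, rc R' g ≤ (S : Subgroup G) → GoodCN W (S : Subgroup G) R' g) :
    ∃ U : Subgroup G, U ≤ (S : Subgroup G) ∧ (∃ c : G, rc R c = U) ∧
        ¬ p ∣ ((S : Subgroup G) ⊓ Subgroup.normalizer ((U : Subgroup G) : Set G)).relIndex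
          (Subgroup.normalizer ((U : Subgroup G) : Set G)) ∧
        ∀ m ∈ Subgroup.normalizer ((U : Subgroup G) : Set G), GoodCN W (S : Subgroup G) U m := by
  have hSp : IsPGroup p ↥(S : Subgroup G) := S.isPGroup'
  obtain ⟨g₀, hwp⟩ := Cfsg.Agent.S1963.result S W hW R hRS
  obtain ⟨U, hUdef⟩ : ∃ U : Subgroup G, U = R.map (MulAut.conj g₀).toMonoidHom := ⟨_, rfl⟩
  rw [← hUdef] at hwp
  have hUS : U ≤ (S : Subgroup G) := hwp.1
  have hcardU : Nat.card ↥U = Nat.card ↥R := by rw [hUdef, card_cj]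
  have hsyl : ¬ p ∣ ((S : Subgroup G) ⊓ Subgroup.normalizer ((U : Subgroup G) : Set G)).relIndex
          (Subgroup.normalizer ((U : Subgroup G) : Set G)) := hwp.2 0
  refine ⟨U, hUS, ⟨g₀⁻¹, by rw [rc_def, inv_inv, hUdef]⟩, hsyl, ?_⟩
  intro m hm
  obtain ⟨c, hc, y, hyU, hyH, hmcy⟩ := frattini_centralizer hSp hsyl m hm
  have h2 : GoodCN W (S : Subgroup G) U y := by
    by_cases hHU : U ⊔ ((S : Subgroup G) ⊓ Subgroup.centralizer (U : Set G)) = U
    · have hDU : (S : Subgroup G) ⊓ Subgroup.centralizer (U : Set G) ≤ U :=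
        le_sup_right.trans hHU.le
      have hZU : (S : Subgroup G) ⊓ Subgroup.centralizer (((S : Subgroup G) : Subgroup G) : Set G) ≤ U := by
        refine le_trans ?_ hDU
        exact inf_le_inf_left _ (Subgroup.centralizer_le hUS)
      obtain ⟨y', hy', hy'a⟩ := climb S W hW hWZ hloc U hwp hZU U le_rfl y⁻¹
        (Subgroup.inv_mem _ hyU)
      refine ⟨y * y', ?_, y'⁻¹, Subgroup.inv_mem _ hy', by group⟩
      rw [Subgroup.mem_centralizer_iff]
      intro a ha
      have h1 := hy'a a ha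
      rw [inv_inv] at h1
      calc a * (y * y') = y * (y⁻¹ * a * y) * y' := by group
        _ = y * (y' * a * y'⁻¹) * y' := by rw [h1]
        _ = y * y' * a := by group
    · have hHS : U ⊔ ((S : Subgroup G) ⊓ Subgroup.centralizer (U : Set G)) ≤ (S : Subgroup G) :=
        sup_le hUS inf_le_left
      have hlt : Nat.card ↥R <
          Nat.card ↥(U ⊔ ((S : Subgroup G) ⊓ Subgroup.centralizer (U : Set G)) : Subgroup G) := by
        rw [← hcardU]
        by_contra hle
        push Not at hle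
        exact hHU (Subgroup.eq_of_le_of_card_ge le_sup_left hle).symm
      have := ih _ hHS hlt y (by rw [rc_of_mem_normalizer hyH]; exact hHS)
      exact this.mono le_sup_left
  have h1 : GoodCN W (S : Subgroup G) U c := ⟨c, hc, 1, Subgroup.one_mem _, by simp⟩
  rw [hmcy]
  apply h1.app
  have hUc : rc U c = U := rc_of_mem_normalizer (Subgroup.centralizer_le_normalizer _ hc)
  rw [hUc]
  exact h2

include hW hWZ hloc in
/-- Local control in the normalizers of the subgroups between `Z(S)` and `S` gives: every element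
conjugating a subgroup `R` of `S` into `S` lies in `C_G(R) N_G(W(S))`. -/
theorem cn_global (R : Subgroup G) (hR : R ≤ (S : Subgroup G)) (g : G)
    (hg : rc R g ≤ (S : Subgroup G)) : GoodCN W (S : Subgroup G) R g := by
  have hSp : IsPGroup p ↥(S : Subgroup G) := S.isPGroup'
  exact alperin_induction S (GoodCN W (S : Subgroup G))
    (fun R R' g hRR' h => h.mono hRR')
    (fun R g k h1 h2 => h1.app h2)
    (fun R g _ _ h => h.rev)
    (fun g hgN => ⟨1, Subgroup.one_mem _, g, normalizer_le_normalizer_functor hW hSp hgN, by simp⟩)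
    (fun R hRS _ ih => cn_key S W hW hWZ hloc R hRS ih)
    (Nat.card ↥(S : Subgroup G)) R hR (Nat.sub_le _ _) g hg

end Global

end Cfsg.Agent.Lib.Helper10.ZJfree
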