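import Mathlib
import Cfsg.Agent.Lib.Helper9.OPH.Defs

set_option autoImplicit false
set_option linter.unusedVariables false
set_option linter.unusedSectionVars false

/-! Project OPH (S5996), row PARITY (helper10): core, with the statement of row SKEWRANK as a hypothesis. -/

namespace Cfsg.Agent.Lib.Helper9.OPH

open Module Cfsg.Agent.Lib.helper14.JTa

variable {F : Type*} [Field F]

/-- powers of a skew-adjoint map -/
theorem ophparity_skew_pow {V : Type*} [AddCommGroup V] [Module F V]
    (B : LinearMap.BilinForm F V) (S : Module.End F V) (hS : ∀ u v, B (S u) v = - B u (S v)) (n : ℕ) (u v : V) :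
    B ((S ^ n) u) v = (-1) ^ n * B u ((S ^ n) v) := by
  induction n generalizing u v with
  | zero => simp
  | succ n ih =>
    rw [pow_succ, Module.End.mul_apply, ih, hS, Module.End.mul_apply, pow_succ]
    have h1 : (S ^ n) (S v) = S ((S ^ n) v) := by
      rw [← Module.End.mul_apply, ← Module.End.mul_apply, ← pow_succ, ← pow_succ']
    rw [h1]
    ring

/-- PARITY with SKEWRANK as a hypothesis -/
theorem ophparity_core {V : Type*} [AddCommGroup V] [Module F V] [FiniteDimensional F V] (h2 : (2 : F) ≠ 0)
    (B : LinearMap.BilinForm F V) (hsym : ∀ u v, B u v = B v u) (hnd : ∀ u, (∀ v, B u v = 0) → u = 0)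
    (hskew : ∀ S : Module.End F V, (∀ u v, B (S u) v = - B u (S v)) → Even (finrank F (LinearMap.range S)))
    (y : Module.End F V) (hy : ∀ u v, B (y u) (y v) = B u v) (K : ℕ) (hK : (y - 1) ^ K = 0) (k : ℕ) (hk : Odd k) :
    Even (finrank F V + dk (y - 1) k) := by
  -- `y` is injective, hence invertible
  have hyinj : Function.Injective y := by
    rw [← LinearMap.ker_eq_bot, LinearMap.ker_eq_bot']
    intro v hv
    apply hnd
    intro u
    rw [hsym, ← hy u v, hv, map_zero]
  let e : V ≃ₗ[F] V := LinearEquiv.ofInjectiveEndo y hyinj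
  have he : ∀ v, e v = y v := fun v => rfl
  let y' : Module.End F V := (e.symm : V →ₗ[F] V)
  have hyy' : ∀ v, y (y' v) = v := fun v => e.apply_symm_apply v
  have hy'y : ∀ v, y' (y v) = v := fun v => e.symm_apply_apply v
  have hyy'm : y * y' = 1 := LinearMap.ext hyy'
  have hy'ym : y' * y = 1 := LinearMap.ext hy'y
  -- adjoints
  have hadj1 : ∀ u v, B (y u) v = B u (y' v) := by
    intro u v
    rw [← hy u (y' v), hyy']
  have hadj2 : ∀ u v, B (y' u) v = B u (y v) := by
    intro u v
    rw [← hy (y' u) v, hyy']
  -- the skew map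
  set S : Module.End F V := y - y' with hSdef
  have hS : ∀ u v, B (S u) v = - B u (S v) := by
    intro u v
    rw [hSdef, LinearMap.sub_apply, LinearMap.sub_apply, map_sub, LinearMap.sub_apply, map_sub, hadj1, hadj2]
    ring
  have hSk : ∀ u v, B ((S ^ k) u) v = - B u ((S ^ k) v) := by
    intro u v
    rw [ophparity_skew_pow B S hS k u v, hk.neg_one_pow]
    ring
  -- `S = U * N = N * U`
  set N : Module.End F V := y - 1 with hNdef
  set U : Module.End F V := y' * (y + 1) with hUdef
  have hUN : U * N = S := by
    rw [hUdef, hNdef, hSdef, mul_assoc]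
    have : (y + 1) * (y - 1) = y * y - 1 := by noncomm_ring
    rw [this, mul_sub, ← mul_assoc, hy'ym, one_mul, mul_one]
  have hNU : N * U = S := by
    rw [hUdef, hNdef, hSdef, ← mul_assoc, sub_mul, one_mul, hyy'm, mul_add, mul_one, sub_mul, one_mul, hy'ym]
    have : y' * y = 1 := hy'ym
    noncomm_ring
  have hcomm : Commute U N := by
    show U * N = N * U
    rw [hUN, hNU]
  -- `U` is injective
  have hy1inj : Function.Injective (y + 1 : Module.End F V) := by
    rw [← LinearMap.ker_eq_bot, LinearMap.ker_eq_bot']
    intro v hv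
    have h1 : N v = (-2 : F) • v := by
      have h3 : y v = -v := by
        rw [LinearMap.add_apply, Module.End.one_apply] at hv
        exact eq_neg_of_add_eq_zero_left hv
      rw [hNdef, LinearMap.sub_apply, Module.End.one_apply, h3, neg_smul, two_smul]
      abel
    have h4 : ∀ n : ℕ, (N ^ n) v = ((-2 : F) ^ n) • v := by
      intro n
      induction n with
      | zero => simp
      | succ n ih => rw [pow_succ', Module.End.mul_apply, ih, map_smul, h1, smul_smul, pow_succ]
    have h5 := h4 K
    rw [hK, LinearMap.zero_apply] at h5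
    rcases smul_eq_zero.mp h5.symm with h | h
    · exact absurd h (pow_ne_zero _ (neg_ne_zero.mpr h2))
    · exact h
  have hy'inj : Function.Injective y' := e.symm.injective
  have hUinj : Function.Injective U := by
    rw [hUdef]
    exact hy'inj.comp hy1inj
  have hUkinj : Function.Injective (U ^ k : Module.End F V) := by
    have : ∀ n : ℕ, Function.Injective (U ^ n : Module.End F V) := by
      intro n
      induction n with
      | zero => rw [pow_zero]; exact fun a b h => h
      | succ n ih =>
        rw [pow_succ]
        exact ih.comp hUinj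
    exact this k
  -- kernels
  have hker : LinearMap.ker (S ^ k) = LinearMap.ker (N ^ k) := by
    rw [← hUN, hcomm.mul_pow]
    ext v
    rw [LinearMap.mem_ker, LinearMap.mem_ker, Module.End.mul_apply]
    constructor
    · intro h
      apply hUkinj
      rw [h, map_zero]
    · intro h
      rw [h, map_zero]
  have hev := hskew (S ^ k) hSk
  have hrn := LinearMap.finrank_range_add_finrank_ker (S ^ k)
  rw [hker] at hrn
  unfold dk
  rw [← hrn]
  obtain ⟨t, ht⟩ := hev
  exact ⟨t + finrank F (LinearMap.ker (N ^ k)), by rw [ht]; ring⟩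

end Cfsg.Agent.Lib.Helper9.OPH
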