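import Mathlib
import Cfsg.Agent.Lib.Helper9.OPH.Defs
import Cfsg.Agent.Lib.Helper16.SpinG
import Cfsg.Agent.Lib.Helper10.OPHPARITYcore

set_option autoImplicit false
set_option linter.unusedVariables false
set_option linter.unusedSectionVars false

/-! Project OPH (S5996), row PARITYW (helper10): core, with the statement of row SKEWRANK (for `↥W`) as a hypothesis. -/

namespace Cfsg.Agent.Lib.Helper9.OPH

open Module Cfsg.Agent.Lib.helper14.JTa

variable {F : Type*} [Field F]

theorem ophparityw_core (h2 : (2 : F) ≠ 0) (d : ℕ) (x : Matrix (Fin d ⊕ Fin d) (Fin d ⊕ Fin d) F)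
    (hx : ∀ v, Cfsg.quadFormPlus d F (x.mulVec v) = Cfsg.quadFormPlus d F v)
    (W : Submodule F (Fin d ⊕ Fin d → F))
    (hW : Cfsg.Geo.IsNondegenerateOn (QuadraticMap.polar (Cfsg.quadFormPlus d F)) W)
    (hskew : ∀ (B : LinearMap.BilinForm F ↥W), (∀ u v, B u v = B v u) → (∀ u, (∀ v, B u v = 0) → u = 0) →
      ∀ S : Module.End F ↥W, (∀ u v, B (S u) v = - B u (S v)) → Even (finrank F (LinearMap.range S)))
    (hN : ∀ v ∈ W, (Matrix.toLin' x - 1) v ∈ W) (K : ℕ) (hK : (x - 1) ^ K = 0) (k : ℕ) (hk : Odd k) :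
    Even (finrank F W + dk ((Matrix.toLin' x - 1).restrict hN) k) := by
  classical
  have hxW : ∀ v ∈ W, Matrix.toLin' x v ∈ W := by
    intro v hv
    have h1 := W.add_mem (hN v hv) hv
    rw [LinearMap.sub_apply, Module.End.one_apply, sub_add_cancel] at h1
    exact h1
  let B' : LinearMap.BilinForm F ↥W :=
    LinearMap.BilinForm.restrict (QuadraticMap.polarBilin (Cfsg.Agent.Lib.Helper16.qfPlus d F)) W
  have hB' : ∀ u v : ↥W, B' u v = QuadraticMap.polar (Cfsg.quadFormPlus d F) (u : Fin d ⊕ Fin d → F) v := fun u v => rfl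
  have hsym : ∀ u v, B' u v = B' v u := by
    intro u v
    rw [hB', hB', QuadraticMap.polar_comm]
  have hnd : ∀ u, (∀ v, B' u v = 0) → u = 0 := by
    intro u hu
    by_contra hne
    have hne' : (u : Fin d ⊕ Fin d → F) ≠ 0 := fun h => hne (Subtype.ext h)
    obtain ⟨-, w, hwW, hw⟩ := hW u u.2 hne'
    exact hw (hu ⟨w, hwW⟩)
  let y : Module.End F ↥W := (Matrix.toLin' x).restrict hxW
  have hyv : ∀ u : ↥W, ((y u : ↥W) : Fin d ⊕ Fin d → F) = x.mulVec u := fun u => rfl
  have hy : ∀ u v, B' (y u) (y v) = B' u v := by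
    intro u v
    rw [hB', hB', hyv, hyv]
    unfold QuadraticMap.polar
    rw [← Matrix.mulVec_add, hx, hx, hx]
  have hy1 : y - 1 = (Matrix.toLin' x - 1).restrict hN := by
    apply LinearMap.ext
    intro u
    apply Subtype.ext
    rfl
  have hK' : (y - 1) ^ K = 0 := by
    rw [hy1, Module.End.pow_restrict K hN]
    apply LinearMap.ext
    intro u
    apply Subtype.ext
    rw [LinearMap.restrict_coe_apply]
    have h3 : (Matrix.toLin' x - 1) ^ K = Matrix.toLin' ((x - 1) ^ K) := by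
      rw [Matrix.toLin'_pow, map_sub, Matrix.toLin'_one]
      rfl
    rw [h3, hK, map_zero]
    rfl
  have := ophparity_core h2 B' hsym hnd (hskew B' hsym hnd) y hy K hK' k hk
  rw [hy1] at this
  exact this

end Cfsg.Agent.Lib.Helper9.OPH
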