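import Mathlib
import Cfsg.Agent.Lib.Helper9.OPH.Defs
import Cfsg.Agent.Lib.helper15.C3EEVEN

set_option autoImplicit false
set_option linter.unusedVariables false

/-! OPH row SKEWRANK, second copy by helper10 (name `ophskew_h10_skew_rank`, same statement as `oph_skew_rank`):
a skew-adjoint endomorphism for a non-degenerate symmetric form (`2 ≠ 0`) has even rank. -/

namespace Cfsg.Agent.Lib.Helper9.OPH

open Module Cfsg.Agent.Lib.helper14.JTa

variable {F : Type*} [Field F]

theorem ophskew_h10_skew_rank {V : Type*} [AddCommGroup V] [Module F V] [FiniteDimensional F V] (h2 : (2 : F) ≠ 0)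
    (B : LinearMap.BilinForm F V) (hsym : ∀ u v, B u v = B v u) (hnd : ∀ u, (∀ v, B u v = 0) → u = 0)
    (S : Module.End F V) (hS : ∀ u v, B (S u) v = - B u (S v)) :
    Even (finrank F (LinearMap.range S)) := by
  classical
  -- the alternating form `β u v = B u (S v)`
  let β : V →ₗ[F] V →ₗ[F] F := LinearMap.compl₂ B S
  have hβ : ∀ u v, β u v = B u (S v) := fun u v => rfl
  have hβ0 : ∀ x, β x x = 0 := by
    intro x
    rw [hβ]
    have h1 : B x (S x) = - B x (S x) := by
      calc B x (S x) = B (S x) x := hsym _ _
        _ = - B x (S x) := hS x x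
    have h3 : (2 : F) * B x (S x) = 0 := by
      have : B x (S x) + B x (S x) = 0 := by
        nth_rewrite 1 [h1]; exact neg_add_cancel _
      rw [two_mul]; exact this
    rcases mul_eq_zero.mp h3 with h | h
    · exact absurd h h2
    · exact h
  obtain ⟨C, hC⟩ := Submodule.exists_isCompl (LinearMap.ker S)
  have hCnd : ∀ x ∈ C, (∀ y ∈ C, β x y = 0) → x = 0 := by
    intro c hc hcc
    have hall : ∀ v, B c (S v) = 0 := by
      intro v
      have hv : v ∈ LinearMap.ker S ⊔ C := by rw [hC.sup_eq_top]; exact Submodule.mem_top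
      obtain ⟨k, hk, c', hc', rfl⟩ := Submodule.mem_sup.mp hv
      rw [map_add, LinearMap.mem_ker.mp hk, zero_add]
      exact hcc c' hc'
    have hSc : S c = 0 := by
      apply hnd
      intro v
      rw [hS, hall, neg_zero]
    have : c ∈ LinearMap.ker S ⊓ C := ⟨LinearMap.mem_ker.mpr hSc, hc⟩
    rw [hC.inf_eq_bot] at this
    exact (Submodule.mem_bot F).mp this
  have heven : Even (finrank F C) := Cfsg.Agent.Lib.Helper10.C3E.c3eeven_even β hβ0 C hCnd
  have h1 : finrank F (LinearMap.ker S) + finrank F C = finrank F V :=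
    Submodule.finrank_add_eq_of_isCompl hC
  have h2' : finrank F (LinearMap.range S) + finrank F (LinearMap.ker S) = finrank F V :=
    LinearMap.finrank_range_add_finrank_ker S
  have : finrank F (LinearMap.range S) = finrank F C := by omega
  rw [this]; exact heven

end Cfsg.Agent.Lib.Helper9.OPH
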