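import Mathlib
import Cfsg.Agent.Lib.Helper9.OPH.Defs
import Cfsg.Agent.Lib.Helper10.OPHPARITYcore
import Cfsg.Agent.Lib.Helper10.OPHPARITYWcore
import Cfsg.Agent.Lib.Helper10.OPHSKEWh10

set_option autoImplicit false
set_option linter.unusedVariables false
set_option linter.unusedSectionVars false

/-! Project OPH (S5996), rows PARITY + PARITYW (helper10), verbatim. -/

namespace Cfsg.Agent.Lib.Helper9.OPH

open Module Cfsg.Agent.Lib.helper14.JTa

variable {F : Type*} [Field F]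

theorem oph_parity {V : Type*} [AddCommGroup V] [Module F V] [FiniteDimensional F V] (h2 : (2 : F) ≠ 0)
    (B : LinearMap.BilinForm F V) (hsym : ∀ u v, B u v = B v u) (hnd : ∀ u, (∀ v, B u v = 0) → u = 0)
    (y : Module.End F V) (hy : ∀ u v, B (y u) (y v) = B u v) (K : ℕ) (hK : (y - 1) ^ K = 0) (k : ℕ) (hk : Odd k) :
    Even (finrank F V + dk (y - 1) k) :=
  ophparity_core h2 B hsym hnd (fun S hS => ophskew_h10_skew_rank h2 B hsym hnd S hS) y hy K hK k hk

theorem oph_parity_sub (h2 : (2 : F) ≠ 0) (d : ℕ) (x : Matrix (Fin d ⊕ Fin d) (Fin d ⊕ Fin d) F)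
    (hx : ∀ v, Cfsg.quadFormPlus d F (x.mulVec v) = Cfsg.quadFormPlus d F v)
    (W : Submodule F (Fin d ⊕ Fin d → F))
    (hW : Cfsg.Geo.IsNondegenerateOn (QuadraticMap.polar (Cfsg.quadFormPlus d F)) W)
    (hN : ∀ v ∈ W, (Matrix.toLin' x - 1) v ∈ W) (K : ℕ) (hK : (x - 1) ^ K = 0) (k : ℕ) (hk : Odd k) :
    Even (finrank F W + dk ((Matrix.toLin' x - 1).restrict hN) k) :=
  ophparityw_core h2 d x hx W hW (fun B hsym hnd S hS => ophskew_h10_skew_rank h2 B hsym hnd S hS) hN K hK k hk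

end Cfsg.Agent.Lib.Helper9.OPH
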