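import Mathlib
import Cfsg.Prelude.Def_GeometricClasses
import Cfsg.Agent.Lib.Helper19.OU.Defs

set_option autoImplicit false
set_option linter.unusedVariables false
set_option linter.unusedSectionVars false

/-!
# Project OU, piece EXSS (helper10) : `ex_sing_solve`

Prescribe `f (a i) w = c i` for independent `a i` with a singular `w`, when some `a j` is singular, orthogonal to all `a i`, and
`c j ≠ 0`: `z` from `Helper28.HForm.lin_solve`, `w = z - (Q z / c j) • a j`.
-/

namespace Cfsg.Agent.Lib.Helper19.OU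

open Matrix Cfsg.Agent.Lib.Helper28.HForm Cfsg.Agent.Lib.Helper28.OGen
  Cfsg.Agent.Lib.Helper28.OMax Cfsg.Agent.Lib.Helper28.OQ Cfsg.Agent.Lib.Helper28.OMax2
  Cfsg.Agent.Lib.Helper28.OIwa Cfsg.Agent.Lib.Helper28.OPair

variable {n : ℕ} {F : Type*} [Field F] {Q : (Fin n → F) → F}
  {f : (Fin n → F) → (Fin n → F) → F} {θ : Matrix (Fin n) (Fin n) F} {t N : F}
  {G M : Subgroup (Matrix.GeneralLinearGroup (Fin n) F)}

/-- EXSS [S] : prescribe `f (a i) w = c i` for independent `a i` with a singular `w`, when some `a j` is singular, orthogonal to all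
`a i`, and `c j ≠ 0`. -/
theorem ex_sing_solve (hq : QF Q f) {r : ℕ} (a : Fin r → (Fin n → F)) (ha : LinearIndependent F a)
    (c : Fin r → F) (j : Fin r) (hj : c j ≠ 0) (hQj : Q (a j) = 0) (hfj : ∀ i, f (a i) (a j) = 0) :
    ∃ w, Q w = 0 ∧ ∀ i, f (a i) w = c i := by
  have hf := hq.sym
  obtain ⟨z, hz⟩ := lin_solve hf a ha c
  obtain ⟨d, hd⟩ : ∃ d : F, d = -(Q z / c j) := ⟨_, rfl⟩
  refine ⟨z + d • a j, ?_, fun i => ?_⟩
  · rw [hq.polar, hq.smul, hQj, mul_zero, add_zero, f_smul_right hf, hz j, hd]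
    simp only [RingEquiv.refl_apply]
    field_simp
    ring
  · rw [f_add_right hf, f_smul_right hf, hfj i, mul_zero, add_zero, s_symm hf, hz i]

end Cfsg.Agent.Lib.Helper19.OU
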