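import Cfsg.Agent.Lib.Helper10.Sec16A
import Cfsg.Agent.Lib.Helper10.TypeP
import Cfsg.Agent.Lib.Helper18.NaFinishA
import Cfsg.Agent.Lib.Helper1.BG15.SigmaDecomp

/-!
# Section 16 assembly, part B: the type `P` data `(K, U', K*)` of a maximal subgroup with `K ≠ 1`
-/

set_option autoImplicit false
open Cfsg

namespace Cfsg.Agent.Lib.Helper10.Sec16

variable {G : Type*} [Group G] [Finite G]

/-- `|K|` is coprime to `|M : K|` -/
theorem K_hall_coprime {M K : Subgroup G} (hK : Cfsg.IsPiHallOf (Cfsg.kappa M) K M) :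
    (Nat.card K).Coprime (K.relIndex M) := by
  apply Nat.coprime_of_dvd
  intro p hp h1 h2
  exact hK.2.2 p hp (hK.2.1 p hp h1) h2

/-- `κ(M) ≠ ∅` when `K ≠ 1` -/
theorem kappa_nonempty {M K : Subgroup G} (hK : Cfsg.IsPiHallOf (Cfsg.kappa M) K M) (hK1 : K ≠ ⊥) :
    (Cfsg.kappa M).Nonempty := by
  have hc : Nat.card K ≠ 1 := fun h => hK1 (Subgroup.card_eq_one.mp h)
  obtain ⟨p, hp, hpd⟩ := Nat.exists_prime_and_dvd hc
  exact ⟨p, hK.2.1 p hp hpd⟩

/-- `U ∩ M_σ = 1` -/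
theorem U_inf_sigma {M K U : Subgroup G} (hKU : Cfsg.IsSigmaDecomposition M K U) :
    U ⊓ Cfsg.sigmaCore M = ⊥ := by
  rw [eq_bot_iff, ← hKU.compl.2.2.1]
  exact inf_le_inf_left _ le_sup_right

/-- the order of `U M_σ` -/
theorem card_U_sigma {M K U : Subgroup G} (hKU : Cfsg.IsSigmaDecomposition M K U) :
    Nat.card ↥(U ⊔ Cfsg.sigmaCore M) = Nat.card U * Nat.card (Cfsg.sigmaCore M) :=
  Cfsg.Agent.Lib.Helper1.BG12b.card_sup_of_inf_eq_bot
    (hKU.compl.1.trans (Cfsg.Agent.Lib.Helper1.BG12.le_normalizer_sigmaCore M)) (U_inf_sigma hKU)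

/-- `|M| = |U M_σ| |K|` -/
theorem card_M_eq (hG : Cfsg.IsMinSimpleOddOrder G) {M K U : Subgroup G} (hM : IsCoatom M)
    (hKU : Cfsg.IsSigmaDecomposition M K U) :
    Nat.card ↥(U ⊔ Cfsg.sigmaCore M) * Nat.card K = Nat.card M := by
  have h1 := Cfsg.Agent.Lib.Helper1.BG15.card_of_isComplIn hKU.compl
  have h2 : Nat.card ↥(K ⊔ Cfsg.sigmaCore M) = Nat.card K * Nat.card (Cfsg.sigmaCore M) :=
    Cfsg.Agent.Lib.Helper1.BG12b.card_sup_of_inf_eq_bot
      (hKU.hall.1.trans (Cfsg.Agent.Lib.Helper1.BG12.le_normalizer_sigmaCore M))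
      (K_inf_sigma hG hM hKU.hall)
  rw [h1, h2, card_U_sigma hKU]
  ring

/-- `K` is a complement of `U M_σ` in `M` -/
theorem compl_K (hG : Cfsg.IsMinSimpleOddOrder G) {M K U : Subgroup G} (hM : IsCoatom M)
    (hKU : Cfsg.IsSigmaDecomposition M K U) :
    Cfsg.IsComplIn (U ⊔ Cfsg.sigmaCore M) K M := by
  have hcard := card_M_eq hG hM hKU
  have hle : U ⊔ Cfsg.sigmaCore M ≤ M :=
    sup_le hKU.compl.1 (Cfsg.Agent.Lib.Helper28.BGt.sigmaCore_le M)
  apply Cfsg.Agent.Lib.Helper18.NaFinish.isComplIn_of_card hle hKU.hall.1 _ hcard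
  apply disjoint_iff.mp
  apply Subgroup.disjoint_of_coprime_natCard
  have hrel : K.relIndex M = Nat.card ↥(U ⊔ Cfsg.sigmaCore M) := by
    have h : Nat.card ↥K * K.relIndex M = Nat.card ↥M := by
      have := Subgroup.relIndex_mul_relIndex ⊥ K M bot_le hKU.hall.1
      rwa [Subgroup.relIndex_bot_left, Subgroup.relIndex_bot_left] at this
    have hKpos : 0 < Nat.card K := Nat.card_pos
    rw [← hcard, mul_comm] at h
    exact Nat.eq_of_mul_eq_mul_right hKpos h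
  rw [← hrel]
  exact (K_hall_coprime hKU.hall).symm

/-- the data of type `P` attached to `M = K U M_σ` with `K ≠ 1` -/
theorem typeP_of_kappa (hG : Cfsg.IsMinSimpleOddOrder G) {M K U U' : Subgroup G} (hM : IsCoatom M)
    (hKU : Cfsg.IsSigmaDecomposition M K U) (hK1 : K ≠ ⊥)
    (h56 : ⁅⁅M, M⁆, ⁅M, M⁆⁆ ≤ Cfsg.fittingOf M ∧
      Cfsg.fittingOf M =
        (M ⊓ Subgroup.centralizer (Cfsg.fittingHallOf M : Set G)) ⊔ Cfsg.fittingHallOf M ∧
      ((Cfsg.kappa M).Nonempty → Cfsg.fittingOf M ≤ ⁅M, M⁆))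
    (hKsF : Cfsg.sigmaCore M ⊓ Subgroup.centralizer (K : Set G) ≤ Cfsg.fittingHallOf M)
    (hFnc : ¬ IsCyclic (Cfsg.fittingHallOf M))
    (hU'nil : Group.IsNilpotent U') (hU'norm : K ≤ Subgroup.normalizer (U' : Set G))
    (hU'compl : Cfsg.IsComplIn (Cfsg.fittingHallOf M) U' ⁅M, M⁆) :
    Cfsg.IsTypePWith M K U' (Cfsg.sigmaCore M ⊓ Subgroup.centralizer (K : Set G)) := by
  obtain ⟨hder, hKs2⟩ := Cfsg.Agent.S1365.result hG M hM K U hKU hK1
  have hcompl : Cfsg.IsComplIn ⁅M, M⁆ K M := by rw [hder]; exact compl_K hG hM hKU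
  have hKsder : Cfsg.sigmaCore M ⊓ Subgroup.centralizer (K : Set G) ≤ ⁅M, M⁆ := by
    rw [hder]; exact inf_le_left.trans le_sup_right
  refine ⟨hK1, hKU.cyclic, K_hall_coprime hKU.hall, hcompl, hU'nil, hU'norm, hU'compl, hFnc,
    ?_, ?_, h56.2.2 (kappa_nonempty hKU.hall hK1), le_inf hKsF hKs2, ?_,
    selfNormalizing hG hM hKU hK1⟩
  · rw [sup_comm, ← h56.2.1]; exact h56.1
  · rw [sup_comm, ← h56.2.1]
  · intro x hx hx1
    have h54 := (Cfsg.Agent.S1354.result hG M hM K hKU.cyclic hKU.hall).2 hK1 x hx hx1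
    apply le_antisymm
    · intro y hy
      have hyM : y ∈ M ⊓ Subgroup.centralizer ({x} : Set G) :=
        ⟨(Subgroup.commutator_le_self M) hy.1, hy.2⟩
      rw [h54] at hyM
      obtain ⟨k, hk, s, hs, rfl⟩ := Cfsg.Agent.Lib.Helper10.exists_mul_of_mem_sup K _
        (inf_le_right.trans (Subgroup.centralizer_le_normalizer _)) y hyM
      have hk1 : k ∈ ⁅M, M⁆ ⊓ K := by
        refine ⟨?_, hk⟩
        have := Subgroup.mul_mem _ hy.1 (Subgroup.inv_mem _ (hKsder hs))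
        rwa [mul_inv_cancel_right] at this
      rw [hcompl.2.2.1, Subgroup.mem_bot] at hk1
      rw [hk1, one_mul]; exact hs
    · apply le_inf hKsder
      intro s hs
      rw [Subgroup.mem_centralizer_iff]
      intro y hy
      rw [Set.mem_singleton_iff] at hy
      subst hy
      exact Subgroup.mem_centralizer_iff.mp hs.2 y hx

end Cfsg.Agent.Lib.Helper10.Sec16
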