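import Cfsg.Agent.Lib.Helper10.Sec16B
import Cfsg.Agent.Lib.Helper1.BG15.URegular
import Cfsg.Agent.Lib.Helper13.BG14M
import Cfsg.Agent.Lib.Helper11.BenderS
import Cfsg.Agent.Lib.Helper28.BGtJ

/-!
# Section 16 assembly, part C: from type `P` data back to `κ(M) ≠ ∅`
-/

set_option autoImplicit false
open Cfsg

namespace Cfsg.Agent.Lib.Helper10.Sec16

open Cfsg.Agent.Lib.Helper18

variable {G : Type*} [Group G] [Finite G]

/-- `M_σ ≤ M'` -/
theorem sigmaCore_le_derived (hG : Cfsg.IsMinSimpleOddOrder G) {M : Subgroup G} (hM : IsCoatom M) :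
    Cfsg.sigmaCore M ≤ ⁅M, M⁆ := by
  rw [← Subgroup.map_subtype_commutator M]
  unfold Cfsg.sigmaCore
  exact Subgroup.map_mono (Cfsg.Agent.Lib.Helper11.BenderS.sigmaCore_le_commutator hG M hM)

/-- a cyclic Hall subgroup of `M` forces `p`-rank one at its primes -/
theorem pRankLE_one_of_cyclic_hall {M W : Subgroup G} (hWM : W ≤ M) (hWc : IsCyclic W)
    (hHall : (Nat.card W).Coprime (W.relIndex M)) {q : ℕ} [hq : Fact q.Prime]
    (hqW : q ∣ Nat.card W) : Cfsg.PRankLE q 1 M := by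
  obtain ⟨Q₀⟩ := (inferInstance : Nonempty (Sylow q ↥W))
  have hS := isSylowIn_of_sylow Q₀
  have hSM : IsSylowIn q ((Q₀ : Subgroup ↥W).map W.subtype) M := by
    refine ⟨hS.1.trans hWM, hS.2.1, ?_⟩
    rw [← Subgroup.relIndex_mul_relIndex _ W M hS.1 hWM]
    intro hd
    rcases (Nat.Prime.dvd_mul hq.out).mp hd with h | h
    · exact hS.2.2 h
    · exact hq.out.one_lt.ne' (Nat.eq_one_of_dvd_coprimes hHall hqW h)
  apply Cfsg.Agent.Lib.Helper28.BGt.pRankLE_one_of_cyclic_sylow hSM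
  haveI := hWc
  exact Subgroup.isCyclic_of_le hS.1

/-- a prime of a Hall complement `W₁` of `M'` is not in `σ(M)` -/
theorem not_sigma_of_compl (hG : Cfsg.IsMinSimpleOddOrder G) {M W₁ : Subgroup G} (hM : IsCoatom M)
    (hc : Cfsg.IsComplIn ⁅M, M⁆ W₁ M) (hHall : (Nat.card W₁).Coprime (W₁.relIndex M))
    {q : ℕ} (hq : q.Prime) (hqW : q ∣ Nat.card W₁) : q ∉ Cfsg.sigma M := by
  intro hqσ
  have hcard := Cfsg.Agent.Lib.Helper1.BG15.card_of_isComplIn hc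
  have hrel : W₁.relIndex M = Nat.card ↥⁅M, M⁆ := by
    have h : Nat.card ↥W₁ * W₁.relIndex M = Nat.card ↥M := by
      have := Subgroup.relIndex_mul_relIndex ⊥ W₁ M bot_le hc.2.1
      rwa [Subgroup.relIndex_bot_left, Subgroup.relIndex_bot_left] at this
    have hpos : 0 < Nat.card W₁ := Nat.card_pos
    rw [hcard, mul_comm] at h
    exact Nat.eq_of_mul_eq_mul_right hpos h
  rw [hrel] at hHall
  -- `q` divides `|M_σ|`
  have hσ := (Cfsg.Agent.Lib.Helper11.BenderO.sigma_hall hG M hM).1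
  have hqσc : q ∣ Nat.card (Cfsg.sigmaCore M) := by
    have h1 : Nat.card (Cfsg.sigmaCore M) * (Cfsg.sigmaCore M).relIndex M = Nat.card M := by
      have := Subgroup.relIndex_mul_relIndex ⊥ (Cfsg.sigmaCore M) M bot_le hσ.1
      rwa [Subgroup.relIndex_bot_left, Subgroup.relIndex_bot_left] at this
    have h2 : q ∣ Nat.card M := hqσ.2.1
    rw [← h1] at h2
    rcases (Nat.Prime.dvd_mul hq).mp h2 with h | h
    · exact h
    · exact absurd h (hσ.2.2 q hq hqσ)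
  have hqd : q ∣ Nat.card ↥⁅M, M⁆ :=
    hqσc.trans (Subgroup.card_dvd_of_le (sigmaCore_le_derived hG hM))
  exact hq.one_lt.ne' (Nat.eq_one_of_dvd_coprimes hHall hqW hqd)

/-- type `P` data force `κ(M) ≠ ∅` -/
theorem K_ne_bot_of_typeP (hG : Cfsg.IsMinSimpleOddOrder G) {M K U W₁ U' W₂ : Subgroup G}
    (hM : IsCoatom M) (hKU : Cfsg.IsSigmaDecomposition M K U)
    (hP : Cfsg.IsTypePWith M W₁ U' W₂) : K ≠ ⊥ := by
  intro hK
  have hc1 : Nat.card W₁ ≠ 1 := fun h => hP.W₁_ne (Subgroup.card_eq_one.mp h)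
  obtain ⟨q, hq, hqW⟩ := Nat.exists_prime_and_dvd hc1
  haveI : Fact q.Prime := ⟨hq⟩
  obtain ⟨x, hxo⟩ := exists_prime_orderOf_dvd_card' (G := ↥W₁) q hqW
  obtain ⟨y, hy1⟩ := (Subgroup.ne_bot_iff_exists_ne_one).mp hP.selfNormalizing.2.1
  have hyσ : (y : G) ∈ Cfsg.sigmaCore M :=
    Cfsg.Agent.Lib.Helper13.BG14.bg14_fittingHallOf_le_sigmaCore hG hM (hP.W₂_le y.2).1
  have hqσ := not_sigma_of_compl hG hM hP.W₁_compl hP.W₁_hall hq hqW
  have hr1 := pRankLE_one_of_cyclic_hall hP.W₁_compl.2.1 hP.W₁_cyclic hP.W₁_hall hqW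
  have hxo' : orderOf (x : G) = q := by rw [Subgroup.orderOf_coe]; exact hxo
  have hqκ : q ∈ Cfsg.kappa M :=
    Cfsg.Agent.Lib.Helper1.BG15.mem_kappa_of_nonregular hG hM hq hqσ hr1
      (hP.W₁_compl.2.1 x.2) hxo' hyσ (fun h => hy1 (Subtype.ext h))
      (hP.selfNormalizing.2.2.2.1 x x.2 y y.2)
  -- but `K = ⊥` is a Hall `κ(M)`-subgroup
  have h := hKU.hall.2.2 q hq hqκ
  rw [hK, Subgroup.relIndex_bot_left] at h
  exact h hqκ.2.1

end Cfsg.Agent.Lib.Helper10.Sec16
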