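import Cfsg.Agent.Lib.Helper10.Sec16H

/-!
# Section 16 assembly, part I: the general type `P` data for `K ≠ 1`
-/

set_option autoImplicit false
open Cfsg

namespace Cfsg.Agent.Lib.Helper10.Sec16

open Cfsg.Agent.Lib.Helper18 Cfsg.Agent.Lib.Helper10

variable {G : Type*} [Group G] [Finite G]

/-- `M` normalizes `M'` -/
theorem le_normalizer_derived (M : Subgroup G) :
    M ≤ Subgroup.normalizer ((⁅M, M⁆ : Subgroup G) : Set G) := by
  rw [← Subgroup.map_subtype_commutator M]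
  exact Cfsg.Agent.Lib.Helper1.BG12.map_normal_le_normalizer M (commutator ↥M)

/-- `M_F` is nilpotent (as a subgroup of `G`) -/
theorem fittingHallOf_nilpotent (M : Subgroup G) : Group.IsNilpotent (Cfsg.fittingHallOf M) := by
  unfold Cfsg.fittingHallOf
  haveI := Cfsg.Agent.Lib.Helper11.fittingHall_isNilpotent (G := ↥M)
  exact Group.nilpotent_of_mulEquiv
    (Subgroup.equivMapOfInjective _ M.subtype M.subtype_injective)

/-- a complement of `M_F` in `M'` is nilpotent when `M'/M_F` is -/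
theorem nilpotent_of_compl {M U' : Subgroup G}
    (hc : Cfsg.IsComplIn (Cfsg.fittingHallOf M) U' ⁅M, M⁆)
    (hnil : Group.IsNilpotent
      ↥((commutator ↥M).map (QuotientGroup.mk' (Cfsg.fittingHall ↥M)))) :
    Group.IsNilpotent U' := by
  have hU'M : U' ≤ M := hc.2.1.trans (Subgroup.commutator_le_self M)
  have hmem : ∀ u : ↥U', (QuotientGroup.mk' (Cfsg.fittingHall ↥M)) (Subgroup.inclusion hU'M u) ∈
      (commutator ↥M).map (QuotientGroup.mk' (Cfsg.fittingHall ↥M)) := by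
    intro u
    refine ⟨Subgroup.inclusion hU'M u, ?_, rfl⟩
    have h1 : (u : G) ∈ ⁅M, M⁆ := hc.2.1 u.2
    rw [← Subgroup.map_subtype_commutator M] at h1
    obtain ⟨y, hy, hyu⟩ := h1
    have : y = Subgroup.inclusion hU'M u := Subtype.ext hyu
    rw [← this]; exact hy
  let f : ↥U' →* ↥((commutator ↥M).map (QuotientGroup.mk' (Cfsg.fittingHall ↥M))) :=
    ((QuotientGroup.mk' (Cfsg.fittingHall ↥M)).comp (Subgroup.inclusion hU'M)).codRestrict _ hmem
  haveI := hnil
  apply Subgroup.isNilpotent_of_ker_le_center f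
  intro u hu
  rw [MonoidHom.mem_ker] at hu
  have h1 : (QuotientGroup.mk' (Cfsg.fittingHall ↥M)) (Subgroup.inclusion hU'M u) = 1 := by
    have := congrArg Subtype.val hu
    simpa [f] using this
  rw [QuotientGroup.mk'_apply, QuotientGroup.eq_one_iff] at h1
  have h2 : (u : G) ∈ Cfsg.fittingHallOf M := (mem_fittingHallOf_iff (hU'M u.2)).mpr h1
  have h3 : (u : G) ∈ Cfsg.fittingHallOf M ⊓ U' := ⟨h2, u.2⟩
  rw [hc.2.2.1, Subgroup.mem_bot] at h3
  have : u = 1 := Subtype.ext h3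
  rw [this]; exact Subgroup.one_mem _

/-- a `K`-invariant nilpotent complement of `M_F` in `M'` -/
theorem exists_compl (hG : Cfsg.IsMinSimpleOddOrder G) {M K : Subgroup G} (hM : IsCoatom M)
    (hK : Cfsg.IsPiHallOf (Cfsg.kappa M) K M)
    (hnil : Group.IsNilpotent
      ↥((commutator ↥M).map (QuotientGroup.mk' (Cfsg.fittingHall ↥M)))) :
    ∃ U' : Subgroup G, Cfsg.IsComplIn (Cfsg.fittingHallOf M) U' ⁅M, M⁆ ∧
      K ≤ Subgroup.normalizer (U' : Set G) ∧ Group.IsNilpotent U' := by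
  have hFσ := Cfsg.Agent.Lib.Helper13.BG14.bg14_fittingHallOf_le_sigmaCore hG hM
  have hFd : Cfsg.fittingHallOf M ≤ ⁅M, M⁆ := hFσ.trans (sigmaCore_le_derived hG hM)
  have hdM : ⁅M, M⁆ ≤ M := Subgroup.commutator_le_self M
  have hMF := le_normalizer_fittingHallOf M
  haveI := fittingHallOf_nilpotent M
  have hcop : (Nat.card (Cfsg.fittingHallOf M)).Coprime ((Cfsg.fittingHallOf M).relIndex ⁅M, M⁆) := by
    apply Nat.Coprime.coprime_dvd_right _ (fittingHallOf_coprime M)
    rw [← Subgroup.relIndex_mul_relIndex _ _ _ hFd hdM]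
    exact dvd_mul_right _ _
  have hcopR : (Nat.card K).Coprime (Nat.card (Cfsg.fittingHallOf M)) :=
    Nat.Coprime.coprime_dvd_right (Subgroup.card_dvd_of_le hFσ)
      (Cfsg.Agent.Lib.Helper13.BG14.bg14_coprime_K_sigma hG hM hK)
  obtain ⟨D, hDL, hinf, hsup, hRD, -⟩ := exists_invariant_complement' (Cfsg.fittingHallOf M)
    ⁅M, M⁆ K inferInstance hFd (hdM.trans hMF) (hK.1.trans hMF)
    (hK.1.trans (le_normalizer_derived M)) hcop hcopR
  have hc : Cfsg.IsComplIn (Cfsg.fittingHallOf M) D ⁅M, M⁆ := by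
    refine ⟨hFd, hDL, hinf, ?_⟩
    intro m hm
    rw [← hsup] at hm
    exact exists_mul_of_mem_sup _ _ ((hDL.trans hdM).trans hMF) m hm
  exact ⟨D, hc, hRD, nilpotent_of_compl hc hnil⟩

end Cfsg.Agent.Lib.Helper10.Sec16
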