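import Mathlib
import Cfsg.Agent.Lib.Helper10.PPairA
import Cfsg.Agent.Lib.Helper10.TypeP
import Cfsg.Agent.Lib.Helper10.SigmaJsubA
import Cfsg.Agent.Lib.Helper13.BG14M
import Cfsg.Agent.Lib.Helper28.BGtU

set_option autoImplicit false

/-! # `K*` and `M_F` (helper10)

`K* ≤ M_F` implies that `M_F` is not cyclic (B & G, Theorem 15.2 / the definition of type `P`). -/

namespace Cfsg.Agent.Lib.Helper10.KStarMF

open Cfsg Cfsg.Agent.Lib.Helper18 Cfsg.Agent.Lib.Helper28.BGt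

variable {G : Type*} [Group G] [Finite G]

/-- `K* ≤ M_F` when `|K*|` is a prime dividing `|M_F|` -/
theorem kstar_le_of_prime {M X : Subgroup G} (hXM : X ≤ M) (hq : (Nat.card X).Prime)
    (hqd : Nat.card X ∣ Nat.card (Cfsg.fittingHallOf M)) : X ≤ Cfsg.fittingHallOf M := by
  apply Cfsg.Agent.Lib.Helper1.BG12.le_of_normal_coprime M (Cfsg.fittingHallOf M) X
    (Cfsg.Agent.Lib.Helper10.fittingHallOf_le M)
    (Cfsg.Agent.Lib.Helper10.le_normalizer_fittingHallOf M) hXM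
  exact Nat.Coprime.coprime_dvd_left hqd (Cfsg.Agent.Lib.Helper10.fittingHallOf_coprime M)

/-- **`M_F` is not cyclic** when it contains `K*` -/
theorem fittingHall_not_cyclic (hG : Cfsg.IsMinSimpleOddOrder G) {M K : Subgroup G}
    (hM : IsCoatom M) (hK : Cfsg.IsPiHallOf (Cfsg.kappa M) K M) (hK1 : K ≠ ⊥)
    (hle : Cfsg.sigmaCore M ⊓ Subgroup.centralizer (K : Set G) ≤ Cfsg.fittingHallOf M) :
    ¬ IsCyclic ↥(Cfsg.fittingHallOf M) := by
  intro hcyc
  have hKs1 := Cfsg.Agent.Lib.Helper13.BG14.bg14_kstar_ne_bot hG hM hK hK1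
  obtain ⟨q, Q, hq, hQK, hQc⟩ := Cfsg.Agent.Lib.Helper18.KStar.exists_prime_card_le hKs1
  haveI : Fact q.Prime := ⟨hq⟩
  have hFM := Cfsg.Agent.Lib.Helper10.fittingHallOf_le M
  have hFσ := Cfsg.Agent.Lib.Helper13.BG14.bg14_fittingHallOf_le_sigmaCore hG hM
  have hFn := Cfsg.Agent.Lib.Helper10.le_normalizer_fittingHallOf M
  have hcomm : ∀ a ∈ Cfsg.fittingHallOf M, ∀ b ∈ Cfsg.fittingHallOf M, a * b = b * a := by
    intro a ha b hb
    obtain ⟨g, hg⟩ := hcyc.exists_generator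
    obtain ⟨i, hi⟩ := Subgroup.mem_zpowers_iff.mp (hg ⟨a, ha⟩)
    obtain ⟨j, hj⟩ := Subgroup.mem_zpowers_iff.mp (hg ⟨b, hb⟩)
    have ha' : a = (g : G) ^ i := by
      have := congrArg Subtype.val hi
      simpa using this.symm
    have hb' : b = (g : G) ^ j := by
      have := congrArg Subtype.val hj
      simpa using this.symm
    rw [ha', hb']
    exact (Commute.zpow_zpow_self (g : G) i j).eq
  obtain ⟨S₀⟩ : Nonempty (Sylow q ↥(Cfsg.fittingHallOf M)) := inferInstance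
  have hS := isSylowIn_of_sylow S₀
  obtain ⟨S, hSdef⟩ : ∃ S : Subgroup G,
      S = (S₀ : Subgroup ↥(Cfsg.fittingHallOf M)).map (Cfsg.fittingHallOf M).subtype := ⟨_, rfl⟩
  rw [← hSdef] at hS
  have hQF : Q ≤ Cfsg.fittingHallOf M := hQK.trans hle
  have hQp : IsPGroup q Q := IsPGroup.of_card (n := 1) (by rw [hQc, pow_one])
  have hQ1 : Q ≠ ⊥ := ne_bot_of_card_prime' hq hQc
  -- `Q ≤ S`
  have hQS : Q ≤ S := by
    obtain ⟨h, hh, hconj⟩ := hS.exists_conj_le hQF hQp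
    intro y hy
    have h1 : h * y * h⁻¹ ∈ S := hconj (conj_mem_conjSub hy)
    have h2 : h * y * h⁻¹ = y := by
      rw [hcomm h hh y (hQF hy)]; group
    rwa [h2] at h1
  -- `q ∣ |M_F|` and `S` is a Sylow `q`-subgroup of `M_σ`
  have hqF : q ∣ Nat.card (Cfsg.fittingHallOf M) := by
    rw [← hQc]; exact Subgroup.card_dvd_of_le hQF
  have hSσ : IsSylowIn q S (Cfsg.sigmaCore M) := by
    refine ⟨hS.le.trans hFσ, hS.isPGroup, ?_⟩
    intro hd
    have h1 : S.relIndex (Cfsg.sigmaCore M) ∣ S.relIndex M :=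
      Dvd.intro _ (Subgroup.relIndex_mul_relIndex S (Cfsg.sigmaCore M) M (hS.le.trans hFσ)
        (sigmaCore_le M))
    have h2 : S.relIndex M = S.relIndex (Cfsg.fittingHallOf M) * (Cfsg.fittingHallOf M).relIndex M :=
      (Subgroup.relIndex_mul_relIndex S (Cfsg.fittingHallOf M) M hS.le hFM).symm
    rw [h2] at h1
    rcases (Nat.Prime.dvd_mul hq).mp (hd.trans h1) with h | h
    · exact hS.not_dvd h
    · exact (Nat.Prime.coprime_iff_not_dvd hq).mp
        (Nat.Coprime.coprime_dvd_left hqF (Cfsg.Agent.Lib.Helper10.fittingHallOf_coprime M)) h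
  -- `K` normalizes `S`
  have hKS : K ≤ Subgroup.normalizer (S : Set G) := by
    intro k hk
    apply mem_normalizer_of_conjSub_le
    have hkn : k ∈ Subgroup.normalizer (Cfsg.fittingHallOf M : Set G) := hFn (hK.1 hk)
    have h1 : conjSub k S ≤ Cfsg.fittingHallOf M := by
      have := conjSub_mono (g := k) hS.le
      rwa [conjSub_eq_of_mem_normalizer hkn] at this
    have h2 := Cfsg.Agent.Lib.Helper10.SigmaJsubA.eq_of_card_eq_of_le_cyclic hcyc h1 hS.le
      (card_conjSub k S)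
    rw [h2]
  have hScyc : IsCyclic S := by
    haveI := hcyc
    exact Subgroup.isCyclic_of_le hS.le
  have hSr1 : Cfsg.PRankLE q 1 ↥S :=
    pRankLE_one_of_cyclic_sylow (M := S) (S := S) ⟨le_refl _, hS.isPGroup, by
      rw [Subgroup.relIndex_self]
      exact hq.one_lt.ne' ∘ Nat.dvd_one.mp⟩ hScyc
  have hSr : Cfsg.PRankLE q 2 ↥S := by
    intro A hAc hAp
    exact (hSr1 A hAc hAp).trans (Nat.pow_le_pow_right hq.pos (by norm_num))
  have hN : ∀ X : Subgroup G, X ≤ K → (Nat.card X).Prime →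
      M ⊓ Subgroup.normalizer (X : Set G) =
        K ⊔ (Cfsg.sigmaCore M ⊓ Subgroup.centralizer (K : Set G)) :=
    fun X hX hp => ((Cfsg.Agent.S1430.result hG M hM K hK hK1).2.2 X hX hp).1
  exact fourteen_three_core hG hM hK hK1 hN hSσ hKS hQS hQ1 (hQK.trans inf_le_right)
    (fun a ha b hb => hcomm a (hS.le ha) b (hS.le hb)) hSr

end Cfsg.Agent.Lib.Helper10.KStarMF
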