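import Cfsg.Agent.Lib.Helper10.Sec16I

/-!
# Section 16 assembly, part J: Types II, III, IV — the "if" directions
-/

set_option autoImplicit false
open Cfsg

namespace Cfsg.Agent.Lib.Helper10.Sec16

open Cfsg.Agent.Lib.Helper18 Cfsg.Agent.Lib.Helper10

variable {G : Type*} [Group G] [Finite G]

/-- `M_σ = M_F` when `M_σ ≤ F(M)` -/
theorem sigmaCore_eq_of_le_fitting (hG : Cfsg.IsMinSimpleOddOrder G) {M : Subgroup G}
    (hM : IsCoatom M) (hσF : Cfsg.sigmaCore M ≤ Cfsg.fittingOf M) :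
    Cfsg.sigmaCore M = Cfsg.fittingHallOf M := by
  have hnil : Group.IsNilpotent (Cfsg.sigmaCore M) := by
    have hFn : Group.IsNilpotent (Cfsg.fittingOf M) := by
      unfold Cfsg.fittingOf
      haveI := Cfsg.Agent.Lib.Helper1.fittingSubgroup_nilpotent (G := ↥M)
      exact Group.nilpotent_of_mulEquiv
        (Subgroup.equivMapOfInjective _ M.subtype M.subtype_injective)
    exact Cfsg.Agent.Lib.Helper11.isNilpotent_of_le' hσF hFn
  exact Cfsg.Agent.Lib.Helper13.BG14.bg14_sigmaCore_eq_fittingHallOf hG hM hnil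

/-- an abelian subgroup is nilpotent -/
theorem nilpotent_of_isMulCommutative {U : Subgroup G} (h : IsMulCommutative U) :
    Group.IsNilpotent U := by
  let _ : CommGroup U := { (inferInstance : Group U) with mul_comm := h.is_comm.comm }
  infer_instance

/-- **Type II**, the "if" direction -/
theorem typeII_of (hG : Cfsg.IsMinSimpleOddOrder G) {M K U : Subgroup G} (hM : IsCoatom M)
    (hKU : Cfsg.IsSigmaDecomposition M K U) (hK1 : K ≠ ⊥) (hU1 : U ≠ ⊥)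
    (h56 : ⁅⁅M, M⁆, ⁅M, M⁆⁆ ≤ Cfsg.fittingOf M ∧
      Cfsg.fittingOf M =
        (M ⊓ Subgroup.centralizer (Cfsg.fittingHallOf M : Set G)) ⊔ Cfsg.fittingHallOf M ∧
      ((Cfsg.kappa M).Nonempty → Cfsg.fittingOf M ≤ ⁅M, M⁆))
    (h63 : IsMulCommutative U ∧ ¬ Subgroup.normalizer (U : Set G) ≤ M)
    (hTF : Cfsg.IsOfTypeF ↥⁅M, M⁆)
    (hFeq : Cfsg.fittingHallOf ⁅M, M⁆ = Cfsg.fittingHallOf M) :
    Cfsg.IsOfTypeII M := by
  obtain ⟨hKp, hTI, hσF⟩ := Cfsg.Agent.S1372.result hG M hM K U hKU hK1 hU1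
  have hFσ := sigmaCore_eq_of_le_fitting hG hM hσF
  have hder := (Cfsg.Agent.S1365.result hG M hM K U hKU hK1).1
  have hUN : U ≤ Subgroup.normalizer (Cfsg.sigmaCore M : Set G) :=
    hKU.compl.1.trans (Cfsg.Agent.Lib.Helper1.BG12.le_normalizer_sigmaCore M)
  have hc : Cfsg.IsComplIn (Cfsg.fittingHallOf M) U ⁅M, M⁆ := by
    rw [← hFσ, hder]
    refine ⟨le_sup_right, le_sup_left, ?_, ?_⟩
    · rw [inf_comm]; exact U_inf_sigma hKU
    · intro m hm
      rw [sup_comm] at hm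
      exact exists_mul_of_mem_sup _ _ hUN m hm
  have hKsF : Cfsg.sigmaCore M ⊓ Subgroup.centralizer (K : Set G) ≤ Cfsg.fittingHallOf M := by
    rw [← hFσ]; exact inf_le_left
  have hFnc := Cfsg.Agent.Lib.Helper10.KStarMF.fittingHall_not_cyclic hG hM hKU.hall hK1 hKsF
  have hP : Cfsg.IsTypePWith M K U (Cfsg.sigmaCore M ⊓ Subgroup.centralizer (K : Set G)) :=
    typeP_of_kappa hG hM hKU hK1 h56 hKsF hFnc (nilpotent_of_isMulCommutative h63.1)
      hKU.normal hc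
  exact ⟨K, U, _, hP, hU1, hKp, hTI, h63.1, h63.2, hTF, hFeq⟩

/-- **Types III and IV**, the "if" direction -/
theorem typeIII_IV_of (hG : Cfsg.IsMinSimpleOddOrder G) {M K U : Subgroup G} (hM : IsCoatom M)
    (hKU : Cfsg.IsSigmaDecomposition M K U) (hK1 : K ≠ ⊥) (hU : U = ⊥)
    (hne : Cfsg.fittingHallOf M ≠ Cfsg.sigmaCore M)
    (hnil : Group.IsNilpotent
      ↥((commutator ↥M).map (QuotientGroup.mk' (Cfsg.fittingHall ↥M))))
    (h56 : ⁅⁅M, M⁆, ⁅M, M⁆⁆ ≤ Cfsg.fittingOf M ∧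
      Cfsg.fittingOf M =
        (M ⊓ Subgroup.centralizer (Cfsg.fittingHallOf M : Set G)) ⊔ Cfsg.fittingHallOf M ∧
      ((Cfsg.kappa M).Nonempty → Cfsg.fittingOf M ≤ ⁅M, M⁆))
    (hKsF : Cfsg.sigmaCore M ⊓ Subgroup.centralizer (K : Set G) ≤ Cfsg.fittingHallOf M)
    (hFnc : ¬ IsCyclic (Cfsg.fittingHallOf M))
    (hTI : Cfsg.IsTISubset (Cfsg.fittingOf M : Set G)) (hKp : (Nat.card K).Prime) :
    Cfsg.IsOfTypeIII M ∨ Cfsg.IsOfTypeIV M := by
  have hder : ⁅M, M⁆ = Cfsg.sigmaCore M := by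
    rw [(Cfsg.Agent.S1365.result hG M hM K U hKU hK1).1, hU, bot_sup_eq]
  obtain ⟨U', hc, hKN, hU'n⟩ := exists_compl hG hM hKU.hall hnil
  have hP : Cfsg.IsTypePWith M K U' (Cfsg.sigmaCore M ⊓ Subgroup.centralizer (K : Set G)) :=
    typeP_of_kappa hG hM hKU hK1 h56 hKsF hFnc hU'n hKN hc
  have hU'1 : U' ≠ ⊥ := by
    intro h
    apply hne
    have := isComplIn_sup hc
    rw [h, sup_bot_eq, hder] at this
    exact this
  have hN : Subgroup.normalizer (U' : Set G) ≤ M :=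
    typeP_normalizer_le hG hM hP hU'1 (by rw [← hder]; exact hc.2.1)
  by_cases hab : IsMulCommutative U'
  · exact Or.inl ⟨K, U', _, hP, hU'1, hKp, hTI, hab, hN⟩
  · exact Or.inr ⟨K, U', _, hP, hU'1, hKp, hTI, hab, hN⟩

end Cfsg.Agent.Lib.Helper10.Sec16
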