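import Mathlib
import Cfsg.Prelude.Def_OddOrderLocal

/-!
# Section 16 assembly: the quotient `M / M_F` and a complement of `M_F`
-/

set_option autoImplicit false
open Cfsg

namespace Cfsg.Agent.Lib.Helper10.Sec16

variable {G : Type*} [Group G]

/-- membership in `M_F` as a subgroup of `G` -/
theorem mem_fittingHallOf_iff {M : Subgroup G} {x : G} (hx : x ∈ M) :
    x ∈ Cfsg.fittingHallOf M ↔ (⟨x, hx⟩ : ↥M) ∈ Cfsg.fittingHall ↥M := by
  unfold Cfsg.fittingHallOf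
  constructor
  · rintro ⟨y, hy, hyx⟩
    have : y = ⟨x, hx⟩ := Subtype.ext hyx
    rw [← this]; exact hy
  · intro h
    exact ⟨⟨x, hx⟩, h, rfl⟩

/-- a complement of `M_F` in `M` is isomorphic to `M / M_F` -/
noncomputable def complEquivQuotient {M U : Subgroup G}
    (hc : Cfsg.IsComplIn (Cfsg.fittingHallOf M) U M) : ↥U ≃* ↥M ⧸ Cfsg.fittingHall ↥M := by
  refine MulEquiv.ofBijective
    ((QuotientGroup.mk' (Cfsg.fittingHall ↥M)).comp (Subgroup.inclusion hc.2.1)) ⟨?_, ?_⟩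
  · rw [injective_iff_map_eq_one]
    intro u hu
    rw [MonoidHom.comp_apply, QuotientGroup.mk'_apply, QuotientGroup.eq_one_iff] at hu
    have h1 : (u : G) ∈ Cfsg.fittingHallOf M := (mem_fittingHallOf_iff (hc.2.1 u.2)).mpr hu
    have h2 : (u : G) ∈ Cfsg.fittingHallOf M ⊓ U := ⟨h1, u.2⟩
    rw [hc.2.2.1, Subgroup.mem_bot] at h2
    exact Subtype.ext h2
  · intro q
    obtain ⟨m, rfl⟩ := QuotientGroup.mk'_surjective _ q
    obtain ⟨h, hh, u, hu, hmu⟩ := hc.2.2.2 (m : G) m.2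
    refine ⟨⟨u, hu⟩, ?_⟩
    rw [MonoidHom.comp_apply, QuotientGroup.mk'_apply, QuotientGroup.mk'_apply, QuotientGroup.eq]
    have hm : m = ⟨h, hc.1 hh⟩ * ⟨u, hc.2.1 hu⟩ := Subtype.ext hmu
    have e : (Subgroup.inclusion hc.2.1 ⟨u, hu⟩)⁻¹ * m = (⟨u, hc.2.1 hu⟩ : ↥M)⁻¹ * ⟨h, hc.1 hh⟩ * ⟨u, hc.2.1 hu⟩ := by
      rw [hm]; apply Subtype.ext; simp [mul_assoc]
    rw [e]
    have hhF : (⟨h, hc.1 hh⟩ : ↥M) ∈ Cfsg.fittingHall ↥M := (mem_fittingHallOf_iff (hc.1 hh)).mp hh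
    have := (Cfsg.fittingHall_normal ↥M).conj_mem _ hhF (⟨u, hc.2.1 hu⟩ : ↥M)⁻¹
    rwa [inv_inv] at this

/-- the exponent of `M / M_F` is the exponent of a complement -/
theorem exponent_quotient_fittingHall' {M U : Subgroup G}
    (hc : Cfsg.IsComplIn (Cfsg.fittingHallOf M) U M) :
    Monoid.exponent (↥M ⧸ Cfsg.fittingHall ↥M) = Monoid.exponent ↥U :=
  (Monoid.exponent_eq_of_mulEquiv (complEquivQuotient hc)).symm

/-- for a cyclic complement the exponent is the order -/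
theorem exponent_quotient_of_cyclic [Finite G] {M U : Subgroup G}
    (hc : Cfsg.IsComplIn (Cfsg.fittingHallOf M) U M) (hU : IsCyclic U) :
    Monoid.exponent (↥M ⧸ Cfsg.fittingHall ↥M) = Nat.card U := by
  rw [exponent_quotient_fittingHall' hc]
  exact IsCyclic.exponent_eq_card

end Cfsg.Agent.Lib.Helper10.Sec16
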