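import Cfsg.Agent.Lib.Helper10.Sec16C
import Cfsg.Agent.Lib.Helper10.Sec16Q
import Cfsg.Agent.Lib.Helper10.KStarMF
import Cfsg.Agent.Lib.Helper11.FitTIb
import Cfsg.Agent.Lib.Helper11.CNNormalSylow

/-!
# Section 16 assembly, part D: Type V
-/

set_option autoImplicit false
open Cfsg

namespace Cfsg.Agent.Lib.Helper10.Sec16

variable {G : Type*} [Group G] [Finite G]

/-- the trichotomy clause (e) of B&G 15.8, in the frozen shape of S1440 -/
def Tri (M K U : Subgroup G) (g : G) : Prop :=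
  (K = ⊥ ∧ IsMulCommutative (Cfsg.fittingHallOf M) ∧ Cfsg.RankLE 2 (Cfsg.fittingHallOf M) ∧
      ¬ Cfsg.RankLE 1 (Cfsg.fittingHallOf M)) ∨
    (∃ p : ℕ, p.Prime ∧
        Nat.card ↥(Cfsg.fittingOf M ⊓ (Cfsg.fittingOf M).map (MulAut.conj g).toMonoidHom) = p ∧
        p ∈ Cfsg.sigma M ∧ p ∉ Cfsg.beta M ∧
        ¬ IsMulCommutative (Cfsg.pCore p ↥(Cfsg.fittingHallOf M)) ∧
        IsCyclic (Cfsg.pPrimeCore p ↥(Cfsg.fittingHallOf M)) ∧
        ∀ q : ℕ, q.Prime → q ∣ Nat.card (Cfsg.fittingHallOf M) →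
          Monoid.exponent (↥M ⧸ Cfsg.fittingHall ↥M) ∣ q - 1) ∨
    (∃ p : ℕ, p.Prime ∧
        Nat.card ↥(Cfsg.fittingOf M ⊓ (Cfsg.fittingOf M).map (MulAut.conj g).toMonoidHom) = p ∧
        p ∈ Cfsg.sigma M ∧ p ∉ Cfsg.beta M ∧
        IsCyclic (Cfsg.pPrimeCore p ↥(Cfsg.fittingHallOf M)) ∧
        Nat.card (Cfsg.pCore p ↥(Cfsg.fittingHallOf M)) = p ^ 3 ∧
        ¬ IsMulCommutative (Cfsg.pCore p ↥(Cfsg.fittingHallOf M)) ∧ K ≠ ⊥ ∧ U = ⊥ ∧
        (Cfsg.fittingHallOf M).relIndex M ∣ p + 1)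

/-- `M_F ≤ F(M)` -/
theorem fittingHallOf_le_fittingOf (M : Subgroup G) : Cfsg.fittingHallOf M ≤ Cfsg.fittingOf M := by
  unfold Cfsg.fittingHallOf Cfsg.fittingOf
  apply Subgroup.map_mono
  apply sSup_le_sSup
  intro N hN
  exact ⟨hN.1, hN.2.1⟩

/-- if `M_F ≠ 1` is not a TI-subset then `F(M)` meets a conjugate outside `M` -/
theorem exists_conj_of_not_TI (hG : Cfsg.IsMinSimpleOddOrder G) {M : Subgroup G} (hM : IsCoatom M)
    (hH1 : Cfsg.fittingHallOf M ≠ ⊥)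
    (hnTI : ¬ Cfsg.IsTISubset (Cfsg.fittingHallOf M : Set G)) :
    ∃ g : G, g ∉ M ∧
      Cfsg.fittingOf M ⊓ (Cfsg.fittingOf M).map (MulAut.conj g).toMonoidHom ≠ ⊥ := by
  unfold Cfsg.IsTISubset at hnTI
  push Not at hnTI
  obtain ⟨g, hg, x, hx, hgx, hx1⟩ := hnTI
  have hN : Subgroup.normalizer ((Cfsg.fittingHallOf M : Subgroup G) : Set G) = M :=
    Cfsg.Agent.Lib.Helper11.FitTI.normalizer_eq_of_le_normalizer hG hM
      (Cfsg.Agent.Lib.Helper10.fittingHallOf_le M) hH1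
      (Cfsg.Agent.Lib.Helper10.le_normalizer_fittingHallOf M)
  rw [hN] at hg
  refine ⟨g, hg, ?_⟩
  intro hbot
  have hmem : g * x * g⁻¹ ∈
      Cfsg.fittingOf M ⊓ (Cfsg.fittingOf M).map (MulAut.conj g).toMonoidHom := by
    refine ⟨fittingHallOf_le_fittingOf M hgx, ?_⟩
    exact ⟨x, fittingHallOf_le_fittingOf M hx, rfl⟩
  rw [hbot, Subgroup.mem_bot] at hmem
  apply hx1
  have : x = g⁻¹ * (g * x * g⁻¹) * g := by group
  rw [this, hmem]; group

/-- a prime which is the order of a subgroup of `M_F` divides `|M_F|` -/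
theorem dvd_card_of_card_eq {H X : Subgroup G} (hXH : X ≤ H) {p : ℕ} (hX : Nat.card X = p) :
    p ∣ Nat.card H := by
  rw [← hX]; exact Subgroup.card_dvd_of_le hXH

/-- **Type V**, the "if" direction -/
theorem typeV_of (hG : Cfsg.IsMinSimpleOddOrder G) {M K U : Subgroup G} (hM : IsCoatom M)
    (hKU : Cfsg.IsSigmaDecomposition M K U) (hK1 : K ≠ ⊥) (hU : U = ⊥)
    (hF : Cfsg.fittingHallOf M = Cfsg.sigmaCore M)
    (h56 : ⁅⁅M, M⁆, ⁅M, M⁆⁆ ≤ Cfsg.fittingOf M ∧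
      Cfsg.fittingOf M =
        (M ⊓ Subgroup.centralizer (Cfsg.fittingHallOf M : Set G)) ⊔ Cfsg.fittingHallOf M ∧
      ((Cfsg.kappa M).Nonempty → Cfsg.fittingOf M ≤ ⁅M, M⁆))
    (h40 : ∀ g : G, g ∉ M →
      Cfsg.fittingOf M ⊓ (Cfsg.fittingOf M).map (MulAut.conj g).toMonoidHom ≠ ⊥ →
      (Cfsg.fittingOf M ⊓ (Cfsg.fittingOf M).map (MulAut.conj g).toMonoidHom ≤
        Cfsg.fittingHallOf M) ∧ Tri M K U g) :
    Cfsg.IsOfTypeV M := by
  have hder : ⁅M, M⁆ = Cfsg.sigmaCore M := by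
    rw [(Cfsg.Agent.S1365.result hG M hM K U hKU hK1).1, hU, bot_sup_eq]
  have hKsF : Cfsg.sigmaCore M ⊓ Subgroup.centralizer (K : Set G) ≤ Cfsg.fittingHallOf M := by
    rw [hF]; exact inf_le_left
  have hFnc := Cfsg.Agent.Lib.Helper10.KStarMF.fittingHall_not_cyclic hG hM hKU.hall hK1 hKsF
  have hcomplbot : Cfsg.IsComplIn (Cfsg.fittingHallOf M) ⊥ ⁅M, M⁆ := by
    rw [hder, hF]
    refine ⟨le_rfl, bot_le, inf_bot_eq _, ?_⟩
    intro m hm
    exact ⟨m, hm, 1, Subgroup.one_mem _, (mul_one m).symm⟩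
  have hP : Cfsg.IsTypePWith M K ⊥ (Cfsg.sigmaCore M ⊓ Subgroup.centralizer (K : Set G)) :=
    typeP_of_kappa hG hM hKU hK1 h56 hKsF hFnc
      (by haveI : Subsingleton (↥(⊥ : Subgroup G)) := inferInstance
          infer_instance)
      (by intro k _; rw [Subgroup.mem_normalizer_iff]; intro h; simp [Subgroup.mem_bot]) hcomplbot
  refine ⟨K, ⊥, _, hP, rfl, ?_⟩
  by_cases hTI : Cfsg.IsTISubset (Cfsg.fittingHallOf M : Set G)
  · exact Or.inl hTI
  right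
  have hH1 : Cfsg.fittingHallOf M ≠ ⊥ := by
    intro h
    have := Cfsg.Agent.Lib.Helper13.BG14.bg14_kstar_ne_bot hG hM hKU.hall hK1
    apply this
    rw [eq_bot_iff, ← h]; exact hKsF
  obtain ⟨g, hg, hX⟩ := exists_conj_of_not_TI hG hM hH1 hTI
  obtain ⟨hXF, htri⟩ := h40 g hg hX
  -- `K` is a complement of `M_F = M'`
  have hcK : Cfsg.IsComplIn (Cfsg.fittingHallOf M) K M := by
    have := hP.W₁_compl
    rwa [hder, ← hF] at this
  have hexp := exponent_quotient_of_cyclic hcK hKU.cyclic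
  have hrel : (Cfsg.fittingHallOf M).relIndex M = Nat.card K := by
    have h1 := Cfsg.Agent.Lib.Helper1.BG15.card_of_isComplIn hcK
    have h2 : Nat.card ↥(Cfsg.fittingHallOf M) * (Cfsg.fittingHallOf M).relIndex M
        = Nat.card ↥M := by
      have := Subgroup.relIndex_mul_relIndex ⊥ (Cfsg.fittingHallOf M) M bot_le hcK.1
      rwa [Subgroup.relIndex_bot_left, Subgroup.relIndex_bot_left] at this
    have hpos : 0 < Nat.card ↥(Cfsg.fittingHallOf M) := Nat.card_pos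
    rw [h1] at h2
    exact Nat.eq_of_mul_eq_mul_left hpos h2
  rcases htri with h | h | h
  · exact absurd h.1 hK1
  · obtain ⟨p, hp, hXp, -, -, -, hcyc, hexpd⟩ := h
    left
    have hpd := dvd_card_of_card_eq hXF hXp
    refine ⟨p, hp, hpd, ?_, hcyc⟩
    rw [← hexp]; exact hexpd p hp hpd
  · obtain ⟨p, hp, hXp, -, -, hcyc, hc3, -, -, -, hidx⟩ := h
    right
    have hpd := dvd_card_of_card_eq hXF hXp
    refine ⟨p, hp, hpd, hc3, ?_, hcyc⟩
    rw [← hrel]; exact hidx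

end Cfsg.Agent.Lib.Helper10.Sec16
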