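import Cfsg.Agent.Lib.Helper1.SLK.Defs

set_option autoImplicit false

namespace Cfsg.Agent.Lib.Helper1.SLK

open Polynomial
open Cfsg.Agent.Lib.Helper29.GLK

universe u

/-- D6 [S] `sm a` on `F[X]/(g)` is left multiplication by the class of `a`. -/
theorem det_sm_quot {F : Type u} [Field F] (g a : F[X]) :
    LinearMap.det (sm a (F[X] ⧸ Ideal.span {g})) =
      Algebra.norm F (Ideal.Quotient.mk (Ideal.span {g}) a) := by
  rw [Algebra.norm_apply]
  congr 1

end Cfsg.Agent.Lib.Helper1.SLK
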