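import Cfsg.Agent.Lib.Helper1.SLK.Defs
import Cfsg.Agent.Lib.Helper13.SLKD1
import Cfsg.Agent.Lib.Helper10.SLKD6
import Cfsg.Agent.Lib.Helper24.GLKM1

set_option autoImplicit false

namespace Cfsg.Agent.Lib.Helper1.SLK

open Polynomial
open Cfsg.Agent.Lib.Helper29.GLK

universe u

theorem slkd7_restrict {F : Type u} [Field F] {ι : Type*} [DecidableEq ι]
    (g a : ι → F[X]) :
    (dmul g a).restrictScalars F =
      DirectSum.lmap (fun j => sm (a j) (F[X] ⧸ Ideal.span {g j})) := by
  apply LinearMap.ext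
  intro m
  induction m using DirectSum.induction_on with
  | zero => simp
  | of j x =>
    show (dmul g a) (DirectSum.of _ j x) = _
    unfold dmul
    rw [DirectSum.lmap_of, DirectSum.lmap_of]
    rfl
  | add x y hx hy =>
    rw [map_add, map_add, hx, hy]

/-- D7 [S-M] componentwise multiplication on `⊕ F[X]/(g j)`: D1 + D6. -/
theorem det_dmul {F : Type u} [Field F] {ι : Type*} [Fintype ι] [DecidableEq ι]
    (g a : ι → F[X]) (hg : ∀ j, g j ≠ 0) :
    LinearMap.det (M := DirectSum ι fun j => F[X] ⧸ Ideal.span {g j})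
        ((dmul g a).restrictScalars F) =
      ∏ j, Algebra.norm F (Ideal.Quotient.mk (Ideal.span {g j}) (a j)) := by
  have : ∀ j, Module.Finite F (F[X] ⧸ Ideal.span {g j}) := fun j => glkM1_finite _ (hg j)
  rw [slkd7_restrict, det_lmap]
  apply Finset.prod_congr rfl
  intro j _
  exact det_sm_quot (g j) (a j)

end Cfsg.Agent.Lib.Helper1.SLK
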