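import Cfsg.Agent.Lib.Helper1.SLK.Defs
import Cfsg.Agent.Lib.Helper10.SLKD7

set_option autoImplicit false

namespace Cfsg.Agent.Lib.Helper1.SLK

open Polynomial
open Cfsg.Agent.Lib.Helper29.GLK

universe u

/-- A3 [S-M] transport of `dmul` through a decomposition. -/
theorem det_conj_dmul {F : Type u} [Field F] {n : ℕ} (x : Matrix.GeneralLinearGroup (Fin n) F)
    {ι : Type u} [Fintype ι] [DecidableEq ι] (g a : ι → F[X]) (hg : ∀ j, g j ≠ 0)
    (Φ : gMod x ≃ₗ[F[X]] DirectSum ι fun j => F[X] ⧸ Ideal.span {g j}) :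
    LinearMap.det (((Φ.symm.toLinearMap ∘ₗ dmul g a) ∘ₗ Φ.toLinearMap).restrictScalars F) =
      ∏ j, Algebra.norm F (Ideal.Quotient.mk (Ideal.span {g j}) (a j)) := by
  rw [← det_dmul g a hg]
  have h : ((Φ.symm.toLinearMap ∘ₗ dmul g a) ∘ₗ Φ.toLinearMap).restrictScalars F =
      ((Φ.symm.restrictScalars F : _ ≃ₗ[F] _) : _ →ₗ[F] _) ∘ₗ
        ((dmul g a).restrictScalars F) ∘ₗ
        (((Φ.symm.restrictScalars F : _ ≃ₗ[F] _).symm : _ ≃ₗ[F] _) : _ →ₗ[F] _) := by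
    apply LinearMap.ext
    intro m
    rfl
  rw [h]
  exact LinearMap.det_conj (A := F) (M := DirectSum ι fun j => F[X] ⧸ Ideal.span {g j})
    (N := gMod x) ((dmul g a).restrictScalars F) (Φ.symm.restrictScalars F)

end Cfsg.Agent.Lib.Helper1.SLK
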