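import Cfsg.Agent.Lib.Helper1.SLK.Defs

set_option autoImplicit false

namespace Cfsg.Agent.Lib.Helper1.SLK

open Polynomial
open Cfsg.Agent.Lib.Helper29.GLK

universe u

/-- D5 [M] norms of finite fields are onto. -/
theorem exists_norm_eq {F : Type u} [Field F] [Finite F] (p : F[X]) (hp : Irreducible p) (c : F) :
    ∃ a : F[X], Algebra.norm F (Ideal.Quotient.mk (Ideal.span {p}) a) = c := by
  have : Fact (Irreducible p) := ⟨hp⟩
  have : Finite (AdjoinRoot p) := by
    have : Module.Finite F (AdjoinRoot p) :=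
      (AdjoinRoot.powerBasis hp.ne_zero).finite
    exact Module.finite_of_finite F
  obtain ⟨y, hy⟩ := FiniteField.norm_surjective F (AdjoinRoot p) c
  obtain ⟨a, rfl⟩ := AdjoinRoot.mk_surjective y
  exact ⟨a, hy⟩

end Cfsg.Agent.Lib.Helper1.SLK
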