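import Mathlib
import Cfsg.Agent.Lib.helper7.REE.Defs

set_option autoImplicit false

namespace Cfsg.Agent.Lib.helper7.REE

open Matrix Cfsg.Agent.Lib.helper8

universe u v

/-- pure group lemma behind G2B: `U` a subgroup of exponent dividing 9, normalised by the
involution `t`; then every element of `U t` is `U`-conjugate to `t c` with `c ∈ C_U(t)`. -/
theorem reeg2b_core {G : Type u} [Group G] (U : Subgroup G) (t : G) (ht : t * t = 1)
    (hexp : ∀ x ∈ U, x ^ 9 = 1) (hnorm : ∀ x ∈ U, t * x * t⁻¹ ∈ U) (u : G) (hu : u ∈ U) :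
    ∃ v ∈ U, ∃ c ∈ U, t * c = c * t ∧ u * t = v * (t * c) * v⁻¹ := by
  have htinv : t⁻¹ = t := inv_eq_of_mul_eq_one_right ht
  -- b = u t, s = b^2 ∈ U
  obtain ⟨b, hb⟩ : ∃ b, b = u * t := ⟨_, rfl⟩
  obtain ⟨s, hs⟩ : ∃ s, s = u * (t * u * t⁻¹) := ⟨_, rfl⟩
  have hsU : s ∈ U := by rw [hs]; exact U.mul_mem hu (hnorm u hu)
  have hbb : b * b = s := by
    rw [hb, hs, htinv]
    simp only [mul_assoc]
  -- r = s^5, r^2 = s, r commutes with b
  obtain ⟨r, hr⟩ : ∃ r, r = s ^ 5 := ⟨_, rfl⟩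
  have hrU : r ∈ U := by rw [hr]; exact U.pow_mem hsU 5
  have hrr : r * r = s := by
    rw [hr, ← pow_add]
    have : s ^ (5 + 5) = s ^ 9 * s := by rw [← pow_succ]
    rw [this, hexp s hsU, one_mul]
  have hbs : Commute b s := by
    rw [← hbb]
    exact (Commute.refl b).mul_right (Commute.refl b)
  have hbr : Commute b r := by rw [hr]; exact hbs.pow_right 5
  -- j = b r⁻¹ is an involution
  obtain ⟨j, hj⟩ : ∃ j, j = b * r⁻¹ := ⟨_, rfl⟩
  have hjj : j * j = 1 := by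
    have h1 : Commute b r⁻¹ := hbr.inv_right
    rw [hj]
    calc b * r⁻¹ * (b * r⁻¹) = b * (r⁻¹ * b) * r⁻¹ := by simp only [mul_assoc]
      _ = b * (b * r⁻¹) * r⁻¹ := by rw [h1.eq]
      _ = (b * b) * (r * r)⁻¹ := by rw [_root_.mul_inv_rev]; simp only [mul_assoc]
      _ = 1 := by rw [hbb, hrr, mul_inv_cancel]
  have hjr : Commute j r := by
    rw [hj]
    exact hbr.mul_left (Commute.refl r).inv_left
  -- j = u' t, u' ∈ U inverted by t
  obtain ⟨u', hu'⟩ : ∃ u', u' = u * (t * r⁻¹ * t⁻¹) := ⟨_, rfl⟩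
  have hu'U : u' ∈ U := by rw [hu']; exact U.mul_mem hu (hnorm _ (U.inv_mem hrU))
  have hju' : j = u' * t := by
    rw [hj, hb, hu']
    simp only [mul_assoc, inv_mul_cancel, mul_one]
  have hinvu' : t * u' * t⁻¹ = u'⁻¹ := by
    have h1 : u' * t * (u' * t) = 1 := by rw [← hju']; exact hjj
    have h2 : u' * (t * u' * t⁻¹) = 1 := by
      rw [htinv]
      simpa only [mul_assoc] using h1
    exact eq_inv_of_mul_eq_one_right h2
  -- v = u'^5, v^2 = u', t v t⁻¹ = v⁻¹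
  obtain ⟨v, hv⟩ : ∃ v, v = u' ^ 5 := ⟨_, rfl⟩
  have hvU : v ∈ U := by rw [hv]; exact U.pow_mem hu'U 5
  have hvv : v * v = u' := by
    rw [hv, ← pow_add]
    have : u' ^ (5 + 5) = u' ^ 9 * u' := by rw [← pow_succ]
    rw [this, hexp u' hu'U, one_mul]
  have hinvv : t * v * t⁻¹ = v⁻¹ := by
    rw [hv, ← inv_pow, ← hinvu']
    exact (conj_pow (a := t) (b := u') (i := 5)).symm
  have hvtv : v * t * v⁻¹ = j := by
    have h1 : t * v⁻¹ * t⁻¹ = v := by
      have h2 : t * v⁻¹ * t⁻¹ = (t * v * t⁻¹)⁻¹ := by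
        simp only [_root_.mul_inv_rev, inv_inv, mul_assoc]
      rw [h2, hinvv, inv_inv]
    calc v * t * v⁻¹ = v * (t * v⁻¹ * t⁻¹) * t := by
          simp only [mul_assoc, inv_mul_cancel, mul_one]
      _ = v * v * t := by rw [h1]
      _ = j := by rw [hvv, hju']
  -- c = v⁻¹ r v
  refine ⟨v, hvU, v⁻¹ * r * v, U.mul_mem (U.mul_mem (U.inv_mem hvU) hrU) hvU, ?_, ?_⟩
  · -- t c = c t  from  j r = r j
    have h1 : v * t * v⁻¹ * r = r * (v * t * v⁻¹) := by rw [hvtv]; exact hjr.eq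
    calc t * (v⁻¹ * r * v) = v⁻¹ * (v * t * v⁻¹ * r) * v := by
          simp only [mul_assoc, inv_mul_cancel_left]
      _ = v⁻¹ * (r * (v * t * v⁻¹)) * v := by rw [h1]
      _ = v⁻¹ * r * v * t := by
          simp only [mul_assoc, inv_mul_cancel, mul_one]
  · calc u * t = b := hb.symm
      _ = j * r := by rw [hj, inv_mul_cancel_right]
      _ = v * t * v⁻¹ * r := by rw [hvtv]
      _ = v * (t * (v⁻¹ * r * v)) * v⁻¹ := by
          simp only [mul_assoc, mul_inv_cancel, mul_one]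

namespace ReeAx

variable {G : Type u} [Group G] [Finite G] {K : Type v} [Field K] [Fintype K] {m : ℕ}

/-- G2B. Every element of the coset `U t` is `U`-conjugate to `t c`, `c ∈ C_U(t)`
(square roots in groups of odd order: `b = u t`, `b² = s ∈ U`, `s = r²` with `r ∈ ⟨s⟩`,
`j = b r⁻¹` an involution `u' t` with `t u' t⁻¹ = u'⁻¹`, `u' = v²`, `j = v t v⁻¹`). -/
theorem B_coset_t (R : ReeAx G K m) (u : G) (hu : u ∈ R.U) :
    ∃ v ∈ R.U, ∃ c ∈ R.U, R.t * c = c * R.t ∧ u * R.t = v * (R.t * c) * v⁻¹ :=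
  reeg2b_core R.U R.t R.t_sq R.U_exp (fun x hx => R.H_norm R.t R.t_mem x hx) u hu

end ReeAx

end Cfsg.Agent.Lib.helper7.REE
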