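import Mathlib
import Cfsg.Agent.Lib.helper7.REE.Defs

set_option autoImplicit false

namespace Cfsg.Agent.Lib.helper7.REE

open Matrix Cfsg.Agent.Lib.helper8

universe u v

theorem reeg7b_comm {G : Type u} [Group G] (S : Subgroup G) (hS : IsCyclic S) (g h : G)
    (hg : g ∈ S) (hh : h ∈ S) : g * h = h * g := by
  letI : CommGroup S := IsCyclic.commGroup
  have h1 : (⟨g, hg⟩ : S) * ⟨h, hh⟩ = ⟨h, hh⟩ * ⟨g, hg⟩ := mul_comm _ _
  exact congrArg Subtype.val h1

theorem reeg7b_mem_cent {G : Type u} [Group G] (z g : G) :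
    g ∈ Subgroup.centralizer ({z} : Set G) ↔ g * z = z * g := by
  rw [Subgroup.mem_centralizer_iff]
  constructor
  · intro h
    exact (h z (Set.mem_singleton z)).symm
  · intro h y hy
    rw [Set.mem_singleton_iff] at hy
    rw [hy, h]

namespace ReeAx

variable {G : Type u} [Group G] [Finite G] {K : Type v} [Field K] [Fintype K] {m : ℕ}

/-- the centraliser of a π-element is cyclic (from the statements of `tor_pi`, `ar_ord_six`,
`la_cent_cyclic`) -/
theorem reeg7b_cyc (R : ReeAx G K m)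
    (hTP : ∀ A : Subgroup G, R.IsTor A → (∀ c ∈ A, c ^ nn m = 1) ∧ Nat.card A ∣ nn m ∧
      2 ≤ Nat.card A ∧ (Nat.card A).Coprime (qq m - 1))
    (hARC : ∀ l : ℕ, l.Prime → l ∣ nn m →
      l ∣ qq m ^ 6 - 1 ∧ (∀ i, 0 < i → i < 6 → ¬ l ∣ qq m ^ i - 1) ∧ 7 ≤ l ∧ ¬ l ∣ qq m)
    (hLAD : ∀ (l : ℕ), l.Prime → l ∣ Fintype.card K ^ 6 - 1 →
      (∀ i, 0 < i → i < 6 → ¬ l ∣ Fintype.card K ^ i - 1) → ¬ l ∣ Fintype.card K →
      ∀ (M : GL (Fin 7) K), orderOf M = l →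
      ∀ (C : Subgroup (GL (Fin 7) K)) [Finite C], (∀ c ∈ C, c * M = M * c) →
      (Nat.card C).Coprime (Fintype.card K - 1) →
      IsCyclic C ∧ ∀ c ∈ C, c ^ (Fintype.card K ^ 6 - 1) = 1)
    (z : G) (hz : R.IsPi z) : IsCyclic (Subgroup.centralizer ({z} : Set G)) := by
  obtain ⟨hz1, hzn⟩ := hz
  have hoz : orderOf z ≠ 1 := by
    intro h
    exact hz1 (orderOf_eq_one_iff.1 h)
  obtain ⟨l, hl, hlz⟩ := Nat.exists_prime_and_dvd hoz
  have hozn : orderOf z ∣ nn m := orderOf_dvd_of_pow_eq_one hzn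
  have hln : l ∣ nn m := dvd_trans hlz hozn
  have hoz0 : orderOf z ≠ 0 := (orderOf_pos z).ne'
  obtain ⟨y, hy⟩ : ∃ y, y = z ^ (orderOf z / l) := ⟨_, rfl⟩
  have hyl : orderOf y = l := by
    rw [hy]
    exact orderOf_pow_orderOf_div hoz0 hlz
  have hy1 : y ≠ 1 := by
    intro h
    rw [h, orderOf_one] at hyl
    exact hl.one_lt.ne hyl
  have hyn : y ^ nn m = 1 := by
    rw [hy, ← pow_mul, mul_comm, pow_mul, hzn, one_pow]
  have hTor : R.IsTor (Subgroup.centralizer ({y} : Set G)) := ⟨y, ⟨hy1, hyn⟩, rfl⟩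
  obtain ⟨-, -, -, hcop⟩ := hTP _ hTor
  obtain ⟨h6, hmin, -, hlq⟩ := hARC l hl hln
  have hK := R.hK
  obtain ⟨C, hCdef⟩ : ∃ C : Subgroup (GL (Fin 7) K),
      C = (Subgroup.centralizer ({y} : Set G)).map R.rho := ⟨_, rfl⟩
  have hCM : ∀ c ∈ C, c * R.rho y = R.rho y * c := by
    intro c hc
    rw [hCdef, Subgroup.mem_map] at hc
    obtain ⟨g, hg, rfl⟩ := hc
    rw [reeg7b_mem_cent] at hg
    rw [← map_mul, ← map_mul, hg]
  have hcardC : Nat.card C = Nat.card (Subgroup.centralizer ({y} : Set G)) := by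
    rw [hCdef]
    exact Nat.card_congr
      ((Subgroup.centralizer ({y} : Set G)).equivMapOfInjective R.rho R.rho_inj).symm.toEquiv
  have hMl : orderOf (R.rho y) = l := by
    rw [orderOf_injective R.rho R.rho_inj y, hyl]
  have hcyc : IsCyclic C := by
    refine (hLAD l hl (by rw [hK]; exact h6) (by rw [hK]; exact hmin) (by rw [hK]; exact hlq)
      (R.rho y) hMl C hCM (by rw [hcardC, hK]; exact hcop)).1
  -- transfer to the centraliser of y
  have hcycy : IsCyclic (Subgroup.centralizer ({y} : Set G)) := by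
    have e := (Subgroup.centralizer ({y} : Set G)).equivMapOfInjective R.rho R.rho_inj
    rw [← hCdef] at e
    exact isCyclic_of_surjective e.symm.toMonoidHom e.symm.surjective
  have hle : Subgroup.centralizer ({z} : Set G) ≤ Subgroup.centralizer ({y} : Set G) := by
    intro g hg
    rw [reeg7b_mem_cent] at hg ⊢
    rw [hy]
    exact ((Commute.pow_right (show Commute g z from hg)) _).eq
  exact isCyclic_of_injective (Subgroup.inclusion hle) (Subgroup.inclusion_injective hle)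

/-- core of G7B. -/
theorem reeg7b_core (R : ReeAx G K m)
    (hTP : ∀ A : Subgroup G, R.IsTor A → (∀ c ∈ A, c ^ nn m = 1) ∧ Nat.card A ∣ nn m ∧
      2 ≤ Nat.card A ∧ (Nat.card A).Coprime (qq m - 1))
    (hARC : ∀ l : ℕ, l.Prime → l ∣ nn m →
      l ∣ qq m ^ 6 - 1 ∧ (∀ i, 0 < i → i < 6 → ¬ l ∣ qq m ^ i - 1) ∧ 7 ≤ l ∧ ¬ l ∣ qq m)
    (hLAD : ∀ (l : ℕ), l.Prime → l ∣ Fintype.card K ^ 6 - 1 →
      (∀ i, 0 < i → i < 6 → ¬ l ∣ Fintype.card K ^ i - 1) → ¬ l ∣ Fintype.card K →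
      ∀ (M : GL (Fin 7) K), orderOf M = l →
      ∀ (C : Subgroup (GL (Fin 7) K)) [Finite C], (∀ c ∈ C, c * M = M * c) →
      (Nat.card C).Coprime (Fintype.card K - 1) →
      IsCyclic C ∧ ∀ c ∈ C, c ^ (Fintype.card K ^ 6 - 1) = 1)
    (A : Subgroup G) (hA : R.IsTor A) :
    IsCyclic A ∧ ∀ a ∈ A, a ≠ 1 → Subgroup.centralizer {a} = A := by
  have hA' := hA
  obtain ⟨x, hx, hAx⟩ := hA'
  have hcycA : IsCyclic A := by
    rw [hAx]
    exact R.reeg7b_cyc hTP hARC hLAD x hx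
  refine ⟨hcycA, ?_⟩
  intro a ha ha1
  have han : a ^ nn m = 1 := (hTP A hA).1 a ha
  have hpia : R.IsPi a := ⟨ha1, han⟩
  have hcyca := R.reeg7b_cyc hTP hARC hLAD a hpia
  have hax : a * x = x * a := by
    rw [hAx, reeg7b_mem_cent] at ha
    exact ha
  apply le_antisymm
  · intro g hg
    rw [hAx, reeg7b_mem_cent]
    have hxa : x ∈ Subgroup.centralizer ({a} : Set G) := by
      rw [reeg7b_mem_cent]
      exact hax.symm
    exact reeg7b_comm _ hcyca g x hg hxa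
  · intro g hg
    rw [reeg7b_mem_cent]
    exact reeg7b_comm A hcycA g a hg ha

end ReeAx

end Cfsg.Agent.Lib.helper7.REE
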