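import Mathlib
import Cfsg.Agent.Lib.helper7.REE.Defs
import Cfsg.Agent.Lib.Helper10.REEG7Bcore

set_option autoImplicit false

namespace Cfsg.Agent.Lib.helper7.REE

open Matrix Cfsg.Agent.Lib.helper8

universe u v

theorem reeg7c_q_ge (m : ℕ) : 3 ≤ qq m := by
  unfold qq
  calc 3 = 3 ^ 1 := (pow_one 3).symm
    _ ≤ 3 ^ (2 * m + 1) := Nat.pow_le_pow_right (by norm_num) (by omega)

/-- `N₀ = q² - q + 1` divides `q⁶ - 1` -/
theorem reeg7c_nn_dvd (m : ℕ) : nn m ∣ qq m ^ 6 - 1 := by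
  have hq := reeg7c_q_ge m
  obtain ⟨q, hqdef⟩ : ∃ q, q = qq m := ⟨_, rfl⟩
  unfold nn
  rw [← hqdef] at hq ⊢
  have h1 : q ≤ q ^ 2 := by nlinarith
  have h2 : 1 ≤ q ^ 6 := Nat.one_le_pow _ _ (by omega)
  have h3 : 1 ≤ q ^ 3 := Nat.one_le_pow _ _ (by omega)
  refine ⟨(q + 1) * (q ^ 3 - 1), ?_⟩
  zify [h1, h2, h3]
  ring

/-- the `q`-power automorphism of a commutative group of exponent dividing `q⁶ - 1` -/
def reeg7c_Fr {A : Type u} [CommGroup A] (q : ℕ) (hq : ∀ c : A, c ^ (q ^ 6) = c) : MulAut A where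
  toFun c := c ^ q
  invFun c := c ^ (q ^ 5)
  left_inv c := by
    show (c ^ q) ^ (q ^ 5) = c
    rw [← pow_mul, ← pow_succ']
    exact hq c
  right_inv c := by
    show (c ^ (q ^ 5)) ^ q = c
    rw [← pow_mul, ← pow_succ]
    exact hq c
  map_mul' a b := mul_pow a b q

theorem reeg7c_Fr_pow {A : Type u} [CommGroup A] (q : ℕ) (hq : ∀ c : A, c ^ (q ^ 6) = c)
    (i : ℕ) (c : A) : (reeg7c_Fr q hq ^ i) c = c ^ (q ^ i) := by
  induction i with
  | zero => simp
  | succ i ih =>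
    rw [pow_succ', MulAut.mul_apply, ih]
    show (c ^ q ^ i) ^ q = c ^ q ^ (i + 1)
    rw [← pow_mul, ← pow_succ]

namespace ReeAx

variable {G : Type u} [Group G] [Finite G] {K : Type v} [Field K] [Fintype K] {m : ℕ}

/-- core of G7C: `[N(A) : A]` divides 6, from the statements of `tor_pi`, `tor_cyclic`,
`la_norm_six`. -/
theorem reeg7c_core (R : ReeAx G K m)
    (hTP : ∀ A : Subgroup G, R.IsTor A → (∀ c ∈ A, c ^ nn m = 1) ∧ Nat.card A ∣ nn m ∧
      2 ≤ Nat.card A ∧ (Nat.card A).Coprime (qq m - 1))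
    (hTC : ∀ A : Subgroup G, R.IsTor A →
      IsCyclic A ∧ ∀ a ∈ A, a ≠ 1 → Subgroup.centralizer {a} = A)
    (hARC : ∀ l : ℕ, l.Prime → l ∣ nn m →
      l ∣ qq m ^ 6 - 1 ∧ (∀ i, 0 < i → i < 6 → ¬ l ∣ qq m ^ i - 1) ∧ 7 ≤ l ∧ ¬ l ∣ qq m)
    (hLAE : ∀ (l : ℕ), l.Prime → l ∣ Fintype.card K ^ 6 - 1 →
      (∀ i, 0 < i → i < 6 → ¬ l ∣ Fintype.card K ^ i - 1) → ¬ l ∣ Fintype.card K →
      ∀ (M : GL (Fin 7) K), orderOf M = l →
      ∀ (C : Subgroup (GL (Fin 7) K)) [Finite C], (∀ c ∈ C, c * M = M * c) → M ∈ C →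
      (Nat.card C).Coprime (Fintype.card K - 1) →
      ∀ (n : GL (Fin 7) K), (∀ c ∈ C, n * c * n⁻¹ ∈ C) →
      ∃ i, i < 6 ∧ ∀ c ∈ C, n * c * n⁻¹ = c ^ (Fintype.card K ^ i))
    (A : Subgroup G) (hA : R.IsTor A) :
    ∃ k, k ∣ 6 ∧ Nat.card (Subgroup.normalizer (A : Set G)) = k * Nat.card A := by
  classical
  have hK := R.hK
  obtain ⟨hexpA, hcardA, -, hcop⟩ := hTP A hA
  obtain ⟨hcyc, hcent⟩ := hTC A hA
  have hA' := hA
  obtain ⟨x, ⟨hx1, hxn⟩, hAx⟩ := hA'
  have hxA : x ∈ A := by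
    rw [hAx, reeg7b_mem_cent]
  -- an element of prime order in A
  have hox : orderOf x ≠ 1 := fun h => hx1 (orderOf_eq_one_iff.1 h)
  obtain ⟨l, hl, hlx⟩ := Nat.exists_prime_and_dvd hox
  have hln : l ∣ nn m := dvd_trans hlx (orderOf_dvd_of_pow_eq_one hxn)
  obtain ⟨y, hy⟩ : ∃ y, y = x ^ (orderOf x / l) := ⟨_, rfl⟩
  have hyl : orderOf y = l := by
    rw [hy]
    exact orderOf_pow_orderOf_div (orderOf_pos x).ne' hlx
  have hyA : y ∈ A := by rw [hy]; exact A.pow_mem hxA _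
  obtain ⟨h6, hmin, -, hlq⟩ := hARC l hl hln
  -- the image of A in GL₇
  obtain ⟨C, hCdef⟩ : ∃ C : Subgroup (GL (Fin 7) K), C = A.map R.rho := ⟨_, rfl⟩
  have hCM : ∀ c ∈ C, c * R.rho y = R.rho y * c := by
    intro c hc
    rw [hCdef, Subgroup.mem_map] at hc
    obtain ⟨g, hg, rfl⟩ := hc
    rw [← map_mul, ← map_mul, reeg7b_comm A hcyc g y hg hyA]
  have hMC : R.rho y ∈ C := by
    rw [hCdef]
    exact Subgroup.mem_map_of_mem _ hyA
  have hcardC : Nat.card C = Nat.card A := by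
    rw [hCdef]
    exact Nat.card_congr (A.equivMapOfInjective R.rho R.rho_inj).symm.toEquiv
  have hMl : orderOf (R.rho y) = l := by
    rw [orderOf_injective R.rho R.rho_inj y, hyl]
  -- every normalising element acts as a power of the q-power map
  have hact : ∀ n ∈ Subgroup.normalizer (A : Set G), ∃ i, i < 6 ∧
      ∀ a ∈ A, n * a * n⁻¹ = a ^ (qq m ^ i) := by
    intro n hn
    have hnC : ∀ c ∈ C, R.rho n * c * (R.rho n)⁻¹ ∈ C := by
      intro c hc
      rw [hCdef, Subgroup.mem_map] at hc ⊢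
      obtain ⟨g, hg, rfl⟩ := hc
      refine ⟨n * g * n⁻¹, (Subgroup.mem_normalizer_iff.1 hn g).1 hg, ?_⟩
      rw [map_mul, map_mul, map_inv]
    obtain ⟨i, hi, hpow⟩ := hLAE l hl (by rw [hK]; exact h6) (by rw [hK]; exact hmin)
      (by rw [hK]; exact hlq) (R.rho y) hMl C hCM hMC (by rw [hcardC, hK]; exact hcop)
      (R.rho n) hnC
    refine ⟨i, hi, ?_⟩
    intro a ha
    apply R.rho_inj
    have h1 := hpow (R.rho a) (by rw [hCdef]; exact Subgroup.mem_map_of_mem _ ha)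
    rw [map_mul, map_mul, map_inv, h1, hK, map_pow]
  -- the commutative group structure on A and the Frobenius automorphism
  letI : CommGroup A := IsCyclic.commGroup
  have hq6 : ∀ c : A, c ^ (qq m ^ 6) = c := by
    intro c
    have h1 : (c : G) ^ nn m = 1 := hexpA c c.2
    have h2 : c ^ nn m = 1 := by
      apply Subtype.ext
      rw [Subgroup.coe_pow, h1, Subgroup.coe_one]
    obtain ⟨e, he⟩ := reeg7c_nn_dvd m
    have h3 : 1 ≤ qq m ^ 6 := Nat.one_le_pow _ _ (by have := reeg7c_q_ge m; omega)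
    have h4 : qq m ^ 6 = nn m * e + 1 := by omega
    rw [h4, pow_succ, pow_mul, h2, one_pow, one_mul]
  obtain ⟨Fr, hFr⟩ : ∃ Fr : MulAut A, Fr = reeg7c_Fr (qq m) hq6 := ⟨_, rfl⟩
  have hFrpow : ∀ (i : ℕ) (c : A), (Fr ^ i) c = c ^ (qq m ^ i) := by
    intro i c
    rw [hFr]
    exact reeg7c_Fr_pow (qq m) hq6 i c
  have hFr6 : Fr ^ 6 = 1 := by
    ext c
    rw [hFrpow, hq6]
    rfl
  -- the range of N(A) → Aut A lies in ⟨Fr⟩
  have hrange : A.normalizerMonoidHom.range ≤ Subgroup.zpowers Fr := by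
    rintro σ ⟨n, rfl⟩
    obtain ⟨i, -, hi⟩ := hact n.1 n.2
    have : A.normalizerMonoidHom n = Fr ^ i := by
      ext c
      rw [hFrpow]
      show (n : G) * (c : G) * (n : G)⁻¹ = ((c ^ (qq m ^ i) : A) : G)
      rw [Subgroup.coe_pow]
      exact hi c c.2
    rw [this]
    exact Subgroup.npow_mem_zpowers Fr i
  have hk6 : Nat.card A.normalizerMonoidHom.range ∣ 6 := by
    have h1 := Subgroup.card_dvd_of_le hrange
    rw [Nat.card_zpowers] at h1
    exact dvd_trans h1 (orderOf_dvd_of_pow_eq_one hFr6)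
  -- the kernel is A
  have hcentA : Subgroup.centralizer (A : Set G) = A := by
    apply le_antisymm
    · intro g hg
      rw [Subgroup.mem_centralizer_iff] at hg
      have h1 : g ∈ Subgroup.centralizer ({x} : Set G) := by
        rw [reeg7b_mem_cent]
        exact (hg x hxA).symm
      rw [← hAx] at h1
      exact h1
    · intro g hg
      rw [Subgroup.mem_centralizer_iff]
      intro h hh
      exact reeg7b_comm A hcyc h g hh hg
  have hker : Nat.card A.normalizerMonoidHom.ker = Nat.card A := by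
    rw [Subgroup.normalizerMonoidHom_ker, hcentA]
    exact Nat.card_congr (Subgroup.subgroupOfEquivOfLe Subgroup.le_normalizer).toEquiv
  refine ⟨Nat.card A.normalizerMonoidHom.range, hk6, ?_⟩
  have h1 := Subgroup.card_mul_index A.normalizerMonoidHom.ker
  rw [Subgroup.index_ker, hker] at h1
  rw [← h1, mul_comm]

end ReeAx

end Cfsg.Agent.Lib.helper7.REE
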