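import Mathlib
import Cfsg.Agent.Lib.Helper18.BLK.Defs

/-!
# BLK piece T2 : iterated conjugation
-/

set_option autoImplicit false

namespace Cfsg.Agent.Lib.Helper18.BLK

/-- **T2**. iterated conjugation. -/
theorem iter_conj {G : Type*} [Group G] (x u v w ζ : G)
    (h1 : x⁻¹ * u * x = u * v) (h2 : x⁻¹ * v * x = v * w) (h3 : x⁻¹ * w * x = w * ζ)
    (h4 : x⁻¹ * ζ * x = ζ) (cvw : Commute v w) (cvζ : Commute v ζ) (cwζ : Commute w ζ) (k : ℕ) :
    (x ^ k)⁻¹ * u * x ^ k = u * (v ^ k * w ^ (k.choose 2) * ζ ^ (k.choose 3)) := by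
  induction k with
  | zero => simp
  | succ n ih =>
    have hconj : ∀ y : G, ∀ j : ℕ, x⁻¹ * y ^ j * x = (x⁻¹ * y * x) ^ j := by
      intro y j
      have := map_pow (MulAut.conj x⁻¹) y j
      simpa [MulAut.conj_apply] using this
    have e0 : (x ^ (n + 1))⁻¹ * u * x ^ (n + 1) = x⁻¹ * ((x ^ n)⁻¹ * u * x ^ n) * x := by
      rw [pow_succ]; group
    rw [e0, ih]
    have e1 : x⁻¹ * (u * (v ^ n * w ^ (n.choose 2) * ζ ^ (n.choose 3))) * x
        = (x⁻¹ * u * x) * ((x⁻¹ * v ^ n * x) * (x⁻¹ * w ^ (n.choose 2) * x)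
            * (x⁻¹ * ζ ^ (n.choose 3) * x)) := by
      group
    rw [e1, hconj, hconj, hconj, h1, h2, h3, h4, cvw.mul_pow, cwζ.mul_pow]
    have hc2 : (n + 1).choose 2 = n + n.choose 2 := by
      rw [Nat.choose_succ_succ' n 1, Nat.choose_one_right]
    have hc3 : (n + 1).choose 3 = n.choose 2 + n.choose 3 := by
      rw [Nat.choose_succ_succ' n 2]
    rw [hc2, hc3, pow_succ' v n, pow_add w, pow_add ζ]
    have cvw' : ∀ a b : ℕ, Commute (v ^ a) (w ^ b) := fun a b => cvw.pow_pow a b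
    have cvζ' : ∀ a b : ℕ, Commute (v ^ a) (ζ ^ b) := fun a b => cvζ.pow_pow a b
    have cwζ' : ∀ a b : ℕ, Commute (w ^ a) (ζ ^ b) := fun a b => cwζ.pow_pow a b
    -- goal: u * v * (v^n * w^n * (w^c2 * ζ^c2) * ζ^c3) = u * (v * v^n * (w^n * w^c2) * (ζ^c2 * ζ^c3))
    simp only [mul_assoc]
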