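import Mathlib
import Cfsg.Prelude.Def_LieExceptional
import Cfsg.Agent.Lib.helper8.SimpleEmbed

/-!
Project S496 (S0496, coordinator helper3), piece K0: a subgroup of index `d ≥ 5` embeds a nonabelian
simple group `G` in `A_d` with index `j = d!/(2|G|)`; then `j = 1` or `d ≤ j`.
-/

set_option autoImplicit false

namespace Cfsg.Agent.Lib.helper3.S496

open Cfsg.Agent.Lib.helper8

/-- K0: a subgroup of index `d ≥ 5` embeds `G` in `A_d` with index `j = d!/(2|G|)`; then `j = 1` or `d ≤ j`. -/
theorem idx_alt {G : Type*} [Group G] [Finite G] [IsSimpleGroup G] (hG : ¬ IsMulCommutative G)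
    (H : Subgroup G) (hd : 5 ≤ H.index) (j : ℕ)
    (hj : 2 * Nat.card G * j = (H.index).factorial) : j = 1 ∨ H.index ≤ j := by
  classical
  set d := H.index with hdd
  have hH : H ≠ ⊤ := by
    intro h
    rw [hdd, h, Subgroup.index_top] at hd
    omega
  obtain ⟨f, hf⟩ := h8_simple_embeds_alternating hG H hH
  have : Nontrivial (Fin d) := Fin.nontrivial_iff_two_le.mpr (by omega)
  have hA : 2 * Nat.card (alternatingGroup (Fin d)) = d.factorial := by
    have := two_mul_card_alternatingGroup (α := Fin d)
    rw [Nat.card_eq_fintype_card, this, Fintype.card_perm, Fintype.card_fin]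
  have hGpos : 0 < Nat.card G := Nat.card_pos
  set K : Subgroup (alternatingGroup (Fin d)) := f.range with hK
  have hKcard : Nat.card K = Nat.card G :=
    (Nat.card_congr (MonoidHom.ofInjective hf).toEquiv).symm
  have hKidx : K.index = j := by
    have h1 := K.card_mul_index
    rw [hKcard] at h1
    have h2 : Nat.card G * K.index = Nat.card G * j := by
      have : 2 * (Nat.card G * K.index) = 2 * (Nat.card G * j) := by
        rw [h1, hA, ← hj]
        ring
      omega
    exact Nat.eq_of_mul_eq_mul_left hGpos h2
  by_cases hKtop : K = ⊤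
  · left
    rw [← hKidx, hKtop, Subgroup.index_top]
  · right
    have : IsSimpleGroup (alternatingGroup (Fin d)) :=
      alternatingGroup.isSimpleGroup (by rw [Nat.card_eq_fintype_card, Fintype.card_fin]; exact hd)
    have hnc : ¬ IsMulCommutative (alternatingGroup (Fin d)) := by
      apply h8_not_comm_of_card
      intro hp
      have h120 : (5 : ℕ).factorial ∣ d.factorial := Nat.factorial_dvd_factorial hd
      rw [← hA] at h120
      have h60 : 60 ∣ Nat.card (alternatingGroup (Fin d)) := by
        have : (5 : ℕ).factorial = 2 * 60 := by decide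
        rw [this] at h120
        exact (Nat.mul_dvd_mul_iff_left (by norm_num)).1 h120
      have h2 : 2 ∣ Nat.card (alternatingGroup (Fin d)) := Dvd.dvd.trans (by norm_num) h60
      have h3 : 3 ∣ Nat.card (alternatingGroup (Fin d)) := Dvd.dvd.trans (by norm_num) h60
      have e2 := (Nat.prime_dvd_prime_iff_eq Nat.prime_two hp).1 h2
      have e3 := (Nat.prime_dvd_prime_iff_eq Nat.prime_three hp).1 h3
      omega
    have hdvd := h8_simple_two_mul_card_dvd_factorial hnc K hKtop
    rw [hA, hKidx] at hdvd
    by_contra hlt
    push Not at hlt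
    have hle : d.factorial ≤ j.factorial := Nat.le_of_dvd (Nat.factorial_pos j) hdvd
    have hlt' : j.factorial < d.factorial := by
      rcases Nat.eq_zero_or_pos j with h0 | hpos
      · rw [h0, Nat.factorial_zero]
        calc 1 < (5 : ℕ).factorial := by decide
          _ ≤ d.factorial := Nat.factorial_le hd
      · exact Nat.factorial_lt_of_lt hpos hlt
    omega

end Cfsg.Agent.Lib.helper3.S496
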