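import Mathlib
import Cfsg.Prelude.Def_Local
import Cfsg.Agent.Lib.Helper10.Hyperplane
import Cfsg.Agent.Lib.Helper10.ExtLayer
import Cfsg.Agent.Lib.Helper18.CharP
import Cfsg.Agent.Lib.Helper1.Cores
import Cfsg.Agent.S1324

set_option autoImplicit false
set_option linter.unusedSectionVars false

namespace Cfsg.Agent.Lib.Helper10

open Cfsg

section Gen

variable {H : Type*} [Group H] [Finite H]

theorem hyperplane_generation (p : ℕ) [Fact p.Prime] (A X : Subgroup H)
    (hA : IsElementaryAbelian p A) (hA2 : p ^ 2 ≤ Nat.card ↥A) (hX : ¬ p ∣ Nat.card ↥X)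
    (hAX : A ≤ Subgroup.normalizer (X : Set H)) :
    X = ⨆ B : {B : Subgroup H // B ≤ A ∧ B.relIndex A = p},
      X ⊓ Subgroup.centralizer ((B : Subgroup H) : Set H) := by
  have hp : p.Prime := Fact.out
  apply le_antisymm
  · have h1 := Cfsg.Agent.S1324.result p A X hA hA2 hX hAX
    have key : ∀ D : Subgroup H, D ≤ A → D.relIndex A = p →
        X ⊓ Subgroup.centralizer (D : Set H) ≤
          ⨆ B : {B : Subgroup H // B ≤ A ∧ B.relIndex A = p},
            X ⊓ Subgroup.centralizer ((B : Subgroup H) : Set H) := by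
      intro D hDA hDidx
      exact le_iSup (fun B : {B : Subgroup H // B ≤ A ∧ B.relIndex A = p} =>
        X ⊓ Subgroup.centralizer ((B : Subgroup H) : Set H)) ⟨D, hDA, hDidx⟩
    conv_lhs => rw [h1]
    apply iSup_le
    rintro ⟨D, hDA, hDidx⟩
    have hdvd : D.relIndex A ∣ Nat.card ↥A := Subgroup.relIndex_dvd_card D A
    obtain ⟨k, hk⟩ := (IsPGroup.iff_card.1 (elemAb_isPGroup p hA))
    rw [hk] at hdvd
    obtain ⟨j, _, hj⟩ := (Nat.dvd_prime_pow hp).1 hdvd
    by_cases hj1 : j = 0
    · rw [hj1, pow_zero, Subgroup.relIndex_eq_one] at hj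
      have hne : ∃ a ∈ A, a ≠ 1 := by
        by_contra hcon
        push Not at hcon
        have : A = ⊥ := by
          rw [eq_bot_iff]
          intro b hb
          exact Subgroup.mem_bot.2 (hcon b hb)
        rw [this, Subgroup.card_bot] at hA2
        have := hp.one_lt
        nlinarith
      obtain ⟨a, haA, ha1⟩ := hne
      obtain ⟨D', hD'A, _, _, hcard⟩ := exists_hyperplane_avoiding p hA haA ha1
      have hidx' : D'.relIndex A = p := by
        have e := Cfsg.Agent.Lib.Helper1.card_mul_relIndex_of_le hD'A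
        rw [hcard] at e
        exact Nat.eq_of_mul_eq_mul_left Nat.card_pos e
      refine le_trans ?_ (key D' hD'A hidx')
      exact inf_le_inf_left _ (Subgroup.centralizer_le (by exact_mod_cast hD'A.trans hj))
    · have hj2 : j = 1 := by
        have h2 : p ^ j ≤ p ^ 1 := by rw [← hj, pow_one]; exact hDidx
        have := (Nat.pow_le_pow_iff_right hp.one_lt).1 h2
        omega
      rw [hj2, pow_one] at hj
      exact key D hDA hj
  · exact iSup_le (fun _ => inf_le_left)

end Gen

section PPrimeP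

variable {G : Type*} [Group G]

theorem pPrimePCore_map_equiv_le (p : ℕ) {G' : Type*} [Group G'] (e : G ≃* G') :
    (pPrimePCore p G).map e.toMonoidHom ≤ pPrimePCore p G' := by
  have hN : (pPrimeCore p G).Normal := Cfsg.Agent.Lib.Helper1.pPrimeCore_normal p
  have hN' : (pPrimeCore p G').Normal := Cfsg.Agent.Lib.Helper1.pPrimeCore_normal p
  have hmap : (pPrimeCore p G).map e.toMonoidHom = pPrimeCore p G' := pPrimeCore_map_equiv p e
  rintro _ ⟨x, hx, rfl⟩
  have hx' : QuotientGroup.mk' (pPrimeCore p G) x ∈ pCore p (G ⧸ pPrimeCore p G) := hx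
  show QuotientGroup.mk' (pPrimeCore p G') (e x) ∈ pCore p (G' ⧸ pPrimeCore p G')
  have h1 := Cfsg.Agent.Lib.Helper18.pCore_map_mulEquiv_le (p := p)
    (QuotientGroup.congr (pPrimeCore p G) (pPrimeCore p G') e hmap)
  have h2 := h1 (Subgroup.mem_map_of_mem _ hx')
  exact h2

theorem pPrimePCore_characteristic (p : ℕ) : (pPrimePCore p G).Characteristic := by
  rw [Subgroup.characteristic_iff_map_le]
  intro φ
  exact pPrimePCore_map_equiv_le p φ

end PPrimeP

end Cfsg.Agent.Lib.Helper10
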