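import Cfsg.Agent.Lib.Helper10.SZC.Defs
import Cfsg.Agent.Lib.helper7.Induction
import Cfsg.Agent.Lib.Helper25.CharAbelian

/-!
# SZC rows T2, T3, T4: basic facts on `phi A l = Ind_A^G (1 - l)`
-/

set_option autoImplicit false
open scoped ComplexConjugate

namespace Cfsg.Agent.Lib.Helper10.SZC

section
variable {G : Type*} [Group G] [Fintype G]

/-- T2 -/
theorem phi_one (A : Subgroup G) (l : ↥A →* ℂˣ) : phi A l 1 = 0 := by
  unfold phi Cfsg.indFun
  have h : ∀ x : G, Cfsg.extendByZero A (fun a : ↥A => 1 - ((l a : ℂˣ) : ℂ)) (x⁻¹ * 1 * x) = 0 := by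
    intro x
    have hx : x⁻¹ * 1 * x = ((1 : ↥A) : G) := by simp
    rw [hx, Cfsg.Agent.Lib.helper7.h7_extendByZero_coe]
    simp
  simp only [h, Finset.sum_const_zero, mul_zero]

/-- T3 -/
theorem phi_supp (A : Subgroup G) (l : ↥A →* ℂˣ) (g : G) (hg : phi A l g ≠ 0) :
    g ≠ 1 ∧ ∃ x : G, x * g * x⁻¹ ∈ A := by
  refine ⟨?_, ?_⟩
  · rintro rfl
    exact hg (phi_one A l)
  · by_contra hcon
    push Not at hcon
    apply hg
    unfold phi Cfsg.indFun
    have h : ∀ x : G, Cfsg.extendByZero A (fun a : ↥A => 1 - ((l a : ℂˣ) : ℂ)) (x⁻¹ * g * x) = 0 := by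
      intro x
      apply Cfsg.Agent.Lib.helper7.h7_extendByZero_not_mem
      have := hcon x⁻¹
      rwa [inv_inv] at this
    simp only [h, Finset.sum_const_zero, mul_zero]

/-- T4 -/
theorem phi_inner (A : Subgroup G) [Fintype ↥A] (l : ↥A →* ℂˣ) (ψ : G → ℂ)
    (hψ : Cfsg.IsClassFunction G ψ) :
    Cfsg.classInner ψ (phi A l) =
      (Nat.card A : ℂ)⁻¹ * ∑ a : ↥A, ψ (a : G) * (1 - conj ((l a : ℂˣ) : ℂ)) := by
  rw [Cfsg.Agent.Lib.Helper25.classInner_conj_symm (phi A l) ψ]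
  unfold phi
  rw [Cfsg.Agent.Lib.helper7.h7_frobenius_reciprocity A _ ψ hψ]
  unfold Cfsg.classInner
  simp only [map_mul, map_sum, map_inv₀, Complex.conj_natCast, Complex.conj_conj, map_sub, map_one]
  congr 1
  refine Finset.sum_congr rfl (fun a _ => ?_)
  ring

end

end Cfsg.Agent.Lib.Helper10.SZC
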