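import Mathlib
import Cfsg.Agent.Lib.helper23.TD4V.Defs
import Cfsg.Agent.Lib.helper8.ChevTwD4O
import Cfsg.Agent.Lib.Helper21.P4VG1

/-!
# TD4V row F5 (`iota_conj_x0`), core: the statements of F2 (`Ctx.irr`), N5 (`Nm_surj`), I2 (`iota_mul`,
`iota_inv`) and I5 (`x0_eq_iota`) are hypotheses (`hmul` is only used with both torus parameters nonzero).  `conj_cmp` (Helper21.P4VG1) is cited.
-/

set_option autoImplicit false

namespace Cfsg.Agent.Lib.helper23.TD4V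

open Cfsg.Lie Cfsg.Lie.ChevalleyDatum Matrix
open Cfsg.Agent.Lib.helper8 Cfsg.Agent.Lib.helper8.TD4
open Cfsg.Agent.Lib.helper23.P4V

universe u v

/-- `Nm` is multiplicative -/
theorem td4vf5_Nm_mul {K : Type u} [Field K] (q : ℕ) (s t : K) : Nm q (s * t) = Nm q s * Nm q t := by
  unfold Nm
  rw [mul_pow, mul_pow]
  ring

/-- two matrices with the same irreducible characteristic polynomial are conjugate in `GL₂(F)` -/
theorem td4vf5_conj {F : Type u} [Field F] (τ' ν' : F) (hirr : ∀ x : F, x ^ 2 - τ' * x + ν' ≠ 0) (A B : GL (Fin 2) F)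
    (hA1 : (A : M2 F).trace = τ') (hA2 : (A : M2 F).det = ν')
    (hB1 : (B : M2 F).trace = τ') (hB2 : (B : M2 F).det = ν') :
    ∃ R : GL (Fin 2) F, A = R * B * R⁻¹ := by
  obtain ⟨P, hP, hPA⟩ := conj_cmp τ' ν' hirr (A : M2 F) hA1 hA2
  obtain ⟨P', hP', hPB⟩ := conj_cmp τ' ν' hirr (B : M2 F) hB1 hB2
  have hν : ν' ≠ 0 := by
    intro h
    have := hirr 0
    rw [h] at this
    simp at this
  have hC : (cmp τ' ν').det ≠ 0 := by rw [det_cmp]; exact hν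
  have eA : A = mk2 P hP * mk2 (cmp τ' ν') hC * (mk2 P hP)⁻¹ := by
    apply Units.ext
    rw [Units.val_mul, Units.val_mul, mk2_val, mk2_val, Matrix.coe_units_inv, mk2_val]
    exact hPA
  have eB : B = mk2 P' hP' * mk2 (cmp τ' ν') hC * (mk2 P' hP')⁻¹ := by
    apply Units.ext
    rw [Units.val_mul, Units.val_mul, mk2_val, mk2_val, Matrix.coe_units_inv, mk2_val]
    exact hPB
  refine ⟨mk2 P hP * (mk2 P' hP')⁻¹, ?_⟩
  have eC : mk2 (cmp τ' ν') hC = (mk2 P' hP')⁻¹ * B * mk2 P' hP' := by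
    rw [eB]; group
  rw [eA, eC]
  group

section FF

variable {F K : Type u} {E : Type v} [Field F] [Field K] [Field E] [Fintype F] [Fintype K] [Fintype E]
  (j : F →+* K) (ι : K →+* E) (q : ℕ) (t τ : K) (m : E) (c θ : F)

/-- **F5**, core. -/
theorem td4vf5_core (hX : Ctx j ι q t τ m c θ)
    (hF2 : ∀ x : F, x ^ 2 - (c * θ) * x + c ≠ 0)
    (hN5 : ∀ c' : F, c' ≠ 0 → ∃ s : K, s ≠ 0 ∧ Nm q s = j c')
    (hmul : ∀ (A B : GL (Fin 2) F) (t s : K), t ≠ 0 → s ≠ 0 → j (A : M2 F).det = Nm q t →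
      iota j q (A * B) (t * s) = iota j q A t * iota j q B s)
    (hinv : ∀ (A : GL (Fin 2) F) (t : K), t ≠ 0 → j (A : M2 F).det = Nm q t →
      iota j q A⁻¹ t⁻¹ = (iota j q A t)⁻¹)
    (hI5 : ∀ (A0 : GL (Fin 2) F), (A0 : M2 F) = !![0, -1; c, c * θ] → x0 hB q t τ = iota j q A0 t)
    (A1 : GL (Fin 2) F)
    (htr : (A1 : M2 F).trace = c * θ) (hdet : (A1 : M2 F).det = c) :
    ∃ (R : GL (Fin 2) F) (s : K), s ≠ 0 ∧ j (R : M2 F).det = Nm q s ∧
      iota j q A1 t = iota j q R s * x0 hB q t τ * (iota j q R s)⁻¹ := by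
  have ht : t ≠ 0 := hX.hP.ht
  have hc0 : c ≠ 0 := by
    intro h
    have := hF2 0
    rw [h] at this
    simp at this
  have hd0 : (!![0, -1; c, c * θ] : M2 F).det ≠ 0 := by
    rw [Matrix.det_fin_two_of]
    simpa using hc0
  set A0 : GL (Fin 2) F := mk2 (!![0, -1; c, c * θ] : M2 F) hd0 with hA0
  have hA0v : (A0 : M2 F) = !![0, -1; c, c * θ] := rfl
  have hA0tr : (A0 : M2 F).trace = c * θ := by
    rw [hA0v, Matrix.trace_fin_two_of]; ring
  have hA0det : (A0 : M2 F).det = c := by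
    rw [hA0v, Matrix.det_fin_two_of]; ring
  obtain ⟨R, hR⟩ := td4vf5_conj (c * θ) c hF2 A1 A0 htr hdet hA0tr hA0det
  have hRdet : (R : M2 F).det ≠ 0 := by
    have := R.isUnit.map (Matrix.detMonoidHom (n := Fin 2) (R := F))
    exact this.ne_zero
  obtain ⟨s, hs, hNs⟩ := hN5 _ hRdet
  refine ⟨R, s, hs, hNs.symm, ?_⟩
  rw [hI5 A0 hA0v, ← hinv R s hs hNs.symm, ← hmul R A0 s t hs ht hNs.symm]
  have hst : s * t ≠ 0 := mul_ne_zero hs ht
  have hdRA : j ((R * A0 : GL (Fin 2) F) : M2 F).det = Nm q (s * t) := by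
    rw [Units.val_mul, Matrix.det_mul, map_mul, td4vf5_Nm_mul, ← hNs, hA0det, hX.hc]
  rw [← hmul (R * A0) R⁻¹ (s * t) s⁻¹ hst (inv_ne_zero hs) hdRA, ← hR]
  congr 1
  field_simp

end FF

end Cfsg.Agent.Lib.helper23.TD4V
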