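import Mathlib
import Cfsg.Agent.Lib.helper23.TD4V.Defs
import Cfsg.Agent.Lib.helper8.ChevTwD4O
import Cfsg.Agent.Lib.Helper10.TD4VF5core
import Cfsg.Agent.Lib.Helper18.TD4VF2
import Cfsg.Agent.Lib.Helper5.TD4VN5
import Cfsg.Agent.Lib.Helper5.TD4VI2
import Cfsg.Agent.Lib.Helper5.TD4VI5

/-!
# TD4V row F5 (`iota_conj_x0`), verbatim: `td4vf5_core` on the landed F2 (`Ctx.irr`, Helper18), N5 (`Nm_surj`,
Helper5), I2 (`iota_mul` with `hs : s ≠ 0`, `iota_inv`, Helper5), I5 (`x0_eq_iota`, Helper5).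
-/

set_option autoImplicit false
set_option linter.unusedSectionVars false

namespace Cfsg.Agent.Lib.helper23.TD4V

open Cfsg.Lie Cfsg.Lie.ChevalleyDatum Matrix
open Cfsg.Agent.Lib.helper8 Cfsg.Agent.Lib.helper8.TD4
open Cfsg.Agent.Lib.helper23.P4V

universe u v

section FF

variable {F K : Type u} {E : Type v} [Field F] [Field K] [Field E] [Fintype F] [Fintype K] [Fintype E]
  (j : F →+* K) (ι : K →+* E) (q : ℕ) (t τ : K) (m : E) (c θ : F)

/-- **F5** [M]. -/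
theorem iota_conj_x0 (hX : Ctx j ι q t τ m c θ) (A1 : GL (Fin 2) F)
    (htr : (A1 : M2 F).trace = c * θ) (hdet : (A1 : M2 F).det = c) :
    ∃ (R : GL (Fin 2) F) (s : K), s ≠ 0 ∧ j (R : M2 F).det = Nm q s ∧
      iota j q A1 t = iota j q R s * x0 hB q t τ * (iota j q R s)⁻¹ :=
  td4vf5_core j ι q t τ m c θ hX (Ctx.irr j ι q t τ m c θ hX)
    (fun c' hc' => Nm_surj j q hX.hq hX.hF hX.hK c' hc')
    (fun A B t s ht hs h => iota_mul j q A B t s ht hs h) (fun A t ht h => iota_inv j q A t ht h)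
    (fun A0 hA0 => x0_eq_iota j q t τ hX.hP.ht c θ hX.hc hX.hθ A0 hA0) A1 htr hdet

end FF

end Cfsg.Agent.Lib.helper23.TD4V
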