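import Mathlib
import Cfsg.Agent.Lib.helper23.TD4V.Defs
import Cfsg.Agent.Lib.helper8.ChevTwD4O
import Cfsg.Agent.Lib.helper8.TD4M

/-!
# TD4V rows F3 (`fpf_x0`) and F4 (`order_x0'`), verbatim: on helper8's `cent_x0`, `order_x0` (TD4M).
-/

set_option autoImplicit false

namespace Cfsg.Agent.Lib.helper23.TD4V

open Cfsg.Lie Cfsg.Lie.ChevalleyDatum Matrix
open Cfsg.Agent.Lib.helper8 Cfsg.Agent.Lib.helper8.TD4
open Cfsg.Agent.Lib.helper23.P4V

universe u v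

/-- `q` is coprime to `q³ - 1` -/
theorem td4vf3_cop1 (q : ℕ) (hq : 1 ≤ q) : Nat.Coprime q (q ^ 3 - 1) := by
  have h1 : 1 ≤ q ^ 3 := Nat.one_le_pow _ _ hq
  have h2 : Nat.Coprime (q ^ 3) (q ^ 3 - 1) := by
    have h3 : q ^ 3 = (q ^ 3 - 1) + 1 := by omega
    rw [Nat.coprime_comm]
    nth_rewrite 2 [h3]
    simp
  exact Nat.Coprime.coprime_dvd_left (dvd_pow_self q (by norm_num)) h2

/-- `q` is coprime to `q + 1` -/
theorem td4vf3_cop2 (q : ℕ) : Nat.Coprime q (q + 1) := by simp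

/-- `q` is coprime to `nT q = (q³ - 1)(q + 1)` -/
theorem td4vf3_cop (q : ℕ) (hq : 1 ≤ q) : Nat.Coprime q (nT q) := by
  unfold nT
  exact Nat.Coprime.mul_right (td4vf3_cop1 q hq) (td4vf3_cop2 q)

section FF

variable {F K : Type u} {E : Type v} [Field F] [Field K] [Field E] [Fintype F] [Fintype K] [Fintype E]
  (j : F →+* K) (ι : K →+* E) (q : ℕ) (t τ : K) (m : E) (c θ : F)

/-- **F3** [M]. -/
theorem fpf_x0 (hX : Ctx j ι q t τ m c θ) (g : GG K) (hg : g ∈ twistedD4 K q)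
    (hpow : g ^ (q ^ 12) = 1) (hc : g * x0 hB q t τ = x0 hB q t τ * g) : g = 1 := by
  obtain ⟨i, hi⟩ := cent_x0 (hBK := hB) ι q hX.hq hX.hK hX.hE t τ m hX.hP g hg hc
  have hord := order_x0 (hBK := hB) ι q hX.hq hX.hK hX.hE t τ m hX.hP
  have h1 : g ^ nT q = 1 := by
    rw [hi, ← pow_mul, mul_comm, pow_mul, ← hord, pow_orderOf_eq_one, one_pow]
  have hd1 : orderOf g ∣ q ^ 12 := orderOf_dvd_of_pow_eq_one hpow
  have hd2 : orderOf g ∣ nT q := orderOf_dvd_of_pow_eq_one h1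
  have hcop : Nat.Coprime (q ^ 12) (nT q) :=
    Nat.Coprime.pow_left 12 (td4vf3_cop q (le_trans (by norm_num) hX.hq.two_le))
  have h2 : orderOf g = 1 := Nat.eq_one_of_dvd_coprimes hcop hd1 hd2
  exact orderOf_eq_one_iff.mp h2

/-- **F4** [S-M]. -/
theorem order_x0' (hX : Ctx j ι q t τ m c θ) (p : ℕ) [Fact p.Prime] [CharP K p] :
    ¬ p ∣ orderOf (x0 hB q t τ) := by
  have hp : p.Prime := Fact.out
  have hord := order_x0 (hBK := hB) ι q hX.hq hX.hK hX.hE t τ m hX.hP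
  rw [hord]
  intro hdvd
  have h1 : p ∣ Fintype.card K :=
    (CharP.cast_eq_zero_iff K p (Fintype.card K)).mp (FiniteField.cast_card_eq_zero K)
  rw [hX.hK] at h1
  have h2 : p ∣ q := hp.dvd_of_dvd_pow h1
  have hcop := td4vf3_cop q (le_trans (by norm_num) hX.hq.two_le)
  have h3 : p ∣ 1 := by
    have := Nat.dvd_gcd h2 hdvd
    rwa [hcop] at this
  exact hp.one_lt.ne' (Nat.dvd_one.mp h3)

end FF

end Cfsg.Agent.Lib.helper23.TD4V
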