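import Mathlib
import Cfsg.Agent.Lib.helper23.TD4V.Defs
import Cfsg.Agent.Lib.helper8.ChevTwD4O

/-!
# TD4V row G9 (`absorb_right`), verbatim: pure group theory (counting on the finite group `R`).
-/

set_option autoImplicit false

namespace Cfsg.Agent.Lib.helper23.TD4V

open Cfsg.Lie Cfsg.Lie.ChevalleyDatum Matrix
open Cfsg.Agent.Lib.helper8 Cfsg.Agent.Lib.helper8.TD4
open Cfsg.Agent.Lib.helper23.P4V

universe u v

/-- **G9** [S-M] (the counting with `w ↦ x⁻¹ * w * x * w⁻¹`). -/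
theorem absorb_right {Γ : Type u} [Group Γ] (R : Subgroup Γ) [Finite R] (x : Γ)
    (hn : ∀ u ∈ R, x⁻¹ * u * x ∈ R) (hfix : ∀ u ∈ R, u * x = x * u → u = 1) (u : Γ) (hu : u ∈ R) :
    ∃ w ∈ R, w * x * w⁻¹ = x * u := by
  let f : R → R := fun w => ⟨x⁻¹ * (w : Γ) * x * (w : Γ)⁻¹, R.mul_mem (hn _ w.2) (R.inv_mem w.2)⟩
  have hinj : Function.Injective f := by
    intro w w' h
    have h1 : x⁻¹ * (w : Γ) * x * (w : Γ)⁻¹ = x⁻¹ * (w' : Γ) * x * (w' : Γ)⁻¹ :=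
      congrArg Subtype.val h
    have h2 : ((w' : Γ)⁻¹ * (w : Γ)) * x = x * ((w' : Γ)⁻¹ * (w : Γ)) := by
      have h3 : (w : Γ) * x * (w : Γ)⁻¹ = (w' : Γ) * x * (w' : Γ)⁻¹ := by
        have := congrArg (fun z => x * z) h1
        simpa [mul_assoc] using this
      calc ((w' : Γ)⁻¹ * (w : Γ)) * x = (w' : Γ)⁻¹ * ((w : Γ) * x * (w : Γ)⁻¹) * (w : Γ) := by group
        _ = (w' : Γ)⁻¹ * ((w' : Γ) * x * (w' : Γ)⁻¹) * (w : Γ) := by rw [h3]
        _ = x * ((w' : Γ)⁻¹ * (w : Γ)) := by group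
    have h4 := hfix _ (R.mul_mem (R.inv_mem w'.2) w.2) h2
    apply Subtype.ext
    calc (w : Γ) = (w' : Γ) * ((w' : Γ)⁻¹ * (w : Γ)) := by group
      _ = (w' : Γ) := by rw [h4, mul_one]
  have hsurj : Function.Surjective f := Finite.injective_iff_surjective.mp hinj
  obtain ⟨w, hw⟩ := hsurj ⟨u, hu⟩
  refine ⟨w, w.2, ?_⟩
  have h1 : x⁻¹ * (w : Γ) * x * (w : Γ)⁻¹ = u := congrArg Subtype.val hw
  rw [← h1]
  group

end Cfsg.Agent.Lib.helper23.TD4V
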