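import Mathlib
import Cfsg.Agent.Lib.helper23.TD4V.Defs
import Cfsg.Agent.Lib.helper8.ChevTwD4O
import Cfsg.Agent.Lib.helper8.ChevTwD4U

/-!
# TD4V row U9: `Q_pow` verbatim; `Qm_pow` as the core `td4vu9_Qm_pow_core` with the statements of U7a
(`n0_conj_QmK`) and U7b (`n0_mem`, first part) as hypotheses.
-/

set_option autoImplicit false

namespace Cfsg.Agent.Lib.helper23.TD4V

open Cfsg.Lie Cfsg.Lie.ChevalleyDatum Matrix
open Cfsg.Agent.Lib.helper8 Cfsg.Agent.Lib.helper8.TD4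
open Cfsg.Agent.Lib.helper23.P4V

universe u v

section U

variable {K : Type u} [Field K]

/-- `QK ≤ U` -/
theorem td4vu9_QK_le : QK K ≤ chevD4.posUnipotent K := by
  show chevD4.unipotentRadical K ({1} : Set ℕ) ≤ chevD4.posUnipotent K
  unfold ChevalleyDatum.unipotentRadical ChevalleyDatum.posUnipotent
  apply Subgroup.closure_mono
  rintro g ⟨r, t, hr, -, hg⟩
  exact ⟨r, t, hr, hg⟩

/-- elements of `U ⊓ G` have order dividing `q ^ 12` -/
theorem td4vu9_U_pow [Fintype K] (q : ℕ) (hq : IsPrimePow q) (hK : Fintype.card K = q ^ 3) (u : GG K)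
    (hu : u ∈ chevD4.posUnipotent K ⊓ twistedD4 K q) : u ^ (q ^ 12) = 1 := by
  have hcard := h8twD4_U_card (K := K) hq hK
  have h1 : (⟨u, hu⟩ : ↥(chevD4.posUnipotent K ⊓ twistedD4 K q)) ^ (q ^ 12) = 1 := by
    rw [← hcard]
    exact pow_card_eq_one'
  have h2 := congrArg Subtype.val h1
  simpa using h2

/-- **U9** [S-M] (first). -/
theorem Q_pow [Fintype K] (q : ℕ) (hq : IsPrimePow q) (hK : Fintype.card K = q ^ 3) (u : GG K)
    (hu : u ∈ Q K q) : u ^ (q ^ 12) = 1 := by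
  apply td4vu9_U_pow q hq hK u
  unfold Q at hu
  exact ⟨td4vu9_QK_le hu.1, hu.2⟩

/-- **U9** (second), core: U7a and U7b are hypotheses. -/
theorem td4vu9_Qm_pow_core [Fintype K] (q : ℕ) (hq : IsPrimePow q) (hK : Fintype.card K = q ^ 3)
    (hU7a : ∀ g : GG K, g ∈ QmK K → n0⁻¹ * g * n0 ∈ chevD4.posUnipotent K)
    (hU7b : (n0 : GG K) ∈ twistedD4 K q)
    (v : GG K) (hv : v ∈ Qm K q) : v ^ (q ^ 12) = 1 := by
  unfold Qm at hv
  have hw : (n0 : GG K)⁻¹ * v * n0 ∈ chevD4.posUnipotent K ⊓ twistedD4 K q :=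
    ⟨hU7a v hv.1, Subgroup.mul_mem _ (Subgroup.mul_mem _ (Subgroup.inv_mem _ hU7b) hv.2) hU7b⟩
  have h1 := td4vu9_U_pow q hq hK _ hw
  have h2 : ((n0 : GG K)⁻¹ * v * n0) ^ (q ^ 12) = (n0 : GG K)⁻¹ * v ^ (q ^ 12) * n0 := by
    have := conj_pow (a := (n0 : GG K)⁻¹) (b := v) (i := q ^ 12)
    rw [inv_inv] at this
    exact this
  rw [h2] at h1
  have h3 : v ^ (q ^ 12) = (n0 : GG K) * ((n0 : GG K)⁻¹ * v ^ (q ^ 12) * n0) * (n0 : GG K)⁻¹ := by group
  rw [h3, h1]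
  group

end U

end Cfsg.Agent.Lib.helper23.TD4V
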