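import Mathlib
import Cfsg.Agent.Lib.helper23.TD4V.Defs
import Cfsg.Agent.Lib.helper8.ChevTwD4O
import Cfsg.Agent.Lib.Helper10.TD4VG9
import Cfsg.Agent.Lib.Helper10.TD4VF3
import Cfsg.Agent.Lib.Helper10.TD4VU9

/-!
# TD4V row F6 (`absorb`, `absorb_m`), cores: the statements of F5 (`iota_conj_x0`), Q3 (`iota_norm_Q'`,
`iota_norm_Qm`, `iota_norm_Qm'`), I4 (`iota_mem`) and U9 (`Qm_pow`) are hypotheses; G9 (`absorb_right`),
F3 (`fpf_x0`), U9 (`Q_pow`) are cited.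
-/

set_option autoImplicit false

namespace Cfsg.Agent.Lib.helper23.TD4V

open Cfsg.Lie Cfsg.Lie.ChevalleyDatum Matrix
open Cfsg.Agent.Lib.helper8 Cfsg.Agent.Lib.helper8.TD4
open Cfsg.Agent.Lib.helper23.P4V

universe u v

/-- the counting of G8 (`w ↦ w * x * w⁻¹ * x⁻¹`), own copy -/
theorem td4vf6_absorb_left {Γ : Type u} [Group Γ] (R : Subgroup Γ) [Finite R] (x : Γ)
    (hn : ∀ u ∈ R, x * u * x⁻¹ ∈ R) (hfix : ∀ u ∈ R, u * x = x * u → u = 1) (u : Γ) (hu : u ∈ R) :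
    ∃ w ∈ R, w * x * w⁻¹ = u * x := by
  have hn' : ∀ u ∈ R, (x⁻¹)⁻¹ * u * x⁻¹ ∈ R := by
    intro u hu
    rw [inv_inv]
    exact hn u hu
  have hfix' : ∀ u ∈ R, u * x⁻¹ = x⁻¹ * u → u = 1 := by
    intro u hu h
    apply hfix u hu
    calc u * x = x * (x⁻¹ * u) * x := by group
      _ = x * (u * x⁻¹) * x := by rw [h]
      _ = x * u := by group
  obtain ⟨w, hw, h⟩ := absorb_right R x⁻¹ hn' hfix' u⁻¹ (R.inv_mem hu)
  refine ⟨w, hw, ?_⟩
  have h2 : (w * x⁻¹ * w⁻¹)⁻¹ = (x⁻¹ * u⁻¹)⁻¹ := by rw [h]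
  calc w * x * w⁻¹ = (w * x⁻¹ * w⁻¹)⁻¹ := by group
    _ = (x⁻¹ * u⁻¹)⁻¹ := h2
    _ = u * x := by group

section FF

variable {F K : Type u} {E : Type v} [Field F] [Field K] [Field E] [Fintype F] [Fintype K] [Fintype E]
  (j : F →+* K) (ι : K →+* E) (q : ℕ) (t τ : K) (m : E) (c θ : F)

/-- **F6** (first), core. -/
theorem td4vf6_absorb_core (hX : Ctx j ι q t τ m c θ)
    (hF5 : ∀ A1 : GL (Fin 2) F, (A1 : M2 F).trace = c * θ → (A1 : M2 F).det = c →
      ∃ (R : GL (Fin 2) F) (s : K), s ≠ 0 ∧ j (R : M2 F).det = Nm q s ∧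
        iota j q A1 t = iota j q R s * x0 hB q t τ * (iota j q R s)⁻¹)
    (hQ3' : ∀ (A : GL (Fin 2) F) (t : K), t ≠ 0 → ∀ u : GG K, u ∈ Q K q →
      (iota j q A t)⁻¹ * u * iota j q A t ∈ Q K q)
    (hI4 : ∀ (A : GL (Fin 2) F) (t : K), t ≠ 0 → iota j q A t ∈ twistedD4 K q)
    (A1 : GL (Fin 2) F) (htr : (A1 : M2 F).trace = c * θ)
    (hdet : (A1 : M2 F).det = c) (u : GG K) (hu : u ∈ Q K q) :
    CjG q (x0 hB q t τ) (iota j q A1 t * u) := by
  classical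
  have ht : t ≠ 0 := hX.hP.ht
  obtain ⟨R, s, hs, -, hl⟩ := hF5 A1 htr hdet
  have hfinG : Finite (GG K) := inferInstance
  have hfin : Finite (Q K q) := inferInstance
  have hQG : ∀ w ∈ Q K q, w ∈ twistedD4 K q := fun w hw => by
    unfold Q at hw
    exact hw.2
  have hfix : ∀ w ∈ Q K q, w * iota j q A1 t = iota j q A1 t * w → w = 1 := by
    intro w hw hcomm
    have h1 : (iota j q R s)⁻¹ * w * iota j q R s ∈ Q K q := hQ3' R s hs w hw
    have h2 : (iota j q R s)⁻¹ * w * iota j q R s * x0 hB q t τ =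
        x0 hB q t τ * ((iota j q R s)⁻¹ * w * iota j q R s) := by
      rw [hl] at hcomm
      calc (iota j q R s)⁻¹ * w * iota j q R s * x0 hB q t τ
          = (iota j q R s)⁻¹ * (w * (iota j q R s * x0 hB q t τ * (iota j q R s)⁻¹)) * iota j q R s := by
            group
        _ = (iota j q R s)⁻¹ * ((iota j q R s * x0 hB q t τ * (iota j q R s)⁻¹) * w) * iota j q R s := by
            rw [hcomm]
        _ = x0 hB q t τ * ((iota j q R s)⁻¹ * w * iota j q R s) := by group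
    have h3 := fpf_x0 j ι q t τ m c θ hX _ (hQG _ h1) (Q_pow q hX.hq hX.hK _ h1) h2
    calc w = iota j q R s * ((iota j q R s)⁻¹ * w * iota j q R s) * (iota j q R s)⁻¹ := by group
      _ = 1 := by rw [h3]; group
  obtain ⟨w, hw, h⟩ := absorb_right (Q K q) (iota j q A1 t) (hQ3' A1 t ht) hfix u hu
  refine ⟨w * iota j q R s, Subgroup.mul_mem _ (hQG w hw) (hI4 R s hs), ?_⟩
  rw [← h, hl]
  group

/-- **F6** (second), core. -/
theorem td4vf6_absorb_m_core (hX : Ctx j ι q t τ m c θ)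
    (hF5 : ∀ A1 : GL (Fin 2) F, (A1 : M2 F).trace = c * θ → (A1 : M2 F).det = c →
      ∃ (R : GL (Fin 2) F) (s : K), s ≠ 0 ∧ j (R : M2 F).det = Nm q s ∧
        iota j q A1 t = iota j q R s * x0 hB q t τ * (iota j q R s)⁻¹)
    (hQ3m : ∀ (A : GL (Fin 2) F) (t : K), t ≠ 0 → ∀ v : GG K, v ∈ Qm K q →
      iota j q A t * v * (iota j q A t)⁻¹ ∈ Qm K q)
    (hQ3m' : ∀ (A : GL (Fin 2) F) (t : K), t ≠ 0 → ∀ v : GG K, v ∈ Qm K q →
      (iota j q A t)⁻¹ * v * iota j q A t ∈ Qm K q)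
    (hI4 : ∀ (A : GL (Fin 2) F) (t : K), t ≠ 0 → iota j q A t ∈ twistedD4 K q)
    (hQmpow : ∀ v : GG K, v ∈ Qm K q → v ^ (q ^ 12) = 1)
    (A1 : GL (Fin 2) F) (htr : (A1 : M2 F).trace = c * θ)
    (hdet : (A1 : M2 F).det = c) (v : GG K) (hv : v ∈ Qm K q) :
    CjG q (x0 hB q t τ) (v * iota j q A1 t) := by
  classical
  have ht : t ≠ 0 := hX.hP.ht
  obtain ⟨R, s, hs, -, hl⟩ := hF5 A1 htr hdet
  have hfinG : Finite (GG K) := inferInstance
  have hfin : Finite (Qm K q) := inferInstance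
  have hQG : ∀ w ∈ Qm K q, w ∈ twistedD4 K q := fun w hw => by
    unfold Qm at hw
    exact hw.2
  have hfix : ∀ w ∈ Qm K q, w * iota j q A1 t = iota j q A1 t * w → w = 1 := by
    intro w hw hcomm
    have h1 : (iota j q R s)⁻¹ * w * iota j q R s ∈ Qm K q := hQ3m' R s hs w hw
    have h2 : (iota j q R s)⁻¹ * w * iota j q R s * x0 hB q t τ =
        x0 hB q t τ * ((iota j q R s)⁻¹ * w * iota j q R s) := by
      rw [hl] at hcomm
      calc (iota j q R s)⁻¹ * w * iota j q R s * x0 hB q t τ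
          = (iota j q R s)⁻¹ * (w * (iota j q R s * x0 hB q t τ * (iota j q R s)⁻¹)) * iota j q R s := by
            group
        _ = (iota j q R s)⁻¹ * ((iota j q R s * x0 hB q t τ * (iota j q R s)⁻¹) * w) * iota j q R s := by
            rw [hcomm]
        _ = x0 hB q t τ * ((iota j q R s)⁻¹ * w * iota j q R s) := by group
    have h3 := fpf_x0 j ι q t τ m c θ hX _ (hQG _ h1) (hQmpow _ h1) h2
    calc w = iota j q R s * ((iota j q R s)⁻¹ * w * iota j q R s) * (iota j q R s)⁻¹ := by group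
      _ = 1 := by rw [h3]; group
  obtain ⟨w, hw, h⟩ := td4vf6_absorb_left (Qm K q) (iota j q A1 t) (hQ3m A1 t ht) hfix v hv
  refine ⟨w * iota j q R s, Subgroup.mul_mem _ (hQG w hw) (hI4 R s hs), ?_⟩
  rw [← h, hl]
  group

end FF

end Cfsg.Agent.Lib.helper23.TD4V
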