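import Mathlib
import Cfsg.Agent.Lib.helper23.TD4V.Defs
import Cfsg.Agent.Lib.helper8.ChevTwD4O
import Cfsg.Agent.Lib.Helper10.TD4VU9
import Cfsg.Agent.Lib.Helper26.TD4VU7a
import Cfsg.Agent.Lib.helper8.TD4VU7b

/-!
# TD4V row U9, second part (`Qm_pow`), verbatim: `td4vu9_Qm_pow_core` on the landed U7a (`n0_conj_QmK`,
Helper26) and U7b (`n0_mem`, helper8).
-/

set_option autoImplicit false

namespace Cfsg.Agent.Lib.helper23.TD4V

open Cfsg.Lie Cfsg.Lie.ChevalleyDatum Matrix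
open Cfsg.Agent.Lib.helper8 Cfsg.Agent.Lib.helper8.TD4
open Cfsg.Agent.Lib.helper23.P4V

universe u v

section U

variable {K : Type u} [Field K]

/-- **U9** [S-M] (second). -/
theorem Qm_pow [Fintype K] (q : ℕ) (hq : IsPrimePow q) (hK : Fintype.card K = q ^ 3) (v : GG K)
    (hv : v ∈ Qm K q) : v ^ (q ^ 12) = 1 :=
  td4vu9_Qm_pow_core q hq hK n0_conj_QmK (n0_mem q hq hK).1 v hv

end U

end Cfsg.Agent.Lib.helper23.TD4V
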