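import Mathlib
import Cfsg.Agent.Lib.helper23.TD4V.Defs
import Cfsg.Agent.Lib.helper8.ChevTwD4O
import Cfsg.Agent.Lib.Helper10.TD4VF6core
import Cfsg.Agent.Lib.Helper10.TD4VF5
import Cfsg.Agent.Lib.Helper10.TD4VU9b
import Cfsg.Agent.Lib.Helper5.TD4VQ3
import Cfsg.Agent.Lib.Helper9.TD4VI4

/-!
# TD4V row F6 (`absorb`, `absorb_m`), verbatim: the cores on the landed F5 (`iota_conj_x0`), Q3 (Helper5),
I4 (`iota_mem`, Helper9), U9 (`Qm_pow`).
-/

set_option autoImplicit false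
set_option linter.unusedSectionVars false

namespace Cfsg.Agent.Lib.helper23.TD4V

open Cfsg.Lie Cfsg.Lie.ChevalleyDatum Matrix
open Cfsg.Agent.Lib.helper8 Cfsg.Agent.Lib.helper8.TD4
open Cfsg.Agent.Lib.helper23.P4V

universe u v

section FF

variable {F K : Type u} {E : Type v} [Field F] [Field K] [Field E] [Fintype F] [Fintype K] [Fintype E]
  (j : F →+* K) (ι : K →+* E) (q : ℕ) (t τ : K) (m : E) (c θ : F)

/-- **F6** [M] (first). -/
theorem absorb (hX : Ctx j ι q t τ m c θ) (A1 : GL (Fin 2) F) (htr : (A1 : M2 F).trace = c * θ)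
    (hdet : (A1 : M2 F).det = c) (u : GG K) (hu : u ∈ Q K q) :
    CjG q (x0 hB q t τ) (iota j q A1 t * u) :=
  td4vf6_absorb_core j ι q t τ m c θ hX
    (fun A1 htr hdet => iota_conj_x0 j ι q t τ m c θ hX A1 htr hdet)
    (fun A t ht u hu => iota_norm_Q' j q hX.hq hX.hF hX.hK A t ht u hu)
    (fun A t ht => (iota_mem j q hX.hq hX.hF hX.hK A t ht).1) A1 htr hdet u hu

/-- **F6** [M] (second). -/
theorem absorb_m (hX : Ctx j ι q t τ m c θ) (A1 : GL (Fin 2) F) (htr : (A1 : M2 F).trace = c * θ)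
    (hdet : (A1 : M2 F).det = c) (v : GG K) (hv : v ∈ Qm K q) :
    CjG q (x0 hB q t τ) (v * iota j q A1 t) :=
  td4vf6_absorb_m_core j ι q t τ m c θ hX
    (fun A1 htr hdet => iota_conj_x0 j ι q t τ m c θ hX A1 htr hdet)
    (fun A t ht v hv => iota_norm_Qm j q hX.hq hX.hF hX.hK A t ht v hv)
    (fun A t ht v hv => iota_norm_Qm' j q hX.hq hX.hF hX.hK A t ht v hv)
    (fun A t ht => (iota_mem j q hX.hq hX.hF hX.hK A t ht).1)
    (fun v hv => Qm_pow q hX.hq hX.hK v hv) A1 htr hdet v hv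

end FF

end Cfsg.Agent.Lib.helper23.TD4V
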