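import Mathlib
import Cfsg.Agent.Lib.helper23.TD4V.Defs
import Cfsg.Agent.Lib.helper8.ChevTwD4O
import Cfsg.Agent.Lib.helper8.ChevFix4
import Cfsg.Agent.Lib.helper8.ChevTw8
import Cfsg.Agent.Lib.helper8.ChevCommAll
import Cfsg.Agent.Lib.helper8.ChevBNAll
import Cfsg.Agent.Lib.helper8.ChevBNAll2
import Cfsg.Agent.Lib.helper8.ChevOrdAll

/-!
# TD4V row E4b (`nJbJ_form`), verbatim, and general tools for E4c:
`td4ve4_act` (the element `n_w` conjugates `x_s(t)` to `x_{w s}(ε t)` and `x_{-s}(t)` to `x_{-w s}(ε t)` with the same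
sign `ε = ±1`), `td4ve4_word_H` (a word acting trivially on the roots gives an element of `H`), `td4ve4_nb_mem`,
`td4ve4_nJ_mem` (`nb, nJ ∈ ³D₄(q)`).
-/

set_option autoImplicit false

namespace Cfsg.Agent.Lib.helper23.TD4V

open Cfsg.Lie Cfsg.Lie.ChevalleyDatum Matrix
open Cfsg.Agent.Lib.helper8 Cfsg.Agent.Lib.helper8.TD4
open Cfsg.Agent.Lib.helper23.P4V

universe u v

section E4

variable {K : Type u} [Field K]

theorem td4ve4_hD : chevD4 ∈ [chevG2, chevB2, chevD4, chevF4, chevE6, chevE7, chevE8] := by simp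

/-- `n_w` conjugates `x_s(t)` to `x_{w s}(ε t)` and `x_{-s}(t)` to `x_{-w s}(ε t)`, `ε = ±1` -/
theorem td4ve4_act (w : List ℕ) (hw : ∀ i ∈ w, i < chevD4.rank) (s : ℕ) (hs : s < chevD4.nroots) :
    ∃ ε : K, (ε = 1 ∨ ε = -1) ∧
      (∀ t : K, (h8nWU chevD4 hB w : GG K) * X s t * (h8nWU chevD4 hB w : GG K)⁻¹ =
        X (h8sW chevD4 w s) (ε * t)) ∧
      (∀ t : K, (h8nWU chevD4 hB w : GG K) * X (chevD4.negIdx.getD s 0) t *
        (h8nWU chevD4 hB w : GG K)⁻¹ = X (chevD4.negIdx.getD (h8sW chevD4 w s) 0) (ε * t)) := by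
  have hA := h8reflAll chevD4 td4ve4_hD
  have hW := h8bn2_all chevD4 td4ve4_hD
  obtain ⟨c, hc, h1, h2⟩ := h8actN_word (F := K) chevD4 hB hA w hw s hs
  obtain ⟨η, hη, h3⟩ := h8nWU_conj (F := K) chevD4 hB hA w hw s hs
  have h4 : (h8nWU chevD4 hB w : GG K) * X s 1 * (h8nWU chevD4 hB w : GG K)⁻¹ =
      X (h8sW chevD4 w s) ((η : K) * 1) := by
    rw [mul_inv_eq_iff_eq_mul]
    apply Units.ext
    unfold X
    rw [Units.val_mul, Units.val_mul, h8xU_val, h8xU_val]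
    exact h3 1
  have h5 : c * 1 = (η : K) * 1 := by
    apply h8xU_inj_t chevD4 hB hA hW (h8sW chevD4 w s) (h8sW_lt chevD4 hA w hw s hs)
    have := h1 1
    unfold X at h4
    rw [← this, h4]
  rw [mul_one, mul_one] at h5
  have hc1 : c = 1 ∨ c = -1 := by
    rcases hη with rfl | rfl
    · left; simpa using h5
    · right; simpa using h5
  have hcinv : c⁻¹ = c := by
    rcases hc1 with rfl | rfl <;> simp
  refine ⟨c, hc1, fun t => h1 t, fun t => ?_⟩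
  have := h2 t
  rw [hcinv] at this
  exact this

/-- a word acting trivially on the roots gives an element of `H` -/
theorem td4ve4_word_H (w : List ℕ) (hw : ∀ i ∈ w, i < chevD4.rank)
    (h : ∀ r < chevD4.nroots, h8sW chevD4 w r = r) :
    (h8nWU chevD4 hB w : GG K) ∈ chevD4.diagonalSubgroup K := by
  have hA := h8reflAll chevD4 td4ve4_hD
  have hW := h8bn2_all chevD4 td4ve4_hD
  have hBN := h8bn_all chevD4 td4ve4_hD
  obtain ⟨hO, hO2⟩ := h8ord_all chevD4 td4ve4_hD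
  have h1 := h8nWU_same_H (K := K) chevD4 hB hA hBN hW hO2 [] w (by simp) hw
    (fun r hr => (h r hr).symm)
  have h2 : (h8nWU chevD4 hB ([] : List ℕ) : GG K) = 1 := rfl
  rw [h2, inv_one, one_mul] at h1
  exact h1

theorem td4ve4_nb_eq : (nb : GG K) = h8nWU chevD4 hB [1] := by
  rw [h8nWU_single]
  rfl

theorem td4ve4_nb_mem [Fintype K] (q : ℕ) (hq : IsPrimePow q) (hK : Fintype.card K = q ^ 3) :
    (nb : GG K) ∈ twistedD4 K q := by
  obtain ⟨f, -, -, hneg⟩ := h8frob_exists hq 3 (by norm_num) hK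
  have hC := h8commAll.{u} chevD4 td4ve4_hD
  rw [td4ve4_nb_eq]
  exact h8twD4_nJ hB hC q hneg [⟨1, by decide⟩] (by simp [h8orbsD4])

theorem td4ve4_nJ_mem [Fintype K] (q : ℕ) (hq : IsPrimePow q) (hK : Fintype.card K = q ^ 3) :
    (nJ : GG K) ∈ twistedD4 K q := by
  obtain ⟨f, -, -, hneg⟩ := h8frob_exists hq 3 (by norm_num) hK
  have hC := h8commAll.{u} chevD4 td4ve4_hD
  exact h8twD4_nJ hB hC q hneg [⟨0, by decide⟩, ⟨2, by decide⟩, ⟨3, by decide⟩] (by simp [h8orbsD4])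

/-- `nb = x₁₄(1) x₉(-1) x₁₄(1)` -/
theorem td4ve4_nb_form : (nb : GG K) = X 14 1 * X 9 (-1) * X 14 1 := by
  unfold nb X
  rw [h8nU_eq]
  have h9 : chevD4.negIdx.getD 14 0 = 9 := by decide
  rw [h9, inv_one]

/-- conjugation of `nb` by `n_w` -/
theorem td4ve4_conj_nb (w : List ℕ) (hw : ∀ i ∈ w, i < chevD4.rank) :
    ∃ ε : K, (ε = 1 ∨ ε = -1) ∧
      (h8nWU chevD4 hB w : GG K) * nb * (h8nWU chevD4 hB w : GG K)⁻¹ =
        X (h8sW chevD4 w 14) ε * X (chevD4.negIdx.getD (h8sW chevD4 w 14) 0) (-ε) *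
          X (h8sW chevD4 w 14) ε := by
  obtain ⟨ε, hε, h1, h2⟩ := td4ve4_act (K := K) w hw 14 (by decide)
  refine ⟨ε, hε, ?_⟩
  have h9 : chevD4.negIdx.getD 14 0 = 9 := by decide
  rw [h9] at h2
  rw [td4ve4_nb_form]
  have e1 := h1 1
  have e2 := h2 (-1)
  rw [mul_one] at e1
  rw [mul_neg, mul_one] at e2
  rw [← e1, ← e2]
  group

end E4

section E

variable {F K : Type u} [Field F] [Field K] [Fintype F] [Fintype K] (j : F →+* K) (q : ℕ)

/-- **E4b** [M]. -/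
theorem nJbJ_form (hq : IsPrimePow q) (hK : Fintype.card K = q ^ 3) :
    ∃ ε : K, (ε = 1 ∨ ε = -1) ∧ ∃ h ∈ chevD4.diagonalSubgroup K ⊓ twistedD4 K q,
      (nJ * nb * nJ : GG K) = X 22 ε * X 1 (-ε) * X 22 ε * h := by
  have hw : ∀ i ∈ [0, 2, 3], i < chevD4.rank := by decide
  obtain ⟨ε, hε, h1⟩ := td4ve4_conj_nb (K := K) [0, 2, 3] hw
  have e22 : h8sW chevD4 [0, 2, 3] 14 = 22 := by decide
  have e1 : chevD4.negIdx.getD 22 0 = 1 := by decide
  rw [e22, e1] at h1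
  have hnJ : (nJ : GG K) ∈ twistedD4 K q := td4ve4_nJ_mem q hq hK
  have hH : (nJ * nJ : GG K) ∈ chevD4.diagonalSubgroup K := by
    have h2 : (nJ * nJ : GG K) = h8nWU chevD4 hB ([0, 2, 3] ++ [0, 2, 3]) := by
      rw [h8nWU_append]; rfl
    rw [h2]
    exact td4ve4_word_H _ (by decide) (by decide)
  refine ⟨ε, hε, nJ * nJ, ⟨hH, Subgroup.mul_mem _ hnJ hnJ⟩, ?_⟩
  have h3 : (nJ : GG K) = h8nWU chevD4 hB [0, 2, 3] := rfl
  rw [← h1, ← h3]
  group

end E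

end Cfsg.Agent.Lib.helper23.TD4V
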