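import Mathlib
import Cfsg.Agent.Lib.helper23.TD4V.Defs
import Cfsg.Agent.Lib.helper8.ChevTwD4O
import Cfsg.Agent.Lib.helper8.ChevTw7
import Cfsg.Agent.Lib.Helper10.TD4VE4b

/-!
# TD4V row E4c (`nJbJbJ_form`), core: the statement of E4a (`nJ_form`) is a hypothesis.
-/

set_option autoImplicit false

namespace Cfsg.Agent.Lib.helper23.TD4V

open Cfsg.Lie Cfsg.Lie.ChevalleyDatum Matrix
open Cfsg.Agent.Lib.helper8 Cfsg.Agent.Lib.helper8.TD4
open Cfsg.Agent.Lib.helper23.P4V

universe u v

section E4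

variable {K : Type u} [Field K]

/-- commuting root elements -/
theorem td4ve4c_comm (r s : ℕ) (hr : r < chevD4.nroots) (hs : s < chevD4.nroots) (hne : s ≠ r)
    (hneg : s ≠ chevD4.negIdx.getD r 0) (hterms : chevD4.commTerms r s = []) (t u : K) :
    Commute (X r t : GG K) (X s u) :=
  h8xU_commute chevD4 hB (h8commAll.{u} chevD4 td4ve4_hD) r s hr hs hne hneg hterms t u

theorem td4ve4c_comm_XA (r : ℕ) (hr : r = 23 ∨ r = 0) (c s1 s2 s3 : K) :
    Commute (X r c : GG K) (XA s1 s2 s3) := by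
  unfold XA
  rcases hr with rfl | rfl
  · exact ((td4ve4c_comm 23 18 (by decide) (by decide) (by decide) (by decide) (by decide) c s1).mul_right
      (td4ve4c_comm 23 13 (by decide) (by decide) (by decide) (by decide) (by decide) c s2)).mul_right
      (td4ve4c_comm 23 12 (by decide) (by decide) (by decide) (by decide) (by decide) c s3)
  · exact ((td4ve4c_comm 0 18 (by decide) (by decide) (by decide) (by decide) (by decide) c s1).mul_right
      (td4ve4c_comm 0 13 (by decide) (by decide) (by decide) (by decide) (by decide) c s2)).mul_right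
      (td4ve4c_comm 0 12 (by decide) (by decide) (by decide) (by decide) (by decide) c s3)

theorem td4ve4c_comm_XmA (r : ℕ) (hr : r = 23 ∨ r = 0) (c s1 s2 s3 : K) :
    Commute (X r c : GG K) (XmA s1 s2 s3) := by
  unfold XmA
  rcases hr with rfl | rfl
  · exact ((td4ve4c_comm 23 5 (by decide) (by decide) (by decide) (by decide) (by decide) c s1).mul_right
      (td4ve4c_comm 23 10 (by decide) (by decide) (by decide) (by decide) (by decide) c s2)).mul_right
      (td4ve4c_comm 23 11 (by decide) (by decide) (by decide) (by decide) (by decide) c s3)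
  · exact ((td4ve4c_comm 0 5 (by decide) (by decide) (by decide) (by decide) (by decide) c s1).mul_right
      (td4ve4c_comm 0 10 (by decide) (by decide) (by decide) (by decide) (by decide) c s2)).mul_right
      (td4ve4c_comm 0 11 (by decide) (by decide) (by decide) (by decide) (by decide) c s3)

end E4

section E

variable {F K : Type u} [Field F] [Field K] [Fintype F] [Fintype K] (j : F →+* K) (q : ℕ)

/-- **E4c**, core. -/
theorem td4ve4c_core
    (hE4a : (nJ : GG K) = XA 1 1 1 * XmA (-1) (-1) (-1) * XA 1 1 1)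
    (hq : IsPrimePow q) (hK : Fintype.card K = q ^ 3) :
    ∃ ε : K, (ε = 1 ∨ ε = -1) ∧ ∃ h ∈ chevD4.diagonalSubgroup K ⊓ twistedD4 K q,
      (nJ * nb * nJ * nb * nJ : GG K) =
        (XA 1 1 1 * X 23 ε) * (XmA (-1) (-1) (-1) * X 0 (-ε)) * (XA 1 1 1 * X 23 ε) * h * nb⁻¹ := by
  have hw : ∀ i ∈ [1, 0, 2, 3], i < chevD4.rank := by decide
  obtain ⟨ε, hε, h1⟩ := td4ve4_conj_nb (K := K) [1, 0, 2, 3] hw
  have e23 : h8sW chevD4 [1, 0, 2, 3] 14 = 23 := by decide
  have e0 : chevD4.negIdx.getD 23 0 = 0 := by decide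
  rw [e23, e0] at h1
  have hnJ : (nJ : GG K) ∈ twistedD4 K q := td4ve4_nJ_mem q hq hK
  have hnb : (nb : GG K) ∈ twistedD4 K q := td4ve4_nb_mem q hq hK
  have hword : (h8nWU chevD4 hB [1, 0, 2, 3] : GG K) = nb * nJ := by
    have : ([1, 0, 2, 3] : List ℕ) = [1] ++ [0, 2, 3] := rfl
    rw [this, h8nWU_append, ← td4ve4_nb_eq]
    rfl
  rw [hword] at h1
  have hH : (nb * nJ * nJ * nb : GG K) ∈ chevD4.diagonalSubgroup K := by
    have h2 : (nb * nJ * nJ * nb : GG K) =
        h8nWU chevD4 hB ([1] ++ [0, 2, 3] ++ [0, 2, 3] ++ [1]) := by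
      rw [h8nWU_append, h8nWU_append, h8nWU_append, ← td4ve4_nb_eq]; rfl
    rw [h2]
    exact td4ve4_word_H _ (by decide) (by decide)
  refine ⟨ε, hε, nb * nJ * nJ * nb,
    ⟨hH, Subgroup.mul_mem _ (Subgroup.mul_mem _ (Subgroup.mul_mem _ hnb hnJ) hnJ) hnb⟩, ?_⟩
  have h3 : (nJ * nb * nJ * nb * nJ : GG K) =
      nJ * ((nb * nJ) * nb * (nb * nJ)⁻¹) * (nb * nJ * nJ * nb) * nb⁻¹ := by group
  rw [h3, h1]
  have cpa := td4ve4c_comm_XA (K := K) 23 (Or.inl rfl) ε 1 1 1
  have cpb := td4ve4c_comm_XmA (K := K) 23 (Or.inl rfl) ε (-1) (-1) (-1)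
  have cza := td4ve4c_comm_XA (K := K) 0 (Or.inr rfl) (-ε) 1 1 1
  have h4 : (nJ : GG K) * (X 23 ε * X 0 (-ε) * X 23 ε) =
      (XA 1 1 1 * X 23 ε) * (XmA (-1) (-1) (-1) * X 0 (-ε)) * (XA 1 1 1 * X 23 ε) := by
    rw [hE4a]
    generalize (XA 1 1 1 : GG K) = a at *
    generalize (XmA (-1) (-1) (-1) : GG K) = b at *
    generalize (X 23 ε : GG K) = p at *
    generalize (X 0 (-ε) : GG K) = z at *
    have e1 : p * a = a * p := cpa.eq
    have e2 : p * b = b * p := cpb.eq
    have e3 : z * a = a * z := cza.eq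
    calc a * b * a * (p * z * p) = a * b * (a * p) * z * p := by group
      _ = a * b * (p * a) * z * p := by rw [e1]
      _ = a * (b * p) * a * z * p := by group
      _ = a * (p * b) * a * z * p := by rw [e2]
      _ = a * p * b * (a * z) * p := by group
      _ = a * p * b * (z * a) * p := by rw [e3]
      _ = a * p * (b * z) * (a * p) := by group
  rw [← h4]

end E

end Cfsg.Agent.Lib.helper23.TD4V
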