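import Mathlib
import Cfsg.Agent.Lib.helper23.TD4V.Defs
import Cfsg.Agent.Lib.helper8.ChevTwD4O
import Cfsg.Agent.Lib.Helper10.TD4VE4ccore
import Cfsg.Agent.Lib.Helper20.TD4VE4a

/-!
# TD4V row E4c (`nJbJbJ_form`), verbatim: `td4ve4c_core` on the landed E4a (`nJ_form`, Helper20).
-/

set_option autoImplicit false

namespace Cfsg.Agent.Lib.helper23.TD4V

open Cfsg.Lie Cfsg.Lie.ChevalleyDatum Matrix
open Cfsg.Agent.Lib.helper8 Cfsg.Agent.Lib.helper8.TD4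
open Cfsg.Agent.Lib.helper23.P4V

universe u v

section E

variable {F K : Type u} [Field F] [Field K] [Fintype F] [Fintype K] (j : F →+* K) (q : ℕ)

/-- **E4c** [M]. -/
theorem nJbJbJ_form (hq : IsPrimePow q) (hK : Fintype.card K = q ^ 3) :
    ∃ ε : K, (ε = 1 ∨ ε = -1) ∧ ∃ h ∈ chevD4.diagonalSubgroup K ⊓ twistedD4 K q,
      (nJ * nb * nJ * nb * nJ : GG K) =
        (XA 1 1 1 * X 23 ε) * (XmA (-1) (-1) (-1) * X 0 (-ε)) * (XA 1 1 1 * X 23 ε) * h * nb⁻¹ :=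
  td4ve4c_core q nJ_form hq hK

end E

end Cfsg.Agent.Lib.helper23.TD4V
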