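import Cfsg.Agent.Lib.Helper21.TS.Basic

set_option autoImplicit false
set_option linter.unusedSectionVars false
set_option linter.unusedVariables false

namespace Cfsg.Agent.Lib.Helper21.TS

open Matrix
open scoped Kronecker
open Cfsg.Agent.Lib.helper7.TP

variable {ι : Type*} [Fintype ι] [DecidableEq ι] {a b : ℕ} {F : Type*} [Field F]
  {J1 : Matrix (Fin a) (Fin a) F} {J2 : Matrix (Fin b) (Fin b) F}
  {M : Subgroup (Matrix.GeneralLinearGroup (Fin a × Fin b) F)}

/-- the action of a Siegel transformation (own copy of row SIEG `sieg_mulVec`) -/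
theorem tscalc2_sieg_mulVec (J : Matrix ι ι F) (w z x : ι → F) :
    sieg J w z *ᵥ x = x + bf J z x • w - bf J w x • z - (bf J z z / 2 * bf J w x) • w := by
  rw [sieg, Matrix.sub_mulVec, Matrix.sub_mulVec, Matrix.add_mulVec, Matrix.one_mulVec, Matrix.smul_mulVec,
    opm_mulVec, opm_mulVec, opm_mulVec, smul_smul]

/-- self-adjointness in terms of `bf` -/
theorem tscalc2_adj {J η : Matrix ι ι F} (hη : SelfAdj J η) (x y : ι → F) :
    bf J (η *ᵥ x) y = bf J x (η *ᵥ y) := by
  rw [bf_mulVec_left, bf_mulVec_right, hη]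

/-- CALC2 [M-L]. second half: `η w = 0`, `η` commutes with all `ρ_z` ⟹ `η = δ w w^*`. -/
theorem calc_two {J : Matrix (Fin b) (Fin b) F} (hJ : Jᵀ = J) (two : (2 : F) ≠ 0)
    (hdet : J.det ≠ 0)
    {w w' : Fin b → F} (hw : bf J w w = 0) (hw' : bf J w' w' = 0) (hww' : bf J w w' = 1)
    (η : Matrix (Fin b) (Fin b) F) (hη : SelfAdj J η) (hηw : η *ᵥ w = 0)
    (h : ∀ z : Fin b → F, bf J w z = 0 → sieg J w z * η = η * sieg J w z) :
    ∃ δ : F, η = δ • opm J w w := by
  have hw0 : w ≠ 0 := by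
    rintro rfl
    rw [bf_zero_left] at hww'
    exact zero_ne_one hww'
  have hwη : ∀ x, bf J w (η *ᵥ x) = 0 := by
    intro x
    rw [← tscalc2_adj hη, hηw, bf_zero_left]
  -- the key identity
  have key : ∀ z x : Fin b → F, bf J w z = 0 → bf J z (η *ᵥ x) • w = -(bf J w x • (η *ᵥ z)) := by
    intro z x hz
    have h1 := congrArg (fun A : Matrix (Fin b) (Fin b) F => A *ᵥ x) (h z hz)
    simp only [← Matrix.mulVec_mulVec] at h1
    rw [tscalc2_sieg_mulVec, tscalc2_sieg_mulVec, hwη, zero_smul, mul_zero, zero_smul, sub_zero, sub_zero,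
      Matrix.mulVec_sub, Matrix.mulVec_sub, Matrix.mulVec_add, Matrix.mulVec_smul, Matrix.mulVec_smul,
      Matrix.mulVec_smul, hηw, smul_zero, add_zero, smul_zero, sub_zero] at h1
    have h3 : bf J z (η *ᵥ x) • w = (η *ᵥ x + bf J z (η *ᵥ x) • w) - η *ᵥ x := by abel
    rw [h3, h1]
    abel
  obtain ⟨y, hy⟩ : ∃ y : Fin b → F, y = η *ᵥ w' := ⟨_, rfl⟩
  have hηz : ∀ z : Fin b → F, bf J w z = 0 → η *ᵥ z = -(bf J z y • w) := by
    intro z hz
    have := key z w' hz
    rw [hww', one_smul, ← hy] at this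
    rw [this, neg_neg]
  have hzy : ∀ u : Fin b → F, bf J w u = 0 → bf J u y = 0 := by
    intro u hu
    have h1 : bf J (η *ᵥ u) w' = bf J u y := by rw [tscalc2_adj hη, hy]
    rw [hηz u hu, bf_neg_left, bf_smul_left, hww', mul_one] at h1
    have h3 : (2 : F) * bf J u y = 0 := by linear_combination -h1
    rcases mul_eq_zero.mp h3 with h4 | h4
    · exact absurd h4 two
    · exact h4
  have hηu : ∀ u : Fin b → F, bf J w u = 0 → η *ᵥ u = 0 := by
    intro u hu
    rw [hηz u hu, hzy u hu, zero_smul, neg_zero]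
  -- `y ∈ F w`
  obtain ⟨y₀, hy₀⟩ : ∃ y₀ : F, y₀ = bf J w' y := ⟨_, rfl⟩
  have hyw : y = y₀ • w := by
    by_contra hne
    have hne' : y - y₀ • w ≠ 0 := sub_ne_zero.mpr hne
    obtain ⟨x, hx⟩ := bf_nondeg' hdet hne'
    apply hx
    have hx1 : bf J w (x - bf J w x • w') = 0 := by
      rw [bf_sub_right, bf_smul_right, hww', mul_one, sub_self]
    have hx2 : x = (x - bf J w x • w') + bf J w x • w' := by abel
    rw [hx2, bf_add_left, bf_sub_right, bf_sub_right, hzy _ hx1, bf_smul_right, bf_smul_left, bf_smul_left,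
      bf_smul_right, ← hy₀, bf_symm hJ w' w, hww', bf_symm hJ _ w, hx1]
    ring
  refine ⟨y₀, ?_⟩
  rw [Matrix.ext_iff_mulVec]
  intro x
  have hx1 : bf J w (x - bf J w x • w') = 0 := by
    rw [bf_sub_right, bf_smul_right, hww', mul_one, sub_self]
  have hx2 : x = (x - bf J w x • w') + bf J w x • w' := by abel
  rw [Matrix.smul_mulVec, opm_mulVec]
  conv_lhs => rw [hx2]
  rw [Matrix.mulVec_add, hηu _ hx1, zero_add, Matrix.mulVec_smul, ← hy, hyw, smul_smul, smul_smul, mul_comm]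

end Cfsg.Agent.Lib.Helper21.TS
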