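import Cfsg.Agent.Lib.Helper21.TS.Basic
import Cfsg.Agent.Lib.Helper10.TSCALC2

set_option autoImplicit false
set_option linter.unusedSectionVars false
set_option linter.unusedVariables false

namespace Cfsg.Agent.Lib.Helper21.TS

open Matrix
open scoped Kronecker
open Cfsg.Agent.Lib.helper7.TP

variable {ι : Type*} [Fintype ι] [DecidableEq ι] {a b : ℕ} {F : Type*} [Field F]
  {J1 : Matrix (Fin a) (Fin a) F} {J2 : Matrix (Fin b) (Fin b) F}
  {M : Subgroup (Matrix.GeneralLinearGroup (Fin a × Fin b) F)}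

/-- CALC core: `calc_fix` with the conclusion of `calc_one` (row CALC1) as a hypothesis. -/
theorem tscalc_core {J : Matrix (Fin b) (Fin b) F} (hJ : Jᵀ = J) (two : (2 : F) ≠ 0)
    (hdet : J.det ≠ 0)
    {w w' : Fin b → F} (hw : bf J w w = 0) (hw' : bf J w' w' = 0) (hww' : bf J w w' = 1)
    (η : Matrix (Fin b) (Fin b) F) (hη : SelfAdj J η)
    (hone : (∃ γ : F, η *ᵥ w = γ • w) ∧
      ∀ z : Fin b → F, bf J w z = 0 → sieg J w z * η = η * sieg J w z) :
    ∃ γ δ : F, η = γ • 1 + δ • opm J w w := by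
  obtain ⟨⟨γ, hγ⟩, hcomm⟩ := hone
  have hη' : SelfAdj J (η - γ • (1 : Matrix (Fin b) (Fin b) F)) := by
    unfold SelfAdj at hη ⊢
    rw [Matrix.transpose_sub, Matrix.transpose_smul, Matrix.transpose_one, Matrix.sub_mul, Matrix.mul_sub, hη,
      Matrix.smul_mul, Matrix.one_mul, Matrix.mul_smul, Matrix.mul_one]
  have hηw : (η - γ • (1 : Matrix (Fin b) (Fin b) F)) *ᵥ w = 0 := by
    rw [Matrix.sub_mulVec, Matrix.smul_mulVec, Matrix.one_mulVec, hγ, sub_self]
  have hc : ∀ z : Fin b → F, bf J w z = 0 →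
      sieg J w z * (η - γ • (1 : Matrix (Fin b) (Fin b) F)) = (η - γ • (1 : Matrix (Fin b) (Fin b) F)) * sieg J w z := by
    intro z hz
    rw [Matrix.mul_sub, Matrix.sub_mul, hcomm z hz, Matrix.mul_smul, Matrix.mul_one, Matrix.smul_mul, Matrix.one_mul]
  obtain ⟨δ, hδ⟩ := calc_two hJ two hdet hw hw' hww' _ hη' hηw hc
  refine ⟨γ, δ, ?_⟩
  rw [← hδ]
  abel

end Cfsg.Agent.Lib.Helper21.TS
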