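import Cfsg.Agent.Lib.Helper21.TS.Basic
import Cfsg.Agent.Lib.Helper10.TSCALCcore
import Cfsg.Agent.Lib.Helper21.TSCALC1

set_option autoImplicit false
set_option linter.unusedSectionVars false
set_option linter.unusedVariables false

namespace Cfsg.Agent.Lib.Helper21.TS

open Matrix
open scoped Kronecker
open Cfsg.Agent.Lib.helper7.TP

variable {ι : Type*} [Fintype ι] [DecidableEq ι] {a b : ℕ} {F : Type*} [Field F]
  {J1 : Matrix (Fin a) (Fin a) F} {J2 : Matrix (Fin b) (Fin b) F}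
  {M : Subgroup (Matrix.GeneralLinearGroup (Fin a × Fin b) F)}

/-- CALC [S]. the fixed space: `calc_one`, then `calc_two` for `η - γ • 1`. -/
theorem calc_fix [Fintype F] {J : Matrix (Fin b) (Fin b) F} (hJ : Jᵀ = J) (two : (2 : F) ≠ 0)
    (hdet : J.det ≠ 0) (hb : 3 ≤ b) (hex : 5 ≤ Fintype.card F ∨ 4 ≤ b)
    {w w' : Fin b → F} (hw : bf J w w = 0) (hw' : bf J w' w' = 0) (hww' : bf J w w' = 1)
    (η : Matrix (Fin b) (Fin b) F) (hη : SelfAdj J η)
    (h : ∀ z : Fin b → F, bf J w z = 0 → ∃ c : F, sieg J w z * η = (η + c • 1) * sieg J w z) :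
    ∃ γ δ : F, η = γ • 1 + δ • opm J w w :=
  tscalc_core hJ two hdet hw hw' hww' η hη (calc_one hJ two hdet hb hex hw hw' hww' η hη h)

end Cfsg.Agent.Lib.Helper21.TS
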