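import Cfsg.Agent.Lib.Helper21.TS.Basic
import Cfsg.Agent.Lib.helper3.C3OISO

set_option autoImplicit false
set_option linter.unusedSectionVars false
set_option linter.unusedVariables false

namespace Cfsg.Agent.Lib.Helper21.TS

open Matrix
open scoped Kronecker
open Cfsg.Agent.Lib.helper7.TP

variable {ι : Type*} [Fintype ι] [DecidableEq ι] {a b : ℕ} {F : Type*} [Field F]
  {J1 : Matrix (Fin a) (Fin a) F} {J2 : Matrix (Fin b) (Fin b) F}
  {M : Subgroup (Matrix.GeneralLinearGroup (Fin a × Fin b) F)}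

/-- a non-zero singular vector (`b ≥ 3`, finite field) -/
theorem tshypb_sing [Fintype F] {J : Matrix (Fin b) (Fin b) F} (hJ : Jᵀ = J) (hb : 3 ≤ b) :
    ∃ w : Fin b → F, w ≠ 0 ∧ bf J w w = 0 := by
  have hs : ∀ x y : Fin b → F, Matrix.toBilin' J x y = Matrix.toBilin' J y x := by
    intro x y
    rw [Matrix.toBilin'_apply', Matrix.toBilin'_apply']
    exact bf_symm hJ x y
  have hW : 3 ≤ Module.finrank F (⊤ : Submodule F (Fin b → F)) := by
    rw [finrank_top, Module.finrank_fin_fun]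
    exact hb
  obtain ⟨u, _, hu, hu0⟩ := Cfsg.Agent.Lib.Helper10.C3O.iso_ex (K := F) (Matrix.toBilin' J) hs ⊤ hW
  refine ⟨u, hu, ?_⟩
  rw [Matrix.toBilin'_apply'] at hu0
  exact hu0

/-- HYPB [M]. a hyperbolic pair in `B` (`b ≥ 3`, finite field of odd characteristic). -/
theorem sing_ex [Fintype F] {J : Matrix (Fin b) (Fin b) F} (hJ : Jᵀ = J) (two : (2 : F) ≠ 0)
    (hdet : J.det ≠ 0) (hb : 3 ≤ b) :
    ∃ w w' : Fin b → F, bf J w w = 0 ∧ bf J w' w' = 0 ∧ bf J w w' = 1 := by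
  obtain ⟨w, hw, hw0⟩ := tshypb_sing hJ hb
  obtain ⟨y0, hy0⟩ := bf_nondeg hdet hw
  obtain ⟨y, hy⟩ : ∃ y : Fin b → F, y = (bf J w y0)⁻¹ • y0 := ⟨_, rfl⟩
  have hwy : bf J w y = 1 := by
    rw [hy, bf_smul_right, inv_mul_cancel₀ hy0]
  have hyw : bf J y w = 1 := by rw [bf_symm hJ, hwy]
  refine ⟨w, y - (bf J y y / 2) • w, hw0, ?_, ?_⟩
  · rw [bf_sub_left, bf_sub_right, bf_sub_right, bf_smul_left, bf_smul_left, bf_smul_right, bf_smul_right, hw0,
      hwy, hyw]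
    field_simp
    ring
  · rw [bf_sub_right, bf_smul_right, hw0, hwy, mul_zero, sub_zero]

end Cfsg.Agent.Lib.Helper21.TS
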