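import Mathlib
import Cfsg.Prelude.Def_GeometricClasses
import Cfsg.Agent.Lib.Helper27.ASC.Defs
import Cfsg.Agent.Lib.Lead.ASCU.Defs
import Cfsg.Agent.Lib.Helper16.U3.Defs
import Cfsg.Agent.Lib.Helper28.Herm
import Cfsg.Agent.S0755

/-!
# Project U3 (leader helper16), piece FRSTD: an orthogonal frame of non-degenerate lines is
`GU`-conjugate to the standard one.
-/

set_option autoImplicit false
set_option linter.unusedVariables false

namespace Cfsg.Agent.Lib.Helper16.U3

open Cfsg Cfsg.Geo Cfsg.Agent.Lib.Helper27.ASC Cfsg.Agent.Lib.Lead.ASCU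
open scoped MatrixGroups Matrix

variable {F : Type*} [Field F] [Fintype F]

/-- The norm `c ↦ c ^ (q + 1)` is onto the fixed field of `a ↦ a ^ q`. -/
theorem u3frstd_norm (q : ℕ) (hF : Fintype.card F = q ^ 2) (a : F) (ha : a ^ q = a) :
    ∃ c : F, c ^ (q + 1) = a := by
  classical
  obtain ⟨φ, hφ, hφ2⟩ := Cfsg.Agent.S0779.exists_frob hF
  have hq2 : 2 ≤ q := by
    by_contra hcon
    push Not at hcon
    have h1 : 1 < Fintype.card F := Fintype.one_lt_card
    rw [hF] at h1
    interval_cases q <;> omega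
  have hne : φ ≠ RingHom.id F := by
    intro h
    obtain ⟨g, hg⟩ := IsCyclic.exists_generator (α := Fˣ)
    have hord : orderOf g = q ^ 2 - 1 := by
      rw [orderOf_eq_card_of_forall_mem_zpowers hg, Nat.card_eq_fintype_card, Fintype.card_units, hF]
    have h1 : (g : F) ^ q = (g : F) := by
      rw [← hφ, h, RingHom.id_apply]
    have h2 : g ^ (q - 1) = 1 := by
      apply Units.ext
      rw [Units.val_pow_eq_pow_val, Units.val_one]
      have h3 : (g : F) ^ (q - 1) * (g : F) = 1 * (g : F) := by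
        rw [← pow_succ, Nat.sub_add_cancel (by omega), h1, one_mul]
      exact mul_right_cancel₀ g.ne_zero h3
    have h3 : q ^ 2 - 1 ∣ q - 1 := by
      rw [← hord]
      exact orderOf_dvd_of_pow_eq_one h2
    have h4 : q ^ 2 - 1 ≤ q - 1 := Nat.le_of_dvd (by omega) h3
    have h5 : q * 2 ≤ q ^ 2 := by
      rw [sq]
      exact Nat.mul_le_mul_left q hq2
    omega
  obtain ⟨c, hc⟩ := Cfsg.Agent.S0755.norm_surj φ hne hφ2 a (by rw [hφ]; exact ha)
  exact ⟨c, by rw [pow_succ', ← hc, hφ, mul_comm]⟩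

/-- Transport of a decomposition stabiliser along a change of basis. -/
theorem u3frstd_conj {t : ℕ} (B : GL (Fin 3) F) (D D' : Fin t → Submodule F (Fin 3 → F))
    (hB : ∀ i, (D' i).map (Matrix.toLin' (B : Matrix (Fin 3) (Fin 3) F)) = D i) (g : GL (Fin 3) F) :
    g ∈ decompositionStabilizer D ↔ B⁻¹ * g * B ∈ decompositionStabilizer D' := by
  have hBinv : ∀ i, (D i).map (Matrix.toLin' ((B⁻¹ : GL (Fin 3) F) : Matrix (Fin 3) (Fin 3) F)) = D' i := by
    intro i
    rw [← hB i, ← Submodule.map_comp, ← Matrix.toLin'_mul, ← Units.val_mul, inv_mul_cancel,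
      Units.val_one, Matrix.toLin'_one, Submodule.map_id]
  constructor
  · rintro ⟨σ, hσ⟩
    refine ⟨σ, fun i => ?_⟩
    rw [Units.val_mul, Units.val_mul, Matrix.toLin'_mul, Matrix.toLin'_mul, Submodule.map_comp,
      Submodule.map_comp, hB, hσ, hBinv]
  · rintro ⟨σ, hσ⟩
    refine ⟨σ, fun i => ?_⟩
    have h := hσ i
    rw [Units.val_mul, Units.val_mul, Matrix.toLin'_mul, Matrix.toLin'_mul, Submodule.map_comp,
      Submodule.map_comp, hB] at h
    have h2 := congrArg (fun W => W.map (Matrix.toLin' (B : Matrix (Fin 3) (Fin 3) F))) h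
    change Submodule.map (Matrix.toLin' (B : Matrix (Fin 3) (Fin 3) F)) _ =
      Submodule.map (Matrix.toLin' (B : Matrix (Fin 3) (Fin 3) F)) _ at h2
    rw [hB, ← Submodule.map_comp, ← Matrix.toLin'_mul, ← Units.val_mul, mul_inv_cancel,
      Units.val_one, Matrix.toLin'_one, Submodule.map_id] at h2
    exact h2

/-- FRSTD : an orthogonal frame of non-degenerate lines is `GU`-conjugate to the standard one. -/
theorem frame_std (q : ℕ) (hF : Fintype.card F = q ^ 2) (D : Fin 3 → Submodule F (Fin 3 → F))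
    (hD : IsNondegenerateMDecomposition (hermForm 3 F q) 1 D) :
    ∃ B : GL (Fin 3) F, B ∈ GU 3 F q ∧ ConjTo B (decompositionStabilizer D) (decompositionStabilizer (stdFrame F)) := by
  classical
  have hq0 : q ≠ 0 := by
    rintro rfl
    have h1 : 1 < Fintype.card F := Fintype.one_lt_card
    rw [hF] at h1
    omega
  -- spanning vectors
  have hspan : ∀ i, ∃ d : Fin 3 → F, d ∈ D i ∧ d ≠ 0 ∧ ∀ w ∈ D i, ∃ c : F, c • d = w := by
    intro i
    obtain ⟨⟨d, hd⟩, hd0, hall⟩ := finrank_eq_one_iff'.mp (hD.decomp.finrank_eq i)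
    refine ⟨d, hd, fun h => hd0 (Subtype.ext h), fun w hw => ?_⟩
    obtain ⟨c, hc⟩ := hall ⟨w, hw⟩
    exact ⟨c, congrArg Subtype.val hc⟩
  choose d hdmem hd0 hdall using hspan
  -- the norms are non-zero and fixed by `a ↦ a ^ q`
  have hnn : ∀ i, hermForm 3 F q (d i) (d i) ≠ 0 := by
    intro i
    obtain ⟨⟨x, hx, hfx⟩, -⟩ := hD.nondegenerate i (d i) (hdmem i) (hd0 i)
    obtain ⟨c, rfl⟩ := hdall i x hx
    rw [Cfsg.Agent.Lib.Helper28.Herm.herm_smul_left] at hfx
    exact right_ne_zero_of_mul hfx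
  have hfix : ∀ i, (hermForm 3 F q (d i) (d i)) ^ q = hermForm 3 F q (d i) (d i) := fun i =>
    (Cfsg.Agent.Lib.Helper28.Herm.herm_symm hF 3 (d i) (d i)).symm
  have hc : ∀ i, ∃ c : F, c ^ (q + 1) = (hermForm 3 F q (d i) (d i))⁻¹ := by
    intro i
    apply u3frstd_norm q hF
    rw [inv_pow, hfix]
  choose c hc using hc
  have hc0 : ∀ i, c i ≠ 0 := by
    intro i h
    have := hc i
    rw [h, zero_pow (by omega)] at this
    exact inv_ne_zero (hnn i) this.symm
  -- the columns
  let col : Fin 3 → (Fin 3 → F) := fun i => c i • d i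
  have hgram : ∀ i j, hermForm 3 F q (col i) (col j) = if i = j then 1 else 0 := by
    intro i j
    simp only [col]
    rw [Cfsg.Agent.Lib.Helper28.Herm.herm_smul_left, Cfsg.Agent.Lib.Helper28.Herm.herm_smul_right]
    by_cases hij : i = j
    · subst hij
      rw [if_pos rfl, ← mul_assoc, ← pow_succ', hc, inv_mul_cancel₀ (hnn i)]
    · rw [if_neg hij, hD.orthogonal i j hij (d i) (hdmem i) (d j) (hdmem j), mul_zero, mul_zero]
  let M : Matrix (Fin 3) (Fin 3) F := Matrix.of fun r i => col i r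
  let Ms : Matrix (Fin 3) (Fin 3) F := Matrix.of fun i r => (col i r) ^ q
  have hleft : Ms * M = 1 := by
    ext i j
    rw [Matrix.mul_apply, Matrix.one_apply]
    have := hgram j i
    unfold hermForm at this
    simp only [M, Ms, Matrix.of_apply]
    rw [← (show (∑ r, col j r * col i r ^ q) = ∑ r, col i r ^ q * col j r from
      Finset.sum_congr rfl fun r _ => mul_comm _ _), this]
    by_cases hij : i = j
    · subst hij; simp
    · rw [if_neg hij, if_neg (fun h => hij h.symm)]
  have hright : M * Ms = 1 := mul_eq_one_comm.mp hleft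
  let B : GL (Fin 3) F := ⟨M, Ms, hright, hleft⟩
  have hBcol : ∀ i, (B : Matrix (Fin 3) (Fin 3) F) *ᵥ (Pi.single i 1) = col i := by
    intro i
    ext r
    simp [B, M, Matrix.mulVec, dotProduct, Pi.single_apply]
  have hBv : ∀ u : Fin 3 → F, (B : Matrix (Fin 3) (Fin 3) F) *ᵥ u = ∑ i, u i • col i := by
    intro u
    ext r
    simp only [B, M, Matrix.mulVec, dotProduct, Matrix.of_apply, Finset.sum_apply, Pi.smul_apply,
      smul_eq_mul]
    exact Finset.sum_congr rfl fun i _ => mul_comm _ _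
  refine ⟨B, ?_, ?_⟩
  · rw [mem_GU_iff]
    intro u v
    rw [hBv u, hBv v, Cfsg.Agent.Lib.Helper28.Herm.herm_sum_left]
    unfold hermForm
    apply Finset.sum_congr rfl
    intro i _
    change hermForm 3 F q (u i • col i) (∑ j, v j • col j) = _
    rw [Cfsg.Agent.Lib.Helper28.Herm.herm_sum_right hF, Finset.sum_eq_single i]
    · rw [Cfsg.Agent.Lib.Helper28.Herm.herm_smul_left, Cfsg.Agent.Lib.Helper28.Herm.herm_smul_right,
        hgram, if_pos rfl, mul_one]
    · intro j _ hji
      rw [Cfsg.Agent.Lib.Helper28.Herm.herm_smul_left, Cfsg.Agent.Lib.Helper28.Herm.herm_smul_right,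
        hgram, if_neg (fun h => hji h.symm), mul_zero, mul_zero]
    · intro h; exact absurd (Finset.mem_univ i) h
  · intro g
    apply u3frstd_conj B D (stdFrame F)
    intro i
    unfold stdFrame
    rw [Submodule.map_span, Set.image_singleton, Matrix.toLin'_apply, hBcol]
    apply le_antisymm
    · rw [Submodule.span_singleton_le_iff_mem]
      exact (D i).smul_mem _ (hdmem i)
    · intro w hw
      obtain ⟨a, rfl⟩ := hdall i w hw
      rw [Submodule.mem_span_singleton]
      refine ⟨a * (c i)⁻¹, ?_⟩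
      simp only [col]
      rw [smul_smul, mul_assoc, inv_mul_cancel₀ (hc0 i), mul_one]

end Cfsg.Agent.Lib.Helper16.U3
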