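import Mathlib
import Cfsg.Agent.Lib.Helper9.A2S.Defs

set_option autoImplicit false

namespace Cfsg.Agent.Lib.Helper9.A2S

open Equiv Finset

theorem h10_digits_two_sum (m : ℕ) : (Nat.digits 2 m).sum = m.bitIndices.length := by
  induction m using Nat.strong_induction_on with
  | _ m ih =>
    rcases Nat.eq_zero_or_pos m with h0 | hpos
    · subst h0; simp
    · have hlt : m / 2 < m := Nat.div_lt_self hpos (by norm_num)
      have hdig : Nat.digits 2 m = (m % 2) :: Nat.digits 2 (m / 2) :=
        Nat.digits_def' (by norm_num) hpos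
      rw [hdig, List.sum_cons, ih _ hlt]
      rcases Nat.mod_two_eq_zero_or_one m with h | h
      · have hm : m = 2 * (m / 2) := by omega
        conv_rhs => rw [hm, Nat.bitIndices_two_mul, List.length_map]
        omega
      · have hm : m = 2 * (m / 2) + 1 := by omega
        conv_rhs => rw [hm, Nat.bitIndices_two_mul_add_one, List.length_cons, List.length_map]
        omega

theorem sum_two_pow_bits (m : ℕ) : ∑ j ∈ m.bitIndices.toFinset, 2 ^ j = m :=
  Finset.sum_toFinset_bitIndices_two_pow m

theorem padicValNat_two_factorial_bits (m : ℕ) :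
    padicValNat 2 m.factorial = ∑ j ∈ m.bitIndices.toFinset, (2 ^ j - 1) := by
  have hL := sub_one_mul_padicValNat_factorial (p := 2) m
  rw [h10_digits_two_sum] at hL
  have h1 : ∑ j ∈ m.bitIndices.toFinset, (2 ^ j - 1) =
      ∑ j ∈ m.bitIndices.toFinset, 2 ^ j - ∑ j ∈ m.bitIndices.toFinset, 1 := by
    rw [Finset.sum_tsub_distrib]
    intro j _
    exact Nat.one_le_two_pow
  rw [h1, sum_two_pow_bits, Finset.sum_const, smul_eq_mul, mul_one,
    List.toFinset_card_of_nodup Nat.bitIndices_nodup]
  simpa using hL

end Cfsg.Agent.Lib.Helper9.A2S
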