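import Mathlib
import Cfsg.Agent.Lib.Helper9.A2S.Defs

set_option autoImplicit false

namespace Cfsg.Agent.Lib.Helper9.A2S

open Equiv Finset

theorem two_le_of_mem_bits_four_mul (k j : ℕ) (hj : j ∈ (4 * k).bitIndices.toFinset) : 2 ≤ j := by
  have h4 : 4 * k = 2 * (2 * k) := by ring
  rw [h4, Nat.bitIndices_two_mul, Nat.bitIndices_two_mul, List.mem_toFinset] at hj
  simp only [List.map_map, List.mem_map, Function.comp_apply] at hj
  obtain ⟨a, _, ha⟩ := hj
  omega

theorem exists_two_bits (m : ℕ) (hm : m ≠ 0) (h : ∀ r : ℕ, m ≠ 2 ^ r) :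
    ∃ j ∈ m.bitIndices.toFinset, ∃ j' ∈ m.bitIndices.toFinset, j ≠ j' := by
  by_contra hcon
  push Not at hcon
  have hsum := Finset.sum_toFinset_bitIndices_two_pow m
  rcases (m.bitIndices.toFinset).eq_empty_or_nonempty with he | ⟨j0, hj0⟩
  · rw [he, Finset.sum_empty] at hsum
    exact hm hsum.symm
  · have hs : m.bitIndices.toFinset = {j0} := by
      ext j
      simp only [Finset.mem_singleton]
      constructor
      · intro hj
        exact hcon j hj j0 hj0
      · intro hj
        rw [hj]; exact hj0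
    rw [hs, Finset.sum_singleton] at hsum
    exact h j0 hsum.symm

end Cfsg.Agent.Lib.Helper9.A2S
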