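import Mathlib
import Cfsg.Agent.Lib.Helper9.A2S.Defs

set_option autoImplicit false

namespace Cfsg.Agent.Lib.Helper9.A2S

open Equiv Finset

theorem h10_v2_factorial_succ (n : ℕ) :
    padicValNat 2 (n + 1).factorial = padicValNat 2 (n + 1) + padicValNat 2 n.factorial := by
  rw [Nat.factorial_succ, padicValNat.mul (by omega) (Nat.factorial_ne_zero n)]

theorem h10_v2_odd (n : ℕ) : padicValNat 2 (2 * n + 1) = 0 :=
  padicValNat.eq_zero_of_not_dvd (by omega)

theorem h10_v2_two_odd (n : ℕ) : padicValNat 2 (2 * (2 * n + 1)) = 1 := by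
  rw [padicValNat.mul (by norm_num) (by omega), h10_v2_odd, padicValNat.self (by norm_num)]

theorem padicValNat_two_factorial_add (k r : ℕ) (hr : r < 4) :
    padicValNat 2 (4 * k + r).factorial =
      padicValNat 2 (4 * k).factorial + (if 2 ≤ r then 1 else 0) := by
  have e1 : 4 * k + 1 = 2 * (2 * k) + 1 := by ring
  have e2 : 4 * k + 1 + 1 = 2 * (2 * k + 1) := by ring
  have e3 : 4 * k + 1 + 1 + 1 = 2 * (2 * k + 1) + 1 := by ring
  have h1 : padicValNat 2 (4 * k + 1).factorial = padicValNat 2 (4 * k).factorial := by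
    rw [h10_v2_factorial_succ, e1, h10_v2_odd, zero_add]
  have h2 : padicValNat 2 (4 * k + 1 + 1).factorial = padicValNat 2 (4 * k).factorial + 1 := by
    rw [h10_v2_factorial_succ, h1, e2, h10_v2_two_odd, add_comm]
  have h3 : padicValNat 2 (4 * k + 1 + 1 + 1).factorial = padicValNat 2 (4 * k).factorial + 1 := by
    rw [h10_v2_factorial_succ, h2, e3, h10_v2_odd, zero_add]
  interval_cases r
  · simp
  · simpa using h1
  · simpa using h2
  · simpa using h3

theorem card_sylow_two_perm {α : Type*} [Fintype α] [DecidableEq α] (T : Sylow 2 (Perm α)) :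
    Nat.card ↥(T : Subgroup (Perm α)) = 2 ^ padicValNat 2 (Fintype.card α).factorial := by
  have : Fact (Nat.Prime 2) := ⟨Nat.prime_two⟩
  rw [Sylow.card_eq_multiplicity, Nat.card_eq_fintype_card, Fintype.card_perm,
    Nat.factorization_def _ Nat.prime_two]

end Cfsg.Agent.Lib.Helper9.A2S
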