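import Mathlib
import Cfsg.Agent.Lib.Helper9.A2S.Defs
import Cfsg.Agent.Lib.Helper13.A2SPM1
import Cfsg.Agent.Lib.Helper24.A2SPM2

set_option autoImplicit false

namespace Cfsg.Agent.Lib.Helper9.A2S

open Equiv

/-- a power of a full cycle fixing a point is the identity -/
theorem h10_full_cycle_pow_fix {α : Type*} [Fintype α] [DecidableEq α] (x : Perm α)
    (hx : x.IsCycle) (hs : x.support = Finset.univ) (k : ℕ) (u : α) (hu : (x ^ k) u = u) :
    x ^ k = 1 := by
  ext b
  have hmem : ∀ a : α, x a ≠ a := by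
    intro a
    have : a ∈ x.support := by rw [hs]; exact Finset.mem_univ a
    exact Perm.mem_support.mp this
  obtain ⟨m, hm⟩ := hx.exists_zpow_eq (hmem u) (hmem b)
  have hcomm : x ^ k * x ^ m = x ^ m * x ^ k := by
    rw [← zpow_natCast, ← zpow_add, ← zpow_add, add_comm]
  calc (x ^ k) b = (x ^ k * x ^ m) u := by rw [Perm.mul_apply, hm]
    _ = (x ^ m * x ^ k) u := by rw [hcomm]
    _ = b := by rw [Perm.mul_apply, hu, hm]

/-- the permutation-level statement about central elements -/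
theorem h10_center_perm {α : Type*} [Fintype α] [DecidableEq α] (i : ℕ) (hi : 1 ≤ i)
    (x : Perm α) (hx : x.IsCycle) (hs : x.support = Finset.univ) (hord : orderOf x = 2 ^ i)
    (τ : Perm α) (hτ : τ.IsSwap) (k : ℕ) (hcomm : x ^ k * τ = τ * x ^ k) :
    x ^ k = 1 ∨ x ^ k = x ^ (2 ^ (i - 1)) := by
  obtain ⟨u, v, huv, rfl⟩ := hτ
  set c := x ^ k with hc
  have hconj : swap (c u) (c v) = swap u v := by
    have h1 : c * swap u v * c⁻¹ = swap u v := by
      rw [hcomm, mul_inv_cancel_right]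
    rw [← h1, Equiv.swap_apply_apply]
  have hcu : c u = u ∨ c u = v := by
    have h2 : swap (c u) (c v) (c u) = c v := Equiv.swap_apply_left _ _
    rw [hconj] at h2
    by_contra hne
    push Not at hne
    by_cases hcv : c u = v
    · exact hne.2 hcv
    · rw [Equiv.swap_apply_of_ne_of_ne hne.1 hne.2] at h2
      exact huv (c.injective h2)
  rcases hcu with h | h
  · left
    exact h10_full_cycle_pow_fix x hx hs k u h
  · right
    have hcv : c v = u := by
      have h2 : swap (c u) (c v) (c v) = c u := Equiv.swap_apply_right _ _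
      rw [hconj, h] at h2
      by_contra hne
      by_cases hcv' : c v = v
      · exact huv.symm (c.injective (hcv'.trans h.symm))
      · rw [Equiv.swap_apply_of_ne_of_ne hne hcv'] at h2
        exact hcv' h2
    have hsq : x ^ (2 * k) = 1 := by
      apply h10_full_cycle_pow_fix x hx hs (2 * k) u
      rw [two_mul, pow_add, Perm.mul_apply, ← hc, h, hcv]
    have hdvd : 2 ^ i ∣ 2 * k := by
      rw [← hord]
      exact orderOf_dvd_of_pow_eq_one hsq
    have hi' : 2 ^ i = 2 * 2 ^ (i - 1) := by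
      rw [← pow_succ']
      congr 1
      omega
    rw [hi'] at hdvd
    have hdvd' : 2 ^ (i - 1) ∣ k := (Nat.mul_dvd_mul_iff_left (by norm_num)).mp hdvd
    obtain ⟨t, ht⟩ := hdvd'
    have hz2 : (x ^ (2 ^ (i - 1))) ^ 2 = 1 := by
      rw [← pow_mul, mul_comm, ← hi', ← hord]
      exact pow_orderOf_eq_one x
    have hck : c = (x ^ (2 ^ (i - 1))) ^ t := by
      rw [hc, ht, pow_mul]
    rcases Nat.even_or_odd t with ⟨s, hs'⟩ | ⟨s, hs'⟩
    · exfalso
      have : c = 1 := by
        rw [hck, hs', ← two_mul, pow_mul, hz2, one_pow]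
      rw [this] at h
      exact huv h
    · rw [hck, hs', pow_succ, pow_mul, hz2, one_pow, one_mul]

/-- A2S-PM3 : the data needed by AB3 / AB6 for one Sylow 2-subgroup of `Perm α`, `|α| = 2 ^ i`, `i ≥ 2` -/
theorem sylow_two_pow_data {α : Type*} [Fintype α] [DecidableEq α] (i : ℕ)
    (hα : Fintype.card α = 2 ^ i) (hi : 2 ≤ i) (T : Sylow 2 (Perm α)) :
    ∃ x z y τ : ↥(T : Subgroup (Perm α)),
      (∃ k : ℕ, orderOf x = 2 ^ k) ∧
      (∀ w : ↥(T : Subgroup (Perm α)), w * x = x * w → w ∈ Subgroup.zpowers x) ∧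
      (∀ c ∈ Subgroup.center ↥(T : Subgroup (Perm α)), c = 1 ∨ c = z) ∧
      sgnOn (T : Subgroup (Perm α)) z = 1 ∧ y * y = z ∧ τ * τ = 1 ∧
      sgnOn (T : Subgroup (Perm α)) τ = -1 := by
  obtain ⟨x0, hx0T, hx0c, hx0s⟩ := exists_cycle_mem_sylow i hα (by omega) T
  have h2card : 2 ≤ Fintype.card α := by
    rw [hα]
    calc 2 = 2 ^ 1 := by norm_num
      _ ≤ 2 ^ i := Nat.pow_le_pow_right (by norm_num) (by omega)
  obtain ⟨τ0, hτ0T, hτ0s⟩ := exists_swap_mem_sylow h2card T
  have hord0 : orderOf x0 = 2 ^ i := by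
    rw [hx0c.orderOf, hx0s, Finset.card_univ, hα]
  set x : ↥(T : Subgroup (Perm α)) := ⟨x0, hx0T⟩ with hxdef
  set τ : ↥(T : Subgroup (Perm α)) := ⟨τ0, hτ0T⟩ with hτdef
  have hordx : orderOf x = 2 ^ i := by
    rw [← Subgroup.orderOf_coe]
    exact hord0
  have hcent : ∀ w : ↥(T : Subgroup (Perm α)), w * x = x * w → w ∈ Subgroup.zpowers x := by
    intro w hw
    have hw0 : (w : Perm α) * x0 = x0 * (w : Perm α) := congrArg Subtype.val hw
    have hmem := full_cycle_centralizer x0 hx0c hx0s (w : Perm α) hw0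
    rw [Subgroup.mem_zpowers_iff] at hmem ⊢
    obtain ⟨k, hk⟩ := hmem
    refine ⟨k, ?_⟩
    apply Subtype.ext
    rw [Subgroup.coe_zpow]
    exact hk
  refine ⟨x, x ^ (2 ^ (i - 1)), x ^ (2 ^ (i - 2)), τ, ⟨i, hordx⟩, hcent, ?_, ?_, ?_, ?_, ?_⟩
  · intro c hc
    rw [Subgroup.mem_center_iff] at hc
    have hcx : c ∈ Subgroup.zpowers x := hcent c (hc x).symm
    rw [← (isOfFinOrder_of_finite x).mem_powers_iff_mem_zpowers] at hcx
    obtain ⟨k, hk⟩ := hcx
    have hcτ : x0 ^ k * τ0 = τ0 * x0 ^ k := by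
      have h1 := hc τ
      rw [← hk] at h1
      have h2 := congrArg Subtype.val h1
      simp only [Subgroup.coe_mul, Subgroup.coe_pow] at h2
      exact h2.symm
    rcases h10_center_perm i (by omega) x0 hx0c hx0s hord0 τ0 hτ0s k hcτ with h | h
    · left
      rw [← hk]
      apply Subtype.ext
      rw [Subgroup.coe_pow]
      exact h
    · right
      rw [← hk]
      apply Subtype.ext
      rw [Subgroup.coe_pow, Subgroup.coe_pow]
      exact h
  · have hi2 : 2 ^ (i - 1) = 2 ^ (i - 2) * 2 := by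
      rw [← pow_succ]
      congr 1
      omega
    rw [hi2, pow_mul, pow_two, map_mul]
    exact Int.units_mul_self _
  · rw [← pow_add, ← two_mul, ← pow_succ']
    congr 2
    omega
  · apply Subtype.ext
    obtain ⟨u, v, huv, huv'⟩ := hτ0s
    simp only [hτdef, Subgroup.coe_mul, Subgroup.coe_one, huv']
    exact Equiv.swap_mul_self u v
  · change Perm.sign τ0 = -1
    exact hτ0s.sign_eq

end Cfsg.Agent.Lib.Helper9.A2S
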