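import Mathlib
import Cfsg.Agent.Lib.Helper9.A2S.Defs
import Cfsg.Agent.Lib.Helper25.A2SW1

set_option autoImplicit false

namespace Cfsg.Agent.Lib.Helper9.A2S

open Equiv

/-- the map `(a, b, ε) ↦ sumCongr a b * s ^ ε` into `Perm (β ⊕ β)` -/
def h10_wrMap {β : Type*} (T' : Subgroup (Perm β)) :
    (↥T' × ↥T') × Bool → Perm (β ⊕ β) := fun x =>
  if x.2 then Perm.sumCongr (x.1.1 : Perm β) (x.1.2 : Perm β) * (Equiv.sumComm β β : Perm (β ⊕ β))
  else Perm.sumCongr (x.1.1 : Perm β) (x.1.2 : Perm β)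

theorem h10_wrMap_inl {β : Type*} (T' : Subgroup (Perm β)) (x : (↥T' × ↥T') × Bool) (u : β) :
    h10_wrMap T' x (Sum.inl u) =
      if x.2 then Sum.inr ((x.1.2 : Perm β) u) else Sum.inl ((x.1.1 : Perm β) u) := by
  unfold h10_wrMap
  split_ifs <;> simp [Perm.mul_apply]

theorem h10_wrMap_inr {β : Type*} (T' : Subgroup (Perm β)) (x : (↥T' × ↥T') × Bool) (u : β) :
    h10_wrMap T' x (Sum.inr u) =
      if x.2 then Sum.inl ((x.1.1 : Perm β) u) else Sum.inr ((x.1.2 : Perm β) u) := by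
  unfold h10_wrMap
  split_ifs <;> simp [Perm.mul_apply]

theorem h10_wrMap_injective {β : Type*} [Nonempty β] (T' : Subgroup (Perm β)) :
    Function.Injective (h10_wrMap T') := by
  rintro ⟨⟨a, b⟩, e⟩ ⟨⟨a', b'⟩, e'⟩ h
  obtain ⟨u0⟩ := ‹Nonempty β›
  have he : e = e' := by
    have h0 := congrArg (fun w : Perm (β ⊕ β) => w (Sum.inl u0)) h
    simp only [h10_wrMap_inl] at h0
    cases e <;> cases e' <;> simp_all
  subst he
  have ha : a = a' := by
    apply Subtype.ext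
    ext u
    cases e
    · have h0 := congrArg (fun w : Perm (β ⊕ β) => w (Sum.inl u)) h
      simpa [h10_wrMap_inl] using h0
    · have h0 := congrArg (fun w : Perm (β ⊕ β) => w (Sum.inr u)) h
      simpa [h10_wrMap_inr] using h0
  have hb : b = b' := by
    apply Subtype.ext
    ext u
    cases e
    · have h0 := congrArg (fun w : Perm (β ⊕ β) => w (Sum.inr u)) h
      simpa [h10_wrMap_inr] using h0
    · have h0 := congrArg (fun w : Perm (β ⊕ β) => w (Sum.inl u)) h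
      simpa [h10_wrMap_inl] using h0
  rw [ha, hb]

theorem h10_wrMap_mem {β : Type*} [Fintype β] [DecidableEq β] (T' : Subgroup (Perm β))
    (x : (↥T' × ↥T') × Bool) : h10_wrMap T' x ∈ wrSub T' := by
  rw [mem_wrSub_iff]
  refine ⟨x.1.1, x.1.1.2, x.1.2, x.1.2.2, ?_⟩
  unfold h10_wrMap
  split_ifs
  · right; rfl
  · left; rfl

/-- A2S-W2 -/
theorem card_wrSub {β : Type*} [Fintype β] [DecidableEq β] [Nonempty β] (T' : Subgroup (Perm β)) :
    Nat.card ↥(wrSub T') = 2 * Nat.card ↥T' ^ 2 := by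
  let g : (↥T' × ↥T') × Bool → ↥(wrSub T') := fun x => ⟨h10_wrMap T' x, h10_wrMap_mem T' x⟩
  have hinj : Function.Injective g := by
    intro x y h
    exact h10_wrMap_injective T' (congrArg Subtype.val h)
  have hsurj : Function.Surjective g := by
    rintro ⟨w, hw⟩
    rw [mem_wrSub_iff] at hw
    obtain ⟨a, ha, b, hb, h | h⟩ := hw
    · refine ⟨((⟨a, ha⟩, ⟨b, hb⟩), false), ?_⟩
      apply Subtype.ext
      simp [g, h10_wrMap, h]
    · refine ⟨((⟨a, ha⟩, ⟨b, hb⟩), true), ?_⟩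
      apply Subtype.ext
      simp [g, h10_wrMap, h]
  rw [← Nat.card_congr (Equiv.ofBijective g ⟨hinj, hsurj⟩), Nat.card_prod, Nat.card_prod]
  simp only [Nat.card_eq_fintype_card, Fintype.card_bool]
  ring

end Cfsg.Agent.Lib.Helper9.A2S
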