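import Mathlib
import Cfsg.Prelude.Def_GeometricClasses
import Cfsg.Agent.Lib.Helper27.ASC.Defs

/-!
# Project ASC, piece IRRNS: an irreducible group in dimension `≥ 2` is not scalar
-/

set_option autoImplicit false
set_option linter.unusedVariables false

namespace Cfsg.Agent.Lib.Helper27.ASC

open Cfsg Cfsg.Geo
open scoped MatrixGroups Matrix

variable {n : ℕ} {F : Type*} [Field F] [Fintype F]

/-- IRRNS -/
theorem irr_not_scalar (hn : 2 ≤ n) {H : Subgroup (GL (Fin n) F)} (hH : Irr H) : ¬ H ≤ scalars (Fin n) F := by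
  intro hle
  classical
  set e : Fin n → F := Pi.single (⟨0, by omega⟩ : Fin n) 1 with he
  have he0 : e ≠ 0 := by
    intro h
    have := congrFun h ⟨0, by omega⟩
    simp [he] at this
  set W : Submodule F (Fin n → F) := Submodule.span F {e} with hW
  have hinv : ∀ s ∈ matrixSet H, W.map (Matrix.toLin' s) ≤ W := by
    rintro s ⟨g, hg, rfl⟩
    obtain ⟨c, hc⟩ := (mem_scalars_iff g).mp (hle hg)
    rintro _ ⟨w, hw, rfl⟩
    show Matrix.toLin' (g : Matrix (Fin n) (Fin n) F) w ∈ W
    rw [hc, Matrix.toLin'_apply, Matrix.smul_mulVec, Matrix.one_mulVec]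
    exact W.smul_mem _ hw
  rcases hH W hinv with h | h
  · apply he0
    have : e ∈ W := Submodule.subset_span rfl
    rw [h] at this
    exact (Submodule.mem_bot F).mp this
  · have h1 : Module.finrank F W = 1 := finrank_span_singleton he0
    rw [h, finrank_top, Module.finrank_fintype_fun_eq_card, Fintype.card_fin] at h1
    omega

end Cfsg.Agent.Lib.Helper27.ASC
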