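import Mathlib
import Cfsg.Prelude.Def_GeometricClasses
import Cfsg.Agent.Lib.Helper27.ASC.Defs

/-!
# Project ASC, piece SUBF2: above a proper subfield of a finite field there is a subfield of prime index
-/

set_option autoImplicit false
set_option linter.unusedVariables false

namespace Cfsg.Agent.Lib.Helper27.ASC

open Cfsg Cfsg.Geo
open scoped MatrixGroups Matrix

variable {n : ℕ} {F : Type*} [Field F] [Fintype F]

/-- SUBF2 -/
theorem exists_prime_index_subfield (F₀ : Subfield F) (h : F₀ ≠ ⊤) :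
    ∃ (F₁ : Subfield F) (ℓ : ℕ), F₀ ≤ F₁ ∧ ℓ.Prime ∧ Fintype.card F = Nat.card F₁ ^ ℓ := by
  classical
  have hcard : Nat.card (F ≃ₐ[F₀] F) = Module.finrank F₀ F := IsGalois.card_aut_eq_finrank F₀ F
  have hm : Module.finrank F₀ F ≠ 1 := by
    intro h1
    apply h
    have hbot : (⊥ : Subalgebra F₀ F) = ⊤ := Subalgebra.bot_eq_top_of_finrank_eq_one h1
    rw [eq_top_iff]
    intro x _
    have hx : x ∈ (⊥ : Subalgebra F₀ F) := by rw [hbot]; exact Algebra.mem_top
    obtain ⟨y, hy⟩ := Algebra.mem_bot.mp hx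
    rw [← hy]
    exact y.2
  obtain ⟨ℓ, hℓ, hdvd⟩ := Nat.exists_prime_and_dvd hm
  haveI : Fact ℓ.Prime := ⟨hℓ⟩
  rw [← hcard] at hdvd
  obtain ⟨σ, hσ⟩ := exists_prime_orderOf_dvd_card' ℓ hdvd
  set Hs : Subgroup (F ≃ₐ[F₀] F) := Subgroup.zpowers σ with hHs
  have hHsc : Nat.card Hs = ℓ := by rw [hHs, Nat.card_zpowers, hσ]
  set E : IntermediateField F₀ F := IntermediateField.fixedField Hs with hE
  have hrank : Module.finrank E F = ℓ := by
    rw [hE, IntermediateField.finrank_fixedField_eq_card, hHsc]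
  refine ⟨E.toSubfield, ℓ, ?_, hℓ, ?_⟩
  · intro x hx
    exact E.algebraMap_mem ⟨x, hx⟩
  · have h1 := Module.natCard_eq_pow_finrank (K := E) (V := F)
    rw [hrank, Nat.card_eq_fintype_card] at h1
    exact h1

end Cfsg.Agent.Lib.Helper27.ASC
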