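import Mathlib
import Cfsg.Prelude.Def_GeometricClasses
import Cfsg.Agent.Lib.Helper27.ASC.Defs
import Cfsg.Agent.Lib.helper23.ASCO.Defs
import Cfsg.Agent.Lib.Lead.Reindex
import Cfsg.Agent.Lib.Helper10.ASCSUBF2

/-!
# ASCO piece FRSUB (core) : the isometries stabilising an orthogonal frame of isometric lines
lie in a subfield group whose structure carries `Q` (signed permutation matrices)
-/

set_option autoImplicit false
set_option linter.unusedVariables false
set_option linter.unusedSectionVars false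

namespace Cfsg.Agent.Lib.helper23.ASCO

open Cfsg Cfsg.Geo Cfsg.Agent.Lib.Helper27.ASC
open scoped MatrixGroups Matrix

variable {n : ℕ} {F : Type*} [Field F] [Fintype F]

/-- the prime subfield of a finite field of non-prime order is proper -/
theorem ascofrsub_bot_ne_top (hnp : ¬ (Fintype.card F).Prime) : (⊥ : Subfield F) ≠ ⊤ := by
  intro h
  obtain ⟨p, hp⟩ := CharP.exists F
  have hpp : p.Prime := by
    rcases CharP.char_is_prime_or_zero F p with h1 | h1
    · exact h1
    · exfalso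
      subst h1
      have : CharZero F := CharP.charP_to_charZero F
      exact not_finite F
  have : Fact p.Prime := ⟨hpp⟩
  have h1 := Subfield.card_bot F p
  rw [h] at h1
  have h2 : Nat.card (⊤ : Subfield F) = Fintype.card F := by
    rw [← Nat.card_eq_fintype_card]
    exact Nat.card_congr (Subfield.topEquiv (K := F)).toEquiv
  rw [h2] at h1
  exact hnp (h1 ▸ hpp)

/-- value of `Q` on a combination of pairwise orthogonal vectors -/
theorem ascofrsub_Q_sum (h2 : (2 : F) ≠ 0) (Q : QuadraticForm F (Fin n → F)) {m : ℕ}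
    (d : Fin m → (Fin n → F))
    (horth : ∀ i j, i ≠ j → QuadraticMap.polar (⇑Q) (d i) (d j) = 0) (a : Fin m → F) :
    Q (∑ i, a i • d i) = ∑ i, a i ^ 2 * Q (d i) := by
  have key : ∀ s : Finset (Fin m), Q (∑ i ∈ s, a i • d i) = ∑ i ∈ s, a i ^ 2 * Q (d i) := by
    intro s
    induction s using Finset.induction_on with
    | empty => simp
    | insert j s hj ih =>
      rw [Finset.sum_insert hj, Finset.sum_insert hj]
      have hp : Q (a j • d j + ∑ i ∈ s, a i • d i) =
          Q (a j • d j) + Q (∑ i ∈ s, a i • d i) +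
            QuadraticMap.polar (⇑Q) (a j • d j) (∑ i ∈ s, a i • d i) := by
        unfold QuadraticMap.polar
        ring
      have hz : QuadraticMap.polar (⇑Q) (a j • d j) (∑ i ∈ s, a i • d i) = 0 := by
        have : QuadraticMap.polar (⇑Q) (a j • d j) (∑ i ∈ s, a i • d i) =
            QuadraticMap.polarBilin Q (a j • d j) (∑ i ∈ s, a i • d i) := rfl
        rw [this, map_sum]
        refine Finset.sum_eq_zero fun i hi => ?_
        have hij : j ≠ i := fun h => hj (h ▸ hi)
        rw [map_smul, map_smul, LinearMap.smul_apply, QuadraticMap.polarBilin_apply_apply,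
          horth j i hij, smul_zero, smul_zero]
      rw [hp, hz, add_zero, ih, QuadraticMap.map_smul, smul_eq_mul]
      ring
  exact key Finset.univ


/-- the frame vectors: `d i ∈ D i`, all of the same non-zero norm `c` -/
theorem ascofrsub_vectors (h2 : (2 : F) ≠ 0) (Q : QuadraticForm F (Fin n → F))
    (D : Fin n → Submodule F (Fin n → F)) (hD : IsOrthogonalMDecomposition (⇑Q) 1 D) :
    ∃ (d : Fin n → (Fin n → F)) (c : F), c ≠ 0 ∧ (∀ i, d i ∈ D i) ∧ (∀ i, Q (d i) = c) := by
  have hn2 : 2 ≤ n := hD.decomp.decomp.two_le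
  set i₀ : Fin n := ⟨0, by omega⟩ with hi₀
  have hfr := hD.decomp.decomp.finrank_eq i₀
  have hne : D i₀ ≠ ⊥ := by
    intro h
    rw [h, finrank_bot] at hfr
    omega
  obtain ⟨d₀, hd₀, hd₀0⟩ := Submodule.exists_mem_ne_zero_of_ne_bot hne
  have hc : Q d₀ ≠ 0 := by
    intro hQ0
    obtain ⟨⟨x, hx, hxd⟩, -⟩ := hD.decomp.nondegenerate i₀ d₀ hd₀ hd₀0
    have hne' : (⟨d₀, hd₀⟩ : D i₀) ≠ 0 := fun h => hd₀0 (congrArg Subtype.val h)
    obtain ⟨a, ha⟩ := (finrank_eq_one_iff_of_nonzero' (⟨d₀, hd₀⟩ : D i₀) hne').1 hfr ⟨x, hx⟩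
    have hx' : x = a • d₀ := by
      have := congrArg Subtype.val ha
      simpa using this.symm
    apply hxd
    have e : QuadraticMap.polar (⇑Q) x d₀ = QuadraticMap.polarBilin Q x d₀ := rfl
    rw [e, hx', map_smul, LinearMap.smul_apply, QuadraticMap.polarBilin_apply_apply,
      QuadraticMap.polar_self, hQ0]
    simp
  choose e he using fun i => hD.isometric i₀ i
  refine ⟨fun i => ((e i ⟨d₀, hd₀⟩ : D i) : Fin n → F), Q d₀, hc, fun i => (e i ⟨d₀, hd₀⟩).2,
    fun i => he i ⟨d₀, hd₀⟩⟩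


/-- the polar form through the Gram matrix of the standard basis -/
theorem ascofrsub_polar_gram (Q : QuadraticForm F (Fin n → F)) (u v : Fin n → F) :
    QuadraticMap.polar (⇑Q) u v =
      ∑ a, ∑ b, u a * QuadraticMap.polar (⇑Q) (Pi.single a 1) (Pi.single b 1) * v b := by
  have e : ∀ x y, QuadraticMap.polar (⇑Q) x y = QuadraticMap.polarBilin Q x y := fun _ _ => rfl
  have hu : u = ∑ a, u a • (Pi.single a 1 : Fin n → F) := by
    ext k
    simp [Finset.sum_apply, Pi.single_apply]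
  have hv : v = ∑ b, v b • (Pi.single b 1 : Fin n → F) := by
    ext k
    simp [Finset.sum_apply, Pi.single_apply]
  conv_lhs => rw [e, hu, hv]
  simp only [map_sum, LinearMap.sum_apply, map_smul, LinearMap.smul_apply, smul_eq_mul]
  rw [Finset.sum_comm (γ := Fin n)]
  refine Finset.sum_congr rfl fun b _ => ?_
  rw [Finset.mul_sum]
  refine Finset.sum_congr rfl fun a _ => ?_
  rw [e]
  ring

/-- the scaling factor -/
theorem ascofrsub_scale (hodd : Odd n) (h2 : (2 : F) ≠ 0) (Q : QuadraticForm F (Fin n → F))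
    (hG : GramPrime (⇑Q)) (F₁ : Subfield F) (ℓ : ℕ) (hℓ : ℓ.Prime)
    (hcard : Fintype.card F = Nat.card F₁ ^ ℓ)
    (hSQ1 : Odd ℓ → ∀ μ : F, μ ≠ 0 → ∃ ν ∈ F₁, ∃ c : F, ν ≠ 0 ∧ c ≠ 0 ∧ c ^ 2 = μ * ν)
    (hSQ2 : ℓ = 2 → ∀ x : F, x ∈ F₁ → ∃ c : F, c ^ 2 = x)
    (d : Fin n → (Fin n → F)) (c : F) (hc : c ≠ 0) (hQd : ∀ i, Q (d i) = c)
    (horth : ∀ i j, i ≠ j → QuadraticMap.polar (⇑Q) (d i) (d j) = 0)
    (hli : LinearIndependent F d) : ∃ l : F, l ≠ 0 ∧ l ^ 2 * c ∈ F₁ := by
  rcases hℓ.eq_two_or_odd' with h | h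
  swap
  · obtain ⟨ν, hν, c', hν0, hc'0, hc'⟩ := hSQ1 h c hc
    refine ⟨c' / c, div_ne_zero hc'0 hc, ?_⟩
    have : (c' / c) ^ 2 * c = ν := by
      field_simp
      rw [hc']
    rw [this]
    exact hν
  · -- index two : `c` is a square
    have hsq := hSQ2 h
    set G : Matrix (Fin n) (Fin n) F :=
      Matrix.of fun a b => QuadraticMap.polar (⇑Q) (Pi.single a 1) (Pi.single b 1) with hGdef
    set M : Matrix (Fin n) (Fin n) F := Matrix.of fun a i => d i a with hMdef
    have hMGM : Mᵀ * G * M = (2 * c) • (1 : Matrix (Fin n) (Fin n) F) := by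
      ext i j
      rw [Matrix.mul_apply]
      simp only [Matrix.mul_apply, Matrix.transpose_apply, hMdef, hGdef, Matrix.of_apply,
        Matrix.smul_apply, Matrix.one_apply, smul_eq_mul]
      have h1 := ascofrsub_polar_gram Q (d i) (d j)
      have h3 : ∑ b, (∑ a, d i a * QuadraticMap.polar (⇑Q) (Pi.single a 1) (Pi.single b 1)) * d j b =
          QuadraticMap.polar (⇑Q) (d i) (d j) := by
        rw [h1, Finset.sum_comm]
        refine Finset.sum_congr rfl fun b _ => ?_
        rw [Finset.sum_mul]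
      rw [h3]
      by_cases hij : i = j
      · subst hij
        rw [QuadraticMap.polar_self, hQd, if_pos rfl]
        simp
      · rw [horth i j hij, if_neg hij, mul_zero]
    have hdet : M.det ^ 2 * G.det = (2 * c) ^ n := by
      have := congrArg Matrix.det hMGM
      rw [Matrix.det_mul, Matrix.det_mul, Matrix.det_transpose, Matrix.det_smul, Matrix.det_one,
        mul_one, Fintype.card_fin] at this
      rw [← this]
      ring
    -- `det G ∈ F₁`
    have hGdet : G.det ∈ F₁ := by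
      set G₁ : Matrix (Fin n) (Fin n) F₁ := Matrix.of fun a b =>
        (⟨QuadraticMap.polar (⇑Q) (Pi.single a 1) (Pi.single b 1), hG F₁ a b⟩ : F₁) with hG₁
      have : G = (F₁.subtype).mapMatrix G₁ := by
        ext a b
        rfl
      rw [this, ← RingHom.map_det]
      exact (G₁.det).2
    have h2mem : (2 : F) ∈ F₁ := by
      have : (2 : F) = 1 + 1 := by norm_num
      rw [this]
      exact F₁.add_mem F₁.one_mem F₁.one_mem
    obtain ⟨s, hs⟩ := hsq _ hGdet
    obtain ⟨t, ht⟩ := hsq _ h2mem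
    have ht0 : t ≠ 0 := by
      rintro rfl
      apply h2
      rw [← ht]
      ring
    obtain ⟨k, hk⟩ := hodd
    have h2c : (2 * c) ≠ 0 := mul_ne_zero h2 hc
    -- `2c = (det M * s / (2c)^k)^2`
    have hkey : (M.det * s / (2 * c) ^ k) ^ 2 = 2 * c := by
      rw [div_pow, mul_pow, hs, hdet, hk, ← pow_mul]
      rw [div_eq_iff (pow_ne_zero _ h2c)]
      ring
    refine ⟨t / (M.det * s / (2 * c) ^ k), ?_, ?_⟩
    · apply div_ne_zero ht0
      intro h0
      rw [h0] at hkey
      apply h2c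
      rw [← hkey]
      ring
    · have : (t / (M.det * s / (2 * c) ^ k)) ^ 2 * c = 1 := by
        rw [div_pow, hkey, ht]
        field_simp
      rw [this]
      exact F₁.one_mem


/-- the subfield structure from the scaled frame -/
theorem ascofrsub_final (h2 : (2 : F) ≠ 0) (Q : QuadraticForm F (Fin n → F)) (F₁ : Subfield F)
    (D : Fin n → Submodule F (Fin n → F)) (hD : IsOrthogonalMDecomposition (⇑Q) 1 D)
    (d : Fin n → (Fin n → F)) (c : F) (hc : c ≠ 0) (hdD : ∀ i, d i ∈ D i)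
    (hQd : ∀ i, Q (d i) = c) (l : F) (hl : l ≠ 0) (hlc : l ^ 2 * c ∈ F₁) :
    ∃ B : GL (Fin n) F, IsQuadFormRationalStructure (⇑Q) F₁ B ∧
      decompositionStabilizer D ⊓ isometryGroup F (⇑Q) ≤ subfieldSubgroup F₁ B := by
  classical
  have hd0 : ∀ i, d i ≠ 0 := by
    intro i h0
    have := hQd i
    rw [h0, QuadraticMap.map_zero] at this
    exact hc this.symm
  have hli : LinearIndependent F d := hD.decomp.decomp.indep.linearIndependent D hdD hd0
  have horth : ∀ i j, i ≠ j → QuadraticMap.polar (⇑Q) (d i) (d j) = 0 :=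
    fun i j hij => hD.decomp.orthogonal i j hij (d i) (hdD i) (d j) (hdD j)
  set Bm : Matrix (Fin n) (Fin n) F := Matrix.of fun a i => l * d i a with hBm
  have hBu : IsUnit Bm := by
    rw [← Matrix.linearIndependent_cols_iff_isUnit]
    have h1 : Bm.col = fun i => (Units.mk0 l hl) • d i := by
      funext i a
      simp [hBm, Matrix.col, Units.smul_def]
    rw [h1]
    exact hli.units_smul (fun _ => Units.mk0 l hl)
  obtain ⟨B, hB⟩ := hBu
  have hBv : ∀ u : Fin n → F, Bm *ᵥ u = ∑ i, (u i * l) • d i := by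
    intro u
    ext a
    simp only [Matrix.mulVec, dotProduct, hBm, Matrix.of_apply, Finset.sum_apply, Pi.smul_apply,
      smul_eq_mul]
    refine Finset.sum_congr rfl fun i _ => ?_
    ring
  refine ⟨B, ?_, ?_⟩
  · intro u hu
    rw [hB, hBv, ascofrsub_Q_sum h2 Q d horth]
    have : ∑ i, (u i * l) ^ 2 * Q (d i) = (l ^ 2 * c) * ∑ i, u i ^ 2 := by
      rw [Finset.mul_sum]
      refine Finset.sum_congr rfl fun i _ => ?_
      rw [hQd]
      ring
    rw [this]
    exact F₁.mul_mem hlc (F₁.sum_mem fun i _ => F₁.pow_mem (hu i) 2)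
  · rintro g ⟨⟨σ, hσ⟩, hgI⟩
    have hgI' : ∀ x, Q ((g : Matrix (Fin n) (Fin n) F) *ᵥ x) = Q x := fun x => hgI x x
    -- `g d_i = ε_i d_(σ i)`
    have hmul : ∀ i, ∃ ε : F, (g : Matrix (Fin n) (Fin n) F) *ᵥ d i = ε • d (σ i) := by
      intro i
      have h1 : (g : Matrix (Fin n) (Fin n) F) *ᵥ d i ∈ D (σ i) := by
        rw [← hσ i]
        exact ⟨d i, hdD i, by rw [Matrix.toLin'_apply]⟩
      have hne' : (⟨d (σ i), hdD (σ i)⟩ : D (σ i)) ≠ 0 :=
        fun h => hd0 (σ i) (congrArg Subtype.val h)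
      obtain ⟨a, ha⟩ := (finrank_eq_one_iff_of_nonzero' (⟨d (σ i), hdD (σ i)⟩ : D (σ i)) hne').1
        (hD.decomp.decomp.finrank_eq (σ i)) ⟨_, h1⟩
      refine ⟨a, ?_⟩
      have := congrArg Subtype.val ha
      simpa using this.symm
    choose ε hε using hmul
    have hε2 : ∀ i, ε i = 1 ∨ ε i = -1 := by
      intro i
      have h1 := hgI' (d i)
      rw [hε i, QuadraticMap.map_smul, hQd, hQd, smul_eq_mul] at h1
      have h3 : ε i * ε i = 1 := by
        have := mul_right_cancel₀ hc (by rw [one_mul]; exact h1 : ε i * ε i * c = 1 * c)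
        exact this
      exact mul_self_eq_one_iff.mp h3
    have hεmem : ∀ i, ε i ∈ F₁ := by
      intro i
      rcases hε2 i with h | h
      · rw [h]; exact F₁.one_mem
      · rw [h]; exact F₁.neg_mem F₁.one_mem
    set g₀ : Matrix (Fin n) (Fin n) F₁ :=
      Matrix.of fun a i => if a = σ i then (⟨ε i, hεmem i⟩ : F₁) else 0 with hg₀
    have hcomm : (g : Matrix (Fin n) (Fin n) F) * Bm = Bm * (F₁.subtype).mapMatrix g₀ := by
      ext a i
      have hL : ((g : Matrix (Fin n) (Fin n) F) * Bm) a i =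
          l * ((g : Matrix (Fin n) (Fin n) F) *ᵥ d i) a := by
        simp only [Matrix.mul_apply, Matrix.mulVec, dotProduct, hBm, Matrix.of_apply]
        rw [Finset.mul_sum]
        refine Finset.sum_congr rfl fun b _ => ?_
        ring
      have hR : (Bm * (F₁.subtype).mapMatrix g₀) a i = l * (ε i * d (σ i) a) := by
        simp only [Matrix.mul_apply, hBm, hg₀, Matrix.of_apply, RingHom.mapMatrix_apply,
          Matrix.map_apply]
        rw [Finset.sum_eq_single (σ i)]
        · simp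
          ring
        · intro b _ hb
          simp [hb]
        · intro h
          exact absurd (Finset.mem_univ _) h
      rw [hL, hR, hε i]
      simp
    have hdet : g₀.det ≠ 0 := by
      intro h0
      have h1 := congrArg Matrix.det hcomm
      rw [Matrix.det_mul, Matrix.det_mul, ← RingHom.map_det, h0, map_zero, mul_zero] at h1
      have hgu : IsUnit (g : Matrix (Fin n) (Fin n) F).det :=
        (Matrix.isUnit_iff_isUnit_det _).1 g.isUnit
      have hBu' : IsUnit Bm.det := by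
        rw [← hB]
        exact (Matrix.isUnit_iff_isUnit_det _).1 B.isUnit
      exact (mul_ne_zero hgu.ne_zero hBu'.ne_zero) h1
    set g₀' : GL (Fin n) F₁ := Matrix.GeneralLinearGroup.mkOfDetNeZero g₀ hdet with hg₀'
    set x : GL (Fin n) F := Matrix.GeneralLinearGroup.map (F₁.subtype : F₁ →+* F) g₀' with hx
    have hxm : (x : Matrix (Fin n) (Fin n) F) = (F₁.subtype).mapMatrix g₀ := rfl
    have hgx : g * B = B * x := by
      apply Units.ext
      rw [Units.val_mul, Units.val_mul, hB, hxm]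
      exact hcomm
    unfold subfieldSubgroup
    refine ⟨x, Subgroup.mem_sup_left ⟨g₀', rfl⟩, ?_⟩
    show B * x * B⁻¹ = g
    rw [← hgx]
    group


/-- FRSUB core : `frame_subfield`, with the statements of SQ1 / SQ2 as hypotheses. -/
theorem ascofrsub_core (hodd : Odd n) (h2 : (2 : F) ≠ 0) (Q : QuadraticForm F (Fin n → F))
    (hG : GramPrime (⇑Q))
    (hnp : ¬ (Fintype.card F).Prime) (D : Fin n → Submodule F (Fin n → F))
    (hD : IsOrthogonalMDecomposition (⇑Q) 1 D)
    (hSQ1 : ∀ (F₁ : Subfield F) (ℓ : ℕ), Odd ℓ → Fintype.card F = Nat.card F₁ ^ ℓ →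
      ∀ μ : F, μ ≠ 0 → ∃ ν ∈ F₁, ∃ c : F, ν ≠ 0 ∧ c ≠ 0 ∧ c ^ 2 = μ * ν)
    (hSQ2 : ∀ F₁ : Subfield F, Fintype.card F = Nat.card F₁ ^ 2 → ∀ x : F, x ∈ F₁ →
      ∃ c : F, c ^ 2 = x) :
    ∃ (F₁ : Subfield F) (ℓ : ℕ) (B : GL (Fin n) F), ℓ.Prime ∧ Fintype.card F = Nat.card F₁ ^ ℓ ∧
      IsQuadFormRationalStructure (⇑Q) F₁ B ∧
      decompositionStabilizer D ⊓ isometryGroup F (⇑Q) ≤ subfieldSubgroup F₁ B := by
  obtain ⟨F₁, ℓ, -, hℓ, hcard⟩ := exists_prime_index_subfield (⊥ : Subfield F)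
    (ascofrsub_bot_ne_top hnp)
  obtain ⟨d, c, hc, hdD, hQd⟩ := ascofrsub_vectors h2 Q D hD
  have hd0 : ∀ i, d i ≠ 0 := by
    intro i h0
    have := hQd i
    rw [h0, QuadraticMap.map_zero] at this
    exact hc this.symm
  have hli : LinearIndependent F d := hD.decomp.decomp.indep.linearIndependent D hdD hd0
  have horth : ∀ i j, i ≠ j → QuadraticMap.polar (⇑Q) (d i) (d j) = 0 :=
    fun i j hij => hD.decomp.orthogonal i j hij (d i) (hdD i) (d j) (hdD j)
  obtain ⟨l, hl, hlc⟩ := ascofrsub_scale hodd h2 Q hG F₁ ℓ hℓ hcard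
    (fun ho => hSQ1 F₁ ℓ ho hcard) (fun h2' => hSQ2 F₁ (h2' ▸ hcard)) d c hc hQd horth hli
  obtain ⟨B, hB1, hB2⟩ := ascofrsub_final h2 Q F₁ D hD d c hc hdD hQd l hl hlc
  exact ⟨F₁, ℓ, B, hℓ, hcard, hB1, hB2⟩

end Cfsg.Agent.Lib.helper23.ASCO
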