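import Mathlib
import Cfsg.Prelude.Def_GeometricClasses
import Cfsg.Agent.Lib.Helper27.ASC.Defs
import Cfsg.Agent.Lib.helper23.ASCO.Defs
import Cfsg.Agent.Lib.Lead.Reindex
import Cfsg.Agent.Lib.Helper10.ASCOFRSUBcore
import Cfsg.Agent.Lib.helper7.ASCOSQ

/-!
# ASCO piece FRSUB : `frame_subfield` (wrapper of `ascofrsub_core` with SQ1 / SQ2)
-/

set_option autoImplicit false
set_option linter.unusedVariables false
set_option linter.unusedSectionVars false

namespace Cfsg.Agent.Lib.helper23.ASCO

open Cfsg Cfsg.Geo Cfsg.Agent.Lib.Helper27.ASC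
open scoped MatrixGroups Matrix

variable {n : ℕ} {F : Type*} [Field F] [Fintype F]

/-- a finite field in which `2 ≠ 0` has odd order -/
theorem ascofrsub_odd_card (h2 : (2 : F) ≠ 0) : Odd (Fintype.card F) := by
  rw [← Nat.not_even_iff_odd]
  intro hev
  apply h2
  have hch : ringChar F = 2 := FiniteField.even_card_iff_char_two.mpr (Nat.even_iff.mp hev)
  have : CharP F 2 := hch ▸ ringChar.charP F
  exact CharTwo.two_eq_zero

/-- FRSUB : over a non-prime field the isometries stabilising an orthogonal frame of isometric lines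
lie in a subfield group whose structure carries `Q` (signed permutation matrices). -/
theorem frame_subfield (hodd : Odd n) (h2 : (2 : F) ≠ 0) (Q : QuadraticForm F (Fin n → F))
    (hQ : (QuadraticMap.polarBilin Q).Nondegenerate) (hG : GramPrime (⇑Q))
    (hnp : ¬ (Fintype.card F).Prime) (D : Fin n → Submodule F (Fin n → F))
    (hD : IsOrthogonalMDecomposition (⇑Q) 1 D) :
    ∃ (F₁ : Subfield F) (ℓ : ℕ) (B : GL (Fin n) F), ℓ.Prime ∧ Fintype.card F = Nat.card F₁ ^ ℓ ∧
      IsQuadFormRationalStructure (⇑Q) F₁ B ∧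
      decompositionStabilizer D ⊓ isometryGroup F (⇑Q) ≤ subfieldSubgroup F₁ B :=
  ascofrsub_core hodd h2 Q hG hnp D hD
    (fun F₁ ℓ ho hc μ hμ => square_class_odd (ascofrsub_odd_card h2) F₁ ℓ ho hc μ hμ)
    (fun F₁ hc x hx => square_of_mem_index_two (ascofrsub_odd_card h2) F₁ hc x hx)

end Cfsg.Agent.Lib.helper23.ASCO
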