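import Mathlib
import Cfsg.Prelude.Def_GeometricClasses
import Cfsg.Agent.Lib.Helper27.ASC.Defs
import Cfsg.Agent.Lib.helper23.ASCO.Defs
import Cfsg.Agent.Lib.Lead.Reindex
import Cfsg.Agent.Lib.Helper16.SpinG2

/-!
# ASCO piece GRAMSTD : the Gram entries of the standard odd-dimensional form lie in every subfield
-/

set_option autoImplicit false
set_option linter.unusedVariables false
set_option linter.unusedSectionVars false

namespace Cfsg.Agent.Lib.helper23.ASCO

open Cfsg Cfsg.Geo Cfsg.Agent.Lib.Helper27.ASC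
open scoped MatrixGroups Matrix

variable {n : ℕ} {F : Type*} [Field F] [Fintype F]

/-- a coordinate of a standard basis vector lies in every subfield -/
theorem ascogramstd_single_mem {ι : Type} [DecidableEq ι] (F₁ : Subfield F) (a b : ι) :
    (Pi.single a (1 : F) : ι → F) b ∈ F₁ := by
  rw [Pi.single_apply]
  split_ifs
  · exact F₁.one_mem
  · exact F₁.zero_mem

/-- GRAMSTD : the Gram entries of the standard odd-dimensional form are `0`, `1`, `2`. -/
theorem gramPrime_quadFormOdd (m : ℕ) : GramPrime (quadFormOdd m F) := by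
  intro F₁ i j
  rw [Cfsg.Agent.Lib.Helper16.polar_odd]
  have h2 : (2 : F) ∈ F₁ := by
    have : (2 : F) = 1 + 1 := by norm_num
    rw [this]
    exact F₁.add_mem F₁.one_mem F₁.one_mem
  refine F₁.add_mem (F₁.mul_mem (F₁.mul_mem h2 (ascogramstd_single_mem F₁ _ _))
    (ascogramstd_single_mem F₁ _ _)) (F₁.sum_mem fun k _ => ?_)
  exact F₁.add_mem (F₁.mul_mem (ascogramstd_single_mem F₁ _ _) (ascogramstd_single_mem F₁ _ _))
    (F₁.mul_mem (ascogramstd_single_mem F₁ _ _) (ascogramstd_single_mem F₁ _ _))

end Cfsg.Agent.Lib.helper23.ASCO
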