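import Mathlib
import Cfsg.Prelude.Def_GeometricClasses
import Cfsg.Agent.Lib.Helper27.ASC.Defs

/-!
# Project ASC, piece PR5: `SL_n(F)` is not contained in a subfield group (`n ≥ 2`)
-/

set_option autoImplicit false
set_option linter.unusedVariables false

namespace Cfsg.Agent.Lib.Helper27.ASC

open Cfsg Cfsg.Geo
open scoped MatrixGroups Matrix

variable {n : ℕ} {F : Type*} [Field F] [Fintype F]

/-- the transvection `1 + a E_{ij}` as an element of `GL` -/
noncomputable def ascpr5_tv {n : ℕ} {F : Type*} [Field F] (i j : Fin n) (hij : i ≠ j) (a : F) :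
    GL (Fin n) F :=
  Matrix.GeneralLinearGroup.mkOfDetNeZero (Matrix.transvection i j a)
    (by rw [Matrix.det_transvection_of_ne i j hij a]; exact one_ne_zero)

theorem ascpr5_tv_coe {n : ℕ} {F : Type*} [Field F] (i j : Fin n) (hij : i ≠ j) (a : F) :
    ((ascpr5_tv i j hij a : GL (Fin n) F) : Matrix (Fin n) (Fin n) F) = Matrix.transvection i j a :=
  rfl

theorem ascpr5_tv_mem {n : ℕ} {F : Type*} [Field F] (i j : Fin n) (hij : i ≠ j) (a : F) :
    ascpr5_tv i j hij a ∈ specialLinear (Fin n) F := by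
  unfold specialLinear
  rw [MonoidHom.mem_ker]
  apply Units.ext
  rw [Matrix.GeneralLinearGroup.val_det_apply, ascpr5_tv_coe, Matrix.det_transvection_of_ne i j hij a]
  rfl

/-- PR5 -/
theorem pr_subfield (hn : 2 ≤ n) (F₀ : Subfield F) (h : F₀ ≠ ⊤) (P : GL (Fin n) F) :
    ¬ specialLinear (Fin n) F ≤ subfieldSubgroup F₀ P := by
  intro hle
  classical
  -- an element outside `F₀`
  obtain ⟨a, ha⟩ : ∃ a : F, a ∉ F₀ := by
    by_contra hcon
    push Not at hcon
    exact h (eq_top_iff.mpr fun x _ => hcon x)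
  set i0 : Fin n := ⟨0, by omega⟩ with hi0
  set i1 : Fin n := ⟨1, by omega⟩ with hi1
  have h01 : i0 ≠ i1 := by
    intro hh
    have := congrArg Fin.val hh
    simp [hi0, hi1] at this
  set t := ascpr5_tv i0 i1 h01 a with ht
  -- conjugate: `P t P⁻¹ ∈ SL`
  have hSLn : (specialLinear (Fin n) F).Normal := by
    unfold specialLinear
    exact MonoidHom.normal_ker _
  have h1 : P * t * P⁻¹ ∈ subfieldSubgroup F₀ P :=
    hle (hSLn.conj_mem t (ascpr5_tv_mem i0 i1 h01 a) P)
  unfold subfieldSubgroup at h1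
  obtain ⟨m, hm, hmt⟩ := h1
  have hmt' : m = t := by
    have : P * m * P⁻¹ = P * t * P⁻¹ := hmt
    have h2 := congrArg (fun z => P⁻¹ * z * P) this
    simpa [mul_assoc] using h2
  rw [hmt'] at hm
  -- decompose
  have hnorm : (scalars (Fin n) F).Normal := scalars_normal
  rw [SetLike.mem_coe, Subgroup.mem_sup_of_normal_right] at hm
  obtain ⟨g0, hg0, c, hc, hgc⟩ := hm
  obtain ⟨g00, rfl⟩ := hg0
  obtain ⟨cc, hcc⟩ := (mem_scalars_iff c).mp hc
  have hmat : (t : Matrix (Fin n) (Fin n) F) =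
      ((Matrix.GeneralLinearGroup.map (F₀.subtype : F₀ →+* F) g00 : GL (Fin n) F) :
        Matrix (Fin n) (Fin n) F) * (c : Matrix (Fin n) (Fin n) F) := by
    rw [← hgc]; rfl
  rw [hcc, Matrix.mul_smul, Matrix.mul_one] at hmat
  have hent : ∀ i j, (t : Matrix (Fin n) (Fin n) F) i j =
      (cc : F) * ((g00 : Matrix (Fin n) (Fin n) F₀) i j : F) := by
    intro i j
    rw [hmat]
    rfl
  have e00 : (1 : F) = (cc : F) * ((g00 : Matrix (Fin n) (Fin n) F₀) i0 i0 : F) := by
    rw [← hent i0 i0, ht, ascpr5_tv_coe]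
    simp [Matrix.transvection, Matrix.single, h01, h01.symm]
  have e01 : a = (cc : F) * ((g00 : Matrix (Fin n) (Fin n) F₀) i0 i1 : F) := by
    rw [← hent i0 i1, ht, ascpr5_tv_coe]
    simp [Matrix.transvection, Matrix.single, h01]
  apply ha
  have hx0 : ((g00 : Matrix (Fin n) (Fin n) F₀) i0 i0 : F) ≠ 0 := by
    intro hz
    rw [hz, mul_zero] at e00
    exact one_ne_zero e00
  have hcc0 : (cc : F) ≠ 0 := cc.ne_zero
  have : a = ((g00 : Matrix (Fin n) (Fin n) F₀) i0 i1 : F) *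
      ((g00 : Matrix (Fin n) (Fin n) F₀) i0 i0 : F)⁻¹ := by
    have hcinv : (cc : F) = ((g00 : Matrix (Fin n) (Fin n) F₀) i0 i0 : F)⁻¹ := by
      exact eq_inv_of_mul_eq_one_left e00.symm
    rw [e01, hcinv]
    ring
  rw [this]
  exact F₀.mul_mem (SetLike.coe_mem _) (F₀.inv_mem (SetLike.coe_mem _))

end Cfsg.Agent.Lib.Helper27.ASC
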