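import Mathlib
import Cfsg.Prelude.Def_GeometricClasses
import Cfsg.Agent.Lib.Helper28.ONdW

set_option autoImplicit false
set_option linter.unusedVariables false
set_option linter.unusedSectionVars false
set_option linter.unusedSimpArgs false

/-!
# A rational structure over a subfield of index 2 forces plus type (helper10; project ASE, minus-type rows)

`quad_plus_of_index_two` : if a non-zero multiple `ζ Q` of a non-degenerate quadratic form on `F^(2m)` takes values in `F₁` on an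
`F₁`-structure `B F₁ⁿ` and `|F| = |F₁|²`, then `Q` is of plus type.  All characteristics.

Proof: `Q₁ = ζ Q ∘ B` is a non-degenerate quadratic form over `F₁` (`qp_QF`); Witt over `F₁` (Helper28 `split_sing` / `split_partner`)
gives `m - 1` hyperbolic pairs and a `2`-dimensional rest, on which the form `a x² + b x y + c y²` has a zero over `F` (`qratplus_root`:
irreducible polynomials of degree `≤ 2` over `F₁` divide `X^(q²) - X`).
-/

namespace Cfsg.Agent.Lib.Helper10.QRat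

open Cfsg Cfsg.Geo Polynomial
open Cfsg.Agent.Lib.Helper28.HForm Cfsg.Agent.Lib.Helper28.OGen Cfsg.Agent.Lib.Helper28.OQ
  Cfsg.Agent.Lib.Helper28.OEven Cfsg.Agent.Lib.Helper28.ONd Cfsg.Agent.Lib.Helper28.ONdW
open scoped Matrix

section root

variable {F : Type*} [Field F] [Fintype F]

/-- every polynomial of degree 2 over a subfield of index 2 has a root in the big field -/
theorem qratplus_root (F₁ : Subfield F) (hcard : Fintype.card F = Nat.card F₁ ^ 2) (a b c : F₁)
    (ha : a ≠ 0) : ∃ t : F, (a : F) * t ^ 2 + (b : F) * t + (c : F) = 0 := by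
  classical
  have : Fintype F₁ := Fintype.ofFinite _
  obtain ⟨p, hp⟩ : ∃ p : (↥F₁)[X], p = C a * X ^ 2 + C b * X + C c := ⟨_, rfl⟩
  have hdeg : p.natDegree = 2 := by rw [hp]; exact natDegree_quadratic ha
  have hp0 : p ≠ 0 := by
    intro h
    rw [h, natDegree_zero] at hdeg
    omega
  have hnu : ¬ IsUnit p := by
    intro h
    have := natDegree_eq_zero_of_isUnit h
    omega
  obtain ⟨g, hgi, hgp⟩ := WfDvdMonoid.exists_irreducible_factor hnu hp0
  have hg1 : 0 < g.natDegree := hgi.natDegree_pos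
  have hg2 : g.natDegree ≤ 2 := hdeg ▸ natDegree_le_of_dvd hgp hp0
  have hgd : g.natDegree ∣ 2 := by
    interval_cases g.natDegree <;> simp
  have hdvd : g ∣ X ^ (Nat.card F₁) ^ 2 - X := hgi.natDegree_dvd_iff_dvd_X_pow_card_pow_sub_X.1 hgd
  rw [← hcard] at hdvd
  have hsp : Splits ((X ^ Fintype.card F - X : (↥F₁)[X]).map (algebraMap (↥F₁) F)) :=
    (FiniteField.isSplittingField_sub F (↥F₁)).splits
  have hne : ((X ^ Fintype.card F - X : (↥F₁)[X]).map (algebraMap (↥F₁) F)) ≠ 0 := by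
    rw [Polynomial.map_ne_zero_iff (algebraMap (↥F₁) F).injective]
    exact FiniteField.X_pow_card_sub_X_ne_zero _ Fintype.one_lt_card
  have hsg : Splits (g.map (algebraMap (↥F₁) F)) :=
    Splits.of_dvd hsp hne (Polynomial.map_dvd _ hdvd)
  have hdg : (g.map (algebraMap (↥F₁) F)).degree ≠ 0 := by
    rw [degree_map]
    intro h
    have := natDegree_eq_zero_iff_degree_le_zero.2 (le_of_eq h)
    omega
  obtain ⟨t, ht⟩ := hsg.exists_eval_eq_zero hdg
  refine ⟨t, ?_⟩
  have h1 : (p.map (algebraMap (↥F₁) F)).eval t = 0 := by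
    obtain ⟨r, hr⟩ := hgp
    rw [hr, Polynomial.map_mul, eval_mul, ht, zero_mul]
  rw [hp] at h1
  simp only [Polynomial.map_add, Polynomial.map_mul, Polynomial.map_pow, map_C, map_X, eval_add, eval_mul, eval_pow, eval_C, eval_X] at h1
  exact h1

end root

section forms

variable {n : ℕ} {F : Type*} [Field F]

/-- the embedding of `F₁ⁿ` into `Fⁿ` through `B` -/
def qpE (F₁ : Subfield F) (B : Matrix (Fin n) (Fin n) F) (u : Fin n → F₁) : Fin n → F :=
  B *ᵥ (fun i => (u i : F))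

theorem qpE_add (F₁ : Subfield F) (B : Matrix (Fin n) (Fin n) F) (u v : Fin n → F₁) :
    qpE F₁ B (u + v) = qpE F₁ B u + qpE F₁ B v := by
  unfold qpE
  rw [← Matrix.mulVec_add]
  congr 1

theorem qpE_smul (F₁ : Subfield F) (B : Matrix (Fin n) (Fin n) F) (c : F₁) (u : Fin n → F₁) :
    qpE F₁ B (c • u) = (c : F) • qpE F₁ B u := by
  unfold qpE
  rw [← Matrix.mulVec_smul]
  congr 1

theorem qpE_single (F₁ : Subfield F) (B : Matrix (Fin n) (Fin n) F) (i : Fin n) :
    qpE F₁ B (Pi.single i 1) = B *ᵥ (Pi.single i 1) := by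
  unfold qpE
  congr 1
  funext j
  by_cases h : j = i
  · subst h; simp
  · simp [Pi.single_apply, h]

theorem qpE_inj (F₁ : Subfield F) (B : Matrix (Fin n) (Fin n) F) (hB : IsUnit B.det)
    (u : Fin n → F₁) (h : qpE F₁ B u = 0) : u = 0 := by
  unfold qpE at h
  have h1 : (fun i => (u i : F)) = 0 := by
    have := congrArg (fun w => B⁻¹ *ᵥ w) h
    simp only [Matrix.mulVec_mulVec, Matrix.nonsing_inv_mul _ hB, Matrix.one_mulVec,
      Matrix.mulVec_zero] at this
    exact this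
  funext i
  have := congrFun h1 i
  exact Subtype.ext this

/-- the form restricted to the `F₁`-structure -/
def qpQ (F₁ : Subfield F) (B : Matrix (Fin n) (Fin n) F) (Q' : (Fin n → F) → F)
    (hrat : ∀ u : Fin n → F₁, Q' (qpE F₁ B u) ∈ F₁) (u : Fin n → F₁) : F₁ :=
  ⟨Q' (qpE F₁ B u), hrat u⟩

def qpf (F₁ : Subfield F) (B : Matrix (Fin n) (Fin n) F) (Q' : (Fin n → F) → F)
    (hrat : ∀ u : Fin n → F₁, Q' (qpE F₁ B u) ∈ F₁) (u v : Fin n → F₁) : F₁ :=
  qpQ F₁ B Q' hrat (u + v) - qpQ F₁ B Q' hrat u - qpQ F₁ B Q' hrat v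

theorem qpQ_coe (F₁ : Subfield F) (B : Matrix (Fin n) (Fin n) F) (Q' : (Fin n → F) → F)
    (hrat : ∀ u : Fin n → F₁, Q' (qpE F₁ B u) ∈ F₁) (u : Fin n → F₁) :
    ((qpQ F₁ B Q' hrat u : F₁) : F) = Q' (qpE F₁ B u) := rfl

theorem qpf_coe (F₁ : Subfield F) (B : Matrix (Fin n) (Fin n) F) {Q' : (Fin n → F) → F}
    {f' : (Fin n → F) → (Fin n → F) → F} (hq : QF Q' f')
    (hrat : ∀ u : Fin n → F₁, Q' (qpE F₁ B u) ∈ F₁) (u v : Fin n → F₁) :
    ((qpf F₁ B Q' hrat u v : F₁) : F) = f' (qpE F₁ B u) (qpE F₁ B v) := by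
  unfold qpf
  push_cast
  rw [qpQ_coe, qpQ_coe, qpQ_coe, qpE_add, hq.polar]
  ring

theorem qp_span (F₁ : Subfield F) (B : Matrix (Fin n) (Fin n) F) (hB : IsUnit B.det)
    {f' : (Fin n → F) → (Fin n → F) → F} (hf : SymF f') (y : Fin n → F)
    (h : ∀ u : Fin n → F₁, f' (qpE F₁ B u) y = 0) : ∀ x, f' x y = 0 := by
  intro x
  obtain ⟨c, hc⟩ : ∃ c, c = B⁻¹ *ᵥ x := ⟨_, rfl⟩
  have hx : x = ∑ i, c i • qpE F₁ B (Pi.single i 1) := by
    have h1 : x = B *ᵥ c := by
      rw [hc, Matrix.mulVec_mulVec, Matrix.mul_nonsing_inv _ hB, Matrix.one_mulVec]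
    have h2 : c = ∑ i, c i • (Pi.single i (1 : F) : Fin n → F) := by
      ext j
      simp [Finset.sum_apply, Pi.single_apply]
    rw [h1]
    conv_lhs => rw [h2]
    rw [Matrix.mulVec_sum]
    apply Finset.sum_congr rfl
    intro i _
    rw [Matrix.mulVec_smul, qpE_single]
  rw [hx, f_sum_left hf]
  apply Finset.sum_eq_zero
  intro i _
  rw [hf.smul_left, h, mul_zero]

theorem qp_QF (F₁ : Subfield F) (B : Matrix (Fin n) (Fin n) F) (hB : IsUnit B.det)
    {Q' : (Fin n → F) → F} {f' : (Fin n → F) → (Fin n → F) → F} (hq : QF Q' f')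
    (hrat : ∀ u : Fin n → F₁, Q' (qpE F₁ B u) ∈ F₁) :
    QF (qpQ F₁ B Q' hrat) (qpf F₁ B Q' hrat) := by
  have hf := hq.sym
  have hsymm : ∀ u v, qpf F₁ B Q' hrat u v = qpf F₁ B Q' hrat v u := by
    intro u v
    apply Subtype.ext
    rw [qpf_coe F₁ B hq, qpf_coe F₁ B hq, s_symm hf]
  have hnd : ∀ u : Fin n → F₁, u ≠ 0 → ∃ x, qpf F₁ B Q' hrat x u ≠ 0 := by
    intro u hu
    by_contra hcon
    push Not at hcon
    have hx0 : qpE F₁ B u ≠ 0 := fun h => hu (qpE_inj F₁ B hB u h)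
    obtain ⟨x, hx⟩ := (hf.nondegenerate _ hx0).1
    apply hx
    apply qp_span F₁ B hB hf
    intro v
    rw [← qpf_coe F₁ B hq hrat, hcon v]
    rfl
  refine ⟨⟨fun a => rfl, ?_, ?_, ?_, ?_⟩, ?_, ?_⟩
  · intro x y v
    apply Subtype.ext
    push_cast
    rw [qpf_coe F₁ B hq, qpf_coe F₁ B hq, qpf_coe F₁ B hq, qpE_add, hf.add_left]
  · intro c x v
    apply Subtype.ext
    push_cast
    rw [qpf_coe F₁ B hq, qpf_coe F₁ B hq, qpE_smul, hf.smul_left]
  · intro v w
    exact hsymm v w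
  · intro v hv
    obtain ⟨x, hx⟩ := hnd v hv
    exact ⟨⟨x, hx⟩, ⟨x, by rw [hsymm]; exact hx⟩⟩
  · intro x y
    unfold qpf
    ring
  · intro c x
    apply Subtype.ext
    push_cast
    rw [qpQ_coe, qpQ_coe, qpE_smul, hq.smul]

end forms

section generic

variable {n : ℕ} {K : Type*} [Field K] {Q : (Fin n → K) → K} {f : (Fin n → K) → (Fin n → K) → K}

/-- adding a hyperbolic pair from the perp keeps a subspace non-degenerate -/
theorem qp_nd_sup (hq : QF Q f) (W : Submodule K (Fin n → K)) (hW : IsNondegenerateOn f W)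
    (s s' : Fin n → K) (hs : s ∈ perpSub f hq.sym W) (hs' : s' ∈ perpSub f hq.sym W)
    (hss : Q s = 0) (hs's' : Q s' = 0) (h1 : f s' s = 1) :
    IsNondegenerateOn f (W ⊔ Submodule.span K {s, s'}) := by
  have hf := hq.sym
  have key : ∀ x ∈ W ⊔ Submodule.span K {s, s'}, x ≠ 0 →
      ∃ y ∈ W ⊔ Submodule.span K {s, s'}, f y x ≠ 0 := by
    intro x hx hx0
    by_contra hcon
    push Not at hcon
    obtain ⟨w, hw, h, hh, rfl⟩ := Submodule.mem_sup.1 hx
    obtain ⟨a, b, rfl⟩ := Submodule.mem_span_pair.1 hh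
    have hO : a • s + b • s' ∈ perpSub f hf W :=
      Submodule.add_mem _ (Submodule.smul_mem _ _ hs) (Submodule.smul_mem _ _ hs')
    have hw0 : w = 0 := by
      by_contra hw0
      obtain ⟨⟨y, hyW, hy⟩, -⟩ := hW w hw hw0
      apply hy
      have := hcon y (Submodule.mem_sup_left hyW)
      rw [f_add_right hf, hO y hyW, add_zero] at this
      exact this
    have hsm : s ∈ W ⊔ Submodule.span K {s, s'} :=
      Submodule.mem_sup_right (Submodule.subset_span (by simp))
    have hs'm : s' ∈ W ⊔ Submodule.span K {s, s'} :=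
      Submodule.mem_sup_right (Submodule.subset_span (by simp))
    have e1 := hcon s hsm
    have e2 := hcon s' hs'm
    rw [hw0, zero_add, f_add_right hf, s_smul_right hf, s_smul_right hf] at e1 e2
    rw [f_sing hq hss, s_symm hf s s', h1] at e1
    rw [f_sing hq hs's', h1] at e2
    have hb : b = 0 := by linear_combination e1
    have ha : a = 0 := by linear_combination e2
    apply hx0
    rw [hw0, ha, hb]
    simp
  intro x hx hx0
  obtain ⟨y, hy, hyx⟩ := key x hx hx0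
  exact ⟨⟨y, hy, hyx⟩, ⟨y, hy, by rw [s_symm hf]; exact hyx⟩⟩

theorem qp_finrank_sup (W : Submodule K (Fin n → K)) (s s' : Fin n → K) :
    Module.finrank K ↥(W ⊔ Submodule.span K {s, s'}) ≤ Module.finrank K W + 2 := by
  classical
  have h1 := Submodule.finrank_add_le_finrank_add_finrank W (Submodule.span K {s, s'})
  have h3 : Module.finrank K (Submodule.span K ({s, s'} : Set (Fin n → K))) ≤ 2 := by
    have h4 := finrank_span_finset_le_card (R := K) ({s, s'} : Finset (Fin n → K))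
    have h5 : ({s, s'} : Finset (Fin n → K)).card ≤ 2 := Finset.card_le_two
    have h6 : ((({s, s'} : Finset (Fin n → K)) : Set (Fin n → K))) = {s, s'} := by simp
    rw [h6] at h4
    unfold Set.finrank at h4
    omega
  omega

/-- extension of a totally singular subspace by one singular vector of its perp -/
theorem qp_ext (hq : QF Q f) (X : Submodule K (Fin n → K)) (hX : ∀ x ∈ X, Q x = 0)
    (z : Fin n → K) (hz : Q z = 0) (hzX : ∀ x ∈ X, f x z = 0) (hzn : z ∉ X) :
    (∀ x ∈ X ⊔ Submodule.span K {z}, Q x = 0) ∧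
      Module.finrank K ↥(X ⊔ Submodule.span K {z}) = Module.finrank K X + 1 := by
  refine ⟨?_, ?_⟩
  · intro x hx
    obtain ⟨x₁, hx₁, x₂, hx₂, rfl⟩ := Submodule.mem_sup.1 hx
    obtain ⟨a, rfl⟩ := Submodule.mem_span_singleton.1 hx₂
    rw [hq.polar, hX x₁ hx₁, hq.smul, hz, s_smul_right hq.sym, hzX x₁ hx₁]
    ring
  · have h1 := Submodule.finrank_sup_add_finrank_inf_eq X (Submodule.span K {z})
    have hz0 : z ≠ 0 := by
      rintro rfl
      exact hzn X.zero_mem
    have h2 : Module.finrank K (Submodule.span K ({z} : Set (Fin n → K))) = 1 :=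
      finrank_span_singleton hz0
    have h3 : X ⊓ Submodule.span K {z} = ⊥ := by
      rw [eq_bot_iff]
      intro v hv
      rw [Submodule.mem_bot]
      obtain ⟨a, rfl⟩ := Submodule.mem_span_singleton.1 hv.2
      by_cases ha : a = 0
      · rw [ha, zero_smul]
      · exfalso
        apply hzn
        have := X.smul_mem a⁻¹ hv.1
        rwa [smul_smul, inv_mul_cancel₀ ha, one_smul] at this
    rw [h3, finrank_bot, add_zero, h2] at h1
    exact h1

end generic


section main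

variable {n : ℕ} {F : Type*} [Field F] [Fintype F]

theorem qp_plus_core (m : ℕ) (hn : n = 2 * m) (Q' : (Fin n → F) → F)
    (hQ' : IsNondegenerateQuadraticForm Q') (F₁ : Subfield F)
    (hcard : Fintype.card F = Nat.card F₁ ^ 2) (B : GL (Fin n) F)
    (hrat : IsQuadFormRationalStructure Q' F₁ B) : IsPlusTypeOn Q' ⊤ := by
  classical
  have : Fintype F₁ := Fintype.ofFinite _
  rcases Nat.eq_zero_or_pos m with hm0 | hmpos
  · refine ⟨⊥, le_top, ?_, ?_⟩
    · intro w hw
      rw [(Submodule.mem_bot _).1 hw]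
      exact Q_zero (qf_unb Q' hQ')
    · rw [finrank_bot, finrank_top, Module.finrank_fin_fun]
      omega
  have hq0 := qf_unb Q' hQ'
  obtain ⟨f', hf'⟩ : ∃ f', f' = QuadraticMap.polar Q' := ⟨_, rfl⟩
  have hq : QF Q' f' := by rw [hf']; exact hq0
  have hf := hq.sym
  have hBu : IsUnit (B : Matrix (Fin n) (Fin n) F).det :=
    (Matrix.isUnit_iff_isUnit_det _).1 (Units.isUnit B)
  have hrat' : ∀ u : Fin n → F₁, Q' (qpE F₁ (B : Matrix (Fin n) (Fin n) F) u) ∈ F₁ :=
    fun u => hrat _ (fun i => (u i).2)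
  obtain ⟨E, hE⟩ : ∃ E, E = qpE F₁ (B : Matrix (Fin n) (Fin n) F) := ⟨_, rfl⟩
  obtain ⟨Q₁, hQ₁⟩ : ∃ Q₁, Q₁ = qpQ F₁ (B : Matrix (Fin n) (Fin n) F) Q' hrat' := ⟨_, rfl⟩
  obtain ⟨f₁, hf₁d⟩ : ∃ f₁, f₁ = qpf F₁ (B : Matrix (Fin n) (Fin n) F) Q' hrat' := ⟨_, rfl⟩
  have hq₁ : QF Q₁ f₁ := by
    rw [hQ₁, hf₁d]
    exact qp_QF F₁ _ hBu hq hrat'
  have hf₁ := hq₁.sym
  have cQ : ∀ u, ((Q₁ u : F₁) : F) = Q' (E u) := by
    intro u
    rw [hQ₁, hE]
    rfl
  have cf : ∀ u v, ((f₁ u v : F₁) : F) = f' (E u) (E v) := by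
    intro u v
    rw [hf₁d, hE]
    exact qpf_coe F₁ _ hq hrat' u v
  have Eadd : ∀ u v, E (u + v) = E u + E v := by
    intro u v
    rw [hE]
    exact qpE_add _ _ _ _
  -- the extension step
  have step : ∀ (W : Submodule F₁ (Fin n → F₁)) (X : Submodule F (Fin n → F)),
      (∀ x ∈ X, Q' x = 0) → (∀ x ∈ X, ∀ o ∈ perpSub f₁ hf₁ W, f' x (E o) = 0) →
      ∀ s ∈ perpSub f₁ hf₁ W, ∀ s' ∈ perpSub f₁ hf₁ W, Q₁ s = 0 → f₁ s' s = 1 →
      (∀ x ∈ X ⊔ Submodule.span F {E s}, Q' x = 0) ∧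
        Module.finrank F ↥(X ⊔ Submodule.span F {E s}) = Module.finrank F X + 1 := by
    intro W X hX hXO s hsO s' hs'O hss h1
    apply qp_ext hq X hX
    · rw [← cQ, hss]
      rfl
    · intro x hx
      exact hXO x hx s hsO
    · intro hmem
      have h2 := hXO _ hmem s' hs'O
      rw [← cf, s_symm hf₁, h1] at h2
      simp at h2
  have ind : ∀ j, 2 * j + 2 ≤ n → ∃ (W : Submodule F₁ (Fin n → F₁)) (X : Submodule F (Fin n → F)),
      IsNondegenerateOn f₁ W ∧ Module.finrank F₁ W ≤ 2 * j ∧ (∀ x ∈ X, Q' x = 0) ∧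
      Module.finrank F X = j ∧ (∀ x ∈ X, ∀ o ∈ perpSub f₁ hf₁ W, f' x (E o) = 0) := by
    intro j
    induction j with
    | zero =>
      intro _
      refine ⟨⊥, ⊥, ?_, by simp, ?_, by simp, ?_⟩
      · intro w hw hw0
        exact absurd ((Submodule.mem_bot _).1 hw) hw0
      · intro x hx
        rw [(Submodule.mem_bot _).1 hx]
        exact Q_zero hq
      · intro x hx o ho
        rw [(Submodule.mem_bot _).1 hx]
        exact f_zero_left hf _
    | succ j ih =>
      intro hj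
      obtain ⟨W, X, hW, hWd, hX, hXd, hXO⟩ := ih (by omega)
      have sp := split_perp hf₁ W hW
      obtain ⟨s, hsO, hss, hs0, -, -⟩ := split_sing hq₁ sp 0 Fin.elim0 (by omega)
      obtain ⟨s', hs'O, hs's', h1⟩ := split_partner hq₁ sp hsO hs0 hss
      obtain ⟨hts, hfr⟩ := step W X hX hXO s hsO s' hs'O hss h1
      refine ⟨W ⊔ Submodule.span F₁ {s, s'}, X ⊔ Submodule.span F {E s},
        qp_nd_sup hq₁ W hW s s' hsO hs'O hss hs's' h1, ?_, hts, by rw [hfr, hXd], ?_⟩
      · have := qp_finrank_sup W s s'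
        omega
      · intro x hx o ho
        obtain ⟨x₁, hx₁, x₂, hx₂, rfl⟩ := Submodule.mem_sup.1 hx
        obtain ⟨a, rfl⟩ := Submodule.mem_span_singleton.1 hx₂
        have hoW : o ∈ perpSub f₁ hf₁ W := fun w hw => ho w (Submodule.mem_sup_left hw)
        have hso : f₁ s o = 0 :=
          ho s (Submodule.mem_sup_right (Submodule.subset_span (by simp)))
        rw [hf.add_left, hf.smul_left, hXO x₁ hx₁ o hoW, ← cf, hso]
        simp
  obtain ⟨W, X, hW, hWd, hX, hXd, hXO⟩ := ind (m - 1) (by omega)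
  have sp := split_perp hf₁ W hW
  have hfr := sp.finrank hf₁
  obtain ⟨O, hO⟩ : ∃ O, O = perpSub f₁ hf₁ W := ⟨_, rfl⟩
  rw [← hO] at sp hfr
  have fin : ∀ z : Fin n → F, Q' z = 0 → (∀ x ∈ X, f' x z = 0) → z ∉ X → IsPlusTypeOn Q' ⊤ := by
    intro z hz hzX hzn
    obtain ⟨hts, hfr'⟩ := qp_ext hq X hX z hz hzX hzn
    refine ⟨X ⊔ Submodule.span F {z}, le_top, hts, ?_⟩
    rw [hfr', hXd, finrank_top, Module.finrank_fin_fun]
    omega
  by_cases hiso : ∃ s ∈ O, s ≠ 0 ∧ Q₁ s = 0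
  · obtain ⟨s, hsO, hs0, hss⟩ := hiso
    obtain ⟨s', hs'O, hs's', h1⟩ := split_partner hq₁ sp hsO hs0 hss
    rw [hO] at hsO hs'O
    obtain ⟨hts, hfr'⟩ := step W X hX hXO s hsO s' hs'O hss h1
    refine ⟨X ⊔ Submodule.span F {E s}, le_top, hts, ?_⟩
    rw [hfr', hXd, finrank_top, Module.finrank_fin_fun]
    omega
  · push Not at hiso
    have hO2 : 2 ≤ Module.finrank F₁ O := by omega
    have hOne : O ≠ ⊥ := by
      intro h
      rw [h, finrank_bot] at hO2
      omega
    obtain ⟨e₁, he₁O, he₁0⟩ := Submodule.exists_mem_ne_zero_of_ne_bot hOne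
    have hnle : ¬ O ≤ Submodule.span F₁ {e₁} := by
      intro hle
      have h1 := Submodule.finrank_mono hle
      rw [finrank_span_singleton he₁0] at h1
      omega
    obtain ⟨e₂, he₂O, he₂n⟩ := SetLike.not_le_iff_exists.1 hnle
    have hα : Q₁ e₁ ≠ 0 := hiso e₁ he₁O he₁0
    obtain ⟨t, ht⟩ := qratplus_root F₁ hcard (Q₁ e₁) (f₁ e₁ e₂) (Q₁ e₂) hα
    obtain ⟨w, hw⟩ : ∃ w, w = t • E e₁ + E e₂ := ⟨_, rfl⟩
    have hwQ : Q' w = 0 := by
      rw [hw, hq.polar, hq.smul, hf.smul_left, ← cQ, ← cQ, ← cf]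
      linear_combination ht
    have hw0 : w ≠ 0 := by
      intro hw0
      rw [hw, hE] at hw0
      unfold qpE at hw0
      rw [← Matrix.mulVec_smul, ← Matrix.mulVec_add] at hw0
      have h1 : (t • (fun i => ((e₁ i : F₁) : F)) + fun i => ((e₂ i : F₁) : F)) = 0 := by
        have := congrArg (fun v => (B : Matrix (Fin n) (Fin n) F)⁻¹ *ᵥ v) hw0
        simp only [Matrix.mulVec_mulVec, Matrix.nonsing_inv_mul _ hBu, Matrix.one_mulVec,
          Matrix.mulVec_zero] at this
        exact this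
      have h2 : ∀ i, t * ((e₁ i : F₁) : F) + ((e₂ i : F₁) : F) = 0 := by
        intro i
        have := congrFun h1 i
        simpa using this
      obtain ⟨i₀, hi₀⟩ : ∃ i₀, e₁ i₀ ≠ 0 := by
        by_contra hcon
        push Not at hcon
        exact he₁0 (funext hcon)
      have hi₀' : ((e₁ i₀ : F₁) : F) ≠ 0 := fun h => hi₀ (Subtype.ext h)
      obtain ⟨t₁, ht₁⟩ : ∃ t₁ : F₁, t₁ = -(e₂ i₀) / (e₁ i₀) := ⟨_, rfl⟩
      have htt : t = ((t₁ : F₁) : F) := by
        rw [ht₁]
        push_cast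
        field_simp
        linear_combination h2 i₀
      apply he₂n
      rw [Submodule.mem_span_singleton]
      refine ⟨-t₁, ?_⟩
      funext i
      apply Subtype.ext
      have := h2 i
      rw [htt] at this
      simp only [Pi.smul_apply, smul_eq_mul]
      push_cast
      linear_combination -this
    have hwX : ∀ x ∈ X, f' x w = 0 := by
      intro x hx
      rw [hw, f_add_right hf, s_smul_right hf, hXO x hx e₁ (hO ▸ he₁O), hXO x hx e₂ (hO ▸ he₂O)]
      ring
    apply fin w hwQ hwX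
    intro hwmem
    apply hw0
    by_contra hne
    obtain ⟨y, hy⟩ := (hf.nondegenerate w hne).1
    apply hy
    apply qp_span F₁ _ hBu hf w
    intro u
    obtain ⟨x, hxW, o, hoO, rfl⟩ := sp.dec u
    have h3 : f' (qpE F₁ (B : Matrix (Fin n) (Fin n) F) o) w = 0 := by
      rw [s_symm hf, ← hE]
      exact hXO w hwmem o (hO ▸ hoO)
    have h4 : f' (qpE F₁ (B : Matrix (Fin n) (Fin n) F) x) w = 0 := by
      rw [← hE, hw, f_add_right hf, s_smul_right hf, ← cf, ← cf, sp.orth x hxW e₁ he₁O,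
        sp.orth x hxW e₂ he₂O]
      simp
    rw [qpE_add, hf.add_left, h3, h4, add_zero]

/-- a non-zero multiple of a non-degenerate quadratic form is a non-degenerate quadratic form -/
theorem qp_scale (Q : (Fin n → F) → F) (hQ : IsNondegenerateQuadraticForm Q) (ζ : F) (hζ : ζ ≠ 0) :
    IsNondegenerateQuadraticForm (fun v : Fin n → F => ζ * Q v) := by
  have hpol : ∀ x y, QuadraticMap.polar (fun v : Fin n → F => ζ * Q v) x y = ζ * QuadraticMap.polar Q x y := by
    intro x y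
    unfold QuadraticMap.polar
    ring
  refine ⟨?_, ⟨?_, ?_, ?_, ?_⟩, ?_⟩
  · intro c v
    show ζ * Q (c • v) = c ^ 2 * (ζ * Q v)
    rw [hQ.smul]
    ring
  · intro x y v
    rw [hpol, hpol, hpol, hQ.polar_bilinear.add_left]
    ring
  · intro c x v
    rw [hpol, hpol, hQ.polar_bilinear.smul_left]
    ring
  · intro v x y
    rw [hpol, hpol, hpol, hQ.polar_bilinear.add_right]
    ring
  · intro c v x
    rw [hpol, hpol, hQ.polar_bilinear.smul_right]
    ring
  · intro v hv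
    obtain ⟨⟨x, hx⟩, ⟨y, hy⟩⟩ := hQ.nondegenerate v hv
    refine ⟨⟨x, ?_⟩, ⟨y, ?_⟩⟩
    · rw [hpol]
      exact mul_ne_zero hζ hx
    · rw [hpol]
      exact mul_ne_zero hζ hy

/-- **QRATPLUS** : a rational structure over a subfield of index 2 carrying a non-zero multiple of `Q` forces plus type
(all characteristics, `n = 2 m`). -/
theorem quad_plus_of_index_two (m : ℕ) (hn : n = 2 * m) (Q : (Fin n → F) → F)
    (hQ : IsNondegenerateQuadraticForm Q) (F₁ : Subfield F)
    (hcard : Fintype.card F = Nat.card F₁ ^ 2) (B : GL (Fin n) F) (ζ : F) (hζ : ζ ≠ 0)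
    (hrat : IsQuadFormRationalStructure (fun v : Fin n → F => ζ * Q v) F₁ B) :
    IsPlusTypeOn Q ⊤ := by
  obtain ⟨U, hU, hts, hfr⟩ := qp_plus_core m hn _ (qp_scale Q hQ ζ hζ) F₁ hcard B hrat
  refine ⟨U, hU, ?_, hfr⟩
  intro w hw
  have := hts w hw
  rcases mul_eq_zero.1 this with h | h
  · exact absurd h hζ
  · exact h

/-- in a minus-type row the prime index of a subfield structure carrying a multiple of `Q` is odd -/
theorem quad_index_odd_of_minus (m : ℕ) (hn : n = 2 * m) (Q : (Fin n → F) → F)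
    (hQ : IsNondegenerateQuadraticForm Q) (hminus : ¬ IsPlusTypeOn Q ⊤) (F₁ : Subfield F) (ℓ : ℕ)
    (hℓ : ℓ.Prime) (hcard : Fintype.card F = Nat.card F₁ ^ ℓ) (B : GL (Fin n) F) (ζ : F) (hζ : ζ ≠ 0)
    (hrat : IsQuadFormRationalStructure (fun v : Fin n → F => ζ * Q v) F₁ B) : Odd ℓ := by
  rcases hℓ.eq_two_or_odd' with h2 | hodd
  · subst h2
    exact absurd (quad_plus_of_index_two m hn Q hQ F₁ hcard B ζ hζ hrat) hminus
  · exact hodd

end main

end Cfsg.Agent.Lib.Helper10.QRat
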