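import Mathlib
import Cfsg.Prelude.Def_GeometricClasses
import Cfsg.Agent.Lib.Helper27.ASC.Defs
import Cfsg.Agent.Lib.helper23.ASCO.Defs
import Cfsg.Agent.Lib.Helper19.ASG.Defs
import Cfsg.Agent.Lib.Helper1.ASGCLIF3
import Cfsg.Agent.Lib.Helper25.ASO.Defs
import Cfsg.Agent.Lib.helper23.ASE.Defs
import Cfsg.Agent.Lib.Helper19.ASCOCONV
import Cfsg.Agent.Lib.Helper10.QRATPLUS

set_option autoImplicit false
set_option linter.unusedVariables false
set_option linter.unusedSectionVars false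

/-!
# Project ASE, pieces SUB2O + SUB2E (helper10): a rational structure over a subfield of index 2 forces plus type

Both are wrappers of `Cfsg.Agent.Lib.Helper10.QRat.quad_plus_of_index_two` (all characteristics).
-/

namespace Cfsg.Agent.Lib.helper23.ASE

open Cfsg Cfsg.Geo Cfsg.Agent.Lib.Helper27.ASC Cfsg.Agent.Lib.helper23.ASCO Cfsg.Agent.Lib.Helper19.ASG
  Cfsg.Agent.Lib.Helper25.ASO
open scoped MatrixGroups Matrix Kronecker

variable {n : ℕ} {F : Type*} [Field F] [Fintype F]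

/-- extra: the statement without any hypothesis on the characteristic -/
theorem asesub2_plus (hn : Even n) (Q : QuadraticForm F (Fin n → F))
    (hQ : (QuadraticMap.polarBilin Q).Nondegenerate) (F₁ : Subfield F)
    (hcard : Fintype.card F = Nat.card F₁ ^ 2) (B : GL (Fin n) F) (ζ : F) (hζ : ζ ≠ 0)
    (hrat : IsQuadFormRationalStructure (fun v : Fin n → F => ζ * Q v) F₁ B) : IsPlusTypeOn (⇑Q) ⊤ := by
  obtain ⟨m, hm⟩ := hn
  exact Cfsg.Agent.Lib.Helper10.QRat.quad_plus_of_index_two m (by omega) (⇑Q)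
    (isNondegenerateQuadraticForm_coe Q hQ) F₁ hcard B ζ hζ hrat

/-- SUB2O -/
theorem sub2_plus_odd (h2 : (2 : F) ≠ 0) (hn : Even n) (Q : QuadraticForm F (Fin n → F))
    (hQ : (QuadraticMap.polarBilin Q).Nondegenerate) (F₁ : Subfield F)
    (hcard : Fintype.card F = Nat.card F₁ ^ 2) (B : GL (Fin n) F) (ζ : F) (hζ : ζ ≠ 0)
    (hrat : IsQuadFormRationalStructure (fun v : Fin n → F => ζ * Q v) F₁ B) : IsPlusTypeOn (⇑Q) ⊤ :=
  asesub2_plus hn Q hQ F₁ hcard B ζ hζ hrat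

/-- SUB2E -/
theorem sub2_plus_even (h2 : (2 : F) = 0) (hn : Even n) (Q : QuadraticForm F (Fin n → F))
    (hQ : (QuadraticMap.polarBilin Q).Nondegenerate) (F₁ : Subfield F)
    (hcard : Fintype.card F = Nat.card F₁ ^ 2) (B : GL (Fin n) F) (ζ : F) (hζ : ζ ≠ 0)
    (hrat : IsQuadFormRationalStructure (fun v : Fin n → F => ζ * Q v) F₁ B) : IsPlusTypeOn (⇑Q) ⊤ :=
  asesub2_plus hn Q hQ F₁ hcard B ζ hζ hrat

end Cfsg.Agent.Lib.helper23.ASE
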