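import Mathlib
import Cfsg.Prelude.Def_GeometricClasses
import Cfsg.Agent.Lib.Helper27.ASC.Defs
import Cfsg.Agent.Lib.Helper19.ASG.Defs
import Cfsg.Agent.Lib.helper8.ASCSCHURC

/-!
# Project ASG (leader helper19), piece C-ONE, core: complete reducibility of `N` (statement of
C-SEMI `clifford_compl`, taken as a hypothesis) and `centAlg N ≃ M_1(F)` give `AbsIrr N`.
-/

set_option autoImplicit false
set_option linter.unusedVariables false

namespace Cfsg.Agent.Lib.Helper19.ASG

open Cfsg Cfsg.Geo Cfsg.Agent.Lib.Helper27.ASC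
open scoped MatrixGroups Matrix

variable {n : ℕ} {F : Type*} [Field F] [Fintype F]

/-- If the commutant of `N` is one-dimensional and every `N`-invariant subspace has an `N`-invariant
complement, then `N` is irreducible. -/
theorem asgcone_irr {N : Subgroup (GL (Fin n) F)}
    (hcompl : ∀ X : Submodule F (Fin n → F), Inv N X →
      ∃ Y : Submodule F (Fin n → F), Inv N Y ∧ IsCompl X Y)
    (h1 : Module.finrank F (centAlg N) = 1) : Irr N := by
  intro W hW
  have hWinv : Inv N W := by
    intro x hx v hv
    have : (Matrix.toLin' (x : Matrix (Fin n) (Fin n) F)) v ∈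
        W.map (Matrix.toLin' (x : Matrix (Fin n) (Fin n) F)) := Submodule.mem_map_of_mem hv
    have h2 := hW (x : Matrix (Fin n) (Fin n) F) ⟨x, hx, rfl⟩ this
    simpa [Matrix.toLin'_apply] using h2
  obtain ⟨Y, hY, hc⟩ := hcompl W hWinv
  -- the projection onto `W` along `Y`
  set E : (Fin n → F) →ₗ[F] (Fin n → F) := W.subtype ∘ₗ Submodule.projectionOnto W Y hc with hE
  have hEW : ∀ w ∈ W, E w = w := by
    intro w hw
    have := Submodule.projectionOnto_apply_left hc ⟨w, hw⟩
    simp only [hE, LinearMap.comp_apply, Submodule.subtype_apply]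
    have h2 : (Submodule.projectionOnto W Y hc) w = ⟨w, hw⟩ := this
    rw [h2]
  have hEY : ∀ y ∈ Y, E y = 0 := by
    intro y hy
    have := (Submodule.projectionOnto_apply_eq_zero_iff hc).mpr hy
    simp only [hE, LinearMap.comp_apply, Submodule.subtype_apply, this, Submodule.coe_zero]
  have hcomm : ∀ s ∈ matrixSet N, LinearMap.toMatrix' E * s = s * LinearMap.toMatrix' E := by
    rintro s ⟨x, hx, rfl⟩
    apply Matrix.toLin'.injective
    rw [Matrix.toLin'_mul, Matrix.toLin'_mul, Matrix.toLin'_toMatrix']
    apply LinearMap.ext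
    intro v
    obtain ⟨w, hw, y, hy, rfl⟩ : ∃ w ∈ W, ∃ y ∈ Y, w + y = v := by
      have : v ∈ W ⊔ Y := by rw [hc.sup_eq_top]; exact Submodule.mem_top
      obtain ⟨w, hw, y, hy, h⟩ := Submodule.mem_sup.mp this
      exact ⟨w, hw, y, hy, h⟩
    simp only [LinearMap.comp_apply, map_add, Matrix.toLin'_apply]
    have h1' := hWinv x hx w hw
    have h2' := hY x hx y hy
    rw [hEW _ h1', hEY _ h2', hEW _ hw, hEY _ hy]
    simp
  rcases Nat.eq_zero_or_pos n with h0 | h0
  · subst h0
    left
    exact Subsingleton.elim _ _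
  · have : Nonempty (Fin n) := ⟨⟨0, h0⟩⟩
    have hbot : centAlg N = ⊥ := Subalgebra.finrank_eq_one_iff.mp h1
    have hMc : LinearMap.toMatrix' E ∈ centAlg N := by
      rw [Subalgebra.mem_centralizer_iff]
      intro s hs
      exact (hcomm s hs).symm
    rw [hbot, Algebra.mem_bot] at hMc
    obtain ⟨c, hc'⟩ := hMc
    have hEc : ∀ v, E v = c • v := by
      intro v
      have h3 : Matrix.toLin' (LinearMap.toMatrix' E) v = E v := by rw [Matrix.toLin'_toMatrix']
      rw [← h3, ← hc', Algebra.algebraMap_eq_smul_one, Matrix.toLin'_apply, Matrix.smul_mulVec,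
        Matrix.one_mulVec]
    by_cases hW0 : W = ⊥
    · exact Or.inl hW0
    · right
      obtain ⟨w, hw, hw0⟩ := (Submodule.ne_bot_iff W).mp hW0
      have h4 : c • w = w := by rw [← hEc w, hEW w hw]
      have hc1 : c = 1 := by
        by_contra hne
        have : (c - 1) • w = 0 := by rw [sub_smul, one_smul, h4, sub_self]
        rcases smul_eq_zero.mp this with h | h
        · exact hne (sub_eq_zero.mp h)
        · exact hw0 h
      rw [eq_top_iff]
      intro v _
      have h5 : E v = v := by rw [hEc, hc1, one_smul]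
      rw [← h5]
      simp only [hE, LinearMap.comp_apply, Submodule.subtype_apply]
      exact Submodule.coe_mem _

/-- C-ONE core: with complete reducibility of `N` as a hypothesis. -/
theorem asgcone_core {N : Subgroup (GL (Fin n) F)}
    (hcompl : ∀ X : Submodule F (Fin n → F), Inv N X →
      ∃ Y : Submodule F (Fin n → F), Inv N Y ∧ IsCompl X Y)
    (φ : centAlg N ≃ₐ[F] Matrix (Fin 1) (Fin 1) F) : AbsIrr N := by
  have h1 : Module.finrank F (centAlg N) = 1 := by
    rw [φ.toLinearEquiv.finrank_eq, Module.finrank_matrix]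
    simp
  exact absIrr_of_finrank_one (asgcone_irr hcompl h1) h1

end Cfsg.Agent.Lib.Helper19.ASG
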