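import Mathlib
import Cfsg.Prelude.Def_GeometricClasses
import Cfsg.Agent.Lib.Helper27.ASC.Defs
import Cfsg.Agent.Lib.Helper19.ASG.Defs
import Cfsg.Agent.Lib.Helper19.ASGCSEMI
import Cfsg.Agent.Lib.Helper10.ASGCONEcore

/-!
# Project ASG (leader helper19), piece C-ONE (verbatim): `centAlg N ≃ M_1(F)` gives `AbsIrr N`.
-/

set_option autoImplicit false
set_option linter.unusedVariables false

namespace Cfsg.Agent.Lib.Helper19.ASG

open Cfsg Cfsg.Geo Cfsg.Agent.Lib.Helper27.ASC
open scoped MatrixGroups Matrix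

variable {n : ℕ} {F : Type*} [Field F] [Fintype F]

/-- C-ONE (helper19) : `k = 1` -/
theorem absIrr_of_cent_one {H N : Subgroup (GL (Fin n) F)} (hH : Irr H) (hN : NormalIn N H)
    (φ : centAlg N ≃ₐ[F] Matrix (Fin 1) (Fin 1) F) : AbsIrr N :=
  asgcone_core (fun X hX => clifford_compl hH hN X hX) φ

end Cfsg.Agent.Lib.Helper19.ASG
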