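import Mathlib
import Cfsg.Prelude.Def_GeometricClasses
import Cfsg.Agent.Lib.Helper27.ASC.Defs
import Cfsg.Agent.Lib.Helper19.ASG.Defs

/-!
# Project ASG, block C (sub-leader helper24), piece C-SWAP: swapping the two tensor factors.
-/

set_option autoImplicit false
set_option linter.unusedVariables false

namespace Cfsg.Agent.Lib.Helper19.ASG

open Cfsg Cfsg.Geo Cfsg.Agent.Lib.Helper27.ASC
open scoped MatrixGroups Matrix Kronecker

variable {n : ℕ} {F : Type*} [Field F]

/-- The matrix of `glReindex e g`. -/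
theorem asgcswap_reindex_coe {ι κ : Type} [Fintype ι] [DecidableEq ι] [Fintype κ] [DecidableEq κ]
    (e : κ ≃ ι) (g : GL κ F) (i j : ι) :
    ((glReindex e g : GL ι F) : Matrix ι ι F) i j = (g : Matrix κ κ F) (e.symm i) (e.symm j) := rfl

/-- Reindexing a Kronecker subgroup along the swap of the factors. -/
theorem asgcswap_kron (k d : ℕ) (x : GL (Fin k × Fin d) F) (hx : x ∈ kroneckerSubgroup k d F) :
    glReindex (Equiv.prodComm (Fin k) (Fin d)) x ∈ kroneckerSubgroup d k F := by
  obtain ⟨a, b, hab⟩ := hx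
  refine ⟨b, a, ?_⟩
  ext ⟨j, i⟩ ⟨j', i'⟩
  rw [asgcswap_reindex_coe, hab]
  simp [Matrix.kroneckerMap_apply, mul_comm]

/-- One inclusion of C-SWAP, in a form symmetric in the two factors. -/
theorem asgcswap_le {k d : ℕ} (e : Fin n ≃ Fin k × Fin d) (P : GL (Fin n) F) :
    tensorProductSubgroup k d e P ≤
      tensorProductSubgroup d k (e.trans (Equiv.prodComm (Fin k) (Fin d))) P := by
  intro g hg
  unfold tensorProductSubgroup at hg ⊢
  obtain ⟨y, hy, rfl⟩ := hg
  obtain ⟨x, hx, rfl⟩ := hy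
  have hxx : (glReindex (e.trans (Equiv.prodComm (Fin k) (Fin d))).symm)
      (glReindex (Equiv.prodComm (Fin k) (Fin d)) x) = (glReindex e.symm) x := by
    apply Units.ext
    ext i j
    rw [asgcswap_reindex_coe, asgcswap_reindex_coe, asgcswap_reindex_coe]
    simp
  refine ⟨(glReindex e.symm) x,
    ⟨glReindex (Equiv.prodComm (Fin k) (Fin d)) x, asgcswap_kron k d x hx, hxx⟩, rfl⟩

/-- C-SWAP (easy-medium) : swapping the two tensor factors (`(a ⊗ₖ b) (i,j) (i',j') = (b ⊗ₖ a) (j,i) (j',i')`). -/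
theorem tensor_swap {k d : ℕ} (e : Fin n ≃ Fin k × Fin d) (P : GL (Fin n) F) :
    tensorProductSubgroup k d e P =
      tensorProductSubgroup d k (e.trans (Equiv.prodComm (Fin k) (Fin d))) P := by
  apply le_antisymm (asgcswap_le e P)
  have h := asgcswap_le (e.trans (Equiv.prodComm (Fin k) (Fin d))) P
  have he : (e.trans (Equiv.prodComm (Fin k) (Fin d))).trans (Equiv.prodComm (Fin d) (Fin k)) = e := by
    ext i <;> simp
  rw [he] at h
  exact h

end Cfsg.Agent.Lib.Helper19.ASG
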