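import Mathlib
import Cfsg.Prelude.Def_GeometricClasses
import Cfsg.Agent.Lib.Helper27.ASC.Defs
import Cfsg.Agent.Lib.Helper19.ASG.Defs

/-!
# Project ASG, block C (sub-leader helper24), piece C-WR: a tensor product subgroup with equal factors
lies in the tensor-wreath subgroup with `t = 2`.
-/

set_option autoImplicit false
set_option linter.unusedVariables false

namespace Cfsg.Agent.Lib.Helper19.ASG

open Cfsg Cfsg.Geo Cfsg.Agent.Lib.Helper27.ASC
open scoped MatrixGroups Matrix Kronecker

variable {n : ℕ} {F : Type*} [Field F]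

/-- The matrix of `glReindex e g`. -/
theorem asgcwr_reindex_coe {ι κ : Type} [Fintype ι] [DecidableEq ι] [Fintype κ] [DecidableEq κ]
    (e : κ ≃ ι) (g : GL κ F) (i j : ι) :
    ((glReindex e g : GL ι F) : Matrix ι ι F) i j = (g : Matrix κ κ F) (e.symm i) (e.symm j) := rfl

/-- A Kronecker product with equal factors is a pure tensor with `t = 2`. -/
theorem asgcwr_pure (m : ℕ) (x : GL (Fin m × Fin m) F) (hx : x ∈ kroneckerSubgroup m m F) :
    glReindex (finTwoArrowEquiv (Fin m)).symm x ∈ tensorWreathStandard m 2 F := by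
  obtain ⟨a, b, hab⟩ := hx
  apply Subgroup.subset_closure
  left
  refine ⟨![a, b], ?_⟩
  intro u v
  rw [asgcwr_reindex_coe, hab, Fin.prod_univ_two]
  simp [Matrix.kroneckerMap_apply]

/-- C-WR (medium) : a Kronecker product `a ⊗ₖ b` with equal factors is a pure tensor (`gs = ![a, b]`), hence lies in the
standard tensor-wreath subgroup with `t = 2` after reindexing along `finTwoArrowEquiv`. -/
theorem tensor_le_wreath {m : ℕ} (e : Fin n ≃ Fin m × Fin m) (P : GL (Fin n) F) :
    tensorProductSubgroup m m e P ≤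
      tensorWreathSubgroup m 2 (e.trans (finTwoArrowEquiv (Fin m)).symm) P := by
  intro g hg
  unfold tensorProductSubgroup at hg
  unfold tensorWreathSubgroup
  obtain ⟨y, hy, rfl⟩ := hg
  obtain ⟨x, hx, rfl⟩ := hy
  have hxx : (glReindex (e.trans (finTwoArrowEquiv (Fin m)).symm).symm)
      (glReindex (finTwoArrowEquiv (Fin m)).symm x) = (glReindex e.symm) x := by
    apply Units.ext
    ext i j
    rw [asgcwr_reindex_coe, asgcwr_reindex_coe, asgcwr_reindex_coe]
    simp
  refine ⟨(glReindex e.symm) x,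
    ⟨glReindex (finTwoArrowEquiv (Fin m)).symm x, asgcwr_pure m x hx, hxx⟩, rfl⟩

end Cfsg.Agent.Lib.Helper19.ASG
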