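import Mathlib
import Cfsg.Prelude.Def_GeometricClasses
import Cfsg.Agent.Lib.Helper27.ASC.Defs
import Cfsg.Agent.Lib.helper23.ASCO.Defs
import Cfsg.Agent.Lib.Helper19.ASG.Defs
import Cfsg.Agent.Lib.Helper1.ASGCLIF3
import Cfsg.Agent.Lib.Lead.Reindex
import Cfsg.Agent.Lib.Helper25.ASO.Defs
import Cfsg.Agent.Lib.Helper25.ASOADJ
import Cfsg.Agent.Lib.Helper28.OTens

set_option autoImplicit false
set_option linter.unusedVariables false
set_option linter.unusedSectionVars false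

/-!
# Project ASO, piece C33 (helper10): `|F| = 3`, `k = d = 3`: the tensor product group `GO_3(3) ⊗ GO_3(3)` stabilises a frame of
nine pairwise orthogonal isometric lines (verbatim).  Built on `Helper28.OTens` (`frame3`, `tens_act`, `tform`, `sim_of_iso`,
`sim_one3`).
-/

namespace Cfsg.Agent.Lib.Helper25.ASO

open Cfsg Cfsg.Geo Cfsg.Agent.Lib.Helper27.ASC Cfsg.Agent.Lib.helper23.ASCO Cfsg.Agent.Lib.Helper19.ASG
open scoped MatrixGroups Matrix Kronecker

variable {n : ℕ} {F : Type*} [Field F] [Fintype F]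

omit [Fintype F] in
/-- an isometry of `f₁` permutes, up to non-zero scalars, a frame containing up to sign every vector of norm `δ` -/
theorem asoc33_perm {f₁ : (Fin 3 → F) → (Fin 3 → F) → F} (hf₁ : IsBilinearForm f₁) (X : Fin 3 → (Fin 3 → F))
    (δ : F) (hδ : δ ≠ 0) (hXX : ∀ i, f₁ (X i) (X i) = δ) (hXo : ∀ i j, i ≠ j → f₁ (X i) (X j) = 0)
    (hXP : ∀ v, f₁ v v = δ → ∃ i, v = X i ∨ v = -X i)
    (a : Matrix (Fin 3) (Fin 3) F) (ha : ∀ α α', f₁ (a *ᵥ α) (a *ᵥ α') = f₁ α α') :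
    ∃ (σ : Equiv.Perm (Fin 3)) (s : Fin 3 → F), (∀ i, s i ≠ 0) ∧ ∀ i, a *ᵥ X i = s i • X (σ i) := by
  classical
  have hex : ∀ i, ∃ (j : Fin 3) (s : F), s ≠ 0 ∧ a *ᵥ X i = s • X j := by
    intro i
    obtain ⟨j, hj | hj⟩ := hXP (a *ᵥ X i) (by rw [ha, hXX])
    · exact ⟨j, 1, one_ne_zero, by rw [hj, one_smul]⟩
    · exact ⟨j, -1, neg_ne_zero.mpr one_ne_zero, by rw [hj, neg_one_smul]⟩
  choose σ₀ s hs hσ using hex
  have hinj : Function.Injective σ₀ := by
    intro i i' hii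
    by_contra hne
    have h1 := ha (X i) (X i')
    rw [hXo i i' hne, hσ i, hσ i', hii, hf₁.smul_left, hf₁.smul_right, hXX] at h1
    exact mul_ne_zero (hs i) (mul_ne_zero (hs i') hδ) h1
  exact ⟨Equiv.ofBijective σ₀ (Finite.injective_iff_bijective.1 hinj), s, hs, hσ⟩

/-- C33 : `|F| = 3`, `k = d = 3` (`n = 9`): a frame of nine lines. -/
theorem tensor_three_three (h2 : (2 : F) ≠ 0) (Q : QuadraticForm F (Fin n → F))
    (hQ : (QuadraticMap.polarBilin Q).Nondegenerate) (hq : Fintype.card F = 3)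
    (e : Fin n ≃ Fin 3 × Fin 3) (P : GL (Fin n) F) (f₁ f₂ : (Fin 3 → F) → (Fin 3 → F) → F)
    (hf₁ : IsSymmetricForm f₁) (hf₂ : IsSymmetricForm f₂)
    (hT : IsTensorFormStructure id (QuadraticMap.polar (⇑Q)) f₁ f₂ e P) :
    ∃ D : Fin n → Submodule F (Fin n → F), IsOrthogonalMDecomposition (⇑Q) 1 D ∧
      tensorProductSubgroup 3 3 e P ⊓ isometryGroup F (⇑Q) ≤ decompositionStabilizer D := by
  classical
  obtain ⟨c, hc, hT'⟩ := hT
  obtain ⟨X, δ₁, hδ₁, hXX, hXo, hXP⟩ := Cfsg.Agent.Lib.Helper28.OTens.frame3 hq hf₁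
  obtain ⟨Y, δ₂, hδ₂, hYY, hYo, hYP⟩ := Cfsg.Agent.Lib.Helper28.OTens.frame3 hq hf₂
  have hn : n = 9 := by
    have := Fintype.card_congr e
    rwa [Fintype.card_fin, Fintype.card_prod, Fintype.card_fin] at this
  -- the bilinear form
  obtain ⟨B, hB⟩ : ∃ B : LinearMap.BilinMap F (Fin n → F) F, B = QuadraticMap.polarBilin Q := ⟨_, rfl⟩
  have hBp : ∀ a b, B a b = QuadraticMap.polar (⇑Q) a b := fun a b => by rw [hB]; rfl
  have htf : ∀ (α α' v v' : Fin 3 → F),
      QuadraticMap.polar (⇑Q) (Cfsg.Agent.Lib.Helper28.OTens.tau e P α v)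
        (Cfsg.Agent.Lib.Helper28.OTens.tau e P α' v') = c * (f₁ α α' * f₂ v v') :=
    fun α α' v v' => Cfsg.Agent.Lib.Helper28.OTens.tform e P hf₁.bilinear hf₂.bilinear hT' α α' v v'
  -- the nine vectors
  obtain ⟨w, hw⟩ : ∃ w : Fin n → (Fin n → F),
      ∀ m, w m = Cfsg.Agent.Lib.Helper28.OTens.tau e P (X (e m).1) (Y (e m).2) := ⟨_, fun _ => rfl⟩
  obtain ⟨κ, hκdef⟩ : ∃ κ : F, κ = c * (δ₁ * δ₂) := ⟨_, rfl⟩
  have hκ : κ ≠ 0 := by rw [hκdef]; exact mul_ne_zero hc (mul_ne_zero hδ₁ hδ₂)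
  have hpol_same : ∀ m, QuadraticMap.polar (⇑Q) (w m) (w m) = κ := by
    intro m
    rw [hw, htf, hXX, hYY, hκdef]
  have hpol_ne : ∀ m m', m ≠ m' → QuadraticMap.polar (⇑Q) (w m) (w m') = 0 := by
    intro m m' hmm
    rw [hw, hw, htf]
    by_cases h1 : (e m).1 = (e m').1
    · have h2' : (e m).2 ≠ (e m').2 := by
        intro h2'
        exact hmm (e.injective (Prod.ext h1 h2'))
      rw [hYo _ _ h2', mul_zero, mul_zero]
    · rw [hXo _ _ h1, zero_mul, mul_zero]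
  have hw0 : ∀ m, w m ≠ 0 := by
    intro m h0
    have := hpol_same m
    rw [h0, ← hBp, map_zero] at this
    exact hκ this.symm
  have hli : LinearIndependent F w := by
    rw [linearIndependent_iff']
    intro s g hg m hm
    have h1 : B (∑ i ∈ s, g i • w i) (w m) = 0 := by rw [hg, map_zero, LinearMap.zero_apply]
    rw [map_sum, LinearMap.sum_apply] at h1
    simp only [map_smul, LinearMap.smul_apply, smul_eq_mul] at h1
    rw [Finset.sum_eq_single m] at h1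
    · rw [hBp, hpol_same] at h1
      exact (mul_eq_zero.mp h1).resolve_right hκ
    · intro i _ him
      rw [hBp, hpol_ne i m him, mul_zero]
    · intro h
      exact absurd hm h
  have hspan : Submodule.span F (Set.range w) = ⊤ := by
    apply hli.span_eq_top_of_card_eq_finrank'
    rw [Fintype.card_fin, Module.finrank_fin_fun]
  obtain ⟨D, hD⟩ : ∃ D : Fin n → Submodule F (Fin n → F), ∀ m, D m = Submodule.span F {w m} :=
    ⟨_, fun _ => rfl⟩
  have hDfun : D = fun m => Submodule.span F {w m} := funext hD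
  have hwmem : ∀ m, w m ∈ D m := fun m => by rw [hD]; exact Submodule.mem_span_singleton_self _
  have hrepr : ∀ m, ∀ x ∈ D m, ∃ a : F, x = a • w m := by
    intro m x hx
    rw [hD, Submodule.mem_span_singleton] at hx
    obtain ⟨a, ha⟩ := hx
    exact ⟨a, ha.symm⟩
  have hQw : ∀ m, Q (w m) = 2⁻¹ * κ := by
    intro m
    have h1 := QuadraticMap.polar_self Q (w m)
    rw [hpol_same] at h1
    rw [h1]
    simp only [nsmul_eq_mul, Nat.cast_ofNat]
    field_simp
  refine ⟨D, ⟨⟨⟨?_, Nat.one_pos, ?_, ?_, ?_⟩, ?_, ?_⟩, ?_⟩, ?_⟩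
  · omega
  · intro m
    rw [hD]
    exact finrank_span_singleton (hw0 m)
  · rw [hDfun]
    exact hli.iSupIndep_span_singleton
  · rw [hDfun, ← Submodule.span_range_eq_iSup]
    exact hspan
  · intro m x hx hx0
    obtain ⟨a, rfl⟩ := hrepr m x hx
    have ha : a ≠ 0 := by
      intro h; apply hx0; rw [h, zero_smul]
    refine ⟨⟨w m, hwmem m, ?_⟩, ⟨w m, hwmem m, ?_⟩⟩
    · rw [← hBp, map_smul, smul_eq_mul, hBp, hpol_same]
      exact mul_ne_zero ha hκ
    · rw [← hBp, map_smul, LinearMap.smul_apply, smul_eq_mul, hBp, hpol_same]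
      exact mul_ne_zero ha hκ
  · intro i j hij u hu v hv
    obtain ⟨a, rfl⟩ := hrepr i u hu
    obtain ⟨b, rfl⟩ := hrepr j v hv
    rw [← hBp, map_smul, map_smul, LinearMap.smul_apply, hBp, hpol_ne i j hij, smul_zero, smul_zero]
  · intro i j
    have hDi : D i = Submodule.span F {w i} := hD i
    have hDj : D j = Submodule.span F {w j} := hD j
    refine ⟨(LinearEquiv.ofEq _ _ hDi).trans
      (((LinearEquiv.toSpanNonzeroSingleton F (Fin n → F) (w i) (hw0 i)).symm.trans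
        (LinearEquiv.toSpanNonzeroSingleton F (Fin n → F) (w j) (hw0 j))).trans
        (LinearEquiv.ofEq _ _ hDj.symm)), fun x => ?_⟩
    obtain ⟨a, ha⟩ : ∃ a : F, a = (LinearEquiv.toSpanNonzeroSingleton F (Fin n → F) (w i) (hw0 i)).symm
        (LinearEquiv.ofEq _ _ hDi x) := ⟨_, rfl⟩
    have hx : (x : Fin n → F) = a • w i := by
      have := LinearEquiv.toSpanNonzeroSingleton_symm_apply_smul F (Fin n → F) (w i) (hw0 i)
        (LinearEquiv.ofEq _ _ hDi x)
      rw [← ha] at this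
      rw [this]
      rfl
    have hex : ((((LinearEquiv.ofEq _ _ hDi).trans
      (((LinearEquiv.toSpanNonzeroSingleton F (Fin n → F) (w i) (hw0 i)).symm.trans
        (LinearEquiv.toSpanNonzeroSingleton F (Fin n → F) (w j) (hw0 j))).trans
        (LinearEquiv.ofEq _ _ hDj.symm))) x : D j) : Fin n → F) = a • w j := by
      simp only [LinearEquiv.trans_apply, LinearEquiv.coe_ofEq_apply, ← ha,
        LinearEquiv.toSpanNonzeroSingleton_apply]
    rw [hex, hx, QuadraticMap.map_smul, QuadraticMap.map_smul, hQw, hQw]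
  · -- the stabiliser
    intro g hg
    obtain ⟨hgT, hgI⟩ := Subgroup.mem_inf.mp hg
    obtain ⟨a, b, hact⟩ := Cfsg.Agent.Lib.Helper28.OTens.tens_act e P g hgT
    have hiso : ∀ x y, QuadraticMap.polar (⇑Q) ((g : Matrix (Fin n) (Fin n) F) *ᵥ x)
        ((g : Matrix (Fin n) (Fin n) F) *ᵥ y) = QuadraticMap.polar (⇑Q) x y :=
      fun x y => asoadj_iso_polar Q g hgI x y
    obtain ⟨l, hl, hsim⟩ := Cfsg.Agent.Lib.Helper28.OTens.sim_of_iso e P hf₁.bilinear hf₂.bilinear hc hT'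
      ⟨X 0, X 0, by rw [hXX]; exact hδ₁⟩ ⟨Y 0, Y 0, by rw [hYY]; exact hδ₂⟩ g _ _ hact hiso
    have hl1 := Cfsg.Agent.Lib.Helper28.OTens.sim_one3 hq hf₁.bilinear hf₁.nondegenerate a l hl hsim
    rw [hl1] at hsim
    have ha : ∀ α α', f₁ ((a : Matrix (Fin 3) (Fin 3) F) *ᵥ α) ((a : Matrix (Fin 3) (Fin 3) F) *ᵥ α') =
        f₁ α α' := fun α α' => by rw [hsim, one_mul]
    have hb : ∀ v v', f₂ ((b : Matrix (Fin 3) (Fin 3) F) *ᵥ v) ((b : Matrix (Fin 3) (Fin 3) F) *ᵥ v') =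
        f₂ v v' := by
      intro v v'
      have h1 := hiso (Cfsg.Agent.Lib.Helper28.OTens.tau e P (X 0) v)
        (Cfsg.Agent.Lib.Helper28.OTens.tau e P (X 0) v')
      rw [hact, hact, htf, htf, ha, hXX] at h1
      exact mul_left_cancel₀ hδ₁ (mul_left_cancel₀ hc h1)
    obtain ⟨σ, s, hs, hσ⟩ := asoc33_perm hf₁.bilinear X δ₁ hδ₁ hXX hXo hXP _ ha
    obtain ⟨ρ, r, hr, hρ⟩ := asoc33_perm hf₂.bilinear Y δ₂ hδ₂ hYY hYo hYP _ hb
    refine ⟨(e.trans (Equiv.prodCongr σ ρ)).trans e.symm, fun m => ?_⟩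
    have hgw : (g : Matrix (Fin n) (Fin n) F) *ᵥ w m =
        (s (e m).1 * r (e m).2) • w (((e.trans (Equiv.prodCongr σ ρ)).trans e.symm) m) := by
      rw [hw m, hact, hσ, hρ, Cfsg.Agent.Lib.Helper28.OTens.tau_smul_left,
        Cfsg.Agent.Lib.Helper28.OTens.tau_smul_right, smul_smul, hw]
      simp
    rw [hD, hD, Submodule.map_span, Set.image_singleton, Matrix.toLin'_apply, hgw]
    exact Submodule.span_singleton_smul_eq (IsUnit.mk0 _ (mul_ne_zero (hs _) (hr _))) _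

end Cfsg.Agent.Lib.Helper25.ASO
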