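import Mathlib
import Cfsg.Prelude.Def_GeometricClasses
import Cfsg.Agent.Lib.Helper27.MatAlg2
import Cfsg.Agent.Lib.Helper25.ASGCCENT

set_option autoImplicit false
set_option linter.unusedVariables false
set_option linter.unusedSectionVars false

/-!
# Project ASO, piece CGRAM, part a (helper10): the matrix core, form-free and field-automorphism-free.

* `asocgram_factor` : an invertible matrix `G` on `Fin k × Fin d` such that conjugation by `G` maps `M_k ⊗ 1` into itself
  is a Kronecker product `A ⊗ B` (Skolem–Noether + the centraliser of `M_k ⊗ 1`).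
* `asocgram_symm` : a symmetric invertible `A ⊗ B` with `k` odd, `2 ≠ 0` has `A`, `B` symmetric.
* `asocgram_form` : the symmetric bilinear form of a symmetric invertible Gram matrix.
-/

namespace Cfsg.Agent.Lib.Helper25.ASO

open Cfsg Cfsg.Geo
open scoped MatrixGroups Matrix Kronecker

variable {F : Type*} [Field F]

/-- Skolem–Noether factorisation of a Gram-type matrix normalising `M_k ⊗ 1`. -/
theorem asocgram_factor {k d : ℕ} (hk : 0 < k) (hd : 0 < d)
    (G : Matrix (Fin k × Fin d) (Fin k × Fin d) F) (hG : IsUnit G.det)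
    (h : ∀ a : Matrix (Fin k) (Fin k) F, ∃ a' : Matrix (Fin k) (Fin k) F,
      (a ⊗ₖ (1 : Matrix (Fin d) (Fin d) F)) * G = G * (a' ⊗ₖ (1 : Matrix (Fin d) (Fin d) F))) :
    ∃ (A : Matrix (Fin k) (Fin k) F) (B : Matrix (Fin d) (Fin d) F), G = A ⊗ₖ B := by
  classical
  choose α hα using h
  have hGi : G⁻¹ * G = 1 := Matrix.nonsing_inv_mul G hG
  have hinj : ∀ x y : Matrix (Fin k) (Fin k) F,
      G * (x ⊗ₖ (1 : Matrix (Fin d) (Fin d) F)) = G * (y ⊗ₖ (1 : Matrix (Fin d) (Fin d) F)) → x = y := by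
    intro x y hxy
    apply Cfsg.Agent.Lib.Helper27.MatAlg.kron_one_injective hd
    have := congrArg (fun M => G⁻¹ * M) hxy
    simpa [← Matrix.mul_assoc, hGi] using this
  have hkm : ∀ x y : Matrix (Fin k) (Fin k) F,
      (x * y) ⊗ₖ (1 : Matrix (Fin d) (Fin d) F) = (x ⊗ₖ 1) * (y ⊗ₖ 1) := by
    intro x y
    rw [← Matrix.mul_kronecker_mul, Matrix.mul_one]
  have hone : α 1 = 1 := by
    apply hinj
    rw [← hα 1, Matrix.one_kronecker_one, Matrix.one_mul, Matrix.mul_one]
  have hmul : ∀ a b, α (a * b) = α a * α b := by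
    intro a b
    apply hinj
    rw [← hα (a * b), hkm, hkm, Matrix.mul_assoc, hα b, ← Matrix.mul_assoc, hα a, Matrix.mul_assoc]
  have hadd : ∀ a b, α (a + b) = α a + α b := by
    intro a b
    apply hinj
    rw [← hα (a + b), Matrix.add_kronecker, Matrix.add_kronecker, Matrix.add_mul, Matrix.mul_add, hα a, hα b]
  have hsmul : ∀ (c : F) a, α (c • a) = c • α a := by
    intro c a
    apply hinj
    rw [← hα (c • a), Matrix.smul_kronecker, Matrix.smul_kronecker, Matrix.smul_mul, Matrix.mul_smul, hα a]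
  let αA : Matrix (Fin k) (Fin k) F →ₐ[F] Matrix (Fin k) (Fin k) F :=
    { toFun := α
      map_one' := hone
      map_mul' := hmul
      map_zero' := by
        have := hsmul 0 0
        simpa using this
      map_add' := hadd
      commutes' := fun c => by
        rw [Algebra.algebraMap_eq_smul_one]
        show α (c • 1) = c • 1
        rw [hsmul, hone] }
  obtain ⟨c, hc⟩ := Cfsg.Agent.Lib.Helper27.MatAlg.matalg_aut_inner αA
  have hc' : ∀ a, α a = (c : Matrix (Fin k) (Fin k) F) * a * ((c⁻¹ : GL (Fin k) F) : Matrix (Fin k) (Fin k) F) :=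
    fun a => hc a
  set cm : Matrix (Fin k) (Fin k) F := (c : Matrix (Fin k) (Fin k) F) with hcm
  set ci : Matrix (Fin k) (Fin k) F := ((c⁻¹ : GL (Fin k) F) : Matrix (Fin k) (Fin k) F) with hci
  have hmi : cm * ci = 1 := by rw [hcm, hci, ← Units.val_mul, mul_inv_cancel]; rfl
  have him : ci * cm = 1 := by rw [hcm, hci, ← Units.val_mul, inv_mul_cancel]; rfl
  have hX : ∀ a : Matrix (Fin k) (Fin k) F,
      (G * (cm ⊗ₖ (1 : Matrix (Fin d) (Fin d) F))) * (a ⊗ₖ (1 : Matrix (Fin d) (Fin d) F)) =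
        (a ⊗ₖ (1 : Matrix (Fin d) (Fin d) F)) * (G * (cm ⊗ₖ (1 : Matrix (Fin d) (Fin d) F))) := by
    intro a
    rw [← Matrix.mul_assoc, hα a, Matrix.mul_assoc, Matrix.mul_assoc, ← hkm, ← hkm, hc' a,
      Matrix.mul_assoc (cm * a), him, Matrix.mul_one]
  obtain ⟨b, hb⟩ := Cfsg.Agent.Lib.Helper19.ASG.cent_kronecker hk _ hX
  refine ⟨ci, b, ?_⟩
  have h1 : G = (G * (cm ⊗ₖ (1 : Matrix (Fin d) (Fin d) F))) * (ci ⊗ₖ (1 : Matrix (Fin d) (Fin d) F)) := by
    rw [Matrix.mul_assoc, ← hkm, hmi, Matrix.one_kronecker_one, Matrix.mul_one]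
  rw [h1, hb, ← Matrix.mul_kronecker_mul, Matrix.one_mul, Matrix.mul_one]

/-- a symmetric invertible Kronecker product with an odd-sized first factor has symmetric factors (`2 ≠ 0`) -/
theorem asocgram_symm {k d : ℕ} (hk : Odd k) (hd : 0 < d) (h2 : (2 : F) ≠ 0)
    (A : Matrix (Fin k) (Fin k) F) (B : Matrix (Fin d) (Fin d) F)
    (hdet : (A ⊗ₖ B).det ≠ 0) (hsymm : (A ⊗ₖ B)ᵀ = A ⊗ₖ B) :
    Aᵀ = A ∧ Bᵀ = B ∧ A.det ≠ 0 ∧ B.det ≠ 0 := by
  classical
  have hk0 : 0 < k := hk.pos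
  rw [Matrix.det_kronecker, Fintype.card_fin, Fintype.card_fin] at hdet
  have hAdet : A.det ≠ 0 := fun h => hdet (by rw [h, zero_pow hd.ne', zero_mul])
  have hBdet : B.det ≠ 0 := fun h => hdet (by rw [h, zero_pow hk0.ne', mul_zero])
  have hent : ∀ i j x y, A j i * B y x = A i j * B x y := by
    intro i j x y
    have := congrFun (congrFun hsymm (i, x)) (j, y)
    simpa [Matrix.transpose_apply, Matrix.kroneckerMap_apply] using this
  have hA0 : ∃ i j, A i j ≠ 0 := by
    by_contra hcon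
    push Not at hcon
    apply hAdet
    have hA0 : A = 0 := by ext i j; exact hcon i j
    have hne : Nonempty (Fin k) := ⟨⟨0, hk0⟩⟩
    rw [hA0, Matrix.det_zero]
  have hB0 : ∃ x y, B x y ≠ 0 := by
    by_contra hcon
    push Not at hcon
    apply hBdet
    have hB0 : B = 0 := by ext i j; exact hcon i j
    have hne : Nonempty (Fin d) := ⟨⟨0, hd⟩⟩
    rw [hB0, Matrix.det_zero]
  obtain ⟨x₀, y₀, hxy⟩ := hB0
  obtain ⟨i₀, j₀, hij⟩ := hA0
  set lam : F := B y₀ x₀ / B x₀ y₀ with hlam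
  have hAl : ∀ i j, A i j = lam * A j i := by
    intro i j
    have := hent i j x₀ y₀
    rw [hlam]
    field_simp
    linear_combination -this
  have hl2 : lam * lam = 1 := by
    have h1 := hAl i₀ j₀
    rw [hAl j₀ i₀] at h1
    have : (lam * lam - 1) * A i₀ j₀ = 0 := by linear_combination -h1
    rcases mul_eq_zero.mp this with h | h
    · exact sub_eq_zero.mp h
    · exact absurd h hij
  have hl1 : lam = 1 := by
    have : (lam - 1) * (lam + 1) = 0 := by linear_combination hl2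
    rcases mul_eq_zero.mp this with h | h
    · exact sub_eq_zero.mp h
    · exfalso
      have hlm : lam = -1 := eq_neg_of_add_eq_zero_left h
      have hAT : Aᵀ = -A := by
        ext i j
        rw [Matrix.transpose_apply, Matrix.neg_apply, hAl i j, hlm]
        ring
      have hd1 := congrArg Matrix.det hAT
      rw [Matrix.det_transpose, Matrix.det_neg, Fintype.card_fin, hk.neg_one_pow] at hd1
      apply hAdet
      have : (2 : F) * A.det = 0 := by linear_combination hd1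
      rcases mul_eq_zero.mp this with h | h
      · exact absurd h h2
      · exact h
  have hAs : ∀ i j, A i j = A j i := by
    intro i j
    rw [hAl i j, hl1, one_mul]
  refine ⟨?_, ?_, hAdet, hBdet⟩
  · ext i j
    rw [Matrix.transpose_apply]
    exact hAs j i
  · ext x y
    rw [Matrix.transpose_apply]
    have := hent i₀ j₀ y x
    rw [← hAs i₀ j₀] at this
    exact (mul_left_cancel₀ hij this).symm

/-- the symmetric bilinear form with a given symmetric invertible Gram matrix -/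
theorem asocgram_form {k : ℕ} (A : Matrix (Fin k) (Fin k) F) (hA : Aᵀ = A) (hdet : A.det ≠ 0) :
    IsSymmetricForm (fun u v : Fin k → F => u ⬝ᵥ A *ᵥ v) ∧
      gramMatrix (fun u v : Fin k → F => u ⬝ᵥ A *ᵥ v) = A := by
  classical
  have hsymm : ∀ u v : Fin k → F, u ⬝ᵥ A *ᵥ v = v ⬝ᵥ A *ᵥ u := by
    intro u v
    rw [Matrix.dotProduct_mulVec, ← Matrix.mulVec_transpose, hA, dotProduct_comm]
  have hnd : ∀ v : Fin k → F, v ≠ 0 → ∃ x : Fin k → F, x ⬝ᵥ A *ᵥ v ≠ 0 := by
    intro v hv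
    have hAv : A *ᵥ v ≠ 0 := by
      intro h0
      exact hv (Matrix.eq_zero_of_mulVec_eq_zero hdet h0)
    obtain ⟨i, hi⟩ : ∃ i, (A *ᵥ v) i ≠ 0 := by
      by_contra hcon
      push Not at hcon
      exact hAv (funext hcon)
    refine ⟨Pi.single i 1, ?_⟩
    rw [single_dotProduct, one_mul]
    exact hi
  refine ⟨⟨⟨?_, ?_, ?_, ?_⟩, hsymm, ?_⟩, ?_⟩
  · intro x y v
    exact add_dotProduct x y _
  · intro c x v
    show (c • x) ⬝ᵥ A *ᵥ v = c * (x ⬝ᵥ A *ᵥ v)
    rw [smul_dotProduct, smul_eq_mul]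
  · intro v x y
    show v ⬝ᵥ A *ᵥ (x + y) = v ⬝ᵥ A *ᵥ x + v ⬝ᵥ A *ᵥ y
    rw [Matrix.mulVec_add, dotProduct_add]
  · intro c v x
    show v ⬝ᵥ A *ᵥ (c • x) = c * (v ⬝ᵥ A *ᵥ x)
    rw [Matrix.mulVec_smul, dotProduct_smul, smul_eq_mul]
  · intro v hv
    obtain ⟨x, hx⟩ := hnd v hv
    exact ⟨⟨x, hx⟩, ⟨x, by show v ⬝ᵥ A *ᵥ x ≠ 0; rw [hsymm]; exact hx⟩⟩
  · ext a b
    show (Pi.single a 1 : Fin k → F) ⬝ᵥ A *ᵥ (Pi.single b 1) = A a b
    rw [single_dotProduct, one_mul, Matrix.mulVec_single_one]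
    rfl

end Cfsg.Agent.Lib.Helper25.ASO
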