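import Mathlib
import Cfsg.Prelude.Def_GeometricClasses
import Cfsg.Agent.Lib.Helper27.ASC.Defs
import Cfsg.Agent.Lib.helper23.ASCO.Defs
import Cfsg.Agent.Lib.Helper19.ASG.Defs
import Cfsg.Agent.Lib.Helper1.ASGCLIF3
import Cfsg.Agent.Lib.Lead.Reindex
import Cfsg.Agent.Lib.Helper25.ASO.Defs
import Cfsg.Agent.Lib.Helper25.ASOADJ
import Cfsg.Agent.Lib.Helper10.ASOCGRAMa

set_option autoImplicit false
set_option linter.unusedVariables false
set_option linter.unusedSectionVars false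

/-!
# Project ASO, piece CGRAM (helper10): the Gram matrix of a form whose adjoint preserves a standard copy of `M_k ⊗ 1`
is a Kronecker product of symmetric matrices (verbatim).
-/

namespace Cfsg.Agent.Lib.Helper25.ASO

open Cfsg Cfsg.Geo Cfsg.Agent.Lib.Helper27.ASC Cfsg.Agent.Lib.helper23.ASCO Cfsg.Agent.Lib.Helper19.ASG
open scoped MatrixGroups Matrix Kronecker

variable {n : ℕ} {F : Type*} [Field F] [Fintype F]

omit [Fintype F] in
/-- transport of a bilinear Gram matrix -/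
theorem asocgram_transport (A s : Matrix (Fin n) (Fin n) F) (u v : Fin n → F) :
    (s *ᵥ u) ⬝ᵥ (A *ᵥ (s *ᵥ v)) = u ⬝ᵥ ((sᵀ * A * s) *ᵥ v) := by
  rw [← Matrix.mulVec_mulVec, ← Matrix.mulVec_mulVec, Matrix.dotProduct_mulVec u,
    Matrix.vecMul_transpose]

omit [Fintype F] in
/-- the bilinear form of a matrix in reindexed coordinates is `formOfGram` of the reindexed matrix -/
theorem asocgram_reindex {κ : Type} [Fintype κ] [DecidableEq κ] (e : Fin n ≃ κ) (S : Matrix (Fin n) (Fin n) F)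
    (x y : κ → F) :
    (x ∘ e) ⬝ᵥ (S *ᵥ (y ∘ e)) = formOfGram id (S.submatrix e.symm e.symm) x y := by
  unfold formOfGram dotProduct Matrix.mulVec dotProduct
  rw [← Equiv.sum_comp e.symm]
  refine Finset.sum_congr rfl fun a _ => ?_
  rw [Finset.mul_sum, ← Equiv.sum_comp e.symm]
  refine Finset.sum_congr rfl fun b _ => ?_
  simp only [Function.comp, Equiv.apply_symm_apply, Matrix.submatrix_apply, id]
  ring

/-- CGRAM : the Gram matrix of a form whose adjoint preserves a standard copy `P (M_k ⊗ 1) P⁻¹` is a Kronecker product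
of symmetric matrices. -/
theorem otensor_gram (hodd : Odd n) (h2 : (2 : F) ≠ 0) (Q : QuadraticForm F (Fin n → F))
    (hQ : (QuadraticMap.polarBilin Q).Nondegenerate) {k d : ℕ} (e : Fin n ≃ Fin k × Fin d) (P : GL (Fin n) F)
    (hstar : ∀ a : Matrix (Fin k) (Fin k) F, ∃ a' : Matrix (Fin k) (Fin k) F,
      oadj (⇑Q) ((P : Matrix (Fin n) (Fin n) F) *
          Matrix.reindexAlgEquiv F F e.symm (a ⊗ₖ (1 : Matrix (Fin d) (Fin d) F)) *
          ((P⁻¹ : GL (Fin n) F) : Matrix (Fin n) (Fin n) F)) =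
        (P : Matrix (Fin n) (Fin n) F) *
          Matrix.reindexAlgEquiv F F e.symm (a' ⊗ₖ (1 : Matrix (Fin d) (Fin d) F)) *
          ((P⁻¹ : GL (Fin n) F) : Matrix (Fin n) (Fin n) F)) :
    ∃ (f₁ : (Fin k → F) → (Fin k → F) → F) (f₂ : (Fin d → F) → (Fin d → F) → F),
      IsSymmetricForm f₁ ∧ IsSymmetricForm f₂ ∧
      IsTensorFormStructure id (QuadraticMap.polar (⇑Q)) f₁ f₂ e P := by
  classical
  -- dimensions
  have hcard : n = k * d := by
    have := Fintype.card_congr e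
    rwa [Fintype.card_fin, Fintype.card_prod, Fintype.card_fin, Fintype.card_fin] at this
  have hkodd : Odd k := by
    rw [hcard] at hodd
    exact (Nat.odd_mul.mp hodd).1
  have hdodd : Odd d := by
    rw [hcard] at hodd
    exact (Nat.odd_mul.mp hodd).2
  have hk : 0 < k := hkodd.pos
  have hd : 0 < d := hdodd.pos
  -- notation
  set G : Matrix (Fin n) (Fin n) F := gramMatrix (QuadraticMap.polar (⇑Q)) with hGdef
  have hGs : Gᵀ = G := asoadj_gram_symm Q
  have hGu : IsUnit G.det := asoadj_gram_det Q hQ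
  set Pm : Matrix (Fin n) (Fin n) F := (P : Matrix (Fin n) (Fin n) F) with hPm
  set Pi' : Matrix (Fin n) (Fin n) F := ((P⁻¹ : GL (Fin n) F) : Matrix (Fin n) (Fin n) F) with hPi
  have hmi : Pm * Pi' = 1 := by rw [hPm, hPi, ← Units.val_mul, mul_inv_cancel]; rfl
  have him : Pi' * Pm = 1 := by rw [hPm, hPi, ← Units.val_mul, inv_mul_cancel]; rfl
  have himT : Pmᵀ * Pi'ᵀ = 1 := by rw [← Matrix.transpose_mul, him, Matrix.transpose_one]
  obtain ⟨S, hS⟩ : ∃ S : Matrix (Fin n) (Fin n) F, S = Pmᵀ * G * Pm := ⟨_, rfl⟩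
  have hSs : Sᵀ = S := by
    rw [hS, Matrix.transpose_mul, Matrix.transpose_mul, Matrix.transpose_transpose, hGs, Matrix.mul_assoc]
  have hPdet : IsUnit Pm.det := (Matrix.isUnit_iff_isUnit_det _).mp (Units.isUnit P)
  have hSu : IsUnit S.det := by
    rw [hS, Matrix.det_mul, Matrix.det_mul, Matrix.det_transpose]
    exact (hPdet.mul hGu).mul hPdet
  -- the relation in `Fin n` coordinates
  have hrel : ∀ a : Matrix (Fin k) (Fin k) F, ∃ a' : Matrix (Fin k) (Fin k) F,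
      ((a ⊗ₖ (1 : Matrix (Fin d) (Fin d) F)).submatrix e e)ᵀ * S =
        S * ((a' ⊗ₖ (1 : Matrix (Fin d) (Fin d) F)).submatrix e e) := by
    intro a
    obtain ⟨a', ha'⟩ := hstar a
    refine ⟨a', ?_⟩
    have hR : ∀ X : Matrix (Fin k × Fin d) (Fin k × Fin d) F,
        Matrix.reindexAlgEquiv F F e.symm X = X.submatrix e e := by
      intro X
      rfl
    rw [hR, hR] at ha'
    have h1 : (Pm * (a ⊗ₖ (1 : Matrix (Fin d) (Fin d) F)).submatrix e e * Pi')ᵀ * G =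
        G * (Pm * (a' ⊗ₖ (1 : Matrix (Fin d) (Fin d) F)).submatrix e e * Pi') := by
      rw [← ha', hGdef, asoadj_gram_mul Q hQ]
    -- `(Pm R Pi')ᵀ G = G Pm R' Pi'`
    have h3 : Pmᵀ * ((Pm * (a ⊗ₖ (1 : Matrix (Fin d) (Fin d) F)).submatrix e e * Pi')ᵀ * G) * Pm =
        Pmᵀ * (G * (Pm * (a' ⊗ₖ (1 : Matrix (Fin d) (Fin d) F)).submatrix e e * Pi')) * Pm := by
      rw [h1]
    rw [Matrix.transpose_mul, Matrix.transpose_mul] at h3
    have e1 : Pmᵀ * (Pi'ᵀ * (((a ⊗ₖ (1 : Matrix (Fin d) (Fin d) F)).submatrix e e)ᵀ * Pmᵀ) * G) * Pm =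
        ((a ⊗ₖ (1 : Matrix (Fin d) (Fin d) F)).submatrix e e)ᵀ * S := by
      rw [hS]
      simp only [← Matrix.mul_assoc]
      rw [himT, Matrix.one_mul]
    have e2 : Pmᵀ * (G * (Pm * (a' ⊗ₖ (1 : Matrix (Fin d) (Fin d) F)).submatrix e e * Pi')) * Pm =
        S * ((a' ⊗ₖ (1 : Matrix (Fin d) (Fin d) F)).submatrix e e) := by
      rw [hS]
      simp only [Matrix.mul_assoc]
      rw [him, Matrix.mul_one]
    rw [e1, e2] at h3
    exact h3
  -- in `Fin k × Fin d` coordinates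
  obtain ⟨G', hG'⟩ : ∃ G' : Matrix (Fin k × Fin d) (Fin k × Fin d) F, G' = S.submatrix e.symm e.symm := ⟨_, rfl⟩
  have hG's : G'ᵀ = G' := by
    rw [hG', Matrix.transpose_submatrix, hSs]
  have hG'u : IsUnit G'.det := by
    rw [hG', Matrix.det_submatrix_equiv_self]
    exact hSu
  have hrel' : ∀ a : Matrix (Fin k) (Fin k) F, ∃ a' : Matrix (Fin k) (Fin k) F,
      (a ⊗ₖ (1 : Matrix (Fin d) (Fin d) F)) * G' = G' * (a' ⊗ₖ (1 : Matrix (Fin d) (Fin d) F)) := by
    intro a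
    obtain ⟨a', ha'⟩ := hrel aᵀ
    refine ⟨a', ?_⟩
    have h1 : (((aᵀ ⊗ₖ (1 : Matrix (Fin d) (Fin d) F)).submatrix e e)ᵀ * S).submatrix e.symm e.symm =
        (S * ((a' ⊗ₖ (1 : Matrix (Fin d) (Fin d) F)).submatrix e e)).submatrix e.symm e.symm := by
      rw [ha']
    rw [← Matrix.submatrix_mul_equiv _ S e.symm e.symm e.symm,
      ← Matrix.submatrix_mul_equiv S _ e.symm e.symm e.symm, ← hG'] at h1
    have e1 : (((aᵀ ⊗ₖ (1 : Matrix (Fin d) (Fin d) F)).submatrix e e)ᵀ).submatrix e.symm e.symm =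
        a ⊗ₖ (1 : Matrix (Fin d) (Fin d) F) := by
      ext ⟨i, x⟩ ⟨j, y⟩
      simp [Matrix.kroneckerMap_apply, Matrix.one_apply, eq_comm]
    have e2 : ((a' ⊗ₖ (1 : Matrix (Fin d) (Fin d) F)).submatrix e e).submatrix e.symm e.symm =
        a' ⊗ₖ (1 : Matrix (Fin d) (Fin d) F) := by
      ext p q
      simp
    rw [e1, e2] at h1
    exact h1
  obtain ⟨A, B, hAB⟩ := asocgram_factor hk hd G' hG'u hrel'
  have hdetAB : (A ⊗ₖ B).det ≠ 0 := by rw [← hAB]; exact hG'u.ne_zero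
  have hsymAB : (A ⊗ₖ B)ᵀ = A ⊗ₖ B := by rw [← hAB]; exact hG's
  obtain ⟨hAs, hBs, hAd, hBd⟩ := asocgram_symm hkodd hd h2 A B hdetAB hsymAB
  obtain ⟨hf₁, hg₁⟩ := asocgram_form A hAs hAd
  obtain ⟨hf₂, hg₂⟩ := asocgram_form B hBs hBd
  refine ⟨_, _, hf₁, hf₂, 1, one_ne_zero, fun x y => ?_⟩
  rw [hg₁, hg₂, one_mul, ← hAB, asoadj_polar_eq, asocgram_transport, ← hGdef, ← hS, asocgram_reindex, hG']

end Cfsg.Agent.Lib.Helper25.ASO
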