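import Mathlib
import Cfsg.Prelude.Def_GeometricClasses
import Cfsg.Agent.Lib.Helper27.ASC.Defs
import Cfsg.Agent.Lib.helper23.ASCO.Defs
import Cfsg.Agent.Lib.Helper19.ASG.Defs
import Cfsg.Agent.Lib.Helper1.ASGCLIF3
import Cfsg.Agent.Lib.Lead.Reindex
import Cfsg.Agent.Lib.Helper25.ASO.Defs
import Cfsg.Agent.Lib.Helper25.ASOADJ
import Cfsg.Agent.Lib.Helper28.Ld.Trans

set_option autoImplicit false
set_option linter.unusedVariables false
set_option linter.unusedSectionVars false

/-!
# Project ASO, piece DEC1 (core, helper10): in odd dimension the idempotents of an idempotent system are self-adjoint.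
The STAR statement `star_mem_Z` is a hypothesis here; `Helper10.ASODEC1` is the verbatim wrapper.
-/

namespace Cfsg.Agent.Lib.Helper25.ASO

open Cfsg Cfsg.Geo Cfsg.Agent.Lib.Helper27.ASC Cfsg.Agent.Lib.helper23.ASCO Cfsg.Agent.Lib.Helper19.ASG
open scoped MatrixGroups Matrix Kronecker

variable {n : ℕ} {F : Type*} [Field F] [Fintype F]

/-- a fixed-point-free involution of `Fin t` exists only for even `t` -/
theorem asodec1_even {t : ℕ} (τ : Fin t → Fin t) (hinv : ∀ i, τ (τ i) = i) (hfp : ∀ i, τ i ≠ i) : Even t := by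
  classical
  have h1 : (Finset.univ : Finset (Fin t)) =
      (Finset.univ.filter fun i => i < τ i) ∪ (Finset.univ.filter fun i => τ i < i) := by
    ext i
    simp only [Finset.mem_univ, Finset.mem_union, Finset.mem_filter, true_and, true_iff]
    exact lt_or_gt_of_ne (hfp i).symm
  have h2 : Disjoint (Finset.univ.filter fun i => i < τ i) (Finset.univ.filter fun i => τ i < i) := by
    rw [Finset.disjoint_filter]
    intro i _ h1 h2
    exact lt_asymm h1 h2
  have h3 : (Finset.univ.filter fun i => i < τ i).card = (Finset.univ.filter fun i => τ i < i).card := by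
    apply Finset.card_bij (fun i _ => τ i)
    · intro i hi
      simp only [Finset.mem_filter, Finset.mem_univ, true_and] at hi ⊢
      rw [hinv]
      exact hi
    · intro i _ j _ hij
      have := congrArg τ hij
      rwa [hinv, hinv] at this
    · intro j hj
      simp only [Finset.mem_filter, Finset.mem_univ, true_and] at hj
      refine ⟨τ j, ?_, hinv j⟩
      simp only [Finset.mem_filter, Finset.mem_univ, true_and]
      rw [hinv]
      exact hj
  have h4 := congrArg Finset.card h1
  rw [Finset.card_univ, Fintype.card_fin, Finset.card_union_of_disjoint h2, h3] at h4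
  exact ⟨_, h4⟩

/-- the ranges of an idempotent system form a decomposition into subspaces of equal dimension -/
theorem asodec1_mdec {H N : Subgroup (GL (Fin n) F)} {t : ℕ} (E : Fin t → Matrix (Fin n) (Fin n) F)
    (hE : IsIdemSystem H N E) :
    ∃ k : ℕ, IsMDecomposition k (fun i => LinearMap.range (Matrix.toLin' (E i))) := by
  classical
  have ht : 0 < t := by have := hE.two_le; omega
  let i0 : Fin t := ⟨0, ht⟩
  refine ⟨Module.finrank F (LinearMap.range (Matrix.toLin' (E i0))), hE.two_le, ?_, ?_, ?_, ?_⟩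
  · rw [Nat.pos_iff_ne_zero, Ne, Submodule.finrank_eq_zero]
    intro hb
    apply hE.ne_zero i0
    apply Matrix.toLin'.injective
    rw [map_zero]
    exact LinearMap.range_eq_bot.mp hb
  · intro i
    obtain ⟨k, hk, hki⟩ := hE.trans i0 i
    change Module.finrank F (LinearMap.range (Matrix.toLin' (E i))) = _
    rw [← hki, ← asgclif_range_conj]
    have hinj : Function.Injective (Matrix.toLin' (k : Matrix (Fin n) (Fin n) F)) := by
      intro v w hvw
      have e2 : ((k⁻¹ : GL (Fin n) F) : Matrix (Fin n) (Fin n) F) * (k : Matrix (Fin n) (Fin n) F) = 1 := by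
        rw [← Units.val_mul, inv_mul_cancel, Units.val_one]
      rw [Matrix.toLin'_apply, Matrix.toLin'_apply] at hvw
      have := congrArg (fun x => ((k⁻¹ : GL (Fin n) F) : Matrix (Fin n) (Fin n) F) *ᵥ x) hvw
      simpa [Matrix.mulVec_mulVec, e2] using this
    exact (LinearEquiv.finrank_eq (Submodule.equivMapOfInjective _ hinj _)).symm
  · exact asgclif_indep E hE.idem hE.orth
  · rw [eq_top_iff]
    intro v _
    have hv : v = ∑ i, E i *ᵥ v := by
      rw [← Matrix.sum_mulVec, hE.sum, Matrix.one_mulVec]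
    rw [hv]
    refine Submodule.sum_mem _ fun i _ => ?_
    have : E i *ᵥ v ∈ LinearMap.range (Matrix.toLin' (E i)) := ⟨v, by rw [Matrix.toLin'_apply]⟩
    exact (le_iSup (fun i => LinearMap.range (Matrix.toLin' (E i))) i) this

/-- DEC1 (core) : `star_mem_Z` as a hypothesis. -/
theorem asodec1_core (hodd : Odd n) (Q : QuadraticForm F (Fin n → F))
    (hQ : (QuadraticMap.polarBilin Q).Nondegenerate) {H N : Subgroup (GL (Fin n) F)}
    (hHO : H ≤ isometryGroup F (⇑Q)) {t : ℕ} (E : Fin t → Matrix (Fin n) (Fin n) F)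
    (hE : IsIdemSystem H N E) (hstar : ∀ z ∈ asgZ N, oadj (⇑Q) z ∈ asgZ N) :
    ∀ i, oadj (⇑Q) (E i) = E i := by
  classical
  have s0 : oadj (⇑Q) (0 : Matrix (Fin n) (Fin n) F) = 0 := by
    have := oadj_smul Q (0 : F) (0 : Matrix (Fin n) (Fin n) F)
    rwa [zero_smul, zero_smul] at this
  -- the adjoint of an idempotent of the system is a non-zero idempotent of the centre
  have hsid : ∀ i, oadj (⇑Q) (E i) * oadj (⇑Q) (E i) = oadj (⇑Q) (E i) := by
    intro i
    rw [← oadj_mul Q hQ, hE.idem]
  have hsne : ∀ i, oadj (⇑Q) (E i) ≠ 0 := by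
    intro i h0
    apply hE.ne_zero i
    rw [← oadj_oadj Q hQ (E i), h0, s0]
  -- the adjoint permutes the idempotents
  have hperm : ∀ i, ∃ j, oadj (⇑Q) (E i) = E j := by
    intro i
    have hex : ∃ j, oadj (⇑Q) (E i) * E j ≠ 0 := by
      by_contra hcon
      push Not at hcon
      apply hsne i
      calc oadj (⇑Q) (E i) = oadj (⇑Q) (E i) * ∑ j, E j := by rw [hE.sum, Matrix.mul_one]
        _ = ∑ j, oadj (⇑Q) (E i) * E j := by rw [Finset.mul_sum]
        _ = 0 := Finset.sum_eq_zero fun j _ => hcon j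
    obtain ⟨j, hj⟩ := hex
    refine ⟨j, ?_⟩
    have h1 : oadj (⇑Q) (E i) * E j = E j := by
      rcases hE.atom _ (hstar _ (hE.mem i)) (hsid i) j with h | h
      · exact absurd h hj
      · exact h
    have h2 : oadj (⇑Q) (E j) * E i = oadj (⇑Q) (E j) := by
      have := congrArg (oadj (⇑Q)) h1
      rwa [oadj_mul Q hQ, oadj_oadj Q hQ] at this
    have h3 : oadj (⇑Q) (E j) * E i = E i := by
      rcases hE.atom _ (hstar _ (hE.mem j)) (hsid j) i with h | h
      · rw [h2] at h
        exact absurd h (hsne j)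
      · exact h
    have h4 : oadj (⇑Q) (E j) = E i := h2.symm.trans h3
    rw [← h4, oadj_oadj Q hQ]
  choose τ hτ using hperm
  have hττ : ∀ i, τ (τ i) = i := by
    intro i
    apply hE.inj
    rw [← hτ, ← hτ, oadj_oadj Q hQ]
  -- the adjoint commutes with conjugation by isometries
  have hconj : ∀ h ∈ H, ∀ X : Matrix (Fin n) (Fin n) F,
      oadj (⇑Q) (asgConj h X) = asgConj h (oadj (⇑Q) X) := by
    intro h hh X
    unfold asgConj
    have e1 := oadj_of_iso Q hQ h (hHO hh)
    have e2 := oadj_of_iso Q hQ h⁻¹ (hHO (H.inv_mem hh))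
    rw [inv_inv] at e2
    rw [oadj_mul Q hQ, oadj_mul Q hQ, e1, e2, Matrix.mul_assoc]
  by_cases hfix : ∃ i0, τ i0 = i0
  · obtain ⟨i0, hi0⟩ := hfix
    intro j
    obtain ⟨h, hh, hj⟩ := hE.trans i0 j
    rw [← hj, hconj h hh, hτ, hi0]
  · exfalso
    push Not at hfix
    have heven : Even t := asodec1_even τ hττ hfix
    obtain ⟨k, hk⟩ := asodec1_mdec E hE
    have hn := Cfsg.Agent.Lib.Helper28.Ld.card_eq _ hk
    have : Even n := by
      rw [← hn]
      exact heven.mul_right k
    exact (Nat.not_even_iff_odd.mpr hodd) this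

end Cfsg.Agent.Lib.Helper25.ASO
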