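import Mathlib
import Cfsg.Prelude.Def_GeometricClasses
import Cfsg.Agent.Lib.Helper27.ASC.Defs
import Cfsg.Agent.Lib.helper23.ASCO.Defs
import Cfsg.Agent.Lib.Helper19.ASG.Defs
import Cfsg.Agent.Lib.Helper1.ASGCLIF3
import Cfsg.Agent.Lib.Lead.Reindex
import Cfsg.Agent.Lib.Helper25.ASO.Defs
import Cfsg.Agent.Lib.Helper20.ASOSTAR
import Cfsg.Agent.Lib.Helper10.ASODEC1core

set_option autoImplicit false
set_option linter.unusedVariables false
set_option linter.unusedSectionVars false

/-!
# Project ASO, piece DEC1 (helper10): in odd dimension the idempotents of an idempotent system are self-adjoint (verbatim).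
-/

namespace Cfsg.Agent.Lib.Helper25.ASO

open Cfsg Cfsg.Geo Cfsg.Agent.Lib.Helper27.ASC Cfsg.Agent.Lib.helper23.ASCO Cfsg.Agent.Lib.Helper19.ASG
open scoped MatrixGroups Matrix Kronecker

variable {n : ℕ} {F : Type*} [Field F] [Fintype F]

/-- DEC1 : in odd dimension the idempotents of the system are self-adjoint. -/
theorem idem_selfadj (hodd : Odd n) (h2 : (2 : F) ≠ 0) (Q : QuadraticForm F (Fin n → F))
    (hQ : (QuadraticMap.polarBilin Q).Nondegenerate) {H N : Subgroup (GL (Fin n) F)}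
    (hHO : H ≤ isometryGroup F (⇑Q)) (hN : NormalIn N H) {t : ℕ} (E : Fin t → Matrix (Fin n) (Fin n) F)
    (hE : IsIdemSystem H N E) : ∀ i, oadj (⇑Q) (E i) = E i :=
  asodec1_core hodd Q hQ hHO E hE (fun z hz => star_mem_Z Q hQ (hN.1.trans hHO) z hz)

end Cfsg.Agent.Lib.Helper25.ASO
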