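import Mathlib
import Cfsg.Prelude.Def_GeometricClasses
import Cfsg.Agent.Lib.Helper27.ASC.Defs
import Cfsg.Agent.Lib.Helper19.ASG.Defs
import Cfsg.Agent.Lib.Helper18.ASP.Defs
import Cfsg.Agent.Lib.Lead.ASCU.Defs
import Cfsg.Agent.Lib.Helper29.ASCGRAM
import Cfsg.Agent.Lib.Helper20.ASCOSCHURF

set_option autoImplicit false
set_option linter.unusedVariables false
set_option linter.unusedSectionVars false

/-!
# Project ASP, block D2S, piece UNIQ (helper10)

Invariant bilinear forms of an absolutely irreducible group fixing a symplectic form `f` are multiples of `f`.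
-/

namespace Cfsg.Agent.Lib.Helper18.ASP

open Cfsg Cfsg.Geo Cfsg.Agent.Lib.Helper27.ASC Cfsg.Agent.Lib.Helper19.ASG Cfsg.Agent.Lib.Lead.ASCU
open scoped MatrixGroups Matrix

variable {n : ℕ} {F : Type*} [Field F]

/-- a bilinear form is given by its Gram matrix -/
theorem aspd2suniq_gram (b : (Fin n → F) → (Fin n → F) → F) (hb : IsBilinearForm b) (u v : Fin n → F) :
    b u v = u ⬝ᵥ (ascformGram b *ᵥ v) := by
  have := ascform_gram (RingHom.id F) b hb.add_left hb.smul_left hb.add_right
    (fun c v x => by simpa using hb.smul_right c v x) u v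
  simpa using this

/-- two matrices inducing the same bilinear form are equal -/
theorem aspd2suniq_ext (M N : Matrix (Fin n) (Fin n) F)
    (h : ∀ u v : Fin n → F, u ⬝ᵥ (M *ᵥ v) = u ⬝ᵥ (N *ᵥ v)) : M = N := by
  apply ascform_ext (RingHom.id F)
  intro u v
  simpa using h u v

/-- transport of a bilinear Gram matrix -/
theorem aspd2suniq_transport (A s : Matrix (Fin n) (Fin n) F) (u v : Fin n → F) :
    (s *ᵥ u) ⬝ᵥ (A *ᵥ (s *ᵥ v)) = u ⬝ᵥ ((sᵀ * A * s) *ᵥ v) := by
  rw [← Matrix.mulVec_mulVec, ← Matrix.mulVec_mulVec, Matrix.dotProduct_mulVec u,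
    Matrix.vecMul_transpose]

/-- the Gram matrix of a non-degenerate bilinear form is invertible -/
theorem aspd2suniq_gram_isUnit (b : (Fin n → F) → (Fin n → F) → F) (hb : IsBilinearForm b)
    (hnd : IsNondegenerateForm b) : IsUnit (ascformGram b).det := by
  apply ascform_gram_isUnit_det (RingEquiv.refl F)
  intro v hv
  obtain ⟨x, hx⟩ := (hnd v hv).1
  refine ⟨x, ?_⟩
  have := aspd2suniq_gram b hb x v
  simpa [this] using hx

/-- an invariant bilinear form has an invariant Gram matrix -/
theorem aspd2suniq_gram_inv (b : (Fin n → F) → (Fin n → F) → F) (hb : IsBilinearForm b)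
    (s : Matrix (Fin n) (Fin n) F) (hs : ∀ u v, b (s *ᵥ u) (s *ᵥ v) = b u v) :
    sᵀ * ascformGram b * s = ascformGram b := by
  apply aspd2suniq_ext
  intro u v
  rw [← aspd2suniq_transport, ← aspd2suniq_gram b hb, ← aspd2suniq_gram b hb, hs]

/-- the members of `matrixSet P` are invertible -/
theorem aspd2suniq_unit (P : Subgroup (GL (Fin n) F)) (s : Matrix (Fin n) (Fin n) F)
    (hs : s ∈ matrixSet P) : IsUnit s.det := by
  obtain ⟨g, _, rfl⟩ := hs
  exact (Matrix.isUnit_iff_isUnit_det _).mp (Units.isUnit g)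

variable [Fintype F]

/-- D2S-UNIQ : invariant bilinear forms of an absolutely irreducible group fixing `f` are multiples of `f`. -/
theorem sp_bil_unique {P : Subgroup (GL (Fin n) F)} (hA : AbsIrr P) (f : (Fin n → F) → (Fin n → F) → F)
    (hf : IsSymplecticForm f) (hfix : FixesForm (matrixSet P) f) (b : (Fin n → F) → (Fin n → F) → F)
    (hb : IsBilinearForm b) (hbfix : FixesForm (matrixSet P) b) : ∃ c : F, ∀ u v, b u v = c * f u v := by
  classical
  obtain ⟨c, hc⟩ := Cfsg.Agent.Lib.helper23.ASCO.invariant_gram_unique hA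
    (fun s hs => aspd2suniq_unit P s hs) (ascformGram f) (ascformGram b)
    (aspd2suniq_gram_isUnit f hf.bilinear hf.nondegenerate)
    (fun s hs => aspd2suniq_gram_inv f hf.bilinear s (hfix s hs))
    (fun s hs => aspd2suniq_gram_inv b hb s (hbfix s hs))
  refine ⟨c, fun u v => ?_⟩
  rw [aspd2suniq_gram b hb, aspd2suniq_gram f hf.bilinear, hc, Matrix.smul_mulVec, dotProduct_smul,
    smul_eq_mul]

end Cfsg.Agent.Lib.Helper18.ASP
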