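import Mathlib
import Cfsg.Prelude.Def_GeometricClasses
import Cfsg.Agent.Lib.Helper27.ASC.Defs
import Cfsg.Agent.Lib.Helper19.ASG.Defs
import Cfsg.Agent.Lib.Helper18.ASP.Defs
import Cfsg.Agent.Lib.Lead.ASCU.Defs
import Cfsg.Agent.Lib.Helper10.ASPD2SUNIQ

set_option autoImplicit false
set_option linter.unusedVariables false
set_option linter.unusedSectionVars false

/-!
# Project ASP, block D2S, piece QODD (helper10)

`|F|` odd: an absolutely irreducible group fixing a symplectic form fixes no non-degenerate quadratic form.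
-/

namespace Cfsg.Agent.Lib.Helper18.ASP

open Cfsg Cfsg.Geo Cfsg.Agent.Lib.Helper27.ASC Cfsg.Agent.Lib.Helper19.ASG Cfsg.Agent.Lib.Lead.ASCU
open scoped MatrixGroups Matrix

variable {n : ℕ} {F : Type*} [Field F] [Fintype F]

/-- a finite field of odd order has `2 ≠ 0` -/
theorem aspd2sqodd_two_ne_zero (hF : Odd (Fintype.card F)) : (2 : F) ≠ 0 := by
  intro h
  have hchar : ringChar F = 2 := by
    have : CharP F 2 := CharTwo.of_one_ne_zero_of_two_eq_zero one_ne_zero h
    exact ringChar.eq F 2
  have := FiniteField.even_card_of_char_two hchar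
  rcases hF with ⟨t, ht⟩
  omega

omit [Fintype F] in
/-- the polar form of an invariant quadratic form is invariant -/
theorem aspd2sqodd_polar_fix (S : Set (Matrix (Fin n) (Fin n) F)) (Q : (Fin n → F) → F)
    (hfixQ : FixesQuadForm S Q) : FixesForm S (QuadraticMap.polar Q) := by
  intro s hs u v
  unfold QuadraticMap.polar
  rw [← Matrix.mulVec_add, hfixQ s hs, hfixQ s hs, hfixQ s hs]

/-- D2S-QODD : `|F|` odd: no invariant non-degenerate quadratic form. -/
theorem sp_no_quad_odd (hn : 0 < n) (hF : Odd (Fintype.card F)) {P : Subgroup (GL (Fin n) F)} (hA : AbsIrr P)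
    (f : (Fin n → F) → (Fin n → F) → F) (hf : IsSymplecticForm f) (hfix : FixesForm (matrixSet P) f)
    (Q : (Fin n → F) → F) (hQ : IsNondegenerateQuadraticForm Q) (hfixQ : FixesQuadForm (matrixSet P) Q) :
    False := by
  classical
  obtain ⟨c, hc⟩ := sp_bil_unique hA f hf hfix (QuadraticMap.polar Q) hQ.polar_bilinear
    (aspd2sqodd_polar_fix _ Q hfixQ)
  have h2 : (2 : F) ≠ 0 := aspd2sqodd_two_ne_zero hF
  have hQ0 : ∀ v, Q v = 0 := by
    intro v
    have h1 : QuadraticMap.polar Q v v = 0 := by rw [hc, hf.alternating, mul_zero]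
    unfold QuadraticMap.polar at h1
    have h3 : Q (v + v) = 2 ^ 2 * Q v := by
      rw [← two_smul F v, hQ.smul]
    rw [h3] at h1
    have h4 : 2 * Q v = 0 := by linear_combination h1
    rcases mul_eq_zero.mp h4 with h | h
    · exact absurd h h2
    · exact h
  -- a non-zero vector
  let v : Fin n → F := Pi.single ⟨0, hn⟩ 1
  have hv : v ≠ 0 := by
    intro h
    have := congrFun h ⟨0, hn⟩
    simp [v] at this
  obtain ⟨x, hx⟩ := (hQ.nondegenerate v hv).1
  apply hx
  unfold QuadraticMap.polar
  rw [hQ0, hQ0, hQ0]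
  ring

end Cfsg.Agent.Lib.Helper18.ASP
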