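import Mathlib
import Cfsg.Prelude.Def_GeometricClasses
import Cfsg.Agent.Lib.Helper27.ASC.Defs
import Cfsg.Agent.Lib.Helper19.ASG.Defs
import Cfsg.Agent.Lib.Helper18.ASP.Defs
import Cfsg.Agent.Lib.Lead.ASCU.Defs
import Cfsg.Agent.Lib.Helper10.ASPD2SUNIQ
import Cfsg.Agent.Lib.Helper10.ASPD2SQODD

set_option autoImplicit false
set_option linter.unusedVariables false
set_option linter.unusedSectionVars false

/-!
# Project ASP, block D2S, piece QEVEN (helper10)

An invariant quadratic form of the absolutely irreducible normal subgroup `P` of `H ≤ Isom(f)` puts `H` in class 8.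
-/

namespace Cfsg.Agent.Lib.Helper18.ASP

open Cfsg Cfsg.Geo Cfsg.Agent.Lib.Helper27.ASC Cfsg.Agent.Lib.Helper19.ASG Cfsg.Agent.Lib.Lead.ASCU
open scoped MatrixGroups Matrix

variable {n : ℕ} {F : Type*} [Field F] [Fintype F]

/-- the key step: a `P`-invariant function `D` on `F^n` with zero polar, `D (a v) = a² D v`, vanishes when `P` is
irreducible and `2 ≤ n`. -/
theorem aspd2sqeven_zero (hn : 2 ≤ n) {P : Subgroup (GL (Fin n) F)} (hA : Irr P) (D : (Fin n → F) → F)
    (hadd : ∀ u v, D (u + v) = D u + D v) (hsm : ∀ (a : F) v, D (a • v) = a ^ 2 * D v)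
    (hinv : ∀ s ∈ P, ∀ v, D ((s : Matrix (Fin n) (Fin n) F) *ᵥ v) = D v) : ∀ v, D v = 0 := by
  classical
  have hD0 : D 0 = 0 := by
    have := hadd 0 0
    rw [add_zero] at this
    exact left_eq_add.mp this
  let W : Submodule F (Fin n → F) :=
    { carrier := {v | D v = 0}
      add_mem' := fun {u v} hu hv => by
        show D (u + v) = 0
        rw [hadd, hu, hv, add_zero]
      zero_mem' := hD0
      smul_mem' := fun a v hv => by
        show D (a • v) = 0
        rw [hsm, hv, mul_zero] }
  have hW : ∀ s ∈ matrixSet P, W.map (Matrix.toLin' s) ≤ W := by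
    rintro _ ⟨s, hs, rfl⟩ _ ⟨v, hv, rfl⟩
    show D (Matrix.toLin' (s : Matrix (Fin n) (Fin n) F) v) = 0
    rw [Matrix.toLin'_apply, hinv s hs]
    exact hv
  rcases hA W hW with h | h
  · -- `D` is injective: impossible
    exfalso
    have hneg : ∀ v, D (-v) = - D v := by
      intro v
      have := hadd v (-v)
      rw [add_neg_cancel, hD0] at this
      exact (neg_eq_of_add_eq_zero_right this.symm).symm
    have hinj : Function.Injective D := by
      intro u v huv
      have h0 : D (u - v) = 0 := by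
        rw [sub_eq_add_neg, hadd, hneg, huv, add_neg_cancel]
      have hm : u - v ∈ W := h0
      rw [h] at hm
      exact sub_eq_zero.mp ((Submodule.mem_bot F).mp hm)
    have hcard := Fintype.card_le_of_injective D hinj
    rw [Fintype.card_fun, Fintype.card_fin] at hcard
    have h2 : 1 < Fintype.card F := Fintype.one_lt_card
    have h3 : Fintype.card F ^ 2 ≤ Fintype.card F ^ n := Nat.pow_le_pow_right (by omega) hn
    have h4 : Fintype.card F < Fintype.card F ^ 2 := by nlinarith
    omega
  · intro v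
    have : v ∈ W := by rw [h]; exact Submodule.mem_top
    exact this

/-- D2S-QEVEN : an invariant quadratic form of `P` gives class 8 for `H`. -/
theorem sp_quad_even {m : ℕ} (hn : 2 ≤ n) (hF : ¬ Odd (Fintype.card F)) (f : (Fin n → F) → (Fin n → F) → F)
    (hf : IsSymplecticForm f) {H P : Subgroup (GL (Fin n) F)} (hI : H ≤ isoGL f) (hP : NormalIn P H)
    (hA : AbsIrr P) (Q : (Fin n → F) → F) (hQ : IsNondegenerateQuadraticForm Q)
    (hfixQ : FixesQuadForm (matrixSet P) Q) : InSp m f H := by
  classical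
  have hfix : FixesForm (matrixSet P) f := by
    rintro _ ⟨s, hs, rfl⟩ u v
    exact (mem_isoGL_iff f s).mp (hI (hP.1 hs)) u v
  obtain ⟨c, hc⟩ := sp_bil_unique hA f hf hfix (QuadraticMap.polar Q) hQ.polar_bilinear
    (aspd2sqodd_polar_fix _ Q hfixQ)
  have hc0 : c ≠ 0 := by
    rintro rfl
    let v : Fin n → F := Pi.single ⟨0, by omega⟩ 1
    have hv : v ≠ 0 := by
      intro h
      have := congrFun h ⟨0, by omega⟩
      simp [v] at this
    obtain ⟨x, hx⟩ := (hQ.nondegenerate v hv).1
    apply hx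
    rw [hc, zero_mul]
  -- the rescaled form
  let Q' : (Fin n → F) → F := fun v => c⁻¹ * Q v
  have hpol : ∀ u v, QuadraticMap.polar Q' u v = f u v := by
    intro u v
    have h1 : QuadraticMap.polar Q' u v = c⁻¹ * QuadraticMap.polar Q u v := by
      unfold QuadraticMap.polar
      simp only [Q']
      ring
    rw [h1, hc, ← mul_assoc, inv_mul_cancel₀ hc0, one_mul]
  have hpolf : QuadraticMap.polar Q' = f := by
    funext u v
    exact hpol u v
  have hQ' : IsNondegenerateQuadraticForm Q' := by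
    refine ⟨fun a v => ?_, ?_, ?_⟩
    · simp only [Q']
      rw [hQ.smul]
      ring
    · rw [hpolf]; exact hf.bilinear
    · rw [hpolf]; exact hf.nondegenerate
  have hfixQ' : ∀ s ∈ P, ∀ v, Q' ((s : Matrix (Fin n) (Fin n) F) *ᵥ v) = Q' v := by
    intro s hs v
    simp only [Q']
    rw [hfixQ _ ⟨s, hs, rfl⟩]
  refine inSp_of_quad hI Q' hF hQ' hpol ?_
  intro h hh
  refine ⟨1, fun v => ?_⟩
  rw [Units.val_one, one_mul]
  -- the difference
  let D : (Fin n → F) → F := fun v => Q' ((h : Matrix (Fin n) (Fin n) F) *ᵥ v) - Q' v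
  have hiso := (mem_isoGL_iff f h).mp (hI hh)
  have hpolD : ∀ u v, D (u + v) = D u + D v := by
    intro u v
    have h1 := hpol ((h : Matrix (Fin n) (Fin n) F) *ᵥ u) ((h : Matrix (Fin n) (Fin n) F) *ᵥ v)
    have h2 := hpol u v
    rw [hiso u v, ← h2] at h1
    unfold QuadraticMap.polar at h1
    simp only [D]
    rw [Matrix.mulVec_add]
    linear_combination h1
  have hsmD : ∀ (a : F) v, D (a • v) = a ^ 2 * D v := by
    intro a v
    simp only [D]
    rw [Matrix.mulVec_smul, hQ'.smul, hQ'.smul]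
    ring
  have hinvD : ∀ s ∈ P, ∀ v, D ((s : Matrix (Fin n) (Fin n) F) *ᵥ v) = D v := by
    intro s hs v
    simp only [D]
    have hconj : h * s * h⁻¹ ∈ P := hP.2 h hh s hs
    have e : (h : Matrix (Fin n) (Fin n) F) *ᵥ ((s : Matrix (Fin n) (Fin n) F) *ᵥ v)
        = ((h * s * h⁻¹ : GL (Fin n) F) : Matrix (Fin n) (Fin n) F) *ᵥ ((h : Matrix (Fin n) (Fin n) F) *ᵥ v) := by
      rw [Matrix.mulVec_mulVec, Matrix.mulVec_mulVec, ← Units.val_mul, ← Units.val_mul]
      congr 2
      group
    rw [e, hfixQ' _ hconj, hfixQ' s hs]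
  have := aspd2sqeven_zero hn hA.1 D hpolD hsmD hinvD v
  simp only [D] at this
  exact sub_eq_zero.mp this

end Cfsg.Agent.Lib.Helper18.ASP
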