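import Mathlib
import Cfsg.Prelude.Def_GeometricClasses
import Cfsg.Agent.Lib.Helper27.ASC.Defs
import Cfsg.Agent.Lib.Helper19.ASG.Defs
import Cfsg.Agent.Lib.Helper18.ASP.Defs
import Cfsg.Agent.Lib.Lead.ASCU.Defs
import Cfsg.Agent.Lib.Helper10.ASPD2SUNIQ
import Cfsg.Agent.Lib.Helper27.ASCOQRATcore
import Cfsg.Agent.Lib.Helper16.ASCOH90

set_option autoImplicit false
set_option linter.unusedVariables false
set_option linter.unusedSectionVars false

/-!
# Project ASP, block D2S, piece RATF (helper10)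

A rational structure of the absolutely irreducible group `P` carries a scalar multiple of the invariant symplectic
form `f` (Frobenius + Schur + Hilbert 90, via Helper27 `ascoqrat_descend`).
-/

namespace Cfsg.Agent.Lib.Helper18.ASP

open Cfsg Cfsg.Geo Cfsg.Agent.Lib.Helper27.ASC Cfsg.Agent.Lib.Helper19.ASG Cfsg.Agent.Lib.Lead.ASCU
open Cfsg.Agent.Lib.helper23.ASCO
open scoped MatrixGroups Matrix

variable {n : ℕ} {F : Type*} [Field F] [Fintype F]

/-- the matrix form of RATF, for any invariant non-degenerate bilinear form -/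
theorem aspd2sratf_bil {P : Subgroup (GL (Fin n) F)} (hA : AbsIrr P) (b : (Fin n → F) → (Fin n → F) → F)
    (hb : IsBilinearForm b) (hnd : IsNondegenerateForm b) (hfix : FixesForm (matrixSet P) b)
    (F₁ : Subfield F) (ℓ : ℕ) (hcard : Fintype.card F = Nat.card F₁ ^ ℓ) (B : GL (Fin n) F)
    (hB : RealisesOver F₁ B P) : ∃ ζ : F, ζ ≠ 0 ∧ IsFormRationalStructure b F₁ ζ B⁻¹ := by
  classical
  rcases Nat.eq_zero_or_pos n with hn0 | hn
  · subst hn0
    refine ⟨1, one_ne_zero, fun u v _ _ => ?_⟩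
    have h0 : ∀ w : Fin 0 → F, w = 0 := fun w => Subsingleton.elim _ _
    rw [h0 (_ *ᵥ u)]
    have : b 0 (((B⁻¹ : GL (Fin 0) F) : Matrix (Fin 0) (Fin 0) F) *ᵥ v) = 0 := by
      have := hb.smul_left 0 0 (((B⁻¹ : GL (Fin 0) F) : Matrix (Fin 0) (Fin 0) F) *ᵥ v)
      rwa [zero_smul, zero_mul] at this
    rw [this, mul_zero]
    exact F₁.zero_mem
  obtain ⟨μ, hμ0, hμ⟩ := ascoqrat_descend (fun hS hu A A' hAu h h' => invariant_gram_unique hS hu A A' hAu h h')
    (fun F₁ ℓ hc c hc0 hN => hilbert90_subfield F₁ ℓ hc c hc0 hN) F₁ ℓ hcard hn hA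
    (fun s hs => aspd2suniq_unit P s hs) B hB (ascformGram b) (aspd2suniq_gram_isUnit b hb hnd)
    (fun s hs => aspd2suniq_gram_inv b hb s (hfix s hs))
  refine ⟨μ, hμ0, fun u v hu hv => ?_⟩
  rw [aspd2suniq_gram b hb, aspd2suniq_transport, ← smul_eq_mul, ← dotProduct_smul, ← Matrix.smul_mulVec]
  apply ascoqrat_form_mem F₁ _ _ u v hu hv
  intro i j
  rw [Matrix.smul_apply, smul_eq_mul]
  exact hμ i j

/-- D2S-RATF : a rational structure of `P` carries a scalar multiple of `f`. -/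
theorem sp_form_rational {P : Subgroup (GL (Fin n) F)} (hA : AbsIrr P) (f : (Fin n → F) → (Fin n → F) → F)
    (hf : IsSymplecticForm f) (hfix : FixesForm (matrixSet P) f) (F₁ : Subfield F) (ℓ : ℕ)
    (hcard : Fintype.card F = Nat.card F₁ ^ ℓ) (B : GL (Fin n) F) (hB : RealisesOver F₁ B P) :
    ∃ ζ : F, ζ ≠ 0 ∧ IsFormRationalStructure f F₁ ζ B⁻¹ :=
  aspd2sratf_bil hA f hf.bilinear hf.nondegenerate hfix F₁ ℓ hcard B hB

end Cfsg.Agent.Lib.Helper18.ASP
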