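import Mathlib
import Cfsg.Prelude.Def_GeometricClasses
import Cfsg.Agent.Lib.Helper27.ASC.Defs
import Cfsg.Agent.Lib.Helper19.ASG.Defs
import Cfsg.Agent.Lib.Helper18.ASP.Defs
import Cfsg.Agent.Lib.Lead.ASCU.Defs
import Cfsg.Agent.Lib.Helper16.ASCUUSUBFA
import Cfsg.Agent.Lib.Helper10.ASCSUBF2
import Cfsg.Agent.Lib.Helper25.ASCCENT
import Cfsg.Agent.Lib.Helper10.ASPD2SUNIQ
import Cfsg.Agent.Lib.Helper10.ASPD2SQODD
import Cfsg.Agent.Lib.helper23.ASPD2SBIU
import Cfsg.Agent.Lib.helper8.ASCUUSUBFO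
import Cfsg.Agent.Lib.Helper28.UHerm
import Cfsg.Agent.Lib.Helper10.ASUD2SRAT2

/-!
# Project ASU (S5663), block D2S (helper10): the almost simple case for subgroups of `GU_n(q)`, ANY `n ≥ 2`.

`asud2s_almost_simple` : `H ≤ GU_n(q)` normalising an absolutely irreducible perfect `P` with `P / scalars` non-abelian simple
lies in a subfield member of `InUnitaryClass` (class 5, three shapes), or is in `InUnitaryResidualClass`.
The unitary twin of helper18's `sp_almost_simple`; stated with the FROZEN predicates only.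
-/

set_option autoImplicit false
set_option linter.unusedVariables false
set_option linter.unusedSectionVars false

namespace Cfsg.Agent.Lib.Helper19.ASU

open Cfsg Cfsg.Geo Cfsg.Agent.Lib.Helper27.ASC Cfsg.Agent.Lib.Lead.ASCU
open scoped MatrixGroups Matrix

variable {n : ℕ} {F : Type*} [Field F] [Fintype F]

/-- D2S-BIL : an absolutely irreducible subgroup of `GU_n(q)` fixing a non-degenerate bilinear form is realisable over
the fixed field of the `q`-Frobenius (helper23's `aspd2sbiu_matrix_core` with `B = 1`). -/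
theorem asud2s_realisable_of_bilinear (q : ℕ) (hF : Fintype.card F = q ^ 2) {P : Subgroup (GL (Fin n) F)}
    (hPU : P ≤ GU n F q) (hA : AbsIrr P) (b : (Fin n → F) → (Fin n → F) → F) (hb : IsBilinearForm b)
    (hnd : IsNondegenerateForm b) (hfix : FixesForm (matrixSet P) b) :
    ∃ F₀ : Subfield F, F₀ ≠ ⊤ ∧ RealisableOver F₀ (matrixSet P) := by
  classical
  obtain ⟨σ, hσ, hU⟩ := Cfsg.Agent.Lib.Helper28.UHerm.herm_unitary hF n
  refine Cfsg.Agent.Lib.Helper18.ASP.aspd2sbiu_matrix_core hA σ hU.ne_refl hU.involutive (ascformGram b) 1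
    (Cfsg.Agent.Lib.Helper18.ASP.aspd2suniq_gram_isUnit b hb hnd) (by rw [Matrix.det_one]; exact isUnit_one)
    (fun s hs => Cfsg.Agent.Lib.Helper18.ASP.aspd2suniq_gram_inv b hb _ (hfix _ ⟨s, hs, rfl⟩)) ?_
  intro s hs
  have h1 := ascusubf_gu q (σ : F →+* F) hσ s (hPU hs)
  unfold ascusubfAct at h1
  exact h1

/-- D2S-RAT : realisable over a proper subfield => a subfield member of `InUnitaryClass` (three shapes). -/
theorem asud2s_class_of_realisable (q : ℕ) (hF : Fintype.card F = q ^ 2) (hn : 2 ≤ n)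
    {H P : Subgroup (GL (Fin n) F)} (hHU : H ≤ GU n F q) (hP : NormalIn P H) (hA : AbsIrr P)
    (F₀ : Subfield F) (h0 : F₀ ≠ ⊤) (hR : RealisableOver F₀ (matrixSet P)) :
    ∃ M : Subgroup (GL (Fin n) F), InUnitaryClass n F q M ∧ H ≤ M := by
  have hPU : P ≤ GU n F q := hP.1.trans hHU
  obtain ⟨B, hB0⟩ := hR
  obtain ⟨F₁, ℓ, h01, hℓ, hcard⟩ := exists_prime_index_subfield F₀ h0
  have hB : RealisesOver F₁ B P := realisesOver_mono h01 hB0
  have hle : H ≤ subfieldSubgroup F₁ B⁻¹ := usubfield_explicit hP hA F₁ B hB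
  rcases hℓ.eq_two_or_odd' with h2 | hoddl
  · subst h2
    rcases asud2s_rational_two q hF hn hPU hA F₁ hcard B hB with ⟨hq, hrat⟩ | ⟨ζ, hev, hζ, hζq, hrat, halt⟩
    · exact ⟨_, Or.inl (Or.inr (Or.inr (Or.inr (Or.inr (Or.inr (Or.inl ⟨F₁, B⁻¹, hq, hcard, hrat, rfl⟩)))))),
        le_inf hle hHU⟩
    · exact ⟨_, Or.inl (Or.inr (Or.inr (Or.inr (Or.inr (Or.inr (Or.inr (Or.inl
        ⟨F₁, B⁻¹, ζ, hev, hcard, hζ, hζq, hrat, halt, rfl⟩))))))), le_inf hle hHU⟩
  · obtain ⟨B', hsame, hrat⟩ := uform_rational_odd q hF hPU hA F₁ ℓ hℓ hoddl hcard B hB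
    rw [← hsame] at hle
    exact ⟨_, Or.inl (Or.inr (Or.inr (Or.inr (Or.inr (Or.inl ⟨F₁, ℓ, B', hℓ, hoddl, hcard, hrat, rfl⟩))))),
      le_inf hle hHU⟩

/-- SU-D2S : the almost simple case. -/
theorem asud2s_almost_simple (q : ℕ) (hF : Fintype.card F = q ^ 2) (hn : 2 ≤ n)
    {H P : Subgroup (GL (Fin n) F)} (hHU : H ≤ GU n F q) (hP : NormalIn P H) (hA : AbsIrr P)
    (hperf : ⁅P, P⁆ = P) (hsimp : IsSimpleGroup (P ⧸ (scalars (Fin n) F).subgroupOf P))
    (hnab : ¬ IsMulCommutative (P ⧸ (scalars (Fin n) F).subgroupOf P)) :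
    (∃ M : Subgroup (GL (Fin n) F), InUnitaryClass n F q M ∧ H ≤ M) ∨ InUnitaryResidualClass H := by
  have hPU : P ≤ GU n F q := hP.1.trans hHU
  by_cases hsub : ∃ F₀ : Subfield F, F₀ ≠ ⊤ ∧ RealisableOver F₀ (matrixSet P)
  · obtain ⟨F₀, h0, hR⟩ := hsub
    exact Or.inl (asud2s_class_of_realisable q hF hn hHU hP hA F₀ h0 hR)
  refine Or.inr ⟨P, ⟨hP.1, hP.2, hperf, hsimp, hnab, centralizer_scalar_of hP hperf hA, hA, ?_⟩, ?_, ?_⟩
  · intro F₀ h0 hR
    exact hsub ⟨F₀, h0, hR⟩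
  · rintro ⟨Q, hQ, hfixQ⟩
    exact hsub (asud2s_realisable_of_bilinear q hF hPU hA (QuadraticMap.polar Q) hQ.polar_bilinear
      hQ.nondegenerate (Cfsg.Agent.Lib.Helper18.ASP.aspd2sqodd_polar_fix _ Q hfixQ))
  · rintro ⟨f, hf, hfix⟩
    exact hsub (asud2s_realisable_of_bilinear q hF hPU hA f hf.bilinear hf.nondegenerate hfix)

end Cfsg.Agent.Lib.Helper19.ASU
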