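import Mathlib
import Cfsg.Prelude.Def_GeometricClasses
import Cfsg.Agent.Lib.Helper27.ASC.Defs
import Cfsg.Agent.Lib.Helper19.ASG.Defs
import Cfsg.Agent.Lib.Helper26.ASGD1.Defs
import Cfsg.Agent.Lib.Helper19.ASU.Defs
import Cfsg.Agent.Lib.Helper10.ASUD2S

set_option autoImplicit false
set_option linter.unusedVariables false
set_option linter.unusedSectionVars false

/-!
# Project ASU, block D2S (helper10): the interface statement `u_almost_simple`, VERBATIM vs `Helper19/ASU/Skel`.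
-/

namespace Cfsg.Agent.Lib.Helper19.ASU

open Cfsg Cfsg.Geo Cfsg.Agent.Lib.Helper27.ASC Cfsg.Agent.Lib.Helper19.ASG
open scoped MatrixGroups Matrix

variable {n : ℕ} {F : Type*} [Field F] [Fintype F]

/-- U-D2S -/
theorem u_almost_simple (q : ℕ) (hF : Fintype.card F = q ^ 2) (hn : 3 ≤ n) {H P : Subgroup (GL (Fin n) F)}
    (hI : H ≤ GU n F q) (hP : NormalIn P H) (hA : AbsIrr P) (hperf : ⁅P, P⁆ = P)
    (hsimp : IsSimpleGroup (P ⧸ (scalars (Fin n) F).subgroupOf P))
    (hnab : ¬ IsMulCommutative (P ⧸ (scalars (Fin n) F).subgroupOf P)) :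
    InU n q H ∨ InUnitaryResidualClass H :=
  asud2s_almost_simple q hF (by omega) hI hP hA hperf hsimp hnab

end Cfsg.Agent.Lib.Helper19.ASU
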