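import Mathlib
import Cfsg.Prelude.Def_GeometricClasses
import Cfsg.Agent.Lib.Helper27.ASC.Defs
import Cfsg.Agent.Lib.Helper19.ASG.Defs
import Cfsg.Agent.Lib.Helper19.ASU.Defs
import Cfsg.Agent.Lib.Lead.ASCU.Defs
import Cfsg.Agent.Lib.helper8.ASCUSUBFcore

/-!
# Project ASU (S5663), block SUBF, the key lemma with multipliers (helper10)

helper8's `ascusubf_schur` / `ascusubf_key` for groups of SIMILITUDES of the standard hermitian form: if the absolutely
irreducible `P` consists of similitudes with multipliers fixed by `τ` and is realised over `F₀ ≤ Fix τ` by `B`, then the Gram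
matrix `G = B⁻ᵀ σ(B⁻¹)` satisfies `τ(G) = c G`.
-/

set_option autoImplicit false
set_option linter.unusedVariables false
set_option linter.unusedSectionVars false

namespace Cfsg.Agent.Lib.Helper19.ASU

open Cfsg Cfsg.Geo Cfsg.Agent.Lib.Helper27.ASC Cfsg.Agent.Lib.Lead.ASCU
open scoped MatrixGroups Matrix

variable {n : ℕ} {F : Type*} [Field F] [Fintype F]

/-- `UMult` in matrix form -/
theorem asusubf_mult_matrix (q : ℕ) (σ : F →+* F) (hσ : ∀ a, σ a = a ^ q) (F₀ : Subfield F)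
    {P : Subgroup (GL (Fin n) F)} (hmult : UMult q F₀ P) (x : GL (Fin n) F) (hx : x ∈ P) :
    ∃ μ : F, μ ∈ F₀ ∧ ascusubfAct σ (x : Matrix (Fin n) (Fin n) F) 1 = μ • (1 : Matrix (Fin n) (Fin n) F) := by
  obtain ⟨μ, hμ, hx'⟩ := hmult x hx
  refine ⟨μ, hμ, ?_⟩
  apply Cfsg.Agent.Lib.Helper27.ASC.ascform_ext σ
  intro u v
  unfold ascusubfAct
  rw [← Cfsg.Agent.Lib.Helper27.ASC.ascform_transport σ 1 (x : Matrix (Fin n) (Fin n) F) u v,
    ← ascusubf_herm q σ hσ, hx' u v, ascusubf_herm q σ hσ, Matrix.smul_mulVec, dotProduct_smul, smul_eq_mul]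

/-- `UMult` is monotone in the subfield -/
theorem asusubf_mult_mono {q : ℕ} {F₀ F₁ : Subfield F} (h01 : F₀ ≤ F₁) {P : Subgroup (GL (Fin n) F)}
    (hmult : UMult q F₀ P) : UMult q F₁ P := by
  intro x hx
  obtain ⟨μ, hμ, h⟩ := hmult x hx
  exact ⟨μ, h01 hμ, h⟩

/-- Schur with multipliers: a Gram matrix transforming under an absolutely irreducible group of similitudes with the same
multipliers as the identity matrix is scalar -/
theorem asusubf_schur (σ : F →+* F) {P : Subgroup (GL (Fin n) F)} (hA : AbsIrr P)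
    (A : Matrix (Fin n) (Fin n) F)
    (h1 : ∀ x ∈ P, ∃ μ : F, ascusubfAct σ (x : Matrix (Fin n) (Fin n) F) 1 = μ • (1 : Matrix (Fin n) (Fin n) F) ∧
      ascusubfAct σ (x : Matrix (Fin n) (Fin n) F) A = μ • A) :
    ∃ c : F, A = c • (1 : Matrix (Fin n) (Fin n) F) := by
  rcases Nat.eq_zero_or_pos n with hn0 | hnpos
  · subst hn0
    exact ⟨0, Subsingleton.elim _ _⟩
  have step : ∀ x ∈ P, (x : Matrix (Fin n) (Fin n) F)ᵀ * A = A * (x : Matrix (Fin n) (Fin n) F)ᵀ := by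
    intro x hx
    obtain ⟨μ, e1, e2⟩ := h1 x hx
    unfold ascusubfAct at e1 e2
    rw [Matrix.mul_one] at e1
    have hμ : μ ≠ 0 := by
      intro h0
      rw [h0, zero_smul] at e1
      have h3 := congrArg Matrix.det e1
      rw [Matrix.det_mul, Matrix.det_transpose] at h3
      have hne : Nonempty (Fin n) := ⟨⟨0, hnpos⟩⟩
      rw [Matrix.det_zero] at h3
      have h4 : IsUnit ((x : Matrix (Fin n) (Fin n) F).map σ).det := Cfsg.Agent.Lib.Helper27.ASC.ascform_map_isUnit_det σ x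
      have h5 : IsUnit (x : Matrix (Fin n) (Fin n) F).det :=
        (Matrix.isUnit_iff_isUnit_det _).mp x.isUnit
      exact mul_ne_zero h5.ne_zero h4.ne_zero h3
    have e3 : (x : Matrix (Fin n) (Fin n) F).map σ * (μ⁻¹ • (x : Matrix (Fin n) (Fin n) F)ᵀ) = 1 := by
      apply mul_eq_one_comm.mp
      rw [Matrix.smul_mul, e1, smul_smul, inv_mul_cancel₀ hμ, one_smul]
    calc (x : Matrix (Fin n) (Fin n) F)ᵀ * A
        = (x : Matrix (Fin n) (Fin n) F)ᵀ * A *
            ((x : Matrix (Fin n) (Fin n) F).map σ * (μ⁻¹ • (x : Matrix (Fin n) (Fin n) F)ᵀ)) := by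
          rw [e3, Matrix.mul_one]
      _ = μ⁻¹ • (((x : Matrix (Fin n) (Fin n) F)ᵀ * A * (x : Matrix (Fin n) (Fin n) F).map σ) *
            (x : Matrix (Fin n) (Fin n) F)ᵀ) := by
          rw [Matrix.mul_smul, Matrix.mul_smul]
          simp only [Matrix.mul_assoc]
      _ = A * (x : Matrix (Fin n) (Fin n) F)ᵀ := by
          rw [e2, Matrix.smul_mul, smul_smul, inv_mul_cancel₀ hμ, one_smul]
  have step3 : ∀ s ∈ matrixSet P, Aᵀ * s = s * Aᵀ := by
    rintro _ ⟨g, hg, rfl⟩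
    have h := congrArg Matrix.transpose (step g hg)
    rw [Matrix.transpose_mul, Matrix.transpose_mul, Matrix.transpose_transpose] at h
    exact h
  obtain ⟨c, hc⟩ := hA.2 Aᵀ step3
  refine ⟨c, ?_⟩
  have := congrArg Matrix.transpose hc
  rw [Matrix.transpose_transpose, Matrix.transpose_smul, Matrix.transpose_one] at this
  exact this

/-- the Gram matrix in the coordinates of a realisation transforms with the multiplier under the conjugated group -/
theorem asusubf_inv (σ : F →+* F) (B x : GL (Fin n) F) (μ : F)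
    (hx : ascusubfAct σ (x : Matrix (Fin n) (Fin n) F) 1 = μ • (1 : Matrix (Fin n) (Fin n) F)) :
    ascusubfAct σ ((B : Matrix (Fin n) (Fin n) F) * (x : Matrix (Fin n) (Fin n) F) *
        ((B⁻¹ : GL (Fin n) F) : Matrix (Fin n) (Fin n) F))
      (ascusubfAct σ ((B⁻¹ : GL (Fin n) F) : Matrix (Fin n) (Fin n) F) 1) =
      μ • ascusubfAct σ ((B⁻¹ : GL (Fin n) F) : Matrix (Fin n) (Fin n) F) 1 := by
  have hBB' : ((B⁻¹ : GL (Fin n) F) : Matrix (Fin n) (Fin n) F) * (B : Matrix (Fin n) (Fin n) F) = 1 := by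
    rw [← Units.val_mul, inv_mul_cancel]; rfl
  rw [← ascusubfAct_mul]
  have e : ((B⁻¹ : GL (Fin n) F) : Matrix (Fin n) (Fin n) F) *
      ((B : Matrix (Fin n) (Fin n) F) * (x : Matrix (Fin n) (Fin n) F) *
        ((B⁻¹ : GL (Fin n) F) : Matrix (Fin n) (Fin n) F)) =
      (x : Matrix (Fin n) (Fin n) F) * ((B⁻¹ : GL (Fin n) F) : Matrix (Fin n) (Fin n) F) := by
    rw [← Matrix.mul_assoc, ← Matrix.mul_assoc, hBB', Matrix.one_mul]
  rw [e, ascusubfAct_mul, hx, ascusubfAct_smul]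

/-- KEY with multipliers: the Gram matrix in the coordinates of a subfield structure is an eigenvector of the Frobenius of
`F₀` -/
theorem asusubf_key (σ τ : F →+* F) (hcomm : ∀ a, τ (σ a) = σ (τ a)) {P : Subgroup (GL (Fin n) F)}
    (hmult : ∀ x ∈ P, ∃ μ : F, τ μ = μ ∧
      ascusubfAct σ (x : Matrix (Fin n) (Fin n) F) 1 = μ • (1 : Matrix (Fin n) (Fin n) F))
    (hA : AbsIrr P) (F₀ : Subfield F) (hτ : ∀ a ∈ F₀, τ a = a) (B : GL (Fin n) F)
    (hB : RealisesOver F₀ B P) :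
    ∃ c : F, (ascusubfAct σ ((B⁻¹ : GL (Fin n) F) : Matrix (Fin n) (Fin n) F) 1).map τ =
      c • ascusubfAct σ ((B⁻¹ : GL (Fin n) F) : Matrix (Fin n) (Fin n) F) 1 := by
  obtain ⟨Bm, hBm⟩ : ∃ Bm : Matrix (Fin n) (Fin n) F, Bm = (B : Matrix (Fin n) (Fin n) F) := ⟨_, rfl⟩
  obtain ⟨Bi, hBi⟩ : ∃ Bi : Matrix (Fin n) (Fin n) F,
      Bi = ((B⁻¹ : GL (Fin n) F) : Matrix (Fin n) (Fin n) F) := ⟨_, rfl⟩
  have hBB : Bm * Bi = 1 := by
    rw [hBm, hBi, ← Units.val_mul, mul_inv_cancel]; rfl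
  have hBB' : Bi * Bm = 1 := by
    rw [hBm, hBi, ← Units.val_mul, inv_mul_cancel]; rfl
  rw [← hBi]
  obtain ⟨G, hG⟩ : ∃ G : Matrix (Fin n) (Fin n) F, G = ascusubfAct σ Bi 1 := ⟨_, rfl⟩
  rw [← hG]
  -- the conjugated matrices are fixed by `τ`
  have hfix : ∀ x ∈ P, (Bm * (x : Matrix (Fin n) (Fin n) F) * Bi).map τ =
      Bm * (x : Matrix (Fin n) (Fin n) F) * Bi := by
    intro x hx
    ext i j
    rw [Matrix.map_apply]
    apply hτ
    rw [hBm, hBi]
    exact hB (x : Matrix (Fin n) (Fin n) F) ⟨x, hx, rfl⟩ i j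
  -- `G` transforms with the multiplier under the conjugated group
  have hG0 : ∀ x ∈ P, ∀ μ : F, ascusubfAct σ (x : Matrix (Fin n) (Fin n) F) 1 = μ • (1 : Matrix (Fin n) (Fin n) F) →
      ascusubfAct σ (Bm * (x : Matrix (Fin n) (Fin n) F) * Bi) G = μ • G := by
    intro x hx μ hμ
    rw [hG, hBm, hBi]
    exact asusubf_inv σ B x μ hμ
  have hG1 : ∀ x ∈ P, ∀ μ : F, τ μ = μ →
      ascusubfAct σ (x : Matrix (Fin n) (Fin n) F) 1 = μ • (1 : Matrix (Fin n) (Fin n) F) →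
      ascusubfAct σ (Bm * (x : Matrix (Fin n) (Fin n) F) * Bi) (G.map τ) = μ • G.map τ := by
    intro x hx μ hτμ hμ
    have e := ascusubfAct_map σ τ hcomm (Bm * (x : Matrix (Fin n) (Fin n) F) * Bi) G
    rw [hfix x hx, hG0 x hx μ hμ] at e
    rw [← e]
    ext i j
    simp only [Matrix.map_apply, Matrix.smul_apply, smul_eq_mul, map_mul, hτμ]
  -- pull back to the coordinates of `P`
  have hinv : ∀ x ∈ P, ∃ μ : F, ascusubfAct σ (x : Matrix (Fin n) (Fin n) F) 1 = μ • (1 : Matrix (Fin n) (Fin n) F) ∧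
      ascusubfAct σ (x : Matrix (Fin n) (Fin n) F) (ascusubfAct σ Bm (G.map τ)) =
        μ • ascusubfAct σ Bm (G.map τ) := by
    intro x hx
    obtain ⟨μ, hτμ, hμ⟩ := hmult x hx
    refine ⟨μ, hμ, ?_⟩
    rw [← ascusubfAct_mul]
    have e : Bm * (x : Matrix (Fin n) (Fin n) F) = (Bm * (x : Matrix (Fin n) (Fin n) F) * Bi) * Bm := by
      rw [Matrix.mul_assoc, hBB', Matrix.mul_one]
    rw [e, ascusubfAct_mul, hG1 x hx μ hτμ hμ, ascusubfAct_smul]
  obtain ⟨c, hc⟩ := asusubf_schur σ hA _ hinv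
  refine ⟨c, ?_⟩
  have e1 : G.map τ = ascusubfAct σ Bi (ascusubfAct σ Bm (G.map τ)) := by
    rw [← ascusubfAct_mul, hBB, ascusubfAct_one]
  rw [e1, hc, ascusubfAct_smul, ← hG]

end Cfsg.Agent.Lib.Helper19.ASU
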