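import Mathlib
import Cfsg.Prelude.Def_GeometricClasses
import Cfsg.Agent.Lib.Helper27.ASC.Defs
import Cfsg.Agent.Lib.Helper19.ASG.Defs
import Cfsg.Agent.Lib.Helper19.ASU.Defs
import Cfsg.Agent.Lib.Lead.ASCU.Defs
import Cfsg.Agent.Lib.Helper18.ASCNOSYMP
import Cfsg.Agent.Lib.helper8.ASCUSUBFcore
import Cfsg.Agent.Lib.helper8.ASCUSUBFh90
import Cfsg.Agent.Lib.helper8.ASCUUSUBFO
import Cfsg.Agent.Lib.helper8.ASCUUSUBF2
import Cfsg.Agent.Lib.Helper10.ASUD2SRAT2
import Cfsg.Agent.Lib.Helper10.ASUSUBFKEY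

/-!
# Project ASU (S5663), block SUBF, the two rationality lemmas with multipliers (helper10)

`asusubf_rational_odd` (copy of helper8's `uform_rational_odd`) and `asusubf_rational_two` (copy of `asud2s_rational_two`) for an
absolutely irreducible group `P` of SIMILITUDES of the standard hermitian form with multipliers in `F₀`, realised over `F₀`.
-/

set_option autoImplicit false
set_option linter.unusedVariables false
set_option linter.unusedSectionVars false

namespace Cfsg.Agent.Lib.Helper19.ASU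

open Cfsg Cfsg.Geo Cfsg.Agent.Lib.Helper27.ASC Cfsg.Agent.Lib.Lead.ASCU
open scoped MatrixGroups Matrix

variable {n : ℕ} {F : Type*} [Field F] [Fintype F]

/-- SUBF-ODD : a subfield structure of odd prime index for an absolutely irreducible group of similitudes with multipliers in
`F₀` can be rescaled so that the standard hermitian form is rational on it (helper8's `uform_rational_odd` with multipliers) -/
theorem asusubf_rational_odd (q : ℕ) (hF : Fintype.card F = q ^ 2) {P : Subgroup (GL (Fin n) F)}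
    (hA : AbsIrr P) (F₀ : Subfield F) (hmult : UMult q F₀ P) (ℓ : ℕ) (hℓ : ℓ.Prime) (hodd : Odd ℓ)
    (hcard : Fintype.card F = Nat.card F₀ ^ ℓ) (B : GL (Fin n) F) (hB : RealisesOver F₀ B P) :
    ∃ B' : GL (Fin n) F, subfieldSubgroup F₀ B' = subfieldSubgroup F₀ B⁻¹ ∧
      IsFormRationalStructure (hermForm n F q) F₀ 1 B' := by
  classical
  obtain ⟨p, m, σ, hp, hchar, hqm, hσ, hσσ⟩ := ascusubf_frob q hF
  obtain ⟨τ, hτ, hτmem⟩ := ascusubf_tau F₀
  obtain ⟨Q, hQ⟩ : ∃ Q, Q = Nat.card F₀ := ⟨_, rfl⟩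
  rw [← hQ] at hτ hcard
  have hQ2 : 2 ≤ Q := by
    rw [hQ, Nat.card_eq_fintype_card]
    exact Fintype.one_lt_card
  have hcomm : ∀ a, τ (σ a) = σ (τ a) := by
    intro a
    rw [hτ, hσ, hτ, hσ, ← pow_mul, ← pow_mul, mul_comm]
  have hℓ3 : 3 ≤ ℓ := by
    have := hℓ.two_le
    rcases hodd with ⟨k, hk⟩
    omega
  rcases Nat.eq_zero_or_pos n with hn0 | hnpos
  · subst hn0
    refine ⟨B⁻¹, rfl, ?_⟩
    intro u v _ _
    have h0 : hermForm 0 F q (((B⁻¹ : GL (Fin 0) F) : Matrix (Fin 0) (Fin 0) F) *ᵥ u)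
        (((B⁻¹ : GL (Fin 0) F) : Matrix (Fin 0) (Fin 0) F) *ᵥ v) = 0 := by
      unfold hermForm
      simp
    rw [h0, mul_zero]
    exact F₀.zero_mem
  have hmult' : ∀ x ∈ P, ∃ μ : F, τ μ = μ ∧
      ascusubfAct σ (x : Matrix (Fin n) (Fin n) F) 1 = μ • (1 : Matrix (Fin n) (Fin n) F) := by
    intro x hx
    obtain ⟨μ, hμ, h⟩ := asusubf_mult_matrix q σ hσ F₀ hmult x hx
    exact ⟨μ, (hτmem μ).mpr hμ, h⟩
  obtain ⟨c, hc⟩ := asusubf_key σ τ hcomm hmult' hA F₀ (fun a ha => (hτmem a).mpr ha) B hB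
  obtain ⟨Bi, hBi⟩ : ∃ Bi : Matrix (Fin n) (Fin n) F,
      Bi = ((B⁻¹ : GL (Fin n) F) : Matrix (Fin n) (Fin n) F) := ⟨_, rfl⟩
  rw [← hBi] at hc
  obtain ⟨G, hG⟩ : ∃ G : Matrix (Fin n) (Fin n) F, G = ascusubfAct σ Bi 1 := ⟨_, rfl⟩
  rw [← hG] at hc
  have hcij : ∀ i j, τ (G i j) = c * G i j := by
    intro i j
    have := congrFun (congrFun hc i) j
    simpa using this
  -- `G` is invertible, so it has a non-zero entry
  have hGdet : G.det ≠ 0 := by
    rw [hG]
    unfold ascusubfAct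
    rw [Matrix.mul_one, Matrix.det_mul, Matrix.det_transpose]
    have h1 : IsUnit (Bi.map σ).det := by
      rw [hBi]
      exact ascform_map_isUnit_det σ B⁻¹
    have h2 : IsUnit Bi.det := by
      rw [hBi]
      exact (Matrix.isUnit_iff_isUnit_det _).mp (B⁻¹ : GL (Fin n) F).isUnit
    exact mul_ne_zero h2.ne_zero h1.ne_zero
  obtain ⟨i₀, j₀, hij⟩ : ∃ i j, G i j ≠ 0 := by
    by_contra hcon
    push Not at hcon
    apply hGdet
    have : G = 0 := by
      ext i j
      exact hcon i j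
    rw [this]
    have hne : Nonempty (Fin n) := ⟨⟨0, hnpos⟩⟩
    exact Matrix.det_zero
  -- `c` is fixed by `σ`
  have hGh : Gᵀ = G.map σ := by
    rw [hG]
    exact ascusubfAct_herm σ hσσ Bi
  have hGji : ∀ i j, G j i = σ (G i j) := by
    intro i j
    have := congrFun (congrFun hGh i) j
    simpa using this
  have hcq : c ^ q = c := by
    have e1 : τ (G i₀ j₀) = σ c * G i₀ j₀ := by
      rw [hGji j₀ i₀, hcomm, hcij, map_mul]
    rw [hcij] at e1
    have e2 := mul_right_cancel₀ hij e1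
    rw [← hσ]
    exact e2.symm
  -- the partial norms
  obtain ⟨cs, hcs0, hcsS⟩ : ∃ cs : ℕ → F, cs 0 = 1 ∧ ∀ k, cs (k + 1) = c * τ (cs k) :=
    ⟨fun k => Nat.rec 1 (fun _ x => c * τ x) k, rfl, fun _ => rfl⟩
  have hcsG : ∀ k : ℕ, ∀ i j, (G i j) ^ (Q ^ k) = cs k * G i j := by
    intro k
    induction k with
    | zero => intro i j; rw [pow_zero, pow_one, hcs0, one_mul]
    | succ k ih =>
      intro i j
      rw [pow_succ, pow_mul, ih, ← hτ, map_mul, hcij, hcsS]
      ring
  have hτℓ : ∀ a : F, a ^ (Q ^ ℓ) = a := by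
    intro a
    rw [← hcard]
    exact FiniteField.pow_card a
  have hcsℓ : cs ℓ = 1 := by
    have e1 := hcsG ℓ i₀ j₀
    rw [hτℓ] at e1
    have e2 : (1 : F) * G i₀ j₀ = cs ℓ * G i₀ j₀ := by rw [one_mul]; exact e1
    exact (mul_right_cancel₀ hij e2).symm
  have hdist := ascusubf_not_sub (F := F) q Q ℓ hF hQ2 (by rw [← hF, hcard]) hℓ3
  obtain ⟨d, hd0, hdq, hcd⟩ := ascusubf_h90 q Q ℓ σ τ hσ hτ hℓ hτℓ hdist c hcq cs hcs0 hcsS hcsℓ
  obtain ⟨e, he0, hed⟩ := ascusubf_norm_surj q hF d hd0 hdq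
  -- the rescaled structure
  obtain ⟨z, hz⟩ : ∃ z : GL (Fin n) F, z =
      Units.map (Matrix.scalar (Fin n) : F →+* Matrix (Fin n) (Fin n) F).toMonoidHom (Units.mk0 e he0) :=
    ⟨_, rfl⟩
  have hzs : z ∈ scalars (Fin n) F := ⟨Units.mk0 e he0, hz.symm⟩
  have hzm : (z : Matrix (Fin n) (Fin n) F) = Matrix.scalar (Fin n) e := by rw [hz]; rfl
  refine ⟨B⁻¹ * z, ascusubf_subfieldSubgroup_scalar F₀ B⁻¹ z hzs, ?_⟩
  apply ascusubf_rational q σ hσ F₀
  have hB' : ((B⁻¹ * z : GL (Fin n) F) : Matrix (Fin n) (Fin n) F) = e • Bi := by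
    rw [Units.val_mul, hzm, ← hBi]
    ext i j
    rw [Matrix.scalar_apply, Matrix.mul_diagonal, Matrix.smul_apply, smul_eq_mul, mul_comm]
  have hGram : ascusubfAct σ ((B⁻¹ * z : GL (Fin n) F) : Matrix (Fin n) (Fin n) F) 1 = d • G := by
    rw [hB', hG]
    unfold ascusubfAct
    rw [Matrix.transpose_smul, Matrix.map_smul' σ e Bi, Matrix.smul_mul, Matrix.smul_mul,
      Matrix.mul_smul, smul_smul, hσ, ← pow_succ', hed]
    exact fun a b => map_mul σ a b
  intro i j
  rw [hGram, ← hτmem, Matrix.smul_apply, smul_eq_mul, map_mul, hcij]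
  calc τ d * (c * G i j) = (c * τ d) * G i j := by ring
    _ = d * G i j := by rw [hcd]


/-- SUBF-TWO : the index-two subfield structure for similitudes with multipliers in `F₀`, any dimension `n ≥ 2`. -/
theorem asusubf_rational_two (q : ℕ) (hF : Fintype.card F = q ^ 2) (hn : 2 ≤ n)
    {P : Subgroup (GL (Fin n) F)} (hA : AbsIrr P) (F₀ : Subfield F) (hmult : UMult q F₀ P)
    (hcard : Fintype.card F = Nat.card F₀ ^ 2) (B : GL (Fin n) F) (hB : RealisesOver F₀ B P) :
    (Odd q ∧ IsFormRationalStructure (hermForm n F q) F₀ 1 B⁻¹) ∨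
    (∃ ζ : F, Even n ∧ ζ ≠ 0 ∧ ζ + ζ ^ q = 0 ∧ IsFormRationalStructure (hermForm n F q) F₀ ζ B⁻¹ ∧
      ∀ u : Fin n → F, (∀ i, u i ∈ F₀) →
        hermForm n F q (((B⁻¹ : GL (Fin n) F) : Matrix (Fin n) (Fin n) F) *ᵥ u)
          (((B⁻¹ : GL (Fin n) F) : Matrix (Fin n) (Fin n) F) *ᵥ u) = 0) := by
  classical
  obtain ⟨p, m, σ, hp, hchar, hqm, hσ, hσσ⟩ := ascusubf_frob q hF
  obtain ⟨τ, hτ, hτmem⟩ := ascusubf_tau F₀
  have hQq : Nat.card F₀ = q := by
    have h1 : Nat.card F₀ ^ 2 = q ^ 2 := by rw [← hcard, hF]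
    exact Nat.pow_left_injective two_ne_zero h1
  have hτσ : ∀ a, τ a = σ a := by
    intro a
    rw [hτ, hσ, hQq]
  have hσmem : ∀ a, σ a = a ↔ a ∈ F₀ := by
    intro a
    rw [← hτσ]
    exact hτmem a
  have hmult' : ∀ x ∈ P, ∃ μ : F, σ μ = μ ∧
      ascusubfAct σ (x : Matrix (Fin n) (Fin n) F) 1 = μ • (1 : Matrix (Fin n) (Fin n) F) := by
    intro x hx
    obtain ⟨μ, hμ, h⟩ := asusubf_mult_matrix q σ hσ F₀ hmult x hx
    exact ⟨μ, (hσmem μ).mpr hμ, h⟩
  obtain ⟨c, hc⟩ := asusubf_key σ σ (fun _ => rfl) hmult' hA F₀ (fun a ha => (hσmem a).mpr ha) B hB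
  obtain ⟨Bm, hBm⟩ : ∃ Bm : Matrix (Fin n) (Fin n) F, Bm = (B : Matrix (Fin n) (Fin n) F) := ⟨_, rfl⟩
  obtain ⟨Bi, hBi⟩ : ∃ Bi : Matrix (Fin n) (Fin n) F,
      Bi = ((B⁻¹ : GL (Fin n) F) : Matrix (Fin n) (Fin n) F) := ⟨_, rfl⟩
  have hBB : Bm * Bi = 1 := by
    rw [hBm, hBi, ← Units.val_mul, mul_inv_cancel]; rfl
  have hBB' : Bi * Bm = 1 := by
    rw [hBm, hBi, ← Units.val_mul, inv_mul_cancel]; rfl
  rw [← hBi] at hc ⊢
  obtain ⟨G, hG⟩ : ∃ G : Matrix (Fin n) (Fin n) F, G = ascusubfAct σ Bi 1 := ⟨_, rfl⟩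
  rw [← hG] at hc
  have hnpos : 0 < n := by omega
  -- the form in terms of `G`
  have hform : ∀ u v : Fin n → F, hermForm n F q (Bi *ᵥ u) (Bi *ᵥ v) = u ⬝ᵥ (G *ᵥ (fun j => σ (v j))) := by
    intro u v
    rw [hG]
    exact ascusubf_herm_transport q σ hσ Bi u v
  have hform₀ : ∀ u v : Fin n → F, (∀ i, v i ∈ F₀) →
      hermForm n F q (Bi *ᵥ u) (Bi *ᵥ v) = u ⬝ᵥ (G *ᵥ v) := by
    intro u v hv
    rw [hform]
    have : (fun j => σ (v j)) = v := funext fun j => (hσmem (v j)).mpr (hv j)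
    rw [this]
  -- `G` is invertible, so it has a non-zero entry
  have hGdet : G.det ≠ 0 := by
    rw [hG]
    unfold ascusubfAct
    rw [Matrix.mul_one, Matrix.det_mul, Matrix.det_transpose]
    have h1 : IsUnit (Bi.map σ).det := by
      rw [hBi]
      exact ascform_map_isUnit_det σ B⁻¹
    have h2 : IsUnit Bi.det := by
      rw [hBi]
      exact (Matrix.isUnit_iff_isUnit_det _).mp (B⁻¹ : GL (Fin n) F).isUnit
    exact mul_ne_zero h2.ne_zero h1.ne_zero
  obtain ⟨i₀, j₀, hij⟩ : ∃ i j, G i j ≠ 0 := by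
    by_contra hcon
    push Not at hcon
    apply hGdet
    have hG0 : G = 0 := by
      ext i j
      exact hcon i j
    rw [hG0]
    have hne : Nonempty (Fin n) := ⟨⟨0, hnpos⟩⟩
    exact Matrix.det_zero
  have hGh : Gᵀ = G.map σ := by
    rw [hG]
    exact ascusubfAct_herm σ hσσ Bi
  have hGt : Gᵀ = c • G := by rw [hGh, hc]
  have hcc : c * c = 1 := by
    have e1 : G = (c * c) • G := by
      have := congrArg Matrix.transpose hGt
      rw [Matrix.transpose_transpose, Matrix.transpose_smul, hGt, smul_smul] at this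
      exact this
    have e2 : (c * c) * G i₀ j₀ = 1 * G i₀ j₀ := by
      have := congrFun (congrFun e1 i₀) j₀
      rw [Matrix.smul_apply, smul_eq_mul] at this
      rw [one_mul]
      exact this.symm
    exact mul_right_cancel₀ hij e2
  have hc2 : c = 1 ∨ c = -1 := by
    have e4 : (c - 1) * (c + 1) = 0 := by linear_combination hcc
    rcases mul_eq_zero.mp e4 with h | h
    · exact Or.inl (sub_eq_zero.mp h)
    · exact Or.inr (eq_neg_of_add_eq_zero_left h)
  have hq2 : 2 ≤ q := by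
    by_contra hlt
    have h1 : q ^ 2 ≤ 1 := by
      have : q ≤ 1 := by omega
      calc q ^ 2 ≤ 1 ^ 2 := Nat.pow_le_pow_left this 2
        _ = 1 := one_pow 2
    have := Fintype.one_lt_card (α := F)
    omega
  by_cases hc1 : c = 1
  · -- symmetric Gram matrix with entries in `F₀`
    rw [hc1, one_smul] at hc hGt
    have hGσ : ∀ i j, σ (G i j) = G i j := by
      intro i j
      have := congrFun (congrFun hc i) j
      simpa using this
    have hGsymm : ∀ i j, G j i = G i j := by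
      intro i j
      have := congrFun (congrFun hGt i) j
      simpa using this
    have hrat : IsFormRationalStructure (hermForm n F q) F₀ 1 B⁻¹ := by
      apply ascusubf_rational q σ hσ F₀
      intro i j
      rw [← hBi, ← hG, ← hσmem]
      exact hGσ i j
    by_cases hqodd : Odd q
    · exact Or.inl ⟨hqodd, hrat⟩
    right
    have hqeven : Even q := Nat.not_odd_iff_even.mp hqodd
    have hp2 : p = 2 := by
      have h1 : 2 ∣ p ^ m := by rw [← hqm]; exact even_iff_two_dvd.mp hqeven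
      have h2 : 2 ∣ p := Nat.Prime.dvd_of_dvd_pow Nat.prime_two h1
      exact ((Nat.prime_dvd_prime_iff_eq Nat.prime_two hp).mp h2).symm
    have h2F : (2 : F) = 0 := by
      have hch := hchar
      have := CharP.cast_eq_zero F p
      rw [hp2] at this
      exact_mod_cast this
    have hadd : ∀ a : F, a + a = 0 := by
      intro a
      linear_combination a * h2F
    -- the quadratic map
    obtain ⟨Q₀, hQ₀⟩ : ∃ Q₀ : (Fin n → F) → F, ∀ w, Q₀ w = w ⬝ᵥ (G *ᵥ w) := ⟨_, fun _ => rfl⟩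
    have hGT : Gᵀ = G := hGt
    have hQadd : ∀ w w', Q₀ (w + w') = Q₀ w + Q₀ w' := by
      intro w w'
      rw [hQ₀, hQ₀, hQ₀, Matrix.mulVec_add, dotProduct_add, add_dotProduct, add_dotProduct]
      have e1 : w' ⬝ᵥ (G *ᵥ w) = w ⬝ᵥ (G *ᵥ w') := by
        rw [Matrix.dotProduct_mulVec, ← Matrix.mulVec_transpose, hGT, dotProduct_comm]
      rw [e1]
      linear_combination hadd (w ⬝ᵥ (G *ᵥ w'))
    have hQsmul : ∀ (a : F) w, Q₀ (a • w) = a * a * Q₀ w := by
      intro a w
      rw [hQ₀, hQ₀, Matrix.mulVec_smul, dotProduct_smul, smul_dotProduct, smul_eq_mul, smul_eq_mul]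
      ring
    have hQinv : ∀ x ∈ P, ∃ μ : F, ∀ w, Q₀ ((Bm * (x : Matrix (Fin n) (Fin n) F) * Bi) *ᵥ w) = μ * Q₀ w := by
      intro x hx
      obtain ⟨μ, -, hμ⟩ := hmult' x hx
      refine ⟨μ, fun w => ?_⟩
      have e1 := asusubf_inv σ B x μ hμ
      rw [← hBm, ← hBi, ← hG] at e1
      have e2 : (Bm * (x : Matrix (Fin n) (Fin n) F) * Bi).map σ =
          Bm * (x : Matrix (Fin n) (Fin n) F) * Bi := by
        ext i j
        rw [Matrix.map_apply, hσmem, hBm, hBi]
        exact hB (x : Matrix (Fin n) (Fin n) F) ⟨x, hx, rfl⟩ i j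
      unfold ascusubfAct at e1
      rw [e2] at e1
      rw [hQ₀, hQ₀, ascusubf_bil_transport, e1, Matrix.smul_mulVec, dotProduct_smul, smul_eq_mul]
    let W : Submodule F (Fin n → F) :=
      { carrier := {v | Q₀ (Bm *ᵥ v) = 0}
        add_mem' := by
          intro a b ha hb
          show Q₀ (Bm *ᵥ (a + b)) = 0
          have ha' : Q₀ (Bm *ᵥ a) = 0 := ha
          have hb' : Q₀ (Bm *ᵥ b) = 0 := hb
          rw [Matrix.mulVec_add, hQadd, ha', hb', add_zero]
        zero_mem' := by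
          show Q₀ (Bm *ᵥ 0) = 0
          rw [Matrix.mulVec_zero, hQ₀, zero_dotProduct]
        smul_mem' := by
          intro a v hv
          show Q₀ (Bm *ᵥ (a • v)) = 0
          have hv' : Q₀ (Bm *ᵥ v) = 0 := hv
          rw [Matrix.mulVec_smul, hQsmul, hv', mul_zero] }
    have hWmem : ∀ v, v ∈ W ↔ Q₀ (Bm *ᵥ v) = 0 := fun v => Iff.rfl
    have hWinv : ∀ s ∈ matrixSet P, W.map (Matrix.toLin' s) ≤ W := by
      rintro _ ⟨x, hx, rfl⟩ _ ⟨v, hv, rfl⟩
      rw [hWmem, Matrix.toLin'_apply, Matrix.mulVec_mulVec]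
      have e : Bm * (x : Matrix (Fin n) (Fin n) F) = (Bm * (x : Matrix (Fin n) (Fin n) F) * Bi) * Bm := by
        rw [Matrix.mul_assoc, hBB', Matrix.mul_one]
      obtain ⟨μ, hμ⟩ := hQinv x hx
      rw [e, ← Matrix.mulVec_mulVec, hμ, (hWmem v).mp hv, mul_zero]
    have hall : ∀ w, Q₀ w = 0 := by
      rcases hA.1 W hWinv with hW | hW
      · exfalso
        let i0 : Fin n := ⟨0, by omega⟩
        let i1 : Fin n := ⟨1, by omega⟩
        have h01 : i0 ≠ i1 := by
          intro h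
          have := congrArg Fin.val h
          simp [i0, i1] at this
        have hkey : ∃ w : Fin n → F, w ≠ 0 ∧ Q₀ w = 0 := by
          by_cases ha : Q₀ (Pi.single i0 1) = 0
          · refine ⟨Pi.single i0 1, ?_, ha⟩
            intro h
            have := congrFun h i0
            simp at this
          · obtain ⟨a, ha'⟩ : ∃ a, a = Q₀ (Pi.single i0 1) := ⟨_, rfl⟩
            obtain ⟨b, hb'⟩ : ∃ b, b = Q₀ (Pi.single i1 1) := ⟨_, rfl⟩
            rw [← ha'] at ha
            obtain ⟨r, hr⟩ : ∃ r : F, r * r = b / a := by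
              obtain ⟨k, hk⟩ := hqeven
              refine ⟨(b / a) ^ (q * k), ?_⟩
              rw [← pow_add, ← mul_add, ← hk, ← sq, ← hF]
              exact FiniteField.pow_card _
            refine ⟨r • Pi.single i0 1 + Pi.single i1 1, ?_, ?_⟩
            · intro h
              have := congrFun h i1
              simp [h01.symm] at this
            · rw [hQadd, hQsmul, ← ha', ← hb', hr, div_mul_cancel₀ b ha]
              exact hadd b
        obtain ⟨w, hw0, hwQ⟩ := hkey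
        have hv : Bi *ᵥ w ∈ W := by
          rw [hWmem, Matrix.mulVec_mulVec, hBB, Matrix.one_mulVec]
          exact hwQ
        rw [hW, Submodule.mem_bot] at hv
        apply hw0
        have := congrArg (fun v => Bm *ᵥ v) hv
        simp only [Matrix.mulVec_mulVec, hBB, Matrix.one_mulVec, Matrix.mulVec_zero] at this
        exact this
      · intro w
        have h1 : Bi *ᵥ w ∈ W := by rw [hW]; exact Submodule.mem_top
        rw [hWmem, Matrix.mulVec_mulVec, hBB, Matrix.one_mulVec] at h1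
        exact h1
    have hdiag : ∀ i, G i i = 0 := by
      intro i
      have := hall (Pi.single i 1)
      rw [hQ₀] at this
      simpa using this
    have hskew : ∀ i j, G i j = - G j i := by
      intro i j
      rw [hGsymm i j]
      linear_combination hadd (G i j)
    refine ⟨1, ?_, one_ne_zero, ?_, hrat, ?_⟩
    · by_contra hne
      exact hGdet (ascnosymp_det (Nat.not_even_iff_odd.mp hne) G hskew hdiag)
    · rw [one_pow]
      exact hadd 1
    · intro u hu
      rw [hform₀ u u hu, ← hQ₀]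
      exact hall u
  · -- skew-symmetric Gram matrix
    have hcm : c = -1 := hc2.resolve_left hc1
    have h2F : (2 : F) ≠ 0 := by
      intro h2
      apply hc1
      rw [hcm]
      linear_combination -h2
    rw [hcm, neg_smul, one_smul] at hc hGt
    have hGσ : ∀ i j, σ (G i j) = - G i j := by
      intro i j
      have := congrFun (congrFun hc i) j
      simpa using this
    have hGskew : ∀ i j, G j i = - G i j := by
      intro i j
      have := congrFun (congrFun hGt i) j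
      simpa using this
    right
    -- a trace-zero element
    obtain ⟨θ, hθ⟩ : ∃ θ : F, σ θ ≠ θ := by
      by_contra hcon
      push Not at hcon
      have htop : F₀ = ⊤ := by
        rw [eq_top_iff]
        intro a _
        exact (hσmem a).mp (hcon a)
      have h1 : Nat.card F₀ = Fintype.card F := by
        rw [htop, Nat.card_eq_fintype_card]
        exact Fintype.card_congr (Subfield.topEquiv (K := F)).toEquiv
      rw [hQq, hF] at h1
      nlinarith
    obtain ⟨ζ, hζdef⟩ : ∃ ζ : F, ζ = θ - σ θ := ⟨_, rfl⟩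
    have hζ0 : ζ ≠ 0 := by
      rw [hζdef]
      exact sub_ne_zero.mpr (Ne.symm hθ)
    have hζσ : σ ζ = - ζ := by
      rw [hζdef, map_sub, hσσ]
      ring
    have hζG : ∀ i j, ζ * G i j ∈ F₀ := by
      intro i j
      rw [← hσmem, map_mul, hζσ, hGσ]
      ring
    refine ⟨ζ, ?_, hζ0, ?_, ?_, ?_⟩
    · by_contra hne
      have hodd : Odd n := Nat.not_even_iff_odd.mp hne
      have h1 : Gᵀ = -G := hGt
      have h2 := congrArg Matrix.det h1
      rw [Matrix.det_transpose, Matrix.det_neg, Fintype.card_fin, hodd.neg_one_pow] at h2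
      have e6 : (2 : F) * G.det = 0 := by linear_combination h2
      rcases mul_eq_zero.mp e6 with h | h
      · exact h2F h
      · exact hGdet h
    · rw [← hσ, hζσ]
      ring
    · intro u v hu hv
      have hfv := hform₀ u v hv
      rw [hBi] at hfv
      rw [hfv, ← smul_eq_mul, ← dotProduct_smul, ← Matrix.smul_mulVec]
      apply asud2s_form_mem F₀ _ _ u v hu hv
      intro i j
      rw [Matrix.smul_apply, smul_eq_mul]
      exact hζG i j
    · intro u hu
      rw [hform₀ u u hu]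
      have e1 : u ⬝ᵥ (G *ᵥ u) = - (u ⬝ᵥ (G *ᵥ u)) := by
        have h1 : Gᵀ = -G := hGt
        calc u ⬝ᵥ (G *ᵥ u) = (Gᵀ *ᵥ u) ⬝ᵥ u := by
              rw [Matrix.dotProduct_mulVec, ← Matrix.mulVec_transpose]
          _ = - (u ⬝ᵥ (G *ᵥ u)) := by
              rw [h1, Matrix.neg_mulVec, neg_dotProduct, dotProduct_comm]
      have e2 : (2 : F) * (u ⬝ᵥ (G *ᵥ u)) = 0 := by linear_combination e1
      rcases mul_eq_zero.mp e2 with h | h
      · exact absurd h h2F
      · exact h


end Cfsg.Agent.Lib.Helper19.ASU
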