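import Mathlib
import Cfsg.Prelude.Def_GeometricClasses
import Cfsg.Agent.Lib.Helper27.ASC.Defs
import Cfsg.Agent.Lib.Helper19.ASG.Defs
import Cfsg.Agent.Lib.Helper26.ASGD1.Defs
import Cfsg.Agent.Lib.Helper19.ASU.Defs
import Cfsg.Agent.Lib.Lead.ASCU.Defs
import Cfsg.Agent.Lib.Helper16.ASCUUSUBFA
import Cfsg.Agent.Lib.Helper10.ASCSUBF2
import Cfsg.Agent.Lib.helper23.ASGD1NSUP
import Cfsg.Agent.Lib.Helper10.ASUSUBFKEY
import Cfsg.Agent.Lib.Helper10.ASUSUBFRAT

set_option autoImplicit false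
set_option linter.unusedVariables false
set_option linter.unusedSectionVars false

/-!
# Project ASU (helper19) -> S5663, block SUBF (helper10): `u_subfield_case`, VERBATIM

An absolutely irreducible group `P` normalised by `H ≤ GU_n(q)`, realisable over a proper subfield `F₀`, consisting of
similitudes of the hermitian form with multipliers in `F₀`: `H` lies in a subfield member (class 5, one of the three kinds).
`F₁ ⊇ F₀` of prime index `ℓ` (`exists_prime_index_subfield`), `H ≤ subfieldSubgroup F₁ B⁻¹` (`usubfield_explicit` on `H ⊔ P`),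
then `asusubf_rational_odd` / `asusubf_rational_two`.
-/

namespace Cfsg.Agent.Lib.Helper19.ASU

open Cfsg Cfsg.Geo Cfsg.Agent.Lib.Helper27.ASC Cfsg.Agent.Lib.Helper19.ASG Cfsg.Agent.Lib.Lead.ASCU
open scoped MatrixGroups Matrix

variable {n : ℕ} {F : Type*} [Field F] [Fintype F]

/-- U-SUBF -/
theorem u_subfield_case (q : ℕ) (hF : Fintype.card F = q ^ 2) (hn : 3 ≤ n) {H P : Subgroup (GL (Fin n) F)}
    (hI : H ≤ GU n F q) (hPH : D1NormBy P H) (hA : AbsIrr P) (F₀ : Subfield F) (h0 : F₀ ≠ ⊤)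
    (hmult : UMult q F₀ P) (hR : RealisableOver F₀ (matrixSet P)) : InU n q H := by
  obtain ⟨B, hB0⟩ := hR
  obtain ⟨F₁, ℓ, h01, hℓ, hcard⟩ := exists_prime_index_subfield F₀ h0
  have hB : RealisesOver F₁ B P := realisesOver_mono h01 hB0
  have hmult₁ : UMult q F₁ P := asusubf_mult_mono h01 hmult
  have hle : H ≤ subfieldSubgroup F₁ B⁻¹ :=
    le_sup_left.trans (Cfsg.Agent.Lib.Lead.ASCU.usubfield_explicit (d1_normalIn_sup hPH).1 hA F₁ B hB)
  rcases hℓ.eq_two_or_odd' with h2 | hoddl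
  · subst h2
    rcases asusubf_rational_two q hF (by omega) hA F₁ hmult₁ hcard B hB with
      ⟨hq, hrat⟩ | ⟨ζ, hev, hζ, hζq, hrat, halt⟩
    · exact inU_of_subfield_orth hI F₁ hq hcard B⁻¹ hrat hle
    · exact inU_of_subfield_symp hI F₁ hev hcard B⁻¹ ζ hζ hζq hrat halt hle
  · obtain ⟨B', hsame, hrat⟩ := asusubf_rational_odd q hF hA F₁ hmult₁ ℓ hℓ hoddl hcard B hB
    rw [← hsame] at hle
    exact inU_of_subfield_odd hI F₁ hℓ hoddl hcard B' hrat hle

end Cfsg.Agent.Lib.Helper19.ASU
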