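import Mathlib
import Cfsg.Agent.Lib.Helper27.AltFus.Defs
import Cfsg.Agent.Lib.helper3.AltFusE0
import Cfsg.Agent.Lib.Helper25.AltFusE3

set_option autoImplicit false

/-! Piece E4 of project AltFus (S5165): the normalizer of `W2` in the alternating group is generated
by `2`-elements. -/

namespace Cfsg.Agent.Lib.Helper10.AltFus
open Cfsg.Agent.Lib.Helper27.AltFus Equiv
open Cfsg.Agent.Lib.helper3.AltFus (dd_apply_inl dd_apply_inr_inl dd_apply_inr_inr dd_mem_DD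
  mem_DD_iff sign_dd ind DD_pgroup dd_mul dd_inv)
open Cfsg.Agent.Lib.Helper25.AltFus (vv vv_mem_W2 vv_apply_same vv_apply_other vv_apply_inr ee
  ee_mem_W2 ee_apply_two ee_apply_pt)

section

variable (k s1 r : ℕ)

/-! ### conjugation-invariant relations defined from `W2` -/

/-- every element of `W2` fixing `a` fixes `b` -/
def RR (a b : Mdl2 k s1 r) : Prop := ∀ w ∈ W2 k s1 r, w a = a → w b = b

/-- `a` and `b` lie in the same `W2`-orbit -/
def BB (a b : Mdl2 k s1 r) : Prop := ∃ w ∈ W2 k s1 r, w a = b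

/-- the `W2`-orbit of `a` has at least three points -/
def P3 (a : Mdl2 k s1 r) : Prop :=
  ∃ w ∈ W2 k s1 r, ∃ w' ∈ W2 k s1 r, w a ≠ a ∧ w' a ≠ a ∧ w a ≠ w' a

/-- `a` is fixed by `W2` -/
def QQ (a : Mdl2 k s1 r) : Prop := ∀ w ∈ W2 k s1 r, w a = a

variable {k s1 r}

theorem conj_mem_of_normalizer {g : Perm (Mdl2 k s1 r)}
    (hg : g ∈ Subgroup.normalizer ((W2 k s1 r : Subgroup (Perm (Mdl2 k s1 r))) : Set (Perm (Mdl2 k s1 r))))
    {w : Perm (Mdl2 k s1 r)} (hw : w ∈ W2 k s1 r) : g * w * g⁻¹ ∈ W2 k s1 r :=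
  (Subgroup.mem_normalizer_iff.mp hg w).mp hw

theorem conj_mem_of_normalizer' {g : Perm (Mdl2 k s1 r)}
    (hg : g ∈ Subgroup.normalizer ((W2 k s1 r : Subgroup (Perm (Mdl2 k s1 r))) : Set (Perm (Mdl2 k s1 r))))
    {w : Perm (Mdl2 k s1 r)} (hw : w ∈ W2 k s1 r) : g⁻¹ * w * g ∈ W2 k s1 r := by
  have := conj_mem_of_normalizer (Subgroup.inv_mem _ hg) hw
  rwa [inv_inv] at this

theorem RR_conj {g : Perm (Mdl2 k s1 r)}
    (hg : g ∈ Subgroup.normalizer ((W2 k s1 r : Subgroup (Perm (Mdl2 k s1 r))) : Set (Perm (Mdl2 k s1 r))))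
    {a b : Mdl2 k s1 r} (h : RR k s1 r a b) : RR k s1 r (g a) (g b) := by
  intro w hw hwa
  have h1 := h _ (conj_mem_of_normalizer' hg hw) (by
    simp only [Perm.mul_apply]
    rw [hwa]; simp)
  simp only [Perm.mul_apply] at h1
  have := congrArg g h1
  simpa using this

theorem BB_conj {g : Perm (Mdl2 k s1 r)}
    (hg : g ∈ Subgroup.normalizer ((W2 k s1 r : Subgroup (Perm (Mdl2 k s1 r))) : Set (Perm (Mdl2 k s1 r))))
    {a b : Mdl2 k s1 r} (h : BB k s1 r a b) : BB k s1 r (g a) (g b) := by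
  obtain ⟨w, hw, hab⟩ := h
  refine ⟨g * w * g⁻¹, conj_mem_of_normalizer hg hw, ?_⟩
  simp [Perm.mul_apply, hab]

theorem P3_conj {g : Perm (Mdl2 k s1 r)}
    (hg : g ∈ Subgroup.normalizer ((W2 k s1 r : Subgroup (Perm (Mdl2 k s1 r))) : Set (Perm (Mdl2 k s1 r))))
    {a : Mdl2 k s1 r} (h : P3 k s1 r a) : P3 k s1 r (g a) := by
  obtain ⟨w, hw, w', hw', h1, h2, h3⟩ := h
  refine ⟨g * w * g⁻¹, conj_mem_of_normalizer hg hw, g * w' * g⁻¹, conj_mem_of_normalizer hg hw', ?_, ?_, ?_⟩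
  · have e : g⁻¹ (g a) = a := by simp
    simp only [Perm.mul_apply, e, ne_eq, EmbeddingLike.apply_eq_iff_eq]
    exact h1
  · have e : g⁻¹ (g a) = a := by simp
    simp only [Perm.mul_apply, e, ne_eq, EmbeddingLike.apply_eq_iff_eq]
    exact h2
  · have e : g⁻¹ (g a) = a := by simp
    simp only [Perm.mul_apply, e, ne_eq, EmbeddingLike.apply_eq_iff_eq]
    exact h3

theorem QQ_conj {g : Perm (Mdl2 k s1 r)}
    (hg : g ∈ Subgroup.normalizer ((W2 k s1 r : Subgroup (Perm (Mdl2 k s1 r))) : Set (Perm (Mdl2 k s1 r))))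
    {a : Mdl2 k s1 r} (h : QQ k s1 r a) : QQ k s1 r (g a) := by
  intro w hw
  have h1 := h _ (conj_mem_of_normalizer' hg hw)
  simp only [Perm.mul_apply] at h1
  have := congrArg g h1
  simpa using this

/-! ### the relations in coordinates -/

theorem exists_dd_of_mem_W2 {w : Perm (Mdl2 k s1 r)} (hw : w ∈ W2 k s1 r) :
    ∃ (ε : Fin k → ZMod 2) (δ : Fin k → ZMod 2 → ZMod 2) (η : Fin s1 → ZMod 2),
      w = dd k s1 r ε δ η :=
  (mem_DD_iff k s1 r w).mp (Subgroup.mem_inf.mp hw).1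

theorem z2_add_one_ne (x : ZMod 2) : x + 1 ≠ x := by
  revert x; decide

theorem P3_inl (q : Fin k × (ZMod 2 × ZMod 2)) : P3 k s1 r (Sum.inl q) := by
  rcases q with ⟨j, u, x⟩
  refine ⟨vv k s1 r j 0 1, vv_mem_W2 k s1 r j 0 1, vv k s1 r j 1 0, vv_mem_W2 k s1 r j 1 0, ?_, ?_, ?_⟩
  · rw [vv_apply_same]
    intro h
    have := congrArg (fun q : Fin k × (ZMod 2 × ZMod 2) => q.2.2) (Sum.inl_injective h)
    exact z2_add_one_ne x this
  · rw [vv_apply_same]
    intro h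
    have := congrArg (fun q : Fin k × (ZMod 2 × ZMod 2) => q.2.1) (Sum.inl_injective h)
    exact z2_add_one_ne u this
  · rw [vv_apply_same, vv_apply_same]
    intro h
    have := congrArg (fun q : Fin k × (ZMod 2 × ZMod 2) => q.2.1) (Sum.inl_injective h)
    simp only [add_zero] at this
    exact z2_add_one_ne u this.symm

theorem not_P3_inr (z : (Fin s1 × ZMod 2) ⊕ Fin r) : ¬ P3 k s1 r (Sum.inr z) := by
  rintro ⟨w, hw, w', hw', h1, h2, h3⟩
  obtain ⟨ε, δ, η, rfl⟩ := exists_dd_of_mem_W2 hw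
  obtain ⟨ε', δ', η', rfl⟩ := exists_dd_of_mem_W2 hw'
  rcases z with ⟨i, x⟩ | t
  · rw [dd_apply_inr_inl] at h1 h2 h3
    rw [dd_apply_inr_inl] at h3
    have key : ∀ a b x : ZMod 2, x + a ≠ x → x + b ≠ x → x + a = x + b := by decide
    apply h3
    have e := key (η i) (η' i) x (fun h => h1 (by rw [h])) (fun h => h2 (by rw [h]))
    rw [e]
  · exact h1 (dd_apply_inr_inr k s1 r ε δ η t)

theorem QQ_pt (t : Fin r) : QQ k s1 r (Sum.inr (Sum.inr t)) := by
  intro w hw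
  obtain ⟨ε, δ, η, rfl⟩ := exists_dd_of_mem_W2 hw
  exact dd_apply_inr_inr k s1 r ε δ η t

theorem not_QQ_two (hk : 1 ≤ k) (i : Fin s1) (x : ZMod 2) :
    ¬ QQ k s1 r (Sum.inr (Sum.inl (i, x))) := by
  intro h
  have := h _ (ee_mem_W2 k s1 r ⟨0, hk⟩ i)
  rw [ee_apply_two] at this
  have := congrArg (fun q : Fin s1 × ZMod 2 => q.2) (Sum.inl_injective (Sum.inr_injective this))
  exact z2_add_one_ne x this

theorem BB_inl_iff (j j' : Fin k) (v v' : ZMod 2 × ZMod 2) :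
    BB k s1 r (Sum.inl (j, v)) (Sum.inl (j', v')) ↔ j = j' := by
  constructor
  · rintro ⟨w, hw, h⟩
    obtain ⟨ε, δ, η, rfl⟩ := exists_dd_of_mem_W2 hw
    rcases v with ⟨u, x⟩
    rw [dd_apply_inl] at h
    exact congrArg (fun q : Fin k × (ZMod 2 × ZMod 2) => q.1) (Sum.inl_injective h)
  · rintro rfl
    rcases v with ⟨u, x⟩
    rcases v' with ⟨u', x'⟩
    refine ⟨vv k s1 r j (u' + u) (x' + x), vv_mem_W2 k s1 r j _ _, ?_⟩
    rw [vv_apply_same]
    have key : ∀ a b : ZMod 2, a + (b + a) = b := by decide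
    rw [key, key]

theorem RR_same (j : Fin k) (u x x' : ZMod 2) :
    RR k s1 r (Sum.inl (j, (u, x))) (Sum.inl (j, (u, x'))) := by
  intro w hw h
  obtain ⟨ε, δ, η, rfl⟩ := exists_dd_of_mem_W2 hw
  rw [dd_apply_inl] at h ⊢
  have h' := Sum.inl_injective h
  have h1 : u + ε j = u := congrArg (fun q : Fin k × (ZMod 2 × ZMod 2) => q.2.1) h'
  have h2 : x + δ j u = x := congrArg (fun q : Fin k × (ZMod 2 × ZMod 2) => q.2.2) h'
  have key : ∀ a b c : ZMod 2, a + b = a → c + b = c := by decide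
  rw [h1, key _ _ x' h2]

theorem sum_ind (j : Fin k) (u : ZMod 2) : ∑ j', (ind k j u j' 0 + ind k j u j' 1) = 1 := by
  rw [Finset.sum_eq_single j]
  · simp only [ind, Pi.single_eq_same]
    revert u; decide
  · intro j' _ hj'
    simp [ind, Pi.single_eq_of_ne hj']
  · intro h; exact absurd (Finset.mem_univ j) h

theorem one_add_one_z2 : (1 : ZMod 2) + 1 = 0 := by decide

theorem RR_imp (h6 : 2 ≤ k ∨ s1 = 1) (j j' : Fin k) (u x u' x' : ZMod 2)
    (h : RR k s1 r (Sum.inl (j, (u, x))) (Sum.inl (j', (u', x')))) : j' = j ∧ u' = u := by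
  by_cases hj : j' = j
  · subst hj
    refine ⟨rfl, ?_⟩
    by_contra hu
    -- an element of `W2` fixing `(j', (u, x))` and moving `(j', (u', x'))`
    have hmove : ∀ (δ : Fin k → ZMod 2 → ZMod 2) (η : Fin s1 → ZMod 2),
        dd k s1 r 0 δ η ∈ W2 k s1 r → δ j' u = 0 → δ j' u' = 1 → False := by
      intro δ η hw h0 h1
      have h2 := h _ hw (by rw [dd_apply_inl, h0]; simp)
      rw [dd_apply_inl, h1] at h2
      have := congrArg (fun q : Fin k × (ZMod 2 × ZMod 2) => q.2.2) (Sum.inl_injective h2)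
      exact z2_add_one_ne x' this
    have hsingle : (Pi.single u' (1 : ZMod 2) : ZMod 2 → ZMod 2) u = 0 :=
      Pi.single_eq_of_ne (fun h' => hu h'.symm) _
    rcases h6 with h2k | hs
    · obtain ⟨j₂, hj₂⟩ : ∃ j₂ : Fin k, j₂ ≠ j' := by
        by_cases h0 : j' = ⟨0, by omega⟩
        · exact ⟨⟨1, by omega⟩, by rw [h0]; intro h'; simpa using congrArg Fin.val h'⟩
        · exact ⟨⟨0, by omega⟩, fun h' => h0 h'.symm⟩
      refine hmove (ind k j' u' + ind k j₂ 0) 0 ?_ ?_ ?_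
      · refine Subgroup.mem_inf.mpr ⟨dd_mem_DD k s1 r _ _ _, (sign_dd k s1 r _ _ _).mpr ?_⟩
        simp only [Pi.add_apply, Pi.zero_apply, Finset.sum_const_zero, add_zero]
        have : ∀ j : Fin k, ind k j' u' j 0 + ind k j₂ 0 j 0 + (ind k j' u' j 1 + ind k j₂ 0 j 1) =
            (ind k j' u' j 0 + ind k j' u' j 1) + (ind k j₂ 0 j 0 + ind k j₂ 0 j 1) := by
          intro j; ring
        rw [Finset.sum_congr rfl (fun j _ => this j), Finset.sum_add_distrib, sum_ind, sum_ind]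
        exact one_add_one_z2
      · simp only [Pi.add_apply, ind, Pi.single_eq_same, Pi.single_eq_of_ne hj₂.symm, hsingle]
        simp
      · simp only [Pi.add_apply, ind, Pi.single_eq_same, Pi.single_eq_of_ne hj₂.symm]
        simp
    · have i : Fin s1 := ⟨0, by omega⟩
      refine hmove (ind k j' u') (Pi.single i 1) ?_ ?_ ?_
      · refine Subgroup.mem_inf.mpr ⟨dd_mem_DD k s1 r _ _ _, (sign_dd k s1 r _ _ _).mpr ?_⟩
        rw [sum_ind, Finset.sum_pi_single']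
        simp only [Finset.mem_univ, if_true]
        exact one_add_one_z2
      · simp only [ind, Pi.single_eq_same, hsingle]
      · simp only [ind, Pi.single_eq_same]
  · exfalso
    have h2 := h _ (vv_mem_W2 k s1 r j' 1 0) (vv_apply_other k s1 r j' j (fun h' => hj h'.symm) 1 0 u x)
    rw [vv_apply_same] at h2
    have := congrArg (fun q : Fin k × (ZMod 2 × ZMod 2) => q.2.1) (Sum.inl_injective h2)
    exact z2_add_one_ne u' this

/-! ### the structure of an element normalizing `W2` -/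

theorem norm_inl {g : Perm (Mdl2 k s1 r)}
    (hg : g ∈ Subgroup.normalizer ((W2 k s1 r : Subgroup (Perm (Mdl2 k s1 r))) : Set (Perm (Mdl2 k s1 r))))
    (q : Fin k × (ZMod 2 × ZMod 2)) : ∃ q', g (Sum.inl q) = Sum.inl q' := by
  have h := P3_conj hg (P3_inl (s1 := s1) (r := r) q)
  rcases hq : g (Sum.inl q) with q' | z
  · exact ⟨q', rfl⟩
  · rw [hq] at h
    exact absurd h (not_P3_inr z)

theorem norm_inr {g : Perm (Mdl2 k s1 r)}
    (hg : g ∈ Subgroup.normalizer ((W2 k s1 r : Subgroup (Perm (Mdl2 k s1 r))) : Set (Perm (Mdl2 k s1 r))))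
    (z : (Fin s1 × ZMod 2) ⊕ Fin r) : ∃ z', g (Sum.inr z) = Sum.inr z' := by
  rcases hq : g (Sum.inr z) with q' | z'
  · exfalso
    obtain ⟨q'', hq''⟩ := norm_inl (Subgroup.inv_mem _ hg) q'
    have : g⁻¹ (Sum.inl q') = Sum.inr z := by rw [← hq]; simp
    rw [this] at hq''
    exact Sum.inr_ne_inl hq''
  · exact ⟨z', rfl⟩

theorem norm_pt (hk : 1 ≤ k) (hr : r ≤ 1) {g : Perm (Mdl2 k s1 r)}
    (hg : g ∈ Subgroup.normalizer ((W2 k s1 r : Subgroup (Perm (Mdl2 k s1 r))) : Set (Perm (Mdl2 k s1 r))))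
    (t : Fin r) : g (Sum.inr (Sum.inr t)) = Sum.inr (Sum.inr t) := by
  obtain ⟨z', hz'⟩ := norm_inr hg (Sum.inr t)
  have h := QQ_conj hg (QQ_pt (k := k) (s1 := s1) t)
  rw [hz'] at h ⊢
  rcases z' with ⟨i, x⟩ | t'
  · exact absurd h (not_QQ_two hk i x)
  · have : Subsingleton (Fin r) := Fin.subsingleton_iff_le_one.2 hr
    rw [Subsingleton.elim t' t]

theorem norm_two (hk : 1 ≤ k) (hs1 : s1 ≤ 1) {g : Perm (Mdl2 k s1 r)}
    (hg : g ∈ Subgroup.normalizer ((W2 k s1 r : Subgroup (Perm (Mdl2 k s1 r))) : Set (Perm (Mdl2 k s1 r))))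
    (i : Fin s1) (x : ZMod 2) : ∃ x', g (Sum.inr (Sum.inl (i, x))) = Sum.inr (Sum.inl (i, x')) := by
  obtain ⟨z', hz'⟩ := norm_inr hg (Sum.inl (i, x))
  rcases z' with ⟨i', x'⟩ | t'
  · have : Subsingleton (Fin s1) := Fin.subsingleton_iff_le_one.2 hs1
    rw [Subsingleton.elim i' i] at hz'
    exact ⟨x', hz'⟩
  · exfalso
    have h := QQ_conj (Subgroup.inv_mem _ hg) (QQ_pt (k := k) (s1 := s1) t')
    have : g⁻¹ (Sum.inr (Sum.inr t')) = Sum.inr (Sum.inl (i, x)) := by rw [← hz']; simp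
    rw [this] at h
    exact not_QQ_two hk i x h

/-- an element normalizing `W2` and preserving every `4`-block lies in `DD` -/
theorem mem_DD_of_preserves (hk : 1 ≤ k) (h6 : 2 ≤ k ∨ s1 = 1) (hs1 : s1 ≤ 1) (hr : r ≤ 1)
    {g : Perm (Mdl2 k s1 r)}
    (hg : g ∈ Subgroup.normalizer ((W2 k s1 r : Subgroup (Perm (Mdl2 k s1 r))) : Set (Perm (Mdl2 k s1 r))))
    (hpres : ∀ (j : Fin k) (v : ZMod 2 × ZMod 2), ∃ v', g (Sum.inl (j, v)) = Sum.inl (j, v')) :
    g ∈ DD k s1 r := by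
  have hpres' : ∀ (j : Fin k) (u x : ZMod 2), ∃ v' : ZMod 2 × ZMod 2,
      g (Sum.inl (j, (u, x))) = Sum.inl (j, v') := fun j u x => hpres j (u, x)
  choose V hV using hpres'
  -- the `2`-block is determined by `(j, u)`
  have hU : ∀ j u x, (V j u x).1 = (V j u 0).1 := by
    intro j u x
    have h := RR_conj hg (RR_same (s1 := s1) (r := r) j u 0 x)
    rw [hV, hV] at h
    have := RR_imp h6 j j (V j u 0).1 (V j u 0).2 (V j u x).1 (V j u x).2 h
    exact this.2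
  have hinj : ∀ j u x u' x', V j u x = V j u' x' → u = u' ∧ x = x' := by
    intro j u x u' x' h
    have : g (Sum.inl (j, (u, x))) = g (Sum.inl (j, (u', x'))) := by rw [hV, hV, h]
    have := Sum.inl_injective (g.injective this)
    simp only [Prod.mk.injEq, true_and] at this
    exact this
  -- the two `2`-blocks are permuted
  have hU01 : ∀ j, (V j 0 0).1 ≠ (V j 1 0).1 := by
    intro j heq
    have e1 : (V j 0 1).1 = (V j 0 0).1 := hU j 0 1
    have n1 : V j 0 0 ≠ V j 0 1 := fun h => by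
      have := (hinj j 0 0 0 1 h).2; revert this; decide
    have n2 : V j 0 0 ≠ V j 1 0 := fun h => by
      have := (hinj j 0 0 1 0 h).1; revert this; decide
    have n3 : V j 0 1 ≠ V j 1 0 := fun h => by
      have := (hinj j 0 1 1 0 h).1; revert this; decide
    have key : ∀ a1 a2 b1 b2 c1 c2 : ZMod 2, b1 = a1 → a1 = c1 → ¬ (a1 = b1 ∧ a2 = b2) →
        ¬ (a1 = c1 ∧ a2 = c2) → ¬ (b1 = c1 ∧ b2 = c2) → False := by
      decide
    exact key (V j 0 0).1 (V j 0 0).2 (V j 0 1).1 (V j 0 1).2 (V j 1 0).1 (V j 1 0).2 e1 heq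
      (fun h => n1 (Prod.ext h.1 h.2)) (fun h => n2 (Prod.ext h.1 h.2))
      (fun h => n3 (Prod.ext h.1 h.2))
  have hX01 : ∀ j u, (V j u 0).2 ≠ (V j u 1).2 := by
    intro j u heq
    have e1 : (V j u 1).1 = (V j u 0).1 := hU j u 1
    have : V j u 0 = V j u 1 := Prod.ext e1.symm heq
    have := (hinj j u 0 u 1 this).2
    revert this; decide
  -- the `2`-block part
  have htwo : ∀ (i : Fin s1) (x : ZMod 2), ∃ x', g (Sum.inr (Sum.inl (i, x))) = Sum.inr (Sum.inl (i, x')) :=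
    norm_two hk hs1 hg
  choose E hE using htwo
  have hE01 : ∀ i, E i 0 ≠ E i 1 := by
    intro i heq
    have : g (Sum.inr (Sum.inl (i, 0))) = g (Sum.inr (Sum.inl (i, 1))) := by rw [hE, hE, heq]
    have := Sum.inl_injective (Sum.inr_injective (g.injective this))
    simp only [Prod.mk.injEq, true_and] at this
    revert this; decide
  rw [mem_DD_iff]
  refine ⟨fun j => (V j 0 0).1, fun j u => (V j u 0).2, fun i => E i 0, ?_⟩
  ext q
  rcases q with ⟨j, u, x⟩ | ⟨i, x⟩ | t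
  · rw [hV, dd_apply_inl]
    congr 2
    refine Prod.ext ?_ ?_
    · rw [hU j u x]
      have key : ∀ (a b u : ZMod 2), a ≠ b → (if u = 0 then a else b) = u + a := by decide
      have := key _ _ u (hU01 j)
      rw [← this]
      have hu : u = 0 ∨ u = 1 := Cfsg.Agent.Lib.helper3.AltFus.zmod2_cases u
      rcases hu with rfl | rfl
      · simp
      · simp
    · have key : ∀ (a b x : ZMod 2), a ≠ b → (if x = 0 then a else b) = x + a := by decide
      have := key _ _ x (hX01 j u)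
      show (V j u x).2 = x + (V j u 0).2
      rw [← this]
      have hx : x = 0 ∨ x = 1 := Cfsg.Agent.Lib.helper3.AltFus.zmod2_cases x
      rcases hx with rfl | rfl
      · simp
      · simp
  · rw [hE, dd_apply_inr_inl]
    congr 3
    have key : ∀ (a b x : ZMod 2), a ≠ b → (if x = 0 then a else b) = x + a := by decide
    have := key _ _ x (hE01 i)
    rw [← this]
    have hx : x = 0 ∨ x = 1 := Cfsg.Agent.Lib.helper3.AltFus.zmod2_cases x
    rcases hx with rfl | rfl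
    · simp
    · simp
  · rw [norm_pt hk hr hg t, dd_apply_inr_inr]

/-! ### permutations of the `4`-blocks -/

variable (k s1 r) in
/-- `π ↦ ext4 (blk4 π)` as a monoid homomorphism -/
def blk4Hom : Perm (Fin k) →* Perm (Mdl2 k s1 r) where
  toFun π := ext4 (blk4 k π)
  map_one' := by
    ext q
    rcases q with ⟨j, v⟩ | z <;> rfl
  map_mul' π π' := by
    ext q
    rcases q with ⟨j, v⟩ | z <;> rfl

theorem blk4Hom_inl (π : Perm (Fin k)) (j : Fin k) (v : ZMod 2 × ZMod 2) :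
    blk4Hom k s1 r π (Sum.inl (j, v)) = Sum.inl (π j, v) := rfl

theorem blk4Hom_inr (π : Perm (Fin k)) (z : (Fin s1 × ZMod 2) ⊕ Fin r) :
    blk4Hom k s1 r π (Sum.inr z) = Sum.inr z := rfl

theorem sign_blk4Hom (π : Perm (Fin k)) : Perm.sign (blk4Hom k s1 r π) = 1 := by
  show Perm.sign (Equiv.Perm.sumCongr (blk4 k π) 1) = 1
  rw [Perm.sign_sumCongr, Perm.sign_one, mul_one]
  have : blk4 k π = Equiv.prodCongrLeft (fun _ : ZMod 2 × ZMod 2 => π) := by
    ext q <;> rfl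
  rw [this, Perm.sign_prodCongrLeft, Finset.prod_const, Finset.card_univ]
  have : Fintype.card (ZMod 2 × ZMod 2) = 4 := by
    rw [Fintype.card_prod, ZMod.card]
  rw [this]
  rcases Int.units_eq_one_or (Perm.sign π) with h | h <;> rw [h] <;> rfl

theorem blk4Hom_conj_dd (π : Perm (Fin k)) (ε : Fin k → ZMod 2) (δ : Fin k → ZMod 2 → ZMod 2)
    (η : Fin s1 → ZMod 2) :
    blk4Hom k s1 r π * dd k s1 r ε δ η * (blk4Hom k s1 r π)⁻¹ =
      dd k s1 r (fun j => ε (π⁻¹ j)) (fun j => δ (π⁻¹ j)) η := by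
  rw [← map_inv]
  ext q
  rcases q with ⟨j, u, x⟩ | ⟨i, x⟩ | t
  · rw [Perm.mul_apply, Perm.mul_apply, blk4Hom_inl, dd_apply_inl, blk4Hom_inl, dd_apply_inl]
    simp
  · rfl
  · rfl

theorem blk4Hom_conj_mem (π : Perm (Fin k)) {w : Perm (Mdl2 k s1 r)} (hw : w ∈ W2 k s1 r) :
    blk4Hom k s1 r π * w * (blk4Hom k s1 r π)⁻¹ ∈ W2 k s1 r := by
  obtain ⟨ε, δ, η, rfl⟩ := exists_dd_of_mem_W2 hw
  refine Subgroup.mem_inf.mpr ⟨?_, ?_⟩
  · rw [blk4Hom_conj_dd]; exact dd_mem_DD k s1 r _ _ _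
  · have hA := (Subgroup.mem_inf.mp hw).2
    rw [Perm.mem_alternatingGroup] at hA ⊢
    rw [map_mul, map_mul, map_inv, hA, sign_blk4Hom]; rfl

theorem blk4Hom_mem_normalizer (π : Perm (Fin k)) :
    blk4Hom k s1 r π ∈
      Subgroup.normalizer ((W2 k s1 r : Subgroup (Perm (Mdl2 k s1 r))) : Set (Perm (Mdl2 k s1 r))) := by
  rw [Subgroup.mem_normalizer_iff]
  intro w
  constructor
  · exact blk4Hom_conj_mem π
  · intro h
    have h2 := blk4Hom_conj_mem (s1 := s1) (r := r) π⁻¹ h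
    rw [map_inv] at h2
    have e : (blk4Hom k s1 r π)⁻¹ * (blk4Hom k s1 r π * w * (blk4Hom k s1 r π)⁻¹) *
        ((blk4Hom k s1 r π)⁻¹)⁻¹ = w := by group
    rwa [e] at h2

theorem blk4Hom_mem_OpN (π : Perm (Fin k)) :
    blk4Hom k s1 r π ∈ OpN 2 (alternatingGroup (Mdl2 k s1 r)) (W2 k s1 r) := by
  have hπ : π ∈ Subgroup.closure {σ : Perm (Fin k) | σ.IsSwap} := by
    rw [Perm.closure_isSwap]; exact Subgroup.mem_top _
  have hle : Subgroup.closure {σ : Perm (Fin k) | σ.IsSwap} ≤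
      (OpN 2 (alternatingGroup (Mdl2 k s1 r)) (W2 k s1 r)).comap (blk4Hom k s1 r) := by
    rw [Subgroup.closure_le]
    intro τ hτ
    obtain ⟨a, b, hab, rfl⟩ := hτ
    refine Subgroup.subset_closure ⟨?_, blk4Hom_mem_normalizer _, 1, ?_⟩
    · rw [Perm.mem_alternatingGroup]; exact sign_blk4Hom _
    · rw [pow_one, ← map_pow, pow_two, Equiv.swap_mul_self, map_one]
  exact hle hπ

/-! ### the main statements -/

theorem normalizer_W2_gen (k s1 r : ℕ) (hk : 1 ≤ k) (h6 : 2 ≤ k ∨ s1 = 1) (hs1 : s1 ≤ 1)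
    (hr : r ≤ 1) (g : Perm (Mdl2 k s1 r)) (hgA : g ∈ alternatingGroup (Mdl2 k s1 r))
    (hgN : g ∈ Subgroup.normalizer ((W2 k s1 r : Subgroup (Perm (Mdl2 k s1 r))) : Set (Perm (Mdl2 k s1 r)))) :
    g ∈ OpN 2 (alternatingGroup (Mdl2 k s1 r)) (W2 k s1 r) := by
  have hginv := Subgroup.inv_mem _ hgN
  -- the induced permutation of the `4`-blocks
  choose f hf using norm_inl (k := k) (s1 := s1) (r := r) hgN
  have hblock : ∀ j v, (f (j, v)).1 = (f (j, (0, 0))).1 := by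
    intro j v
    have h := BB_conj hgN ((BB_inl_iff (s1 := s1) (r := r) j j (0, 0) v).mpr rfl)
    rw [hf, hf] at h
    exact ((BB_inl_iff _ _ _ _).mp h).symm
  have hinj : Function.Injective (fun j => (f (j, (0, 0))).1) := by
    intro j j' h
    have h1 : BB k s1 r (g (Sum.inl (j, (0, 0)))) (g (Sum.inl (j', (0, 0)))) := by
      rw [hf, hf]
      exact (BB_inl_iff _ _ _ _).mpr h
    have h2 := BB_conj hginv h1
    have e1 : g⁻¹ (g (Sum.inl (j, ((0 : ZMod 2), (0 : ZMod 2))))) = Sum.inl (j, (0, 0)) := by simp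
    have e2 : g⁻¹ (g (Sum.inl (j', ((0 : ZMod 2), (0 : ZMod 2))))) = Sum.inl (j', (0, 0)) := by simp
    rw [e1, e2] at h2
    exact (BB_inl_iff _ _ _ _).mp h2
  set π : Perm (Fin k) := Equiv.ofBijective _ ⟨hinj, Finite.surjective_of_injective hinj⟩ with hπ
  have hπj : ∀ j, π j = (f (j, (0, 0))).1 := fun j => rfl
  set h := g * (blk4Hom k s1 r π)⁻¹ with hh
  have hhN : h ∈ Subgroup.normalizer ((W2 k s1 r : Subgroup (Perm (Mdl2 k s1 r))) : Set (Perm (Mdl2 k s1 r))) :=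
    Subgroup.mul_mem _ hgN (Subgroup.inv_mem _ (blk4Hom_mem_normalizer π))
  have hpres : ∀ (j : Fin k) (v : ZMod 2 × ZMod 2), ∃ v', h (Sum.inl (j, v)) = Sum.inl (j, v') := by
    intro j v
    refine ⟨(f (π⁻¹ j, v)).2, ?_⟩
    rw [hh, Perm.mul_apply, ← map_inv, blk4Hom_inl, hf]
    congr 1
    refine Prod.ext ?_ rfl
    show (f (π⁻¹ j, v)).1 = j
    rw [hblock, ← hπj]
    simp
  have hDD : h ∈ DD k s1 r := mem_DD_of_preserves hk h6 hs1 hr hhN hpres
  have hhA : h ∈ alternatingGroup (Mdl2 k s1 r) := by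
    rw [Perm.mem_alternatingGroup] at hgA ⊢
    rw [hh, map_mul, map_inv, hgA, sign_blk4Hom]; rfl
  have hW : h ∈ W2 k s1 r := Subgroup.mem_inf.mpr ⟨hDD, hhA⟩
  have hhO : h ∈ OpN 2 (alternatingGroup (Mdl2 k s1 r)) (W2 k s1 r) := by
    obtain ⟨n, hn⟩ := (DD_pgroup k s1 r) ⟨h, hDD⟩
    refine Subgroup.subset_closure ⟨hhA, Subgroup.le_normalizer hW, n, ?_⟩
    have := congrArg Subtype.val hn
    simpa using this
  have e : g = h * blk4Hom k s1 r π := by rw [hh]; group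
  rw [e]
  exact Subgroup.mul_mem _ hhO (blk4Hom_mem_OpN π)

theorem W2_ne_bot (k s1 r : ℕ) (hk : 1 ≤ k) : W2 k s1 r ≠ ⊥ := by
  intro h
  have h1 := vv_mem_W2 k s1 r ⟨0, hk⟩ 1 0
  rw [h, Subgroup.mem_bot] at h1
  have h2 := vv_apply_same k s1 r ⟨0, hk⟩ 1 0 0 0
  rw [h1] at h2
  have := congrArg (fun q : Fin k × (ZMod 2 × ZMod 2) => q.2.1) (Sum.inl_injective h2)
  have h3 : (0 : ZMod 2) = 0 + 1 := this
  revert h3; decide

end

end Cfsg.Agent.Lib.Helper10.AltFus
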