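import Mathlib
import Cfsg.Agent.Lib.Helper27.AltFus.Defs

set_option autoImplicit false

/-! Piece O3 of project AltFus (S5165): the alternating group is generated by `p`-elements. -/

namespace Cfsg.Agent.Lib.Helper10.AltFus
open Cfsg.Agent.Lib.Helper27.AltFus Equiv

theorem alt_le_closure_pelts {I : Type*} [Fintype I] [DecidableEq I] (p : ℕ) [Fact p.Prime]
    (hp : p ≠ 2) (hI : p ≤ Fintype.card I) :
    alternatingGroup I ≤ Subgroup.closure {π : Perm I | π ^ p = 1} := by
  have hpp : p.Prime := Fact.out
  by_cases h3 : p = 3
  · subst h3
    rw [← Equiv.Perm.closure_three_cycles_eq_alternating]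
    apply Subgroup.closure_mono
    intro σ hσ
    have h := hσ.orderOf
    show σ ^ 3 = 1
    rw [← h]; exact pow_orderOf_eq_one σ
  · have h5 : 5 ≤ p := by
      have h2 := hpp.two_le
      by_contra hlt
      have : p = 4 := by omega
      subst this
      exact absurd hpp (by norm_num)
    have hcard : 5 ≤ Nat.card I := by
      rw [Nat.card_eq_fintype_card]; exact le_trans h5 hI
    have hsimple := alternatingGroup.isSimpleGroup hcard
    set K := Subgroup.closure {π : Perm I | π ^ p = 1} with hK
    have hKn : K.Normal := by
      refine ⟨fun n hn g => ?_⟩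
      induction hn using Subgroup.closure_induction with
      | mem x hx =>
        apply Subgroup.subset_closure
        show (g * x * g⁻¹) ^ p = 1
        rw [conj_pow, show x ^ p = 1 from hx]; simp
      | one => simp
      | mul x y _ _ hx hy =>
        have : g * (x * y) * g⁻¹ = (g * x * g⁻¹) * (g * y * g⁻¹) := by group
        rw [this]; exact K.mul_mem hx hy
      | inv x _ hx =>
        have : g * x⁻¹ * g⁻¹ = (g * x * g⁻¹)⁻¹ := by group
        rw [this]; exact K.inv_mem hx
    -- a p-cycle
    obtain ⟨c, hc⟩ := (Equiv.Perm.exists_with_cycleType_iff I (m := {p})).mpr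
      ⟨by simpa using hI, by intro a ha; rw [Multiset.mem_singleton] at ha; rw [ha]; exact hpp.two_le⟩
    have hcp : c ^ p = 1 := by
      have h := Equiv.Perm.lcm_cycleType c
      rw [hc] at h
      simp at h
      rw [h]; exact pow_orderOf_eq_one c
    have hc1 : c ≠ 1 := by
      intro h
      rw [h, Equiv.Perm.cycleType_one] at hc
      exact absurd hc.symm (Multiset.singleton_ne_zero p)
    have hodd : Odd p := hpp.odd_of_ne_two hp
    have hcA : c ∈ alternatingGroup I := by
      rw [Equiv.Perm.mem_alternatingGroup, Equiv.Perm.sign_of_cycleType, hc]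
      simp
      have : Even (p + 1) := hodd.add_one
      exact this.neg_one_pow
    set N : Subgroup (alternatingGroup I) := K.subgroupOf (alternatingGroup I) with hN
    have hNn : N.Normal := hKn.subgroupOf _
    rcases hNn.eq_bot_or_eq_top with hb | ht
    · exfalso
      have : (⟨c, hcA⟩ : alternatingGroup I) ∈ N := by
        rw [hN, Subgroup.mem_subgroupOf]
        exact Subgroup.subset_closure hcp
      rw [hb, Subgroup.mem_bot] at this
      apply hc1
      exact congrArg Subtype.val this
    · rw [hN, Subgroup.subgroupOf_eq_top] at ht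
      exact ht

end Cfsg.Agent.Lib.Helper10.AltFus
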