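import Mathlib
import Cfsg.Agent.Lib.Helper27.AltFus.Defs
import Cfsg.Agent.Lib.helper17.AltFusO0
import Cfsg.Agent.Lib.helper17.AltFusO2
import Cfsg.Agent.Lib.Helper10.AltFusO3

set_option autoImplicit false

/-! Piece O5 of project AltFus (S5165): block permutations and diagonal elements are generated by
`p`-elements of the normalizer of the base group. -/

namespace Cfsg.Agent.Lib.Helper10.AltFus
open Cfsg.Agent.Lib.Helper27.AltFus Equiv
open Cfsg.Agent.Lib.helper17.AltFus (nrm_mul nrm_one ext_mul ext_one ext_inv ext_pow sign_ext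
  ext_cyc_pow_p nrm_mem_normalizer_B0)

/-- a `p`-element (`p` odd) is an even permutation -/
theorem mem_alt_of_pelt {α : Type*} [Fintype α] [DecidableEq α] (p : ℕ) (hodd : Odd p)
    (x : Perm α) (k : ℕ) (hx : x ^ p ^ k = 1) : x ∈ alternatingGroup α := by
  rw [Perm.mem_alternatingGroup]
  have h : Perm.sign x ^ p ^ k = 1 := by rw [← map_pow, hx, map_one]
  rcases Int.units_eq_one_or (Perm.sign x) with h1 | h1
  · exact h1
  · rw [h1, (hodd.pow).neg_one_pow] at h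
    exact absurd h (by decide)

section

variable (p : ℕ) [Fact p.Prime] (m' r : ℕ)

/-- `π ↦ ext (blk π)` as a monoid homomorphism -/
def blkHom : Perm (Blk p m') →* Perm (Mdl p m' r) where
  toFun π := ext (blk p m' π)
  map_one' := by
    show (Cfsg.Agent.Lib.Helper27.AltFus.ext (nrm 1 1 0) : Perm (Mdl p m' r)) = 1
    rw [nrm_one, ext_one]
  map_mul' π π' := by
    show (Cfsg.Agent.Lib.Helper27.AltFus.ext (nrm (π * π') 1 0) : Perm (Mdl p m' r)) =
      Cfsg.Agent.Lib.Helper27.AltFus.ext (nrm π 1 0) * Cfsg.Agent.Lib.Helper27.AltFus.ext (nrm π' 1 0)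
    rw [← ext_mul, nrm_mul]
    congr 2
    · funext i; simp
    · funext i; simp

theorem blkHom_apply (π : Perm (Blk p m')) : blkHom p m' r π = ext (blk p m' π) := rfl

/-- `a ↦ ext (dg a)` as a monoid homomorphism -/
def dgHom : (Blk p m' → (ZMod p)ˣ) →* Perm (Mdl p m' r) where
  toFun a := ext (dg p m' a)
  map_one' := by
    show (Cfsg.Agent.Lib.Helper27.AltFus.ext (nrm 1 1 0) : Perm (Mdl p m' r)) = 1
    rw [nrm_one, ext_one]
  map_mul' a a' := by
    show (Cfsg.Agent.Lib.Helper27.AltFus.ext (nrm 1 (a * a') 0) : Perm (Mdl p m' r)) =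
      Cfsg.Agent.Lib.Helper27.AltFus.ext (nrm 1 a 0) * Cfsg.Agent.Lib.Helper27.AltFus.ext (nrm 1 a' 0)
    rw [← ext_mul, nrm_mul]
    congr 2
    · funext i; simp

theorem dgHom_apply (a : Blk p m' → (ZMod p)ˣ) : dgHom p m' r a = ext (dg p m' a) := rfl

theorem blk_conj_dg (τ : Perm (Blk p m')) (a : Blk p m' → (ZMod p)ˣ) :
    blkHom p m' r τ * dgHom p m' r a = dgHom p m' r (fun i => a (τ⁻¹ i)) * blkHom p m' r τ := by
  show (Cfsg.Agent.Lib.Helper27.AltFus.ext (nrm τ 1 0) : Perm (Mdl p m' r)) *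
      Cfsg.Agent.Lib.Helper27.AltFus.ext (nrm 1 a 0) =
    Cfsg.Agent.Lib.Helper27.AltFus.ext (nrm 1 (fun i => a (τ⁻¹ i)) 0) *
      Cfsg.Agent.Lib.Helper27.AltFus.ext (nrm τ 1 0)
  rw [← ext_mul, ← ext_mul, nrm_mul, nrm_mul]
  congr 2
  · funext i; simp
  · funext i; simp

theorem blkHom_mem_gen (hp : p ≠ 2) (τ : Perm (Blk p m')) (hτ : τ ^ p = 1) :
    blkHom p m' r τ ∈ OpN p (alternatingGroup (Mdl p m' r)) (B0 p m' r) := by
  have hpp : p.Prime := Fact.out
  have hodd : Odd p := hpp.odd_of_ne_two hp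
  have h1 : blkHom p m' r τ ^ p ^ 1 = 1 := by rw [pow_one, ← map_pow, hτ, map_one]
  refine Subgroup.subset_closure ⟨mem_alt_of_pelt p hodd _ 1 h1, ?_, 1, h1⟩
  exact nrm_mem_normalizer_B0 p m' r τ 1 0

theorem conj_blkHom_mem_gen (hp : p ≠ 2) (τ : Perm (Blk p m')) (hτ : τ ^ p = 1)
    (a : Blk p m' → (ZMod p)ˣ) :
    dgHom p m' r a * (blkHom p m' r τ)⁻¹ * (dgHom p m' r a)⁻¹ ∈
      OpN p (alternatingGroup (Mdl p m' r)) (B0 p m' r) := by
  have hpp : p.Prime := Fact.out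
  have hodd : Odd p := hpp.odd_of_ne_two hp
  have h1 : (dgHom p m' r a * (blkHom p m' r τ)⁻¹ * (dgHom p m' r a)⁻¹) ^ p ^ 1 = 1 := by
    rw [pow_one, conj_pow, inv_pow, ← map_pow, hτ, map_one]; group
  refine Subgroup.subset_closure ⟨mem_alt_of_pelt p hodd _ 1 h1, ?_, 1, h1⟩
  have ha : dgHom p m' r a ∈ Subgroup.normalizer ((B0 p m' r : Subgroup (Perm (Mdl p m' r))) : Set (Perm (Mdl p m' r))) :=
    nrm_mem_normalizer_B0 p m' r 1 a 0
  have hb : blkHom p m' r τ ∈ Subgroup.normalizer ((B0 p m' r : Subgroup (Perm (Mdl p m' r))) : Set (Perm (Mdl p m' r))) :=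
    nrm_mem_normalizer_B0 p m' r τ 1 0
  exact Subgroup.mul_mem _ (Subgroup.mul_mem _ ha (Subgroup.inv_mem _ hb)) (Subgroup.inv_mem _ ha)

theorem comm_mem_OpN (hp : p ≠ 2) (τ : Perm (Blk p m')) (hτ : τ ^ p = 1)
    (a : Blk p m' → (ZMod p)ˣ) :
    dgHom p m' r ((fun i => a (τ⁻¹ i)) * a⁻¹) ∈
      OpN p (alternatingGroup (Mdl p m' r)) (B0 p m' r) := by
  have h := Subgroup.mul_mem _ (blkHom_mem_gen p m' r hp τ hτ) (conj_blkHom_mem_gen p m' r hp τ hτ a)
  have e : blkHom p m' r τ * (dgHom p m' r a * (blkHom p m' r τ)⁻¹ * (dgHom p m' r a)⁻¹) =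
      dgHom p m' r ((fun i => a (τ⁻¹ i)) * a⁻¹) := by
    rw [map_mul, map_inv, ← mul_assoc, ← mul_assoc, blk_conj_dg]
    group
  rw [e] at h
  exact h

/-- an element of order dividing `p` moving `i` to `j` -/
theorem exists_pelt_moving (i j : Blk p m') (hij : i ≠ j) :
    ∃ τ : Perm (Blk p m'), τ ^ p = 1 ∧ τ i = j := by
  have hpp : p.Prime := Fact.out
  have hcard : p ≤ Fintype.card (Blk p m') := by
    rw [Fintype.card_sum, ZMod.card, Fintype.card_fin]; omega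
  obtain ⟨c, hc⟩ := (Equiv.Perm.exists_with_cycleType_iff (Blk p m') (m := {p})).mpr
    ⟨by simp, by intro a ha; rw [Multiset.mem_singleton] at ha; rw [ha]; exact hpp.two_le⟩
  have hcp : c ^ p = 1 := by
    have h := Equiv.Perm.lcm_cycleType c
    rw [hc] at h
    simp at h
    have h' := pow_orderOf_eq_one c
    rwa [← h] at h'
  have hc1 : c ≠ 1 := by
    intro h
    rw [h, Equiv.Perm.cycleType_one] at hc
    exact absurd hc.symm (Multiset.singleton_ne_zero p)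
  obtain ⟨x₀, hx₀⟩ : ∃ x₀, c x₀ ≠ x₀ := by
    by_contra hne
    push Not at hne
    exact hc1 (Equiv.ext hne)
  -- σ with σ x₀ = i and σ (c x₀) = j
  set σ₁ : Perm (Blk p m') := Equiv.swap x₀ i with hσ₁
  set y₁ := σ₁ (c x₀) with hy₁
  have hy₁i : y₁ ≠ i := by
    intro h
    have : σ₁ (c x₀) = σ₁ x₀ := by rw [← hy₁, h, hσ₁, Equiv.swap_apply_left]
    exact hx₀ (σ₁.injective this)
  set σ : Perm (Blk p m') := Equiv.swap y₁ j * σ₁ with hσ
  have hσx : σ x₀ = i := by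
    rw [hσ, Perm.mul_apply, hσ₁, Equiv.swap_apply_left]
    exact Equiv.swap_apply_of_ne_of_ne hy₁i.symm hij
  have hσy : σ (c x₀) = j := by
    rw [hσ, Perm.mul_apply, ← hy₁, Equiv.swap_apply_left]
  refine ⟨σ * c * σ⁻¹, ?_, ?_⟩
  · rw [conj_pow, hcp]; group
  · rw [Perm.mul_apply, Perm.mul_apply, ← hσx]
    have : σ⁻¹ (σ x₀) = x₀ := by simp
    rw [this, hσy]

theorem pair_mem_OpN (hp : p ≠ 2) (i j : Blk p m') (u : (ZMod p)ˣ) :
    dgHom p m' r (Pi.mulSingle j u * Pi.mulSingle i u⁻¹) ∈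
      OpN p (alternatingGroup (Mdl p m' r)) (B0 p m' r) := by
  by_cases hij : i = j
  · subst hij
    have : (Pi.mulSingle i u * Pi.mulSingle i u⁻¹ : Blk p m' → (ZMod p)ˣ) = 1 := by
      rw [← Pi.mulSingle_mul, mul_inv_cancel, Pi.mulSingle_one]
    rw [this, map_one]
    exact Subgroup.one_mem _
  · obtain ⟨τ, hτ, hτij⟩ := exists_pelt_moving p m' i j hij
    have h := comm_mem_OpN p m' r hp τ hτ (Pi.mulSingle i u)
    have e : ((fun k => (Pi.mulSingle i u : Blk p m' → (ZMod p)ˣ) (τ⁻¹ k)) * (Pi.mulSingle i u)⁻¹) =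
        Pi.mulSingle j u * Pi.mulSingle i u⁻¹ := by
      funext k
      simp only [Pi.mul_apply, Pi.inv_apply]
      congr 1
      · by_cases hk : k = j
        · subst hk
          have : τ⁻¹ (τ i) = i := by simp
          rw [← hτij, this, Pi.mulSingle_eq_same, Pi.mulSingle_eq_same]
        · have : τ⁻¹ k ≠ i := by
            intro h'
            apply hk
            rw [← hτij, ← h']; simp
          rw [Pi.mulSingle_eq_of_ne this, Pi.mulSingle_eq_of_ne hk]
      · by_cases hk : k = i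
        · subst hk
          rw [Pi.mulSingle_eq_same, Pi.mulSingle_eq_same]
        · rw [Pi.mulSingle_eq_of_ne hk, Pi.mulSingle_eq_of_ne hk, inv_one]
    rw [e] at h
    exact h

theorem decomp_diag (a : Blk p m' → (ZMod p)ˣ) (ha : ∏ i, a i = 1) (i₀ : Blk p m') :
    a = ∏ j ∈ Finset.univ.erase i₀, (Pi.mulSingle j (a j) * Pi.mulSingle i₀ (a j)⁻¹) := by
  funext k
  rw [Finset.prod_apply]
  by_cases hk : k = i₀
  · subst hk
    have h1 : ∀ j ∈ Finset.univ.erase k,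
        ((Pi.mulSingle j (a j) * Pi.mulSingle k (a j)⁻¹ : Blk p m' → (ZMod p)ˣ)) k = (a j)⁻¹ := by
      intro j hj
      have hjk : k ≠ j := (Finset.ne_of_mem_erase hj).symm
      rw [Pi.mul_apply, Pi.mulSingle_eq_of_ne hjk, Pi.mulSingle_eq_same, one_mul]
    rw [Finset.prod_congr rfl h1, Finset.prod_inv_distrib]
    apply eq_inv_of_mul_eq_one_left
    rw [Finset.mul_prod_erase _ _ (Finset.mem_univ k)]
    exact ha
  · have hmem : k ∈ Finset.univ.erase i₀ := Finset.mem_erase.mpr ⟨hk, Finset.mem_univ _⟩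
    rw [Finset.prod_eq_single_of_mem k hmem]
    · rw [Pi.mul_apply, Pi.mulSingle_eq_same, Pi.mulSingle_eq_of_ne hk, mul_one]
    · intro j _ hjk
      rw [Pi.mul_apply, Pi.mulSingle_eq_of_ne hjk.symm, Pi.mulSingle_eq_of_ne hk, mul_one]

end

theorem blk_mem_OpN (p : ℕ) [Fact p.Prime] (hp : p ≠ 2) (m' r : ℕ) (π : Perm (Blk p m'))
    (hπ : π ∈ alternatingGroup (Blk p m')) :
    (ext (blk p m' π) : Perm (Mdl p m' r)) ∈
      OpN p (alternatingGroup (Mdl p m' r)) (B0 p m' r) := by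
  have hcard : p ≤ Fintype.card (Blk p m') := by
    rw [Fintype.card_sum, ZMod.card, Fintype.card_fin]; omega
  have h1 := alt_le_closure_pelts (I := Blk p m') p hp hcard hπ
  have h2 : Subgroup.closure {π : Perm (Blk p m') | π ^ p = 1} ≤
      (OpN p (alternatingGroup (Mdl p m' r)) (B0 p m' r)).comap (blkHom p m' r) := by
    rw [Subgroup.closure_le]
    intro τ hτ
    exact blkHom_mem_gen p m' r hp τ hτ
  exact h2 h1

theorem dg_mem_OpN (p : ℕ) [Fact p.Prime] (hp : p ≠ 2) (m' r : ℕ) (a : Blk p m' → (ZMod p)ˣ)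
    (ha : ∏ i, a i = 1) :
    (ext (dg p m' a) : Perm (Mdl p m' r)) ∈
      OpN p (alternatingGroup (Mdl p m' r)) (B0 p m' r) := by
  rw [← dgHom_apply]
  show a ∈ (OpN p (alternatingGroup (Mdl p m' r)) (B0 p m' r)).comap (dgHom p m' r)
  rw [decomp_diag p m' a ha (Sum.inl 0)]
  apply Subgroup.prod_mem
  intro j _
  exact pair_mem_OpN p m' r hp _ _ _

theorem B0_le_OpN (p : ℕ) [Fact p.Prime] (hp : p ≠ 2) (m' r : ℕ) :
    B0 p m' r ≤ OpN p (alternatingGroup (Mdl p m' r)) (B0 p m' r) := by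
  have hpp : p.Prime := Fact.out
  have hodd : Odd p := hpp.odd_of_ne_two hp
  rw [B0, Subgroup.closure_le]
  rintro _ ⟨i, rfl⟩
  have h1 : (ext (cyc p m' i) : Perm (Mdl p m' r)) ^ p ^ 1 = 1 := by
    rw [pow_one]; exact ext_cyc_pow_p p m' r i
  refine Subgroup.subset_closure ⟨mem_alt_of_pelt p hodd _ 1 h1, ?_, 1, h1⟩
  apply Subgroup.le_normalizer
  exact Subgroup.subset_closure (Set.mem_range_self i)

end Cfsg.Agent.Lib.Helper10.AltFus
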