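import Mathlib
import Cfsg.Agent.Lib.Helper27.AltFus.Defs

set_option autoImplicit false

/-! Piece S1 of project AltFus (S5165): splitting a cycle of length `p ^ (k + 2)`. -/

namespace Cfsg.Agent.Lib.Helper10.AltFus
open Cfsg.Agent.Lib.Helper27.AltFus Equiv

section model

variable {p M : ℕ}

/-- `(i, x) ↦ (i + t, x + f i)` on `ZMod M × ZMod p` -/
def tr (t : ZMod M) (f : ZMod M → ZMod p) : Perm (ZMod M × ZMod p) where
  toFun q := (q.1 + t, q.2 + f q.1)
  invFun q := (q.1 - t, q.2 - f (q.1 - t))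
  left_inv q := by rcases q with ⟨i, x⟩; simp
  right_inv q := by rcases q with ⟨i, x⟩; simp

@[simp] theorem tr_apply (t : ZMod M) (f : ZMod M → ZMod p) (i : ZMod M) (x : ZMod p) :
    tr t f (i, x) = (i + t, x + f i) := rfl

theorem tr_mul (t t' : ZMod M) (f f' : ZMod M → ZMod p) :
    tr t f * tr t' f' = tr (t' + t) (fun i => f' i + f (i + t')) := by
  refine Equiv.ext fun q => ?_
  rcases q with ⟨i, x⟩
  simp only [Perm.mul_apply, tr_apply]
  refine Prod.ext ?_ ?_
  · simp [add_assoc]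
  · simp [add_assoc]

theorem tr_zero : tr (0 : ZMod M) (0 : ZMod M → ZMod p) = 1 := by
  refine Equiv.ext fun q => ?_
  rcases q with ⟨i, x⟩
  simp

theorem tr_inv (t : ZMod M) (f : ZMod M → ZMod p) :
    (tr t f)⁻¹ = tr (-t) (fun i => - f (i - t)) := by
  symm
  apply eq_inv_of_mul_eq_one_left
  rw [tr_mul]
  refine Equiv.ext fun q => ?_
  rcases q with ⟨i, x⟩
  simp [sub_eq_add_neg]

/-- the group of all `tr t f` -/
def trGroup (p M : ℕ) : Subgroup (Perm (ZMod M × ZMod p)) where
  carrier := {h | ∃ (t : ZMod M) (f : ZMod M → ZMod p), h = tr t f}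
  one_mem' := ⟨0, 0, tr_zero.symm⟩
  mul_mem' := by
    rintro _ _ ⟨t, f, rfl⟩ ⟨t', f', rfl⟩
    exact ⟨_, _, tr_mul t t' f f'⟩
  inv_mem' := by
    rintro _ ⟨t, f, rfl⟩
    exact ⟨_, _, tr_inv t f⟩

theorem tr_pow_exists (t : ZMod M) (f : ZMod M → ZMod p) (n : ℕ) :
    ∃ g : ZMod M → ZMod p, tr t f ^ n = tr (n • t) g := by
  induction n with
  | zero => exact ⟨0, by rw [pow_zero, zero_smul, tr_zero]⟩
  | succ n ih =>
    obtain ⟨g, hg⟩ := ih
    refine ⟨fun i => f i + g (i + t), ?_⟩
    rw [pow_succ, hg, tr_mul, succ_nsmul, add_comm t]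

theorem tr_zero_pow (f : ZMod M → ZMod p) (n : ℕ) :
    tr (0 : ZMod M) f ^ n = tr 0 (n • f) := by
  induction n with
  | zero => rw [pow_zero, zero_smul, tr_zero]
  | succ n ih =>
    rw [pow_succ, ih, tr_mul]
    congr 1
    · simp
    · funext i
      simp only [Pi.smul_apply, add_zero, nsmul_eq_mul]
      push_cast
      ring

theorem tr_pow_eq_one [Fact p.Prime] (t : ZMod M) (f : ZMod M → ZMod p) : tr t f ^ (M * p) = 1 := by
  obtain ⟨g, hg⟩ := tr_pow_exists t f M
  rw [pow_mul, hg]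
  have : (M • t : ZMod M) = 0 := by
    rw [nsmul_eq_mul, ZMod.natCast_self, zero_mul]
  rw [this, tr_zero_pow]
  have : (p • g : ZMod M → ZMod p) = 0 := by
    funext i
    simp [nsmul_eq_mul]
  rw [this, tr_zero]

theorem trGroup_pgroup [Fact p.Prime] (k : ℕ) (hM : M * p = p ^ k) : IsPGroup p ↥(trGroup p M) := by
  rintro ⟨h, t, f, rfl⟩
  refine ⟨k, ?_⟩
  apply Subtype.ext
  rw [Subgroup.coe_pow, Subgroup.coe_one]
  show tr t f ^ p ^ k = 1
  rw [← hM]
  exact tr_pow_eq_one t f

/-- the block shift -/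
def mb (p M : ℕ) : Perm (ZMod M × ZMod p) := tr 1 0
/-- the `p`-cycle on block `0` -/
def mc (p M : ℕ) : Perm (ZMod M × ZMod p) := tr 0 (Pi.single 0 1)
/-- the long cycle -/
def my (p M : ℕ) : Perm (ZMod M × ZMod p) := tr 1 (Pi.single 0 1)

theorem my_eq : my p M = mb p M * mc p M := by
  rw [my, mb, mc, tr_mul]
  congr 1
  · simp
  · funext i; simp

theorem mb_pow (n : ℕ) : mb p M ^ n = tr (n : ZMod M) 0 := by
  induction n with
  | zero => rw [pow_zero, Nat.cast_zero, tr_zero]
  | succ n ih =>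
    rw [pow_succ, ih, mb, tr_mul]
    congr 1
    · push_cast; ring
    · funext i; simp

theorem mb_pow_M : mb p M ^ M = 1 := by
  rw [mb_pow, ZMod.natCast_self, tr_zero]

theorem mc_pow [Fact p.Prime] (n : ℕ) : mc p M ^ n = tr 0 (Pi.single 0 (n : ZMod p)) := by
  rw [mc, tr_zero_pow]
  congr 1
  funext i
  by_cases h : i = 0
  · subst h; simp
  · simp [h]

theorem mc_cycleType [Fact p.Prime] [NeZero M] : (mc p M).cycleType = {p} := by
  have hpp : p.Prime := Fact.out
  have hp1 : mc p M ^ p = 1 := by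
    rw [mc_pow]
    have : (Pi.single 0 ((p : ℕ) : ZMod p) : ZMod M → ZMod p) = 0 := by
      rw [ZMod.natCast_self]; simp
    rw [this, tr_zero]
  have hne : mc p M ≠ 1 := by
    intro h
    have := congrArg (fun e : Perm (ZMod M × ZMod p) => e (0, 0)) h
    simp [mc] at this
  have hord : orderOf (mc p M) = p := orderOf_eq_prime hp1 hne
  obtain ⟨n, hn⟩ := Equiv.Perm.cycleType_prime_order (σ := mc p M) (by rw [hord]; exact hpp)
  rw [hord] at hn
  have hsupp : (mc p M).support = Finset.univ.filter (fun q : ZMod M × ZMod p => q.1 = 0) := by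
    ext ⟨i, x⟩
    simp only [Perm.mem_support, mc, tr_apply, Finset.mem_filter, Finset.mem_univ, true_and]
    by_cases h : i = 0
    · subst h; simp
    · simp [h]
  have hcard : (mc p M).support.card = p := by
    rw [hsupp]
    have : (Finset.univ.filter (fun q : ZMod M × ZMod p => q.1 = 0)) =
        (Finset.univ : Finset (ZMod p)).map ⟨fun x => ((0 : ZMod M), x), fun a b h => by simpa using h⟩ := by
      ext ⟨i, x⟩
      simp only [Finset.mem_filter, Finset.mem_univ, true_and, Finset.mem_map]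
      constructor
      · intro h; exact ⟨x, by rw [h]; rfl⟩
      · rintro ⟨a, h⟩
        have := congrArg Prod.fst h
        exact this.symm
    rw [this, Finset.card_map, Finset.card_univ, ZMod.card]
  have hsum := Equiv.Perm.sum_cycleType (mc p M)
  rw [hn, hcard, Multiset.sum_replicate, smul_eq_mul] at hsum
  have : n + 1 = 1 := by
    have hp0 : 0 < p := hpp.pos
    nlinarith [Nat.eq_of_mul_eq_mul_right hp0 (by rw [hsum, one_mul] : (n + 1) * p = 1 * p)]
  rw [hn, this]; rfl

theorem my_pow_step [NeZero M] (x : ZMod p) (j : ℕ) (hj1 : 1 ≤ j) (hjM : j ≤ M) :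
    (my p M ^ j) (0, x) = ((j : ZMod M), x + 1) := by
  induction j with
  | zero => omega
  | succ j ih =>
    by_cases hj0 : j = 0
    · subst hj0
      simp [my]
    · have h := ih (by omega) (by omega)
      rw [pow_succ', Perm.mul_apply, h, my, tr_apply]
      have hne : (j : ZMod M) ≠ 0 := by
        rw [Ne, ZMod.natCast_eq_zero_iff]
        intro hdvd
        have := Nat.le_of_dvd (by omega) hdvd
        omega
      refine Prod.ext ?_ ?_
      · push_cast; rfl
      · simp [hne]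

theorem my_pow_M [NeZero M] (x : ZMod p) : (my p M ^ M) (0, x) = (0, x + 1) := by
  have hM : 1 ≤ M := Nat.one_le_iff_ne_zero.mpr (NeZero.ne M)
  rw [my_pow_step x M hM le_rfl, ZMod.natCast_self]

theorem my_pow_Mt [Fact p.Prime] [NeZero M] (t : ℕ) : (my p M ^ (M * t)) (0, 0) = (0, (t : ZMod p)) := by
  induction t with
  | zero => simp
  | succ t ih =>
    rw [Nat.mul_succ, add_comm, pow_add, Perm.mul_apply, ih, my_pow_M]
    push_cast; rfl

theorem my_orbit [Fact p.Prime] [NeZero M] (q : ZMod M × ZMod p) :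
    ∃ n : ℕ, (my p M ^ n) (0, 0) = q := by
  rcases q with ⟨i, x⟩
  have hM : 1 ≤ M := Nat.one_le_iff_ne_zero.mpr (NeZero.ne M)
  by_cases hi : i = 0
  · subst hi
    refine ⟨M * x.val, ?_⟩
    rw [my_pow_Mt, ZMod.natCast_zmod_val]
  · refine ⟨i.val + M * (x - 1).val, ?_⟩
    rw [pow_add, Perm.mul_apply, my_pow_Mt, ZMod.natCast_zmod_val]
    have h1 : 1 ≤ i.val := by
      rcases Nat.eq_zero_or_pos i.val with h | h
      · exact absurd ((ZMod.val_eq_zero i).mp h) hi
      · exact h
    have h2 : i.val ≤ M := (ZMod.val_lt i).le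
    rw [my_pow_step (x - 1) i.val h1 h2, ZMod.natCast_zmod_val, sub_add_cancel]

theorem my_isCycle [Fact p.Prime] [NeZero M] : (my p M).IsCycle := by
  have hpp : p.Prime := Fact.out
  have : Fact (1 < p) := ⟨hpp.one_lt⟩
  refine ⟨(0, 0), ?_, fun q _ => ?_⟩
  · simp [my]
  · obtain ⟨n, hn⟩ := my_orbit (p := p) (M := M) q
    exact ⟨n, by rw [zpow_natCast]; exact hn⟩

theorem my_support [Fact p.Prime] [NeZero M] : (my p M).support = Finset.univ := by
  have hpp : p.Prime := Fact.out
  have : Fact (1 < p) := ⟨hpp.one_lt⟩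
  ext q
  simp only [Finset.mem_univ, iff_true, Perm.mem_support]
  obtain ⟨n, hn⟩ := my_orbit (p := p) (M := M) q
  have hsc : (my p M).SameCycle (0, 0) q := ⟨n, by rw [zpow_natCast]; exact hn⟩
  intro h
  have := hsc.apply_eq_self_iff.mpr h
  simp [my] at this

theorem closure_le_trGroup : Subgroup.closure ({mb p M, mc p M} : Set _) ≤ trGroup p M := by
  rw [Subgroup.closure_le]
  rintro h (rfl | rfl)
  · exact ⟨1, 0, rfl⟩
  · exact ⟨0, _, rfl⟩

end model

theorem cycle_split {α : Type*} [Fintype α] [DecidableEq α] (p : ℕ) [Fact p.Prime] (k : ℕ)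
    (y : Perm α) (hy : y.IsCycle) (hcard : y.support.card = p ^ (k + 2)) :
    ∃ b c : Perm α, y = b * c ∧ c.cycleType = {p} ∧ b ^ p ^ (k + 1) = 1 ∧
      c.support ⊆ y.support ∧ b.support ⊆ y.support ∧
      IsPGroup p ↥(Subgroup.closure ({b, c} : Set (Perm α))) := by
  have hpp : p.Prime := Fact.out
  have : NeZero (p ^ (k + 1)) := ⟨pow_ne_zero _ hpp.ne_zero⟩
  set M := p ^ (k + 1) with hM
  have hT : Fintype.card (ZMod M × ZMod p) = Fintype.card {a // a ∈ y.support} := by
    rw [Fintype.card_prod, ZMod.card, ZMod.card, Fintype.card_coe, hcard, hM, ← pow_succ]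
  obtain ⟨f⟩ := Fintype.card_eq.mp hT
  let E : Perm (ZMod M × ZMod p) →* Perm α := Equiv.Perm.extendDomainHom f
  have hE : ∀ e, E e = e.extendDomain f := fun e => rfl
  -- the model cycle in `Perm α`
  have hct : (E (my p M)).cycleType = y.cycleType := by
    rw [hE, Equiv.Perm.cycleType_extendDomain, (my_isCycle (p := p) (M := M)).cycleType, hy.cycleType,
      my_support, Finset.card_univ, hcard, Fintype.card_prod, ZMod.card, ZMod.card, hM, ← pow_succ]
  obtain ⟨g, hg⟩ := isConj_iff.mp (Equiv.Perm.isConj_iff_cycleType_eq.mpr hct)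
  -- hg : g * E my * g⁻¹ = y
  have key : ∀ a, a ∈ (g * E (my p M) * g⁻¹).support → a ∈ y.support := by
    intro a ha; rw [hg] at ha; exact ha
  have hsuppE : ∀ e : Perm (ZMod M × ZMod p), (g * E e * g⁻¹).support ⊆ y.support := by
    intro e a ha
    rw [Equiv.Perm.support_conj, Finset.mem_map] at ha
    obtain ⟨a', ha', rfl⟩ := ha
    rw [hE, Equiv.Perm.support_extend_domain, Finset.mem_map] at ha'
    obtain ⟨q, _, rfl⟩ := ha'
    apply key
    rw [Equiv.Perm.support_conj, Finset.mem_map]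
    refine ⟨f.asEmbedding q, ?_, rfl⟩
    rw [hE, Equiv.Perm.support_extend_domain, Finset.mem_map]
    exact ⟨q, by rw [my_support]; exact Finset.mem_univ _, rfl⟩
  refine ⟨g * E (mb p M) * g⁻¹, g * E (mc p M) * g⁻¹, ?_, ?_, ?_, hsuppE _, hsuppE _, ?_⟩
  · rw [← hg, my_eq, map_mul]; group
  · rw [Equiv.Perm.cycleType_conj, hE, Equiv.Perm.cycleType_extendDomain, mc_cycleType]
  · rw [conj_pow, ← map_pow, mb_pow_M, map_one]; group
  · -- p-group
    have hP : IsPGroup p ↥(trGroup p M) := trGroup_pgroup (k + 2) (by rw [hM, ← pow_succ])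
    have hP2 : IsPGroup p ↥(Subgroup.closure ({mb p M, mc p M} : Set (Perm (ZMod M × ZMod p)))) :=
      hP.to_le closure_le_trGroup
    let φ : Perm (ZMod M × ZMod p) →* Perm α := (MulAut.conj g).toMonoidHom.comp E
    have hφ : ∀ e, φ e = g * E e * g⁻¹ := fun e => rfl
    have himg : Subgroup.closure ({g * E (mb p M) * g⁻¹, g * E (mc p M) * g⁻¹} : Set (Perm α)) =
        (Subgroup.closure ({mb p M, mc p M} : Set (Perm (ZMod M × ZMod p)))).map φ := by
      rw [MonoidHom.map_closure]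
      congr 1
      rw [Set.image_pair, hφ, hφ]
    rw [himg]
    exact hP2.map φ

end Cfsg.Agent.Lib.Helper10.AltFus
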