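import Mathlib
import Cfsg.Agent.Lib.Helper27.AltFus.Defs
import Cfsg.Agent.Lib.Helper10.AltFusS1

set_option autoImplicit false

/-! Piece S2 of project AltFus (S5165): splitting a `p`-element. -/

namespace Cfsg.Agent.Lib.Helper10.AltFus
open Cfsg.Agent.Lib.Helper27.AltFus Equiv

theorem support_closure_subset {α : Type*} [Fintype α] [DecidableEq α] (S : Set (Perm α))
    (A : Finset α) (hS : ∀ s ∈ S, s.support ⊆ A) :
    ∀ x ∈ Subgroup.closure S, x.support ⊆ A := by
  intro x hx
  induction hx using Subgroup.closure_induction with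
  | mem x hx => exact hS x hx
  | one => rw [Perm.support_one]; exact Finset.empty_subset _
  | mul x y _ _ hx hy =>
    exact (Perm.support_mul_le x y).trans (Finset.union_subset hx hy)
  | inv x _ hx => rw [Perm.support_inv]; exact hx

theorem commute_of_support_disjoint {α : Type*} [Fintype α] [DecidableEq α] {x z : Perm α}
    {A B : Finset α} (hAB : Disjoint A B) (hx : x.support ⊆ A) (hz : z.support ⊆ B) :
    x * z = z * x := by
  have : Perm.Disjoint x z := by
    rw [Perm.disjoint_iff_disjoint_support]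
    exact Disjoint.mono hx hz hAB
  exact this.commute.eq

theorem sign_pcycle_eq {α : Type*} [Fintype α] [DecidableEq α] (p : ℕ) [Fact p.Prime] (j : ℕ)
    (hj : 1 ≤ j) (σ c : Perm α) (hσ : σ.IsCycle) (hcard : σ.support.card = p ^ j)
    (hc : c.cycleType = {p}) : Perm.sign c = Perm.sign σ := by
  have hpp : p.Prime := Fact.out
  rw [hσ.sign, hcard, Perm.sign_of_cycleType, hc]
  simp only [Multiset.sum_singleton, Multiset.card_singleton]
  rcases hpp.eq_two_or_odd' with h2 | hodd
  · subst h2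
    have : Even (2 ^ j) := (Nat.even_pow.mpr ⟨even_two, by omega⟩)
    rw [this.neg_one_pow]
    rfl
  · have h1 : Odd (p ^ j) := hodd.pow
    rw [h1.neg_one_pow, (hodd.add_one).neg_one_pow]
    simp

theorem pelt_split_aux {α : Type*} [Fintype α] [DecidableEq α] (p : ℕ) [Fact p.Prime] (k : ℕ)
    (y : Perm α) (hy : y ^ p ^ (k + 1) = 1) :
    ∃ b c : Perm α, y = b * c ∧ b ^ p ^ k = 1 ∧ c ^ p = 1 ∧ Perm.sign c = Perm.sign y ∧
      b.support ⊆ y.support ∧ c.support ⊆ y.support ∧
      IsPGroup p ↥(Subgroup.closure ({b, c} : Set (Perm α))) := by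
  have hpp : p.Prime := Fact.out
  induction y using Perm.cycle_induction_on with
  | base_one =>
    refine ⟨1, 1, by simp, by simp, by simp, rfl, by simp, by simp, ?_⟩
    have : Subgroup.closure ({1, 1} : Set (Perm α)) = ⊥ := by
      rw [Subgroup.closure_eq_bot_iff]; simp
    rw [this]
    exact IsPGroup.of_bot
  | base_cycles σ hσ =>
    have hdvd : σ.support.card ∣ p ^ (k + 1) := by
      rw [← hσ.orderOf]; exact orderOf_dvd_of_pow_eq_one hy
    obtain ⟨j, hjk, hj⟩ := (Nat.dvd_prime_pow hpp).mp hdvd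
    have hj1 : 1 ≤ j := by
      rcases Nat.eq_zero_or_pos j with h | h
      · subst h
        have := hσ.two_le_card_support
        rw [hj] at this; norm_num at this
      · exact h
    by_cases hj2 : j = 1
    · subst hj2
      have hσp : σ ^ p = 1 := by
        have := hσ.orderOf
        rw [hj, pow_one] at this
        rw [← this]; exact pow_orderOf_eq_one σ
      refine ⟨1, σ, by simp, by simp, hσp, rfl, by simp, subset_rfl, ?_⟩
      have hle : Subgroup.closure ({1, σ} : Set (Perm α)) ≤ Subgroup.zpowers σ := by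
        rw [Subgroup.closure_le]
        rintro x (rfl | rfl)
        · exact Subgroup.one_mem _
        · exact Subgroup.mem_zpowers _
      have hz : IsPGroup p ↥(Subgroup.zpowers σ) := by
        apply IsPGroup.of_card (n := 1)
        rw [Nat.card_zpowers, hσ.orderOf, hj]
      exact hz.to_le hle
    · obtain ⟨j', rfl⟩ : ∃ j', j = j' + 2 := ⟨j - 2, by omega⟩
      obtain ⟨b, c, hbc, hc, hb, hcs, hbs, hP⟩ := cycle_split p j' σ hσ hj
      have hcp : c ^ p = 1 := by
        have h := Perm.lcm_cycleType c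
        rw [hc] at h
        simp at h
        rw [h]; exact pow_orderOf_eq_one c
      refine ⟨b, c, hbc, ?_, hcp, sign_pcycle_eq p (j' + 2) (by omega) σ c hσ hj hc, hbs, hcs, hP⟩
      obtain ⟨d, hd⟩ := pow_dvd_pow p (show j' + 1 ≤ k by omega)
      rw [hd, pow_mul, hb, one_pow]
  | induction_disjoint σ τ hd hσc ihσ ihτ =>
    have hcomm : Commute σ τ := hd.commute
    have hpow : σ ^ p ^ (k + 1) * τ ^ p ^ (k + 1) = 1 := by
      rw [← hcomm.mul_pow]; exact hy
    have hdp : Perm.Disjoint (σ ^ p ^ (k + 1)) (τ ^ p ^ (k + 1)) := hd.pow_disjoint_pow _ _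
    obtain ⟨h1, h2⟩ := hdp.mul_eq_one_iff.mp hpow
    obtain ⟨b₁, c₁, hy₁, hb₁, hc₁, hs₁, hbs₁, hcs₁, hP₁⟩ := ihσ h1
    obtain ⟨b₂, c₂, hy₂, hb₂, hc₂, hs₂, hbs₂, hcs₂, hP₂⟩ := ihτ h2
    have hdisj : Disjoint σ.support τ.support := Perm.disjoint_iff_disjoint_support.mp hd
    have hb12 : b₁ * b₂ = b₂ * b₁ := commute_of_support_disjoint hdisj hbs₁ hbs₂
    have hc12 : c₁ * c₂ = c₂ * c₁ := commute_of_support_disjoint hdisj hcs₁ hcs₂
    have hc1b2 : c₁ * b₂ = b₂ * c₁ := commute_of_support_disjoint hdisj hcs₁ hbs₂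
    have hsupp : (σ * τ).support = σ.support ∪ τ.support := hd.support_mul
    refine ⟨b₁ * b₂, c₁ * c₂, ?_, ?_, ?_, ?_, ?_, ?_, ?_⟩
    · rw [hy₁, hy₂, mul_assoc, ← mul_assoc c₁, hc1b2, mul_assoc, mul_assoc]
    · rw [(show Commute b₁ b₂ from hb12).mul_pow, hb₁, hb₂, one_mul]
    · rw [(show Commute c₁ c₂ from hc12).mul_pow, hc₁, hc₂, one_mul]
    · rw [map_mul, map_mul, hs₁, hs₂]
    · rw [hsupp]
      exact (Perm.support_mul_le _ _).trans
        (Finset.union_subset_union hbs₁ hbs₂)
    · rw [hsupp]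
      exact (Perm.support_mul_le _ _).trans
        (Finset.union_subset_union hcs₁ hcs₂)
    · set Q₁ := Subgroup.closure ({b₁, c₁} : Set (Perm α)) with hQ₁
      set Q₂ := Subgroup.closure ({b₂, c₂} : Set (Perm α)) with hQ₂
      have hQ₁s : ∀ x ∈ Q₁, x.support ⊆ σ.support :=
        support_closure_subset _ _ (by rintro s (rfl | rfl); exacts [hbs₁, hcs₁])
      have hQ₂s : ∀ x ∈ Q₂, x.support ⊆ τ.support :=
        support_closure_subset _ _ (by rintro s (rfl | rfl); exacts [hbs₂, hcs₂])
      have hnorm : Q₁ ≤ Subgroup.normalizer (Q₂ : Set (Perm α)) := by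
        intro x hx
        rw [Subgroup.mem_normalizer_iff]
        intro z
        have key : ∀ w ∈ Q₂, x * w * x⁻¹ = w := by
          intro w hw
          rw [commute_of_support_disjoint hdisj (hQ₁s x hx) (hQ₂s w hw)]
          group
        constructor
        · intro hz; rw [key z hz]; exact hz
        · intro hz
          have h3 : x⁻¹ * (x * z * x⁻¹) * x = z := by group
          have h4 := key _ hz
          rw [← h3, ← h4]
          have : x⁻¹ * (x * (x * z * x⁻¹) * x⁻¹) * x = x * z * x⁻¹ := by group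
          rw [this]; exact hz
      have hsup : IsPGroup p ↥(Q₁ ⊔ Q₂) := IsPGroup.to_sup_of_normal_right' hP₁ hP₂ hnorm
      refine hsup.to_le ?_
      rw [Subgroup.closure_le]
      rintro x (rfl | rfl)
      · exact Subgroup.mul_mem _ (Subgroup.mem_sup_left (Subgroup.subset_closure (by simp)))
          (Subgroup.mem_sup_right (Subgroup.subset_closure (by simp)))
      · exact Subgroup.mul_mem _ (Subgroup.mem_sup_left (Subgroup.subset_closure (by simp)))
          (Subgroup.mem_sup_right (Subgroup.subset_closure (by simp)))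

theorem pelt_split {α : Type*} [Fintype α] [DecidableEq α] (p : ℕ) [Fact p.Prime] (k : ℕ)
    (y : Perm α) (hy : y ^ p ^ (k + 1) = 1) :
    ∃ b c : Perm α, y = b * c ∧ b ^ p ^ k = 1 ∧ c ^ p = 1 ∧ Perm.sign c = Perm.sign y ∧
      IsPGroup p ↥(Subgroup.closure ({b, c} : Set (Perm α))) := by
  obtain ⟨b, c, h1, h2, h3, h4, _, _, h7⟩ := pelt_split_aux p k y hy
  exact ⟨b, c, h1, h2, h3, h4, h7⟩

end Cfsg.Agent.Lib.Helper10.AltFus
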