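import Mathlib
import Cfsg.Agent.Lib.Lead.B3P.Defs
import Cfsg.Agent.Lib.Helper25.CharOrth

/-!
# Project B3P (S4427), piece PHI2 : `[Phi x, χ] = ∑ h, x h * χ h`
-/

set_option autoImplicit false
set_option linter.unusedVariables false
set_option linter.unusedSectionVars false
set_option linter.style.haveILetI false
open scoped ComplexConjugate
open Classical

namespace Cfsg.Agent.Lib.Lead.B3P

open Cfsg.Agent.Lib.helper7 Cfsg.Agent.Lib.helper7.Br Polynomial

variable {G : Type*} [Group G]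

/-- piece PHI2 : `[Phi x, χ] = ∑ h, x h * χ h` -/
theorem phi_inner_irr [Fintype G] (x : GA ℂ G) (χ : Cfsg.IrrCharacter G) :
    Cfsg.classInner (Phi x) (χ : G → ℂ) = ∑ h : G, x h * (χ : G → ℂ) h := by
  have hG : (Nat.card G : ℂ) ≠ 0 := by
    have : 0 < Nat.card G := Nat.card_pos
    exact_mod_cast this.ne'
  unfold Cfsg.classInner
  -- the double sum
  have h1 : ∑ g : G, Phi x g * conj ((χ : G → ℂ) g) =
      ∑ z : G, ∑ h : G, x h * (χ : G → ℂ) h := by
    simp only [Phi_apply, Finset.sum_mul]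
    rw [Finset.sum_comm]
    refine Finset.sum_congr rfl fun z _ => ?_
    -- substitute `h = z⁻¹ y⁻¹ z`
    refine Fintype.sum_bijective (fun y : G => z⁻¹ * y⁻¹ * z) ?_ _ _ fun y => ?_
    · refine ⟨fun a b hab => ?_, fun b => ⟨(z * b * z⁻¹)⁻¹, by group⟩⟩
      have h2 : a⁻¹ = b⁻¹ := by
        have := congrArg (fun t => z * t * z⁻¹) hab
        simpa [mul_assoc] using this
      exact inv_injective h2
    · congr 1
      rw [← Cfsg.Agent.Lib.Helper25.irr_inv χ y]
      have h3 := Cfsg.Agent.Lib.Helper25.irr_conj_invariant χ y⁻¹ z⁻¹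
      rw [inv_inv] at h3
      rw [h3]
  rw [h1, Finset.sum_const, Finset.card_univ, nsmul_eq_mul, ← Nat.card_eq_fintype_card,
    ← mul_assoc, inv_mul_cancel₀ hG, one_mul]

end Cfsg.Agent.Lib.Lead.B3P
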