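import Mathlib
import Cfsg.Agent.Lib.Lead.B3P.Defs

/-!
# Project B3P (S4427), piece PHI3 : for an idempotent `x` and a representation `ρ`,
`∑ h, x h * tr ρ(h)` is a natural number
-/

set_option autoImplicit false
set_option linter.unusedVariables false
set_option linter.unusedSectionVars false
set_option linter.style.haveILetI false
open scoped ComplexConjugate
open Classical

namespace Cfsg.Agent.Lib.Lead.B3P

open Cfsg.Agent.Lib.helper7 Cfsg.Agent.Lib.helper7.Br Polynomial

variable {G : Type*} [Group G]

/-- the image of an element of the group algebra under a representation -/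
theorem b3pphi3_asAlgebraHom [Fintype G] (x : GA ℂ G) {V : Type*} [AddCommGroup V] [Module ℂ V]
    (ρ : Representation ℂ G V) :
    ρ.asAlgebraHom (GA.toMA x) = ∑ h : G, x h • ρ h := by
  rw [Representation.asAlgebraHom_def, MonoidAlgebra.lift_apply]
  rw [Finsupp.sum_fintype (GA.toMA x).coeff (fun a b => b • ρ a) (fun _ => zero_smul _ _)]
  rfl

/-- `toMA` is multiplicative -/
theorem b3pphi3_toMA_mul [Fintype G] (x y : GA ℂ G) :
    GA.toMA (x * y) = GA.toMA x * GA.toMA y := by
  show GA.toMA (GA.toMA.symm (GA.toMA x * GA.toMA y)) = _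
  rw [Equiv.apply_symm_apply]

/-- piece PHI3 : for an idempotent `x` and a representation `ρ`, `∑ h, x h * tr ρ(h)` is a natural number -/
theorem idem_trace_nat [Fintype G] (x : GA ℂ G) (hx : x * x = x) (n : ℕ)
    (ρ : Representation ℂ G (Fin n → ℂ)) :
    ∃ m : ℕ, ∑ h : G, x h * ρ.character h = (m : ℂ) := by
  set T : Module.End ℂ (Fin n → ℂ) := ρ.asAlgebraHom (GA.toMA x) with hT
  have hidem : IsIdempotentElem T := by
    show T * T = T
    rw [hT, ← map_mul, ← b3pphi3_toMA_mul, hx]
  have htr : LinearMap.trace ℂ (Fin n → ℂ) T = ∑ h : G, x h * ρ.character h := by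
    rw [hT, b3pphi3_asAlgebraHom, map_sum]
    refine Finset.sum_congr rfl fun h _ => ?_
    rw [map_smul, smul_eq_mul]
    rfl
  refine ⟨Module.finrank ℂ (LinearMap.range T), ?_⟩
  rw [← htr]
  exact (LinearMap.IsIdempotentElem.isProj_range T hidem).trace

end Cfsg.Agent.Lib.Lead.B3P
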