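import Mathlib
import Cfsg.Agent.Lib.Lead.B3P.Defs
import Cfsg.Agent.Lib.helper2.CharNat
import Cfsg.Agent.Lib.Helper10.B3PPHI2
import Cfsg.Agent.Lib.Helper10.B3PPHI3

/-!
# Project B3P (S4427), piece PHI4, core : `Phi x` is a character for idempotent `x`
(with the statement of `phi_classFunction` (PHI1) as a hypothesis)
-/

set_option autoImplicit false
set_option linter.unusedVariables false
set_option linter.unusedSectionVars false
set_option linter.style.haveILetI false
open scoped ComplexConjugate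
open Classical

namespace Cfsg.Agent.Lib.Lead.B3P

open Cfsg.Agent.Lib.helper7 Cfsg.Agent.Lib.helper7.Br Polynomial

variable {G : Type*} [Group G]

/-- piece PHI4, core -/
theorem b3pphi4_core [Fintype G] (hcl : ∀ x : GA ℂ G, Cfsg.IsClassFunction G (Phi x))
    (x : GA ℂ G) (hx : x * x = x) : Cfsg.IsCharacter G (Phi x) := by
  apply Cfsg.Agent.Lib.helper2.isCharacter_of_classInner_nat (hcl x)
  intro χ
  rw [phi_inner_irr]
  obtain ⟨n, ρ, hρ, hχ⟩ := χ.2
  obtain ⟨m, hm⟩ := idem_trace_nat x hx n ρ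
  refine ⟨m, ?_⟩
  rw [← hm, hχ]

end Cfsg.Agent.Lib.Lead.B3P
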