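import Mathlib
import Cfsg.Agent.Lib.Lead.B3P.Defs
import Cfsg.Agent.Lib.helper2.CharNat
import Cfsg.Agent.Lib.Helper10.B3PPHI4core

/-!
# Project B3P (S4427), piece PHI4 : `Phi x` is a character for idempotent `x`
-/

set_option autoImplicit false
set_option linter.unusedVariables false
set_option linter.unusedSectionVars false
set_option linter.style.haveILetI false
open scoped ComplexConjugate
open Classical

namespace Cfsg.Agent.Lib.Lead.B3P

open Cfsg.Agent.Lib.helper7 Cfsg.Agent.Lib.helper7.Br Polynomial

variable {G : Type*} [Group G]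

/-- `Phi x` is a class function (own copy of the first part of PHI1, so that PHI4 does not wait for it) -/
theorem b3pphi4_classFunction [Fintype G] (x : GA ℂ G) : Cfsg.IsClassFunction G (Phi x) := by
  intro g h
  rw [Phi_apply, Phi_apply]
  refine Fintype.sum_bijective (fun z : G => h⁻¹ * z) ?_ _ _ fun z => ?_
  · exact ⟨fun a b hab => mul_left_cancel hab, fun b => ⟨h * b, by group⟩⟩
  · congr 1
    group

/-- piece PHI4 : `Phi x` is a character for idempotent `x` (from PHI1, PHI2, PHI3 and
`helper2.isCharacter_of_classInner_nat`) -/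
theorem phi_isCharacter [Fintype G] (x : GA ℂ G) (hx : x * x = x) : Cfsg.IsCharacter G (Phi x) :=
  b3pphi4_core b3pphi4_classFunction x hx

end Cfsg.Agent.Lib.Lead.B3P
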