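import Mathlib
import Cfsg.Agent.Lib.Lead.B3P.Defs

/-!
# Project B3P (S4427), piece PQR : `[(1_Q)^G, (1_R)^G] = |G| / (|Q| |R|)` for subgroups of coprime orders
-/

set_option autoImplicit false
set_option linter.unusedVariables false
set_option linter.unusedSectionVars false
set_option linter.style.haveILetI false
open scoped ComplexConjugate
open Classical

namespace Cfsg.Agent.Lib.Lead.B3P

open Cfsg.Agent.Lib.helper7 Cfsg.Agent.Lib.helper7.Br Polynomial

variable {G : Type*} [Group G]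

/-- the value of `Phi (eH H c)` at `1` -/
theorem b3ppqr_one [Fintype G] (H : Subgroup G) (c : ℂ) :
    Phi (eH H c) 1 = (Nat.card G : ℂ) * c := by
  rw [Phi_apply]
  have h : ∀ z : G, eH H c (z⁻¹ * 1⁻¹ * z) = c := by
    intro z
    rw [eH_apply]
    have : z⁻¹ * 1⁻¹ * z = 1 := by group
    rw [this, if_pos H.one_mem]
  simp only [h, Finset.sum_const, Finset.card_univ, nsmul_eq_mul, Nat.card_eq_fintype_card]

/-- where `Phi (eH H c)` does not vanish, the order divides `|H|` -/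
theorem b3ppqr_ne_zero [Fintype G] (H : Subgroup G) (c : ℂ) (y : G)
    (hy : Phi (eH H c) y ≠ 0) : orderOf y ∣ Nat.card H := by
  rw [Phi_apply] at hy
  obtain ⟨z, -, hz⟩ := Finset.exists_ne_zero_of_sum_ne_zero hy
  rw [eH_apply] at hz
  have hmem : z⁻¹ * y⁻¹ * z ∈ H := by
    by_contra h
    exact hz (if_neg h)
  have h1 := Subgroup.orderOf_dvd_natCard H hmem
  have ho : orderOf (z⁻¹ * y⁻¹ * z) = orderOf y := by
    have h2 : z⁻¹ * y⁻¹ * z = (MulAut.conj z⁻¹) y⁻¹ := by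
      rw [MulAut.conj_apply, inv_inv]
    rw [h2, MulEquiv.orderOf_eq, orderOf_inv]
  rwa [ho] at h1

/-- `Phi (eH H c)` is real-valued when `c` is -/
theorem b3ppqr_conj [Fintype G] (H : Subgroup G) (c : ℂ) (hc : conj c = c) (y : G) :
    conj (Phi (eH H c) y) = Phi (eH H c) y := by
  rw [Phi_apply, map_sum]
  refine Finset.sum_congr rfl fun z _ => ?_
  rw [eH_apply]
  split_ifs
  · exact hc
  · exact map_zero _

/-- piece PQR : `[(1_Q)^G, (1_R)^G] = |G| / (|Q| |R|)` for subgroups of coprime orders -/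
theorem phi_inner_eH [Fintype G] (Q R : Subgroup G) (hQR : (Nat.card Q).Coprime (Nat.card R)) :
    Cfsg.classInner (Phi (eH Q ((Nat.card Q : ℂ)⁻¹))) (Phi (eH R ((Nat.card R : ℂ)⁻¹))) =
      (Nat.card G : ℂ) / ((Nat.card Q : ℂ) * (Nat.card R : ℂ)) := by
  have hG : (Nat.card G : ℂ) ≠ 0 := by
    have : 0 < Nat.card G := Nat.card_pos
    exact_mod_cast this.ne'
  have hQ0 : (Nat.card Q : ℂ) ≠ 0 := by
    have : 0 < Nat.card Q := Nat.card_pos
    exact_mod_cast this.ne'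
  have hR0 : (Nat.card R : ℂ) ≠ 0 := by
    have : 0 < Nat.card R := Nat.card_pos
    exact_mod_cast this.ne'
  have hcR : conj ((Nat.card R : ℂ)⁻¹) = (Nat.card R : ℂ)⁻¹ := by
    rw [map_inv₀, Complex.conj_natCast]
  unfold Cfsg.classInner
  have hsum : ∑ g : G, Phi (eH Q ((Nat.card Q : ℂ)⁻¹)) g * conj (Phi (eH R ((Nat.card R : ℂ)⁻¹)) g) =
      Phi (eH Q ((Nat.card Q : ℂ)⁻¹)) 1 * Phi (eH R ((Nat.card R : ℂ)⁻¹)) 1 := by
    rw [Finset.sum_eq_single (1 : G)]
    · rw [b3ppqr_conj R _ hcR]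
    · intro y _ hy1
      rw [b3ppqr_conj R _ hcR]
      by_contra hne
      have hq : Phi (eH Q ((Nat.card Q : ℂ)⁻¹)) y ≠ 0 := left_ne_zero_of_mul hne
      have hr : Phi (eH R ((Nat.card R : ℂ)⁻¹)) y ≠ 0 := right_ne_zero_of_mul hne
      have h1 := b3ppqr_ne_zero Q _ y hq
      have h2 := b3ppqr_ne_zero R _ y hr
      have h3 := Nat.dvd_gcd h1 h2
      rw [hQR.gcd_eq_one] at h3
      exact hy1 (orderOf_eq_one_iff.mp (Nat.dvd_one.mp h3))
    · intro h
      exact absurd (Finset.mem_univ _) h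
  rw [hsum, b3ppqr_one, b3ppqr_one]
  field_simp

end Cfsg.Agent.Lib.Lead.B3P
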