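import Mathlib
import Cfsg.Agent.Lib.Lead.BCG.Defs
import Cfsg.Agent.Lib.Helper13.S5972MAXEL
import Cfsg.Agent.Lib.helper23.ONECYCLADDER
import Cfsg.Agent.Lib.Helper16.BCGA12h16
import Cfsg.Agent.Lib.Helper16.BCGA13
import Cfsg.Agent.Lib.Helper5.BCGA14
import Cfsg.Agent.Lib.Helper20.BCGA16
import Cfsg.Agent.Lib.helper17.ONENDPERPS
import Cfsg.Agent.Lib.helper15.S5972STDCTX
import Cfsg.Agent.Lib.helper15.S5972STDO
import Cfsg.Agent.Lib.Helper25.BCGX4
import Cfsg.Agent.Lib.Helper25.S5972OMEGAODD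

/-!
# Project BCG, row O2 : `o_ps_suf` (verbatim)
-/

set_option autoImplicit false

namespace Cfsg.Agent.Lib.Lead.BCG

open Polynomial Module Matrix Cfsg.Agent.Lib.Helper13.S5955 Cfsg.Agent.Lib.helper15.S5972
  Cfsg.Agent.Lib.Helper18.ONE Cfsg.Agent.Lib.Lead.BCS

theorem bcgo2_mem_fixS {F : Type*} [Field F] {V : Type*} [AddCommGroup V] [Module F V]
    (x : Module.End F V) (v : V) : v ∈ fixS x ↔ x v = v := by
  unfold fixS
  rw [LinearMap.mem_ker]
  simp only [map_sub, aeval_X, map_one, LinearMap.sub_apply, Module.End.one_apply]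
  exact sub_eq_zero

/-- an element of a monoid killed by two coprime exponents is `1` -/
theorem bcgo2_coprime_pow {M : Type*} [Monoid M] (a : M) (m n : ℕ) (hmn : Nat.Coprime m n)
    (hm : a ^ m = 1) (hn : a ^ n = 1) : a = 1 := by
  have h1 : orderOf a ∣ m := orderOf_dvd_of_pow_eq_one hm
  have h2 : orderOf a ∣ n := orderOf_dvd_of_pow_eq_one hn
  have h3 : orderOf a ∣ 1 := by
    have := Nat.dvd_gcd h1 h2
    rwa [hmn] at this
  exact orderOf_eq_one_iff.mp (Nat.dvd_one.mp h3)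

/-- O2 [M-L] -/
theorem o_ps_suf {F : Type*} [Field F] [Fintype F] {p : ℕ} [Fact p.Prime] [CharP F p]
    (hodd : Odd (Fintype.card F)) (n : ℕ) (hn : 3 ≤ n) (s : ℕ) [Fact s.Prime] (hsp : s ≠ p)
    (hs2 : s ≠ 2) (h : CritP (Fintype.card F) n s) : InO n F (p * s) := by
  classical
  have h2 : (2 : F) ≠ 0 := Cfsg.Agent.Lib.helper15.S5972.s5972omegaodd_two_ne hodd
  have hp2 : p ≠ 2 := by
    intro hp
    apply h2
    have : ((p : ℕ) : F) = 0 := CharP.cast_eq_zero F p
    rw [hp] at this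
    exact_mod_cast this
  have hpp : p.Prime := Fact.out
  have hss : s.Prime := Fact.out
  obtain ⟨hsymm, hnd, hself, -⟩ := stdO_facts (F := F) h2 n
  set c := cOf (Fintype.card F) s with hcdef
  have hc : c = if Even (orderOf ((Fintype.card F : ℕ) : ZMod s)) then
      orderOf ((Fintype.card F : ℕ) : ZMod s) else 2 * orderOf ((Fintype.card F : ℕ) : ZMod s) :=
    rfl
  have hcn : c + 2 ≤ 2 * n := h
  -- the maximal element
  obtain ⟨y, hy, hy1, hyfix⟩ := o_maxel (F := F) hp2 s hsp hs2 n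
    (orderOf ((Fintype.card F : ℕ) : ZMod s)) c rfl hc (by omega)
  obtain ⟨hcycpos, hcdvd, hsum⟩ := o_cyc_dim (F := F) hsp hs2 hy hy1
  rw [← hcdef] at hcdvd
  have hcle : c * 1 ≤ finrank F (cycS s y) := by
    rw [mul_one]
    exact Nat.le_of_dvd hcycpos hcdvd
  obtain ⟨M, hMcyc, hMinv, hMnd, hMdim⟩ := o_nd_ladder (F := F) hsp hs2 hy
    (orderOf ((Fintype.card F : ℕ) : ZMod s)) c rfl hc 1 hcle
  rw [mul_one] at hMdim
  -- `c ≥ 1`
  have hcpos : 0 < c := by
    rcases Nat.eq_zero_or_pos c with h0 | h0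
    · exfalso
      rw [h0] at hcdvd
      have := Nat.eq_zero_of_zero_dvd hcdvd
      omega
    · exact h0
  -- the cut
  obtain ⟨y', hy', hy'M, hy'perp⟩ := bcga12_h16 hy M hMinv hMnd
  -- `y' ≠ 1`
  have hdisj : ∀ v, v ∈ fixS y → v ∈ cycS s y → v = 0 := by
    intro v hv1 hv2
    have hsplit := Cfsg.Agent.Lib.helper15.S5972.o_split (F := F) hsp hy
    have := hsplit.2.1.disjoint
    rw [Submodule.disjoint_def] at this
    exact this v hv1 hv2
  have hy'1 : y' ≠ 1 := by
    intro h1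
    have hMne : M ≠ ⊥ := by
      intro hb
      rw [hb, finrank_bot] at hMdim
      omega
    obtain ⟨v, hvM, hv0⟩ := Submodule.exists_mem_ne_zero_of_ne_bot hMne
    apply hv0
    apply hdisj v _ (hMcyc hvM)
    rw [bcgo2_mem_fixS, ← hy'M v hvM, h1, Module.End.one_apply]
  -- the perp of `M`
  have hTnd : SND (stdO n F) ⊤ := fun u _ hu => hnd u (fun v => hu v Submodule.mem_top)
  obtain ⟨-, -, hPnd, -, hPdim⟩ := nd_perp_symm (stdO n F) hsymm ⊤ M hTnd le_top hMnd
  rw [top_inf_eq] at hPnd hPdim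
  have hVdim : finrank F (Unit ⊕ (Fin n ⊕ Fin n) → F) = 2 * n + 1 := by
    rw [Module.finrank_fintype_fun_eq_card]
    simp
    ring
  rw [finrank_top, hVdim, hMdim] at hPdim
  obtain ⟨z, w, hzU, hwU, hz0, hzz, hzw, hww⟩ := sing_pair (F := F) h2 (stdO n F) hsymm
    ((stdO n F).orthogonal M) hPnd (by omega)
  -- the Siegel element
  have hQz : Cfsg.Agent.Lib.Helper16.qfOdd n F z = 0 := by
    have := hself z
    rw [hzz] at this
    rcases mul_eq_zero.mp this.symm with h0 | h0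
    · exact absurd h0 h2
    · exact h0
  have hQw : Cfsg.Agent.Lib.Helper16.qfOdd n F w ≠ 0 := by
    intro h0
    apply hww
    rw [hself w]
    have : Cfsg.quadFormOdd n F w = 0 := h0
    rw [this, mul_zero]
  obtain ⟨u, huQ, hup, hu1, hucomm⟩ := siegel_elt (F := F) hp2
    (Cfsg.Agent.Lib.Helper16.qfOdd n F) (Cfsg.Agent.Lib.Helper16.OA.qfOdd_nondeg n h2) z w hz0
    hQz hzw hQw
  have hcomm : Commute y' u :=
    hucomm y' (fun a b => hy'.pres a b) (hy'perp z hzU) (hy'perp w hwU)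
  -- `u` preserves `stdO`
  have hupres : ∀ a b, stdO n F (u a) (u b) = stdO n F a b := by
    intro a b
    show QuadraticMap.polar (⇑(Cfsg.Agent.Lib.Helper16.qfOdd n F)) (u a) (u b) =
      QuadraticMap.polar (⇑(Cfsg.Agent.Lib.Helper16.qfOdd n F)) a b
    unfold QuadraticMap.polar
    rw [← map_add, huQ, huQ, huQ]
  -- the product
  have hxctx : OCtx (s * p) (stdO n F) (y' * u) := by
    refine ⟨hsymm, hnd, ?_, ?_⟩
    · intro a b
      rw [Module.End.mul_apply, Module.End.mul_apply, hy'.pres, hupres]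
    · rw [hcomm.mul_pow, pow_mul, hy'.pow, one_pow, mul_comm s p, pow_mul, hup, one_pow,
        mul_one]
  obtain ⟨X, hXiso, hXlin, hXpow⟩ := o_realize h2 n (s * p) (y' * u) hxctx
  -- the order
  have hsp_co : Nat.Coprime s p := (Nat.coprime_primes hss hpp).mpr hsp
  have hXs : X ^ s ≠ 1 := by
    intro h1
    rw [gl_same, hXlin, hcomm.mul_pow, hy'.pow, one_mul] at h1
    exact hu1 (bcgo2_coprime_pow u s p hsp_co h1 hup)
  have hXp : X ^ p ≠ 1 := by
    intro h1
    rw [gl_same, hXlin, hcomm.mul_pow, hup, mul_one] at h1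
    exact hy'1 (bcgo2_coprime_pow y' s p hsp_co hy'.pow h1)
  have hord : orderOf X = p * s := by
    have hdvd : orderOf X ∣ s * p := orderOf_dvd_of_pow_eq_one hXpow
    obtain ⟨a, b, ha, hb, hab⟩ := (Nat.dvd_mul).mp hdvd
    rcases (Nat.dvd_prime hss).mp ha with ha1 | has
    · exfalso
      apply hXp
      have : orderOf X ∣ p := by rw [← hab, ha1, one_mul]; exact hb
      exact orderOf_dvd_iff_pow_eq_one.mp this
    · rcases (Nat.dvd_prime hpp).mp hb with hb1 | hbp
      · exfalso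
        apply hXs
        have : orderOf X ∣ s := by rw [← hab, hb1, mul_one]; exact ha
        exact orderOf_dvd_iff_pow_eq_one.mp this
      · rw [← hab, has, hbp, mul_comm]
  have hpodd : Odd p := hpp.odd_of_ne_two hp2
  have hsodd : Odd s := hss.odd_of_ne_two hs2
  have hXom := omega_of_odd hodd n hn X hXiso (by rw [hord]; exact hpodd.mul hsodd)
  exact ⟨X, hXom, hord⟩

end Cfsg.Agent.Lib.Lead.BCG
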