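import Mathlib
import Cfsg.Agent.Lib.helper14.BGL.UKDefs
import Cfsg.Agent.Lib.helper14.ChevNormVk
import Cfsg.Agent.Lib.helper14.ChevFiltAll
import Cfsg.Agent.Lib.helper8.ChevCommAll
import Cfsg.Agent.Lib.helper8.ChevOrdAll
import Cfsg.Agent.Lib.Helper10.BGL.UkzFin


/-!
# Project BGL, block UK, row UKS5 `uk_spec_B2` (verbatim vs helper14/BGL/UKSkel.lean.txt)

On helper10's sub-block UKZ (`ukz_split`).
-/

set_option autoImplicit false

namespace Cfsg.Agent.Lib.helper14.BGLUK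

open Cfsg.Lie Cfsg.Lie.ChevalleyDatum Cfsg.Agent.Lib.helper8 Cfsg.Agent.Lib.helper14
  Cfsg.Agent.Lib.Helper10.BGL

universe u

variable {K : Type u} [Field K]

theorem bgluks5_Lk : h8Lk chevB2 7 = [7] := by decide

variable [Finite K] [CharP K 2]

/-- UKS5 [S-M].  `B₂`, `m = 6` : `V_7 = X_7` (`h8Vk_step`, `cf_Vk_top`), then `uk_b2_abs`. -/
theorem uk_spec_B2 (hB : H8Base.{u} chevB2) (a : ℕ) (H : Subgroup (GL chevB2.Idx K))
    (hL : Lq chevB2 K (2 ^ a) ≤ H) (hR : RootRat chevB2 (2 ^ a) H)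
    (t1 : K) (v : GL chevB2.Idx K) (hv : v ∈ ukV chevB2 K 7)
    (hg : h8xU chevB2 hB 6 t1 * v ∈ H) : t1 ^ 2 ^ a = t1 := by
  have hD : chevB2 ∈ [chevG2, chevB2, chevD4, chevF4, chevE6, chevE7, chevE8] := by simp
  have hC := h8commAll.{u} chevB2 hD
  obtain ⟨hO, _⟩ := h8ord_all chevB2 hD
  obtain ⟨t, ht⟩ := h8ord_exists chevB2 hB hC hO 1 7 (by decide) v hv
  have hv' : v = h8xU chevB2 hB 7 (t 7) := by
    rw [ht]
    unfold h8ordW
    rw [bgluks5_Lk]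
    simp [h8wordU]
  rw [hv'] at hg
  exact (ukz_split chevB2 (by simp) hB a H hL hR t1 (t 7) hg).1

end Cfsg.Agent.Lib.helper14.BGLUK
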