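import Mathlib
import Cfsg.Agent.Lib.helper14.BGL.UKDefs
import Cfsg.Agent.Lib.helper14.ChevNormVk
import Cfsg.Agent.Lib.helper14.ChevFiltAll
import Cfsg.Agent.Lib.helper8.ChevCommAll
import Cfsg.Agent.Lib.helper8.ChevOrdAll
import Cfsg.Agent.Lib.helper14.BGLUKT1
import Cfsg.Agent.Lib.Helper10.BGL.UkzFin


/-!
# Project BGL, block UK, row UKS6 `uk_spec_F4`: core on the statements of UKL5 / UKB2

On helper10's sub-block UKZ (`ukz_split`).
-/

set_option autoImplicit false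

namespace Cfsg.Agent.Lib.helper14.BGLUK

open Cfsg.Lie Cfsg.Lie.ChevalleyDatum Cfsg.Agent.Lib.helper8 Cfsg.Agent.Lib.helper14
  Cfsg.Agent.Lib.Helper10.BGL

universe u

variable {K : Type u} [Field K]

theorem bgluks6_Lk : h8Lk chevF4 45 = [45, 46, 47] := by decide +kernel

theorem bgluks6_tab : chevF4.commTerms 44 25 = [] ∧ chevF4.commTerms 44 24 = [] ∧
    chevF4.commTerms 44 45 = [] ∧ chevF4.commTerms 44 46 = [] := by decide +kernel

theorem bgluks6_row1 : UkLT chevF4 45 25 46 := ukLTChk_spec chevF4 45 25 46 (by decide +kernel)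

theorem bgluks6_row2 : UkLT chevF4 46 24 47 := ukLTChk_spec chevF4 46 24 47 (by decide +kernel)

/-- `x_44` commutes with `x_s`, `s = 24, 25, 45, 46` -/
theorem bgluks6_comm (hB : H8Base.{u} chevF4) (s : ℕ) (hs : s ∈ [24, 25, 45, 46]) (t v : K) :
    Commute (h8xU chevF4 hB 44 t) (h8xU chevF4 hB s v) := by
  have hC := h8commAll.{u} chevF4 (by simp)
  obtain ⟨h25, h24, h45, h46⟩ := bgluks6_tab
  simp only [List.mem_cons, List.not_mem_nil, or_false] at hs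
  rcases hs with rfl | rfl | rfl | rfl
  · refine ukz_commute chevF4 hB hC 44 24 (by decide) (by decide) (by decide) (by decide) t v ?_
    unfold ChevalleyDatum.commWord
    rw [h24]
    simp [h8wordU]
  · refine ukz_commute chevF4 hB hC 44 25 (by decide) (by decide) (by decide) (by decide) t v ?_
    unfold ChevalleyDatum.commWord
    rw [h25]
    simp [h8wordU]
  · refine ukz_commute chevF4 hB hC 44 45 (by decide) (by decide) (by decide) (by decide) t v ?_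
    unfold ChevalleyDatum.commWord
    rw [h45]
    simp [h8wordU]
  · refine ukz_commute chevF4 hB hC 44 46 (by decide) (by decide) (by decide) (by decide) t v ?_
    unfold ChevalleyDatum.commWord
    rw [h46]
    simp [h8wordU]

/-- `κ_γ(x w) = κ_γ(w)` when `x` commutes with `x_γ(1)` -/
theorem bgluks6_kap_comm (D : ChevalleyDatum) (hB : H8Base.{u} D) (γ : ℕ) (x w : GL D.Idx K)
    (hc : Commute x (h8xU D hB γ (1 : K))) : ukKap D hB γ (x * w) = ukKap D hB γ w := by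
  unfold ukKap
  have h1 : x⁻¹ * h8xU D hB γ (1 : K) * x = h8xU D hB γ (1 : K) := by
    rw [mul_assoc, ← hc.eq, ← mul_assoc, inv_mul_cancel, one_mul]
  calc (h8xU D hB γ (1 : K))⁻¹ * (x * w)⁻¹ * h8xU D hB γ 1 * (x * w)
      = (h8xU D hB γ (1 : K))⁻¹ * w⁻¹ * (x⁻¹ * h8xU D hB γ 1 * x) * w := by group
    _ = _ := by rw [h1]

variable [Finite K] [CharP K 2]

/-- UKS6 core: on the statements of UKL5 `uk_kap_lead` and UKB2 `uk_rat_lead`. -/
theorem bgluks6_core (hB : H8Base.{u} chevF4) (a : ℕ) (H : Subgroup (GL chevF4.Idx K))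
    (hL : Lq chevF4 K (2 ^ a) ≤ H) (hR : RootRat chevF4 (2 ^ a) H)
    (hlead : ∀ (m γ m' : ℕ), UkLT chevF4 m γ m' → ∀ (t : K) (v : GL chevF4.Idx K),
      v ∈ ukV chevF4 K (m + 1) → ∃ v' ∈ ukV chevF4 K (m' + 1),
        ukKap chevF4 hB γ (h8xU chevF4 hB m t * v) = h8xU chevF4 hB m' t * v')
    (hratl : ∀ (m : ℕ), chevF4.IsPosRoot m → ∀ (t : K) (v : GL chevF4.Idx K),
      v ∈ ukV chevF4 K (m + 1) → h8xU chevF4 hB m t * v ∈ ratS (K := K) 2 chevF4 a →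
      t ^ 2 ^ a = t)
    (hIH : ∀ g ∈ H, g ∈ ukV chevF4 K 45 → g ∈ ratS (K := K) 2 chevF4 a)
    (t1 : K) (v : GL chevF4.Idx K) (hv : v ∈ ukV chevF4 K 45)
    (hg : h8xU chevF4 hB 44 t1 * v ∈ H) : t1 ^ 2 ^ a = t1 := by
  have hD : chevF4 ∈ [chevG2, chevB2, chevD4, chevF4, chevE6, chevE7, chevE8] := by simp
  have hC := h8commAll.{u} chevF4 hD
  obtain ⟨hO, _⟩ := h8ord_all chevF4 hD
  obtain ⟨t, ht⟩ := h8ord_exists chevF4 hB hC hO 3 45 (by decide) v hv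
  have hv' : v = h8xU chevF4 hB 45 (t 45) * (h8xU chevF4 hB 46 (t 46) * h8xU chevF4 hB 47 (t 47)) := by
    rw [ht]
    unfold h8ordW
    rw [bgluks6_Lk]
    simp [h8wordU]
  generalize t 45 = u1 at hv'
  generalize t 46 = u2 at hv'
  generalize t 47 = u3 at hv'
  subst hv'
  have hp45 : chevF4.IsPosRoot 45 := by decide
  have hp46 : chevF4.IsPosRoot 46 := by decide
  have hp47 : chevF4.IsPosRoot 47 := by decide
  have hx : ∀ (s : ℕ) (c : K), c ^ 2 ^ a = c → h8xU chevF4 hB s c ∈ H :=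
    fun s c hc => ukz_mem chevF4 hB (2 ^ a) H hL s c hc
  have hone : ∀ s : ℕ, h8xU chevF4 hB s (1 : K) ∈ H := fun s => hx s 1 (one_pow _)
  have hkapH : ∀ (γ : ℕ) (g : GL chevF4.Idx K), g ∈ H → ukKap chevF4 hB γ g ∈ H := by
    intro γ g hg
    unfold ukKap
    exact H.mul_mem (H.mul_mem (H.mul_mem (H.inv_mem (hone γ)) (H.inv_mem hg)) (hone γ)) hg
  have hV46 : ukV chevF4 K 46 ≤ ukV chevF4 K 45 := cfVk_anti chevF4 45 46 (by omega)
  have hV47 : ukV chevF4 K 47 ≤ ukV chevF4 K 45 := cfVk_anti chevF4 45 47 (by omega)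
  have hV48 : ukV chevF4 K 48 ≤ ukV chevF4 K 45 := cfVk_anti chevF4 45 48 (by omega)
  have hV47' : ukV chevF4 K 47 ≤ ukV chevF4 K 46 := cfVk_anti chevF4 46 47 (by omega)
  -- step 1 : u1 rational
  have hu1 : u1 ^ 2 ^ a = u1 := by
    have h1 := hkapH 25 _ hg
    rw [bgluks6_kap_comm chevF4 hB 25 _ _ (bgluks6_comm hB 25 (by simp) t1 1)] at h1
    have hw : h8xU chevF4 hB 46 u2 * h8xU chevF4 hB 47 u3 ∈ ukV chevF4 K (45 + 1) :=
      Subgroup.mul_mem _ (cfx_mem_Vk chevF4 hB 46 46 hp46 le_rfl u2)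
        (cfx_mem_Vk chevF4 hB 46 47 hp47 (by omega) u3)
    obtain ⟨v', hv', e⟩ := hlead 45 25 46 bgluks6_row1 u1 _ hw
    rw [e] at h1
    have h2 : h8xU chevF4 hB 46 u1 * v' ∈ ukV chevF4 K 45 :=
      Subgroup.mul_mem _ (cfx_mem_Vk chevF4 hB 45 46 hp46 (by omega) u1) (hV47 hv')
    exact hratl 46 hp46 u1 v' hv' (hIH _ h1 h2)
  -- remove x_45(u1)
  have hg2 : h8xU chevF4 hB 44 t1 * (h8xU chevF4 hB 46 u2 * h8xU chevF4 hB 47 u3) ∈ H := by
    have h1 := H.mul_mem (H.inv_mem (hx 45 u1 hu1)) hg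
    have e : (h8xU chevF4 hB 45 u1)⁻¹ * (h8xU chevF4 hB 44 t1 *
        (h8xU chevF4 hB 45 u1 * (h8xU chevF4 hB 46 u2 * h8xU chevF4 hB 47 u3))) =
        h8xU chevF4 hB 44 t1 * (h8xU chevF4 hB 46 u2 * h8xU chevF4 hB 47 u3) := by
      have hc := (bgluks6_comm hB 45 (by simp) t1 u1).eq
      rw [← mul_assoc (h8xU chevF4 hB 44 t1), hc]
      group
    rwa [e] at h1
  -- step 2 : u2 rational
  have hu2 : u2 ^ 2 ^ a = u2 := by
    have h1 := hkapH 24 _ hg2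
    rw [bgluks6_kap_comm chevF4 hB 24 _ _ (bgluks6_comm hB 24 (by simp) t1 1)] at h1
    have hw : h8xU chevF4 hB 47 u3 ∈ ukV chevF4 K (46 + 1) :=
      cfx_mem_Vk chevF4 hB 47 47 hp47 le_rfl u3
    obtain ⟨v', hv', e⟩ := hlead 46 24 47 bgluks6_row2 u2 _ hw
    rw [e] at h1
    have h2 : h8xU chevF4 hB 47 u2 * v' ∈ ukV chevF4 K 45 :=
      Subgroup.mul_mem _ (cfx_mem_Vk chevF4 hB 45 47 hp47 (by omega) u2) (hV48 hv')
    exact hratl 47 hp47 u2 v' hv' (hIH _ h1 h2)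
  -- remove x_46(u2)
  have hg3 : h8xU chevF4 hB 44 t1 * h8xU chevF4 hB 47 u3 ∈ H := by
    have h1 := H.mul_mem (H.inv_mem (hx 46 u2 hu2)) hg2
    have e : (h8xU chevF4 hB 46 u2)⁻¹ * (h8xU chevF4 hB 44 t1 *
        (h8xU chevF4 hB 46 u2 * h8xU chevF4 hB 47 u3)) =
        h8xU chevF4 hB 44 t1 * h8xU chevF4 hB 47 u3 := by
      have hc := (bgluks6_comm hB 46 (by simp) t1 u2).eq
      rw [← mul_assoc (h8xU chevF4 hB 44 t1), hc]
      group
    rwa [e] at h1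
  exact (ukz_split chevF4 (by simp) hB a H hL hR t1 u3 hg3).1

end Cfsg.Agent.Lib.helper14.BGLUK
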