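import Mathlib
import Cfsg.Agent.Lib.Helper10.BGLUKS6core
import Cfsg.Agent.Lib.helper14.BGLUKL4
import Cfsg.Agent.Lib.helper23.BGLUKB2

/-!
# Project BGL, block UK, row UKS6 `uk_spec_F4` (verbatim vs helper14/BGL/UKSkel.lean.txt)

`bgluks6_core` fed with UKL5 `uk_kap_lead` (helper14) and UKB2 `uk_rat_lead` (helper23).
-/

set_option autoImplicit false

namespace Cfsg.Agent.Lib.helper14.BGLUK

open Cfsg.Lie Cfsg.Lie.ChevalleyDatum Cfsg.Agent.Lib.helper8 Cfsg.Agent.Lib.helper14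
  Cfsg.Agent.Lib.Helper10.BGL

universe u

variable {K : Type u} [Field K]

variable [Finite K] [CharP K 2]

/-- UKS6 [M].  `F₄`, `m = 44` : `v = x_45(u₁) x_46(u₂) x_47(u₃)`; `κ_25` kills `x_44`, `(45, 25, 46)` and
`(46, 24, 47)` are `UkLT` rows, so `u₁, u₂ ∈ k` by the induction hypothesis and `uk_rat_lead`; `x_44` commutes with
`x_45`, `x_46`; then `uk_b2_abs` for `x_44(t₁) x_47(u₃)`. -/
theorem uk_spec_F4 (hB : H8Base.{u} chevF4) (a : ℕ) (H : Subgroup (GL chevF4.Idx K))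
    (hL : Lq chevF4 K (2 ^ a) ≤ H) (hR : RootRat chevF4 (2 ^ a) H)
    (hIH : ∀ g ∈ H, g ∈ ukV chevF4 K 45 → g ∈ ratS (K := K) 2 chevF4 a)
    (t1 : K) (v : GL chevF4.Idx K) (hv : v ∈ ukV chevF4 K 45)
    (hg : h8xU chevF4 hB 44 t1 * v ∈ H) : t1 ^ 2 ^ a = t1 := by
  have hD : chevF4 ∈ [chevG2, chevB2, chevD4, chevF4, chevE6, chevE7, chevE8] := by simp
  have hC := h8commAll.{u} chevF4 hD
  obtain ⟨hO, hO2⟩ := h8ord_all chevF4 hD
  have hM := cfMax_all chevF4 hD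
  have : Fact (Nat.Prime 2) := ⟨Nat.prime_two⟩
  exact bgluks6_core hB a H hL hR
    (fun m γ m' h t v hv => uk_kap_lead chevF4 hB hC hO hM m γ m' h t v hv)
    (fun m hm t v hv hr => uk_rat_lead 2 chevF4 hB hO2 a m hm t v hv hr) hIH t1 v hv hg

end Cfsg.Agent.Lib.helper14.BGLUK
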