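import Mathlib
import Cfsg.Prelude.Def_Blocks

/-!
# Project BLI (leader helper29), piece ARITH (+ SIX): two elementary `Nat` lemmas.
-/

set_option autoImplicit false
set_option linter.unusedVariables false

namespace Cfsg.Agent.Lib.Helper29.BLI

open scoped ComplexConjugate InnerProductSpace

/-- ARITH -/
theorem bli_arith (p q a b g₀ n : ℕ) (hp : p.Prime) (hq : q.Prime) (hpq : p ≠ q)
    (hN : 0 < p ^ a * q ^ b * g₀) (hn : n ∣ p ^ a * q ^ b * g₀) (hqn : ¬ q ∣ n) :
    p ^ (n.factorization p) ∣ n ∧ ∀ s : ℕ, s * p ^ (n.factorization p) ≤ n → s ≤ g₀ := by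
  refine ⟨Nat.ordProj_dvd n p, ?_⟩
  intro s hs
  have hg0 : 0 < g₀ := by
    rcases Nat.eq_zero_or_pos g₀ with h | h
    · subst h; simp at hN
    · exact h
  have hn0 : n ≠ 0 := by
    rintro rfl
    have := Nat.eq_zero_of_zero_dvd hn
    omega
  -- n is coprime to q^b
  have hcop : Nat.Coprime n (q ^ b) :=
    Nat.Coprime.pow_right b ((Nat.Coprime.symm ((Nat.Prime.coprime_iff_not_dvd hq).2 hqn)))
  have hn' : n ∣ p ^ a * g₀ := by
    have h1 : n ∣ q ^ b * (p ^ a * g₀) := by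
      have : p ^ a * q ^ b * g₀ = q ^ b * (p ^ a * g₀) := by ring
      rwa [this] at hn
    exact hcop.dvd_of_dvd_mul_left h1
  set α := n.factorization p with hα
  set n0 := n / p ^ α with hn0def
  have hnn : p ^ α * n0 = n := Nat.ordProj_mul_ordCompl_eq_self n p
  have hcop2 : Nat.Coprime n0 (p ^ a) :=
    Nat.Coprime.pow_right a (Nat.Coprime.symm (Nat.coprime_ordCompl hp hn0))
  have hn0dvd : n0 ∣ g₀ := by
    have h1 : n0 ∣ p ^ a * g₀ := Dvd.dvd.trans ⟨p ^ α, by rw [← hnn]; ring⟩ hn'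
    exact hcop2.dvd_of_dvd_mul_left h1
  have hn0le : n0 ≤ g₀ := Nat.le_of_dvd hg0 hn0dvd
  have hppos : 0 < p ^ α := pow_pos hp.pos α
  have : s * p ^ α ≤ n0 * p ^ α := by rw [mul_comm n0, hnn]; exact hs
  have hs' : s ≤ n0 := Nat.le_of_mul_le_mul_right this hppos
  exact hs'.trans hn0le

/-- SIX (a prime is not a power of six) -/
theorem bli_six (p j : ℕ) (hp : p.Prime) (h : 6 ^ j ≤ p) : 6 ^ j < p := by
  rcases Nat.lt_or_ge (6 ^ j) p with h1 | h1
  · exact h1
  · exfalso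
    have heq : p = 6 ^ j := le_antisymm h1 h
    rcases Nat.eq_zero_or_pos j with hj | hj
    · subst hj
      rw [pow_zero] at heq
      exact hp.one_lt.ne' heq
    · have h6 : 6 ∣ p := by
        rw [heq]; exact dvd_pow_self 6 (by omega)
      have h2 : 2 ∣ p := Dvd.dvd.trans (by norm_num) h6
      have h3 : 3 ∣ p := Dvd.dvd.trans (by norm_num) h6
      have e2 : 2 = p := (Nat.prime_dvd_prime_iff_eq Nat.prime_two hp).1 h2
      have e3 : 3 = p := (Nat.prime_dvd_prime_iff_eq Nat.prime_three hp).1 h3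
      omega

end Cfsg.Agent.Lib.Helper29.BLI
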