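import Mathlib
import Cfsg.Prelude.Def_Blocks

/-!
# Project BLI (leader helper29), DUPLICATE of piece COUNT (canonical copy: Helper11.BLICOUNT; the main
theorem here is renamed `blicount10_count` so that the two files never clash): few eigenvalues when all multiplicities are
divisible by `p ^ α`.
-/

set_option autoImplicit false
set_option linter.unusedVariables false

namespace Cfsg.Agent.Lib.Helper29.BLI

open scoped ComplexConjugate InnerProductSpace

/-- The averaged operator `P_lam = p⁻¹ ∑_{k<p} lam⁻ᵏ Tᵏ`. -/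
noncomputable def blicount_P {V : Type*} [AddCommGroup V] [Module ℂ V] (T : Module.End ℂ V)
    (p : ℕ) (lam : ℂ) : Module.End ℂ V :=
  (p : ℂ)⁻¹ • ∑ k ∈ Finset.range p, (lam⁻¹) ^ k • T ^ k

/-- `P_lam` maps into the `lam`-eigenspace. -/
theorem blicount_P_mem {V : Type*} [AddCommGroup V] [Module ℂ V] (T : Module.End ℂ V)
    (p : ℕ) (hp : 0 < p) (hT : T ^ p = 1) (lam : ℂ) (hlam : lam ^ p = 1) (v : V) :
    blicount_P T p lam v ∈ Module.End.eigenspace T lam := by
  have hlam0 : lam ≠ 0 := by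
    rintro rfl
    rw [zero_pow hp.ne'] at hlam
    exact zero_ne_one hlam
  rw [Module.End.mem_eigenspace_iff]
  unfold blicount_P
  rw [LinearMap.smul_apply, map_smul, smul_comm lam]
  congr 1
  rw [LinearMap.sum_apply, map_sum, Finset.smul_sum]
  -- ∑_{k<p} lam⁻ᵏ T^{k+1} v = ∑_{k<p} lam · lam⁻ᵏ Tᵏ v
  have h1 : ∀ k ∈ Finset.range p, T (((lam⁻¹) ^ k • T ^ k) v)
      = lam • ((lam⁻¹) ^ (k + 1) • (T ^ (k + 1)) v) := by
    intro k _
    rw [LinearMap.smul_apply, map_smul, pow_succ' T k, Module.End.mul_apply, smul_smul]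
    congr 1
    rw [pow_succ]
    field_simp
  rw [Finset.sum_congr rfl h1]
  have h2 : ∀ k ∈ Finset.range p, lam • ((lam⁻¹ ^ k • T ^ k) v)
      = lam • ((lam⁻¹) ^ k • (T ^ k) v) := by
    intro k _
    rw [LinearMap.smul_apply]
  rw [Finset.sum_congr rfl h2, ← Finset.smul_sum, ← Finset.smul_sum]
  congr 1
  have hp1 : p - 1 + 1 = p := Nat.sub_add_cancel hp
  obtain ⟨j, rfl⟩ : ∃ j, p = j + 1 := ⟨p - 1, hp1.symm⟩
  rw [Finset.sum_range_succ' (fun k => (lam⁻¹) ^ k • (T ^ k) v) j, Finset.sum_range_succ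
    (fun k => (lam⁻¹) ^ (k + 1) • (T ^ (k + 1)) v) j]
  simp only [pow_zero, one_smul, Module.End.one_apply, hT, inv_pow, hlam, inv_one]

/-- `P_lam` is the identity on the `lam`-eigenspace. -/
theorem blicount_P_id {V : Type*} [AddCommGroup V] [Module ℂ V] (T : Module.End ℂ V)
    (p : ℕ) (hp : 0 < p) (lam : ℂ) (hlam : lam ^ p = 1) (v : V)
    (hv : v ∈ Module.End.eigenspace T lam) : blicount_P T p lam v = v := by
  have hlam0 : lam ≠ 0 := by
    rintro rfl
    rw [zero_pow hp.ne'] at hlam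
    exact zero_ne_one hlam
  rw [Module.End.mem_eigenspace_iff] at hv
  have hk : ∀ k : ℕ, (T ^ k) v = lam ^ k • v := by
    intro k
    induction k with
    | zero => simp
    | succ k ih => rw [pow_succ', Module.End.mul_apply, ih, map_smul, hv, smul_smul, pow_succ]
  unfold blicount_P
  rw [LinearMap.smul_apply, LinearMap.sum_apply]
  have h1 : ∀ k ∈ Finset.range p, ((lam⁻¹) ^ k • T ^ k) v = v := by
    intro k _
    rw [LinearMap.smul_apply, hk, smul_smul, ← mul_pow, inv_mul_cancel₀ hlam0, one_pow, one_smul]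
  rw [Finset.sum_congr rfl h1, Finset.sum_const, Finset.card_range, ← Nat.cast_smul_eq_nsmul ℂ,
    smul_smul, inv_mul_cancel₀ (by exact_mod_cast hp.ne'), one_smul]

/-- The finrank of a finite supremum of eigenspaces is the sum of the finranks. -/
theorem blicount_finrank_sum {V : Type*} [AddCommGroup V] [Module ℂ V] [FiniteDimensional ℂ V]
    (T : Module.End ℂ V) (S : Finset ℂ) :
    ∑ lam ∈ S, Module.finrank ℂ (Module.End.eigenspace T lam) ≤ Module.finrank ℂ V := by
  classical
  have key : ∀ S : Finset ℂ, ∑ lam ∈ S, Module.finrank ℂ (Module.End.eigenspace T lam)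
      = Module.finrank ℂ (⨆ lam ∈ S, Module.End.eigenspace T lam : Submodule ℂ V) := by
    intro S
    induction S using Finset.induction_on with
    | empty =>
      have hbot : (⨆ lam ∈ (∅ : Finset ℂ), Module.End.eigenspace T lam : Submodule ℂ V) = ⊥ := by
        simp
      rw [Finset.sum_empty, hbot, finrank_bot]
    | insert a s ha ih =>
      rw [Finset.sum_insert ha, ih, Finset.iSup_insert]
      have hdis : Disjoint (Module.End.eigenspace T a)
          (⨆ lam ∈ s, Module.End.eigenspace T lam) := by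
        have := (Module.End.eigenspaces_iSupIndep T).disjoint_biSup (x := a) (y := (s : Set ℂ))
          (by simpa using ha)
        simpa using this
      have := Submodule.finrank_sup_add_finrank_inf_eq (Module.End.eigenspace T a)
        (⨆ lam ∈ s, Module.End.eigenspace T lam)
      rw [hdis.eq_bot, finrank_bot, add_zero] at this
      exact this.symm
  rw [key]
  exact Submodule.finrank_le _

/-- COUNT (few eigenvalues when all multiplicities are divisible by p^α) -/
theorem blicount10_count {G : Type*} [Group G] [Finite G] (n : ℕ) (ρ : Representation ℂ G (Fin n → ℂ))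
    (x : G) (p : ℕ) (hp : p.Prime) (hx : x ^ p = 1) (α : ℕ)
    (hdiv : ∀ lam : ℂ, lam ^ p = 1 → ∀ m : ℕ,
      (p : ℂ) * (m : ℂ) = ∑ k ∈ Finset.range p, ρ.character (x ^ k) * (lam⁻¹) ^ k → p ^ α ∣ m) :
    ∃ S : Finset ℂ, (∀ lam : ℂ, lam ∈ S ↔ ∃ v : Fin n → ℂ, v ≠ 0 ∧ ρ x v = lam • v) ∧
      (∀ lam ∈ S, lam ^ p = 1) ∧ (0 < n → S.Nonempty) ∧ S.card * p ^ α ≤ n := by
  classical
  set T : Module.End ℂ (Fin n → ℂ) := ρ x with hTdef
  have hTk : ∀ k : ℕ, T ^ k = ρ (x ^ k) := fun k => by rw [hTdef, map_pow]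
  have hTp : T ^ p = 1 := by rw [hTk, hx, map_one]
  have hp0 : (p : ℂ) ≠ 0 := by exact_mod_cast hp.ne_zero
  -- an eigenvalue is a p-th root of unity
  have hev : ∀ lam : ℂ, (∃ v : Fin n → ℂ, v ≠ 0 ∧ T v = lam • v) → lam ^ p = 1 := by
    rintro lam ⟨v, hv0, hv⟩
    have hk : ∀ k : ℕ, (T ^ k) v = lam ^ k • v := by
      intro k
      induction k with
      | zero => simp
      | succ k ih => rw [pow_succ', Module.End.mul_apply, ih, map_smul, hv, smul_smul, pow_succ]
    have h1 := hk p
    rw [hTp, Module.End.one_apply] at h1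
    by_contra hne
    have h2 : (lam ^ p - 1) • v = 0 := by rw [sub_smul, one_smul, ← h1, sub_self]
    rcases smul_eq_zero.mp h2 with h | h
    · exact hne (sub_eq_zero.mp h)
    · exact hv0 h
  -- multiplicity of each p-th root of unity
  have hmult : ∀ lam : ℂ, lam ^ p = 1 →
      p ^ α ∣ Module.finrank ℂ (Module.End.eigenspace T lam) := by
    intro lam hlam
    apply hdiv lam hlam
    have hproj : LinearMap.IsProj (Module.End.eigenspace T lam) (blicount_P T p lam) :=
      ⟨fun v => blicount_P_mem T p hp.pos hTp lam hlam v,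
        fun v hv => blicount_P_id T p hp.pos lam hlam v hv⟩
    have htr := hproj.trace
    rw [← htr]
    unfold blicount_P
    rw [map_smul, smul_eq_mul, ← mul_assoc, mul_inv_cancel₀ hp0, one_mul, map_sum]
    apply Finset.sum_congr rfl
    intro k _
    rw [map_smul, smul_eq_mul, hTk, mul_comm]
    rfl
  refine ⟨(Polynomial.nthRootsFinset p (1 : ℂ)).filter
    (fun lam => ∃ v : Fin n → ℂ, v ≠ 0 ∧ T v = lam • v), ?_, ?_, ?_, ?_⟩
  · intro lam
    rw [Finset.mem_filter, Polynomial.mem_nthRootsFinset hp.pos]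
    constructor
    · rintro ⟨_, h⟩; exact h
    · intro h; exact ⟨hev lam h, h⟩
  · intro lam hlam
    rw [Finset.mem_filter, Polynomial.mem_nthRootsFinset hp.pos] at hlam
    exact hlam.1
  · intro hn
    have : Nonempty (Fin n) := ⟨⟨0, hn⟩⟩
    obtain ⟨c, hc⟩ := Module.End.exists_eigenvalue T
    obtain ⟨v, hv⟩ := hc.exists_hasEigenvector
    refine ⟨c, ?_⟩
    rw [Finset.mem_filter, Polynomial.mem_nthRootsFinset hp.pos]
    have h : ∃ v : Fin n → ℂ, v ≠ 0 ∧ T v = c • v := ⟨v, hv.2, hv.apply_eq_smul⟩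
    exact ⟨hev c h, h⟩
  · set S := (Polynomial.nthRootsFinset p (1 : ℂ)).filter
      (fun lam => ∃ v : Fin n → ℂ, v ≠ 0 ∧ T v = lam • v) with hS
    have h1 : ∀ lam ∈ S, p ^ α ≤ Module.finrank ℂ (Module.End.eigenspace T lam) := by
      intro lam hlam
      rw [hS, Finset.mem_filter, Polynomial.mem_nthRootsFinset hp.pos] at hlam
      obtain ⟨hlp, v, hv0, hv⟩ := hlam
      apply Nat.le_of_dvd _ (hmult lam hlp)
      rw [Module.finrank_pos_iff]
      exact ⟨⟨⟨v, Module.End.mem_eigenspace_iff.mpr hv⟩, 0, fun h => hv0 (by simpa using congrArg Subtype.val h)⟩⟩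
    calc S.card * p ^ α = ∑ lam ∈ S, p ^ α := by rw [Finset.sum_const, smul_eq_mul]
      _ ≤ ∑ lam ∈ S, Module.finrank ℂ (Module.End.eigenspace T lam) := Finset.sum_le_sum h1
      _ ≤ Module.finrank ℂ (Fin n → ℂ) := blicount_finrank_sum T S
      _ = n := by simp

end Cfsg.Agent.Lib.Helper29.BLI
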