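import Mathlib
import Cfsg.Prelude.Def_Blocks
import Cfsg.Agent.Lib.Helper24.ThreePrime

/-!
# Project BLI (leader helper29), piece EXIST (Brauer–Tuan): a non-principal character of the
principal `p`-block whose degree is prime to `q` (second half of `Helper24.tp_key`).
-/

set_option autoImplicit false
set_option linter.style.haveILetI false
set_option linter.unusedVariables false
set_option maxHeartbeats 1600000

namespace Cfsg.Agent.Lib.Helper29.BLI

open Cfsg.Agent.Lib.helper2 Cfsg.Agent.Lib.Helper25 Cfsg.Agent.Lib.Helper11 Cfsg.Agent.Lib.Helper24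
open scoped ComplexConjugate InnerProductSpace

/-- EXIST (Brauer-Tuan) -/
theorem bli_exists {G : Type*} [Group G] [Finite G] (p q : ℕ) [Fact p.Prime] (hq : q.Prime)
    (hpG : p ∣ Nat.card G) (M : Ideal Cfsg.AlgInt) (hM : Cfsg.IsPModular p M) :
    ∃ χ : Cfsg.IrrCharacter G, χ ∈ Cfsg.principalBlock M G ∧ (χ : G → ℂ) ≠ (fun _ => 1) ∧
      ¬ q ∣ Cfsg.charDegree (χ : G → ℂ) := by
  classical
  have hp : p.Prime := Fact.out
  have hMp := hM.2.1.isPrime
  obtain ⟨y, hy⟩ := exists_prime_orderOf_dvd_card' p hpG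
  by_contra hcon
  push Not at hcon
  have hdiv : ∀ χ ∈ Cfsg.principalBlock M G, (χ : G → ℂ) ≠ (fun _ => 1) →
      q ∣ Cfsg.charDegree (χ : G → ℂ) := fun χ hχ hne => hcon χ hχ hne
  have hy1 : ¬ IsConj y 1 := by
    intro h
    have : y = 1 := by
      rw [isConj_comm] at h
      exact (isConj_one_right.mp h)
    rw [this, orderOf_one] at hy
    exact hp.one_lt.ne hy
  have horth := pc_orth p M hM y 1 ⟨1, by rw [hy, pow_one]⟩ ⟨0, by simp⟩ hy1 _
    (sk_pb_isBlock M)
  rw [finsum_mem_eq_finite_toFinset_sum _ (Set.toFinite _)] at horth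
  have htm : trivIrr G ∈ (Set.toFinite (Cfsg.principalBlock M G)).toFinset := by
    rw [Set.Finite.mem_toFinset]
    exact sk_triv_mem hMp
  rw [← Finset.add_sum_erase _ _ htm] at horth
  have hint : IsIntegral ℤ ((∑ χ ∈ (Set.toFinite (Cfsg.principalBlock M G)).toFinset.erase
      (trivIrr G), (χ : G → ℂ) y * conj ((χ : G → ℂ) 1)) / (q : ℂ)) := by
    rw [Finset.sum_div]
    apply IsIntegral.sum
    intro χ hχ
    rw [Finset.mem_erase, Set.Finite.mem_toFinset] at hχ
    have hne : (χ : G → ℂ) ≠ (fun _ => 1) := by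
      intro h
      apply hχ.1
      apply Subtype.ext
      rw [h]
      rfl
    obtain ⟨m, hm⟩ := hdiv χ hχ.2 hne
    have hdeg : (χ : G → ℂ) 1 = ((Cfsg.charDegree (χ : G → ℂ) : ℕ) : ℂ) := pq_degree_cast χ
    rw [hdeg, hm]
    have hr0 : (q : ℂ) ≠ 0 := by exact_mod_cast hq.ne_zero
    have : (χ : G → ℂ) y * conj (((q * m : ℕ) : ℂ)) / (q : ℂ) = (χ : G → ℂ) y * (m : ℂ) := by
      rw [Complex.conj_natCast]
      push_cast
      field_simp
    rw [this]
    exact (irr_integral χ y).mul (isIntegral_algebraMap (R := ℤ) (x := (m : ℤ)) |> fun h => by simpa using h)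
  have h1 : (trivIrr G : G → ℂ) y * conj ((trivIrr G : G → ℂ) 1) = 1 := by
    simp
  rw [h1] at horth
  have hr0 : (q : ℂ) ≠ 0 := by exact_mod_cast hq.ne_zero
  have h2 : (∑ χ ∈ (Set.toFinite (Cfsg.principalBlock M G)).toFinset.erase
      (trivIrr G), (χ : G → ℂ) y * conj ((χ : G → ℂ) 1)) / (q : ℂ) = - ((1 : ℕ) : ℂ) / (q : ℂ) := by
    have : (∑ χ ∈ (Set.toFinite (Cfsg.principalBlock M G)).toFinset.erase
      (trivIrr G), (χ : G → ℂ) y * conj ((χ : G → ℂ) 1)) = -1 := by
      linear_combination horth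
    rw [this]
    simp
  rw [h2] at hint
  have h3 : IsIntegral ℤ (((1 : ℕ) : ℂ) / (q : ℂ)) := by
    have := hint.neg
    rwa [← neg_div, neg_neg] at this
  have h4 := nat_dvd_of_isIntegral_div 1 q hq.ne_zero h3
  exact hq.one_lt.ne' (Nat.dvd_one.mp h4)

end Cfsg.Agent.Lib.Helper29.BLI
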