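import Mathlib
import Cfsg.Prelude.Def_Blocks

/-!
# Project BLI (leader helper29), piece REP: a non-principal irreducible character of a simple
group is afforded by a faithful irreducible representation on `Fin n → ℂ`.
-/

set_option autoImplicit false
set_option linter.unusedVariables false

namespace Cfsg.Agent.Lib.Helper29.BLI

open scoped ComplexConjugate InnerProductSpace

/-- An irreducible representation has only the trivial invariant subspaces. -/
theorem blirep_invariant {G : Type*} [Group G] {n : ℕ} (ρ : Representation ℂ G (Fin n → ℂ))
    (hirr : ρ.IsIrreducible) (W : Submodule ℂ (Fin n → ℂ)) (hW : ∀ g : G, W.map (ρ g) ≤ W) :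
    W = ⊥ ∨ W = ⊤ := by
  have := hirr
  let σ : Subrepresentation ρ := ⟨W, fun g v hv => hW g (Submodule.mem_map_of_mem hv)⟩
  rcases eq_bot_or_eq_top σ with h | h
  · left
    have := congrArg Subrepresentation.toSubmodule h
    exact this
  · right
    have := congrArg Subrepresentation.toSubmodule h
    exact this

/-- An irreducible representation on `Fin n → ℂ` has `0 < n`. -/
theorem blirep_pos {G : Type*} [Group G] {n : ℕ} (ρ : Representation ℂ G (Fin n → ℂ))
    (hirr : ρ.IsIrreducible) : 0 < n := by
  have := hirr
  rcases Nat.eq_zero_or_pos n with h | h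
  · exfalso
    subst h
    have hne : (⊥ : Subrepresentation ρ) ≠ ⊤ := bot_ne_top
    apply hne
    apply Subrepresentation.toSubmodule_injective
    exact Subsingleton.elim _ _
  · exact h

/-- REP (a non-principal irreducible character of a simple group is afforded by a faithful irreducible rep) -/
theorem bli_rep {G : Type*} [Group G] [Finite G] [IsSimpleGroup G] (χ : Cfsg.IrrCharacter G)
    (hχ : (χ : G → ℂ) ≠ fun _ => 1) :
    ∃ (n : ℕ) (ρ : Representation ℂ G (Fin n → ℂ)), ρ.character = (χ : G → ℂ) ∧
      n = Cfsg.charDegree (χ : G → ℂ) ∧ 0 < n ∧ Function.Injective ρ ∧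
      ∀ W : Submodule ℂ (Fin n → ℂ), (∀ g : G, W.map (ρ g) ≤ W) → W = ⊥ ∨ W = ⊤ := by
  classical
  obtain ⟨n, ρ, hirr, hchar⟩ := χ.2
  have hpos : 0 < n := blirep_pos ρ hirr
  have hinv := blirep_invariant ρ hirr
  refine ⟨n, ρ, hchar, ?_, hpos, ?_, hinv⟩
  · -- degree
    have h1 : (χ : G → ℂ) 1 = (n : ℂ) := by
      rw [← hchar, Representation.char_one]
      simp
    unfold Cfsg.charDegree
    rw [h1]
    simp
  · -- injective: the kernel is ⊥ or ⊤
    rcases (MonoidHom.normal_ker ρ).eq_bot_or_eq_top with hk | hk
    · exact (MonoidHom.ker_eq_bot_iff ρ).mp hk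
    · exfalso
      have htriv : ∀ g : G, ρ g = 1 := by
        intro g
        have : g ∈ ρ.ker := by rw [hk]; exact Subgroup.mem_top g
        exact MonoidHom.mem_ker.mp this
      -- every subspace is invariant, so `n = 1`
      have hall : ∀ W : Submodule ℂ (Fin n → ℂ), W = ⊥ ∨ W = ⊤ := by
        intro W
        apply hinv W
        intro g
        rw [htriv g]
        intro v hv
        obtain ⟨w, hw, rfl⟩ := Submodule.mem_map.mp hv
        simpa using hw
      have hn1 : n = 1 := by
        by_contra hne
        have h2 : 2 ≤ n := by omega
        -- the line spanned by the first basis vector is a proper non-zero subspace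
        let i0 : Fin n := ⟨0, by omega⟩
        let i1 : Fin n := ⟨1, by omega⟩
        let v : Fin n → ℂ := Pi.single i0 1
        rcases hall (Submodule.span ℂ {v}) with h | h
        · have hv : v ∈ Submodule.span ℂ {v} := Submodule.subset_span rfl
          rw [h, Submodule.mem_bot] at hv
          have := congrFun hv i0
          simp [v] at this
        · have hw : (Pi.single i1 1 : Fin n → ℂ) ∈ Submodule.span ℂ {v} := by
            rw [h]; exact Submodule.mem_top
          obtain ⟨c, hc⟩ := Submodule.mem_span_singleton.mp hw
          have := congrFun hc i1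
          have hne01 : i1 ≠ i0 := by
            intro h01
            have := congrArg Fin.val h01
            simp [i0, i1] at this
          simp [v, hne01] at this
      apply hχ
      funext g
      rw [← hchar]
      unfold Representation.character
      rw [htriv g]
      subst hn1
      simp

end Cfsg.Agent.Lib.Helper29.BLI
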