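import Mathlib
import Cfsg.Agent.Lib.Helper18.BLK.Defs

/-!
# BLK piece CYC : an element of order `p` normalizing a cyclic `p`-group, `p` odd
-/

set_option autoImplicit false

namespace Cfsg.Agent.Lib.Helper18.BLK

/-- number theory: `p` odd, `p^(a+1) ∣ r^p - 1` implies `p^a ∣ r - 1`. -/
theorem h10_lte_aux {p : ℕ} (hp : p.Prime) (hp2 : p ≠ 2) (r : ℤ) (a : ℕ)
    (hd : ((p : ℤ)) ^ (a + 1) ∣ r ^ p - 1) : ((p : ℤ)) ^ a ∣ r - 1 := by
  have : Fact p.Prime := ⟨hp⟩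
  have hodd : Odd p := hp.odd_of_ne_two hp2
  -- p ∣ r - 1
  have hp1 : (p : ℤ) ∣ r ^ p - 1 := dvd_trans (dvd_pow_self _ (Nat.succ_ne_zero a)) hd
  have hpr : (p : ℤ) ∣ r - 1 := by
    have h1 : ((r ^ p - 1 : ℤ) : ZMod p) = 0 := (ZMod.intCast_zmod_eq_zero_iff_dvd _ p).2 hp1
    have h2 : ((r : ℤ) : ZMod p) ^ p = (r : ZMod p) := ZMod.pow_card _
    have h3 : ((r - 1 : ℤ) : ZMod p) = 0 := by
      push_cast at h1 ⊢
      rw [h2] at h1
      exact h1
    exact (ZMod.intCast_zmod_eq_zero_iff_dvd _ p).1 h3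
  have hnr : ¬ (p : ℤ) ∣ r := by
    intro hr
    have : (p : ℤ) ∣ 1 := by
      have := dvd_sub hr hpr
      simpa using this
    have h1 : (p : ℤ) = 1 ∨ (p : ℤ) = -1 := Int.isUnit_iff.1 (isUnit_of_dvd_one this)
    have := hp.two_le
    omega
  have key := Int.emultiplicity_pow_sub_pow hp hodd (x := r) (y := 1) hpr hnr p
  rw [one_pow] at key
  have hpp : emultiplicity p p = 1 := by
    have : emultiplicity p (p ^ 1) = 1 := by
      rw [emultiplicity_pow_self_of_prime hp.prime]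
      rfl
    simpa using this
  rw [hpp] at key
  have h4 : ((a + 1 : ℕ) : ℕ∞) ≤ emultiplicity (p : ℤ) (r ^ p - 1) :=
    le_emultiplicity_of_pow_dvd hd
  rw [key] at h4
  have h5 : (a : ℕ∞) ≤ emultiplicity (p : ℤ) (r - 1) := by
    have h6 : ((a + 1 : ℕ) : ℕ∞) = (a : ℕ∞) + 1 := by push_cast; rfl
    rw [h6] at h4
    exact (ENat.add_le_add_iff_right ENat.one_ne_top).1 h4
  exact pow_dvd_of_le_emultiplicity h5

/-- **CYC**. an element of order `p` normalizing a cyclic `p`-group `⟨h⟩` (`p` odd) moves `h` by an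
element of order dividing `p`. -/
theorem cyc_rc_pow {G : Type*} [Group G] {p : ℕ} [Fact p.Prime] (hp2 : p ≠ 2) (h x : G) (k : ℕ)
    (hh : h ^ p ^ k = 1) (hx : x ^ p = 1) (hn : x⁻¹ * h * x ∈ Subgroup.zpowers h) :
    rc h x ^ p = 1 := by
  have hp : p.Prime := Fact.out
  obtain ⟨r, hr⟩ := Subgroup.mem_zpowers_iff.1 hn
  -- iterate
  have hiter : ∀ j : ℕ, (x ^ j)⁻¹ * h * x ^ j = h ^ (r ^ j) := by
    intro j
    induction j with
    | zero => simp
    | succ n ih =>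
      have e0 : (x ^ (n + 1))⁻¹ * h * x ^ (n + 1) = x⁻¹ * ((x ^ n)⁻¹ * h * x ^ n) * x := by
        rw [pow_succ]; group
      rw [e0, ih]
      have := map_zpow (MulAut.conj x⁻¹) h (r ^ n)
      simp only [MulAut.conj_apply, inv_inv] at this
      rw [this, ← hr, ← zpow_mul, pow_succ']
  have hp' := hiter p
  rw [hx] at hp'
  simp only [inv_one, one_mul, mul_one] at hp'
  have h1 : h ^ (r ^ p - 1) = 1 := by
    rw [zpow_sub, zpow_one, ← hp', mul_inv_cancel]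
  have hdvd : ((orderOf h : ℕ) : ℤ) ∣ r ^ p - 1 := orderOf_dvd_iff_zpow_eq_one.2 h1
  have hord : orderOf h ∣ p ^ k := orderOf_dvd_of_pow_eq_one hh
  obtain ⟨a, -, ha⟩ := (Nat.dvd_prime_pow hp).1 hord
  -- rc h x = h^(r-1)
  have hrc : rc h x = h ^ (r - 1) := by
    have : rc h x = h⁻¹ * (x⁻¹ * h * x) := by unfold rc; group
    rw [this, ← hr, zpow_sub, zpow_one]
    exact ((Commute.zpow_left (Commute.refl h) r).inv_right.eq).symm
  rw [hrc, ← zpow_natCast, ← zpow_mul]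
  apply orderOf_dvd_iff_zpow_eq_one.1
  rw [ha]
  rcases Nat.eq_zero_or_pos a with h0 | hpos
  · subst h0
    simp
  · obtain ⟨b, rfl⟩ : ∃ b, a = b + 1 := ⟨a - 1, by omega⟩
    rw [ha] at hdvd
    push_cast at hdvd ⊢
    have := h10_lte_aux hp hp2 r b hdvd
    rw [pow_succ]
    exact mul_dvd_mul this (dvd_refl _)

end Cfsg.Agent.Lib.Helper18.BLK
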