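import Mathlib
import Cfsg.Agent.Lib.Helper18.BLK.Defs
import Cfsg.Agent.Lib.Helper10.BLKT2
import Cfsg.Agent.Lib.Helper10.BLKCYC
import Cfsg.Agent.Lib.Helper20.BLKS0
import Cfsg.Agent.Lib.Helper18.BLKS567

/-!
# BLK piece AL3c : Case II, `[c, x] ∈ E`
-/

set_option autoImplicit false

namespace Cfsg.Agent.Lib.Helper18.BLK

universe u

/-- `E` is elementary abelian in Setting S. -/
theorem Base.h10_elemAb {G : Type u} [Group G] {p : ℕ} {E : Subgroup G} {z₀ : G}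
    (B : Base p E z₀) : Cfsg.IsElementaryAbelian p E :=
  ⟨⟨⟨fun a b => Subtype.ext (B.cE a a.2 b b.2)⟩⟩, B.eE⟩

/-- **AL3c**. Case II: `[c, x] ∈ E`. -/
theorem Base.rc_c_mem_E {G : Type u} [Group G] [Finite G] {p : ℕ} [Fact p.Prime]
    {E : Subgroup G} {z₀ : G} (B : Base p E z₀) (u₁ : G)
    (hu : u₁ ∈ Subgroup.centralizer (E : Set G)) (hup : u₁ ^ p = z₀)
    (hα : ∀ g : G, rc u₁ g ∈ Subgroup.zpowers z₀) (x : G)
    (hx : x ∉ Subgroup.centralizer (E : Set G)) (hxp : x ^ p = 1)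
    (hD : ∀ c ∈ Subgroup.centralizer (E : Set G), c ^ p ∈ E → c ^ p ∈ Subgroup.zpowers z₀)
    (hab : ∀ a ∈ Subgroup.centralizer (E : Set G), ∀ b ∈ Subgroup.centralizer (E : Set G),
        a * b = b * a)
    (c y : G) (hc : c ∈ Subgroup.centralizer (E : Set G)) (hy : y ∈ E)
    (hgen : ∀ d ∈ Subgroup.centralizer (E : Set G), ∃ i j : ℕ, d = c ^ i * y ^ j) :
    rc c x ∈ E := by
  have hp : p.Prime := Fact.out
  have : E.Normal := B.nE
  have hCn : (Subgroup.centralizer (E : Set G)).Normal := Subgroup.normal_centralizer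
  have hZc : ∀ {a : G}, a ∈ Subgroup.zpowers z₀ → ∀ g : G, g * a = a * g := fun ha g =>
    Subgroup.mem_center_iff.1 ((Subgroup.zpowers_le.2 B.z₀c) ha) g
  have hconj : ∀ (g a : G) (n : ℕ), g⁻¹ * a ^ n * g = (g⁻¹ * a * g) ^ n := by
    intro g a n
    have := map_pow (MulAut.conj g⁻¹) a n
    simpa [MulAut.conj_apply] using this
  have hd : x⁻¹ * c * x ∈ Subgroup.centralizer (E : Set G) := by
    have := hCn.conj_mem c hc x⁻¹
    simpa using this
  have hyC : y ∈ Subgroup.centralizer (E : Set G) := by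
    rw [Subgroup.mem_centralizer_iff]
    intro e he
    exact B.cE e he y hy
  -- x normalizes ⟨c^p⟩
  have hn : x⁻¹ * c ^ p * x ∈ Subgroup.zpowers (c ^ p) := by
    obtain ⟨i, j, hij⟩ := hgen _ hd
    rw [hconj, hij]
    have cc : Commute (c ^ i) (y ^ j) :=
      hab _ (Subgroup.pow_mem _ hc _) _ (Subgroup.pow_mem _ hyC _)
    rw [cc.mul_pow, ← pow_mul, ← pow_mul, mul_comm j p, pow_mul y, B.eE y hy, one_pow, mul_one,
      mul_comm i p, pow_mul]
    exact Subgroup.pow_mem _ (Subgroup.mem_zpowers _) _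
  obtain ⟨k, hk⟩ := B.pG (c ^ p)
  have hcyc := cyc_rc_pow B.hp2 (c ^ p) x k hk hxp hn
  set w : G := rc c x with hw
  have hwdef : w = c⁻¹ * (x⁻¹ * c * x) := by rw [hw]; unfold rc; group
  have hwC : w ∈ Subgroup.centralizer (E : Set G) := by
    rw [hwdef]; exact Subgroup.mul_mem _ (Subgroup.inv_mem _ hc) hd
  have hwp : rc (c ^ p) x = w ^ p := by
    have cc : Commute c⁻¹ (x⁻¹ * c * x) := hab _ (Subgroup.inv_mem _ hc) _ hd
    rw [hwdef, cc.mul_pow, ← hconj]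
    unfold rc; group
  rw [hwp] at hcyc
  have hwpC : w ^ p ∈ Subgroup.centralizer (E : Set G) := Subgroup.pow_mem _ hwC _
  have hwpE : w ^ p ∈ E := mem_E_of_pow B.rk E B.h10_elemAb B.cardE _ hwpC hcyc
  have hwpZ : w ^ p ∈ Subgroup.zpowers z₀ := hD w hwC hwpE
  obtain ⟨a, e', he', hwe⟩ := B.DZ_mem u₁ hu hup w hwC hwpZ
  set ζ : G := rc w x with hζ
  have hζZ : ζ ∈ Subgroup.zpowers z₀ := by
    rw [hζ, hwe, B.rc_DZ u₁ hu hup a e' he' x]
    exact Subgroup.mul_mem _ (Subgroup.pow_mem _ (hα x) _) (B.rc_mem_Z e' he' x)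
  have h1 : x⁻¹ * c * x = c * w := conj_eq c x
  have h2 : x⁻¹ * w * x = w * ζ := conj_eq w x
  have h3 : x⁻¹ * ζ * x = ζ * 1 := by
    rw [mul_one, mul_assoc, ← hZc hζZ x, ← mul_assoc, inv_mul_cancel, one_mul]
  have h4 : x⁻¹ * (1 : G) * x = 1 := by group
  have key := iter_conj x c w ζ 1 h1 h2 h3 h4 (hZc hζZ w) (Commute.one_right w)
    (Commute.one_right ζ) p
  rw [hxp] at key
  simp only [inv_one, one_mul, mul_one, one_pow] at key
  have key2 : w ^ p * ζ ^ p.choose 2 = 1 := by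
    have : c * 1 = c * (w ^ p * ζ ^ p.choose 2) := by
      rw [mul_one]; exact key
    exact (mul_left_cancel this).symm
  have hζ2 : ζ ^ p.choose 2 = 1 := by
    have hdvd : p ∣ p.choose 2 := by
      apply hp.dvd_choose_self (by norm_num)
      have := hp.two_le
      have := B.hp2
      omega
    obtain ⟨t, ht⟩ := hdvd
    rw [ht, pow_mul, B.eE ζ ((Subgroup.zpowers_le.2 B.z₀E) hζZ), one_pow]
  rw [hζ2, mul_one] at key2
  exact mem_E_of_pow B.rk E B.h10_elemAb B.cardE w hwC key2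

end Cfsg.Agent.Lib.Helper18.BLK
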