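import Mathlib
import Cfsg.Agent.Lib.Helper18.BLK.Defs
import Cfsg.Agent.Lib.Helper10.BLKT2

/-!
# BLK piece F2N : normalisation of the parameter `σ` of the family F2 modulo squares
-/

set_option autoImplicit false

namespace Cfsg.Agent.Lib.Helper18.BLK

/-- **F2N**. normalisation of the parameter `σ` modulo squares. -/
theorem F2_normalize {G : Type*} [Group G] {p : ℕ} [Fact p.Prime] (hp2 : p ≠ 2) (m σ : ℕ)
    (hm : 1 ≤ m) (hσ : ¬ p ∣ σ) (x y z : G) (h : F2Rel p m σ x y z) :
    ∃ (s : ℕ) (x' y' z' : G), (s = 1 ∨ ¬ IsSquare (s : ZMod p)) ∧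
      Subgroup.closure ({x', y', z'} : Set G) = Subgroup.closure ({x, y, z} : Set G) ∧
      F2Rel p m s x' y' z' := by
  have hp : p.Prime := Fact.out
  by_cases hsq : IsSquare (σ : ZMod p)
  swap
  · exact ⟨σ, x, y, z, Or.inr hsq, rfl, h⟩
  obtain ⟨hx, hy, hz, hyz, hxy, hxz⟩ := h
  obtain ⟨r, hr⟩ := hsq
  have hσ0 : (σ : ZMod p) ≠ 0 := by
    intro h0
    exact hσ ((ZMod.natCast_eq_zero_iff σ p).1 h0)
  have hr0 : r ≠ 0 := by
    rintro rfl
    apply hσ0
    rw [hr, mul_zero]
  set i : ℕ := (r⁻¹).val with hi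
  set j : ℕ := r.val with hj
  have hicast : (i : ZMod p) = r⁻¹ := by rw [hi, ZMod.natCast_zmod_val]
  have hjcast : (j : ZMod p) = r := by rw [hj, ZMod.natCast_zmod_val]
  have hij : (i * j) % p = 1 % p := by
    have : ((i * j : ℕ) : ZMod p) = ((1 : ℕ) : ZMod p) := by
      push_cast
      rw [hicast, hjcast, inv_mul_cancel₀ hr0]
    exact (ZMod.natCast_eq_natCast_iff' _ _ _).1 this
  have hσii : (σ * (i * i)) % p = 1 % p := by
    have : ((σ * (i * i) : ℕ) : ZMod p) = ((1 : ℕ) : ZMod p) := by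
      push_cast
      rw [hicast, hr]
      field_simp
    exact (ZMod.natCast_eq_natCast_iff' _ _ _).1 this
  have h1p : 1 % p = 1 := Nat.mod_eq_of_lt hp.one_lt
  -- ζ
  set ζ : G := z ^ (σ * p ^ m) with hζ
  have cyz : Commute y z := hyz
  have cyζ : Commute y ζ := cyz.pow_right _
  have czζ : Commute z ζ := (Commute.refl z).pow_right _
  have hζp : ζ ^ p = 1 := by
    rw [hζ, ← pow_mul, mul_assoc, ← pow_succ, pow_mul', hz, one_pow]
  have hconj : ∀ (g a : G) (n : ℕ), g⁻¹ * a ^ n * g = (g⁻¹ * a * g) ^ n := by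
    intro g a n
    have := map_pow (MulAut.conj g⁻¹) a n
    simpa [MulAut.conj_apply] using this
  have hpm : ∃ t, p ^ m = p * t := ⟨p ^ (m - 1), by
    rw [← pow_succ']; congr 1; omega⟩
  have hxζ : x⁻¹ * ζ * x = ζ := by
    rw [hζ, hconj, hxz, cyz.mul_pow]
    obtain ⟨t, ht⟩ := hpm
    have : y ^ (σ * p ^ m) = 1 := by
      rw [ht, ← mul_assoc, mul_comm σ p, mul_assoc, pow_mul, hy, one_pow]
    rw [this, one_mul]
  have hxz' : x⁻¹ * z * x = z * y := by rw [hxz, hyz]
  -- iterated conjugations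
  have e1 := iter_conj x z y ζ 1 hxz' hxy (by rw [hxζ, mul_one]) (by group) cyζ
    (Commute.one_right y) (Commute.one_right ζ) i
  have e2 := iter_conj x y ζ 1 1 hxy (by rw [hxζ, mul_one]) (by group) (by group)
    (Commute.one_right ζ) (Commute.one_right ζ) (Commute.one_right 1) i
  simp only [one_pow, mul_one] at e1 e2
  have cxζ : Commute x ζ := by
    have : x⁻¹ * ζ * x = ζ := hxζ
    have h2 : ζ * x = x * ζ := by
      calc ζ * x = x * (x⁻¹ * ζ * x) := by group
        _ = x * ζ := by rw [this]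
    exact h2.symm
  have e3 : (x ^ i)⁻¹ * ζ * x ^ i = ζ := by
    have c : Commute (x ^ i) ζ := cxζ.pow_left i
    rw [mul_assoc, ← c.eq, ← mul_assoc, inv_mul_cancel, one_mul]
  set y' : G := y ^ i * ζ ^ (i.choose 2) with hy'
  have cy'z : Commute y' z := by
    rw [hy']
    exact (cyz.pow_left i).mul_left ((czζ.symm).pow_left _)
  have hζz : ζ ^ (i * i) = z ^ (1 * p ^ m) := by
    rw [hζ, ← pow_mul, one_mul]
    have hw : (z ^ p ^ m) ^ p = 1 := by rw [← pow_mul, ← pow_succ, hz]
    have : σ * p ^ m * (i * i) = p ^ m * (σ * (i * i)) := by ring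
    rw [this, pow_mul, pow_eq_pow_mod _ hw, hσii, h1p, pow_one]
  refine ⟨1, x ^ i, y', z, Or.inl rfl, ?_, ?_, ?_, hz, cy'z.eq, ?_, ?_⟩
  · -- closure
    apply le_antisymm
    · rw [Subgroup.closure_le]
      have hxm : x ∈ Subgroup.closure ({x, y, z} : Set G) :=
        Subgroup.subset_closure (by simp)
      have hym : y ∈ Subgroup.closure ({x, y, z} : Set G) :=
        Subgroup.subset_closure (by simp)
      have hzm : z ∈ Subgroup.closure ({x, y, z} : Set G) :=
        Subgroup.subset_closure (by simp)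
      intro g hg
      simp only [Set.mem_insert_iff, Set.mem_singleton_iff] at hg
      rcases hg with rfl | rfl | rfl
      · exact Subgroup.pow_mem _ hxm _
      · exact Subgroup.mul_mem _ (Subgroup.pow_mem _ hym _)
          (Subgroup.pow_mem _ (Subgroup.pow_mem _ hzm _) _)
      · exact hzm
    · rw [Subgroup.closure_le]
      have hxm : x ^ i ∈ Subgroup.closure ({x ^ i, y', z} : Set G) :=
        Subgroup.subset_closure (by simp)
      have hym : y' ∈ Subgroup.closure ({x ^ i, y', z} : Set G) :=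
        Subgroup.subset_closure (by simp)
      have hzm : z ∈ Subgroup.closure ({x ^ i, y', z} : Set G) :=
        Subgroup.subset_closure (by simp)
      intro g hg
      simp only [Set.mem_insert_iff, Set.mem_singleton_iff] at hg
      rcases hg with rfl | rfl | rfl
      · have : g = (g ^ i) ^ j := by
          rw [← pow_mul, pow_eq_pow_mod _ hx, hij, h1p, pow_one]
        have hmem := Subgroup.pow_mem _ hxm j
        rw [← this] at hmem
        exact hmem
      · have h1 : g ^ i = y' * (ζ ^ (i.choose 2))⁻¹ := by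
          rw [hy']; group
        have h2 : g ^ i ∈ Subgroup.closure ({x ^ i, y', z} : Set G) := by
          rw [h1]
          exact Subgroup.mul_mem _ hym (Subgroup.inv_mem _
            (Subgroup.pow_mem _ (Subgroup.pow_mem _ hzm _) _))
        have : g = (g ^ i) ^ j := by
          rw [← pow_mul, pow_eq_pow_mod _ hy, hij, h1p, pow_one]
        have hmem := Subgroup.pow_mem _ h2 j
        rw [← this] at hmem
        exact hmem
      · exact hzm
  · rw [← pow_mul, mul_comm, pow_mul, hx, one_pow]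
  · rw [hy', (cyζ.pow_pow _ _).mul_pow, ← pow_mul, ← pow_mul, mul_comm i p, mul_comm _ p,
      pow_mul, pow_mul, hy, hζp, one_pow, one_pow, one_mul]
  · -- x'⁻¹ y' x' = y' z^(p^m)
    have : (x ^ i)⁻¹ * y' * x ^ i
        = ((x ^ i)⁻¹ * y * x ^ i) ^ i * ((x ^ i)⁻¹ * ζ * x ^ i) ^ (i.choose 2) := by
      rw [hy', ← hconj, ← hconj]; group
    rw [this, e2, e3, (cyζ.pow_right i).mul_pow, ← pow_mul, ← hζz, hy']
    have c1 : Commute (ζ ^ (i * i)) (ζ ^ i.choose 2) := (Commute.refl ζ).pow_pow _ _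
    rw [mul_assoc, mul_assoc, c1.eq]
  · rw [e1, cy'z.eq]

end Cfsg.Agent.Lib.Helper18.BLK
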