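import Mathlib
import Cfsg.Agent.Lib.Helper18.BLK.Defs
import Cfsg.Agent.Lib.Helper10.BLKT2
import Cfsg.Agent.Lib.Helper20.BLKS0
import Cfsg.Agent.Lib.Helper18.BLKS567

/-!
# BLK piece NBD : `|D/E| = p²` is impossible in the presence of `x ∉ C` of order `p`
-/

set_option autoImplicit false

namespace Cfsg.Agent.Lib.Helper18.BLK

universe u

/-- elements of `Z = ⟨z₀⟩` lie in `E`. -/
theorem Base.h10_Z_le_E {G : Type*} [Group G] {p : ℕ} {E : Subgroup G} {z₀ : G}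
    (B : Base p E z₀) {a : G} (ha : a ∈ Subgroup.zpowers z₀) : a ∈ E :=
  (Subgroup.zpowers_le.2 B.z₀E) ha

/-- elements of `Z = ⟨z₀⟩` are central. -/
theorem Base.h10_Z_central {G : Type*} [Group G] {p : ℕ} {E : Subgroup G} {z₀ : G}
    (B : Base p E z₀) {a : G} (ha : a ∈ Subgroup.zpowers z₀) (g : G) : g * a = a * g :=
  Subgroup.mem_center_iff.1 ((Subgroup.zpowers_le.2 B.z₀c) ha) g

/-- `p ∣ choose p 2` for odd primes. -/
theorem h10_dvd_choose_two {p : ℕ} (hp : p.Prime) (hp2 : p ≠ 2) : p ∣ p.choose 2 := by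
  apply hp.dvd_choose_self (by norm_num)
  have := hp.two_le
  omega

/-- `p ∣ choose p 3` for primes `p ≠ 2, 3`. -/
theorem h10_dvd_choose_three {p : ℕ} (hp : p.Prime) (hp2 : p ≠ 2) (hp3 : p ≠ 3) :
    p ∣ p.choose 3 := by
  apply hp.dvd_choose_self (by norm_num)
  have := hp.two_le
  omega

/-- **NBD**. `|D/E| = p²` is impossible in the presence of `x ∉ C` of order `p`
(if `p ≠ 3` or `rc u₁ x ∈ Z`). -/
theorem Base.no_big_D {G : Type u} [Group G] [Finite G] {p : ℕ} [Fact p.Prime]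
    {E : Subgroup G} {z₀ : G} (B : Base p E z₀) (u₁ : G)
    (hu : u₁ ∈ Subgroup.centralizer (E : Set G)) (hup : u₁ ^ p = z₀) (x : G)
    (hx : x ∉ Subgroup.centralizer (E : Set G)) (hxp : x ^ p = 1)
    (h : p ≠ 3 ∨ rc u₁ x ∈ Subgroup.zpowers z₀)
    (u₂ : G) (hu₂ : u₂ ∈ Subgroup.centralizer (E : Set G)) (hu₂E : u₂ ^ p ∈ E) :
    u₂ ^ p ∈ Subgroup.zpowers z₀ := by
  have hp : p.Prime := Fact.out
  by_contra hnot
  have : E.Normal := B.nE
  have hCn : (Subgroup.centralizer (E : Set G)).Normal := Subgroup.normal_centralizer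
  -- the conjugate of u₂
  have hd : x⁻¹ * u₂ * x ∈ Subgroup.centralizer (E : Set G) := by
    have := hCn.conj_mem u₂ hu₂ x⁻¹
    simpa using this
  have hconj : ∀ (g a : G) (n : ℕ), g⁻¹ * a ^ n * g = (g⁻¹ * a * g) ^ n := by
    intro g a n
    have := map_pow (MulAut.conj g⁻¹) a n
    simpa [MulAut.conj_apply] using this
  have hdp : (x⁻¹ * u₂ * x) ^ p ∈ E := by
    rw [← hconj]
    have := B.nE.conj_mem _ hu₂E x⁻¹
    simpa using this
  have hcp : (u₂⁻¹) ^ p ∈ E := by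
    rw [inv_pow]; exact E.inv_mem hu₂E
  set v : G := rc u₂ x with hv
  have hvdef : v = u₂⁻¹ * (x⁻¹ * u₂ * x) := by rw [hv]; unfold rc; group
  have hvC : v ∈ Subgroup.centralizer (E : Set G) := by
    rw [hvdef]; exact Subgroup.mul_mem _ (Subgroup.inv_mem _ hu₂) hd
  have hvp : v ^ p = rc (u₂ ^ p) x := by
    rw [hvdef, B.pow_mul_C _ _ (Subgroup.inv_mem _ hu₂) hd hcp hdp, ← hconj]
    unfold rc; group
  have hvpZ : v ^ p ∈ Subgroup.zpowers z₀ := by
    rw [hvp]; exact B.rc_mem_Z _ hu₂E x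
  have hvp1 : v ^ p ≠ 1 := by
    rw [hvp]; exact B.rc_ne_one _ hu₂E hnot x hx
  obtain ⟨j, e', he', hve⟩ := B.DZ_mem u₁ hu hup v hvC hvpZ
  set w : G := rc v x with hw
  have hwE : w ∈ E := by
    rw [hw, hve, B.rc_DZ u₁ hu hup j e' he' x]
    exact E.mul_mem (E.pow_mem (B.rc_u1_mem_E u₁ hu hup x) _)
      (B.h10_Z_le_E (B.rc_mem_Z e' he' x))
  set ζ : G := rc w x with hζ
  have hζZ : ζ ∈ Subgroup.zpowers z₀ := B.rc_mem_Z w hwE x
  have h1 : x⁻¹ * u₂ * x = u₂ * v := conj_eq u₂ x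
  have h2 : x⁻¹ * v * x = v * w := conj_eq v x
  have h3 : x⁻¹ * w * x = w * ζ := conj_eq w x
  have h4 : x⁻¹ * ζ * x = ζ := by
    rw [mul_assoc, ← B.h10_Z_central hζZ x, ← mul_assoc, inv_mul_cancel, one_mul]
  have cvw : Commute v w := ((Subgroup.mem_centralizer_iff.1 hvC) w hwE).symm
  have cvζ : Commute v ζ := B.h10_Z_central hζZ v
  have cwζ : Commute w ζ := B.h10_Z_central hζZ w
  have key := iter_conj x u₂ v w ζ h1 h2 h3 h4 cvw cvζ cwζ p
  rw [hxp] at key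
  simp only [inv_one, one_mul, mul_one] at key
  have key2 : v ^ p * w ^ p.choose 2 * ζ ^ p.choose 3 = 1 := by
    have : u₂ * 1 = u₂ * (v ^ p * w ^ p.choose 2 * ζ ^ p.choose 3) := by
      rw [mul_one]; exact key
    exact (mul_left_cancel this).symm
  have hw2 : w ^ p.choose 2 = 1 := by
    obtain ⟨c, hc⟩ := h10_dvd_choose_two hp B.hp2
    rw [hc, pow_mul, B.eE w hwE, one_pow]
  have hζ3 : ζ ^ p.choose 3 = 1 := by
    rcases h with h3' | hZ
    · obtain ⟨c, hc⟩ := h10_dvd_choose_three hp B.hp2 h3'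
      rw [hc, pow_mul, B.eE ζ (B.h10_Z_le_E hζZ), one_pow]
    · have hwZ : w ∈ Subgroup.zpowers z₀ := by
        rw [hw, hve, B.rc_DZ u₁ hu hup j e' he' x]
        exact Subgroup.mul_mem _ (Subgroup.pow_mem _ hZ _) (B.rc_mem_Z e' he' x)
      have : ζ = 1 := by
        rw [hζ, rc_eq_one_iff]
        exact (B.h10_Z_central hwZ x).symm
      rw [this, one_pow]
  rw [hw2, hζ3, mul_one, mul_one] at key2
  exact hvp1 key2

end Cfsg.Agent.Lib.Helper18.BLK
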