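import Mathlib
import Cfsg.Agent.Lib.Helper21.BSQ.Defs

set_option autoImplicit false

namespace Cfsg.Agent.Lib.Helper21.BSQ

universe u

variable {G : Type u} [Group G]

/-- E3 [M]. -/
theorem sylow_quot_iso [Finite G] (N : Subgroup G) [N.Normal] (hN : Odd (Nat.card ↥N))
    (P : Sylow 2 G) :
    ∃ P' : Sylow 2 (G ⧸ N), Nonempty (↥(P : Subgroup G) ≃* ↥(P' : Subgroup (G ⧸ N))) := by
  have hsurj : Function.Surjective (QuotientGroup.mk' N) := QuotientGroup.mk'_surjective N
  refine ⟨P.mapSurjective hsurj, ⟨?_⟩⟩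
  rw [Sylow.coe_mapSurjective]
  -- P ⊓ N = ⊥
  have hbot : (P : Subgroup G) ⊓ N = ⊥ := by
    apply disjoint_iff.mp
    apply Subgroup.disjoint_of_coprime_natCard
    obtain ⟨n, hn⟩ := IsPGroup.iff_card.mp P.isPGroup'
    rw [hn]
    apply Nat.Coprime.pow_left
    exact Nat.coprime_two_left.mpr hN
  refine MulEquiv.ofBijective ((QuotientGroup.mk' N).subgroupMap (P : Subgroup G)) ⟨?_, ?_⟩
  · rw [injective_iff_map_eq_one]
    intro x hx
    have h1 : (QuotientGroup.mk' N) (x : G) = 1 := by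
      have := congrArg Subtype.val hx
      simpa using this
    rw [QuotientGroup.mk'_apply, QuotientGroup.eq_one_iff] at h1
    have h2 : (x : G) ∈ (P : Subgroup G) ⊓ N := ⟨x.2, h1⟩
    rw [hbot, Subgroup.mem_bot] at h2
    exact Subtype.ext h2
  · exact MonoidHom.subgroupMap_surjective _ _

end Cfsg.Agent.Lib.Helper21.BSQ
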