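import Mathlib
import Cfsg.Agent.Lib.Helper21.BSQ.Defs

set_option autoImplicit false

namespace Cfsg.Agent.Lib.Helper21.BSQ

universe u

variable {G : Type u} [Group G]

/-- E5 [S-M]. -/
theorem order_four_mem [Finite G] (hB : IsBStar G) (Q : Subgroup G) [Q.Normal] (x : G)
    (hxQ : x ∈ Q) (hx : orderOf x = 4) : ∀ y : G, orderOf y = 4 → y ∈ Q := by
  intro y hy
  have hA : IsMulCommutative ↥(Subgroup.zpowers x) := inferInstance
  have hB' : IsMulCommutative ↥(Subgroup.zpowers y) := inferInstance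
  have hc : Nat.card ↥(Subgroup.zpowers x) = Nat.card ↥(Subgroup.zpowers y) := by
    rw [Nat.card_zpowers, Nat.card_zpowers, hx, hy]
  obtain ⟨g, hg⟩ := hB (Subgroup.zpowers x) (Subgroup.zpowers y) hA hB' hc
  have hyB : y ∈ Subgroup.zpowers y := Subgroup.mem_zpowers y
  rw [hg] at hyB
  obtain ⟨a, ha, rfl⟩ := hyB
  have haQ : a ∈ Q := by
    have : Subgroup.zpowers x ≤ Q := by
      rw [Subgroup.zpowers_le]; exact hxQ
    exact this ha
  simp only [MulEquiv.coe_toMonoidHom, MulAut.conj_apply]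
  exact ‹Q.Normal›.conj_mem a haQ g

end Cfsg.Agent.Lib.Helper21.BSQ
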