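import Mathlib
import Cfsg.Agent.Lib.Helper21.BSQ.Defs

set_option autoImplicit false

namespace Cfsg.Agent.Lib.Helper21.BSQ

universe u

/-- E8 [S-M]. -/
theorem quat_involution (n : ℕ) [NeZero n] (x : QuaternionGroup n) (hx : x ^ 2 = 1) :
    x = 1 ∨ x = QuaternionGroup.a (n : ZMod (2 * n)) := by
  have hn : n ≠ 0 := NeZero.ne n
  cases x with
  | a i =>
    rw [sq, QuaternionGroup.a_mul_a, QuaternionGroup.one_def] at hx
    have h2 : i + i = 0 := by
      injection hx
    -- i + i = 0 in ZMod (2n)
    have hi : ((i.val + i.val : ℕ) : ZMod (2 * n)) = 0 := by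
      push_cast
      rw [ZMod.natCast_zmod_val]
      exact h2
    rw [ZMod.natCast_eq_zero_iff] at hi
    have : NeZero (2 * n) := ⟨by omega⟩
    have hlt : i.val < 2 * n := ZMod.val_lt i
    obtain ⟨c, hc⟩ := hi
    have hc' : i.val = n * c := by nlinarith
    have hc2 : c < 2 := by
      by_contra hcon
      push Not at hcon
      nlinarith
    interval_cases c
    · left
      rw [QuaternionGroup.one_def]
      congr 1
      have : i.val = 0 := by simpa using hc'
      exact (ZMod.val_eq_zero i).mp this
    · right
      congr 1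
      have : i.val = n := by simpa using hc'
      have h3 : ((i.val : ℕ) : ZMod (2 * n)) = i := ZMod.natCast_zmod_val i
      rw [← h3]
      exact congrArg _ this
  | xa i =>
    exfalso
    rw [sq, QuaternionGroup.xa_mul_xa, QuaternionGroup.one_def] at hx
    have h2 : (n : ZMod (2 * n)) + i - i = 0 := by
      injection hx
    rw [add_sub_cancel_right] at h2
    rw [ZMod.natCast_eq_zero_iff] at h2
    have := Nat.le_of_dvd (Nat.pos_of_ne_zero hn) h2
    omega

end Cfsg.Agent.Lib.Helper21.BSQ
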