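import Mathlib
import Cfsg.Prelude.Def_KGroupFacts
import Cfsg.Agent.Lib.Helper5.PcPE
import Cfsg.Agent.Lib.Helper5.StemZ
import Cfsg.Agent.Lib.helper3.StemTools

set_option autoImplicit false

/-!
# Project C1M, piece ABS: the certificate theorem without a model
-/

namespace Cfsg.Agent.Lib.Helper26.C1M

open Subgroup Cfsg.Agent.Lib.Helper5.PcT Cfsg.Agent.Lib.Helper5.PcP Cfsg.Agent.Lib.Helper5.Stem

/-- [ABS] the certificate theorem `Helper5.PcP.stem_card_ne_of_cert_ge` without a model: the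
relations, the fusion facts and the lower bound are hypotheses -/
theorem stem_card_ne_of_cert_abs {H : Type*} [Group H] [Finite H] (p : ℕ) (hp : p.Prime)
    (gG : List H) (k : ℕ) (sqL : List (List ℕ)) (cmL : List (List (List ℕ)))
    (hdata : dataOK k sqL cmL = true) (hlen : gG.length ≤ k)
    (hsq : ∀ i, i < k → gG.getD i 1 ^ p = nfw (fun i => gG.getD i 1) (sqL.getD i []))
    (hcm : ∀ i j, i < j → j < k → gG.getD j 1 * gG.getD i 1 =
      gG.getD i 1 * gG.getD j 1 * nfw (fun i => gG.getD i 1) ((cmL.getD i []).getD j []))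
    (f : ℕ) (conL : List (List ℕ × List ℕ)) (pwEqL : List (List ℕ × List ℕ))
    (pwOneL : List (List ℕ)) (cmEqL : List (List ℕ × List ℕ × List ℕ × List ℕ))
    (cmOneL : List (List ℕ × List ℕ)) (C : List (List (ℕ × ℕ))) (certs : List (List ℕ))
    (hchk : certOKP p (PcD.ofLists k sqL cmL) C
      (zformsP p (PcD.ofLists k sqL cmL) f conL (mkRel p pwEqL pwOneL cmEqL cmOneL)) certs = true)
    (hpw : ∀ q ∈ pwEqL, nfw (fun i => gG.getD i 1) q.1 ^ p = 1 ∧
      ∃ c : H, c * nfw (fun i => gG.getD i 1) q.1 * c⁻¹ = nfw (fun i => gG.getD i 1) q.2)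
    (hcmE : ∀ q ∈ cmEqL, nfw (fun i => gG.getD i 1) q.1 * nfw (fun i => gG.getD i 1) q.2.1 =
        nfw (fun i => gG.getD i 1) q.2.1 * nfw (fun i => gG.getD i 1) q.1 ∧
      ∃ c : H, c * nfw (fun i => gG.getD i 1) q.1 * c⁻¹ = nfw (fun i => gG.getD i 1) q.2.2.1 ∧
        c * nfw (fun i => gG.getD i 1) q.2.1 * c⁻¹ = nfw (fun i => gG.getD i 1) q.2.2.2)
    (hge : p ^ k ≤ Nat.card (closure {x | ∃ i, i < k ∧ x = gG.getD i 1}))
    (N : ℕ) (hN : Nat.card H = N) (hidx : ¬ p ∣ N / p ^ k)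
    {Γ : Type*} [Group Γ] [Finite Γ] (σ : Γ →* H) (hσ : Cfsg.IsStemExtension σ)
    (hO : ∀ w ∈ pwOneL, QPowOne p σ (nfw (fun i => gG.getD i 1) w))
    (hC : ∀ q ∈ cmOneL,
      QComm σ (nfw (fun i => gG.getD i 1) q.1) (nfw (fun i => gG.getD i 1) q.2)) :
    Nat.card σ.ker ≠ p := by
  intro hcard
  obtain ⟨hsurj, hcen, hder⟩ := hσ
  obtain ⟨z, hK⟩ := kerP_of_card hp hcen hcard
  have hK' := hK
  obtain ⟨hz1, hzp, hσz, hw, hzc⟩ := hK
  obtain ⟨g, hg⟩ : ∃ g : ℕ → H, g = fun i => gG.getD i 1 := ⟨_, rfl⟩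
  obtain ⟨P, hP⟩ : ∃ P : Subgroup H, P = closure {x | ∃ i, i < k ∧ x = gG.getD i 1} := ⟨_, rfl⟩
  have hle : Nat.card P ≤ p ^ k := by
    rw [hP]
    exact card_closure_gens_leP p hp.one_lt.le k sqL cmL gG hdata hsq hcm hlen
  have hge' : p ^ k ≤ Nat.card P := by
    rw [hP]
    exact hge
  have hcardP : Nat.card P = p ^ k := le_antisymm hle hge'
  have hindex : ¬ p ∣ P.index := by
    have h := Subgroup.card_mul_index P
    rw [hcardP, hN] at h
    have hpos : 0 < p ^ k := pow_pos hp.pos k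
    have : P.index = N / p ^ k := by
      rw [← h, Nat.mul_div_cancel_left _ hpos]
    rwa [this]
  have hg1 : ∀ i, k ≤ i → (fun i => gG.getD i 1) i = 1 := by
    intro i hi
    exact List.getD_eq_default _ _ (by omega)
  have hS := comm_comap_trivial_of_pcp hp hsurj hK' k sqL cmL (fun i => gG.getD i 1) hg1 hsq hcm
    f conL pwEqL pwOneL cmEqL cmOneL C certs hdata hchk
    (by
      intro q hq
      obtain ⟨h1, c, h2⟩ := hpw q hq
      exact qpoweq_of_conj hsurj hK' h1 h2)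
    hO
    (by
      intro q hq
      obtain ⟨h1, c, h2, h3⟩ := hcmE q hq
      exact qcommeq_of_conj hsurj hK' h1 h2 h3)
    hC P (by rw [hP]) hge'
  have : Fact p.Prime := ⟨hp⟩
  have := Cfsg.Agent.Lib.helper3.stem_no_prime_of_subgroup σ hsurj hcen hder P hindex hS
    (MonoidHom.mem_ker.mpr hσz) hzp
  exact hz1 this

end Cfsg.Agent.Lib.Helper26.C1M
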