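import Mathlib
import Cfsg.Prelude.Def_KGroupFacts
import Cfsg.Agent.Lib.Helper5.PcPE
import Cfsg.Agent.Lib.Helper5.StemZ
import Cfsg.Agent.Lib.helper3.StemTools

set_option autoImplicit false

/-!
# Project C1M, piece COVER
-/

namespace Cfsg.Agent.Lib.Helper26.C1M

open Subgroup Cfsg.Agent.Lib.Helper5.PcT Cfsg.Agent.Lib.Helper5.PcP Cfsg.Agent.Lib.Helper5.Stem

universe u

/-- a surjective image of a perfect group whose kernel lies in the commutator subgroup comes from
a perfect group -/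
theorem c1mcover_perfect_of_stem {Γ G : Type*} [Group Γ] [Group G] (σ : Γ →* G)
    (hσ : Cfsg.IsStemExtension σ) (hG : Group.IsPerfect G) : Group.IsPerfect Γ := by
  obtain ⟨hs, -, hder⟩ := hσ
  rw [Group.isPerfect_def, eq_top_iff]
  intro g _
  have h1 : σ g ∈ commutator G := by
    rw [hG.commutator_eq_top]
    trivial
  rw [commutator_def, ← Subgroup.map_top_of_surjective σ hs, ← Subgroup.map_commutator] at h1
  obtain ⟨c, hc, hcg⟩ := h1
  have h2 : c⁻¹ * g ∈ σ.ker := by
    rw [MonoidHom.mem_ker, map_mul, map_inv, hcg, inv_mul_cancel]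
  have h3 : c⁻¹ * g ∈ commutator Γ := hder h2
  have h4 : c ∈ commutator Γ := hc
  have : g = c * (c⁻¹ * g) := by group
  rw [this]
  exact (commutator Γ).mul_mem h4 h3

/-- the covering homomorphism, when all finite stem extensions of the perfect group `C` are
trivial -/
theorem c1mcover_hom {G C : Type u} [Group G] [Group C] [Finite C]
    [Group.IsPerfect C] (τ : C →* G) (hτ : Cfsg.IsStemExtension τ)
    (htriv : ∀ (D : Type u) [Group D] [Finite D] (ρ : D →* C), Cfsg.IsStemExtension ρ →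
      ∀ z ∈ ρ.ker, z = 1)
    {L : Type u} [Group L] [Finite L] (σ : L →* G) (hσ : Cfsg.IsStemExtension σ) :
    ∃ φ : C →* L, Function.Surjective φ ∧ ∀ c, σ (φ c) = τ c := by
  classical
  have hGp : Group.IsPerfect G := Group.IsPerfect.ofSurjective hτ.1
  have hLp : Group.IsPerfect L := c1mcover_perfect_of_stem σ hσ hGp
  obtain ⟨hτs, hτc, -⟩ := hτ
  obtain ⟨hσs, hσc, -⟩ := hσ
  obtain ⟨K, hK⟩ : ∃ K : Subgroup (fibre τ σ), K = commutator (fibre τ σ) := ⟨_, rfl⟩
  have hperf : Group.IsPerfect K := by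
    rw [hK]
    exact fibre_commutator_perfect τ σ hσs hσc
  obtain ⟨π1, hπ1⟩ : ∃ π1 : K →* C, π1 = (fib1 τ σ).comp K.subtype := ⟨_, rfl⟩
  obtain ⟨π2, hπ2⟩ : ∃ π2 : K →* L, π2 = (fib2 τ σ).comp K.subtype := ⟨_, rfl⟩
  have hπ1s : Function.Surjective π1 := by
    intro c
    have hc : c ∈ K.map (fib1 τ σ) := by
      rw [hK, map_fib1_commutator τ σ hσs]
      trivial
    obtain ⟨k, hk, hkc⟩ := hc
    refine ⟨⟨k, hk⟩, ?_⟩
    rw [hπ1]
    exact hkc
  have hπ2s : Function.Surjective π2 := by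
    intro l
    have hl : l ∈ K.map (fib2 τ σ) := by
      rw [hK, map_fib2_commutator τ σ hτs]
      trivial
    obtain ⟨k, hk, hkl⟩ := hl
    refine ⟨⟨k, hk⟩, ?_⟩
    rw [hπ2]
    exact hkl
  have hcompat : ∀ d : K, τ (π1 d) = σ (π2 d) := by
    intro d
    rw [hπ1, hπ2]
    exact fib_eq τ σ d.1
  have hstem : Cfsg.IsStemExtension π1 := by
    refine ⟨hπ1s, ?_, ?_⟩
    · intro d hd
      rw [Subgroup.mem_center_iff]
      intro q
      apply Subtype.ext
      show q.1 * d.1 = d.1 * q.1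
      have h1 : π1 d = 1 := hd
      have h1' : fib1 τ σ d.1 = 1 := by
        rw [hπ1] at h1
        exact h1
      apply fibre_central τ σ d.1
      · rw [h1']
        exact one_mem _
      · apply hσc
        rw [MonoidHom.mem_ker]
        have := hcompat d
        rw [h1, map_one, hπ2] at this
        exact this.symm
    · intro d _
      rw [hperf.commutator_eq_top]
      trivial
  have hπ1i : Function.Injective π1 := by
    rw [injective_iff_map_eq_one]
    intro d hd
    exact htriv K π1 hstem d (MonoidHom.mem_ker.mpr hd)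
  obtain ⟨e1, he1⟩ : ∃ e1 : K ≃* C, ∀ d, e1 d = π1 d :=
    ⟨MulEquiv.ofBijective π1 ⟨hπ1i, hπ1s⟩, fun _ => rfl⟩
  refine ⟨π2.comp e1.symm.toMonoidHom, ?_, ?_⟩
  · exact hπ2s.comp e1.symm.surjective
  · intro c
    show σ (π2 (e1.symm c)) = τ c
    rw [← hcompat, ← he1, e1.apply_symm_apply]

/-- [COVER] a finite perfect group all of whose finite stem extensions are trivial is the universal
stem extension of each of its central quotients -/
theorem hasSchurMultiplier_of_trivial_cover {G C : Type u} [Group G] [Group C] [Finite C]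
    [Group.IsPerfect C] {A : Type*} [CommGroup A] (τ : C →* G) (hτ : Cfsg.IsStemExtension τ)
    (e : τ.ker ≃* A)
    (htriv : ∀ (D : Type u) [Group D] [Finite D] (ρ : D →* C), Cfsg.IsStemExtension ρ →
      ∀ z ∈ ρ.ker, z = 1) :
    Cfsg.HasSchurMultiplier G A := by
  refine ⟨⟨C, inferInstance, inferInstance, τ, hτ, ⟨e⟩⟩, ?_⟩
  intro Γ _ _ σ hσ
  obtain ⟨φ, hφs, hφ⟩ := c1mcover_hom τ hτ htriv σ hσ
  have hmem : ∀ c : τ.ker, φ c.1 ∈ σ.ker := by
    intro c
    rw [MonoidHom.mem_ker, hφ]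
    exact c.2
  obtain ⟨ψ, hψ⟩ : ∃ ψ : τ.ker →* σ.ker, ∀ c, (ψ c : Γ) = φ c.1 :=
    ⟨(φ.comp τ.ker.subtype).codRestrict σ.ker hmem, fun _ => rfl⟩
  have hψs : Function.Surjective ψ := by
    rintro ⟨z, hz⟩
    obtain ⟨c, hc⟩ := hφs z
    have hck : c ∈ τ.ker := by
      rw [MonoidHom.mem_ker, ← hφ, hc]
      exact hz
    refine ⟨⟨c, hck⟩, Subtype.ext ?_⟩
    rw [hψ]
    exact hc
  exact ⟨ψ.comp e.symm.toMonoidHom, hψs.comp e.symm.surjective⟩

end Cfsg.Agent.Lib.Helper26.C1M
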