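import Mathlib
import Cfsg.Prelude.Def_KGroupFacts
import Cfsg.Agent.Lib.Helper5.PcPE
import Cfsg.Agent.Lib.Helper5.StemZ
import Cfsg.Agent.Lib.helper3.StemTools

set_option autoImplicit false

/-!
# Project C1M, pieces PERFQ and PERFS
-/

namespace Cfsg.Agent.Lib.Helper26.C1M

open Subgroup

/-- [PERFQ] a group is perfect when its quotient by the centre is perfect and the centre lies in
the commutator subgroup -/
theorem isPerfect_of_center_quotient {C : Type*} [Group C]
    (hq : Group.IsPerfect (C ⧸ Subgroup.center C)) (hz : Subgroup.center C ≤ commutator C) :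
    Group.IsPerfect C := by
  rw [Group.isPerfect_def, eq_top_iff]
  intro g _
  have h1 : (QuotientGroup.mk' (Subgroup.center C)) g ∈ commutator (C ⧸ Subgroup.center C) := by
    rw [hq.commutator_eq_top]
    trivial
  rw [commutator_def, ← Subgroup.map_top_of_surjective (QuotientGroup.mk' (Subgroup.center C))
    (QuotientGroup.mk'_surjective _), ← Subgroup.map_commutator] at h1
  obtain ⟨c, hc, hcg⟩ := h1
  have h2 : c⁻¹ * g ∈ Subgroup.center C := by
    rw [← QuotientGroup.eq]
    exact hcg
  have h3 : c⁻¹ * g ∈ commutator C := hz h2
  have h4 : c ∈ commutator C := hc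
  have : g = c * (c⁻¹ * g) := by group
  rw [this]
  exact (commutator C).mul_mem h4 h3

/-- [PERFS] a finite simple group of non-prime order is perfect -/
theorem isPerfect_of_simple {G : Type*} [Group G] [Finite G] [IsSimpleGroup G]
    (h : ¬ (Nat.card G).Prime) : Group.IsPerfect G := by
  rw [Group.isPerfect_def]
  rcases IsSimpleGroup.eq_bot_or_eq_top_of_normal (commutator G) inferInstance with h0 | h1
  · exfalso
    apply h
    have hcomm : ∀ a b : G, a * b = b * a := by
      intro a b
      have hb : b ∈ Subgroup.center G := by
        rw [(_root_.commutator_eq_bot_iff_center_eq_top (G := G)).mp h0]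
        trivial
      exact (Subgroup.mem_center_iff.mp hb a)
    let inst : CommGroup G := { (inferInstance : Group G) with mul_comm := hcomm }
    exact @IsSimpleGroup.prime_card G inst _
  · exact h1

end Cfsg.Agent.Lib.Helper26.C1M
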