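import Mathlib
import Cfsg.Agent.Lib.helper14.MSg

set_option autoImplicit false

/-!
Project C1O (S2069, `Out(Co₁) = 1`), piece C1O-RIGID: the two-stage rigidity criterion.
-/

namespace Cfsg.Agent.Lib.Helper10.Co1O

open Subgroup

theorem out_trivial_rigid {G : Type*} [Group G] [Finite G] (c u t b h : G) (Y : Set G)
    (hfac : (Nat.card G).factorization 23 = 1) (hc : orderOf c = 23)
    (hu : u * c * u⁻¹ = c ^ 2)
    (hCc : ∀ x : G, x * c = c * x → x ∈ zpowers c)
    (hCu : ∀ x : G, x * u = u * x → x ∈ Y)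
    (htu : t * u * t⁻¹ = u⁻¹)
    (hst1 : ∀ γ : MulAut G, (γ c = c ∨ γ c = c⁻¹) → γ u = u → ∀ y ∈ Y, γ t = t * y →
      γ c = c ∧ y = 1)
    (hb : b * u = u * b)
    (hh : h ∈ closure ({c, t} : Set G)) (hbh : b * h * b⁻¹ ∈ closure ({c, t} : Set G))
    (hyh : ∀ y ∈ Y, y * h = h * y → y = 1)
    (hgen : closure ({c, t, b} : Set G) = ⊤) :
    Nat.card (Cfsg.Out G) = 1 := by
  classical
  have key : ∀ α : MulAut G, α ∈ Cfsg.Inn G := by
    intro α
    obtain ⟨g, hγc, hγu⟩ := Cfsg.Agent.Lib.helper14.MR.adjust23 c u hfac hc hu hCc α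
    set γ : MulAut G := MulAut.conj g * α with hγ
    -- the image of `t` inverts `u`
    have h1 : γ t * u * (γ t)⁻¹ = u⁻¹ := by
      have : γ (t * u * t⁻¹) = γ u⁻¹ := by rw [htu]
      rw [map_mul, map_mul, map_inv, map_inv, hγu] at this
      exact this
    have hcomm : (t⁻¹ * γ t) * u = u * (t⁻¹ * γ t) := by
      have h2 : γ t * u = u⁻¹ * γ t := by rw [← h1]; group
      have h3 : t * u = u⁻¹ * t := by rw [← htu]; group
      have h4 : t⁻¹ * u⁻¹ = u * t⁻¹ := by
        calc t⁻¹ * u⁻¹ = t⁻¹ * (u⁻¹ * t) * t⁻¹ := by group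
          _ = t⁻¹ * (t * u) * t⁻¹ := by rw [h3]
          _ = u * t⁻¹ := by group
      calc (t⁻¹ * γ t) * u = t⁻¹ * (γ t * u) := by group
        _ = t⁻¹ * (u⁻¹ * γ t) := by rw [h2]
        _ = (t⁻¹ * u⁻¹) * γ t := by group
        _ = (u * t⁻¹) * γ t := by rw [h4]
        _ = u * (t⁻¹ * γ t) := by group
    have hy0 : t⁻¹ * γ t ∈ Y := hCu _ hcomm
    have hγt0 : γ t = t * (t⁻¹ * γ t) := by group
    obtain ⟨e1, e2⟩ := hst1 γ hγc hγu _ hy0 hγt0
    have hγt : γ t = t := by
      rw [hγt0, e2, mul_one]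
    -- γ fixes ⟨c, t⟩ pointwise
    have hfix : ∀ x ∈ closure ({c, t} : Set G), γ x = x := by
      intro x hx
      induction hx using Subgroup.closure_induction with
      | mem s hs =>
        rcases hs with rfl | hs
        · exact e1
        · rw [Set.mem_singleton_iff] at hs
          rw [hs]; exact hγt
      | one => rw [map_one]
      | mul x y _ _ hx hy => rw [map_mul, hx, hy]
      | inv x _ hx => rw [map_inv, hx]
    -- stage 2
    have hγbu : γ b * u = u * γ b := by
      have : γ (b * u) = γ (u * b) := by rw [hb]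
      rw [map_mul, map_mul, hγu] at this
      exact this
    have hb' : b⁻¹ * u = u * b⁻¹ := by
      calc b⁻¹ * u = b⁻¹ * (u * b) * b⁻¹ := by group
        _ = b⁻¹ * (b * u) * b⁻¹ := by rw [hb]
        _ = u * b⁻¹ := by group
    have hycomm : (b⁻¹ * γ b) * u = u * (b⁻¹ * γ b) := by
      calc (b⁻¹ * γ b) * u = b⁻¹ * (γ b * u) := by group
        _ = b⁻¹ * (u * γ b) := by rw [hγbu]
        _ = (b⁻¹ * u) * γ b := by group
        _ = (u * b⁻¹) * γ b := by rw [hb']
        _ = u * (b⁻¹ * γ b) := by group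
    have hyY : b⁻¹ * γ b ∈ Y := hCu _ hycomm
    have hγh : γ h = h := hfix h hh
    have hγbh : γ (b * h * b⁻¹) = b * h * b⁻¹ := hfix _ hbh
    rw [map_mul, map_mul, map_inv, hγh] at hγbh
    have hyhc : (b⁻¹ * γ b) * h = h * (b⁻¹ * γ b) := by
      calc (b⁻¹ * γ b) * h = b⁻¹ * (γ b * h * (γ b)⁻¹) * γ b := by group
        _ = b⁻¹ * (b * h * b⁻¹) * γ b := by rw [hγbh]
        _ = h * (b⁻¹ * γ b) := by group
    have hy1 := hyh _ hyY hyhc
    have hγb : γ b = b := by
      calc γ b = b * (b⁻¹ * γ b) := by group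
        _ = b := by rw [hy1, mul_one]
    have hγ1 : γ = 1 := by
      apply MulEquiv.ext
      intro x
      have hx : x ∈ closure ({c, t, b} : Set G) := by rw [hgen]; exact Subgroup.mem_top x
      rw [MulAut.one_apply]
      induction hx using Subgroup.closure_induction with
      | mem s hs =>
        rcases hs with rfl | hs
        · exact e1
        · rcases hs with rfl | hs
          · exact hγt
          · rw [Set.mem_singleton_iff] at hs
            rw [hs]; exact hγb
      | one => rw [map_one]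
      | mul x y _ _ hx hy => rw [map_mul, hx, hy]
      | inv x _ hx => rw [map_inv, hx]
    have hα : α = (MulAut.conj g)⁻¹ := by
      apply eq_inv_of_mul_eq_one_right
      rw [← hγ, hγ1]
    rw [hα]
    exact Subgroup.inv_mem _ ⟨_, rfl⟩
  rw [Nat.card_eq_one_iff_unique]
  refine ⟨⟨?_⟩, ⟨1⟩⟩
  intro a b
  obtain ⟨α, rfl⟩ := QuotientGroup.mk_surjective a
  obtain ⟨β, rfl⟩ := QuotientGroup.mk_surjective b
  rw [QuotientGroup.eq]
  exact key _

end Cfsg.Agent.Lib.Helper10.Co1O
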