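import Mathlib
import Cfsg.Agent.Lib.Helper22.C3L.Defs
import Cfsg.Agent.Lib.Helper24.C3LGEN

set_option autoImplicit false
set_option linter.unusedVariables false
set_option linter.unusedSectionVars false

namespace Cfsg.Agent.Lib.Helper22.C3L

open Module

variable {F K V : Type*} [Field F] [Field K] [Algebra F K] [AddCommGroup V] [Module F V] [Module K V]
  [IsScalarTower F K V]

/-- some element of `K` is not in `F` when `[K : F] = 2` -/
theorem c3lr2m3_exists_not_mem [FiniteDimensional F K] (h2 : finrank F K = 2) :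
    ∃ a : K, a ∉ (algebraMap F K).range := by
  by_contra hcon
  push Not at hcon
  have h1 : (⊥ : Subalgebra F K) = ⊤ := by
    rw [eq_top_iff]
    intro x _
    rw [Algebra.mem_bot]
    exact hcon x
  rw [Subalgebra.bot_eq_top_iff_finrank_eq_one] at h1
  omega

/-- coordinates of `K` over `F` with respect to `1, a` -/
theorem c3lr2m3_coords [FiniteDimensional F K] (h2 : finrank F K = 2) {a : K}
    (ha : a ∉ (algebraMap F K).range) :
    ∃ α β : K →ₗ[F] F, (∀ c : K, c = algebraMap F K (α c) + algebraMap F K (β c) * a) ∧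
      β a = 1 ∧ β 0 = 0 := by
  have hli : LinearIndependent F ![(1 : K), a] := by
    rw [LinearIndependent.pair_iff]
    intro s t hst
    have ht : t = 0 := by
      by_contra ht
      apply ha
      refine ⟨-(s / t), ?_⟩
      have h1 : t • a = -(s • (1 : K)) := by
        rw [eq_neg_iff_add_eq_zero, add_comm]
        exact hst
      rw [Algebra.smul_def, Algebra.smul_def, mul_one] at h1
      have ht' : algebraMap F K t ≠ 0 := by
        rw [Ne, map_eq_zero]
        exact ht
      rw [map_neg, map_div₀]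
      field_simp
      rw [h1]
    rw [ht, zero_smul, add_zero, Algebra.smul_def, mul_one, map_eq_zero] at hst
    exact ⟨hst, ht⟩
  have hcard : Fintype.card (Fin 2) = finrank F K := by
    rw [h2, Fintype.card_fin]
  obtain ⟨b, hb⟩ : ∃ b : Module.Basis (Fin 2) F K, ⇑b = ![(1 : K), a] :=
    ⟨basisOfLinearIndependentOfCardEqFinrank hli hcard,
      coe_basisOfLinearIndependentOfCardEqFinrank hli hcard⟩
  have hb0 : b 0 = 1 := by rw [hb]; rfl
  have hb1 : b 1 = a := by rw [hb]; rfl
  refine ⟨b.coord 0, b.coord 1, ?_, ?_, ?_⟩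
  · intro c
    have h := b.sum_repr c
    rw [Fin.sum_univ_two, hb0, hb1, Algebra.smul_def, Algebra.smul_def, mul_one] at h
    rw [Module.Basis.coord_apply, Module.Basis.coord_apply]
    exact h.symm
  · rw [Module.Basis.coord_apply, ← hb1, Module.Basis.repr_self, Finsupp.single_eq_same]
  · rw [map_zero]

/-- R2M3 [M-L] `[K:F] = 2`, `dim_K V ≥ 3`: a transvection from one commutator. -/
theorem r2m3 [FiniteDimensional F K] [FiniteDimensional K V] (h2 : finrank F K = 2) (hm : 3 ≤ finrank K V)
    (H : Subgroup (V ≃ₗ[F] V)) (hC : C1 F K V ≤ H) (hA : MovesOut K H) : HasTv2 K H := by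
  obtain ⟨a, ha⟩ := c3lr2m3_exists_not_mem (F := F) (K := K) h2
  obtain ⟨α, β, hαβ, hβa, hβ0⟩ := c3lr2m3_coords h2 ha
  obtain ⟨v, hv⟩ : ∃ v : V, v ≠ 0 := by
    have hpos : 0 < finrank K V := by omega
    exact Module.finrank_pos_iff_exists_ne_zero.mp hpos
  obtain ⟨h, hhH, hhv, hhout⟩ := hA v hv a ha
  have hsv : h.symm v = v := by
    rw [LinearEquiv.symm_apply_eq, hhv]
  obtain ⟨w, hw⟩ : ∃ w : V, w = h (a • v) := ⟨_, rfl⟩
  obtain ⟨y, hy⟩ : ∃ y : V, y = h.symm (a • v) := ⟨_, rfl⟩
  have hsplit : ∀ c : K, c • v = α c • v + β c • (a • v) := by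
    intro c
    conv_lhs => rw [hαβ c]
    rw [add_smul, mul_smul, algebraMap_smul, algebraMap_smul]
  have hh_line : ∀ c : K, h (c • v) = α c • v + β c • w := by
    intro c
    rw [hsplit c, map_add, map_smul, map_smul, hhv, hw]
  have hs_line : ∀ c : K, h.symm (c • v) = α c • v + β c • y := by
    intro c
    rw [hsplit c, map_add, map_smul, map_smul, hsv, hy]
  have hwout : ∀ b : K, w ≠ b • v := by
    intro b
    rw [hw]
    exact hhout b
  have hyout : y ∉ Submodule.span K {v} := by
    intro hmem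
    obtain ⟨b, hb⟩ := Submodule.mem_span_singleton.mp hmem
    have h1 : a • v = α b • v + β b • w := by
      have : h y = a • v := by rw [hy, LinearEquiv.apply_symm_apply]
      rw [← this, ← hb, hh_line]
    by_cases hβb : β b = 0
    · rw [hβb, zero_smul, add_zero, ← algebraMap_smul K (α b) v, ← sub_eq_zero, ← sub_smul,
        smul_eq_zero] at h1
      rcases h1 with h1 | h1
      · apply ha
        exact ⟨α b, (sub_eq_zero.mp h1).symm⟩
      · exact hv h1
    · apply hwout ((algebraMap F K (β b))⁻¹ * (a - algebraMap F K (α b)))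
      have h3 : β b • w = (a - algebraMap F K (α b)) • v := by
        rw [sub_smul, algebraMap_smul, h1]
        abel
      have hne : algebraMap F K (β b) ≠ 0 := by
        rw [Ne, map_eq_zero]
        exact hβb
      rw [mul_smul, ← h3, ← algebraMap_smul K (β b) w, smul_smul, inv_mul_cancel₀ hne, one_smul]
  -- the functional `ψ`
  have hlt : Submodule.span K (Set.range ![v, w]) < ⊤ := by
    rw [lt_top_iff_ne_top]
    intro htop
    have h1 := finrank_range_le_card (R := K) ![v, w]
    have h3 : finrank K (Submodule.span K (Set.range ![v, w])) = finrank K V := by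
      rw [htop]
      exact finrank_top K V
    have h4 : (Set.range ![v, w]).finrank K = finrank K (Submodule.span K (Set.range ![v, w])) := rfl
    rw [Fintype.card_fin] at h1
    omega
  obtain ⟨ψ, hψne, hψker⟩ := Submodule.exists_le_ker_of_lt_top _ hlt
  have hψv : ψ v = 0 := by
    have : v ∈ Submodule.span K (Set.range ![v, w]) := Submodule.subset_span ⟨0, rfl⟩
    exact hψker this
  have hψw : ψ w = 0 := by
    have : w ∈ Submodule.span K (Set.range ![v, w]) := Submodule.subset_span ⟨1, rfl⟩
    exact hψker this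
  -- the functional `ψ'`
  obtain ⟨f, hfy, hfmap⟩ := Submodule.exists_dual_map_eq_bot_of_notMem hyout inferInstance
  have hfv : f v = 0 := by
    have : f v ∈ (Submodule.span K {v}).map f :=
      Submodule.mem_map_of_mem (Submodule.mem_span_singleton_self v)
    rw [hfmap, Submodule.mem_bot] at this
    exact this
  obtain ⟨ψ', hψ'⟩ : ∃ ψ' : Module.Dual K V, ψ' = (f y)⁻¹ • f := ⟨_, rfl⟩
  have hψ'v : ψ' v = 0 := by
    rw [hψ', LinearMap.smul_apply, hfv, smul_zero]
  have hψ'y : ψ' y = 1 := by
    rw [hψ', LinearMap.smul_apply, smul_eq_mul, inv_mul_cancel₀ hfy]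
  -- the group elements
  obtain ⟨B, hB⟩ : ∃ B : V ≃ₗ[F] V, B = (LinearEquiv.transvection hψv).restrictScalars F := ⟨_, rfl⟩
  obtain ⟨B', hB'⟩ : ∃ B' : V ≃ₗ[F] V, B' = (LinearEquiv.transvection hψ'v).restrictScalars F :=
    ⟨_, rfl⟩
  have hBH : B ∈ H := by
    rw [hB]
    exact hC (ktv_mem hψv)
  have hB'H : B' ∈ H := by
    rw [hB']
    exact hC (ktv_mem hψ'v)
  have hB_apply : ∀ z, B z = z + ψ z • v := by
    intro z
    rw [hB, LinearEquiv.restrictScalars_apply, LinearEquiv.transvection.apply]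
  have hB'_apply : ∀ z, B' z = z + ψ' z • v := by
    intro z
    rw [hB', LinearEquiv.restrictScalars_apply, LinearEquiv.transvection.apply]
  obtain ⟨A, hAdef⟩ : ∃ A : V ≃ₗ[F] V, A = h * B' * h⁻¹ := ⟨_, rfl⟩
  have hAH : A ∈ H := by
    rw [hAdef]
    exact H.mul_mem (H.mul_mem hhH hB'H) (H.inv_mem hhH)
  -- the map `Y`
  obtain ⟨Y, hY⟩ : ∃ Y : V → V, Y = fun z => h (ψ' (h.symm z) • v) := ⟨_, rfl⟩
  have hA_apply : ∀ z, A z = z + Y z := by
    intro z
    rw [hAdef, LinearEquiv.mul_apply, LinearEquiv.mul_apply, LinearEquiv.coe_inv, hB'_apply,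
      map_add, LinearEquiv.apply_symm_apply, hY]
  have hY_val : ∀ z, Y z = α (ψ' (h.symm z)) • v + β (ψ' (h.symm z)) • w := by
    intro z
    rw [hY]
    exact hh_line _
  have hψY : ∀ z, ψ (Y z) = 0 := by
    intro z
    rw [hY_val, map_add, LinearMap.map_smul_of_tower, LinearMap.map_smul_of_tower, hψv, hψw,
      smul_zero, smul_zero, add_zero]
  have hY_add : ∀ z z', Y (z + z') = Y z + Y z' := by
    intro z z'
    rw [hY]
    simp only [map_add, add_smul]
  have hY_line : ∀ c : K, Y (c • v) = β c • v := by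
    intro c
    rw [hY]
    show h (ψ' (h.symm (c • v)) • v) = β c • v
    rw [hs_line, map_add, LinearMap.map_smul_of_tower, LinearMap.map_smul_of_tower, hψ'v, hψ'y,
      smul_zero, zero_add, Algebra.smul_def, mul_one, algebraMap_smul, map_smul, hhv]
  -- the functional of the transvection
  obtain ⟨φ, hφ⟩ : ∃ φ : Module.Dual F V, φ = β ∘ₗ (ψ.restrictScalars F) := ⟨_, rfl⟩
  have hφ_apply : ∀ z, φ z = β (ψ z) := by
    intro z
    rw [hφ]
    rfl
  have hφv : φ v = 0 := by
    rw [hφ_apply, hψv, hβ0]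
  have hT_apply : ∀ z, LinearEquiv.transvection hφv z = z + β (ψ z) • v := by
    intro z
    rw [LinearEquiv.transvection.apply, hφ_apply]
  have e1 : ∀ x, ψ (A x) = ψ x := by
    intro x
    rw [hA_apply, map_add, hψY, add_zero]
  have e2 : ∀ x, ψ (B x) = ψ x := by
    intro x
    rw [hB_apply, map_add, map_smul, hψv, smul_zero, add_zero]
  have hcomm : A * B = LinearEquiv.transvection hφv * B * A := by
    ext x
    rw [LinearEquiv.mul_apply, LinearEquiv.mul_apply, LinearEquiv.mul_apply, hA_apply (B x),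
      hT_apply (B (A x)), e2 (A x), e1 x, hB_apply (A x), e1 x, hA_apply x, hB_apply x, hY_add,
      hY_line]
    abel
  have hTH : LinearEquiv.transvection hφv ∈ H := by
    have e : LinearEquiv.transvection hφv = A * B * (B * A)⁻¹ := by
      rw [hcomm, mul_assoc (LinearEquiv.transvection hφv) B A, mul_assoc, mul_inv_cancel, mul_one]
    rw [e]
    exact H.mul_mem (H.mul_mem hAH hBH) (H.inv_mem (H.mul_mem hBH hAH))
  refine ⟨φ, v, hφv, hv, ?_, ?_, hTH⟩
  · obtain ⟨x0, hx0⟩ : ∃ x0 : V, ψ x0 ≠ 0 := by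
      by_contra hcon
      push Not at hcon
      apply hψne
      ext z
      exact hcon z
    intro h0
    have h1 : φ ((a / ψ x0) • x0) = 1 := by
      rw [hφ_apply, map_smul, smul_eq_mul, div_mul_cancel₀ a hx0, hβa]
    rw [h0, LinearMap.zero_apply] at h1
    exact zero_ne_one h1
  · intro c
    rw [hφ_apply, map_smul, hψv, smul_zero, hβ0]

end Cfsg.Agent.Lib.Helper22.C3L
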