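import Mathlib
import Cfsg.Agent.Lib.Helper22.C3L.Defs
import Cfsg.Agent.Lib.Helper10.C3O.Defs
import Cfsg.Agent.Lib.Helper13.C3LN2
import Cfsg.Agent.Lib.Lead.C3OLO1
import Cfsg.Agent.Lib.Lead.C3OLOCONJ

set_option autoImplicit false
set_option linter.unusedVariables false
set_option linter.unusedSectionVars false

namespace Cfsg.Agent.Lib.Helper10.C3O

open Module Cfsg.Agent.Lib.Helper22.C3L

variable {F K V : Type*} [Field F] [Field K] [Algebra F K] [AddCommGroup V] [Module F V] [Module K V]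
  [IsScalarTower F K V]

/-- STEPC core: `stepC_o` with the statement of `lo_smul` (row LOK) as a hypothesis. -/
theorem c3ostepc_core [Finite K] [FiniteDimensional K V] (hr : (finrank F K).Prime)
    (B : V →ₗ[K] V →ₗ[K] K) (hBs : ∀ x y, B x y = B y x)
    (H : Subgroup (V ≃ₗ[F] V)) (hH : H ≤ Of F B)
    {g : V ≃ₗ[F] V} (hg : g ∈ H) {v : V}
    (hv : v ≠ 0) (hgv : ∀ a : K, ∃ b : K, g (a • v) = b • v)
    (hgn : ∃ a : K, ∀ b : K, ∃ c : K, g (a • c • v) ≠ b • g (c • v))
    (hsmul : ∀ (k : K) (θ : V →ₗ[F] K), θ ∈ LO B H v → LinearMap.mulLeft F k ∘ₗ θ ∈ LO B H v) :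
    ∀ (γ : K →ₗ[F] K) (θ : V →ₗ[F] K), θ ∈ LO B H v → γ ∘ₗ θ ∈ LO B H v := by
  haveI : FiniteDimensional F K := Module.Finite.of_finite
  have hinjv : ∀ a b : K, a • v = b • v → a = b := fun a b h => smul_left_injective K hv h
  choose αf hαf using hgv
  let α : K →ₗ[F] K :=
    { toFun := αf
      map_add' := fun a b => by
        apply hinjv
        rw [← hαf, add_smul, map_add, hαf, hαf, add_smul]
      map_smul' := fun c a => by
        apply hinjv
        rw [← hαf, smul_assoc, map_smul, hαf, RingHom.id_apply, smul_assoc] }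
  have hα : ∀ a : K, g (a • v) = α a • v := hαf
  have hαinj : Function.Injective α := by
    rw [← LinearMap.ker_eq_bot, LinearMap.ker_eq_bot']
    intro a ha
    have h1 := hα a
    rw [ha, zero_smul] at h1
    have h3 : a • v = 0 := by
      apply g.injective
      rw [h1, map_zero]
    rcases smul_eq_zero.mp h3 with h | h
    · exact h
    · exact absurd h hv
  let αe : K ≃ₗ[F] K := LinearEquiv.ofInjectiveEndo α hαinj
  have hαe : ∀ a, αe a = α a := fun a => rfl
  have hαinv : ∀ a : K, (g⁻¹ : V ≃ₗ[F] V) (a • v) = αe.symm a • v := by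
    intro a
    show g.symm (a • v) = _
    apply g.injective
    rw [LinearEquiv.apply_symm_apply, hα, ← hαe, LinearEquiv.apply_symm_apply]
  -- the left order
  let O : Subalgebra F (Module.End F K) :=
    { carrier := {γ | ∀ θ : V →ₗ[F] K, θ ∈ LO B H v → γ ∘ₗ θ ∈ LO B H v}
      mul_mem' := fun {γ γ'} h1 h3 θ hθ => by
        have := h1 _ (h3 θ hθ)
        rwa [← LinearMap.comp_assoc] at this
      one_mem' := fun θ hθ => by
        have : (1 : Module.End F K) ∘ₗ θ = θ := by ext x; rfl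
        rw [this]; exact hθ
      add_mem' := fun {γ γ'} h1 h3 θ hθ => by
        have : (γ + γ') ∘ₗ θ = γ ∘ₗ θ + γ' ∘ₗ θ := by ext x; rfl
        rw [this]
        exact lo_add B H v (h1 θ hθ) (h3 θ hθ)
      zero_mem' := fun θ hθ => by
        have : (0 : Module.End F K) ∘ₗ θ = 0 := by ext x; rfl
        rw [this]
        exact lo_zero B H v
      algebraMap_mem' := fun c θ hθ => by
        have : (algebraMap F (Module.End F K) c) ∘ₗ θ = LinearMap.mulLeft F (algebraMap F K c) ∘ₗ θ := by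
          ext x
          show (algebraMap F (Module.End F K) c) (θ x) = algebraMap F K c * θ x
          rw [Module.algebraMap_end_apply, Algebra.smul_def]
        rw [this]
        exact hsmul _ θ hθ }
  have hO : ∀ γ : Module.End F K, γ ∈ O ↔ ∀ θ : V →ₗ[F] K, θ ∈ LO B H v → γ ∘ₗ θ ∈ LO B H v := fun γ => Iff.rfl
  have hKO : ∀ a : K, kmul F K a ∈ O := by
    intro a θ hθ
    have : kmul F K a ∘ₗ θ = LinearMap.mulLeft F a ∘ₗ θ := by ext x; rfl
    rw [this]
    exact hsmul a θ hθ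
  obtain ⟨a₀, ha₀⟩ := hgn
  obtain ⟨T, hT⟩ : ∃ T : Module.End F K, T = α ∘ₗ LinearMap.mulLeft F a₀ ∘ₗ (αe.symm : K →ₗ[F] K) := ⟨_, rfl⟩
  have hTO : T ∈ O := by
    intro θ hθ
    have h1 := lo_conj B hBs H hH hv (H.inv_mem hg) (αe.symm : K →ₗ[F] K) hαinv hθ
    have h3 := hsmul a₀ _ h1
    have h4 := lo_conj B hBs H hH hv hg α hα h3
    have : T ∘ₗ θ = α ∘ₗ (LinearMap.mulLeft F a₀ ∘ₗ (αe.symm : K →ₗ[F] K) ∘ₗ θ ∘ₗ
        (((g⁻¹ : V ≃ₗ[F] V).symm : V ≃ₗ[F] V) : V →ₗ[F] V)) ∘ₗ (g.symm : V →ₗ[F] V) := by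
      ext x
      rw [hT]
      simp only [LinearMap.comp_apply, LinearEquiv.coe_coe]
      congr 4
      show x = g (g.symm x)
      rw [LinearEquiv.apply_symm_apply]
    rw [this]
    exact h4
  have hTK : ∀ b : K, T ≠ kmul F K b := by
    intro b hTb
    obtain ⟨c, hc⟩ := ha₀ b
    apply hc
    have h1 : T (α c) = b * α c := by rw [hTb]; rfl
    rw [hT] at h1
    simp only [LinearMap.comp_apply, LinearEquiv.coe_coe, LinearMap.mulLeft_apply] at h1
    rw [← hαe c, LinearEquiv.symm_apply_apply] at h1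
    rw [smul_smul, hα, hα, h1, hαe, mul_smul]
  have htop : O = ⊤ := n2 (F := F) (K := K) (W := K) (finrank_self K) hr O hKO T hTO hTK
  intro γ θ hθ
  have : γ ∈ O := by rw [htop]; exact Algebra.mem_top
  exact this θ hθ

end Cfsg.Agent.Lib.Helper10.C3O
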