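import Mathlib
import Cfsg.Agent.Lib.Helper22.C3L.Defs
import Cfsg.Agent.Lib.Helper10.C3O.Defs
import Cfsg.Agent.Lib.Helper10.C3OKSG

set_option autoImplicit false
set_option linter.unusedVariables false
set_option linter.unusedSectionVars false

namespace Cfsg.Agent.Lib.Helper10.C3O

open Module Cfsg.Agent.Lib.Helper22.C3L
open scoped commutatorElement

variable {F K V : Type*} [Field F] [Field K] [Algebra F K] [AddCommGroup V] [Module F V] [Module K V]
  [IsScalarTower F K V]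

/-- the reflection in `a` with `B a a = -2`, as a function -/
noncomputable def c3oktor_w (B : V →ₗ[K] V →ₗ[K] K) (a x : V) : V := x + B x a • a

noncomputable def c3oktor_wLin (B : V →ₗ[K] V →ₗ[K] K) (a : V) : V →ₗ[K] V :=
  LinearMap.id + (B.flip a).smulRight a

theorem c3oktor_wLin_apply (B : V →ₗ[K] V →ₗ[K] K) (a x : V) : c3oktor_wLin B a x = c3oktor_w B a x := by
  simp [c3oktor_wLin, c3oktor_w]

theorem c3oktor_w_w (B : V →ₗ[K] V →ₗ[K] K) {a : V} (ha : B a a = -2) (x : V) :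
    c3oktor_w B a (c3oktor_w B a x) = x := by
  simp only [c3oktor_w, map_add, map_smul, LinearMap.add_apply, LinearMap.smul_apply, smul_eq_mul, ha]
  match_scalars <;> ring

theorem c3oktor_w_iso (B : V →ₗ[K] V →ₗ[K] K) (hBs : ∀ x y, B x y = B y x) {a : V} (ha : B a a = -2)
    (x x' : V) : B (c3oktor_w B a x) (c3oktor_w B a x') = B x x' := by
  have e1 : B a x' = B x' a := hBs _ _
  simp only [c3oktor_w, map_add, map_smul, LinearMap.add_apply, LinearMap.smul_apply, smul_eq_mul, ha, e1]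
  ring

theorem c3oktor_w_ob (B : V →ₗ[K] V →ₗ[K] K) (hBs : ∀ x y, B x y = B y x) {a : V} (ha : B a a = -2) :
    ∃ w ∈ OB F B, (∀ x : V, w x = c3oktor_w B a x) ∧ ∀ x : V, w.symm x = c3oktor_w B a x := by
  let e : V ≃ₗ[K] V := LinearEquiv.ofLinear (c3oktor_wLin B a) (c3oktor_wLin B a)
    (by ext x; simp only [LinearMap.comp_apply, c3oktor_wLin_apply, LinearMap.id_apply]; exact c3oktor_w_w B ha x)
    (by ext x; simp only [LinearMap.comp_apply, c3oktor_wLin_apply, LinearMap.id_apply]; exact c3oktor_w_w B ha x)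
  have he : ∀ x, e x = c3oktor_w B a x := fun x => c3oktor_wLin_apply B a x
  have he' : ∀ x, e.symm x = c3oktor_w B a x := fun x => c3oktor_wLin_apply B a x
  refine ⟨e.restrictScalars F, ⟨fun c x => ?_, fun x x' => ?_⟩, fun x => he x, fun x => he' x⟩
  · show e (c • x) = c • e x
    exact map_smul e c x
  · show B (e x) (e x') = B x x'
    rw [he, he, c3oktor_w_iso B hBs ha]

/-- conjugating a torus map -/
theorem c3oktor_tor_conj (B : V →ₗ[K] V →ₗ[K] K) {t : V ≃ₗ[F] V} (ht : t ∈ OB F B) (u u' : V) (c : K) (x : V) :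
    t (c3oksg_tor B u u' c (t.symm x)) = c3oksg_tor B (t u) (t u') c x := by
  have h1 : ∀ z w, B (t.symm z) w = B z (t w) := by
    intro z w
    rw [← ht.2 (t.symm z) w, LinearEquiv.apply_symm_apply]
  simp only [c3oksg_tor, map_add, ht.1, LinearEquiv.apply_symm_apply, h1]

theorem c3oktor_tor_swap (B : V →ₗ[K] V →ₗ[K] K) (u u' : V) {c : K} (hc : c ≠ 0) (x : V) :
    c3oksg_tor B u' u c⁻¹ x = c3oksg_tor B u u' c x := by
  simp only [c3oksg_tor, inv_inv]
  abel

/-- KTOR [M-L] the torus: for `s ≠ 0` some `t ∈ OmB` is multiplication by `s²` on `K u` and the identity on `u^⊥ / K u`. -/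
theorem ktor_ex (h2 : (2 : F) ≠ 0) (B : V →ₗ[K] V →ₗ[K] K) (hBs : ∀ x y, B x y = B y x)
    (hBn : ∀ x, x ≠ 0 → ∃ y, B x y ≠ 0) {u : V} (hu : u ≠ 0) (hu0 : B u u = 0) {s : K} (hs : s ≠ 0) :
    ∃ t ∈ OmB F B, (∀ a : K, t (a • u) = (s * s * a) • u) ∧ ∀ x : V, B x u = 0 → ∃ a : K, t x = x + a • u := by
  have h2K : (2 : K) ≠ 0 := c3oksg_two h2
  obtain ⟨u', hu'0, huu'⟩ := c3oksg_hyp h2K B hBs hBn hu hu0
  have e1 : B u' u = 1 := by rw [hBs]; exact huu'
  have ha : B (u - u') (u - u') = -2 := by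
    simp only [map_sub, LinearMap.sub_apply, hu0, hu'0, huu', e1]
    ring
  obtain ⟨w, hw, hwx, hwx'⟩ := c3oktor_w_ob (F := F) B hBs ha
  obtain ⟨t, ht, htx⟩ := c3oksg_tor_ob (F := F) B hBs hu0 hu'0 huu' hs
  have hs' : s⁻¹ ≠ 0 := inv_ne_zero hs
  have htinv : ∀ x, t.symm x = c3oksg_tor B u u' s⁻¹ x := by
    intro x
    apply t.injective
    rw [LinearEquiv.apply_symm_apply, htx, c3oksg_tor_comp B hBs hu0 hu'0 huu' hs hs', mul_inv_cancel₀ hs,
      c3oksg_tor_one]
  have hwu : w u = u' := by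
    rw [hwx, c3oktor_w, map_sub, hu0, huu']
    module
  have hwu' : w u' = u := by
    rw [hwx, c3oktor_w, map_sub, hu'0, e1]
    module
  have key : ∀ x, (⁅t, w⁆ : V ≃ₗ[F] V) x = c3oksg_tor B u u' (s * s) x := by
    intro x
    rw [commutatorElement_def]
    show t (w (t.symm (w.symm x))) = _
    rw [htinv, c3oktor_tor_conj B hw, hwu, hwu', c3oktor_tor_swap B u u' hs, htx,
      c3oksg_tor_comp B hBs hu0 hu'0 huu' hs hs]
  refine ⟨⁅t, w⁆, Subgroup.commutator_mem_commutator ht hw, fun a => ?_, fun x hx => ?_⟩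
  · rw [key, c3oksg_tor]
    simp only [map_smul, LinearMap.smul_apply, hu0, huu', smul_eq_mul, mul_zero, zero_smul, add_zero, mul_one]
    module
  · refine ⟨(s * s - 1) * B x u', ?_⟩
    rw [key, c3oksg_tor, hx, mul_zero, zero_smul, add_zero]
end Cfsg.Agent.Lib.Helper10.C3O
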