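import Mathlib
import Cfsg.Agent.Lib.Helper22.C3L.Defs
import Cfsg.Agent.Lib.Helper10.C3O.Defs
import Cfsg.Agent.Lib.Helper10.C3OSTEPCcore
import Cfsg.Agent.Lib.Lead.C3OLOK

set_option autoImplicit false
set_option linter.unusedVariables false
set_option linter.unusedSectionVars false

namespace Cfsg.Agent.Lib.Helper10.C3O

open Module Cfsg.Agent.Lib.Helper22.C3L

variable {F K V : Type*} [Field F] [Field K] [Algebra F K] [AddCommGroup V] [Module F V] [Module K V]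
  [IsScalarTower F K V]

/-- STEPC (verbatim row of the C3O skeleton). -/
theorem stepC_o [Finite K] [FiniteDimensional K V] (h2 : (2 : F) ≠ 0) (hr : (finrank F K).Prime)
    (B : V →ₗ[K] V →ₗ[K] K) (hBs : ∀ x y, B x y = B y x) (hBn : ∀ x, x ≠ 0 → ∃ y, B x y ≠ 0)
    (H : Subgroup (V ≃ₗ[F] V)) (hH : H ≤ Of F B) (hC : OmB F B ≤ H) {g : V ≃ₗ[F] V} (hg : g ∈ H) {v : V}
    (hv : v ≠ 0) (hv0 : B v v = 0) (hgv : ∀ a : K, ∃ b : K, g (a • v) = b • v)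
    (hgn : ∃ a : K, ∀ b : K, ∃ c : K, g (a • c • v) ≠ b • g (c • v)) :
    ∀ (γ : K →ₗ[F] K) (θ : V →ₗ[F] K), θ ∈ LO B H v → γ ∘ₗ θ ∈ LO B H v :=
  c3ostepc_core hr B hBs H hH hg hv hgv hgn
    (fun k θ hθ => lo_smul h2 B hBs hBn H hC hv hv0 k hθ)

end Cfsg.Agent.Lib.Helper10.C3O
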