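import Mathlib
import Cfsg.Agent.Lib.Helper22.C3L.Defs
import Cfsg.Agent.Lib.Helper10.C3O.Defs
import Cfsg.Agent.Lib.Helper10.C3OKSG

set_option autoImplicit false
set_option linter.unusedVariables false
set_option linter.unusedSectionVars false

namespace Cfsg.Agent.Lib.Helper10.C3O

open Module Cfsg.Agent.Lib.Helper22.C3L

variable {F K V : Type*} [Field F] [Field K] [Algebra F K] [AddCommGroup V] [Module F V] [Module K V]
  [IsScalarTower F K V]

/-- one Siegel map moves a singular `u` to a multiple of a singular `u'` when some singular `w` is orthogonal to neither -/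
theorem c3otranso_move (h2 : (2 : F) ≠ 0) (B : V →ₗ[K] V →ₗ[K] K) (hBs : ∀ x y, B x y = B y x)
    (hBn : ∀ x, x ≠ 0 → ∃ y, B x y ≠ 0) {u u' w : V} (hu0 : B u u = 0) (hu'0 : B u' u' = 0) (hw0 : B w w = 0)
    (hwu : B w u ≠ 0) (hwu' : B w u' ≠ 0) : ∃ g ∈ OmB F B, ∃ a : K, a ≠ 0 ∧ g u = a • u' := by
  have h2K : (2 : K) ≠ 0 := c3oksg_two h2
  obtain ⟨c, hc⟩ : ∃ c : K, c = B w u := ⟨_, rfl⟩
  obtain ⟨a, ha⟩ : ∃ a : K, a = c / B w u' := ⟨_, rfl⟩
  have hc0 : c ≠ 0 := by rw [hc]; exact hwu
  have ha0 : a ≠ 0 := by rw [ha]; exact div_ne_zero hc0 hwu'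
  obtain ⟨y, hy⟩ : ∃ y : V, y = c⁻¹ • (a • u' - u) := ⟨_, rfl⟩
  have hwy : B w y = 0 := by
    rw [hy, map_smul, map_sub, map_smul, smul_eq_mul, smul_eq_mul, ha, ← hc]
    field_simp
    ring
  obtain ⟨g, hg, hgx⟩ := ksg_mem (F := F) h2 B hBs hBn hw0 hwy
  refine ⟨g, hg, a, ha0, ?_⟩
  have e1 : B u w = c := by rw [hBs, hc]
  have e2 : B u' u = B u u' := hBs _ _
  rw [hgx, ksg, hy]
  simp only [map_smul, map_sub, LinearMap.smul_apply, LinearMap.sub_apply, smul_eq_mul, hu0, hu'0, e1, e2, mul_zero,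
    sub_zero, zero_sub]
  match_scalars <;> field_simp <;> ring

/-- TRANSO [M-L] `OmB` is transitive on the singular `K`-lines. -/
theorem o_trans [Finite K] [FiniteDimensional K V] (h2 : (2 : F) ≠ 0) (B : V →ₗ[K] V →ₗ[K] K)
    (hBs : ∀ x y, B x y = B y x) (hBn : ∀ x, x ≠ 0 → ∃ y, B x y ≠ 0) (hd : 4 ≤ finrank K V) {u u' : V}
    (hu : u ≠ 0) (hu0 : B u u = 0) (hu' : u' ≠ 0) (hu'0 : B u' u' = 0) :
    ∃ g ∈ OmB F B, ∃ a : K, a ≠ 0 ∧ g u = a • u' := by
  have h2K : (2 : K) ≠ 0 := c3oksg_two h2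
  obtain ⟨u₁, hu₁0, huu₁⟩ := c3oksg_hyp h2K B hBs hBn hu hu0
  have hu₁u : B u₁ u = 1 := by rw [hBs]; exact huu₁
  -- it suffices to find a singular `w` orthogonal to neither
  suffices hw : ∃ w : V, B w w = 0 ∧ B w u ≠ 0 ∧ B w u' ≠ 0 by
    obtain ⟨w, hw0, hwu, hwu'⟩ := hw
    exact c3otranso_move h2 B hBs hBn hu0 hu'0 hw0 hwu hwu'
  -- the projection to `P₁ = ⟨u, u₁⟩^⊥`
  obtain ⟨P, hP⟩ : ∃ P : V → V, ∀ x, P x = x - B x u₁ • u - B x u • u₁ := ⟨_, fun _ => rfl⟩
  have hPu : ∀ x, B (P x) u = 0 := by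
    intro x
    rw [hP, map_sub, map_sub, map_smul, map_smul, LinearMap.sub_apply, LinearMap.sub_apply, LinearMap.smul_apply,
      LinearMap.smul_apply, hu0, hu₁u, smul_eq_mul, smul_eq_mul, mul_zero, mul_one, sub_zero, sub_self]
  have hPu₁ : ∀ x, B (P x) u₁ = 0 := by
    intro x
    rw [hP, map_sub, map_sub, map_smul, map_smul, LinearMap.sub_apply, LinearMap.sub_apply, LinearMap.smul_apply,
      LinearMap.smul_apply, hu₁0, huu₁, smul_eq_mul, smul_eq_mul, mul_zero, mul_one, sub_zero, sub_self]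
  have hPB : ∀ z x, B z u = 0 → B z u₁ = 0 → B z (P x) = B z x := by
    intro z x h1 h3
    rw [hP, map_sub, map_sub, map_smul, map_smul, h1, h3, smul_zero, smul_zero, sub_zero, sub_zero]
  -- the singular vectors `w_z`
  have hwz : ∀ z, B z u = 0 → B z u₁ = 0 →
      B (u₁ + z - (B z z / 2) • u) (u₁ + z - (B z z / 2) • u) = 0 ∧ B (u₁ + z - (B z z / 2) • u) u = 1 := by
    intro z h1 h3
    have h1' : B u z = 0 := by rw [hBs]; exact h1
    have h3' : B u₁ z = 0 := by rw [hBs]; exact h3
    constructor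
    · simp only [map_add, map_sub, map_smul, LinearMap.add_apply, LinearMap.sub_apply, LinearMap.smul_apply,
        smul_eq_mul, hu0, hu₁0, huu₁, hu₁u, h1, h3, h1', h3', mul_zero, mul_one, add_zero, zero_add, sub_zero]
      field_simp
      ring
    · simp only [map_add, map_sub, map_smul, LinearMap.add_apply, LinearMap.sub_apply, LinearMap.smul_apply,
        smul_eq_mul, hu0, hu₁u, h1, mul_zero, add_zero, sub_zero]
  -- `P₁` is non-degenerate
  have hnd : ∀ z', z' ≠ 0 → B z' u = 0 → B z' u₁ = 0 → ∃ z, B z u = 0 ∧ B z u₁ = 0 ∧ B z z' ≠ 0 := by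
    intro z' hz' h1 h3
    obtain ⟨x, hx⟩ := hBn z' hz'
    refine ⟨P x, hPu x, hPu₁ x, ?_⟩
    rw [hBs, hPB z' x h1 h3]
    exact hx
  -- decompose `u'`
  obtain ⟨z', hz'⟩ : ∃ z' : V, z' = P u' := ⟨_, rfl⟩
  have hz'u : B z' u = 0 := by rw [hz']; exact hPu u'
  have hz'u₁ : B z' u₁ = 0 := by rw [hz']; exact hPu₁ u'
  have hdec : u' = B u' u₁ • u + B u' u • u₁ + z' := by rw [hz', hP]; abel
  have hval : ∀ z, B z u = 0 → B z u₁ = 0 →
      B (u₁ + z - (B z z / 2) • u) u' = B u' u₁ + B z z' - (B z z / 2) * B u' u := by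
    intro z h1 h3
    have e1 : B z u' = B z z' := by rw [hz', hPB z u' h1 h3]
    have e2 : B u₁ u' = B u' u₁ := hBs _ _
    have e3 : B u u' = B u' u := hBs _ _
    simp only [map_add, map_sub, map_smul, LinearMap.add_apply, LinearMap.sub_apply, LinearMap.smul_apply,
      smul_eq_mul, e1, e2, e3]
  by_cases ha : B u' u₁ = 0
  · by_cases hz'0 : z' = 0
    · -- `u' = b u₁`
      have hb : B u' u ≠ 0 := by
        intro hb
        apply hu'
        rw [hdec, ha, hb, hz'0, zero_smul, zero_smul, add_zero, add_zero]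
      -- a non-singular vector of `P₁`
      obtain ⟨z, hzu, hzu₁, hzz⟩ : ∃ z, B z u = 0 ∧ B z u₁ = 0 ∧ B z z ≠ 0 := by
        -- a non-zero vector of `P₁`
        obtain ⟨p, hp, hpu, hpu₁⟩ : ∃ p, p ≠ 0 ∧ B p u = 0 ∧ B p u₁ = 0 := by
          by_contra hcon
          push Not at hcon
          classical
          have hall : ∀ x : V, x ∈ Submodule.span K (({u, u₁} : Finset V) : Set V) := by
            intro x
            have : P x = 0 := by
              by_contra hne
              exact hcon (P x) hne (hPu x) (hPu₁ x)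
            rw [hP] at this
            have hx : x = B x u₁ • u + B x u • u₁ := by
              rw [sub_sub, sub_eq_zero] at this
              exact this
            rw [hx]
            exact Submodule.add_mem _ (Submodule.smul_mem _ _ (Submodule.subset_span (by simp)))
              (Submodule.smul_mem _ _ (Submodule.subset_span (by simp)))
          have htop : Submodule.span K (({u, u₁} : Finset V) : Set V) = ⊤ := by
            rw [eq_top_iff]
            intro x _
            exact hall x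
          have hle : finrank K V ≤ 2 := by
            rw [← finrank_top K V, ← htop]
            exact (finrank_span_finset_le_card _).trans Finset.card_le_two
          omega
        by_cases hpp : B p p = 0
        · obtain ⟨z, hzu, hzu₁, hzp⟩ := hnd p hp hpu hpu₁
          by_cases hzz : B z z = 0
          · refine ⟨p + z, ?_, ?_, ?_⟩
            · rw [map_add, LinearMap.add_apply, hpu, hzu, add_zero]
            · rw [map_add, LinearMap.add_apply, hpu₁, hzu₁, add_zero]
            · have e : B p z = B z p := hBs _ _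
              simp only [map_add, LinearMap.add_apply, hpp, hzz, e, zero_add, add_zero]
              intro h
              apply hzp
              have : (2 : K) * B z p = 0 := by linear_combination h
              rcases mul_eq_zero.mp this with h | h
              · exact absurd h h2K
              · exact h
          · exact ⟨z, hzu, hzu₁, hzz⟩
        · exact ⟨p, hpu, hpu₁, hpp⟩
      obtain ⟨h1, h3⟩ := hwz z hzu hzu₁
      refine ⟨_, h1, ?_, ?_⟩
      · rw [h3]; exact one_ne_zero
      · rw [hval z hzu hzu₁, ha, hz'0, map_zero, zero_add, zero_sub]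
        exact neg_ne_zero.mpr (mul_ne_zero (div_ne_zero hzz h2K) hb)
    · obtain ⟨z, hzu, hzu₁, hzz'⟩ := hnd z' hz'0 hz'u hz'u₁
      by_cases hf : B z z' - (B z z / 2) * B u' u = 0
      · -- use `2 z`
        have hzu2 : B ((2 : K) • z) u = 0 := by rw [map_smul, LinearMap.smul_apply, hzu, smul_zero]
        have hzu₁2 : B ((2 : K) • z) u₁ = 0 := by rw [map_smul, LinearMap.smul_apply, hzu₁, smul_zero]
        obtain ⟨h1, h3⟩ := hwz _ hzu2 hzu₁2
        refine ⟨_, h1, ?_, ?_⟩
        · rw [h3]; exact one_ne_zero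
        · rw [hval _ hzu2 hzu₁2, ha]
          simp only [map_smul, LinearMap.smul_apply, smul_eq_mul]
          intro h
          apply hzz'
          have h5 : (2 : K) * B z z' = 0 := by
            field_simp at h hf
            linear_combination (-1 : K) * h + 2 * hf
          rcases mul_eq_zero.mp h5 with h | h
          · exact absurd h h2K
          · exact h
      · obtain ⟨h1, h3⟩ := hwz z hzu hzu₁
        refine ⟨_, h1, ?_, ?_⟩
        · rw [h3]; exact one_ne_zero
        · rw [hval z hzu hzu₁, ha, zero_add]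
          exact hf
  · refine ⟨u₁, hu₁0, ?_, ?_⟩
    · rw [hu₁u]; exact one_ne_zero
    · rw [hBs]; exact ha

end Cfsg.Agent.Lib.Helper10.C3O
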