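import Mathlib
import Cfsg.Agent.Lib.Helper10.C3Q.Defs

set_option autoImplicit false
set_option linter.unusedVariables false
set_option linter.unusedSectionVars false

/-! # Project C3Q, helper of row CENTORD: the standard isometry group over `K` embeds in `C_G(A)` -/

namespace Cfsg.Agent.Lib.Helper10.C3Q

open Matrix Module

universe u

variable {F : Type u} [Field F] {ι : Type} [Fintype ι] [DecidableEq ι]

/-- restriction of scalars as a ring homomorphism of endomorphism rings -/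
def c3qcentemb_res (F : Type*) (K : Type*) (V : Type*) [Field F] [Field K] [Algebra F K] [AddCommGroup V]
    [Module F V] [Module K V] [IsScalarTower F K V] : Module.End K V →+* Module.End F V where
  toFun T := T.restrictScalars F
  map_one' := rfl
  map_mul' _ _ := rfl
  map_zero' := rfl
  map_add' _ _ := rfl

/-- the ring homomorphism `M ↦ matrix of Φ ∘ M ∘ Φ⁻¹` -/
noncomputable def c3qcentemb_R {K : Type*} [Field K] [Algebra F K] [Module K (ι → F)]
    [IsScalarTower F K (ι → F)] {κ : Type} [Fintype κ] [DecidableEq κ]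
    (Φ : (κ → K) ≃ₗ[K] (ι → F)) : Matrix κ κ K →+* Matrix ι ι F :=
  ((Matrix.toLinAlgEquiv' (R := F) (n := ι)).symm.toRingEquiv.toRingHom).comp
    ((c3qcentemb_res F K (ι → F)).comp
      ((Φ.conjRingEquiv.toRingHom).comp (Matrix.toLinAlgEquiv' (R := K) (n := κ)).toRingEquiv.toRingHom))

theorem c3qcentemb_R_mulVec {K : Type*} [Field K] [Algebra F K] [Module K (ι → F)]
    [IsScalarTower F K (ι → F)] {κ : Type} [Fintype κ] [DecidableEq κ]
    (Φ : (κ → K) ≃ₗ[K] (ι → F)) (M : Matrix κ κ K) (v : ι → F) :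
    (c3qcentemb_R Φ M) *ᵥ v = Φ (M *ᵥ Φ.symm v) := by
  have h1 : (c3qcentemb_R Φ M) *ᵥ v = Matrix.toLin' (c3qcentemb_R Φ M) v := (Matrix.toLin'_apply _ _).symm
  rw [h1]
  unfold c3qcentemb_R
  simp only [RingHom.coe_comp, Function.comp_apply, RingEquiv.toRingHom_eq_coe, RingEquiv.coe_toRingHom,
    AlgEquiv.toRingEquiv_eq_coe, AlgEquiv.coe_ringEquiv]
  have h2 : Matrix.toLin' ((Matrix.toLinAlgEquiv' (R := F) (n := ι)).symm
      ((c3qcentemb_res F K (ι → F)) (Φ.conjRingEquiv ((Matrix.toLinAlgEquiv' (R := K) (n := κ)) M))))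
      = (c3qcentemb_res F K (ι → F)) (Φ.conjRingEquiv ((Matrix.toLinAlgEquiv' (R := K) (n := κ)) M)) := by
    exact (Matrix.toLinAlgEquiv' (R := F) (n := ι)).apply_symm_apply _
  rw [h2]
  show (Φ.conjRingEquiv ((Matrix.toLinAlgEquiv' (R := K) (n := κ)) M)) v = _
  simp [LinearEquiv.conjRingEquiv, LinearEquiv.arrowCongrAddEquiv, Matrix.toLinAlgEquiv'_apply]

theorem c3qcentemb_R_inj {K : Type*} [Field K] [Algebra F K] [Module K (ι → F)]
    [IsScalarTower F K (ι → F)] {κ : Type} [Fintype κ] [DecidableEq κ]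
    (Φ : (κ → K) ≃ₗ[K] (ι → F)) : Function.Injective (c3qcentemb_R Φ) := by
  intro M N h
  apply Matrix.toLin'.injective
  apply LinearMap.ext
  intro w
  have h1 := c3qcentemb_R_mulVec Φ M (Φ w)
  have h2 := c3qcentemb_R_mulVec Φ N (Φ w)
  rw [h, h2, Φ.symm_apply_apply] at h1
  rw [Matrix.toLin'_apply, Matrix.toLin'_apply]
  exact (Φ.injective h1).symm

/-- CENTEMB: the isometry group of the standard form over `K` embeds in `C_G(A)`. -/
theorem c3qcentemb (h2 : (2 : F) ≠ 0) (Q : QuadraticForm F (ι → F)) (δ : F) (A : Matrix ι ι F)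
    {K : Type*} [Field K] [Algebra F K] [Module K (ι → F)] [IsScalarTower F K (ι → F)] (θ : K)
    (β : LinearMap.BilinForm K (ι → F)) (hθv : ∀ v : ι → F, θ • v = A *ᵥ v)
    (hind : ∀ a b : F, algebraMap F K a + algebraMap F K b * θ = 0 → a = 0 ∧ b = 0)
    (hβ : ∀ u v : ι → F, β u v = algebraMap F K (QuadraticMap.polar (⇑Q) u v / 2) +
      algebraMap F K (QuadraticMap.polar (⇑Q) (A *ᵥ u) v / (2 * δ)) * θ)
    {κ : Type} [Fintype κ] [DecidableEq κ] (Qstd : (κ → K) → K) (Φ : (κ → K) ≃ₗ[K] (ι → F))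
    (hΦ : ∀ v : κ → K, β (Φ v) (Φ v) = 2 * Qstd v) :
    Nat.card ↥(Cfsg.isometryGroup K Qstd) ∣ Nat.card ↥(CentA (⇑Q) A) := by
  classical
  let f : ↥(Cfsg.isometryGroup K Qstd) →* GL ι F :=
    (Units.map (c3qcentemb_R Φ : Matrix κ κ K →* Matrix ι ι F)).comp (Cfsg.isometryGroup K Qstd).subtype
  have hfv : ∀ (g : ↥(Cfsg.isometryGroup K Qstd)) (v : ι → F),
      ((f g : GL ι F) : Matrix ι ι F) *ᵥ v = Φ (((g : GL κ K) : Matrix κ κ K) *ᵥ Φ.symm v) := by
    intro g v
    exact c3qcentemb_R_mulVec Φ _ v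
  have hQpol : ∀ w : ι → F, Q w = QuadraticMap.polar (⇑Q) w w / 2 := by
    intro w
    have h1 : QuadraticMap.polar (⇑Q) w w = 2 * Q w := by
      unfold QuadraticMap.polar
      have h3 : w + w = (2 : F) • w := by rw [two_smul]
      rw [h3, QuadraticMap.map_smul]
      simp only [smul_eq_mul]
      ring
    rw [h1]
    field_simp
  have hmem : ∀ g : ↥(Cfsg.isometryGroup K Qstd), f g ∈ CentA (⇑Q) A := by
    intro g
    have hg : ∀ u : κ → K, Qstd (((g : GL κ K) : Matrix κ κ K) *ᵥ u) = Qstd u := fun u => g.2 u u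
    constructor
    · intro v _
      show Q (((f g : GL ι F) : Matrix ι ι F) *ᵥ v) = Q v
      have h1 : β (((f g : GL ι F) : Matrix ι ι F) *ᵥ v) (((f g : GL ι F) : Matrix ι ι F) *ᵥ v) = β v v := by
        rw [hfv, hΦ, hg, ← hΦ, Φ.apply_symm_apply]
      rw [hβ, hβ] at h1
      have h3 := hind (QuadraticMap.polar (⇑Q) (((f g : GL ι F) : Matrix ι ι F) *ᵥ v)
          (((f g : GL ι F) : Matrix ι ι F) *ᵥ v) / 2 - QuadraticMap.polar (⇑Q) v v / 2)
        (QuadraticMap.polar (⇑Q) (A *ᵥ (((f g : GL ι F) : Matrix ι ι F) *ᵥ v))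
          (((f g : GL ι F) : Matrix ι ι F) *ᵥ v) / (2 * δ) - QuadraticMap.polar (⇑Q) (A *ᵥ v) v / (2 * δ))
        (by rw [map_sub, map_sub]; linear_combination h1)
      rw [hQpol, hQpol v]
      exact sub_eq_zero.mp h3.1
    · -- commutes with `A`
      apply Matrix.toLin'.injective
      apply LinearMap.ext
      intro v
      rw [Matrix.toLin'_mul, Matrix.toLin'_mul]
      show Matrix.toLin' ((f g : GL ι F) : Matrix ι ι F) (Matrix.toLin' A v)
        = Matrix.toLin' A (Matrix.toLin' ((f g : GL ι F) : Matrix ι ι F) v)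
      rw [Matrix.toLin'_apply, Matrix.toLin'_apply, Matrix.toLin'_apply, Matrix.toLin'_apply, hfv, hfv,
        ← hθv, ← hθv, map_smul, Matrix.mulVec_smul, map_smul]
  let f' : ↥(Cfsg.isometryGroup K Qstd) →* ↥(CentA (⇑Q) A) := f.codRestrict (CentA (⇑Q) A) hmem
  apply Subgroup.card_dvd_of_injective f'
  intro g g' hgg
  have h1 : f g = f g' := congrArg Subtype.val hgg
  have h2' : ((f g : GL ι F) : Matrix ι ι F) = ((f g' : GL ι F) : Matrix ι ι F) := by rw [h1]
  apply Subtype.ext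
  apply Units.ext
  exact c3qcentemb_R_inj Φ h2'

end Cfsg.Agent.Lib.Helper10.C3Q
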