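import Mathlib
import Cfsg.Agent.Lib.Helper10.C3Q.Defs

set_option autoImplicit false
set_option linter.unusedVariables false
set_option linter.unusedSectionVars false
set_option linter.style.haveILetI false

/-! # Project C3Q, row KSTR: the `K`-structure attached to a generator `A` (`A² = δ`, self-adjoint) -/

namespace Cfsg.Agent.Lib.Helper10.C3Q

open Matrix Module

universe u

variable {F : Type u} [Field F] {ι : Type} [Fintype ι] [DecidableEq ι]

/-- KSTR (verbatim row). -/
theorem k_str [Fintype F] (h2 : (2 : F) ≠ 0) (Q : QuadraticForm F (ι → F)) (δ : F) (A : Matrix ι ι F)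
    (hA : Gen (⇑Q) δ A) :
    ∃ (K : Type u) (_ : Field K) (_ : Fintype K) (_ : Algebra F K) (_ : Module K (ι → F))
      (_ : IsScalarTower F K (ι → F)) (θ : K) (β : LinearMap.BilinForm K (ι → F)),
      Fintype.card K = Fintype.card F ^ 2 ∧ Module.finrank F K = 2 ∧ θ * θ = algebraMap F K δ ∧
      (∀ v : ι → F, θ • v = A *ᵥ v) ∧
      (∀ k : K, ∃ a b : F, k = algebraMap F K a + algebraMap F K b * θ) ∧
      (∀ a b : F, algebraMap F K a + algebraMap F K b * θ = 0 → a = 0 ∧ b = 0) ∧
      (∀ u v : ι → F, β u v = algebraMap F K (QuadraticMap.polar (⇑Q) u v / 2) +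
        algebraMap F K (QuadraticMap.polar (⇑Q) (A *ᵥ u) v / (2 * δ)) * θ) ∧
      (∀ u v : ι → F, β u v = β v u) := by
  classical
  have hδ0 : δ ≠ 0 := fun h => hA.ns ⟨0, by rw [h, mul_zero]⟩
  haveI hF : Fact (∀ r : F, r ^ 2 ≠ δ + 0 * r) :=
    ⟨fun r h => hA.ns ⟨r, by rw [← sq, h]; ring⟩⟩
  letI ftK : Fintype (QuadraticAlgebra F δ 0) :=
    Fintype.ofEquiv _ (QuadraticAlgebra.equivProd δ 0).symm
  have hAA : ∀ u : ι → F, A *ᵥ (A *ᵥ u) = δ • u := by
    intro u
    rw [Matrix.mulVec_mulVec, hA.sq, Matrix.smul_mulVec, Matrix.one_mulVec]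
  have hsq : (Matrix.toLin' A) * (Matrix.toLin' A)
      = δ • (1 : Module.End F (ι → F)) + (0 : F) • Matrix.toLin' A := by
    rw [zero_smul, add_zero]
    apply LinearMap.ext
    intro v
    show Matrix.toLin' A (Matrix.toLin' A v) = δ • v
    rw [Matrix.toLin'_apply, Matrix.toLin'_apply, hAA]
  let φ : QuadraticAlgebra F δ 0 →ₐ[F] Module.End F (ι → F) :=
    QuadraticAlgebra.lift ⟨Matrix.toLin' A, hsq⟩
  letI mK : Module (QuadraticAlgebra F δ 0) (ι → F) :=
    Module.compHom (ι → F) (φ : QuadraticAlgebra F δ 0 →+* Module.End F (ι → F))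
  have hsm : ∀ (k : QuadraticAlgebra F δ 0) (v : ι → F), k • v = k.re • v + k.im • (A *ᵥ v) := by
    intro k v
    show φ k v = _
    simp only [φ, QuadraticAlgebra.lift_apply_apply, LinearMap.add_apply, LinearMap.smul_apply,
      Module.End.one_apply, Matrix.toLin'_apply]
  haveI tK : IsScalarTower F (QuadraticAlgebra F δ 0) (ι → F) := ⟨fun c k v => by
    rw [hsm, hsm]
    have h1 : (c • k).re = c * k.re := rfl
    have h2 : (c • k).im = c * k.im := rfl
    rw [h1, h2, smul_add, smul_smul, smul_smul]⟩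
  -- polar facts
  have pal : ∀ x x' y : ι → F, QuadraticMap.polar (⇑Q) (x + x') y
      = QuadraticMap.polar (⇑Q) x y + QuadraticMap.polar (⇑Q) x' y :=
    fun x x' y => QuadraticMap.polar_add_left Q x x' y
  have par : ∀ x y y' : ι → F, QuadraticMap.polar (⇑Q) x (y + y')
      = QuadraticMap.polar (⇑Q) x y + QuadraticMap.polar (⇑Q) x y' :=
    fun x y y' => QuadraticMap.polar_add_right Q x y y'
  have psl : ∀ (a : F) (x y : ι → F), QuadraticMap.polar (⇑Q) (a • x) y
      = a * QuadraticMap.polar (⇑Q) x y := fun a x y => by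
    rw [QuadraticMap.polar_smul_left, smul_eq_mul]
  have psr : ∀ (a : F) (x y : ι → F), QuadraticMap.polar (⇑Q) x (a • y)
      = a * QuadraticMap.polar (⇑Q) x y := fun a x y => by
    rw [QuadraticMap.polar_smul_right, smul_eq_mul]
  have pcomm : ∀ x y : ι → F, QuadraticMap.polar (⇑Q) x y = QuadraticMap.polar (⇑Q) y x :=
    fun x y => QuadraticMap.polar_comm _ x y
  have psa : ∀ x y : ι → F, QuadraticMap.polar (⇑Q) (A *ᵥ x) y = QuadraticMap.polar (⇑Q) x (A *ᵥ y) :=
    hA.sa
  have hAadd : ∀ x y : ι → F, A *ᵥ (x + y) = A *ᵥ x + A *ᵥ y := fun x y => Matrix.mulVec_add A x y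
  have hAsm : ∀ (a : F) (x : ι → F), A *ᵥ (a • x) = a • (A *ᵥ x) := fun a x => Matrix.mulVec_smul A a x
  let f : (ι → F) → (ι → F) → QuadraticAlgebra F δ 0 := fun u v =>
    ⟨QuadraticMap.polar (⇑Q) u v / 2, QuadraticMap.polar (⇑Q) (A *ᵥ u) v / (2 * δ)⟩
  have hfre : ∀ u v, (f u v).re = QuadraticMap.polar (⇑Q) u v / 2 := fun _ _ => rfl
  have hfim : ∀ u v, (f u v).im = QuadraticMap.polar (⇑Q) (A *ᵥ u) v / (2 * δ) := fun _ _ => rfl
  let β : LinearMap.BilinForm (QuadraticAlgebra F δ 0) (ι → F) :=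
    LinearMap.mk₂ (QuadraticAlgebra F δ 0) f
      (by
        intro u u' v
        apply QuadraticAlgebra.ext
        · rw [QuadraticAlgebra.re_add, hfre, hfre, hfre, pal]; ring
        · rw [QuadraticAlgebra.im_add, hfim, hfim, hfim, hAadd, pal]; ring)
      (by
        intro k u v
        apply QuadraticAlgebra.ext
        · rw [smul_eq_mul, QuadraticAlgebra.re_mul, hfre, hfre, hfim, hsm, pal, psl, psl]
          field_simp
        · rw [smul_eq_mul, QuadraticAlgebra.im_mul, hfre, hfim, hfim, hsm, hAadd, hAsm, hAsm, hAA,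
            pal, psl, psl, psl]
          field_simp
          ring)
      (by
        intro u v v'
        apply QuadraticAlgebra.ext
        · rw [QuadraticAlgebra.re_add, hfre, hfre, hfre, par]; ring
        · rw [QuadraticAlgebra.im_add, hfim, hfim, hfim, par]; ring)
      (by
        intro k u v
        apply QuadraticAlgebra.ext
        · rw [smul_eq_mul, QuadraticAlgebra.re_mul, hfre, hfre, hfim, hsm, par, psr, psr, ← psa]
          field_simp
        · rw [smul_eq_mul, QuadraticAlgebra.im_mul, hfre, hfim, hfim, hsm, par, psr, psr, ← psa, hAA,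
            psl]
          field_simp
          ring)
  have hβ : ∀ u v, β u v = f u v := fun _ _ => rfl
  refine ⟨QuadraticAlgebra F δ 0, inferInstance, ftK, inferInstance, mK, tK,
    (QuadraticAlgebra.omega : QuadraticAlgebra F δ 0), β, ?_, ?_, ?_, ?_, ?_, ?_, ?_, ?_⟩
  · rw [Fintype.card_congr (QuadraticAlgebra.equivProd δ 0), Fintype.card_prod, sq]
  · exact QuadraticAlgebra.finrank_eq_two δ 0
  · rw [QuadraticAlgebra.omega_mul_omega_eq_mk]
    rfl
  · intro v
    rw [hsm]
    simp
  · intro k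
    refine ⟨k.re, k.im, ?_⟩
    apply QuadraticAlgebra.ext <;> simp
  · intro a b hab
    have h1 := congrArg QuadraticAlgebra.re hab
    have h2' := congrArg QuadraticAlgebra.im hab
    simp at h1 h2'
    exact ⟨h1, h2'⟩
  · intro u v
    rw [hβ]
    apply QuadraticAlgebra.ext
    · simp [hfre, hfim]
      field_simp
    · simp [hfre, hfim]
      field_simp
  · intro u v
    rw [hβ, hβ]
    apply QuadraticAlgebra.ext
    · rw [hfre, hfre, pcomm]
    · rw [hfim, hfim, psa, pcomm]

end Cfsg.Agent.Lib.Helper10.C3Q
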