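import Mathlib
import Cfsg.Agent.Lib.Helper10.C3Q.Defs
import Cfsg.Agent.Lib.Helper10.C3QKSTR
import Cfsg.Agent.Lib.Helper10.C3QCENTEMB
import Cfsg.Agent.Lib.helper17.C3QKTYPE
import Cfsg.Agent.Lib.Helper25.S5981D2
import Cfsg.Agent.Lib.Helper16.OClass1
import Cfsg.Agent.Lib.Helper16.OStd
import Cfsg.Agent.S0286
import Cfsg.Agent.S0287
import Cfsg.Agent.S0288
import Cfsg.Agent.S2616
import Cfsg.Agent.S2618

set_option autoImplicit false
set_option linter.unusedVariables false
set_option linter.unusedSectionVars false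
set_option linter.style.haveILetI false

/-! # Project C3Q, row CENTORD -/

namespace Cfsg.Agent.Lib.Helper10.C3Q

open Matrix Module Cfsg.Agent.Lib.Helper13.OTS Cfsg.Agent.Lib.Helper16

universe u

variable {F : Type u} [Field F] {ι : Type} [Fintype ι] [DecidableEq ι]

/-- the trace of `a + b θ` is `2 a` -/
theorem c3qcentord_trace {K : Type*} [Field K] [Algebra F K] (hfr : Module.finrank F K = 2) (δ : F) (θ : K)
    (hθθ : θ * θ = algebraMap F K δ)
    (hgen : ∀ k : K, ∃ a b : F, k = algebraMap F K a + algebraMap F K b * θ)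
    (hind : ∀ a b : F, algebraMap F K a + algebraMap F K b * θ = 0 → a = 0 ∧ b = 0) (a b : F) :
    Algebra.trace F K (algebraMap F K a + algebraMap F K b * θ) = 2 * a := by
  classical
  have hli : LinearIndependent F ![(1 : K), θ] := by
    rw [LinearIndependent.pair_iff]
    intro s t hst
    apply hind s t
    rw [Algebra.algebraMap_eq_smul_one, Algebra.algebraMap_eq_smul_one, smul_mul_assoc, one_mul]
    exact hst
  have hsp : ⊤ ≤ Submodule.span F (Set.range ![(1 : K), θ]) := by
    intro k _
    obtain ⟨x, y, rfl⟩ := hgen k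
    have h1 : (1 : K) ∈ Submodule.span F (Set.range ![(1 : K), θ]) :=
      Submodule.subset_span ⟨0, rfl⟩
    have h2 : θ ∈ Submodule.span F (Set.range ![(1 : K), θ]) :=
      Submodule.subset_span ⟨1, rfl⟩
    rw [Algebra.algebraMap_eq_smul_one, Algebra.algebraMap_eq_smul_one, smul_mul_assoc, one_mul]
    exact Submodule.add_mem _ (Submodule.smul_mem _ _ h1) (Submodule.smul_mem _ _ h2)
  let bs : Basis (Fin 2) F K := Basis.mk hli hsp
  have hb0 : bs 0 = 1 := by simp [bs]
  have hb1 : bs 1 = θ := by simp [bs]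
  have htθ : Algebra.trace F K θ = 0 := by
    rw [Algebra.trace_eq_matrix_trace bs, Matrix.trace, Fin.sum_univ_two]
    simp only [Matrix.diag_apply, Algebra.leftMulMatrix_eq_repr_mul]
    rw [hb0, hb1, mul_one, hθθ]
    have h1 : bs.repr θ 0 = 0 := by
      rw [← hb1, Basis.repr_self]; simp
    have h2 : bs.repr (algebraMap F K δ) 1 = 0 := by
      rw [Algebra.algebraMap_eq_smul_one, ← hb0, map_smul, Basis.repr_self]; simp
    rw [h1, h2, add_zero]
  rw [map_add, Algebra.trace_algebraMap, hfr, Algebra.algebraMap_eq_smul_one, smul_mul_assoc, one_mul,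
    map_smul, htθ, smul_zero, add_zero]
  simp

/-- CENTORD (verbatim row). -/
theorem cent_ord [Fintype F] {q : ℕ} (hq : Fintype.card F = q) (hodd : Odd q) (Qs : QuadraticForm F (ι → F))
    (d : ℕ) (τ : ℤ) (hs : QStd Qs d τ) (hd : 1 ≤ d) (δ : F) (A : Matrix ι ι F) (hA : Gen (⇑Qs) δ A) :
    (Even d → ordGO (q ^ 2) (d / 2) τ ∣ Nat.card ↥(CentA (⇑Qs) A)) ∧
      (Odd d → ordGOodd (q ^ 2) (d / 2) ∣ Nat.card ↥(CentA (⇑Qs) A)) := by
  classical
  subst hq
  have h2 : (2 : F) ≠ 0 := by
    intro h2
    haveI : CharP F 2 := CharTwo.of_one_ne_zero_of_two_eq_zero one_ne_zero h2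
    have hc : ringChar F = 2 := ringChar.eq F 2
    have := FiniteField.even_card_of_char_two hc
    rw [Nat.odd_iff] at hodd
    omega
  have hδ0 : δ ≠ 0 := fun h => hA.ns ⟨0, by rw [h, mul_zero]⟩
  obtain ⟨K, fK, ftK, aK, mK, tK, θ, β, hcard, hfr, hθθ, hθv, hgen, hind, hβ, hsymm⟩ :=
    k_str h2 Qs δ A hA
  have h2K : (2 : K) ≠ 0 := by
    intro h
    apply h2
    have : algebraMap F K 2 = 0 := by rw [map_ofNat]; exact h
    exact (map_eq_zero (algebraMap F K)).mp this
  haveI : Invertible (2 : K) := invertibleOfNonzero h2K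
  -- the quadratic form over `K`
  let QK : QuadraticForm K (ι → F) := LinearMap.BilinMap.toQuadraticMap ((2 : K)⁻¹ • β)
  have hQK : ∀ v, QK v = (2 : K)⁻¹ * β v v := fun v => by
    show ((2 : K)⁻¹ • β) v v = _
    rw [LinearMap.smul_apply, LinearMap.smul_apply, smul_eq_mul]
  have hβQK : ∀ v, β v v = 2 * QK v := fun v => by
    rw [hQK, ← mul_assoc, mul_inv_cancel₀ h2K, one_mul]
  have hpolK : ∀ u v, QuadraticMap.polar (⇑QK) u v = β u v := by
    intro u v
    unfold QuadraticMap.polar
    rw [hQK, hQK, hQK]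
    simp only [map_add, LinearMap.add_apply]
    rw [hsymm v u]
    field_simp
    ring
  have hβ0 : ∀ u v, β u v = 0 → QuadraticMap.polar (⇑Qs) u v = 0 := by
    intro u v h
    rw [hβ] at h
    have := (hind _ _ h).1
    rcases div_eq_zero_iff.mp this with h' | h'
    · exact h'
    · exact absurd h' h2
  have hQKnd : (QuadraticMap.polarBilin QK).Nondegenerate := by
    have hleft : ∀ u : ι → F, (∀ v, QuadraticMap.polar (⇑QK) u v = 0) → u = 0 := by
      intro u hu
      apply hs.nd.1 u
      intro v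
      show QuadraticMap.polar (⇑Qs) u v = 0
      exact hβ0 u v (by rw [← hpolK]; exact hu v)
    constructor
    · intro u hu
      exact hleft u (fun v => hu v)
    · intro u hu
      apply hleft u
      intro v
      rw [QuadraticMap.polar_comm]
      exact hu v
  -- the trace of `QK` is `Qs`
  have hpolself : ∀ w : ι → F, QuadraticMap.polar (⇑Qs) w w = 2 * Qs w := by
    intro w
    unfold QuadraticMap.polar
    have h3 : w + w = (2 : F) • w := by rw [two_smul]
    rw [h3, QuadraticMap.map_smul]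
    simp only [smul_eq_mul]
    ring
  have h4F : (4 : F) ≠ 0 := by
    have : (4 : F) = 2 * 2 := by norm_num
    rw [this]
    exact mul_ne_zero h2 h2
  have htr : ∀ v, Algebra.trace F K (QK v) = Qs v := by
    intro v
    have h1 : QK v = algebraMap F K (QuadraticMap.polar (⇑Qs) v v / 4) +
        algebraMap F K (QuadraticMap.polar (⇑Qs) (A *ᵥ v) v / (4 * δ)) * θ := by
      have h4 : (2 : K)⁻¹ = algebraMap F K ((2 : F)⁻¹) := by
        rw [map_inv₀, map_ofNat]
      have e1 : (2 : F)⁻¹ * (QuadraticMap.polar (⇑Qs) v v / 2) = QuadraticMap.polar (⇑Qs) v v / 4 := by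
        field_simp
        ring
      have e2 : (2 : F)⁻¹ * (QuadraticMap.polar (⇑Qs) (A *ᵥ v) v / (2 * δ))
          = QuadraticMap.polar (⇑Qs) (A *ᵥ v) v / (4 * δ) := by
        field_simp
        ring
      rw [hQK, hβ, h4, mul_add, ← mul_assoc, ← map_mul, ← map_mul, e1, e2]
    rw [h1, c3qcentord_trace hfr δ θ hθθ hgen hind, hpolself]
    field_simp
    ring
  haveI : FiniteDimensional K (ι → F) := Module.Finite.of_finite
  haveI : FiniteDimensional F K := Module.Finite.of_finite
  have hdimK : Module.finrank K (ι → F) = d := by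
    have h3 := Module.finrank_mul_finrank F K (ι → F)
    rw [hfr, Module.finrank_fintype_fun_eq_card, hs.card] at h3
    omega
  have hFcard : Fintype.card K = (Fintype.card F) ^ 2 := hcard
  constructor
  · -- `d` even
    intro hev
    obtain ⟨m, hm⟩ := hev
    have hm1 : 1 ≤ m := by omega
    have hd2 : d / 2 = m := by omega
    have hV : Module.finrank K (ι → F) = 2 * m := by rw [hdimK]; omega
    rw [hd2]
    rcases Cfsg.Agent.S2616.result hm1 hV QK hQKnd with ⟨b, h0, h1, h2'⟩ | ⟨b, ζ, hζ, h0, h1, h2', h3, h4, h5, h6⟩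
    · -- plus type
      obtain ⟨Φ, hΦ⟩ := OSemi.classify_plus QK b h0 h1 h2'
      have hty : OSemi.IsType (⇑QK) m 1 :=
        (OSemi.isType_of_equiv (⇑QK) (Cfsg.quadFormPlus m K) Φ hΦ m 1).mpr (OSemi.isType_plus m)
      have hty2 := k_type hcard QK hQKnd m hm1 hV 1 hty
      have hfun : (fun v : ι → F => Algebra.trace F K (QK v)) = ⇑Qs := funext htr
      rw [hfun] at hty2
      have hτ : τ = 1 := by
        rcases hs.eps with h | h
        · exact h
        · exfalso
          have h7 := hs.ty
          rw [h, hm, ← two_mul] at h7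
          exact OSemi.isType_unique _ _ hty2 h7
      have hemb := c3qcentemb h2 Qs δ A θ β hθv hind hβ (Cfsg.quadFormPlus m K) Φ
        (fun v => by rw [hβQK, hΦ])
      rw [Cfsg.Agent.S0287.result hFcard m hm1] at hemb
      rw [hτ]
      unfold ordGO
      rw [if_pos rfl]
      exact hemb
    · -- minus type
      obtain ⟨Φ, hΦ⟩ := OSemi.classify_minus QK b ζ h0 h1 h2' h3 h4 h5 h6
      have hab := OSemi.aniso_of_irred ζ hζ
      have hty : OSemi.IsType (⇑QK) m (-1) := by
        have h8 := OSemi.isType_minus (m - 1) (1 : K) ζ hab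
        rw [show m - 1 + 1 = m by omega] at h8
        exact (OSemi.isType_of_equiv (⇑QK) (Cfsg.quadFormMinus (m - 1) K 1 ζ) Φ hΦ m (-1)).mpr h8
      have hty2 := k_type hcard QK hQKnd m hm1 hV (-1) hty
      have hfun : (fun v : ι → F => Algebra.trace F K (QK v)) = ⇑Qs := funext htr
      rw [hfun] at hty2
      have hτ : τ = -1 := by
        rcases hs.eps with h | h
        · exfalso
          have h7 := hs.ty
          rw [h, hm, ← two_mul] at h7
          exact OSemi.isType_unique _ _ h7 hty2
        · exact h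
      have hemb := c3qcentemb h2 Qs δ A θ β hθv hind hβ (Cfsg.quadFormMinus (m - 1) K 1 ζ) Φ
        (fun v => by rw [hβQK, hΦ])
      rw [Cfsg.Agent.S0288.result hFcard m hm1 1 ζ hab] at hemb
      rw [hτ]
      unfold ordGO
      rw [if_neg (by norm_num)]
      exact hemb
  · -- `d` odd
    intro hod
    obtain ⟨m, hm⟩ := hod
    have hd2 : d / 2 = m := by omega
    have hV : Module.finrank K (ι → F) = 2 * m + 1 := by rw [hdimK]; omega
    rw [hd2]
    obtain ⟨b, hc, hb1, hb2, hb3, hb4⟩ := Cfsg.Agent.S2618.result hV QK hQKnd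
    obtain ⟨Φ, hΦ⟩ := Cfsg.Agent.Lib.Helper29.S5981.s5981d2_classify QK b hc hb1 hb2 hb3 hb4
    have hemb := c3qcentemb h2 Qs δ A θ β hθv hind hβ
      (fun v => QK (b (Sum.inl ())) * Cfsg.quadFormOdd m K v) Φ (fun v => by rw [hβQK, hΦ])
    have hgrp : Cfsg.isometryGroup K (fun v => QK (b (Sum.inl ())) * Cfsg.quadFormOdd m K v)
        = Cfsg.isometryGroup K (Cfsg.quadFormOdd m K) := by
      ext g
      constructor
      · intro hg u v
        have := hg u v
        exact mul_left_cancel₀ hc this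
      · intro hg u v
        have h9 := hg u v
        show QK (b (Sum.inl ())) * _ = QK (b (Sum.inl ())) * _
        exact congrArg (fun t => QK (b (Sum.inl ())) * t) h9
    rw [hgrp] at hemb
    have hoddK : Odd ((Fintype.card F) ^ 2) := hodd.pow
    rw [Cfsg.Agent.S0286.result hFcard hoddK m] at hemb
    unfold ordGOodd
    exact hemb

end Cfsg.Agent.Lib.Helper10.C3Q
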