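import Mathlib
import Cfsg.Agent.Lib.Helper10.C3Q.Defs
import Cfsg.Agent.Lib.Helper16.SpinAdjust2
import Cfsg.Agent.Lib.helper23.C3QNCOMM
import Cfsg.Agent.Lib.Helper29.C3QSPOS
import Cfsg.Agent.Lib.Helper21.C3QSNEG
import Cfsg.Agent.Lib.Helper20.C3QCLS
import Cfsg.Agent.Lib.helper15.OTSSTDCTX

set_option autoImplicit false
set_option linter.unusedVariables false
set_option linter.unusedSectionVars false

/-! # Project C3Q, row SFIN (second copy by helper10 under the name `c3qsfin_h10`) -/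

namespace Cfsg.Agent.Lib.Helper10.C3Q

open Matrix Module Cfsg.Agent.Lib.Helper13.OTS Cfsg.Agent.Lib.Helper16

universe u

variable {F : Type u} [Field F] {ι : Type} [Fintype ι] [DecidableEq ι]

/-- the final conjugation step -/
theorem c3qsfin_h10_step [Fintype F] (h2 : (2 : F) ≠ 0) (Q : QuadraticForm F (ι → F))
    (hQ : (QuadraticMap.polarBilin Q).Nondegenerate) (A A' : Matrix ι ι F) (x : GL ι F)
    (a b : ι → F) (ha : Q a ≠ 0) (hb : Q b ≠ 0) (hsa : IsSquare (Q a)) (hsb : ¬ IsSquare (Q b))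
    (hρ : ∀ ρ : GL ι F, (ρ = 1 ∨ ρ = ((reflG Q a ha : ↥(Cfsg.isometryGroup F (⇑Q))) : GL ι F) ∨
          ρ = ((reflG Q b hb : ↥(Cfsg.isometryGroup F (⇑Q))) : GL ι F) ∨
          ρ = ((reflG Q a ha * reflG Q b hb : ↥(Cfsg.isometryGroup F (⇑Q))) : GL ι F)) →
        NrmA A' (ρ⁻¹ * x * ρ))
    (h : GL ι F) (hh : h ∈ Cfsg.isometryGroup F (⇑Q))
    (hAh : (h : Matrix ι ι F) * A = A' * (h : Matrix ι ι F)) :
    ∃ g ∈ Cfsg.Geo.omegaGL (⇑Q), NrmA A (g⁻¹ * x * g) := by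
  obtain ⟨ρ, hρΩ, hcases⟩ := spin_adjust2 h2 Q hQ ⟨h, hh⟩ a b ha hb hsa hsb
  refine ⟨((ρ * ⟨h, hh⟩ : ↥(Cfsg.isometryGroup F (⇑Q))) : GL ι F), ⟨ρ * ⟨h, hh⟩, hρΩ, rfl⟩, ?_⟩
  have hN : NrmA A' ((ρ : GL ι F)⁻¹ * x * (ρ : GL ι F)) := by
    apply hρ
    rcases hcases with h1 | h1 | h1 | h1
    · left; rw [h1]; rfl
    · right; left; rw [h1]
    · right; right; left; rw [h1]
    · right; right; right; rw [h1]
  have hg : ((ρ * ⟨h, hh⟩ : ↥(Cfsg.isometryGroup F (⇑Q))) : GL ι F)⁻¹ * x *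
      ((ρ * ⟨h, hh⟩ : ↥(Cfsg.isometryGroup F (⇑Q))) : GL ι F)
      = h⁻¹ * ((ρ : GL ι F)⁻¹ * x * (ρ : GL ι F)) * h := by
    have : ((ρ * ⟨h, hh⟩ : ↥(Cfsg.isometryGroup F (⇑Q))) : GL ι F) = (ρ : GL ι F) * h := rfl
    rw [this]
    group
  rw [hg]
  set y : GL ι F := (ρ : GL ι F)⁻¹ * x * (ρ : GL ι F) with hy
  have hHiH : ((h⁻¹ : GL ι F) : Matrix ι ι F) * (h : Matrix ι ι F) = 1 := by
    rw [← Units.val_mul, inv_mul_cancel, Units.val_one]
  have hHHi : (h : Matrix ι ι F) * ((h⁻¹ : GL ι F) : Matrix ι ι F) = 1 := by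
    rw [← Units.val_mul, mul_inv_cancel, Units.val_one]
  have hiA : ((h⁻¹ : GL ι F) : Matrix ι ι F) * A' = A * ((h⁻¹ : GL ι F) : Matrix ι ι F) := by
    calc ((h⁻¹ : GL ι F) : Matrix ι ι F) * A'
        = ((h⁻¹ : GL ι F) : Matrix ι ι F) * (A' * (h : Matrix ι ι F)) * ((h⁻¹ : GL ι F) : Matrix ι ι F) := by
          rw [Matrix.mul_assoc, Matrix.mul_assoc, hHHi, Matrix.mul_one]
      _ = ((h⁻¹ : GL ι F) : Matrix ι ι F) * ((h : Matrix ι ι F) * A) * ((h⁻¹ : GL ι F) : Matrix ι ι F) := by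
          rw [hAh]
      _ = A * ((h⁻¹ : GL ι F) : Matrix ι ι F) := by
          rw [← Matrix.mul_assoc, hHiH, Matrix.one_mul]
  have hval : ((h⁻¹ * y * h : GL ι F) : Matrix ι ι F)
      = ((h⁻¹ : GL ι F) : Matrix ι ι F) * (y : Matrix ι ι F) * (h : Matrix ι ι F) := by
    rw [Units.val_mul, Units.val_mul]
  unfold NrmA at hN ⊢
  rw [hval]
  rcases hN with hN | hN
  · left
    calc ((h⁻¹ : GL ι F) : Matrix ι ι F) * (y : Matrix ι ι F) * (h : Matrix ι ι F) * A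
        = ((h⁻¹ : GL ι F) : Matrix ι ι F) * ((y : Matrix ι ι F) * A') * (h : Matrix ι ι F) := by
          rw [Matrix.mul_assoc, hAh]; simp only [Matrix.mul_assoc]
      _ = ((h⁻¹ : GL ι F) : Matrix ι ι F) * A' * (y : Matrix ι ι F) * (h : Matrix ι ι F) := by
          rw [hN]; simp only [Matrix.mul_assoc]
      _ = A * (((h⁻¹ : GL ι F) : Matrix ι ι F) * (y : Matrix ι ι F) * (h : Matrix ι ι F)) := by
          rw [hiA]; simp only [Matrix.mul_assoc]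
  · right
    calc ((h⁻¹ : GL ι F) : Matrix ι ι F) * (y : Matrix ι ι F) * (h : Matrix ι ι F) * A
        = ((h⁻¹ : GL ι F) : Matrix ι ι F) * ((y : Matrix ι ι F) * A') * (h : Matrix ι ι F) := by
          rw [Matrix.mul_assoc, hAh]; simp only [Matrix.mul_assoc]
      _ = -(((h⁻¹ : GL ι F) : Matrix ι ι F) * A' * (y : Matrix ι ι F) * (h : Matrix ι ι F)) := by
          rw [hN]; simp only [Matrix.mul_assoc, Matrix.mul_neg, Matrix.neg_mul]
      _ = -(A * (((h⁻¹ : GL ι F) : Matrix ι ι F) * (y : Matrix ι ι F) * (h : Matrix ι ι F))) := by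
          rw [hiA]; simp only [Matrix.mul_assoc]

/-- SFIN (same statement as the Skel row `s_fin`). -/
theorem c3qsfin_h10 [Fintype F] (h2 : (2 : F) ≠ 0) (Q : QuadraticForm F (ι → F))
    (hQ : (QuadraticMap.polarBilin Q).Nondegenerate) (d : ℕ) (hcard : Fintype.card ι = 2 * d)
    (hd : 2 ≤ d) (δ : F) (A : Matrix ι ι F) (hA : Gen (⇑Q) δ A) : AllConjA (⇑Q) A 2 := by
  classical
  intro x hxΩ hx2 hns
  have hxG : x ∈ Cfsg.isometryGroup F (⇑Q) := q_omega_le Q x hxΩ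
  obtain ⟨z, hz⟩ := hx2
  have hne : ∃ v, Q v ≠ 0 := by
    by_contra hcon
    push_neg at hcon
    haveI : Nonempty ι := Fintype.card_pos_iff.mp (by omega)
    obtain ⟨i⟩ := ‹Nonempty ι›
    have h1 : (Pi.single i (1 : F) : ι → F) = 0 := by
      apply hQ.1
      intro v
      show QuadraticMap.polar (⇑Q) _ v = 0
      unfold QuadraticMap.polar
      rw [hcon, hcon, hcon]; ring
    have := congrFun h1 i
    simp at this
  obtain ⟨n, rfl⟩ : ∃ n, d = n + 1 := ⟨d - 1, by omega⟩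
  rcases s_scal Q hne x hxG z hz with rfl | rfl
  · obtain ⟨A', a, b, ha, hb, hA', hsa, hsb, hρ⟩ :=
      s_local_pos h2 Q hQ (n + 1) hcard hd δ hA.ns x hxΩ (by rw [hz, one_smul])
    obtain ⟨h, hh, hAh⟩ := cls h2 Q hQ δ A A' hA hA' n hcard
    exact c3qsfin_h10_step h2 Q hQ A A' x a b ha hb hsa hsb hρ h hh hAh
  · obtain ⟨A', a, b, ha, hb, hA', hsa, hsb, hρ⟩ :=
      s_local_neg h2 Q hQ (n + 1) hcard (by omega) δ hA.ns x hxG hz
    obtain ⟨h, hh, hAh⟩ := cls h2 Q hQ δ A A' hA hA' n hcard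
    exact c3qsfin_h10_step h2 Q hQ A A' x a b ha hb hsa hsb hρ h hh hAh

end Cfsg.Agent.Lib.Helper10.C3Q
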