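import Mathlib
import Cfsg.Agent.Lib.Helper10.C6P.Defs
import Cfsg.Agent.Lib.Helper28.C6PNCLASS
import Cfsg.Agent.Lib.helper6.C6PNFIX
import Cfsg.Agent.Lib.helper6.C6PNCEN

set_option autoImplicit false

/-!
# C6P row NBIG (`no_big_prime`): primes `r ∉ {2,3,5}` act trivially.
-/

namespace Cfsg.Agent.Lib.Helper10.C6P

open Matrix

variable {F : Type*} [Field F]

/-- (NCTOP inline) `|C_R(T)| = 64` forces `T` scalar -/
theorem c6pnbig_top {i : F} {R : Subgroup (GL (Fin 4) F)} (h : RCtx i R) (T : GL (Fin 4) F)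
    (hc : Nat.card ((Subgroup.centralizer ({T} : Set (GL (Fin 4) F))).subgroupOf R) = 64) :
    ∃ c : F, (T : M4 F) = c • (1 : M4 F) := by
  have hfin : Finite R := Nat.finite_of_card_ne_zero (by rw [h.card]; norm_num)
  have htop : (Subgroup.centralizer ({T} : Set (GL (Fin 4) F))).subgroupOf R = ⊤ :=
    Subgroup.eq_top_of_card_eq _ (by rw [hc, h.card])
  apply h.comm
  intro g hg
  have h1 : (⟨g, hg⟩ : R) ∈ (Subgroup.centralizer ({T} : Set (GL (Fin 4) F))).subgroupOf R := by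
    rw [htop]; trivial
  rw [Subgroup.mem_subgroupOf, Subgroup.mem_centralizer_iff] at h1
  have h2 : T * g = g * T := h1 T rfl
  rw [← Units.val_mul, ← Units.val_mul, h2]

theorem c6pnbig_pd (r : ℕ) (hr : r.Prime) (q : ℕ) (hq : q.Prime) (e : ℕ) (h : r ∣ q ^ e) : r = q :=
  (Nat.prime_dvd_prime_iff_eq hr hq).mp (hr.dvd_of_dvd_pow h)

/-- membership in `C_R(T)` -/
theorem c6pnbig_mem (R : Subgroup (GL (Fin 4) F)) (T : GL (Fin 4) F) (g : R) :
    g ∈ (Subgroup.centralizer ({T} : Set (GL (Fin 4) F))).subgroupOf R ↔ T * (g : GL (Fin 4) F) = (g : GL (Fin 4) F) * T := by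
  rw [Subgroup.mem_subgroupOf, Subgroup.mem_centralizer_iff]
  constructor
  · intro hc; exact hc T rfl
  · intro hc m hm
    rw [Set.mem_singleton_iff] at hm
    subst hm
    exact hc

/-- at most 4 scalars: a subgroup of `R` with more than 4 elements contains a non-scalar element -/
theorem c6pnbig_nonscalar {i : F} {R : Subgroup (GL (Fin 4) F)} (h : RCtx i R) (C : Subgroup R) (hC : 4 < Nat.card C) :
    ∃ g : R, g ∈ C ∧ ∀ c : F, ((g : GL (Fin 4) F) : M4 F) ≠ c • (1 : M4 F) := by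
  classical
  by_contra hcon
  push Not at hcon
  have hfin : Finite R := Nat.finite_of_card_ne_zero (by rw [h.card]; norm_num)
  have : Fintype C := Fintype.ofFinite C
  have hmem : ∀ g : C, (((g : R) : GL (Fin 4) F) : M4 F) 0 0 ∈ Polynomial.nthRootsFinset 4 (1 : F) := by
    intro g
    rw [Polynomial.mem_nthRootsFinset (by norm_num)]
    obtain ⟨c, hc⟩ := hcon g.1 g.2
    have := h.scal _ g.1.2 c hc
    rw [hc]
    simpa using this
  let f : C → Polynomial.nthRootsFinset 4 (1 : F) := fun g => ⟨_, hmem g⟩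
  have hf : Function.Injective f := by
    intro g₁ g₂ h12
    have h0 : (((g₁ : R) : GL (Fin 4) F) : M4 F) 0 0 = (((g₂ : R) : GL (Fin 4) F) : M4 F) 0 0 := congrArg Subtype.val h12
    obtain ⟨c₁, hc₁⟩ := hcon g₁.1 g₁.2
    obtain ⟨c₂, hc₂⟩ := hcon g₂.1 g₂.2
    rw [hc₁, hc₂] at h0
    simp at h0
    apply Subtype.ext
    apply Subtype.ext
    apply Units.ext
    rw [hc₁, hc₂, h0]
  have h1 := Fintype.card_le_of_injective f hf
  rw [Fintype.card_coe] at h1
  have h2 : (Polynomial.nthRootsFinset 4 (1 : F)).card ≤ 4 := by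
    rw [Polynomial.nthRootsFinset_def]
    exact le_trans (Multiset.toFinset_card_le _) (Polynomial.card_nthRoots 4 1)
  rw [Nat.card_eq_fintype_card] at hC
  omega

theorem c6pnbig_cmem (T g : GL (Fin 4) F) :
    g ∈ Subgroup.centralizer ({T} : Set (GL (Fin 4) F)) ↔ T * g = g * T := by
  rw [Subgroup.mem_centralizer_iff]
  constructor
  · intro hc; exact hc T rfl
  · intro hc m hm
    rw [Set.mem_singleton_iff] at hm
    subst hm
    exact hc

theorem c6pnbig_seven {i : F} {R : Subgroup (GL (Fin 4) F)} (h : RCtx i R) (T : GL (Fin 4) F)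
    (hT : T ∈ Cfsg.Geo.subgroupNormalizer R)
    (hTr : ∃ c : F, ((T ^ 7 : GL (Fin 4) F) : M4 F) = c • (1 : M4 F))
    (hk : Nat.card ((Subgroup.centralizer ({T} : Set (GL (Fin 4) F))).subgroupOf R) = 8) : False := by
  classical
  have hfin : Finite R := Nat.finite_of_card_ne_zero (by rw [h.card]; norm_num)
  have : Fact (Nat.Prime 7) := ⟨by norm_num⟩
  obtain ⟨⟨v, hvR⟩, hvC, hvns⟩ := c6pnbig_nonscalar h _ (by rw [hk]; norm_num)
  rw [c6pnbig_mem] at hvC
  simp only at hvC hvns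
  set S : Subgroup (GL (Fin 4) F) := Subgroup.centralizer ({v} : Set (GL (Fin 4) F)) ⊓ R with hS
  have hScard : Nat.card S = 32 := by
    rw [← class_card h v hvR hvns, ← Subgroup.inf_subgroupOf_right]
    exact (Nat.card_congr (Subgroup.subgroupOfEquivOfLe (inf_le_right)).toEquiv).symm
  have hSfin : Finite S := Nat.finite_of_card_ne_zero (by rw [hScard]; norm_num)
  have hSmem : ∀ s : GL (Fin 4) F, s ∈ S ↔ v * s = s * v ∧ s ∈ R := by
    intro s
    rw [hS, Subgroup.mem_inf, c6pnbig_cmem]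
  have hTi : T⁻¹ * v = v * T⁻¹ := by
    calc T⁻¹ * v = T⁻¹ * (v * T) * T⁻¹ := by group
      _ = T⁻¹ * (T * v) * T⁻¹ := by rw [hvC]
      _ = v * T⁻¹ := by group
  have hTS : T ∈ Subgroup.normalizer (S : Set (GL (Fin 4) F)) := by
    rw [Subgroup.mem_normalizer_iff]
    intro s
    rw [hSmem, hSmem]
    have hR : s ∈ R ↔ T * s * T⁻¹ ∈ R := Subgroup.mem_normalizer_iff.mp hT s
    rw [← hR]
    have hcomm : v * s = s * v ↔ v * (T * s * T⁻¹) = T * s * T⁻¹ * v := by
      constructor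
      · intro e
        calc v * (T * s * T⁻¹) = (v * T) * s * T⁻¹ := by group
          _ = T * (v * s) * T⁻¹ := by rw [← hvC]; group
          _ = T * s * (v * T⁻¹) := by rw [e]; group
          _ = T * s * T⁻¹ * v := by rw [← hTi]; group
      · intro e
        have e2 : T * (v * s) * T⁻¹ = T * (s * v) * T⁻¹ := by
          calc T * (v * s) * T⁻¹ = (T * v) * s * T⁻¹ := by group
            _ = v * (T * s * T⁻¹) := by rw [hvC]; group
            _ = T * s * T⁻¹ * v := e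
            _ = T * s * (T⁻¹ * v) := by group
            _ = T * (s * v) * T⁻¹ := by rw [hTi]; group
        exact mul_left_cancel (mul_right_cancel e2)
    rw [← hcomm]
  obtain ⟨cT, hcT⟩ := hTr
  have hTr' : ∀ a ∈ S, T ^ 7 * a = a * T ^ 7 := by
    intro a _
    apply Units.ext
    rw [Units.val_mul, Units.val_mul, hcT, Matrix.smul_mul, Matrix.mul_smul, Matrix.one_mul, Matrix.mul_one]
  have hfix := c6pnfix_abs S 32 (by norm_num) hScard T hTS 7 hTr'
  set D : Subgroup S := (Subgroup.centralizer ({T} : Set (GL (Fin 4) F))).subgroupOf S with hD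
  have hDmem : ∀ x : S, x ∈ D ↔ T * (x : GL (Fin 4) F) = (x : GL (Fin 4) F) * T := by
    intro x
    rw [hD, Subgroup.mem_subgroupOf, c6pnbig_cmem]
  have hDdvd : Nat.card D ∣ 2 ^ 5 := by
    have := Subgroup.card_subgroup_dvd_card D
    rw [hScard] at this
    exact this
  have hDle : Nat.card D ≤ 8 := by
    rw [← hk]
    let f : D → ((Subgroup.centralizer ({T} : Set (GL (Fin 4) F))).subgroupOf R) := fun x =>
      ⟨⟨((x : S) : GL (Fin 4) F), ((hSmem _).mp (x : S).2).2⟩, (c6pnbig_mem R T _).mpr ((hDmem x.1).mp x.2)⟩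
    apply Nat.card_le_card_of_injective f
    intro x₁ x₂ h12
    have : ((x₁ : S) : GL (Fin 4) F) = ((x₂ : S) : GL (Fin 4) F) := by
      have := congrArg (fun t : ((Subgroup.centralizer ({T} : Set (GL (Fin 4) F))).subgroupOf R) => ((t : R) : GL (Fin 4) F)) h12
      exact this
    exact Subtype.ext (Subtype.ext this)
  obtain ⟨m, hm5, hm⟩ := (Nat.dvd_prime_pow Nat.prime_two).mp hDdvd
  rw [hm] at hfix hDle
  have hm2 : m = 2 := by
    interval_cases m
    · exact absurd hfix (by decide)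
    · exact absurd hfix (by decide)
    · rfl
    · exact absurd hfix (by decide)
    · exact absurd hfix (by decide)
    · norm_num at hDle
  rw [hm2] at hm
  -- the scalar `i`
  obtain ⟨gi, hgiR, hgi⟩ := h.iR
  have hgicomm : ∀ k : GL (Fin 4) F, k * gi = gi * k := by
    intro k
    apply Units.ext
    rw [Units.val_mul, Units.val_mul, hgi, Matrix.smul_mul, Matrix.mul_smul, Matrix.one_mul, Matrix.mul_one]
  have hgiS : gi ∈ S := (hSmem gi).mpr ⟨hgicomm v, hgiR⟩
  have hgiD : (⟨gi, hgiS⟩ : S) ∈ D := (hDmem _).mpr (hgicomm T)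
  have hpow : ∀ n : ℕ, ((gi ^ n : GL (Fin 4) F) : M4 F) = (i ^ n) • (1 : M4 F) := by
    intro n
    rw [Units.val_pow_eq_pow_val, hgi, smul_pow, one_pow]
  have hi2 : i ^ 2 = -1 := by rw [pow_two]; exact h.hi
  have hi4 : i ^ 4 = 1 := by
    have : i ^ 4 = (i ^ 2) ^ 2 := by ring
    rw [this, hi2]; ring
  have hord : orderOf (⟨⟨gi, hgiS⟩, hgiD⟩ : D) = 2 ^ (1 + 1) := by
    apply orderOf_eq_prime_pow
    · intro hcon
      have h1 := congrArg (fun t : D => (((t : S) : GL (Fin 4) F) : M4 F)) hcon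
      simp only [pow_one] at h1
      have h2 : ((gi ^ 2 : GL (Fin 4) F) : M4 F) = 1 := by
        simpa using h1
      rw [hpow 2, hi2] at h2
      have h3 := congrFun (congrFun h2 0) 0
      simp at h3
      have h4 : (2 : F) = 0 := by linear_combination -h3
      exact h.two h4
    · apply Subtype.ext
      apply Subtype.ext
      apply Units.ext
      show ((gi ^ 2 ^ (1 + 1) : GL (Fin 4) F) : M4 F) = 1
      rw [hpow, show 2 ^ (1 + 1) = 4 by norm_num, hi4, one_smul]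
  have hDfin : Finite D := inferInstance
  have hztop : Subgroup.zpowers (⟨⟨gi, hgiS⟩, hgiD⟩ : D) = ⊤ := by
    apply Subgroup.eq_top_of_card_eq
    rw [Nat.card_zpowers, hord, hm]
  have hvS : v ∈ S := (hSmem v).mpr ⟨rfl, hvR⟩
  have hvD : (⟨v, hvS⟩ : S) ∈ D := (hDmem _).mpr hvC
  have hvz : (⟨⟨v, hvS⟩, hvD⟩ : D) ∈ Subgroup.zpowers (⟨⟨gi, hgiS⟩, hgiD⟩ : D) := by
    rw [hztop]; trivial
  rw [← mem_powers_iff_mem_zpowers, Submonoid.mem_powers_iff] at hvz
  obtain ⟨n, hn⟩ := hvz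
  have h1 := congrArg (fun t : D => (((t : S) : GL (Fin 4) F) : M4 F)) hn
  have h2 : ((gi ^ n : GL (Fin 4) F) : M4 F) = (v : M4 F) := by
    simpa using h1
  rw [hpow] at h2
  exact hvns (i ^ n) h2.symm

/-- NBIG -/
theorem no_big_prime {i : F} {R : Subgroup (GL (Fin 4) F)} (h : RCtx i R) (T : GL (Fin 4) F)
    (hT : T ∈ Cfsg.Geo.subgroupNormalizer R) (r : ℕ) [Fact r.Prime] (hr2 : r ≠ 2) (hr3 : r ≠ 3) (hr5 : r ≠ 5)
    (hTr : ∃ c : F, ((T ^ r : GL (Fin 4) F) : M4 F) = c • (1 : M4 F)) :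
    ∃ c : F, (T : M4 F) = c • (1 : M4 F) := by
  have hprime : r.Prime := Fact.out
  obtain ⟨k, hk2, hk6, hk⟩ := cent_card h T
  have hmod := fix_count h T hT r hTr
  rw [hk] at hmod
  have hle : 2 ^ k ≤ 64 := by
    calc 2 ^ k ≤ 2 ^ 6 := Nat.pow_le_pow_right (by norm_num) hk6
      _ = 64 := by norm_num
  have hdvd : r ∣ 64 - 2 ^ k := (Nat.modEq_iff_dvd' hle).mp hmod
  interval_cases k
  · -- r ∣ 60
    exfalso
    have h1 : r ∣ 2 ^ 2 * (3 ^ 1 * 5 ^ 1) := by norm_num at hdvd ⊢; exact hdvd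
    rcases (Nat.Prime.dvd_mul hprime).mp h1 with h2 | h2
    · exact hr2 (c6pnbig_pd r hprime 2 Nat.prime_two _ h2)
    · rcases (Nat.Prime.dvd_mul hprime).mp h2 with h3 | h3
      · exact hr3 (c6pnbig_pd r hprime 3 Nat.prime_three _ h3)
      · exact hr5 (c6pnbig_pd r hprime 5 Nat.prime_five _ h3)
  · -- r ∣ 56
    exfalso
    have h1 : r ∣ 2 ^ 3 * 7 ^ 1 := by norm_num at hdvd ⊢; exact hdvd
    rcases (Nat.Prime.dvd_mul hprime).mp h1 with h2 | h2
    · exact hr2 (c6pnbig_pd r hprime 2 Nat.prime_two _ h2)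
    · have h7 : r = 7 := c6pnbig_pd r hprime 7 (by norm_num) _ h2
      subst h7
      exact c6pnbig_seven h T hT hTr (by rw [hk]; norm_num)
  · -- r ∣ 48
    exfalso
    have h1 : r ∣ 2 ^ 4 * 3 ^ 1 := by norm_num at hdvd ⊢; exact hdvd
    rcases (Nat.Prime.dvd_mul hprime).mp h1 with h2 | h2
    · exact hr2 (c6pnbig_pd r hprime 2 Nat.prime_two _ h2)
    · exact hr3 (c6pnbig_pd r hprime 3 Nat.prime_three _ h2)
  · -- r ∣ 32
    exfalso
    have h1 : r ∣ 2 ^ 5 := by norm_num at hdvd ⊢; exact hdvd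
    exact hr2 (c6pnbig_pd r hprime 2 Nat.prime_two _ h1)
  · exact c6pnbig_top h T (by rw [hk]; norm_num)

end Cfsg.Agent.Lib.Helper10.C6P
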