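import Mathlib
import Cfsg.Agent.Lib.Helper10.C6P.Defs

set_option autoImplicit false

/-!
# C6P row NPR (`no_rank_one`): the rank-one lemma for `N(R)`, `R = 4 ∘ 2^{1+4}`.
-/

namespace Cfsg.Agent.Lib.Helper10.C6P

open Matrix

variable {F : Type*} [Field F]


/-- two functionals on `F^4` have a common non-zero kernel vector -/
theorem c6pnpr_two_func (w₁ w₂ : Fin 4 → F) : ∃ v : Fin 4 → F, v ≠ 0 ∧ w₁ ⬝ᵥ v = 0 ∧ w₂ ⬝ᵥ v = 0 := by
  let M : M4 F := Matrix.of ![w₁, w₂, 0, 0]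
  have hdet : M.det = 0 := by
    apply Matrix.det_eq_zero_of_row_eq_zero (2 : Fin 4)
    intro j
    simp [M]
  obtain ⟨v, hv0, hv⟩ := Matrix.exists_mulVec_eq_zero_iff.mpr hdet
  refine ⟨v, hv0, ?_, ?_⟩
  · have := congrFun hv 0
    simpa [M, Matrix.mulVec] using this
  · have := congrFun hv 1
    simpa [M, Matrix.mulVec] using this

/-- rank one matrices are `u wᵀ` -/
theorem c6pnpr_rank_one (E : M4 F) (h : E.rank = 1) :
    ∃ u w : Fin 4 → F, u ≠ 0 ∧ w ≠ 0 ∧ E = Matrix.vecMulVec u w := by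
  unfold Matrix.rank at h
  rw [finrank_eq_one_iff'] at h
  obtain ⟨⟨u, hu⟩, hu0, hall⟩ := h
  have hu0' : u ≠ 0 := by
    intro h0
    apply hu0
    ext1
    exact h0
  have hcol : ∀ j : Fin 4, ∃ cj : F, cj • u = E *ᵥ (Pi.single j 1) := by
    intro j
    obtain ⟨cj, hcj⟩ := hall ⟨E *ᵥ (Pi.single j 1), ⟨Pi.single j 1, rfl⟩⟩
    refine ⟨cj, ?_⟩
    have := congrArg Subtype.val hcj
    simpa using this
  choose w hw using hcol
  have hE : E = Matrix.vecMulVec u w := by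
    ext a b
    have := congrFun (hw b) a
    simp [Matrix.vecMulVec_apply] at this ⊢
    rw [← this]; ring
  refine ⟨u, w, hu0', ?_, hE⟩
  intro hw0
  have hE0 : E = 0 := by
    rw [hE, hw0]; ext a b; simp [Matrix.vecMulVec_apply]
  obtain ⟨x, hx⟩ := hu
  apply hu0'
  rw [← hx, hE0]
  simp



theorem c6pnpr_vmv (u w v : Fin 4 → F) : (Matrix.vecMulVec u w) *ᵥ v = (w ⬝ᵥ v) • u := by
  ext a
  simp only [Matrix.mulVec, dotProduct, Matrix.vecMulVec_apply, Pi.smul_apply, smul_eq_mul, Finset.sum_mul]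
  apply Finset.sum_congr rfl
  intro i _
  ring

/-- the vector action of `c + u wᵀ` -/
theorem c6pnpr_mulVec (c : F) (u w v : Fin 4 → F) :
    (c • (1 : M4 F) + Matrix.vecMulVec u w) *ᵥ v = c • v + (w ⬝ᵥ v) • u := by
  rw [Matrix.add_mulVec, Matrix.smul_mulVec, Matrix.one_mulVec, c6pnpr_vmv]

/-- the commutator `Y A Y⁻¹ A⁻¹` on the hyperplane `A (ker w)` -/
theorem c6pnpr_comm_apply (c : F) (hc : c ≠ 0) (u w : Fin 4 → F) (Y Yi A Ai : M4 F) (hYi : Yi * Y = 1) (hA : A * Ai = 1)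
    (hY : Y = c • (1 : M4 F) + Matrix.vecMulVec u w) (v : Fin 4 → F) (hv : w ⬝ᵥ (Ai *ᵥ v) = 0) :
    (Y * A * Yi * Ai) *ᵥ v = v + (c⁻¹ * (w ⬝ᵥ v)) • u := by
  have h1 : Y *ᵥ (Ai *ᵥ v) = c • (Ai *ᵥ v) := by
    rw [hY, c6pnpr_mulVec, hv]; simp
  have h2 : Yi *ᵥ (Ai *ᵥ v) = c⁻¹ • (Ai *ᵥ v) := by
    have h3 : Yi *ᵥ (Y *ᵥ (Ai *ᵥ v)) = Ai *ᵥ v := by
      rw [Matrix.mulVec_mulVec, hYi, Matrix.one_mulVec]
    rw [h1, Matrix.mulVec_smul] at h3
    rw [← h3, smul_smul, inv_mul_cancel₀ hc, one_smul]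
    rw [h3]
  have h4 : A *ᵥ (Ai *ᵥ v) = v := by rw [Matrix.mulVec_mulVec, hA, Matrix.one_mulVec]
  calc (Y * A * Yi * Ai) *ᵥ v = Y *ᵥ (A *ᵥ (Yi *ᵥ (Ai *ᵥ v))) := by
        simp only [Matrix.mulVec_mulVec, Matrix.mul_assoc]
    _ = Y *ᵥ (c⁻¹ • v) := by rw [h2, Matrix.mulVec_smul, h4]
    _ = v + (c⁻¹ * (w ⬝ᵥ v)) • u := by
        rw [Matrix.mulVec_smul, hY, c6pnpr_mulVec, smul_add, smul_smul, smul_smul, inv_mul_cancel₀ hc, one_smul]



/-- an element `≠ 1` of `R` with a non-zero fixed vector is an involution, inverted-up-to-sign by some element of `R` -/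
theorem c6pnpr_fixed_invol {i : F} {R : Subgroup (GL (Fin 4) F)} (h : RCtx i R) (g : GL (Fin 4) F) (hg : g ∈ R)
    (hg1 : g ≠ 1) (v : Fin 4 → F) (hv0 : v ≠ 0) (hv : (g : M4 F) *ᵥ v = v) :
    (g : M4 F) * (g : M4 F) = 1 ∧ ∃ k ∈ R, (k : M4 F) * (g : M4 F) = - ((g : M4 F) * (k : M4 F)) := by
  have hscal : ∀ (M : M4 F) (c : F), M = c • (1 : M4 F) → M *ᵥ v = v → c = 1 := by
    intro M c hM hMv
    rw [hM, Matrix.smul_mulVec, Matrix.one_mulVec] at hMv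
    have h1 : (c - 1) • v = 0 := by rw [sub_smul, hMv, one_smul, sub_self]
    rcases smul_eq_zero.mp h1 with h0 | h0
    · exact sub_eq_zero.mp h0
    · exact absurd h0 hv0
  have hns : ∀ c : F, (g : M4 F) ≠ c • (1 : M4 F) := by
    intro c hc
    have hc1 := hscal _ c hc hv
    apply hg1
    apply Units.ext
    rw [hc, hc1, one_smul]; rfl
  refine ⟨?_, h.neg g hg hns⟩
  have hcen : ∀ k ∈ R, k * (g * g) = (g * g) * k := by
    intro k hk
    apply Units.ext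
    simp only [Units.val_mul]
    rcases h.pm g hg k hk with e | e
    · rw [← Matrix.mul_assoc, e, Matrix.mul_assoc, e, ← Matrix.mul_assoc]
    · rw [← Matrix.mul_assoc, e, Matrix.neg_mul, Matrix.mul_assoc, e, Matrix.mul_neg, neg_neg, ← Matrix.mul_assoc]
  obtain ⟨c, hc⟩ := h.cen (g * g) (R.mul_mem hg hg) hcen
  have hvv : ((g * g : GL (Fin 4) F) : M4 F) *ᵥ v = v := by
    rw [Units.val_mul, ← Matrix.mulVec_mulVec, hv, hv]
  have hc1 := hscal _ c hc hvv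
  rw [Units.val_mul, hc1, one_smul] at hc
  exact hc


/-- NPR -/
theorem no_rank_one {i : F} {R : Subgroup (GL (Fin 4) F)} (h : RCtx i R) (y : GL (Fin 4) F)
    (hy : y ∈ Cfsg.Geo.subgroupNormalizer R) (c : F) (hc : c ≠ 0)
    (hrank : ((y : M4 F) - c • (1 : M4 F)).rank = 1) (r : ℕ) (hr : Odd r)
    (hyr : ∃ z : F, ((y ^ r : GL (Fin 4) F) : M4 F) = z • (1 : M4 F)) : False := by
  obtain ⟨u, w, hu0, hw0, hE⟩ := c6pnpr_rank_one _ hrank
  have hY : (y : M4 F) = c • (1 : M4 F) + Matrix.vecMulVec u w := by rw [← hE]; abel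
  have h2 := h.two
  have hnorm : ∀ a ∈ R, y * a * y⁻¹ ∈ R := fun a ha => (Subgroup.mem_normalizer_iff.mp hy a).mp ha
  set b : GL (Fin 4) F → GL (Fin 4) F := fun a => y * a * y⁻¹ * a⁻¹ with hb
  have hbR : ∀ a ∈ R, b a ∈ R := fun a ha => R.mul_mem (hnorm a ha) (R.inv_mem ha)
  have hbM : ∀ a : GL (Fin 4) F, ((b a : GL (Fin 4) F) : M4 F) =
      (y : M4 F) * (a : M4 F) * ((y⁻¹ : GL (Fin 4) F) : M4 F) * ((a⁻¹ : GL (Fin 4) F) : M4 F) := by
    intro a; simp only [hb, Units.val_mul]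
  have hyi : ((y⁻¹ : GL (Fin 4) F) : M4 F) * (y : M4 F) = 1 := by
    rw [← Units.val_mul, inv_mul_cancel, Units.val_one]
  have hai : ∀ a : GL (Fin 4) F, (a : M4 F) * ((a⁻¹ : GL (Fin 4) F) : M4 F) = 1 := by
    intro a; rw [← Units.val_mul, mul_inv_cancel, Units.val_one]
  have hia : ∀ a : GL (Fin 4) F, ((a⁻¹ : GL (Fin 4) F) : M4 F) * (a : M4 F) = 1 := by
    intro a; rw [← Units.val_mul, inv_mul_cancel, Units.val_one]
  -- F3
  have hF3 : ∀ a : GL (Fin 4) F, ∀ v : Fin 4 → F, w ⬝ᵥ (((a⁻¹ : GL (Fin 4) F) : M4 F) *ᵥ v) = 0 →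
      ((b a : GL (Fin 4) F) : M4 F) *ᵥ v = v + (c⁻¹ * (w ⬝ᵥ v)) • u := by
    intro a v hv
    rw [hbM]
    exact c6pnpr_comm_apply c hc u w _ _ _ _ hyi (hai a) hY v hv
  have h2v : ∀ v : Fin 4 → F, v = - v → v = 0 := by
    intro v hv
    have h3 : (2 : F) • v = 0 := by
      rw [two_smul]; nth_rewrite 1 [hv]; simp
    rcases smul_eq_zero.mp h3 with h0 | h0
    · exact absurd h0 h2
    · exact h0
  -- F5
  have hF5 : ∀ a ∈ R, b a ≠ 1 → ((b a : GL (Fin 4) F) : M4 F) * ((b a : GL (Fin 4) F) : M4 F) = 1 ∧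
      ((b a : GL (Fin 4) F) : M4 F) *ᵥ u = - u := by
    intro a ha hne
    obtain ⟨v₀, hv₀, hv₀1, hv₀2⟩ := c6pnpr_two_func w (w ᵥ* ((a⁻¹ : GL (Fin 4) F) : M4 F))
    rw [← Matrix.dotProduct_mulVec] at hv₀2
    have hfix : ((b a : GL (Fin 4) F) : M4 F) *ᵥ v₀ = v₀ := by
      rw [hF3 a v₀ hv₀2, hv₀1]; simp
    obtain ⟨hBB, k, hk, hkB⟩ := c6pnpr_fixed_invol h (b a) (hbR a ha) hne v₀ hv₀ hfix
    refine ⟨hBB, ?_⟩
    by_cases hcase : ∃ v : Fin 4 → F, w ⬝ᵥ (((a⁻¹ : GL (Fin 4) F) : M4 F) *ᵥ v) = 0 ∧ w ⬝ᵥ v ≠ 0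
    · obtain ⟨v, hv1, hv2⟩ := hcase
      have e1 := hF3 a v hv1
      have e2 : ((b a : GL (Fin 4) F) : M4 F) *ᵥ (((b a : GL (Fin 4) F) : M4 F) *ᵥ v) = v := by
        rw [Matrix.mulVec_mulVec, hBB, Matrix.one_mulVec]
      rw [e1, Matrix.mulVec_add, Matrix.mulVec_smul, e1] at e2
      have hκ : c⁻¹ * (w ⬝ᵥ v) ≠ 0 := mul_ne_zero (inv_ne_zero hc) hv2
      have e3 : (c⁻¹ * (w ⬝ᵥ v)) • (u + ((b a : GL (Fin 4) F) : M4 F) *ᵥ u) = 0 := by
        rw [smul_add]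
        have e4 : v + ((c⁻¹ * (w ⬝ᵥ v)) • u + (c⁻¹ * (w ⬝ᵥ v)) • ((b a : GL (Fin 4) F) : M4 F) *ᵥ u) = v + 0 := by
          rw [add_zero, ← add_assoc]; exact e2
        exact add_left_cancel e4
      rcases smul_eq_zero.mp e3 with h0 | h0
      · exact absurd h0 hκ
      · exact (eq_neg_of_add_eq_zero_right h0)
    · push Not at hcase
      exfalso
      obtain ⟨v₁, hv₁, hv₁1, hv₁2⟩ := c6pnpr_two_func (w ᵥ* ((a⁻¹ : GL (Fin 4) F) : M4 F))
        (w ᵥ* (((a⁻¹ : GL (Fin 4) F) : M4 F) * (k : M4 F)))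
      rw [← Matrix.dotProduct_mulVec] at hv₁1 hv₁2
      rw [← Matrix.mulVec_mulVec] at hv₁2
      have f1 : ((b a : GL (Fin 4) F) : M4 F) *ᵥ v₁ = v₁ := by
        rw [hF3 a v₁ hv₁1, hcase v₁ hv₁1]; simp
      have f2 : ((b a : GL (Fin 4) F) : M4 F) *ᵥ ((k : M4 F) *ᵥ v₁) = (k : M4 F) *ᵥ v₁ := by
        rw [hF3 a _ hv₁2, hcase _ hv₁2]; simp
      have f3 : (k : M4 F) *ᵥ v₁ = - ((k : M4 F) *ᵥ v₁) := by
        calc (k : M4 F) *ᵥ v₁ = (k : M4 F) *ᵥ (((b a : GL (Fin 4) F) : M4 F) *ᵥ v₁) := by rw [f1]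
          _ = ((k : M4 F) * ((b a : GL (Fin 4) F) : M4 F)) *ᵥ v₁ := by rw [Matrix.mulVec_mulVec]
          _ = - ((((b a : GL (Fin 4) F) : M4 F) * (k : M4 F)) *ᵥ v₁) := by rw [hkB, Matrix.neg_mulVec]
          _ = - ((k : M4 F) *ᵥ v₁) := by rw [← Matrix.mulVec_mulVec, f2]
      have f4 : (k : M4 F) *ᵥ v₁ = 0 := h2v _ f3
      apply hv₁
      have f5 : ((k⁻¹ : GL (Fin 4) F) : M4 F) *ᵥ ((k : M4 F) *ᵥ v₁) = v₁ := by
        rw [Matrix.mulVec_mulVec, hia, Matrix.one_mulVec]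
      rw [← f5, f4, Matrix.mulVec_zero]
  -- eigenvector facts
  have heig : ∀ (g : GL (Fin 4) F) (μ : F), (g : M4 F) *ᵥ u = μ • u →
      μ ≠ 0 ∧ ((g⁻¹ : GL (Fin 4) F) : M4 F) *ᵥ u = μ⁻¹ • u := by
    intro g μ hg
    have h1 : ((g⁻¹ : GL (Fin 4) F) : M4 F) *ᵥ ((g : M4 F) *ᵥ u) = u := by
      rw [Matrix.mulVec_mulVec, hia, Matrix.one_mulVec]
    rw [hg, Matrix.mulVec_smul] at h1
    have hμ : μ ≠ 0 := by
      intro h0; rw [h0, zero_smul] at h1; exact hu0 h1.symm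
    refine ⟨hμ, ?_⟩
    calc ((g⁻¹ : GL (Fin 4) F) : M4 F) *ᵥ u = μ⁻¹ • (μ • (((g⁻¹ : GL (Fin 4) F) : M4 F) *ᵥ u)) := by
          rw [smul_smul, inv_mul_cancel₀ hμ, one_smul]
      _ = μ⁻¹ • u := by rw [h1]
  have hyu : (y : M4 F) *ᵥ u = (c + w ⬝ᵥ u) • u := by rw [hY, c6pnpr_mulVec, add_smul]
  obtain ⟨hc', hyiu⟩ := heig y _ hyu
  -- F6
  have hF6 : ∀ k ∈ R, ∀ μ : F, (k : M4 F) *ᵥ u = μ • u → b k = 1 := by
    intro k hk μ hku
    by_contra hne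
    have e1 := (hF5 k hk hne).2
    obtain ⟨hμ, hkiu⟩ := heig k μ hku
    have e2 : ((b k : GL (Fin 4) F) : M4 F) *ᵥ u = u := by
      rw [hbM]
      calc ((y : M4 F) * (k : M4 F) * ((y⁻¹ : GL (Fin 4) F) : M4 F) * ((k⁻¹ : GL (Fin 4) F) : M4 F)) *ᵥ u
          = (y : M4 F) *ᵥ ((k : M4 F) *ᵥ (((y⁻¹ : GL (Fin 4) F) : M4 F) *ᵥ (((k⁻¹ : GL (Fin 4) F) : M4 F) *ᵥ u))) := by
            simp only [Matrix.mulVec_mulVec, Matrix.mul_assoc]
        _ = u := by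
            simp only [hkiu, Matrix.mulVec_smul, hyiu, hku, hyu, smul_smul]
            have h' : μ⁻¹ * ((c + w ⬝ᵥ u)⁻¹ * (μ * (c + w ⬝ᵥ u))) = 1 := by field_simp
            have h'' : ∀ s : F, s = 1 → s • u = u := by intro s hs; rw [hs, one_smul]
            apply h''
            rw [← h']; ring
    rw [e2] at e1
    exact hu0 (h2v u e1)
  -- F7 : y commutes with every b a
  have hF7 : ∀ a ∈ R, y * b a = b a * y := by
    intro a ha
    have hμ : ∃ μ : F, ((b a : GL (Fin 4) F) : M4 F) *ᵥ u = μ • u := by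
      by_cases hne : b a = 1
      · refine ⟨1, ?_⟩
        rw [hne, one_smul]; simp
      · refine ⟨-1, ?_⟩
        rw [(hF5 a ha hne).2]; simp
    obtain ⟨μ, hμ⟩ := hμ
    have := hF6 (b a) (hbR a ha) μ hμ
    -- y * b a * y⁻¹ * (b a)⁻¹ = 1
    have e : y * b a * y⁻¹ * (b a)⁻¹ = 1 := this
    calc y * b a = (y * b a * y⁻¹ * (b a)⁻¹) * (b a * y) := by group
      _ = b a * y := by rw [e, one_mul]
  -- F8 : b a is an involution
  have hF8 : ∀ a ∈ R, b a * b a = 1 := by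
    intro a ha
    by_cases hne : b a = 1
    · rw [hne, one_mul]
    · apply Units.ext
      rw [Units.val_mul, (hF5 a ha hne).1]; rfl
  -- F9
  have hF9 : ∀ a ∈ R, ∀ j : ℕ, y ^ j * a = (b a) ^ j * a * y ^ j := by
    intro a ha j
    induction j with
    | zero => simp
    | succ j ih =>
      have hcomm : y * (b a) ^ j = (b a) ^ j * y := by
        have : Commute y (b a) := hF7 a ha
        exact (this.pow_right j)
      calc y ^ (j + 1) * a = y * (y ^ j * a) := by rw [pow_succ']; group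
        _ = y * ((b a) ^ j * a * y ^ j) := by rw [ih]
        _ = (y * (b a) ^ j) * a * y ^ j := by group
        _ = (b a) ^ j * (y * a) * y ^ j := by rw [hcomm]; group
        _ = (b a) ^ j * (b a * a * y) * y ^ j := by
            have : y * a = b a * a * y := by simp only [hb]; group
            rw [this]
        _ = (b a) ^ (j + 1) * a * y ^ (j + 1) := by rw [pow_succ, pow_succ]; group
  obtain ⟨z, hz⟩ := hyr
  have hF10 : ∀ a ∈ R, b a = 1 := by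
    intro a ha
    have hcen : y ^ r * a = a * y ^ r := by
      apply Units.ext
      rw [Units.val_mul, Units.val_mul, hz]
      simp
    have e1 := hF9 a ha r
    rw [hcen] at e1
    have e2 : (b a) ^ r = 1 := by
      have : (b a) ^ r * (a * y ^ r) = 1 * (a * y ^ r) := by rw [one_mul, ← mul_assoc]; exact e1.symm
      exact mul_right_cancel this
    obtain ⟨m, hm⟩ := hr
    rw [hm, pow_succ, pow_mul, pow_two, hF8 a ha, one_pow, one_mul] at e2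
    exact e2
  -- y commutes with R
  have hcommR : ∀ g ∈ R, (y : M4 F) * (g : M4 F) = (g : M4 F) * (y : M4 F) := by
    intro g hg
    have e1 := hF10 g hg
    have e2 : y * g = g * y := by
      calc y * g = (y * g * y⁻¹ * g⁻¹) * (g * y) := by group
        _ = g * y := by rw [show y * g * y⁻¹ * g⁻¹ = b g from rfl, e1, one_mul]
    rw [← Units.val_mul, e2, Units.val_mul]
  obtain ⟨c₀, hc₀⟩ := h.comm (y : M4 F) hcommR
  obtain ⟨v₀, hv₀, hv₀1, -⟩ := c6pnpr_two_func w w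
  have e1 : (y : M4 F) *ᵥ v₀ = c • v₀ := by rw [hY, c6pnpr_mulVec, hv₀1]; simp
  rw [hc₀, Matrix.smul_mulVec, Matrix.one_mulVec] at e1
  have e2 : (c₀ - c) • v₀ = 0 := by rw [sub_smul, e1, sub_self]
  have e3 : c₀ = c := by
    rcases smul_eq_zero.mp e2 with h0 | h0
    · exact sub_eq_zero.mp h0
    · exact absurd h0 hv₀
  rw [hc₀, e3] at hY
  have e4 : Matrix.vecMulVec u w = 0 := by
    have := hY
    simpa using this
  obtain ⟨a, ha⟩ := Function.ne_iff.mp hu0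
  obtain ⟨b', hb'⟩ := Function.ne_iff.mp hw0
  have := congrFun (congrFun e4 a) b'
  rw [Matrix.vecMulVec_apply] at this
  simp at this
  rcases this with h0 | h0
  · exact ha h0
  · exact hb' h0

end Cfsg.Agent.Lib.Helper10.C6P
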