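import Mathlib
import Cfsg.Agent.Lib.Helper10.C6P.Defs
import Cfsg.Agent.Lib.Helper28.C6PNAVG
import Cfsg.Agent.Lib.Helper28.C6PNTR0

set_option autoImplicit false

namespace Cfsg.Agent.Lib.Helper10.C6P

open Matrix

variable {F : Type*} [Field F]

/-- the commutator `g y g⁻¹ y⁻¹` (`g ∈ R`, `y ∈ N(R)`, `y^r = 1`, `r` odd) has trace `4` if `g` centralizes `y`, else `0` -/
theorem c6pntf_term {i : F} {R : Subgroup (GL (Fin 4) F)} (h : RCtx i R) (y : GL (Fin 4) F)
    (hy : y ∈ Cfsg.Geo.subgroupNormalizer R) (r : ℕ) (hr : Odd r) (hyr : y ^ r = 1) (g : GL (Fin 4) F) (hg : g ∈ R)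
    [Decidable (g ∈ Subgroup.centralizer ({y} : Set (GL (Fin 4) F)))] :
    Matrix.trace ((g : M4 F) * (y : M4 F) * ((g⁻¹ : GL (Fin 4) F) : M4 F) * ((y⁻¹ : GL (Fin 4) F) : M4 F)) =
      if g ∈ Subgroup.centralizer ({y} : Set (GL (Fin 4) F)) then (4 : F) else 0 := by
  have hval : (g : M4 F) * (y : M4 F) * ((g⁻¹ : GL (Fin 4) F) : M4 F) * ((y⁻¹ : GL (Fin 4) F) : M4 F) =
      ((g * y * g⁻¹ * y⁻¹ : GL (Fin 4) F) : M4 F) := by
    simp only [Units.val_mul]
  rw [hval]
  have heR : g * y * g⁻¹ * y⁻¹ ∈ R := by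
    have h1 : y * g⁻¹ * y⁻¹ ∈ R := (Subgroup.mem_normalizer_iff.mp hy g⁻¹).mp (R.inv_mem hg)
    have h2 : g * y * g⁻¹ * y⁻¹ = g * (y * g⁻¹ * y⁻¹) := by group
    rw [h2]; exact R.mul_mem hg h1
  have hcent : g ∈ Subgroup.centralizer ({y} : Set (GL (Fin 4) F)) ↔ g * y * g⁻¹ * y⁻¹ = 1 := by
    rw [Subgroup.mem_centralizer_iff]
    constructor
    · intro hc
      have := hc y (Set.mem_singleton y)
      calc g * y * g⁻¹ * y⁻¹ = (g * y) * g⁻¹ * y⁻¹ := by group
        _ = (y * g) * g⁻¹ * y⁻¹ := by rw [this]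
        _ = 1 := by group
    · intro he k hk
      rw [Set.mem_singleton_iff] at hk
      subst hk
      calc k * g = (g * k * g⁻¹ * k⁻¹)⁻¹ * (g * k) := by group
        _ = g * k := by rw [he]; group
  by_cases hc : g ∈ Subgroup.centralizer ({y} : Set (GL (Fin 4) F))
  · rw [if_pos hc, hcent.mp hc]
    simp [Matrix.trace_one]
  · rw [if_neg hc]
    apply trace_zero h _ heR
    intro c hcs
    apply hc
    rw [hcent]
    -- `e = c • 1` central
    generalize he : g * y * g⁻¹ * y⁻¹ = e at hcs heR ⊢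
    have hecomm : ∀ k : GL (Fin 4) F, Commute e k := by
      intro k
      apply Units.ext
      rw [Units.val_mul, Units.val_mul, hcs]
      simp
    have h1 : g * y * g⁻¹ = e * y := by rw [← he]; group
    have h2 : (g * y * g⁻¹) ^ r = 1 := by
      rw [show g * y * g⁻¹ = (MulAut.conj g) y from rfl, ← map_pow, hyr, map_one]
    rw [h1, (hecomm y).mul_pow, hyr, mul_one] at h2
    have h3 : c ^ r = 1 := by
      have := congrArg (fun M : GL (Fin 4) F => (M : M4 F) 0 0) h2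
      simp only [Units.val_pow_eq_pow_val, hcs, Units.val_one] at this
      rw [smul_pow, one_pow] at this
      simpa using this
    have h4 : c ^ 4 = 1 := h.scal e heR c hcs
    have h5 : c ^ (Nat.gcd r 4) = 1 := pow_gcd_eq_one.mpr ⟨h3, h4⟩
    have h6 : Nat.gcd r 4 = 1 := by
      have : Nat.Coprime r (2 ^ 2) := Nat.Coprime.pow_right 2 (Nat.coprime_two_right.mpr hr)
      exact this
    rw [h6, pow_one] at h5
    apply Units.ext
    rw [hcs, h5, one_smul]; rfl

/-- NTF -/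
theorem trace_formula {i : F} {R : Subgroup (GL (Fin 4) F)} (h : RCtx i R) (y : GL (Fin 4) F)
    (hy : y ∈ Cfsg.Geo.subgroupNormalizer R) (r : ℕ) (hr : Odd r) (hyr : y ^ r = 1) :
    (4 : F) * Matrix.trace (y : M4 F) * Matrix.trace ((y⁻¹ : GL (Fin 4) F) : M4 F) =
      (Nat.card ((Subgroup.centralizer ({y} : Set (GL (Fin 4) F))).subgroupOf R) : F) := by
  classical
  have : Finite R := Nat.finite_of_card_ne_zero (by rw [h.card]; norm_num)
  have : Fintype R := Fintype.ofFinite R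
  have h4 : (4 : F) ≠ 0 := by
    have h2 := h.two
    have : (4 : F) = 2 * 2 := by norm_num
    rw [this]
    exact mul_ne_zero h2 h2
  have havg := avg_eq h (y : M4 F)
  rw [finsum_eq_sum_of_fintype] at havg
  have h1 : ∑ g : R, Matrix.trace (((g : GL (Fin 4) F) : M4 F) * (y : M4 F) *
      (((g : GL (Fin 4) F)⁻¹ : GL (Fin 4) F) : M4 F) * ((y⁻¹ : GL (Fin 4) F) : M4 F)) =
      (16 : F) * Matrix.trace (y : M4 F) * Matrix.trace ((y⁻¹ : GL (Fin 4) F) : M4 F) := by
    have := congrArg (fun M => Matrix.trace (M * ((y⁻¹ : GL (Fin 4) F) : M4 F))) havg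
    simp only [Finset.sum_mul, Matrix.trace_sum, Matrix.smul_mul, Matrix.one_mul, Matrix.trace_smul,
      smul_eq_mul] at this
    exact this
  have h2 : ∑ g : R, Matrix.trace (((g : GL (Fin 4) F) : M4 F) * (y : M4 F) *
      (((g : GL (Fin 4) F)⁻¹ : GL (Fin 4) F) : M4 F) * ((y⁻¹ : GL (Fin 4) F) : M4 F)) =
      ∑ g : R, if (g : GL (Fin 4) F) ∈ Subgroup.centralizer ({y} : Set (GL (Fin 4) F)) then (4 : F) else 0 := by
    apply Finset.sum_congr rfl
    intro g _
    exact c6pntf_term h y hy r hr hyr g g.2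
  rw [h2, Finset.sum_ite, Finset.sum_const, Finset.sum_const_zero, add_zero, nsmul_eq_mul] at h1
  have h3 : Nat.card ((Subgroup.centralizer ({y} : Set (GL (Fin 4) F))).subgroupOf R) =
      (Finset.filter (fun g : R => (g : GL (Fin 4) F) ∈ Subgroup.centralizer ({y} : Set (GL (Fin 4) F))) Finset.univ).card := by
    rw [Nat.card_eq_fintype_card, ← Fintype.card_subtype]
    apply Fintype.card_congr
    exact Equiv.refl _
  rw [h3]
  have h5 : (4 : F) * ((Finset.filter (fun g : R => (g : GL (Fin 4) F) ∈ Subgroup.centralizer ({y} : Set (GL (Fin 4) F))) Finset.univ).card : F) =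
      4 * (4 * Matrix.trace (y : M4 F) * Matrix.trace ((y⁻¹ : GL (Fin 4) F) : M4 F)) := by
    rw [mul_comm, h1]; ring
  exact (mul_left_cancel₀ h4 h5).symm

end Cfsg.Agent.Lib.Helper10.C6P
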