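import Mathlib
import Cfsg.Agent.Lib.Helper10.C6P.Defs
import Cfsg.Agent.Lib.helper6.C6PE2core
import Cfsg.Agent.Lib.helper23.C6PE2SQ
import Cfsg.Agent.Lib.Helper26.C6PLINV
import Cfsg.Agent.Lib.Helper16.C6PE2W
import Cfsg.Agent.Lib.Helper9.C6PCONJ
import Cfsg.Agent.Lib.Helper9.C6PE3core
import Cfsg.Agent.Lib.Helper11.C6PE3Wcore
import Cfsg.Agent.Lib.Helper11.C6PE5Wcore
import Cfsg.Agent.Lib.Helper27.C6PEROOT
import Cfsg.Agent.Lib.helper7.C6PWCZ

set_option autoImplicit false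

/-!
# C6P : the three sufficiency statements assembled from the landed cores (helper10's copies under prefixed names, used by `Cfsg/Agent/S6000.lean`).
-/

namespace Cfsg.Agent.Lib.Helper10.C6P

open Polynomial Matrix

variable {F : Type*} [Field F]

section fin

variable [Fintype F] {p : ℕ} [Fact p.Prime] [CharP F p]

theorem c6pfin_suff_two (hF : Fintype.card F = p) (hp4 : p % 4 = 1) {i : F} {R : Subgroup (GL (Fin 4) F)} (hctx : RCtx i R)
    (hstd : HasStd i R) : AllFix R 2 := by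
  have h2 : ((2 : ℕ) : F) ≠ 0 := by
    have := hctx.two
    exact_mod_cast this
  exact c6pe2_core (fun x hx z hz => sq_of_sq hF i hctx.hi x hx z hz)
    (fun u hu h1 h1' => linv hctx.two u hu h1 h1')
    (fun j hj1 hj3 => wit_two hstd hctx.two j hj1 hj3)
    (fun x hx w hw y hy hur hyr hc => conj_into R 2 h2 x hx w hw y hy hur hyr hc)

theorem c6pfin_wit_three (hF : Fintype.card F = p) (hp3 : p % 3 = 2) {i : F} {R : Subgroup (GL (Fin 4) F)} (hstd : HasStd i R) (h2 : (2 : F) ≠ 0) :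
    (∃ y : M4 F, Nrm R y ∧ y ^ 3 = 1 ∧ y.charpoly = (X ^ 2 + X + 1 : F[X]) ^ 2) ∧
    (∃ y : M4 F, Nrm R y ∧ y ^ 3 = 1 ∧ y.charpoly = (X - C (1 : F)) ^ 2 * (X ^ 2 + X + 1 : F[X])) := by
  obtain ⟨P, hP⟩ := hstd
  exact c6pe3w_core hF hp3 P h2 (nrm_UB hP h2) (nrm_UA hP h2)

theorem c6pfin_wit_five (hF : Fintype.card F = p) (h5 : orderOf (p : ZMod 5) = 4) {i : F} {R : Subgroup (GL (Fin 4) F)} (hstd : HasStd i R)
    (h2 : (2 : F) ≠ 0) : ∃ y : M4 F, Nrm R y ∧ y ^ 5 = 1 ∧ y.charpoly = cyclotomic 5 F := by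
  obtain ⟨P, hP⟩ := hstd
  exact c6pe5w_core hF h5 P hP.1 h2 (nrm_Y5 hP h2)

theorem c6pfin_suff_three (hF : Fintype.card F = p) (hp4 : p % 4 = 1) (hp3 : p % 3 = 2) {i : F} {R : Subgroup (GL (Fin 4) F)}
    (hctx : RCtx i R) (hstd : HasStd i R) : AllFix R 3 := by
  have hp : p.Prime := Fact.out
  have h3 : ((3 : ℕ) : F) ≠ 0 := by
    have := c6pe3w_three_ne (F := F) hp3
    exact_mod_cast this
  have hmon : (X ^ 2 + X + 1 : F[X]).Monic := c6pe3w_monic_quad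
  have hdeg : (X ^ 2 + X + 1 : F[X]).natDegree = 2 := by
    compute_degree!
  have hcop : Nat.Coprime 3 (p - 1) := by
    rw [Nat.Prime.coprime_iff_not_dvd Nat.prime_three]
    have h5le : 2 ≤ p := hp.two_le
    omega
  obtain ⟨⟨y1, hy1N, hy1r, hy1c⟩, ⟨y2, hy2N, hy2r, hy2c⟩⟩ := c6pfin_wit_three hF hp3 hstd hctx.two
  refine c6pe3_core R 3 (by norm_num) h3 (X ^ 2 + X + 1) hmon (irr_three hF hp3) (by simp only [map_one]; ring)
    (fun z hz => exists_root hF 3 hcop z hz) ?_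
  intro j k hjk hj4
  rw [hdeg] at hjk
  have hcases : (j = 2 ∧ k = 1) ∨ (j = 0 ∧ k = 2) := by omega
  rcases hcases with ⟨hj, hk⟩ | ⟨hj, hk⟩
  · subst hj; subst hk
    exact ⟨y2, hy2N, hy2r, by rw [hy2c, pow_one]⟩
  · subst hj; subst hk
    exact ⟨y1, hy1N, hy1r, by rw [hy1c, pow_zero, one_mul]⟩

theorem c6pfin_suff_five (hF : Fintype.card F = p) (hp4 : p % 4 = 1) (h5 : orderOf (p : ZMod 5) = 4) {i : F} {R : Subgroup (GL (Fin 4) F)}
    (hctx : RCtx i R) (hstd : HasStd i R) : AllFix R 5 := by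
  have hp : p.Prime := Fact.out
  obtain ⟨hp5, hcop⟩ := c6pe5w_arith (p := p) h5
  have h5F : ((5 : ℕ) : F) ≠ 0 := by
    intro h0
    rw [CharP.cast_eq_zero_iff F p 5] at h0
    exact hp5 ((Nat.prime_dvd_prime_iff_eq hp (by norm_num)).mp h0)
  have hdeg : (cyclotomic 5 F).natDegree = 4 := by
    rw [natDegree_cyclotomic]; rfl
  obtain ⟨y, hyN, hyr, hyc⟩ := c6pfin_wit_five hF h5 hstd hctx.two
  refine c6pe3_core R 5 (by norm_num) h5F (cyclotomic 5 F) (cyclotomic.monic 5 F) (irr_five hF h5) ?_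
    (fun z hz => exists_root hF 5 hcop z hz) ?_
  · have hf5 : Fact (Nat.Prime 5) := ⟨by norm_num⟩
    have := cyclotomic_prime_mul_X_sub_one F 5
    rw [mul_comm, map_one]; exact this
  · intro j k hjk hj4
    rw [hdeg] at hjk
    have hcases : j = 0 ∧ k = 1 := by omega
    obtain ⟨hj, hk⟩ := hcases
    subst hj; subst hk
    exact ⟨y, hyN, hyr, by rw [hyc, pow_zero, one_mul, pow_one]⟩

end fin

end Cfsg.Agent.Lib.Helper10.C6P
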