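import Mathlib
import Cfsg.Agent.Lib.Helper28.CD3.Defs
import Cfsg.Agent.Lib.Helper25.ItoSolvable
import Cfsg.Agent.Lib.helper7.BlockDefect2
import Cfsg.Agent.Lib.helper7.CliffordSub
import Cfsg.Agent.S0887

/-!
# Project CD3, piece OVER (helper10): characters lying over a character of a normal subgroup
-/

set_option autoImplicit false
open scoped commutatorElement

namespace Cfsg.Agent.Lib.Helper28.CD3

universe u

section basics
variable {G : Type u} [Group G] [Finite G]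

/-- a character over `θ` (nonzero inner product of the restriction) with the divisibility properties
of S0887 -/
theorem cd3over_core [Fintype G] (N : Subgroup G) [N.Normal] [Fintype N]
    (θ : Cfsg.IrrCharacter N) :
    ∃ χ : Cfsg.IrrCharacter G,
      Cfsg.classInner (fun n : N => (χ : G → ℂ) n) (θ : N → ℂ) ≠ 0 ∧
      Cfsg.charDegree (θ : N → ℂ) ∣ Cfsg.charDegree (χ : G → ℂ) ∧
      Cfsg.charDegree (χ : G → ℂ) / Cfsg.charDegree (θ : N → ℂ) ∣ N.index := by
  classical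
  obtain ⟨χ, hχ⟩ := Cfsg.Agent.Lib.Helper25.itn_exists_over N θ
  refine ⟨χ, hχ, ?_⟩
  have h1 := (Cfsg.Agent.Lib.helper7.h7_charDegree_props χ).2.2
  have h2 := (Cfsg.Agent.Lib.helper7.h7_charDegree_props θ).2.2
  exact Cfsg.Agent.S0887.result N (χ : G → ℂ) χ.2 (θ : N → ℂ) θ.2 hχ
    (Cfsg.charDegree (χ : G → ℂ)) (Cfsg.charDegree (θ : N → ℂ)) h1.symm h2.symm

-- piece OVER  (uses landed S0887 = degree ratio divides index)
theorem over_exists (N : Subgroup G) [N.Normal] (θ : Cfsg.IrrCharacter N) :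
    ∃ χ : Cfsg.IrrCharacter G, Cfsg.charDegree (θ : N → ℂ) ∣ Cfsg.charDegree (χ : G → ℂ) ∧
      Cfsg.charDegree (χ : G → ℂ) / Cfsg.charDegree (θ : N → ℂ) ∣ N.index := by
  classical
  have := Fintype.ofFinite G
  have : Fintype N := Fintype.ofFinite N
  obtain ⟨χ, _, h⟩ := cd3over_core N θ
  exact ⟨χ, h⟩

theorem over_exists_sub (A B : Subgroup G) [A.Normal] (hAB : A ≤ B) (φ : Cfsg.IrrCharacter A) :
    ∃ ψ : Cfsg.IrrCharacter B, Cfsg.charDegree (φ : A → ℂ) ∣ Cfsg.charDegree (ψ : B → ℂ) := by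
  have hn : (A.subgroupOf B).Normal := Subgroup.normal_subgroupOf
  let e : A.subgroupOf B ≃* A := Subgroup.subgroupOfEquivOfLe hAB
  let φ' : Cfsg.IrrCharacter (A.subgroupOf B) :=
    ⟨fun a => (φ : A → ℂ) (e a), Cfsg.Agent.Lib.helper7.h7_isIrr_comp_equiv e _ φ.2⟩
  obtain ⟨ψ, h1, _⟩ := over_exists (G := B) (A.subgroupOf B) φ'
  refine ⟨ψ, ?_⟩
  have : Cfsg.charDegree (φ' : A.subgroupOf B → ℂ) = Cfsg.charDegree (φ : A → ℂ) := by
    unfold Cfsg.charDegree
    show ⌊((φ : A → ℂ) (e 1)).re⌋₊ = _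
    rw [map_one]
  rw [← this]
  exact h1

end basics

end Cfsg.Agent.Lib.Helper28.CD3
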