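import Mathlib
import Cfsg.Agent.Lib.Helper28.CD3.Defs
import Cfsg.Agent.Lib.Helper10.CD3OVER

/-!
# Project CD3, piece PCOMPL (helper10): the degrees of the irreducible characters of a normal
`p`-complement are the `p'`-parts of degrees of `G`
-/

set_option autoImplicit false
open scoped commutatorElement

namespace Cfsg.Agent.Lib.Helper28.CD3

universe u

section partA
variable {G : Type u} [Group G] [Finite G]

/-- arithmetic: `d` prime to `p`, `d ∣ c`, `c / d ∣ p ^ k`  =>  `d` is the `p'`-part of `c` -/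
theorem cd3pcompl_arith (p : ℕ) (hp : p.Prime) (c d k : ℕ) (hd0 : 0 < d) (hcop : d.Coprime p)
    (hdc : d ∣ c) (hq : c / d ∣ p ^ k) : d = ordCompl[p] c := by
  obtain ⟨j, _, hj⟩ := (Nat.dvd_prime_pow hp).mp hq
  obtain ⟨e, rfl⟩ := hdc
  rw [Nat.mul_div_cancel_left _ hd0] at hj
  subst hj
  rw [Nat.ordCompl_mul, Nat.ordCompl_self_pow hp, mul_one]
  have : d.factorization p = 0 := by
    apply Nat.factorization_eq_zero_of_not_dvd
    intro h
    have := Nat.Coprime.eq_one_of_dvd hcop.symm h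
    exact hp.one_lt.ne' this
  rw [this, pow_zero, Nat.div_one]

-- piece PCOMPL
theorem pcompl_degree (p : ℕ) (hp : p.Prime) (N : Subgroup G) [N.Normal]
    (hN : (Nat.card N).Coprime p) (hidx : ∃ k : ℕ, N.index = p ^ k) (θ : Cfsg.IrrCharacter N) :
    ∃ χ : Cfsg.IrrCharacter G,
      Cfsg.charDegree (θ : N → ℂ) = ordCompl[p] (Cfsg.charDegree (χ : G → ℂ)) := by
  obtain ⟨χ, h1, h2⟩ := over_exists N θ
  obtain ⟨k, hk⟩ := hidx
  refine ⟨χ, ?_⟩
  have hθ := Cfsg.Agent.Lib.helper7.h7_charDegree_props θ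
  apply cd3pcompl_arith p hp _ _ k hθ.2.1 _ h1 (hk ▸ h2)
  exact Nat.Coprime.coprime_dvd_left hθ.1 hN

end partA

end Cfsg.Agent.Lib.Helper28.CD3
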