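import Mathlib
import Cfsg.Agent.Lib.Helper28.CD3.Defs
import Cfsg.Agent.Lib.Helper25.ItoSolvable
import Cfsg.Agent.Lib.helper7.BlockDefect2
import Cfsg.Agent.Lib.helper7.Clifford
import Cfsg.Agent.Lib.helper2.CharInd
import Cfsg.Agent.Lib.helper2.CharNat
import Cfsg.Agent.S0887

/-!
# Project CD3, piece PQ1 (helper10): if `G/K` is a `p`-group and `p ∤ χ(1)` then `χ|K` is irreducible
-/

set_option autoImplicit false
open scoped commutatorElement

namespace Cfsg.Agent.Lib.Helper28.CD3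

universe u

section partA
variable {G : Type u} [Group G] [Finite G]

-- piece PQ1
theorem restrict_irr_of_pquot (p : ℕ) (hp : p.Prime) (K : Subgroup G) [K.Normal]
    (hK : IsPGroup p (G ⧸ K)) (χ : Cfsg.IrrCharacter G)
    (hχ : ¬ p ∣ Cfsg.charDegree (χ : G → ℂ)) :
    Cfsg.IsIrrCharacter K (fun k : K => (χ : G → ℂ) k) := by
  classical
  have := Fintype.ofFinite G
  have : Fintype K := Fintype.ofFinite K
  have hfact : Fact p.Prime := ⟨hp⟩
  have hχp := Cfsg.Agent.Lib.helper7.h7_charDegree_props χ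
  -- an irreducible constituent of the restriction
  have hR : Cfsg.IsCharacter K (fun k : K => (χ : G → ℂ) k) :=
    Cfsg.Agent.Lib.helper2.isCharacter_restrict (Cfsg.Agent.Lib.helper2.isCharacter_of_irr χ) K
  have h1 : (fun k : K => (χ : G → ℂ) k) 1 ≠ 0 := by
    show (χ : G → ℂ) ((1 : K) : G) ≠ 0
    rw [Subgroup.coe_one, ← hχp.2.2]
    exact_mod_cast hχp.2.1.ne'
  obtain ⟨θ, m, hm, hθ⟩ := Cfsg.Agent.Lib.helper2.isCharacter_exists_constituent hR h1
  have hcon : Cfsg.classInner (fun k : K => (χ : G → ℂ) k) (θ : K → ℂ) ≠ 0 := by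
    rw [hθ]
    exact_mod_cast hm.ne'
  have hθp := Cfsg.Agent.Lib.helper7.h7_charDegree_props θ
  -- degrees
  obtain ⟨hd1, hd2⟩ := Cfsg.Agent.S0887.result K (χ : G → ℂ) χ.2 (θ : K → ℂ) θ.2 hcon
    (Cfsg.charDegree (χ : G → ℂ)) (Cfsg.charDegree (θ : K → ℂ)) hχp.2.2.symm hθp.2.2.symm
  obtain ⟨k, hk⟩ := IsPGroup.exists_card_eq hK
  rw [← Subgroup.index_eq_card] at hk
  rw [hk] at hd2
  obtain ⟨j, _, hj⟩ := (Nat.dvd_prime_pow hp).mp hd2
  have hj0 : j = 0 := by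
    by_contra hne
    apply hχ
    obtain ⟨c, hc⟩ := hd1
    rw [hc, Nat.mul_div_cancel_left _ hθp.2.1] at hj
    rw [hc, hj]
    exact Dvd.dvd.mul_left (dvd_pow_self p hne) _
  have hdeg : Cfsg.charDegree (χ : G → ℂ) = Cfsg.charDegree (θ : K → ℂ) := by
    obtain ⟨c, hc⟩ := hd1
    rw [hc, Nat.mul_div_cancel_left _ hθp.2.1, hj0, pow_zero] at hj
    rw [hc, hj, mul_one]
  -- Clifford
  obtain ⟨e, he, _, hcl⟩ :=
    Cfsg.Agent.Lib.helper7.h7_clifford K (χ : G → ℂ) χ.2 (θ : K → ℂ) θ.2 hcon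
  set S := Finset.univ.image (fun g : G => Cfsg.Agent.Lib.Helper11.cj K (θ : K → ℂ) g) with hS
  have hθS : (θ : K → ℂ) ∈ S := by
    rw [hS, Finset.mem_image]
    exact ⟨1, Finset.mem_univ _, Cfsg.Agent.Lib.Helper11.cj_one K _⟩
  have h2 : ∀ ψ ∈ S, ψ 1 = (θ : K → ℂ) 1 := by
    intro ψ hψ
    obtain ⟨g, -, rfl⟩ := Finset.mem_image.mp hψ
    rw [Cfsg.Agent.Lib.Helper11.cj_apply]
    apply congrArg
    apply Subtype.ext
    simp
  have h3 := congrFun hcl 1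
  simp only [Pi.smul_apply, Finset.sum_apply, smul_eq_mul] at h3
  rw [Finset.sum_congr rfl h2, Finset.sum_const, nsmul_eq_mul, Subgroup.coe_one, ← hχp.2.2,
    ← hθp.2.2, hdeg] at h3
  have h4 : (Cfsg.charDegree (θ : K → ℂ)) = e * (S.card * Cfsg.charDegree (θ : K → ℂ)) := by
    exact_mod_cast h3
  have h5 : e * S.card = 1 := by
    have h6 : 1 * Cfsg.charDegree (θ : K → ℂ) = (e * S.card) * Cfsg.charDegree (θ : K → ℂ) := by
      rw [one_mul, mul_assoc]; exact h4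
    exact (Nat.eq_of_mul_eq_mul_right hθp.2.1 h6).symm
  have he1 : e = 1 := Nat.eq_one_of_mul_eq_one_right h5
  have hS1 : S.card = 1 := Nat.eq_one_of_mul_eq_one_left h5
  obtain ⟨ψ0, hψ0⟩ := Finset.card_eq_one.mp hS1
  have hθψ : (θ : K → ℂ) = ψ0 := by
    rw [hψ0, Finset.mem_singleton] at hθS
    exact hθS
  have hfin : (fun k : K => (χ : G → ℂ) k) = (θ : K → ℂ) := by
    rw [hcl, hψ0, Finset.sum_singleton, he1, Nat.cast_one, one_smul, hθψ]
  rw [hfin]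
  exact θ.2

end partA

end Cfsg.Agent.Lib.Helper28.CD3
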