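import Mathlib
import Cfsg.Agent.Lib.Helper1.MinNormal

set_option autoImplicit false

namespace Cfsg.Agent.Lib.Helper10.Carter

open scoped Pointwise

universe u

variable {G : Type u} [Group G]

def IsCarter (C : Subgroup G) : Prop :=
  Group.IsNilpotent C ∧ Subgroup.normalizer (C : Set G) = C

theorem mem_conj_smul {H : Subgroup G} {g x : G} :
    x ∈ MulAut.conj g • H ↔ g⁻¹ * x * g ∈ H := by
  rw [Subgroup.mem_pointwise_smul_iff_inv_smul_mem]
  simp [MulAut.smul_def]

theorem conj_mem_conj_smul {H : Subgroup G} {g x : G} (hx : x ∈ H) :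
    g * x * g⁻¹ ∈ MulAut.conj g • H := by
  rw [mem_conj_smul]
  have : g⁻¹ * (g * x * g⁻¹) * g = x := by group
  rw [this]; exact hx

theorem normalizer_conj_smul (H : Subgroup G) (g : G) :
    Subgroup.normalizer ((MulAut.conj g • H : Subgroup G) : Set G) =
      MulAut.conj g • Subgroup.normalizer (H : Set G) := by
  ext x
  rw [mem_conj_smul, Subgroup.mem_normalizer_iff, Subgroup.mem_normalizer_iff]
  constructor
  · intro h y
    have := h (g * y * g⁻¹)
    rw [mem_conj_smul, mem_conj_smul] at this
    have e1 : g⁻¹ * (g * y * g⁻¹) * g = y := by group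
    have e2 : g⁻¹ * (x * (g * y * g⁻¹) * x⁻¹) * g = g⁻¹ * x * g * y * (g⁻¹ * x * g)⁻¹ := by group
    rw [e1, e2] at this
    exact this
  · intro h y
    rw [mem_conj_smul, mem_conj_smul]
    have := h (g⁻¹ * y * g)
    have e2 : g⁻¹ * x * g * (g⁻¹ * y * g) * (g⁻¹ * x * g)⁻¹ = g⁻¹ * (x * y * x⁻¹) * g := by group
    rw [e2] at this
    exact this

theorem IsCarter.conj {C : Subgroup G} (h : IsCarter C) (g : G) : IsCarter (MulAut.conj g • C) := by
  refine ⟨?_, ?_⟩
  · have := h.1
    exact Group.nilpotent_of_mulEquiv (Subgroup.equivSMul (MulAut.conj g) C)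
  · rw [normalizer_conj_smul, h.2]

theorem eq_top_of_self_normalizing {G' : Type*} [Group G'] (f : G →* G')
    (hf : Function.Surjective f) [Group.IsNilpotent G'] (H : Subgroup G) (hker : f.ker ≤ H)
    (hH : Subgroup.normalizer (H : Set G) = H) : H = ⊤ := by
  have hnc := (normalizerCondition_iff_only_full_group_self_normalizing (G := G')).1
    Group.normalizerCondition_of_isNilpotent (H.map f)
  have h1 : Subgroup.normalizer ((H.map f : Subgroup G') : Set G') = H.map f := by
    apply le_antisymm _ Subgroup.le_normalizer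
    intro y hy
    obtain ⟨x, rfl⟩ := hf y
    have : x ∈ (Subgroup.normalizer ((H.map f : Subgroup G') : Set G')).comap f := hy
    rw [Subgroup.comap_normalizer_eq_of_surjective _ hf, Subgroup.comap_map_eq_self hker, hH] at this
    exact Subgroup.mem_map_of_mem f this
  have h2 := hnc h1
  rw [← Subgroup.comap_map_eq_self hker, h2, Subgroup.comap_top]

theorem IsCarter.eq_top_of_nilpotent [Group.IsNilpotent G] {C : Subgroup G} (h : IsCarter C) :
    C = ⊤ :=
  eq_top_of_self_normalizing (MonoidHom.id G) (fun x => ⟨x, rfl⟩) C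
    (by rw [MonoidHom.ker_id]; exact bot_le) h.2

theorem isCarter_top [Group.IsNilpotent G] : IsCarter (⊤ : Subgroup G) := by
  refine ⟨inferInstance, ?_⟩
  exact Subgroup.normalizer_eq_top_iff.2 inferInstance

theorem IsCarter.subgroupOf {C K : Subgroup G} (h : IsCarter C) (hCK : C ≤ K) :
    IsCarter (C.subgroupOf K) := by
  refine ⟨?_, ?_⟩
  · have := h.1
    exact Group.nilpotent_of_mulEquiv (Subgroup.subgroupOfEquivOfLe hCK).symm
  · apply le_antisymm _ Subgroup.le_normalizer
    intro x hx
    rw [Subgroup.mem_subgroupOf]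
    rw [← h.2, Subgroup.mem_normalizer_iff]
    rw [Subgroup.mem_normalizer_iff] at hx
    intro y
    by_cases hy : y ∈ K
    · have := hx ⟨y, hy⟩
      rw [Subgroup.mem_subgroupOf, Subgroup.mem_subgroupOf] at this
      exact this
    · constructor
      · intro hyC; exact absurd (hCK hyC) hy
      · intro hyC
        exfalso; apply hy
        have h1 := hCK hyC
        have h2 : y = (x : G)⁻¹ * ((x : G) * y * (x : G)⁻¹) * (x : G) := by group
        rw [h2]
        exact K.mul_mem (K.mul_mem (K.inv_mem x.2) h1) x.2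

theorem IsCarter.map_subtype {K : Subgroup G} {C₀ : Subgroup K} (h : IsCarter C₀) :
    Group.IsNilpotent (C₀.map K.subtype) ∧
      Subgroup.normalizer ((C₀.map K.subtype : Subgroup G) : Set G) ⊓ K = C₀.map K.subtype := by
  refine ⟨?_, ?_⟩
  · have := h.1
    exact Group.nilpotent_of_mulEquiv (C₀.equivMapOfInjective K.subtype K.subtype_injective)
  · apply le_antisymm
    · intro x hx
      obtain ⟨hxn, hxK⟩ := Subgroup.mem_inf.1 hx
      have : (⟨x, hxK⟩ : K) ∈ Subgroup.normalizer (C₀ : Set K) := by
        rw [Subgroup.mem_normalizer_iff]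
        intro y
        rw [Subgroup.mem_normalizer_iff] at hxn
        have := hxn y
        constructor
        · intro hy
          have h1 := this.1 (Subgroup.mem_map_of_mem K.subtype hy)
          obtain ⟨z, hz, hze⟩ := Subgroup.mem_map.1 h1
          have : z = ⟨x, hxK⟩ * y * ⟨x, hxK⟩⁻¹ := Subtype.ext (by
            have : (z : G) = x * ↑y * x⁻¹ := hze
            rw [this]; rfl)
          rw [← this]; exact hz
        · intro hy
          have h1 := this.2 (Subgroup.mem_map_of_mem K.subtype hy)
          obtain ⟨z, hz, hze⟩ := Subgroup.mem_map.1 h1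
          have : z = y := Subtype.ext hze
          rw [← this]; exact hz
      rw [h.2] at this
      exact Subgroup.mem_map_of_mem K.subtype this
    · intro x hx
      refine ⟨Subgroup.le_normalizer hx, ?_⟩
      obtain ⟨z, _, rfl⟩ := Subgroup.mem_map.1 hx
      exact z.2

end Cfsg.Agent.Lib.Helper10.Carter
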