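import Mathlib
import Cfsg.Agent.Lib.Helper10.Carter1
import Cfsg.Agent.Lib.Lead.Coprime

set_option autoImplicit false

namespace Cfsg.Agent.Lib.Helper10.Carter

open scoped Pointwise
open Cfsg.Agent.Lib.Lead

universe u

variable {G : Type u} [Group G]

def ConjBelow (n : ℕ) : Prop :=
  ∀ (H : Type u) [Group H] [Finite H] [Group.IsSolvable H], Nat.card H < n →
    ∀ C D : Subgroup H, IsCarter C → IsCarter D → ∃ g : H, MulAut.conj g • C = D

def ExBelow (n : ℕ) : Prop :=
  ∀ (H : Type u) [Group H] [Finite H] [Group.IsSolvable H], Nat.card H < n →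
    ∃ C : Subgroup H, IsCarter C

theorem conj_in_subgroup [Finite G] [Group.IsSolvable G] {n : ℕ} (hconj : ConjBelow.{u} n)
    (H : Subgroup G) (hH : Nat.card H < n) {C D : Subgroup G} (hC : IsCarter C) (hD : IsCarter D)
    (hCH : C ≤ H) (hDH : D ≤ H) : ∃ x ∈ H, MulAut.conj x • C = D := by
  obtain ⟨x, hx⟩ := hconj H hH (C.subgroupOf H) (D.subgroupOf H) (hC.subgroupOf hCH)
    (hD.subgroupOf hDH)
  refine ⟨x, x.2, ?_⟩
  ext y
  rw [mem_conj_smul]
  constructor
  · intro hy
    have hyH : y ∈ H := by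
      have h1 := hCH hy
      have h2 : y = (x : G) * ((x : G)⁻¹ * y * x) * (x : G)⁻¹ := by group
      rw [h2]
      exact H.mul_mem (H.mul_mem x.2 h1) (H.inv_mem x.2)
    have : (⟨y, hyH⟩ : H) ∈ MulAut.conj x • C.subgroupOf H := by
      rw [mem_conj_smul, Subgroup.mem_subgroupOf]; exact hy
    rw [hx, Subgroup.mem_subgroupOf] at this
    exact this
  · intro hy
    have hyH := hDH hy
    have : (⟨y, hyH⟩ : H) ∈ D.subgroupOf H := hy
    rw [← hx, mem_conj_smul, Subgroup.mem_subgroupOf] at this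
    exact this

theorem normalizer_sup_normal [Finite G] [Group.IsSolvable G] {n : ℕ} (hconj : ConjBelow.{u} n)
    (hn : Nat.card G ≤ n) {C : Subgroup G} (hC : IsCarter C) (N : Subgroup G) [N.Normal] :
    Subgroup.normalizer ((C ⊔ N : Subgroup G) : Set G) = C ⊔ N := by
  apply le_antisymm _ Subgroup.le_normalizer
  intro g hg
  by_cases htop : C ⊔ N = ⊤
  · rw [htop]; trivial
  · have hlt : Nat.card (C ⊔ N : Subgroup G) < n := by
      have h1 := card_lt_card_of_lt (lt_top_iff_ne_top.2 htop)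
      rw [Subgroup.card_top] at h1
      exact lt_of_lt_of_le h1 hn
    have hgC : MulAut.conj g • C ≤ C ⊔ N := by
      intro y hy
      rw [mem_conj_smul] at hy
      have := (Subgroup.mem_normalizer_iff.1 hg (g⁻¹ * y * g)).1
        ((le_sup_left : C ≤ C ⊔ N) hy)
      have e : g * (g⁻¹ * y * g) * g⁻¹ = y := by group
      rw [e] at this
      exact this
    obtain ⟨x, hxH, hx⟩ := conj_in_subgroup hconj (C ⊔ N) hlt hC (hC.conj g) le_sup_left hgC
    have h1 : g⁻¹ * x ∈ Subgroup.normalizer (C : Set G) := by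
      rw [← conj_smul_eq_iff, map_mul, mul_smul, hx, ← mul_smul, ← map_mul, inv_mul_cancel,
        map_one, one_smul]
    rw [hC.2] at h1
    have h2 : g = x * (g⁻¹ * x)⁻¹ := by group
    rw [h2]
    exact (C ⊔ N).mul_mem hxH ((C ⊔ N).inv_mem ((le_sup_left : C ≤ C ⊔ N) h1))

end Cfsg.Agent.Lib.Helper10.Carter
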