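import Mathlib
import Cfsg.Agent.Lib.Helper10.Carter2

set_option autoImplicit false

namespace Cfsg.Agent.Lib.Helper10.Carter

open scoped Pointwise
open Cfsg.Agent.Lib.Lead

universe u

variable {G : Type u} [Group G]

theorem comap_conj_smul_map' (A N : Subgroup G) [N.Normal] (g : G) :
    (MulAut.conj (QuotientGroup.mk' N g) • A.map (QuotientGroup.mk' N)).comap (QuotientGroup.mk' N)
      = MulAut.conj g • (A ⊔ N) := by
  ext x
  rw [Subgroup.mem_comap, mem_conj_smul, mem_conj_smul, ← map_inv, ← map_mul, ← map_mul,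
    ← Subgroup.mem_comap, Subgroup.comap_map_eq, QuotientGroup.ker_mk']

theorem isCarter_map_mk [Finite G] [Group.IsSolvable G] {n : ℕ} (hconj : ConjBelow.{u} n)
    (hn : Nat.card G ≤ n) {C : Subgroup G} (hC : IsCarter C) (L : Subgroup G) [L.Normal] :
    IsCarter (C.map (QuotientGroup.mk' L)) := by
  refine ⟨?_, ?_⟩
  · have := hC.1
    exact Group.nilpotent_of_surjective ((QuotientGroup.mk' L).subgroupMap C)
      (MonoidHom.subgroupMap_surjective _ _)
  · apply le_antisymm _ Subgroup.le_normalizer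
    intro y hy
    obtain ⟨x, rfl⟩ := QuotientGroup.mk'_surjective L y
    have h1 : x ∈ (Subgroup.normalizer
        ((C.map (QuotientGroup.mk' L) : Subgroup (G ⧸ L)) : Set (G ⧸ L))).comap
        (QuotientGroup.mk' L) := hy
    rw [Subgroup.comap_normalizer_eq_of_surjective _ (QuotientGroup.mk'_surjective L),
      Subgroup.comap_map_eq, QuotientGroup.ker_mk', normalizer_sup_normal hconj hn hC L] at h1
    have h2 := Subgroup.mem_map_of_mem (QuotientGroup.mk' L) h1
    rw [Subgroup.map_sup, QuotientGroup.map_mk'_self, sup_bot_eq] at h2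
    exact h2

theorem card_quotient_lt [Finite G] (L : Subgroup G) [L.Normal] (hL : L ≠ ⊥) :
    Nat.card (G ⧸ L) < Nat.card G := by
  rw [← Subgroup.index_eq_card, ← Subgroup.card_mul_index L]
  have h1 : 1 < Nat.card L := (Subgroup.one_lt_card_iff_ne_bot L).2 hL
  have h2 : 0 < L.index := Nat.pos_of_ne_zero Subgroup.index_ne_zero_of_finite
  nlinarith

theorem conj_sup_normal [Finite G] [Group.IsSolvable G] {n : ℕ} (hconj : ConjBelow.{u} n)
    (hn : Nat.card G = n) {C D : Subgroup G} (hC : IsCarter C) (hD : IsCarter D)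
    (L : Subgroup G) [L.Normal] (hL : L ≠ ⊥) :
    ∃ g : G, MulAut.conj g • (C ⊔ L) = D ⊔ L := by
  have hcard : Nat.card (G ⧸ L) < n := by rw [← hn]; exact card_quotient_lt L hL
  have hCb := isCarter_map_mk hconj hn.le hC L
  have hDb := isCarter_map_mk hconj hn.le hD L
  obtain ⟨q, hq⟩ := hconj (G ⧸ L) hcard _ _ hCb hDb
  obtain ⟨g, rfl⟩ := QuotientGroup.mk'_surjective L q
  refine ⟨g, ?_⟩
  rw [← comap_conj_smul_map' C L g, hq, Subgroup.comap_map_eq, QuotientGroup.ker_mk']

end Cfsg.Agent.Lib.Helper10.Carter
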