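import Mathlib
import Cfsg.Agent.Lib.Helper10.Carter3
import Cfsg.Agent.Lib.Helper1.Nilp

set_option autoImplicit false

namespace Cfsg.Agent.Lib.Helper10.Carter

open scoped Pointwise
open Cfsg.Agent.Lib.Lead

universe u

variable {G : Type u} [Group G]

theorem normal_of_sup_top {C N M : Subgroup G} (hCN : C ⊔ N = ⊤)
    (hC : ∀ c ∈ C, ∀ m ∈ M, c * m * c⁻¹ ∈ M) (hN : ∀ x ∈ N, ∀ m ∈ M, x * m * x⁻¹ ∈ M) :
    M.Normal := by
  have h1 : C ≤ Subgroup.normalizer (M : Set G) := by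
    intro c hc
    rw [Subgroup.mem_normalizer_iff]
    intro m
    constructor
    · exact hC c hc m
    · intro h
      have := hC c⁻¹ (C.inv_mem hc) _ h
      have e : c⁻¹ * (c * m * c⁻¹) * c⁻¹⁻¹ = m := by group
      rwa [e] at this
  have h2 : N ≤ Subgroup.normalizer (M : Set G) := by
    intro c hc
    rw [Subgroup.mem_normalizer_iff]
    intro m
    constructor
    · exact hN c hc m
    · intro h
      have := hN c⁻¹ (N.inv_mem hc) _ h
      have e : c⁻¹ * (c * m * c⁻¹) * c⁻¹⁻¹ = m := by group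
      rwa [e] at this
  rw [← Subgroup.normalizer_eq_top_iff, eq_top_iff, ← hCN]
  exact sup_le h1 h2

theorem not_nilpotent_ne_top (hnil : ¬ Group.IsNilpotent G) {C : Subgroup G}
    (hC : Group.IsNilpotent C) : C ≠ ⊤ := by
  intro h
  apply hnil
  rw [h] at hC
  exact Group.nilpotent_of_mulEquiv (Subgroup.topEquiv : (⊤ : Subgroup G) ≃* G)

theorem inf_eq_bot_of_sup_top (hnil : ¬ Group.IsNilpotent G) {C : Subgroup G}
    (hC : IsCarter C) (N : Subgroup G) [N.Normal] (hNab : ∀ x ∈ N, ∀ y ∈ N, x * y = y * x)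
    (hmin : ∀ M : Subgroup G, M.Normal → M ≤ N → M = ⊥ ∨ M = N) (hCN : C ⊔ N = ⊤) :
    C ⊓ N = ⊥ := by
  have hnorm : (C ⊓ N).Normal := by
    apply normal_of_sup_top hCN
    · intro c hc m hm
      exact ⟨C.mul_mem (C.mul_mem hc hm.1) (C.inv_mem hc),
        (inferInstance : N.Normal).conj_mem m hm.2 c⟩
    · intro x hx m hm
      have : x * m * x⁻¹ = m := by rw [hNab x hx m hm.2]; group
      rw [this]; exact hm
  rcases hmin _ hnorm inf_le_right with h | h
  · exact h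
  · exfalso
    apply not_nilpotent_ne_top hnil hC.1
    rw [eq_top_iff, ← hCN]
    exact sup_le le_rfl (by rw [← h]; exact inf_le_left)

theorem eq_of_common_central {C D N : Subgroup G} [N.Normal] {z : G} (hzC : z ∈ C) (hzD : z ∈ D)
    (hcent : ∀ c ∈ C, c * z = z * c) (hfix : ∀ y ∈ N, z * y = y * z → y = 1)
    (hCN : C ⊔ N = ⊤) (hDN : D ⊓ N = ⊥) (hCnil : Group.IsNilpotent C)
    (hD : Subgroup.normalizer (D : Set G) = D) : D = C := by
  have hle : D ≤ C := by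
    intro d hd
    have hdt : d ∈ C ⊔ N := by rw [hCN]; trivial
    obtain ⟨c, hc, m, hm, rfl⟩ := Subgroup.mem_sup_of_normal_right.1 hdt
    have hw : z * (c * m) * z⁻¹ * (c * m)⁻¹ ∈ D :=
      D.mul_mem (D.mul_mem (D.mul_mem hzD hd) (D.inv_mem hzD)) (D.inv_mem hd)
    have e : z * (c * m) * z⁻¹ * (c * m)⁻¹ = c * (z * m * z⁻¹ * m⁻¹) * c⁻¹ := by
      have h1 := hcent c hc
      calc z * (c * m) * z⁻¹ * (c * m)⁻¹ = (z * c) * m * z⁻¹ * m⁻¹ * c⁻¹ := by group
        _ = (c * z) * m * z⁻¹ * m⁻¹ * c⁻¹ := by rw [h1]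
        _ = c * (z * m * z⁻¹ * m⁻¹) * c⁻¹ := by group
    have hwN : c * (z * m * z⁻¹ * m⁻¹) * c⁻¹ ∈ N := by
      apply (inferInstance : N.Normal).conj_mem
      exact N.mul_mem ((inferInstance : N.Normal).conj_mem m hm z) (N.inv_mem hm)
    rw [e] at hw
    have h1 : c * (z * m * z⁻¹ * m⁻¹) * c⁻¹ = 1 := by
      have : c * (z * m * z⁻¹ * m⁻¹) * c⁻¹ ∈ D ⊓ N := ⟨hw, hwN⟩
      rw [hDN] at this
      exact Subgroup.mem_bot.1 this
    have h2 : z * m * z⁻¹ * m⁻¹ = 1 := by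
      have : z * m * z⁻¹ * m⁻¹ = c⁻¹ * (c * (z * m * z⁻¹ * m⁻¹) * c⁻¹) * c := by group
      rw [this, h1]; group
    have h3 : z * m = m * z := by
      calc z * m = (z * m * z⁻¹ * m⁻¹) * m * z := by group
        _ = m * z := by rw [h2, one_mul]
    have h4 := hfix m hm h3
    rw [h4, mul_one]
    exact hc
  by_contra hne
  have hlt : D < C := lt_of_le_of_ne hle hne
  obtain ⟨x, _, hxn, hxD⟩ := exists_mem_normalizer_not_mem D C hlt hCnil
  rw [hD] at hxn
  exact hxD hxn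

end Cfsg.Agent.Lib.Helper10.Carter
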