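import Mathlib
import Cfsg.Agent.Lib.Helper10.Carter4

set_option autoImplicit false

namespace Cfsg.Agent.Lib.Helper10.Carter

open scoped Pointwise
open Cfsg.Agent.Lib.Lead

universe u

variable {G : Type u} [Group G]

theorem fixed_trivial_of_exists {C N : Subgroup G} [N.Normal]
    (hNab : ∀ x ∈ N, ∀ y ∈ N, x * y = y * x)
    (hmin : ∀ M : Subgroup G, M.Normal → M ≤ N → M = ⊥ ∨ M = N) (hCN : C ⊔ N = ⊤)
    {z : G} (hcent : ∀ c ∈ C, c * z = z * c) {y0 : G} (hy0N : y0 ∈ N) (hy0 : z * y0 ≠ y0 * z) :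
    ∀ y ∈ N, z * y = y * z → y = 1 := by
  obtain ⟨M, hMdef⟩ : ∃ M : Subgroup G, M = N ⊓ Subgroup.centralizer {z} := ⟨_, rfl⟩
  have hmem : ∀ y, y ∈ M ↔ y ∈ N ∧ z * y = y * z := by
    intro y
    rw [hMdef, Subgroup.mem_inf, Subgroup.mem_centralizer_singleton_iff]
    constructor
    · rintro ⟨h1, h2⟩; exact ⟨h1, h2.symm⟩
    · rintro ⟨h1, h2⟩; exact ⟨h1, h2.symm⟩
  have hnorm : M.Normal := by
    apply normal_of_sup_top hCN
    · intro c hc m hm
      rw [hmem] at hm ⊢
      refine ⟨(inferInstance : N.Normal).conj_mem m hm.1 c, ?_⟩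
      have h1 := hcent c hc
      have h1' : c⁻¹ * z = z * c⁻¹ := by
        calc c⁻¹ * z = c⁻¹ * (z * c) * c⁻¹ := by group
          _ = c⁻¹ * (c * z) * c⁻¹ := by rw [h1]
          _ = z * c⁻¹ := by group
      calc z * (c * m * c⁻¹) = (z * c) * m * c⁻¹ := by group
        _ = (c * z) * m * c⁻¹ := by rw [h1]
        _ = c * (z * m) * c⁻¹ := by group
        _ = c * (m * z) * c⁻¹ := by rw [hm.2]
        _ = c * m * (z * c⁻¹) := by group
        _ = c * m * (c⁻¹ * z) := by rw [h1']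
        _ = c * m * c⁻¹ * z := by group
    · intro x hx m hm
      rw [hmem] at hm
      have : x * m * x⁻¹ = m := by rw [hNab x hx m hm.1]; group
      rw [this, hmem]; exact hm
  have hle : M ≤ N := by rw [hMdef]; exact inf_le_left
  rcases hmin M hnorm hle with h | h
  · intro y hy hzy
    have : y ∈ M := (hmem y).2 ⟨hy, hzy⟩
    rw [h] at this
    exact Subgroup.mem_bot.1 this
  · exfalso
    have : y0 ∈ M := by rw [h]; exact hy0N
    exact hy0 ((hmem y0).1 this).2

theorem conj_bad_case [Finite G] [Group.IsSolvable G] {n : ℕ} (hconj : ConjBelow.{u} n)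
    (hn : Nat.card G = n) (hnil : ¬ Group.IsNilpotent G) {C D : Subgroup G} (hC : IsCarter C)
    (hD : IsCarter D) (N : Subgroup G) [N.Normal] (hNab : ∀ x ∈ N, ∀ y ∈ N, x * y = y * x)
    (hmin : ∀ M : Subgroup G, M.Normal → M ≤ N → M = ⊥ ∨ M = N)
    (hCN : C ⊔ N = ⊤) (hDN : D ⊔ N = ⊤) : ∃ g : G, MulAut.conj g • C = D := by
  have hDi := inf_eq_bot_of_sup_top hnil hD N hNab hmin hDN
  by_cases hall : ∀ z ∈ C, (∀ c ∈ C, c * z = z * c) → ∀ y ∈ N, z * y = y * z
  · obtain ⟨Z, hZdef⟩ : ∃ Z : Subgroup G, Z = (Subgroup.center C).map C.subtype := ⟨_, rfl⟩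
    have hZC : Z ≤ C := by rw [hZdef]; exact Subgroup.map_subtype_le _
    have hZcent : ∀ z ∈ Z, ∀ g : G, g * z = z * g := by
      intro z hz
      rw [hZdef] at hz
      obtain ⟨z', hz', rfl⟩ := Subgroup.mem_map.1 hz
      have h1 : ∀ c ∈ C, c * (z' : G) = z' * c := fun c hc =>
        congrArg Subtype.val (Subgroup.mem_center_iff.1 hz' ⟨c, hc⟩)
      have h2 : ∀ y ∈ N, (z' : G) * y = y * z' := hall z' z'.2 h1
      intro g
      have hg : g ∈ C ⊔ N := by rw [hCN]; trivial
      obtain ⟨c, hc, m, hm, rfl⟩ := Subgroup.mem_sup_of_normal_right.1 hg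
      calc c * m * C.subtype z' = c * (m * z') := by rw [mul_assoc]; rfl
        _ = c * (z' * m) := by rw [h2 m hm]
        _ = (c * z') * m := by rw [mul_assoc]
        _ = (z' * c) * m := by rw [h1 c hc]
        _ = C.subtype z' * (c * m) := by rw [mul_assoc]; rfl
    have hZn : Z.Normal := by
      constructor
      intro z hz g
      have : g * z * g⁻¹ = z := by rw [hZcent z hz g]; group
      rw [this]; exact hz
    have hCne : C ≠ ⊥ := by
      intro h
      apply not_nilpotent_ne_top hnil hC.1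
      have h2 := hC.2
      rw [h] at h2 ⊢
      rw [← h2]
      exact Subgroup.normalizer_eq_top_iff.2 inferInstance
    have hZne : Z ≠ ⊥ := by
      rw [hZdef]
      intro h
      rw [Subgroup.map_eq_bot_iff_of_injective _ C.subtype_injective] at h
      have hnilC := hC.1
      have hnt : Nontrivial C := (Subgroup.nontrivial_iff_ne_bot C).2 hCne
      have := Cfsg.Agent.Lib.Helper1.normal_inf_center_ne_bot (⊤ : Subgroup C) top_ne_bot
      rw [top_inf_eq] at this
      exact this h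
    obtain ⟨g, hg⟩ := conj_sup_normal hconj hn hC hD Z hZne
    have hZD : Z ≤ D := by
      intro z hz
      rw [← hD.2, Subgroup.mem_normalizer_iff]
      intro d
      have : z * d * z⁻¹ = d := by rw [← hZcent z hz d]; group
      rw [this]
    refine ⟨g, ?_⟩
    rwa [sup_of_le_left hZC, sup_of_le_left hZD] at hg
  · push Not at hall
    obtain ⟨z, hzC, hzcent, y0, hy0N, hy0⟩ := hall
    have hfix := fixed_trivial_of_exists hNab hmin hCN hzcent hy0N hy0
    have hzt : z ∈ D ⊔ N := by rw [hDN]; trivial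
    obtain ⟨d, hd, m, hm, hdm⟩ := Subgroup.mem_sup_of_normal_right.1 hzt
    have hψmem : ∀ x : N, z⁻¹ * (x : G) * z * (x : G)⁻¹ ∈ N := by
      intro x
      have h1 := (inferInstance : N.Normal).conj_mem (x : G) x.2 z⁻¹
      rw [inv_inv] at h1
      exact N.mul_mem h1 (N.inv_mem x.2)
    obtain ⟨ψ, hψ⟩ : ∃ ψ : N → N, ∀ x : N, (ψ x : G) = z⁻¹ * (x : G) * z * (x : G)⁻¹ :=
      ⟨fun x => ⟨_, hψmem x⟩, fun x => rfl⟩
    have hinj : Function.Injective ψ := by
      intro x y hxy
      have h1 : z⁻¹ * (x : G) * z * (x : G)⁻¹ = z⁻¹ * (y : G) * z * (y : G)⁻¹ := by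
        rw [← hψ x, ← hψ y, hxy]
      have h2 : z * ((y : G)⁻¹ * x) = ((y : G)⁻¹ * x) * z := by
        have e1 : (x : G) * z * (x : G)⁻¹ = (y : G) * z * (y : G)⁻¹ := by
          calc (x : G) * z * (x : G)⁻¹ = z * (z⁻¹ * (x : G) * z * (x : G)⁻¹) := by group
            _ = z * (z⁻¹ * (y : G) * z * (y : G)⁻¹) := by rw [h1]
            _ = (y : G) * z * (y : G)⁻¹ := by group
        calc z * ((y : G)⁻¹ * x) = (y : G)⁻¹ * ((y : G) * z * (y : G)⁻¹) * x := by group
          _ = (y : G)⁻¹ * ((x : G) * z * (x : G)⁻¹) * x := by rw [e1]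
          _ = ((y : G)⁻¹ * x) * z := by group
      have h3 := hfix _ (N.mul_mem (N.inv_mem y.2) x.2) h2
      apply Subtype.ext
      calc (x : G) = (y : G) * ((y : G)⁻¹ * x) := by group
        _ = y := by rw [h3, mul_one]
    have hsurj := Finite.surjective_of_injective hinj
    obtain ⟨x, hx⟩ := hsurj ⟨m⁻¹, N.inv_mem hm⟩
    have hxz : (x : G) * z * (x : G)⁻¹ = d := by
      have h1 : z⁻¹ * (x : G) * z * (x : G)⁻¹ = m⁻¹ := by rw [← hψ x, hx]
      calc (x : G) * z * (x : G)⁻¹ = z * (z⁻¹ * (x : G) * z * (x : G)⁻¹) := by group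
        _ = z * m⁻¹ := by rw [h1]
        _ = d := by rw [← hdm]; group
    refine ⟨x, ?_⟩
    have hdC' : d ∈ MulAut.conj (x : G) • C := by
      rw [← hxz]; exact conj_mem_conj_smul hzC
    have hcent' : ∀ c ∈ MulAut.conj (x : G) • C, c * d = d * c := by
      intro c hc
      rw [mem_conj_smul] at hc
      have h1 := hzcent _ hc
      rw [← hxz]
      calc c * ((x : G) * z * (x : G)⁻¹) = (x : G) * (((x : G)⁻¹ * c * x) * z) * (x : G)⁻¹ := by group
        _ = (x : G) * (z * ((x : G)⁻¹ * c * x)) * (x : G)⁻¹ := by rw [h1]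
        _ = (x : G) * z * (x : G)⁻¹ * c := by group
    have hfix' : ∀ y ∈ N, d * y = y * d → y = 1 := by
      intro y hy hdy
      have hyN : (x : G)⁻¹ * y * x ∈ N := by
        have := (inferInstance : N.Normal).conj_mem y hy (x : G)⁻¹
        rwa [inv_inv] at this
      have h1 : z * ((x : G)⁻¹ * y * x) = ((x : G)⁻¹ * y * x) * z := by
        rw [← hxz] at hdy
        calc z * ((x : G)⁻¹ * y * x) = (x : G)⁻¹ * (((x : G) * z * (x : G)⁻¹) * y) * x := by group
          _ = (x : G)⁻¹ * (y * ((x : G) * z * (x : G)⁻¹)) * x := by rw [hdy]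
          _ = ((x : G)⁻¹ * y * x) * z := by group
      have h2 := hfix _ hyN h1
      calc y = (x : G) * ((x : G)⁻¹ * y * x) * (x : G)⁻¹ := by group
        _ = 1 := by rw [h2]; group
    have hC'N : MulAut.conj (x : G) • C ⊔ N = ⊤ := by
      rw [eq_top_iff]
      intro g _
      have hg : (x : G)⁻¹ * g * x ∈ C ⊔ N := by rw [hCN]; trivial
      obtain ⟨c, hc, k, hk, hck⟩ := Subgroup.mem_sup_of_normal_right.1 hg
      have e : g = ((x : G) * c * (x : G)⁻¹) * ((x : G) * k * (x : G)⁻¹) := by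
        calc g = (x : G) * ((x : G)⁻¹ * g * x) * (x : G)⁻¹ := by group
          _ = (x : G) * (c * k) * (x : G)⁻¹ := by rw [hck]
          _ = ((x : G) * c * (x : G)⁻¹) * ((x : G) * k * (x : G)⁻¹) := by group
      rw [e]
      exact Subgroup.mul_mem _ ((le_sup_left : MulAut.conj (x : G) • C ≤ _) (conj_mem_conj_smul hc))
        ((le_sup_right : N ≤ MulAut.conj (x : G) • C ⊔ N)
          ((inferInstance : N.Normal).conj_mem k hk x))
    exact (eq_of_common_central hdC' hd hcent' hfix' hC'N hDi (hC.conj x).1 hD.2).symm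

end Cfsg.Agent.Lib.Helper10.Carter
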