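import Mathlib
import Cfsg.Agent.Lib.Helper10.Carter5

set_option autoImplicit false

namespace Cfsg.Agent.Lib.Helper10.Carter

open scoped Pointwise
open Cfsg.Agent.Lib.Lead

universe u

variable {G : Type u} [Group G]

theorem exists_min_normal_abelian [Finite G] [Group.IsSolvable G] (hnil : ¬ Group.IsNilpotent G) :
    ∃ N : Subgroup G, N.Normal ∧ N ≠ ⊥ ∧ (∀ x ∈ N, ∀ y ∈ N, x * y = y * x) ∧
      ∀ M : Subgroup G, M.Normal → M ≤ N → M = ⊥ ∨ M = N := by
  have hnt : Nontrivial G := by
    by_contra h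
    rw [not_nontrivial_iff_subsingleton] at h
    exact hnil inferInstance
  obtain ⟨N, hNn, hNne, hmin⟩ := Cfsg.Agent.Lib.Helper1.exists_minimal_normal (G := G)
  have h1 := (Cfsg.Agent.Lib.Helper1.minimal_normal_of_solvable N hNne hmin).1
  refine ⟨N, hNn, hNne, ?_, hmin⟩
  intro x hx y hy
  have := (IsMulCommutative.is_comm (M := N)).comm ⟨x, hx⟩ ⟨y, hy⟩
  exact congrArg Subtype.val this

theorem conj_step [Finite G] [Group.IsSolvable G] {n : ℕ} (hconj : ConjBelow.{u} n)
    (hn : Nat.card G = n) {C D : Subgroup G} (hC : IsCarter C) (hD : IsCarter D) :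
    ∃ g : G, MulAut.conj g • C = D := by
  by_cases hnil : Group.IsNilpotent G
  · refine ⟨1, ?_⟩
    rw [hC.eq_top_of_nilpotent, hD.eq_top_of_nilpotent, map_one, one_smul]
  · obtain ⟨N, hNn, hNne, hNab, hmin⟩ := exists_min_normal_abelian hnil
    obtain ⟨g, hg⟩ := conj_sup_normal hconj hn hC hD N hNne
    have hC' := hC.conj g
    have hsup : MulAut.conj g • C ⊔ N = D ⊔ N := by
      rw [← hg, Subgroup.smul_sup, Subgroup.Normal.conj_smul_eq_self g N]
    by_cases htop : D ⊔ N = ⊤
    · obtain ⟨x, hx⟩ := conj_bad_case hconj hn hnil hC' hD N hNab hmin (hsup.trans htop) htop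
      exact ⟨x * g, by rw [map_mul, mul_smul, hx]⟩
    · have hlt : Nat.card (D ⊔ N : Subgroup G) < n := by
        have h1 := card_lt_card_of_lt (lt_top_iff_ne_top.2 htop)
        rw [Subgroup.card_top] at h1
        rw [← hn]; exact h1
      have hle : MulAut.conj g • C ≤ D ⊔ N := by rw [← hsup]; exact le_sup_left
      obtain ⟨x, _, hx⟩ := conj_in_subgroup hconj (D ⊔ N) hlt hC' hD hle le_sup_left
      exact ⟨x * g, by rw [map_mul, mul_smul, hx]⟩

theorem exists_step_top [Finite G] [Group.IsSolvable G] (hnil : ¬ Group.IsNilpotent G)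
    (N : Subgroup G) [N.Normal] (hNab : ∀ x ∈ N, ∀ y ∈ N, x * y = y * x)
    (hmin : ∀ M : Subgroup G, M.Normal → M ≤ N → M = ⊥ ∨ M = N)
    (hQ : Group.IsNilpotent (G ⧸ N)) : ∃ C : Subgroup G, IsCarter C := by
  have hex : ∃ (p : ℕ) (_ : Fact p.Prime) (P : Sylow p G), ¬ (P : Subgroup G).Normal := by
    by_contra h
    push Not at h
    exact hnil (((Group.isNilpotent_of_finite_tfae (G := G)).out 0 3).2 h)
  obtain ⟨p, hp, P, hP⟩ := hex
  have hπ : Function.Surjective (QuotientGroup.mk' N) := QuotientGroup.mk'_surjective N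
  have hPN : ((P : Subgroup G) ⊔ N : Subgroup G).Normal := by
    have h1 : ((P.mapSurjective hπ : Sylow p (G ⧸ N)) : Subgroup (G ⧸ N)).Normal := inferInstance
    rw [Sylow.coe_mapSurjective] at h1
    have h2 : ((P : Subgroup G).map (QuotientGroup.mk' N)).comap (QuotientGroup.mk' N) = (P : Subgroup G) ⊔ N := by
      rw [Subgroup.comap_map_eq, QuotientGroup.ker_mk']
    rw [← h2]
    exact Subgroup.Normal.comap h1 _
  have hfr := Sylow.normalizer_sup_eq_top' P (le_sup_left : (P : Subgroup G) ≤ (P : Subgroup G) ⊔ N)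
  obtain ⟨C, hCdef⟩ : ∃ C : Subgroup G, C = Subgroup.normalizer (P : Set G) := ⟨_, rfl⟩
  rw [← hCdef] at hfr
  have hPC : (P : Subgroup G) ≤ C := by
    rw [hCdef]; exact (Subgroup.le_normalizer : (P : Subgroup G) ≤ _)
  have hCN : C ⊔ N = ⊤ := by
    rw [eq_top_iff, ← hfr]
    exact sup_le le_sup_left (sup_le (hPC.trans le_sup_left) le_sup_right)
  have hCtop : C ≠ ⊤ := by
    intro h
    rw [hCdef] at h
    have h' : Subgroup.normalizer ((P : Subgroup G) : Set G) = ⊤ := h
    rw [Subgroup.normalizer_eq_top_iff] at h'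
    exact hP h'
  have hCself : Subgroup.normalizer (C : Set G) = C := by
    rw [hCdef]; exact Sylow.normalizer_normalizer P
  have hnorm : (C ⊓ N).Normal := by
    apply normal_of_sup_top hCN
    · intro c hc m hm
      exact ⟨C.mul_mem (C.mul_mem hc hm.1) (C.inv_mem hc),
        (inferInstance : N.Normal).conj_mem m hm.2 c⟩
    · intro x hx m hm
      have : x * m * x⁻¹ = m := by rw [hNab x hx m hm.2]; group
      rw [this]; exact hm
  have hCi : C ⊓ N = ⊥ := by
    rcases hmin _ hnorm inf_le_right with h | h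
    · exact h
    · exfalso
      apply hCtop
      rw [eq_top_iff, ← hCN]
      exact sup_le le_rfl (by rw [← h]; exact inf_le_left)
  refine ⟨C, ?_, hCself⟩
  apply Subgroup.isNilpotent_of_ker_le_center ((QuotientGroup.mk' N).comp C.subtype)
  intro x hx
  rw [MonoidHom.mem_ker, MonoidHom.comp_apply, ← MonoidHom.mem_ker, QuotientGroup.ker_mk'] at hx
  have : (x : G) ∈ C ⊓ N := ⟨x.2, hx⟩
  rw [hCi, Subgroup.mem_bot] at this
  have hx1 : x = 1 := Subtype.ext this
  rw [hx1]; exact Subgroup.one_mem _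

end Cfsg.Agent.Lib.Helper10.Carter
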