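import Mathlib
import Cfsg.Agent.Lib.Helper10.Carter6

set_option autoImplicit false

namespace Cfsg.Agent.Lib.Helper10.Carter

open scoped Pointwise
open Cfsg.Agent.Lib.Lead

universe u

variable {G : Type u} [Group G]

theorem exists_step [Finite G] [Group.IsSolvable G] {n : ℕ} (hconj : ConjBelow.{u} n)
    (hex : ExBelow.{u} n) (hn : Nat.card G = n) : ∃ C : Subgroup G, IsCarter C := by
  by_cases hnil : Group.IsNilpotent G
  · exact ⟨⊤, isCarter_top⟩
  · obtain ⟨N, hNn, hNne, hNab, hmin⟩ := exists_min_normal_abelian hnil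
    have hπ : Function.Surjective (QuotientGroup.mk' N) := QuotientGroup.mk'_surjective N
    have hcard : Nat.card (G ⧸ N) < n := by rw [← hn]; exact card_quotient_lt N hNne
    obtain ⟨Kb, hKb⟩ := hex (G ⧸ N) hcard
    obtain ⟨K, hKdef⟩ : ∃ K : Subgroup G, K = Kb.comap (QuotientGroup.mk' N) := ⟨_, rfl⟩
    have hNK : N ≤ K := by
      intro x hx
      rw [hKdef, Subgroup.mem_comap]
      have : (QuotientGroup.mk' N) x = 1 := (QuotientGroup.eq_one_iff x).2 hx
      rw [this]; exact Subgroup.one_mem _
    have hKmap : K.map (QuotientGroup.mk' N) = Kb := by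
      rw [hKdef]; exact Subgroup.map_comap_eq_self_of_surjective hπ Kb
    have hKnorm : Subgroup.normalizer (K : Set G) = K := by
      rw [hKdef, ← Subgroup.comap_normalizer_eq_of_surjective _ hπ, hKb.2]
    by_cases hKtop : K = ⊤
    · have hQ : Group.IsNilpotent (G ⧸ N) := by
        have h1 : Kb = ⊤ := by
          rw [← hKmap, hKtop]; exact Subgroup.map_top_of_surjective _ hπ
        have h2 := hKb.1
        rw [h1] at h2
        exact Group.nilpotent_of_mulEquiv (Subgroup.topEquiv : (⊤ : Subgroup (G ⧸ N)) ≃* (G ⧸ N))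
      exact exists_step_top hnil N hNab hmin hQ
    · have hKlt : Nat.card K < n := by
        have h1 := card_lt_card_of_lt (lt_top_iff_ne_top.2 hKtop)
        rw [Subgroup.card_top] at h1
        rw [← hn]; exact h1
      obtain ⟨C₀, hC₀⟩ := hex K hKlt
      have h1 := normalizer_sup_normal hconj hKlt.le hC₀ (N.subgroupOf K)
      have hnilKb : Group.IsNilpotent (K.map (QuotientGroup.mk' N)) := by
        rw [hKmap]; exact hKb.1
      have h2 : C₀ ⊔ N.subgroupOf K = ⊤ := by
        apply eq_top_of_self_normalizing ((QuotientGroup.mk' N).subgroupMap K)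
          (MonoidHom.subgroupMap_surjective _ _) _ _ h1
        intro x hx
        rw [MonoidHom.mem_ker] at hx
        have h3 : (QuotientGroup.mk' N) (x : G) = 1 := congrArg Subtype.val hx
        have h4 : (x : G) ∈ N := (QuotientGroup.eq_one_iff (x : G)).1 h3
        exact (le_sup_right : N.subgroupOf K ≤ C₀ ⊔ N.subgroupOf K) (Subgroup.mem_subgroupOf.2 h4)
      obtain ⟨hCnil, hCnorm⟩ := hC₀.map_subtype
      refine ⟨C₀.map K.subtype, hCnil, ?_⟩
      apply le_antisymm _ Subgroup.le_normalizer
      intro g hg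
      have hsup : C₀.map K.subtype ⊔ N = K := by
        have := congrArg (Subgroup.map K.subtype) h2
        rw [Subgroup.map_sup, Subgroup.subgroupOf_map_subtype, inf_of_le_left hNK,
          ← MonoidHom.range_eq_map, Subgroup.range_subtype] at this
        exact this
      have hgK : g ∈ K := by
        rw [← hKnorm, ← conj_smul_eq_iff]
        conv_lhs => rw [← hsup]
        rw [Subgroup.smul_sup, Subgroup.Normal.conj_smul_eq_self g N,
          (conj_smul_eq_iff _ g).2 hg, hsup]
      rw [← hCnorm]
      exact ⟨hg, hgK⟩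

theorem main_aux : ∀ n : ℕ, ExBelow.{u} n ∧ ConjBelow.{u} n := by
  intro n
  induction n with
  | zero =>
    exact ⟨fun H _ _ _ h => absurd h (Nat.not_lt_zero _), fun H _ _ _ h => absurd h (Nat.not_lt_zero _)⟩
  | succ n ih =>
    obtain ⟨hex, hconj⟩ := ih
    refine ⟨?_, ?_⟩
    · intro H _ _ _ hH
      rcases Nat.lt_succ_iff_lt_or_eq.1 hH with h | h
      · exact hex H h
      · exact exists_step hconj hex h
    · intro H _ _ _ hH C D hC hD
      rcases Nat.lt_succ_iff_lt_or_eq.1 hH with h | h
      · exact hconj H h C D hC hD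
      · exact conj_step hconj h hC hD

theorem carter_exists [Finite G] [Group.IsSolvable G] : ∃ C : Subgroup G, IsCarter C :=
  (main_aux.{u} (Nat.card G + 1)).1 G (Nat.lt_succ_self _)

theorem carter_conj [Finite G] [Group.IsSolvable G] {C D : Subgroup G} (hC : IsCarter C)
    (hD : IsCarter D) : ∃ g : G, MulAut.conj g • C = D :=
  (main_aux.{u} (Nat.card G + 1)).2 G (Nat.lt_succ_self _) C D hC hD

end Cfsg.Agent.Lib.Helper10.Carter
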