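import Mathlib

set_option autoImplicit false

namespace Cfsg.Agent.Lib.Helper10

section Lift

variable {G : Type*} [Group G]

lemma zpowers_isPGroup_of_pow_eq_one (p : ℕ) (b : G) (hb : b ^ p = 1) :
    IsPGroup p (Subgroup.zpowers b) := by
  rintro ⟨g, hg⟩
  refine ⟨1, ?_⟩
  obtain ⟨k, rfl⟩ := Subgroup.mem_zpowers_iff.mp hg
  apply Subtype.ext
  simp only [pow_one, Subgroup.coe_pow, Subgroup.coe_one]
  rw [← zpow_natCast, ← zpow_mul, mul_comm, zpow_mul, zpow_natCast, hb, one_zpow]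

def liftSet (T N : Subgroup G) [N.Normal] (x : G) : Set G :=
  {t | t ∈ T ∧ (QuotientGroup.mk t : G ⧸ N) = QuotientGroup.mk x}

lemma liftSet_conj_mem (T N : Subgroup G) [N.Normal] (x b : G)
    (hbT : b ∈ Subgroup.normalizer (T : Set G))
    (hxb : (QuotientGroup.mk b : G ⧸ N) * QuotientGroup.mk x = QuotientGroup.mk x * QuotientGroup.mk b)
    (g : Subgroup.zpowers b) (t : liftSet T N x) :
    (g : G) * (t : G) * (g : G)⁻¹ ∈ liftSet T N x := by
  obtain ⟨g, hg⟩ := g
  obtain ⟨t, ht1, ht2⟩ := t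
  have hgT : g ∈ Subgroup.normalizer (T : Set G) :=
    (Subgroup.zpowers_le.mpr hbT) hg
  refine ⟨?_, ?_⟩
  · exact (Subgroup.mem_normalizer_iff.mp hgT t).mp ht1
  · obtain ⟨k, rfl⟩ := Subgroup.mem_zpowers_iff.mp hg
    have hc : Commute (QuotientGroup.mk b : G ⧸ N) (QuotientGroup.mk x) := hxb
    have hc' : Commute ((QuotientGroup.mk b : G ⧸ N) ^ k) (QuotientGroup.mk x) := hc.zpow_left k
    show (QuotientGroup.mk (b ^ k * t * (b ^ k)⁻¹) : G ⧸ N) = QuotientGroup.mk x
    rw [QuotientGroup.mk_mul, QuotientGroup.mk_mul, QuotientGroup.mk_inv, ht2, QuotientGroup.mk_zpow,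
      hc'.eq, mul_inv_cancel_right]

@[reducible] def liftSetAction (T N : Subgroup G) [N.Normal] (x b : G)
    (hbT : b ∈ Subgroup.normalizer (T : Set G))
    (hxb : (QuotientGroup.mk b : G ⧸ N) * QuotientGroup.mk x = QuotientGroup.mk x * QuotientGroup.mk b) :
    MulAction (Subgroup.zpowers b) (liftSet T N x) where
  smul g t := ⟨(g : G) * (t : G) * (g : G)⁻¹, liftSet_conj_mem T N x b hbT hxb g t⟩
  one_smul t := by
    apply Subtype.ext
    show ((1 : Subgroup.zpowers b) : G) * (t : G) * ((1 : Subgroup.zpowers b) : G)⁻¹ = t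
    simp
  mul_smul g h t := by
    apply Subtype.ext
    show ((g * h : Subgroup.zpowers b) : G) * (t : G) * ((g * h : Subgroup.zpowers b) : G)⁻¹ =
      (g : G) * ((h : G) * (t : G) * (h : G)⁻¹) * (g : G)⁻¹
    simp only [Subgroup.coe_mul, mul_inv_rev]
    group

lemma liftSet_card (T N : Subgroup G) [N.Normal] (x : G) (hx : x ∈ T) :
    Nat.card (liftSet T N x) = Nat.card (T ⊓ N : Subgroup G) := by
  apply Nat.card_congr
  refine
    { toFun := fun t => ⟨x⁻¹ * (t : G), ?_⟩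
      invFun := fun n => ⟨x * (n : G), ?_⟩
      left_inv := ?_
      right_inv := ?_ }
  · obtain ⟨t, ht1, ht2⟩ := t
    refine Subgroup.mem_inf.mpr ⟨T.mul_mem (T.inv_mem hx) ht1, ?_⟩
    exact QuotientGroup.eq.mp ht2.symm
  · obtain ⟨n, hn⟩ := n
    obtain ⟨hn1, hn2⟩ := Subgroup.mem_inf.mp hn
    refine ⟨T.mul_mem hx hn1, ?_⟩
    show (QuotientGroup.mk (x * n) : G ⧸ N) = QuotientGroup.mk x
    rw [QuotientGroup.mk_mul, (QuotientGroup.eq_one_iff n).mpr hn2, mul_one]
  · intro t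
    apply Subtype.ext
    simp
  · intro n
    apply Subtype.ext
    simp

/-- Fixed points of a `p`-element on a quotient of a `p'`-subgroup lift. -/
theorem exists_fixed_lift [Finite G] (p : ℕ) [Fact p.Prime] (T N : Subgroup G) [N.Normal] (b : G)
    (hb : b ^ p = 1) (hbT : b ∈ Subgroup.normalizer (T : Set G)) (hT : ¬ p ∣ Nat.card T)
    (x : G) (hx : x ∈ T)
    (hxb : (QuotientGroup.mk b : G ⧸ N) * QuotientGroup.mk x = QuotientGroup.mk x * QuotientGroup.mk b) :
    ∃ y ∈ T, b * y * b⁻¹ = y ∧ (QuotientGroup.mk y : G ⧸ N) = QuotientGroup.mk x := by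
  let _inst := liftSetAction T N x b hbT hxb
  have hP := zpowers_isPGroup_of_pow_eq_one p b hb
  have hcard : ¬ p ∣ Nat.card (liftSet T N x) := by
    rw [liftSet_card T N x hx]
    intro h
    exact hT (dvd_trans h (Subgroup.card_dvd_of_le inf_le_left))
  obtain ⟨⟨y, hy1, hy2⟩, hfix⟩ := hP.nonempty_fixed_point_of_prime_not_dvd_card (liftSet T N x) hcard
  refine ⟨y, hy1, ?_, hy2⟩
  have := hfix ⟨b, Subgroup.mem_zpowers b⟩
  exact congrArg Subtype.val this

end Lift

section ConjFixed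

variable {G : Type*} [Group G]

lemma mem_normalizer_of_conj_subset [Finite G] (a : G) (S : Set G)
    (hS : ∀ s ∈ S, a * s * a⁻¹ ∈ S) : a ∈ Subgroup.normalizer S := by
  rw [Subgroup.mem_normalizer_iff_conj_image_eq]
  have hsub : (MulAut.conj a) '' S ⊆ S := by
    rintro _ ⟨s, hs, rfl⟩
    simpa [MulAut.conj_apply] using hS s hs
  refine Set.eq_of_subset_of_ncard_le hsub ?_ (Set.toFinite S)
  rw [Set.ncard_image_of_injective _ (MulAut.conj a).injective]

@[reducible] def conjSetAction (a : G) (S : Set G) (hS : a ∈ Subgroup.normalizer S) :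
    MulAction (Subgroup.zpowers a) S where
  smul g s := ⟨(g : G) * (s : G) * (g : G)⁻¹,
    (Subgroup.mem_set_normalizer_iff.mp ((Subgroup.zpowers_le.mpr hS) g.2) s).mp s.2⟩
  one_smul s := by
    apply Subtype.ext
    show ((1 : Subgroup.zpowers a) : G) * (s : G) * ((1 : Subgroup.zpowers a) : G)⁻¹ = s
    simp
  mul_smul g h s := by
    apply Subtype.ext
    show ((g * h : Subgroup.zpowers a) : G) * (s : G) * ((g * h : Subgroup.zpowers a) : G)⁻¹ =
      (g : G) * ((h : G) * (s : G) * (h : G)⁻¹) * (g : G)⁻¹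
    simp only [Subgroup.coe_mul, mul_inv_rev]
    group

/-- A `p`-element normalizing a finite set of size prime to `p` fixes a point of it. -/
theorem exists_conj_fixed [Finite G] (p : ℕ) [Fact p.Prime] (a : G) (ha : a ^ p = 1)
    (S : Set G) (hS : a ∈ Subgroup.normalizer S) (hcard : ¬ p ∣ Nat.card S) :
    ∃ s ∈ S, a * s * a⁻¹ = s := by
  let _inst := conjSetAction a S hS
  have hP := zpowers_isPGroup_of_pow_eq_one p a ha
  obtain ⟨⟨y, hy⟩, hfix⟩ := hP.nonempty_fixed_point_of_prime_not_dvd_card S hcard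
  refine ⟨y, hy, ?_⟩
  have := hfix ⟨a, Subgroup.mem_zpowers a⟩
  exact congrArg Subtype.val this

end ConjFixed

end Cfsg.Agent.Lib.Helper10
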