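import Mathlib
import Cfsg.Agent.S1271

set_option autoImplicit false
set_option linter.unusedSectionVars false

namespace Cfsg.Agent.Lib.Helper10

open Cfsg Cfsg.Agent.Lib.Helper9 Cfsg.Agent.S1271
open scoped commutatorElement

section Abstract

variable {X : Type*} [Group X] [Finite X]

theorem exists_component_of_core (p : ℕ) [Fact p.Prime] (hO : pPrimeCore p X = ⊥) (x : X)
    (hx : orderOf x = p) (Y : Subgroup X)
    (hY : Y ≤ coreOf p (Subgroup.centralizer ({x} : Set X))) (hY1 : Y ≠ ⊥) :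
    ∃ L : Subgroup X, IsComponent L ∧ ⁅L, Subgroup.zpowers x⁆ = L ∧
      Y ≤ Subgroup.normalizer (L : Set X) ∧ ¬ Y ≤ Subgroup.centralizer (L : Set X) := by
  by_contra hcon
  push Not at hcon
  apply hY1
  have hcomp : ∀ L : Subgroup X, IsComponent L → Y ≤ Subgroup.centralizer (L : Set X) := by
    intro L hL
    have hYN : Y ≤ Subgroup.normalizer (L : Set X) :=
      hY.trans (core_le_normalizer_component p hO x hx hL)
    by_cases heq : ⁅L, Subgroup.zpowers x⁆ = L
    · exact hcon L hL heq hYN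
    · have h1 := Cfsg.Agent.S1270.result p hO x hx L hL heq
      have h2 : centralizerPPrimeCore p x = coreOf p (Subgroup.centralizer ({x} : Set X)) := rfl
      rw [h2, Subgroup.commutator_comm] at h1
      exact hY.trans (Subgroup.commutator_eq_bot_iff_le_centralizer.1 h1)
  have hlayer : layer X ≤ Subgroup.centralizer ((Y : Subgroup X) : Set X) :=
    sSup_le (fun L hL => Subgroup.le_centralizer_iff.1 (hcomp L hL))
  have hfit : fittingSubgroup X ≤ Subgroup.centralizer ((Y : Subgroup X) : Set X) := by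
    rw [Cfsg.Agent.S1327.fitting_eq_pCore p hO]
    exact Subgroup.le_centralizer_iff.1 (hY.trans (core_le_centralizer_pCore p x hx))
  have hFs : generalizedFittingSubgroup X ≤ Subgroup.centralizer ((Y : Subgroup X) : Set X) :=
    sup_le hlayer hfit
  have hD1 : Y ≤ Subgroup.centralizer ((generalizedFittingSubgroup X : Subgroup X) : Set X) :=
    Subgroup.le_centralizer_iff.1 hFs
  have hD2 : Y ≤ generalizedFittingSubgroup X := hD1.trans Cfsg.Agent.S1265.result
  have hFn : (generalizedFittingSubgroup X).Normal :=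
    Cfsg.Agent.Lib.Helper12.generalizedFittingSubgroup_normal X
  have hD3 : Y ≤ fittingSubgroup X := fun d hd =>
    inf_centralizer_le_fitting (Subgroup.Normal.isSubnormal hFn) ⟨hD2 hd, hD1 hd⟩
  rw [Cfsg.Agent.S1327.fitting_eq_pCore p hO] at hD3
  rw [Subgroup.eq_bot_iff_forall]
  intro d hd
  exact eq_one_of_mem_pGroup_of_mem_coprime p (Cfsg.Agent.Lib.Helper1.pCore_isPGroup p)
    (coreOf_card_coprime p _) (hD3 hd) (hY hd)

end Abstract

section Transport2

variable {G : Type*} [Group G]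

theorem coreOf_map_subtype (p : ℕ) (M : Subgroup G) (K : Subgroup ↥M) :
    (coreOf p K).map M.subtype = coreOf p (K.map M.subtype) := by
  unfold coreOf
  rw [← pPrimeCore_map_equiv p (K.equivMapOfInjective M.subtype M.subtype_injective),
    Subgroup.map_map, Subgroup.map_map]
  congr 1

theorem centralizer_singleton_map_subtype (M : Subgroup G) (x : ↥M) :
    (Subgroup.centralizer ({x} : Set ↥M)).map M.subtype =
      M ⊓ Subgroup.centralizer ({(x : G)} : Set G) := by
  ext y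
  constructor
  · rintro ⟨a, ha, rfl⟩
    rw [SetLike.mem_coe, Subgroup.mem_centralizer_iff] at ha
    have h2 : (a : G) ∈ Subgroup.centralizer ({(x : G)} : Set G) := by
      rw [Subgroup.mem_centralizer_iff]
      intro z hz
      rw [Set.mem_singleton_iff] at hz
      subst hz
      have := congrArg Subtype.val (ha x rfl)
      simpa using this
    exact ⟨a.2, h2⟩
  · intro hy
    have hy1 : y ∈ M := hy.1
    have hy2 : y ∈ Subgroup.centralizer ({(x : G)} : Set G) := hy.2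
    refine ⟨⟨y, hy1⟩, ?_, rfl⟩
    rw [SetLike.mem_coe, Subgroup.mem_centralizer_iff]
    intro z hz
    rw [Set.mem_singleton_iff] at hz
    subst hz
    rw [Subgroup.mem_centralizer_iff] at hy2
    apply Subtype.ext
    exact hy2 _ rfl

end Transport2

section IndexTwo

variable {G : Type*} [Group G] [Finite G]

theorem sq_mem_of_mem_sup {H : Subgroup G} {t : G} (ht : orderOf t = 2)
    (htH : t ∈ Subgroup.normalizer (H : Set G)) {g : G} (hg : g ∈ H ⊔ Subgroup.zpowers t) :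
    g * g ∈ H := by
  have hZ : Subgroup.zpowers t ≤ Subgroup.normalizer (H : Set G) := by
    rw [Subgroup.zpowers_le]; exact htH
  obtain ⟨h, hh, z, hz, rfl⟩ := exists_mul_of_mem_sup H (Subgroup.zpowers t) hZ g hg
  have hzz : z * z = 1 := by
    obtain ⟨k, rfl⟩ := Subgroup.mem_zpowers_iff.1 hz
    have h2 : t ^ (2 : ℕ) = 1 := by rw [← ht]; exact pow_orderOf_eq_one t
    have h2' : t ^ (2 : ℤ) = 1 := by exact_mod_cast h2
    rw [← zpow_add, ← two_mul, zpow_mul, h2', one_zpow]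
  have hzN := hZ hz
  rw [Subgroup.mem_normalizer_iff] at hzN
  have h1 : z * h * z⁻¹ ∈ H := (hzN h).1 hh
  have h3 : z⁻¹ = z := by
    rw [inv_eq_iff_mul_eq_one]; exact hzz
  have h4 : h * z * (h * z) = h * (z * h * z⁻¹) := by
    rw [h3]
    group
  rw [h4]
  exact H.mul_mem hh h1

theorem sup_le_normalizer {H : Subgroup G} {t : G}
    (htH : t ∈ Subgroup.normalizer (H : Set G)) :
    H ⊔ Subgroup.zpowers t ≤ Subgroup.normalizer (H : Set G) :=
  sup_le Subgroup.le_normalizer (by rw [Subgroup.zpowers_le]; exact htH)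

theorem mem_of_odd_order {H : Subgroup G} {t : G} (ht : orderOf t = 2)
    (htH : t ∈ Subgroup.normalizer (H : Set G)) {g : G} (hg : g ∈ H ⊔ Subgroup.zpowers t)
    (hodd : Odd (orderOf g)) : g ∈ H := by
  obtain ⟨k, hk⟩ := hodd
  have h1 : g = (g * g) ^ (k + 1) := by
    have h2 : (g * g) ^ (k + 1) = g ^ (orderOf g) * g := by
      rw [hk, ← pow_two, ← pow_mul, ← pow_succ]
      congr 1
    rw [h2, pow_orderOf_eq_one, one_mul]
  rw [h1]
  exact H.pow_mem (sq_mem_of_mem_sup ht htH hg) _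

theorem commutator_mem_of_mem_sup {H : Subgroup G} {t : G} (ht : orderOf t = 2)
    (htH : t ∈ Subgroup.normalizer (H : Set G)) {a b : G} (ha : a ∈ H ⊔ Subgroup.zpowers t)
    (hb : b ∈ H ⊔ Subgroup.zpowers t) : ⁅a, b⁆ ∈ H := by
  have h1 : ⁅a, b⁆ = (a * b) * (a * b) * (b⁻¹ * (a⁻¹ * a⁻¹) * b⁻¹⁻¹) * (b⁻¹ * b⁻¹) := by
    rw [commutatorElement_def]; group
  rw [h1]
  have hM := (H ⊔ Subgroup.zpowers t)
  have hab := sq_mem_of_mem_sup ht htH (Subgroup.mul_mem _ ha hb)
  have ha' := sq_mem_of_mem_sup ht htH (Subgroup.inv_mem _ ha)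
  have hb' := sq_mem_of_mem_sup ht htH (Subgroup.inv_mem _ hb)
  have hbN := sup_le_normalizer htH (Subgroup.inv_mem _ hb)
  rw [Subgroup.mem_normalizer_iff] at hbN
  exact H.mul_mem (H.mul_mem hab ((hbN _).1 ha')) hb'

theorem pPrimeCore_sup_eq_bot {H : Subgroup G} {t : G} (ht : orderOf t = 2)
    (htH : t ∈ Subgroup.normalizer (H : Set G)) (hO : pPrimeCore 2 ↥H = ⊥) :
    pPrimeCore 2 ↥(H ⊔ Subgroup.zpowers t) = ⊥ := by
  obtain ⟨M, hM⟩ : ∃ M, M = H ⊔ Subgroup.zpowers t := ⟨_, rfl⟩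
  rw [← hM]
  have hHM : H ≤ M := hM ▸ le_sup_left
  obtain ⟨N, hN⟩ : ∃ N, N = (pPrimeCore 2 ↥M).map M.subtype := ⟨_, rfl⟩
  have hNn : (pPrimeCore 2 ↥M).Normal := Cfsg.Agent.Lib.Helper1.pPrimeCore_normal 2
  have hNc : (Nat.card ↥(pPrimeCore 2 ↥M)).Coprime 2 :=
    Cfsg.Agent.Lib.Helper1.pPrimeCore_card_coprime 2
  have hNcard : Nat.card ↥N = Nat.card ↥(pPrimeCore 2 ↥M) := by
    rw [hN]
    exact (Nat.card_congr ((pPrimeCore 2 ↥M).equivMapOfInjective M.subtype
      M.subtype_injective).toEquiv).symm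
  have hNM : N ≤ M := hN ▸ Subgroup.map_subtype_le _
  have hNH : N ≤ H := by
    intro n hn
    apply mem_of_odd_order ht htH (hM ▸ hNM hn)
    have h1 : orderOf n ∣ Nat.card ↥N := Subgroup.orderOf_dvd_natCard N hn
    rw [hNcard] at h1
    have h2 : (orderOf n).Coprime 2 := Nat.Coprime.coprime_dvd_left h1 hNc
    exact (Nat.coprime_two_right).1 h2
  have hMN : M ≤ Subgroup.normalizer (N : Set G) := by
    intro m hm
    rw [Subgroup.mem_normalizer_iff]
    intro n
    rw [hN]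
    constructor
    · rintro ⟨n', hn', rfl⟩
      exact ⟨⟨m, hm⟩ * n' * ⟨m, hm⟩⁻¹, hNn.conj_mem n' hn' ⟨m, hm⟩, rfl⟩
    · rintro ⟨n', hn', hnn⟩
      have h1 := hNn.conj_mem n' hn' ⟨m, hm⟩⁻¹
      refine ⟨⟨m, hm⟩⁻¹ * n' * ⟨m, hm⟩⁻¹⁻¹, h1, ?_⟩
      have h2 : M.subtype (⟨m, hm⟩⁻¹ * n' * ⟨m, hm⟩⁻¹⁻¹) = m⁻¹ * (n' : G) * m := by
        simp
      rw [h2]
      have h3 : (n' : G) = m * n * m⁻¹ := hnn
      rw [h3]; group
  have hNn' : (N.subgroupOf H).Normal :=
    Subgroup.normal_subgroupOf_of_le_normalizer (hHM.trans hMN)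
  have hNc' : (Nat.card ↥(N.subgroupOf H)).Coprime 2 := by
    rw [Nat.card_congr (Subgroup.subgroupOfEquivOfLe hNH).toEquiv, hNcard]
    exact hNc
  have h1 := Cfsg.Agent.Lib.Helper1.le_pPrimeCore hNn' hNc'
  rw [hO] at h1
  have hNbot : N = ⊥ := by
    rw [Subgroup.eq_bot_iff_forall]
    intro n hn
    have h2 : (⟨n, hNH hn⟩ : ↥H) ∈ N.subgroupOf H := Subgroup.mem_subgroupOf.2 hn
    have h3 := h1 h2
    rw [Subgroup.mem_bot] at h3
    exact congrArg Subtype.val h3
  rw [Subgroup.eq_bot_iff_forall]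
  intro x hx
  have h2 : (x : G) ∈ N := by rw [hN]; exact ⟨x, hx, rfl⟩
  rw [hNbot, Subgroup.mem_bot] at h2
  exact Subtype.ext h2

end IndexTwo

end Cfsg.Agent.Lib.Helper10
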