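import Mathlib
import Cfsg.Agent.S0435

set_option autoImplicit false

/-! Project D11 (S0679, helper3 leads), piece G2 (helper10): in a simple group of order 7920
acting on 11 points, elements of order 3 fix exactly 2 points and involutions exactly 3.
Core versions, taking the conclusion of `sylow3_orbit` (piece G1) as a hypothesis. -/

namespace Cfsg.Agent.Lib.Helper10.D11

open MulAction Equiv

variable {α : Type*} [Fintype α] [DecidableEq α]

/-- the conclusion of `sylow3_orbit` (piece G1) -/
def SylOrb (G : Subgroup (Perm α)) : Prop :=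
  ∃ (Q : Subgroup (Perm α)) (a b : α), Q ≤ G ∧ Nat.card Q = 9 ∧ a ≠ b ∧
      (∀ g ∈ Q, g a = a ∧ g b = b) ∧
      ∀ c d : α, c ≠ a → c ≠ b → d ≠ a → d ≠ b → ∃ g ∈ Q, g c = d

theorem fix_card_eq (hα : Fintype.card α = 11) (g : Perm α) :
    (Finset.univ.filter (fun a => g a = a)).card + g.support.card = 11 := by
  rw [← hα, ← Finset.card_univ (α := α)]
  have : g.support = Finset.univ.filter (fun a => ¬ g a = a) := by
    ext x
    simp
  rw [this]
  exact Finset.card_filter_add_card_filter_not _

theorem q_support (hα : Fintype.card α = 11) {Q : Subgroup (Perm α)} {a b : α}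
    (hQ9 : Nat.card Q = 9) (hab : a ≠ b)
    (hfix : ∀ g ∈ Q, g a = a ∧ g b = b)
    (htr : ∀ c d : α, c ≠ a → c ≠ b → d ≠ a → d ≠ b → ∃ g ∈ Q, g c = d) {q : Perm α}
    (hq : q ∈ Q) (hq1 : q ≠ 1) : q.support.card = 9 := by
  have : Fact (Nat.Prime 3) := ⟨by norm_num⟩
  have hcomm : ∀ g h : Q, g * h = h * g :=
    IsPGroup.commutative_of_card_eq_prime_sq (p := 3) (by rw [hQ9]; norm_num)
  have hsupp : q.support = Finset.univ \ {a, b} := by
    ext c
    simp only [Equiv.Perm.mem_support, Finset.mem_sdiff, Finset.mem_univ, true_and,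
      Finset.mem_insert, Finset.mem_singleton, not_or]
    constructor
    · intro hc
      refine ⟨?_, ?_⟩
      · rintro rfl
        exact hc (hfix q hq).1
      · rintro rfl
        exact hc (hfix q hq).2
    · rintro ⟨hca, hcb⟩ hqc
      apply hq1
      ext d
      by_cases hda : d = a
      · rw [hda]
        exact (hfix q hq).1
      by_cases hdb : d = b
      · rw [hdb]
        exact (hfix q hq).2
      obtain ⟨g, hg, hgc⟩ := htr c d hca hcb hda hdb
      have h1 := hcomm ⟨q, hq⟩ ⟨g, hg⟩
      have h2 : q * g = g * q := congrArg Subtype.val h1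
      rw [← hgc, Equiv.Perm.one_apply]
      calc q (g c) = (q * g) c := rfl
        _ = (g * q) c := by rw [h2]
        _ = g (q c) := rfl
        _ = g c := by rw [hqc]
  rw [hsupp, Finset.card_sdiff_of_subset (Finset.subset_univ _), Finset.card_univ, hα,
    Finset.card_pair hab]

theorem fact7920 : (7920 : ℕ).factorization 3 = 2 := by
  have : (7920 : ℕ) = 3 ^ 2 * 880 := by norm_num
  rw [this, Nat.factorization_mul (by norm_num) (by norm_num),
    Nat.Prime.factorization_pow (by norm_num)]
  simp [Nat.factorization_eq_zero_of_not_dvd]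

theorem conj_mem_of_order3 (G : Subgroup (Perm α)) (hcard : Nat.card G = 7920)
    {Q : Subgroup (Perm α)} (hQG : Q ≤ G) (hQ9 : Nat.card Q = 9) {y : Perm α} (hy : y ∈ G)
    (hy3 : orderOf y = 3) : ∃ g ∈ G, g * y * g⁻¹ ∈ Q := by
  have : Fact (Nat.Prime 3) := ⟨by norm_num⟩
  set Q' : Subgroup G := Q.subgroupOf G with hQ'
  have hQ'card : Nat.card Q' = 9 := by
    rw [Nat.card_congr (Subgroup.subgroupOfEquivOfLe hQG).toEquiv, hQ9]
  have hQ'p : IsPGroup 3 Q' := IsPGroup.of_card (n := 2) (by rw [hQ'card]; norm_num)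
  set Y : Subgroup G := Subgroup.zpowers ⟨y, hy⟩ with hY
  have hYp : IsPGroup 3 Y := by
    apply IsPGroup.of_card (n := 1)
    rw [Nat.card_zpowers, Subgroup.orderOf_mk, hy3]
    norm_num
  obtain ⟨P1, hP1⟩ := hQ'p.exists_le_sylow
  obtain ⟨P2, hP2⟩ := hYp.exists_le_sylow
  have hP1card : Nat.card P1 = 9 := by
    rw [Sylow.card_eq_multiplicity, hcard, fact7920]
    norm_num
  have hQP : Q' = P1 := Subgroup.eq_of_le_of_card_ge hP1 (by rw [hP1card, hQ'card])
  obtain ⟨g, hg⟩ := MulAction.exists_smul_eq G P2 P1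
  refine ⟨g, g.2, ?_⟩
  have hmem : (⟨y, hy⟩ : G) ∈ (P2 : Subgroup G) := hP2 (Subgroup.mem_zpowers _)
  have h2 : g * ⟨y, hy⟩ * g⁻¹ ∈ ((g • P2 : Sylow 3 G) : Subgroup G) := by
    rw [Sylow.coe_subgroup_smul]
    exact Subgroup.smul_mem_pointwise_smul _ (MulAut.conj g) _ hmem
  rw [hg, ← hQP, hQ', Subgroup.mem_subgroupOf] at h2
  exact h2

theorem order3_fix_core (hα : Fintype.card α = 11) (G : Subgroup (Perm α))
    (hcard : Nat.card G = 7920) (hS : SylOrb G) {y : Perm α} (hy : y ∈ G)
    (hy3 : orderOf y = 3) : (Finset.univ.filter (fun a => y a = a)).card = 2 := by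
  obtain ⟨Q, a, b, hQG, hQ9, hab, hfix, htr⟩ := hS
  obtain ⟨g, hg, hq⟩ := conj_mem_of_order3 G hcard hQG hQ9 hy hy3
  have hq1 : g * y * g⁻¹ ≠ 1 := by
    intro h
    have h1 : y = 1 := by
      have := congrArg (fun z => g⁻¹ * z * g) h
      simpa [mul_assoc] using this
    rw [h1, orderOf_one] at hy3
    omega
  have h9 := q_support hα hQ9 hab hfix htr hq hq1
  rw [Equiv.Perm.card_support_conj] at h9
  have := fix_card_eq hα y
  omega

theorem exists_fixed_of_invariant (y : Perm α) (hy : y ^ 3 = 1) (S : Finset α)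
    (hS : ∀ x, y x ∈ S ↔ x ∈ S) (hc : ¬ 3 ∣ S.card) : ∃ x ∈ S, y x = x := by
  have : Fact (Nat.Prime 3) := ⟨by norm_num⟩
  set σ : Perm {x // x ∈ S} := y.subtypePerm hS with hσdef
  have hσ : σ ^ 3 ^ 1 = 1 := by
    rw [pow_one, hσdef, Equiv.Perm.subtypePerm_pow]
    ext x
    simp [hy]
  have h := Equiv.Perm.card_compl_support_modEq (p := 3) (n := 1) hσ
  have hne : σ.supportᶜ.Nonempty := by
    rw [← Finset.card_pos]
    rcases Nat.eq_zero_or_pos σ.supportᶜ.card with h0 | h0
    · exfalso
      rw [h0, Fintype.card_coe] at h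
      exact hc ((Nat.modEq_zero_iff_dvd).mp h.symm)
    · exact h0
  obtain ⟨x, hx⟩ := hne
  rw [Finset.mem_compl, Equiv.Perm.mem_support, not_not] at hx
  refine ⟨x.1, x.2, ?_⟩
  have := congrArg Subtype.val hx
  simpa [hσdef] using this

theorem invol_fix_core (hα : Fintype.card α = 11) (G : Subgroup (Perm α))
    (hsimple : IsSimpleGroup G) (hcard : Nat.card G = 7920) (heven : G ≤ alternatingGroup α)
    (h3 : ∀ y ∈ G, orderOf y = 3 → (Finset.univ.filter (fun a => y a = a)).card = 2)
    {t : Perm α} (ht : t ∈ G) (ht2 : orderOf t = 2) :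
    (Finset.univ.filter (fun a => t a = a)).card = 3 := by
  have hp : (orderOf t).Prime := by
    rw [ht2]
    norm_num
  obtain ⟨n, hn⟩ := Equiv.Perm.cycleType_prime_order hp
  rw [ht2] at hn
  have hsum : t.support.card = 2 * (n + 1) := by
    rw [← Equiv.Perm.sum_cycleType, hn, Multiset.sum_replicate, smul_eq_mul, mul_comm]
  have hsign : Equiv.Perm.sign t = 1 := Equiv.Perm.mem_alternatingGroup.mp (heven ht)
  rw [Equiv.Perm.sign_of_cycleType, hn, Multiset.sum_replicate, Multiset.card_replicate,
    smul_eq_mul] at hsign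
  have hfix := fix_card_eq hα t
  have heven' : Even (n + 1) := by
    have h1 : Even ((n + 1) * 2 + (n + 1)) :=
      (neg_one_pow_eq_one_iff_even (R := ℤˣ) (by decide)).mp hsign
    rcases Nat.even_or_odd (n + 1) with h | h
    · exact h
    · exfalso
      have h2 : Even ((n + 1) * 2) := ⟨n + 1, by ring⟩
      have := (Nat.even_add.mp h1).mp h2
      exact (Nat.not_even_iff_odd.mpr h) this
  obtain ⟨k, hk⟩ := heven'
  have hk' : k = 1 ∨ k = 2 := by omega
  rcases hk' with rfl | rfl
  · exfalso
    have hs4 : t.support.card = 4 := by omega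
    set t' : G := ⟨t, ht⟩ with ht'
    have ht'2 : orderOf t' = 2 := by
      rw [ht', Subgroup.orderOf_mk]
      exact ht2
    have hC := Cfsg.Agent.S0435.result (G := G) ⟨hsimple, hcard⟩ t' ht'2
    have : Fact (Nat.Prime 3) := ⟨by norm_num⟩
    obtain ⟨y'', hy''⟩ := exists_prime_orderOf_dvd_card'
      (G := Subgroup.centralizer ({t'} : Set G)) 3 (by rw [hC]; norm_num)
    set y : Perm α := ((y'' : G) : Perm α) with hydef
    have hyG : y ∈ G := (y'' : G).2
    have hy3 : orderOf y = 3 := by
      rw [← hy'', hydef, Subgroup.orderOf_coe, Subgroup.orderOf_coe]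
    have hcomm : t * y = y * t := by
      have := Subgroup.mem_centralizer_iff.mp y''.2 t' (Set.mem_singleton _)
      exact congrArg Subtype.val this
    have hy3' : y ^ 3 = 1 := by
      rw [← hy3]
      exact pow_orderOf_eq_one y
    have hinv : ∀ x, y x ∈ t.support ↔ x ∈ t.support := by
      intro x
      simp only [Equiv.Perm.mem_support]
      have : t (y x) = y (t x) := by
        calc t (y x) = (t * y) x := rfl
          _ = (y * t) x := by rw [hcomm]
          _ = y (t x) := rfl
      rw [this]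
      exact not_congr y.injective.eq_iff
    obtain ⟨a, haS, hya⟩ := exists_fixed_of_invariant y hy3' t.support hinv
      (by rw [hs4]; norm_num)
    have hinv' : ∀ x, y x ∈ t.supportᶜ ↔ x ∈ t.supportᶜ := by
      intro x
      simp only [Finset.mem_compl]
      exact not_congr (hinv x)
    obtain ⟨e, heS, hye⟩ := exists_fixed_of_invariant y hy3' t.supportᶜ hinv'
      (by rw [Finset.card_compl, hα, hs4]; norm_num)
    have hyta : y (t a) = t a := by
      calc y (t a) = (y * t) a := rfl
        _ = (t * y) a := by rw [hcomm]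
        _ = t (y a) := rfl
        _ = t a := by rw [hya]
    have hta : t a ≠ a := Equiv.Perm.mem_support.mp haS
    have htaS : t a ∈ t.support := Equiv.Perm.apply_mem_support.mpr haS
    have hea : e ≠ a := by
      rintro rfl
      exact (Finset.mem_compl.mp heS) haS
    have heta : e ≠ t a := by
      rintro rfl
      exact (Finset.mem_compl.mp heS) htaS
    have h2 := h3 y hyG hy3
    have hsub : ({a, t a, e} : Finset α) ⊆ Finset.univ.filter (fun x => y x = x) := by
      intro x hx
      simp only [Finset.mem_insert, Finset.mem_singleton] at hx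
      rw [Finset.mem_filter]
      refine ⟨Finset.mem_univ _, ?_⟩
      rcases hx with rfl | rfl | rfl
      · exact hya
      · exact hyta
      · exact hye
    have hcard3 : ({a, t a, e} : Finset α).card = 3 :=
      Finset.card_eq_three.mpr ⟨a, t a, e, hta.symm, hea.symm, heta.symm, rfl⟩
    have := Finset.card_le_card hsub
    omega
  · omega

end Cfsg.Agent.Lib.Helper10.D11
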