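import Mathlib
import Cfsg.Agent.Lib.helper3.D11G1
import Cfsg.Agent.Lib.Helper10.D11G2core

set_option autoImplicit false

/-! Project D11 (S0679, helper3 leads), piece G2 (helper10): statements verbatim. -/

namespace Cfsg.Agent.Lib.Helper10.D11

open MulAction Equiv

variable {α : Type*} [Fintype α] [DecidableEq α]

theorem order3_fix (hα : Fintype.card α = 11) (G : Subgroup (Perm α))
    (hsimple : IsSimpleGroup G) (hcard : Nat.card G = 7920) (hprim : IsPreprimitive G α)
    (hA : ¬ alternatingGroup α ≤ G) (heven : G ≤ alternatingGroup α) {y : Perm α} (hy : y ∈ G)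
    (hy3 : orderOf y = 3) : (Finset.univ.filter (fun a => y a = a)).card = 2 :=
  order3_fix_core hα G hcard
    (Cfsg.Agent.Lib.helper3.D11.sylow3_orbit hα G hsimple hcard hprim hA heven) hy hy3

theorem invol_fix (hα : Fintype.card α = 11) (G : Subgroup (Perm α))
    (hsimple : IsSimpleGroup G) (hcard : Nat.card G = 7920) (hprim : IsPreprimitive G α)
    (hA : ¬ alternatingGroup α ≤ G) (heven : G ≤ alternatingGroup α) {t : Perm α} (ht : t ∈ G)
    (ht2 : orderOf t = 2) : (Finset.univ.filter (fun a => t a = a)).card = 3 :=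
  invol_fix_core hα G hsimple hcard heven
    (fun _ hy hy3 => order3_fix hα G hsimple hcard hprim hA heven hy hy3) ht ht2

end Cfsg.Agent.Lib.Helper10.D11
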