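import Mathlib
import Cfsg.Agent.Lib.helper6.MultTrans
import Cfsg.Agent.Lib.Helper10.D11G2core

set_option autoImplicit false

/-! Project D11 (S0679, helper3 leads), piece G3 (helper10): a simple group of order 7920
acting 2-transitively on 11 points is sharply 4-transitive.  Core version taking the
conclusions of `sylow3_orbit` and `invol_fix` as hypotheses. -/

namespace Cfsg.Agent.Lib.Helper10.D11

open MulAction Equiv

variable {α : Type*} [Fintype α] [DecidableEq α]

/-- multiple transitivity from the fixing criterion at the exact level `j - 1` -/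
theorem of_fixing_exact (G : Subgroup (Perm α)) (j : ℕ) (hj : j + 1 ≤ Fintype.card α)
    (h : ∀ Z : Finset α, Z.card + 1 = j → ∀ a b : α, a ∉ Z → b ∉ Z →
      ∃ g ∈ G, (∀ z ∈ Z, g z = z) ∧ g a = b) : IsMultiplyPretransitive G α j := by
  apply Cfsg.Agent.Lib.helper6.isMultiplyPretransitive_of_fixing
  intro Z hZ a b ha hb
  have hsub : Z ⊆ Finset.univ \ {a, b} := by
    intro z hz
    simp only [Finset.mem_sdiff, Finset.mem_univ, true_and, Finset.mem_insert,
      Finset.mem_singleton, not_or]
    exact ⟨fun h => ha (h ▸ hz), fun h => hb (h ▸ hz)⟩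
  have hcard : j - 1 ≤ (Finset.univ \ {a, b} : Finset α).card := by
    rw [Finset.card_sdiff_of_subset (Finset.subset_univ _), Finset.card_univ]
    have : ({a, b} : Finset α).card ≤ 2 := Finset.card_le_two
    omega
  obtain ⟨Z', hZZ', hZ't, hZ'card⟩ := Finset.exists_subsuperset_card_eq hsub (by omega) hcard
  have ha' : a ∉ Z' := fun h => by
    have := hZ't h
    simp at this
  have hb' : b ∉ Z' := fun h => by
    have := hZ't h
    simp at this
  obtain ⟨g, hg, hgZ, hgab⟩ := h Z' (by omega) a b ha' hb'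
  exact ⟨g, hg, fun z hz => hgZ z (hZZ' hz), hgab⟩

/-- Step A: the stabiliser of two points is transitive on the rest -/
theorem two_point_trans (G : Subgroup (Perm α)) (h2 : IsMultiplyPretransitive G α 2)
    (hS : SylOrb G) {z1 z2 a' b' : α} (hz : z1 ≠ z2) (ha1 : a' ≠ z1) (ha2 : a' ≠ z2)
    (hb1 : b' ≠ z1) (hb2 : b' ≠ z2) : ∃ g ∈ G, g z1 = z1 ∧ g z2 = z2 ∧ g a' = b' := by
  obtain ⟨Q, a, b, hQG, hQ9, hab, hfix, htr⟩ := hS
  obtain ⟨h, hh1, hh2⟩ := (is_two_pretransitive_iff.mp h2) hab hz
  have hh1' : (h : Perm α) a = z1 := hh1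
  have hh2' : (h : Perm α) b = z2 := hh2
  set hp : Perm α := (h : Perm α) with hhp
  have hc1 : hp⁻¹ a' ≠ a := by
    intro hc
    apply ha1
    rw [← hh1', ← hc]
    simp
  have hc2 : hp⁻¹ a' ≠ b := by
    intro hc
    apply ha2
    rw [← hh2', ← hc]
    simp
  have hd1 : hp⁻¹ b' ≠ a := by
    intro hc
    apply hb1
    rw [← hh1', ← hc]
    simp
  have hd2 : hp⁻¹ b' ≠ b := by
    intro hc
    apply hb2
    rw [← hh2', ← hc]
    simp
  obtain ⟨g, hg, hgc⟩ := htr _ _ hc1 hc2 hd1 hd2
  refine ⟨hp * g * hp⁻¹, G.mul_mem (G.mul_mem h.2 (hQG hg)) (G.inv_mem h.2), ?_, ?_, ?_⟩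
  · have : hp⁻¹ z1 = a := by
      rw [← hh1']
      simp
    simp only [Equiv.Perm.mul_apply, this, (hfix g hg).1]
    exact hh1'
  · have : hp⁻¹ z2 = b := by
      rw [← hh2']
      simp
    simp only [Equiv.Perm.mul_apply, this, (hfix g hg).2]
    exact hh2'
  · simp only [Equiv.Perm.mul_apply, hgc]
    simp

/-- Step B: 3-transitivity -/
theorem three_trans (hα : Fintype.card α = 11) (G : Subgroup (Perm α))
    (h2 : IsMultiplyPretransitive G α 2) (hS : SylOrb G) : IsMultiplyPretransitive G α 3 := by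
  apply of_fixing_exact G 3 (by rw [hα]; norm_num)
  intro Z hZ a' b' ha' hb'
  have hZ2 : Z.card = 2 := by omega
  obtain ⟨z1, z2, hz, rfl⟩ := Finset.card_eq_two.mp hZ2
  simp only [Finset.mem_insert, Finset.mem_singleton, not_or] at ha' hb'
  obtain ⟨g, hg, hg1, hg2, hgab⟩ := two_point_trans G h2 hS hz ha'.1 ha'.2 hb'.1 hb'.2
  refine ⟨g, hg, ?_, hgab⟩
  intro z hz'
  simp only [Finset.mem_insert, Finset.mem_singleton] at hz'
  rcases hz' with rfl | rfl
  · exact hg1
  · exact hg2

/-- Step C: three-point stabilisers have order 8 -/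
theorem card_stab3 (hα : Fintype.card α = 11) (G : Subgroup (Perm α))
    (hcard : Nat.card G = 7920) (h3 : IsMultiplyPretransitive G α 3) (x : Fin 3 ↪ α) :
    Nat.card (stabilizer G x) = 8 := by
  have h1 := @MulAction.index_stabilizer_of_transitive G (Fin 3 ↪ α) _ _ x h3
  have h2 := (stabilizer G x).card_mul_index
  have h4 : Nat.card (Fin 3 ↪ α) = 990 := by
    rw [Nat.card_eq_fintype_card, Fintype.card_embedding_eq, hα, Fintype.card_fin]
    decide
  rw [h1, h4, hcard] at h2
  omega

theorem mem_stab_iff {n : ℕ} (G : Subgroup (Perm α)) (x : Fin n ↪ α) (u : G) :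
    u ∈ stabilizer G x ↔ ∀ i, (u : Perm α) (x i) = x i := by
  rw [mem_stabilizer_iff]
  constructor
  · intro h i
    have := DFunLike.congr_fun h i
    exact this
  · intro h
    ext i
    exact h i

/-- Step D: semiregularity of the three-point stabiliser -/
theorem semireg (G : Subgroup (Perm α))
    (hS8 : ∀ x : Fin 3 ↪ α, Nat.card (stabilizer G x) = 8)
    (hinv : ∀ t ∈ G, orderOf t = 2 → (Finset.univ.filter (fun a => t a = a)).card = 3)
    (x : Fin 3 ↪ α) (u : G) (hu : u ∈ stabilizer G x) (d : α) (hd : d ∉ Set.range x)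
    (hud : (u : Perm α) d = d) : u = 1 := by
  by_contra hne
  have hpow : u ^ 8 = 1 := by
    have h1 : (⟨u, hu⟩ : stabilizer G x) ^ 8 = 1 := by
      rw [← hS8 x]
      exact pow_card_eq_one'
    exact congrArg Subtype.val h1
  have hdvd : orderOf u ∣ 8 := orderOf_dvd_of_pow_eq_one hpow
  have hne1 : orderOf u ≠ 1 := fun h => hne (orderOf_eq_one_iff.mp h)
  have hle : orderOf u ≤ 8 := Nat.le_of_dvd (by norm_num) hdvd
  have hpos : 0 < orderOf u := Nat.pos_of_dvd_of_pos hdvd (by norm_num)
  -- an involution among the powers of `u`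
  have hex : ∃ m : ℕ, orderOf (u ^ m) = 2 := by
    have h2dvd : 2 ∣ orderOf u := by
      interval_cases h : orderOf u <;> simp_all <;> omega
    obtain ⟨m, hm⟩ := h2dvd
    refine ⟨m, ?_⟩
    have hm0 : m ≠ 0 := by
      rintro rfl
      omega
    rw [orderOf_pow_of_dvd hm0 ⟨2, by rw [hm]; ring⟩, hm]
    exact Nat.mul_div_cancel _ (Nat.pos_of_ne_zero hm0)
  obtain ⟨m, hm⟩ := hex
  set t : Perm α := ((u ^ m : G) : Perm α) with ht
  have htG : t ∈ G := (u ^ m : G).2
  have ht2 : orderOf t = 2 := by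
    rw [ht, Subgroup.orderOf_coe]
    exact hm
  have h3 := hinv t htG ht2
  have hfixpow : ∀ c : α, (u : Perm α) c = c → t c = c := by
    intro c hc
    rw [ht, Subgroup.coe_pow]
    exact Equiv.Perm.pow_apply_eq_self_of_apply_eq_self hc m
  have hux : ∀ i, (u : Perm α) (x i) = x i := (mem_stab_iff G x u).mp hu
  have hsub : insert d (Finset.univ.image x) ⊆ Finset.univ.filter (fun a => t a = a) := by
    intro c hc
    rw [Finset.mem_filter]
    refine ⟨Finset.mem_univ _, ?_⟩
    rw [Finset.mem_insert, Finset.mem_image] at hc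
    rcases hc with rfl | ⟨i, -, rfl⟩
    · exact hfixpow _ hud
    · exact hfixpow _ (hux i)
  have hdn : d ∉ Finset.univ.image x := by
    rw [Finset.mem_image]
    rintro ⟨i, -, hi⟩
    exact hd ⟨i, hi⟩
  have hc4 : (insert d (Finset.univ.image x)).card = 4 := by
    rw [Finset.card_insert_of_notMem hdn, Finset.card_image_of_injective _ x.injective]
    simp
  have := Finset.card_le_card hsub
  omega

/-- Step E: the three-point stabiliser is transitive on the remaining 8 points -/
theorem three_point_trans (hα : Fintype.card α = 11) (G : Subgroup (Perm α))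
    (hS8 : ∀ x : Fin 3 ↪ α, Nat.card (stabilizer G x) = 8)
    (hinv : ∀ t ∈ G, orderOf t = 2 → (Finset.univ.filter (fun a => t a = a)).card = 3)
    (x : Fin 3 ↪ α) {a' b' : α} (ha' : a' ∉ Set.range x) (hb' : b' ∉ Set.range x) :
    ∃ g ∈ G, (∀ i, g (x i) = x i) ∧ g a' = b' := by
  classical
  haveI : Fintype (stabilizer G x) := Fintype.ofFinite _
  have hcard : Fintype.card (stabilizer G x) = 8 := by
    rw [← Nat.card_eq_fintype_card]
    exact hS8 x
  set f : stabilizer G x → α := fun u => ((u : G) : Perm α) a' with hf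
  have hinj : Function.Injective f := by
    intro u v huv
    have h1 : (((v⁻¹ * u : stabilizer G x) : G) : Perm α) a' = a' := by
      have : ((u : G) : Perm α) a' = ((v : G) : Perm α) a' := huv
      simp only [Subgroup.coe_mul, Subgroup.coe_inv, Equiv.Perm.mul_apply, this]
      simp
    have h2 := semireg G hS8 hinv x ((v⁻¹ * u : stabilizer G x) : G) (v⁻¹ * u).2 a' ha' h1
    have h3 : v⁻¹ * u = 1 := Subtype.ext h2
    have := inv_mul_eq_one.mp h3
    exact this.symm
  have hsub : Finset.univ.image f ⊆ Finset.univ \ Finset.univ.image x := by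
    intro c hc
    rw [Finset.mem_image] at hc
    obtain ⟨u, -, rfl⟩ := hc
    rw [Finset.mem_sdiff, Finset.mem_image]
    refine ⟨Finset.mem_univ _, ?_⟩
    rintro ⟨i, -, hi⟩
    have hux := (mem_stab_iff G x (u : G)).mp u.2 i
    have : ((u : G) : Perm α) (x i) = ((u : G) : Perm α) a' := by
      rw [hux]
      exact hi
    exact ha' ⟨i, ((u : G) : Perm α).injective this⟩
  have hc1 : (Finset.univ.image f).card = 8 := by
    rw [Finset.card_image_of_injective _ hinj, Finset.card_univ, hcard]
  have hc2 : (Finset.univ \ Finset.univ.image x : Finset α).card = 8 := by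
    rw [Finset.card_sdiff_of_subset (Finset.subset_univ _), Finset.card_univ, hα,
      Finset.card_image_of_injective _ x.injective]
    simp
  have heq := Finset.eq_of_subset_of_card_le hsub (by rw [hc1, hc2])
  have hb'' : b' ∈ Finset.univ.image f := by
    rw [heq, Finset.mem_sdiff, Finset.mem_image]
    refine ⟨Finset.mem_univ _, ?_⟩
    rintro ⟨i, -, hi⟩
    exact hb' ⟨i, hi⟩
  rw [Finset.mem_image] at hb''
  obtain ⟨u, -, hu⟩ := hb''
  exact ⟨((u : G) : Perm α), (u : G).2, (mem_stab_iff G x (u : G)).mp u.2, hu⟩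

/-- an embedding `Fin 3 ↪ α` with prescribed distinct values -/
def emb3 {z1 z2 z3 : α} (h12 : z1 ≠ z2) (h13 : z1 ≠ z3) (h23 : z2 ≠ z3) : Fin 3 ↪ α where
  toFun := ![z1, z2, z3]
  inj' := by
    intro i j hij
    fin_cases i <;> fin_cases j <;> simp_all

theorem sharp_core (hα : Fintype.card α = 11) (G : Subgroup (Perm α))
    (hcard : Nat.card G = 7920) (h2 : IsMultiplyPretransitive G α 2) (hS : SylOrb G)
    (hinv : ∀ t ∈ G, orderOf t = 2 → (Finset.univ.filter (fun a => t a = a)).card = 3) :
    IsMultiplyPretransitive G α 4 ∧ ∀ x : Fin 4 ↪ α, stabilizer G x = ⊥ := by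
  have h3 := three_trans hα G h2 hS
  have hS8 := card_stab3 hα G hcard h3
  constructor
  · apply of_fixing_exact G 4 (by rw [hα]; norm_num)
    intro Z hZ a' b' ha' hb'
    have hZ3 : Z.card = 3 := by omega
    obtain ⟨z1, z2, z3, h12, h13, h23, rfl⟩ := Finset.card_eq_three.mp hZ3
    simp only [Finset.mem_insert, Finset.mem_singleton, not_or] at ha' hb'
    have hra : a' ∉ Set.range (emb3 h12 h13 h23) := by
      rintro ⟨i, hi⟩
      fin_cases i
      · exact ha'.1 hi.symm
      · exact ha'.2.1 hi.symm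
      · exact ha'.2.2 hi.symm
    have hrb : b' ∉ Set.range (emb3 h12 h13 h23) := by
      rintro ⟨i, hi⟩
      fin_cases i
      · exact hb'.1 hi.symm
      · exact hb'.2.1 hi.symm
      · exact hb'.2.2 hi.symm
    obtain ⟨g, hg, hgx, hgab⟩ := three_point_trans hα G hS8 hinv (emb3 h12 h13 h23) hra hrb
    refine ⟨g, hg, ?_, hgab⟩
    intro z hz
    simp only [Finset.mem_insert, Finset.mem_singleton] at hz
    rcases hz with rfl | rfl | rfl
    · exact hgx 0
    · exact hgx 1
    · exact hgx 2
  · intro x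
    rw [Subgroup.eq_bot_iff_forall]
    intro u hu
    have hux := (mem_stab_iff G x u).mp hu
    set x' : Fin 3 ↪ α := Fin.castSuccEmb.trans x with hx'
    have hu' : u ∈ stabilizer G x' := by
      rw [mem_stab_iff]
      intro i
      exact hux _
    have hd : x (Fin.last 3) ∉ Set.range x' := by
      rintro ⟨i, hi⟩
      have := x.injective hi
      exact absurd this (Fin.castSucc_ne_last i)
    exact semireg G hS8 hinv x' u hu' (x (Fin.last 3)) hd (hux _)

end Cfsg.Agent.Lib.Helper10.D11
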