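import Mathlib
import Cfsg.Agent.Lib.helper3.D11G1
import Cfsg.Agent.Lib.Helper10.D11G2
import Cfsg.Agent.Lib.Helper10.D11G3core

set_option autoImplicit false

/-! Project D11 (S0679, helper3 leads), piece G3 (helper10): statement verbatim. -/

namespace Cfsg.Agent.Lib.Helper10.D11

open MulAction Equiv

variable {α : Type*} [Fintype α] [DecidableEq α]

theorem sharp_of_7920 (hα : Fintype.card α = 11) (G : Subgroup (Perm α))
    (hsimple : IsSimpleGroup G) (hcard : Nat.card G = 7920)
    (h2 : IsMultiplyPretransitive G α 2) (hA : ¬ alternatingGroup α ≤ G)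
    (heven : G ≤ alternatingGroup α) :
    IsMultiplyPretransitive G α 4 ∧ ∀ x : Fin 4 ↪ α, stabilizer G x = ⊥ := by
  have hprim : IsPreprimitive G α := isPreprimitive_of_is_two_pretransitive h2
  exact sharp_core hα G hcard h2
    (Cfsg.Agent.Lib.helper3.D11.sylow3_orbit hα G hsimple hcard hprim hA heven)
    (fun _ ht ht2 => invol_fix hα G hsimple hcard hprim hA heven ht ht2)

end Cfsg.Agent.Lib.Helper10.D11
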