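import Mathlib

set_option autoImplicit false

namespace Cfsg.Agent.Lib.Helper10.D8Syl

variable {L : Type*} [Group L]

structure Good (Ω : Set L) (u : L) : Prop where
  ne : u ≠ 1
  sq : u * u = 1
  comm : ∀ x y : L, x * u = u * x → y * u = u * y → x * y = y * x ∨ x * y = u * (y * x)
  sqr : ∀ x : L, x * u = u * x → x * x = 1 ∨ x * x = u
  uniq : ∀ v ∈ Ω, (∀ x : L, x * u = u * x → x * v = v * x) → v = u

structure Cls (Ω : Set L) : Prop where
  good : ∀ u ∈ Ω, Good Ω u
  conj : ∀ u ∈ Ω, ∀ g : L, g * u * g⁻¹ ∈ Ω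

theorem Cls.sq_eq_one {Ω : Set L} (hΩ : Cls Ω) {u v : L} (hu : u ∈ Ω) (hv : v ∈ Ω) (hne : u ≠ v)
    (x : L) (hxu : x * u = u * x) (hxv : x * v = v * x) : x * x = 1 := by
  rcases (hΩ.good u hu).sqr x hxu with h | h
  · exact h
  · rcases (hΩ.good v hv).sqr x hxv with h' | h'
    · exact h'
    · exact absurd (h.symm.trans h') hne

theorem Cls.commute {Ω : Set L} (hΩ : Cls Ω) {u v : L} (hu : u ∈ Ω) (hv : v ∈ Ω) (hne : u ≠ v)
    (x y : L) (hxu : x * u = u * x) (hxv : x * v = v * x) (hyu : y * u = u * y)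
    (hyv : y * v = v * y) : x * y = y * x := by
  rcases (hΩ.good u hu).comm x y hxu hyu with h | h
  · exact h
  · rcases (hΩ.good v hv).comm x y hxv hyv with h' | h'
    · exact h'
    · exact absurd (mul_right_cancel (h.symm.trans h')) hne

theorem Cls.mul_mem {Ω : Set L} (hΩ : Cls Ω) {u v : L} (hu : u ∈ Ω) (hv : v ∈ Ω) (hne : u ≠ v)
    (hc : u * v = v * u) : u * v ∈ Ω := by
  by_cases h : ∀ t : L, t * u = u * t → t * v = v * t
  · exact absurd ((hΩ.good u hu).uniq v hv h).symm hne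
  · push Not at h
    obtain ⟨t, htu, htv⟩ := h
    rcases (hΩ.good u hu).comm t v htu hc.symm with h1 | h1
    · exact absurd h1 htv
    · have h2 : t * v * t⁻¹ = u * v := by
        rw [h1, ← mul_assoc, mul_inv_cancel_right]
      rw [← h2]
      exact hΩ.conj v hv t

theorem Cls.mul_eq {Ω : Set L} (hΩ : Cls Ω) {z u v : L} (hz : z ∈ Ω) (hu : u ∈ Ω) (hv : v ∈ Ω)
    (hzu : z ≠ u) (hzv : z ≠ v) (huv : u ≠ v) (czu : u * z = z * u) (czv : v * z = z * v)
    (cuv : u * v = v * u) : u * v = z := by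
  apply (hΩ.good z hz).uniq (u * v) (hΩ.mul_mem hu hv huv cuv)
  intro t ht
  by_cases htu : t * u = u * t
  · have htv : t * v = v * t := hΩ.commute hz hu hzu t v ht htu czv cuv.symm
    rw [← mul_assoc, htu, mul_assoc, htv, mul_assoc]
  · have htv : t * v ≠ v * t := by
      intro htv
      exact htu (hΩ.commute hz hv hzv t u ht htv czu cuv)
    have h1 : t * u = z * (u * t) := by
      rcases (hΩ.good z hz).comm t u ht czu with h | h
      · exact absurd h htu
      · exact h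
    have h2 : t * v = z * (v * t) := by
      rcases (hΩ.good z hz).comm t v ht czv with h | h
      · exact absurd h htv
      · exact h
    have hzz := (hΩ.good z hz).sq
    calc t * (u * v) = t * u * v := (mul_assoc _ _ _).symm
      _ = z * (u * t) * v := by rw [h1]
      _ = z * u * (t * v) := by simp only [mul_assoc]
      _ = z * u * (z * (v * t)) := by rw [h2]
      _ = z * (u * z) * (v * t) := by simp only [mul_assoc]
      _ = z * (z * u) * (v * t) := by rw [czu]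
      _ = z * z * u * (v * t) := by simp only [mul_assoc]
      _ = u * v * t := by rw [hzz, one_mul, mul_assoc]

theorem Cls.inv_eq {Ω : Set L} (hΩ : Cls Ω) {u : L} (hu : u ∈ Ω) : u⁻¹ = u :=
  inv_eq_of_mul_eq_one_left (hΩ.good u hu).sq

theorem Cls.five {Ω : Set L} (hΩ : Cls Ω) {z u1 u2 w : L} (hz : z ∈ Ω) (h1 : u1 ∈ Ω) (h2 : u2 ∈ Ω)
    (hw : w ∈ Ω) (c1 : u1 * z = z * u1) (c2 : u2 * z = z * u2) (cw : w * z = z * w)
    (hnc : u1 * u2 ≠ u2 * u1) :
    w = z ∨ w = u1 ∨ w = u1 * z ∨ w = u2 ∨ w = u2 * z := by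
  have hz1 : z ≠ u1 := by
    intro h; apply hnc; rw [← h]; exact c2.symm
  have hz2 : z ≠ u2 := by
    intro h; apply hnc; rw [← h]; exact c1
  by_cases hwz : w = z
  · exact Or.inl hwz
  by_cases hw1 : w * u1 = u1 * w
  · by_cases hwu : w = u1
    · exact Or.inr (Or.inl hwu)
    · have := hΩ.mul_eq hz h1 hw hz1 (Ne.symm hwz) (Ne.symm hwu) c1 cw hw1.symm
      refine Or.inr (Or.inr (Or.inl ?_))
      rw [← this, ← mul_assoc, (hΩ.good u1 h1).sq, one_mul]
  by_cases hw2 : w * u2 = u2 * w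
  · by_cases hwu : w = u2
    · exact Or.inr (Or.inr (Or.inr (Or.inl hwu)))
    · have := hΩ.mul_eq hz h2 hw hz2 (Ne.symm hwz) (Ne.symm hwu) c2 cw hw2.symm
      refine Or.inr (Or.inr (Or.inr (Or.inr ?_)))
      rw [← this, ← mul_assoc, (hΩ.good u2 h2).sq, one_mul]
  exfalso
  have e12 : u1 * u2 = z * (u2 * u1) := by
    rcases (hΩ.good z hz).comm u1 u2 c1 c2 with h | h
    · exact absurd h hnc
    · exact h
  have ew1 : w * u1 = z * (u1 * w) := by
    rcases (hΩ.good z hz).comm w u1 cw c1 with h | h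
    · exact absurd h hw1
    · exact h
  have hxz : (u2 * w) * z = z * (u2 * w) := by
    rw [mul_assoc, cw, ← mul_assoc, c2, mul_assoc]
  have hx1 : (u2 * w) * u1 = u1 * (u2 * w) := by
    calc (u2 * w) * u1 = u2 * (w * u1) := mul_assoc _ _ _
      _ = u2 * (z * (u1 * w)) := by rw [ew1]
      _ = (u2 * z) * (u1 * w) := by simp only [mul_assoc]
      _ = (z * u2) * (u1 * w) := by rw [c2]
      _ = (z * (u2 * u1)) * w := by simp only [mul_assoc]
      _ = (u1 * u2) * w := by rw [e12]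
      _ = u1 * (u2 * w) := mul_assoc _ _ _
  have hsq := hΩ.sq_eq_one hz h1 hz1 (u2 * w) hxz hx1
  apply hw2
  have h3 : (u2 * w)⁻¹ = u2 * w := inv_eq_of_mul_eq_one_left hsq
  rw [mul_inv_rev, hΩ.inv_eq hw, hΩ.inv_eq h2] at h3
  exact h3

end Cfsg.Agent.Lib.Helper10.D8Syl
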