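import Mathlib
import Cfsg.Agent.Lib.Helper10.D8Syl1

set_option autoImplicit false

namespace Cfsg.Agent.Lib.Helper10.D8Syl

variable {L : Type*} [Group L]

theorem mem_zpowers_of_sq {z x : L} (hz : z * z = 1) (hx : x ∈ Subgroup.zpowers z) :
    x = 1 ∨ x = z := by
  rw [Subgroup.mem_zpowers_iff] at hx
  obtain ⟨k, rfl⟩ := hx
  have hz2 : z ^ (2 : ℤ) = 1 := by
    rw [zpow_ofNat, pow_two]; exact hz
  rcases Int.even_or_odd' k with ⟨m, hm | hm⟩
  · left
    rw [hm, zpow_mul, hz2, one_zpow]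
  · right
    rw [hm, zpow_add, zpow_mul, hz2, one_zpow, one_mul, zpow_one]

theorem Cls.main {Ω : Set L} (hΩ : Cls Ω) {z : L} (hz : z ∈ Ω) (R : Subgroup L)
    (hR : ∀ x : L, x ∈ R ↔ x * z = z * x)
    (hgen : R ≤ Subgroup.closure (Ω ∩ (R : Set L)))
    (hne : ¬ R ≤ Subgroup.zpowers z) :
    ∃ u1 u2 : L, orderOf u1 = 2 ∧ orderOf u2 = 2 ∧ orderOf (u1 * u2) = 4 ∧
      R = Subgroup.closure ({u1, u2} : Set L) := by
  have hzz := (hΩ.good z hz).sq
  have hex : ∃ u1 ∈ Ω ∩ (R : Set L), ∃ u2 ∈ Ω ∩ (R : Set L), u1 * u2 ≠ u2 * u1 := by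
    by_contra hcon
    push Not at hcon
    apply hne
    refine hgen.trans ?_
    rw [Subgroup.closure_le]
    intro u hu
    have huz : u = z := by
      apply (hΩ.good z hz).uniq u hu.1
      intro x hx
      have hxR : x ∈ R := (hR x).mpr hx
      have hxc : x ∈ Subgroup.centralizer ({u} : Set L) := by
        have hle : Subgroup.closure (Ω ∩ (R : Set L)) ≤ Subgroup.centralizer ({u} : Set L) := by
          rw [Subgroup.closure_le]
          intro w hw
          rw [SetLike.mem_coe, Subgroup.mem_centralizer_singleton_iff]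
          exact hcon w hw u hu
        exact hle (hgen hxR)
      rw [Subgroup.mem_centralizer_singleton_iff] at hxc
      exact hxc
    rw [huz]
    exact Subgroup.mem_zpowers z
  obtain ⟨u1, hu1, u2, hu2, hnc⟩ := hex
  have c1 : u1 * z = z * u1 := (hR u1).mp hu1.2
  have c2 : u2 * z = z * u2 := (hR u2).mp hu2.2
  have e12 : u1 * u2 = z * (u2 * u1) := by
    rcases (hΩ.good z hz).comm u1 u2 c1 c2 with h | h
    · exact absurd h hnc
    · exact h
  have s1 := (hΩ.good u1 hu1.1).sq
  have s2 := (hΩ.good u2 hu2.1).sq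
  have hu1c : u1 ∈ Subgroup.closure ({u1, u2} : Set L) :=
    Subgroup.subset_closure (Set.mem_insert _ _)
  have hu2c : u2 ∈ Subgroup.closure ({u1, u2} : Set L) :=
    Subgroup.subset_closure (Set.mem_insert_of_mem _ rfl)
  have hzc : z ∈ Subgroup.closure ({u1, u2} : Set L) := by
    have : z = u1 * u2 * (u2 * u1)⁻¹ := by
      rw [e12, mul_inv_cancel_right]
    rw [this]
    exact Subgroup.mul_mem _ (Subgroup.mul_mem _ hu1c hu2c)
      (Subgroup.inv_mem _ (Subgroup.mul_mem _ hu2c hu1c))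
  have hsq : (u1 * u2) * (u1 * u2) = z := by
    calc (u1 * u2) * (u1 * u2) = z * (u2 * u1) * (u1 * u2) := by rw [← e12]
      _ = z * (u2 * (u1 * u1) * u2) := by simp only [mul_assoc]
      _ = z := by rw [s1, mul_one, s2, mul_one]
  refine ⟨u1, u2, ?_, ?_, ?_, ?_⟩
  · exact orderOf_eq_prime (by rw [pow_two]; exact s1) (hΩ.good u1 hu1.1).ne
  · exact orderOf_eq_prime (by rw [pow_two]; exact s2) (hΩ.good u2 hu2.1).ne
  · have h4 : (4 : ℕ) = 2 ^ (1 + 1) := by norm_num
    rw [h4]
    apply orderOf_eq_prime_pow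
    · rw [pow_one, pow_two, hsq]
      exact (hΩ.good z hz).ne
    · have : (2 : ℕ) ^ (1 + 1) = 2 * 2 := by norm_num
      rw [this, pow_mul, pow_two (u1 * u2), hsq, pow_two, hzz]
  · apply le_antisymm
    · refine hgen.trans ?_
      rw [Subgroup.closure_le]
      intro w hw
      have cw : w * z = z * w := (hR w).mp hw.2
      rcases hΩ.five hz hu1.1 hu2.1 hw.1 c1 c2 cw hnc with h | h | h | h | h
      · rw [h]; exact hzc
      · rw [h]; exact hu1c
      · rw [h]; exact Subgroup.mul_mem _ hu1c hzc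
      · rw [h]; exact hu2c
      · rw [h]; exact Subgroup.mul_mem _ hu2c hzc
    · rw [Subgroup.closure_le]
      intro w hw
      rcases hw with h | h
      · rw [h]; exact hu1.2
      · rw [Set.mem_singleton_iff] at h
        rw [h]; exact hu2.2

end Cfsg.Agent.Lib.Helper10.D8Syl
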