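import Mathlib
import Cfsg.Agent.Lib.Helper10.D8Syl2
import Cfsg.Agent.Lib.Helper18.SylowIn
import Cfsg.Agent.Lib.Helper1.Frat
import Cfsg.Agent.Lib.Helper5.PGroup

set_option autoImplicit false

namespace Cfsg.Agent.Lib.Helper10.D8Syl

open Cfsg.Agent.Lib.Helper18
open scoped commutatorElement

variable {L : Type*} [Group L]

theorem conj_comm_iff (g u x : L) :
    x * (g * u * g⁻¹) = (g * u * g⁻¹) * x ↔ (g⁻¹ * x * g) * u = u * (g⁻¹ * x * g) := by
  constructor
  · intro h
    have := congrArg (fun t => g⁻¹ * t * g) h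
    simpa [mul_assoc] using this
  · intro h
    have := congrArg (fun t => g * t * g⁻¹) h
    simpa [mul_assoc] using this

theorem Good.transport {Ω : Set L} (hconj : ∀ u ∈ Ω, ∀ g : L, g * u * g⁻¹ ∈ Ω) {u : L}
    (h : Good Ω u) (g : L) : Good Ω (g * u * g⁻¹) := by
  refine ⟨?_, ?_, ?_, ?_, ?_⟩
  · intro h1
    exact h.ne (conj_eq_one_iff.mp h1)
  · have : g * u * g⁻¹ * (g * u * g⁻¹) = g * (u * u) * g⁻¹ := by group
    rw [this, h.sq, mul_one, mul_inv_cancel]
  · intro x y hx hy
    rw [conj_comm_iff] at hx hy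
    rcases h.comm _ _ hx hy with h1 | h1
    · left
      have := congrArg (fun t => g * t * g⁻¹) h1
      simpa [mul_assoc] using this
    · right
      have := congrArg (fun t => g * t * g⁻¹) h1
      simpa [mul_assoc] using this
  · intro x hx
    rw [conj_comm_iff] at hx
    rcases h.sqr _ hx with h1 | h1
    · left
      have := congrArg (fun t => g * t * g⁻¹) h1
      simpa [mul_assoc] using this
    · right
      have := congrArg (fun t => g * t * g⁻¹) h1
      simpa [mul_assoc] using this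
  · intro v hv hall
    have hw : g⁻¹ * v * g ∈ Ω := by
      have := hconj v hv g⁻¹
      rwa [inv_inv] at this
    have h1 : g⁻¹ * v * g = u := by
      apply h.uniq _ hw
      intro x hx
      have hX : (g * x * g⁻¹) * (g * u * g⁻¹) = (g * u * g⁻¹) * (g * x * g⁻¹) := by
        rw [conj_comm_iff]
        have : g⁻¹ * (g * x * g⁻¹) * g = x := by group
        rw [this]
        exact hx
      have h2 := hall _ hX
      have := congrArg (fun t => g⁻¹ * t * g) h2
      simpa [mul_assoc] using this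
    rw [← h1]
    group

theorem good_z [Finite L] (z : L) (hz : orderOf z = 2) (R : Subgroup L) (hR2 : IsPGroup 2 R)
    (hR : R = Subgroup.centralizer ({z} : Set L))
    (hΦ : (frattini ↥R).map R.subtype = Subgroup.zpowers z) :
    Good {u : L | ∃ g : L, u = g * z * g⁻¹} z := by
  have : Fact (Nat.Prime 2) := ⟨Nat.prime_two⟩
  have hz1 : z ≠ 1 := by
    intro h
    rw [h, orderOf_one] at hz
    exact absurd hz (by norm_num)
  have hzz : z * z = 1 := by
    rw [← pow_two, ← hz]; exact pow_orderOf_eq_one z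
  have hmemR : ∀ x : L, x ∈ R ↔ x * z = z * x := by
    intro x
    rw [hR, Subgroup.mem_centralizer_singleton_iff]
  have hzp : ∀ y : ↥R, y ∈ frattini ↥R → (y : L) = 1 ∨ (y : L) = z := by
    intro y hy
    have : (y : L) ∈ (frattini ↥R).map R.subtype := ⟨y, hy, rfl⟩
    rw [hΦ] at this
    exact mem_zpowers_of_sq hzz this
  refine ⟨hz1, hzz, ?_, ?_, ?_⟩
  · intro x y hx hy
    have hxR : x ∈ R := (hmemR x).mpr hx
    have hyR : y ∈ R := (hmemR y).mpr hy
    have h1 : ⁅(⟨x, hxR⟩ : ↥R), ⟨y, hyR⟩⁆ ∈ frattini ↥R := by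
      apply Cfsg.Agent.Lib.Helper1.pgroup_commutator_le_frattini hR2
      rw [commutator_def]
      exact Subgroup.commutator_mem_commutator (Subgroup.mem_top _) (Subgroup.mem_top _)
    rcases hzp _ h1 with h2 | h2
    · left
      have h3 : x * y * x⁻¹ * y⁻¹ = 1 := by
        simpa [commutatorElement_def] using h2
      have := congrArg (fun t => t * y * x) h3
      simpa [mul_assoc] using this
    · right
      have h3 : x * y * x⁻¹ * y⁻¹ = z := by
        simpa [commutatorElement_def] using h2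
      have := congrArg (fun t => t * y * x) h3
      simpa [mul_assoc] using this
  · intro x hx
    have hxR : x ∈ R := (hmemR x).mpr hx
    have h1 : (⟨x, hxR⟩ : ↥R) ^ 2 ∈ frattini ↥R :=
      Cfsg.Agent.Lib.Helper1.pgroup_pow_mem_frattini hR2 _
    rcases hzp _ h1 with h2 | h2
    · left
      simpa [pow_two] using h2
    · right
      simpa [pow_two] using h2
  · rintro v ⟨g, rfl⟩ hall
    have hle : R ≤ conjSub g R := by
      intro x hx
      rw [mem_conjSub]
      have := hall x ((hmemR x).mp hx)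
      rw [conj_comm_iff] at this
      exact (hmemR _).mpr this
    have heq : R = conjSub g R := by
      apply Subgroup.eq_of_le_of_card_ge hle
      rw [card_conjSub]
    have hmap : R.map (MulAut.conj g).toMonoidHom = R := heq.symm
    obtain ⟨φ, hφ⟩ : ∃ φ : ↥R ≃* ↥R, ∀ x : ↥R, ((φ x : ↥R) : L) = g * x * g⁻¹ :=
      ⟨(R.equivMapOfInjective (MulAut.conj g).toMonoidHom (MulAut.conj g).injective).trans
        (MulEquiv.subgroupCongr hmap), fun x => rfl⟩
    have hchar : (frattini ↥R).Characteristic := frattini_characteristic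
    have hfix := Subgroup.characteristic_iff_map_eq.mp hchar φ
    have hzmem : z ∈ (frattini ↥R).map R.subtype := by
      rw [hΦ]; exact Subgroup.mem_zpowers z
    obtain ⟨y, hy, hyz⟩ := hzmem
    have h1 : φ y ∈ frattini ↥R := by
      rw [← hfix]
      exact Subgroup.mem_map_of_mem _ hy
    have h2 := hzp _ h1
    rw [hφ] at h2
    have hyz' : (y : L) = z := hyz
    rw [hyz'] at h2
    rcases h2 with h2 | h2
    · exact absurd (conj_eq_one_iff.mp h2) hz1
    · exact h2

theorem cls_z [Finite L] (z : L) (hz : orderOf z = 2) (R : Subgroup L) (hR2 : IsPGroup 2 R)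
    (hR : R = Subgroup.centralizer ({z} : Set L))
    (hΦ : (frattini ↥R).map R.subtype = Subgroup.zpowers z) :
    Cls {u : L | ∃ g : L, u = g * z * g⁻¹} := by
  have hconj : ∀ u ∈ {u : L | ∃ g : L, u = g * z * g⁻¹}, ∀ g : L,
      g * u * g⁻¹ ∈ {u : L | ∃ g : L, u = g * z * g⁻¹} := by
    rintro u ⟨k, rfl⟩ g
    refine ⟨g * k, ?_⟩
    group
  refine ⟨?_, hconj⟩
  rintro u ⟨k, rfl⟩
  exact (good_z z hz R hR2 hR hΦ).transport hconj k

theorem z_mem (z : L) : z ∈ {u : L | ∃ g : L, u = g * z * g⁻¹} :=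
  ⟨1, by group⟩

theorem not_le_zpowers [Finite L] (z : L) (hz : orderOf z = 2) (R : Subgroup L)
    (hR : R = Subgroup.centralizer ({z} : Set L))
    (hΦ : (frattini ↥R).map R.subtype = Subgroup.zpowers z) :
    ¬ R ≤ Subgroup.zpowers z := by
  intro hle
  have hzR : z ∈ R := by
    rw [hR, Subgroup.mem_centralizer_singleton_iff]
  have hz1 : z ≠ 1 := by
    intro h
    rw [h, orderOf_one] at hz
    exact absurd hz (by norm_num)
  have : Nontrivial ↥R := ⟨⟨⟨z, hzR⟩, 1, fun h => hz1 (congrArg Subtype.val h)⟩⟩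
  apply Cfsg.Agent.Lib.Helper5.h5_frattini_ne_top_of_nontrivial (G := ↥R)
  rw [eq_top_iff]
  rw [← Subgroup.map_le_map_iff_of_injective R.subtype_injective, hΦ]
  intro x hx
  obtain ⟨y, _, rfl⟩ := hx
  exact hle y.2

end Cfsg.Agent.Lib.Helper10.D8Syl
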