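import Mathlib
import Cfsg.Agent.Lib.Helper10.D8Syl3
import Cfsg.Agent.S4250

set_option autoImplicit false

namespace Cfsg.Agent.Lib.Helper10.D8Syl

open Cfsg.Agent.Lib.Helper18
open scoped commutatorElement

variable {L : Type*} [Group L]

theorem commutator_eq_top [IsSimpleGroup L] (hL : ¬ IsMulCommutative L) : commutator L = ⊤ := by
  rcases (Subgroup.Normal.eq_bot_or_eq_top (inferInstance : (commutator L).Normal)) with h | h
  · exfalso
    apply hL
    rw [commutator_def, Subgroup.commutator_eq_bot_iff_le_centralizer] at h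
    refine ⟨⟨fun a b => ?_⟩⟩
    have ha : a ∈ Subgroup.centralizer ((⊤ : Subgroup L) : Set L) := h (Subgroup.mem_top a)
    rw [Subgroup.mem_centralizer_iff] at ha
    exact (ha b (Subgroup.mem_top b)).symm
  · exact h

theorem gen [Finite L] [IsSimpleGroup L] (hL : ¬ IsMulCommutative L) (z : L)
    (hz : orderOf z = 2) (R : Sylow 2 L)
    (hR : (R : Subgroup L) = Subgroup.centralizer ({z} : Set L))
    (hΦ : (frattini ↥(R : Subgroup L)).map (R : Subgroup L).subtype = Subgroup.zpowers z) :
    (R : Subgroup L) ≤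
      Subgroup.closure ({u : L | ∃ g : L, u = g * z * g⁻¹} ∩ ((R : Subgroup L) : Set L)) := by
  have : Fact (Nat.Prime 2) := ⟨Nat.prime_two⟩
  have hG := good_z z hz (R : Subgroup L) R.isPGroup' hR hΦ
  have hmemR : ∀ x : L, x ∈ (R : Subgroup L) ↔ x * z = z * x := by
    intro x
    rw [hR, Subgroup.mem_centralizer_singleton_iff]
  have hzR : z ∈ (R : Subgroup L) := (hmemR z).mpr rfl
  obtain ⟨K, hK⟩ : ∃ K : Subgroup L, K =
      Subgroup.closure ({u : L | ∃ g : L, u = g * z * g⁻¹} ∩ ((R : Subgroup L) : Set L)) :=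
    ⟨_, rfl⟩
  rw [← hK]
  have hzK : z ∈ K := by
    rw [hK]
    exact Subgroup.subset_closure ⟨z_mem z, hzR⟩
  have hcomK : ∀ a ∈ (R : Subgroup L), ∀ b ∈ (R : Subgroup L), ⁅a, b⁆ ∈ K := by
    intro a ha b hb
    rcases hG.comm a b ((hmemR a).mp ha) ((hmemR b).mp hb) with h | h
    · have : ⁅a, b⁆ = 1 := by
        rw [commutatorElement_def, h]; group
      rw [this]; exact Subgroup.one_mem _
    · have : ⁅a, b⁆ = z := by
        rw [commutatorElement_def, h]; group
      rw [this]; exact hzK
  have hNR : Subgroup.normalizer ((R : Subgroup L) : Set L) ≤ (R : Subgroup L) := by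
    intro g hg
    rw [hmemR]
    have h1 : g * z * g⁻¹ = z := by
      apply hG.uniq _ ⟨g, rfl⟩
      intro x hx
      rw [conj_comm_iff]
      rw [← hmemR] at hx ⊢
      rw [Subgroup.mem_normalizer_iff] at hg
      have hg' := (hg (g⁻¹ * x * g))
      rw [hg']
      have : g * (g⁻¹ * x * g) * g⁻¹ = x := by group
      rw [this]; exact hx
    have := congrArg (fun t => t * g) h1
    simpa [mul_assoc] using this
  have key := Cfsg.Agent.S4250.result 2 R
  rw [commutator_eq_top hL, inf_top_eq] at key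
  rw [key]
  apply sup_le
  · rw [Subgroup.commutator_le]
    intro a ha b hb
    exact hcomK a ha b (hNR hb)
  · refine iSup_le fun Q => iSup_le fun hQ => iSup_le fun x => iSup_le fun hx => ?_
    rw [Subgroup.commutator_le]
    intro h hh y hy
    obtain ⟨H, hH⟩ : ∃ H : Subgroup L, H = (R : Subgroup L) ⊓ (Q : Subgroup L) := ⟨_, rfl⟩
    rw [← hH] at hQ hx hh
    have hS : IsSylowIn 2 ((R : Subgroup L) ⊓ Subgroup.normalizer (H : Set L))
        (Subgroup.normalizer (H : Set L)) :=
      ⟨inf_le_right, R.isPGroup'.to_le inf_le_left, hQ.1⟩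
    have hxle : Subgroup.zpowers x ≤ Subgroup.normalizer (H : Set L) := by
      rw [Subgroup.zpowers_le]; exact hx.1
    have hxp : IsPGroup 2 (Subgroup.zpowers x) := by
      obtain ⟨k, hk⟩ := hx.2
      apply IsPGroup.of_card (n := k)
      rw [Nat.card_zpowers, hk]
    obtain ⟨n, hnN, hn⟩ := hS.exists_conj_le hxle hxp
    have hb : n * y * n⁻¹ ∈ (R : Subgroup L) := (hn (conj_mem_conjSub hy)).1
    have hHR : H ≤ (R : Subgroup L) := by rw [hH]; exact inf_le_left
    have ha : n * h * n⁻¹ ∈ (R : Subgroup L) := by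
      apply hHR
      rw [Subgroup.mem_normalizer_iff] at hnN
      exact (hnN h).mp hh
    have hyN : y ∈ Subgroup.normalizer (H : Set L) := hxle hy
    have hcH : ⁅h, y⁆ ∈ H := by
      rw [commutatorElement_def]
      have h1 : y * h⁻¹ * y⁻¹ ∈ H := by
        rw [Subgroup.mem_normalizer_iff] at hyN
        exact (hyN h⁻¹).mp (H.inv_mem hh)
      have : h * y * h⁻¹ * y⁻¹ = h * (y * h⁻¹ * y⁻¹) := by group
      rw [this]
      exact H.mul_mem hh h1
    rcases hG.comm _ _ ((hmemR _).mp ha) ((hmemR _).mp hb) with h1 | h1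
    · have h2 : h * y = y * h := by
        have := congrArg (fun t => n⁻¹ * t * n) h1
        simpa [mul_assoc] using this
      have : ⁅h, y⁆ = 1 := by
        rw [commutatorElement_def, h2]; group
      rw [this]; exact Subgroup.one_mem _
    · have h2 : h * y = n⁻¹ * z * n * (y * h) := by
        have := congrArg (fun t => n⁻¹ * t * n) h1
        simpa [mul_assoc] using this
      have h3 : ⁅h, y⁆ = n⁻¹ * z * n⁻¹⁻¹ := by
        rw [commutatorElement_def, h2]; group
      rw [hK]
      apply Subgroup.subset_closure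
      refine ⟨?_, ?_⟩
      · rw [h3]; exact ⟨n⁻¹, rfl⟩
      · exact hHR hcH

end Cfsg.Agent.Lib.Helper10.D8Syl
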