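import Mathlib
import Cfsg.Prelude.Def_GeometricClasses
import Cfsg.Agent.Lib.Helper28.ONdW

set_option autoImplicit false
set_option linter.unusedVariables false
set_option linter.unusedSectionVars false
set_option linter.unusedSimpArgs false

/-!
# The two families of maximal totally singular subspaces, part A (helper10; plus-type rows S5847 / S5871)

Pure linear algebra over ANY field, `QF Q f` (Helper28): `n = 2 m`, `MaxTS Q U` : `U` totally singular of dimension `m`.

* `qfam_perp_finrank`, `qfam_perp_sup`, `MaxTS.perp_eq` : perp calculus;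
* `qfam_adjacent` : `E, E'` maximal t.s. with `dim (E ∩ E') = m - 1`, `G` maximal t.s. ==> `dim (G ∩ E) + dim (G ∩ E')` is odd;
* `qfam_step` : `U ≠ U'` maximal t.s. ==> some `U''` adjacent to `U` is strictly closer to `U'`;
* `qfam_triangle` : `dim (G ∩ U) + dim (G ∩ U') + dim (U ∩ U') + m` is even for maximal t.s. `U, U', G`.
-/

namespace Cfsg.Agent.Lib.Helper10.QFam

open Cfsg Cfsg.Geo
open Cfsg.Agent.Lib.Helper28.HForm Cfsg.Agent.Lib.Helper28.OGen Cfsg.Agent.Lib.Helper28.OQ
  Cfsg.Agent.Lib.Helper28.OMax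
  Cfsg.Agent.Lib.Helper28.OEven Cfsg.Agent.Lib.Helper28.ONd Cfsg.Agent.Lib.Helper28.ONdW
open scoped Matrix

variable {n : ℕ} {F : Type*} [Field F] {Q : (Fin n → F) → F} {f : (Fin n → F) → (Fin n → F) → F}

/-! ## perp calculus -/

theorem qfam_perp_finrank (hf : SymF f) (S : Submodule F (Fin n → F)) :
    Module.finrank F (perpSub f hf S) + Module.finrank F S = n := by
  obtain ⟨x, hx⟩ : ∃ x : Fin (Module.finrank F S) → (Fin n → F),
      x = fun i => ((Module.finBasis F S i : S) : Fin n → F) := ⟨_, rfl⟩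
  have hli : LinearIndependent F x := by
    rw [hx]
    exact (Module.finBasis F S).linearIndependent.map' S.subtype S.ker_subtype
  have h1 := finrank_ker_eq hf x hli
  have hspan : Submodule.span F (Set.range x) = S := by
    rw [hx]
    exact basis_span S
  have heq : perpSub f hf S = LinearMap.ker (perpMap hf x) := by
    ext v
    rw [mem_perpSub, mem_ker_perpMap]
    constructor
    · intro h i
      rw [s_symm hf]
      apply h
      rw [← hspan]
      exact Submodule.subset_span ⟨i, rfl⟩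
    · intro h w hw
      rw [← hspan] at hw
      exact perp_span' hf x v h w hw
  rw [heq]
  exact h1

theorem qfam_perp_anti (hf : SymF f) {S T : Submodule F (Fin n → F)} (h : S ≤ T) :
    perpSub f hf T ≤ perpSub f hf S := fun x hx w hw => hx w (h hw)

theorem qfam_le_perp_perp (hf : SymF f) (S : Submodule F (Fin n → F)) :
    S ≤ perpSub f hf (perpSub f hf S) := by
  intro x hx w hw
  rw [s_symm hf]
  exact hw x hx

theorem qfam_perp_sup (hf : SymF f) (S T : Submodule F (Fin n → F)) :
    perpSub f hf (S ⊔ T) = perpSub f hf S ⊓ perpSub f hf T := by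
  ext x
  rw [Submodule.mem_inf, mem_perpSub, mem_perpSub, mem_perpSub]
  constructor
  · intro h
    exact ⟨fun w hw => h w (Submodule.mem_sup_left hw), fun w hw => h w (Submodule.mem_sup_right hw)⟩
  · rintro ⟨h1, h2⟩ w hw
    obtain ⟨a, ha, b, hb, rfl⟩ := Submodule.mem_sup.1 hw
    rw [hf.add_left, h1 a ha, h2 b hb, add_zero]

/-- maximal totally singular subspaces -/
def MaxTS (Q : (Fin n → F) → F) (U : Submodule F (Fin n → F)) : Prop :=
  (∀ x ∈ U, Q x = 0) ∧ 2 * Module.finrank F U = n

theorem MaxTS.le_perp (hq : QF Q f) {U : Submodule F (Fin n → F)} (hU : MaxTS Q U) :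
    U ≤ perpSub f hq.sym U := fun x hx w hw => ts_ti hq U hU.1 w hw x hx

theorem MaxTS.perp_eq (hq : QF Q f) {U : Submodule F (Fin n → F)} (hU : MaxTS Q U) :
    perpSub f hq.sym U = U := by
  have h1 := qfam_perp_finrank hq.sym U
  have h2 := hU.2
  symm
  apply Submodule.eq_of_le_of_finrank_eq (hU.le_perp hq)
  omega

theorem MaxTS.eq_of_le (hq : QF Q f) {U U' : Submodule F (Fin n → F)} (hU : MaxTS Q U)
    (hU' : MaxTS Q U') (h : U ≤ U') : U = U' := by
  apply Submodule.eq_of_le_of_finrank_eq h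
  have h1 := hU.2
  have h2 := hU'.2
  omega

theorem qfam_finrank_sup_singleton (S : Submodule F (Fin n → F)) (z : Fin n → F) (hz : z ∉ S) :
    Module.finrank F ↥(S ⊔ Submodule.span F {z}) = Module.finrank F S + 1 := by
  have h1 := Submodule.finrank_sup_add_finrank_inf_eq S (Submodule.span F {z})
  have hz0 : z ≠ 0 := by
    rintro rfl
    exact hz S.zero_mem
  have h2 : Module.finrank F (Submodule.span F ({z} : Set (Fin n → F))) = 1 :=
    finrank_span_singleton hz0
  have h3 : S ⊓ Submodule.span F {z} = ⊥ := by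
    rw [eq_bot_iff]
    intro v hv
    rw [Submodule.mem_bot]
    obtain ⟨a, rfl⟩ := Submodule.mem_span_singleton.1 hv.2
    by_cases ha : a = 0
    · rw [ha, zero_smul]
    · exfalso
      apply hz
      have := S.smul_mem a⁻¹ hv.1
      rwa [smul_smul, inv_mul_cancel₀ ha, one_smul] at this
  rw [h3, finrank_bot, add_zero, h2] at h1
  exact h1

/-! ## the adjacency lemma -/

/-- if `E`, `E'` are maximal totally singular with `dim (E ∩ E') = m - 1`, then every maximal totally singular `G` meets
`E` and `E'` in dimensions differing by exactly one -/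
theorem qfam_adjacent (hq : QF Q f) {m : ℕ} (hn : n = 2 * m) {E E' G : Submodule F (Fin n → F)}
    (hE : MaxTS Q E) (hE' : MaxTS Q E') (hG : MaxTS Q G)
    (hEE' : Module.finrank F ↥(E ⊓ E') + 1 = m) :
    Odd (Module.finrank F ↥(G ⊓ E) + Module.finrank F ↥(G ⊓ E')) := by
  have hf := hq.sym
  have hEm : Module.finrank F E = m := by have := hE.2; omega
  have hE'm : Module.finrank F E' = m := by have := hE'.2; omega
  have hGm : Module.finrank F G = m := by have := hG.2; omega
  obtain ⟨W, hW⟩ : ∃ W, W = E ⊓ E' := ⟨_, rfl⟩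
  rw [← hW] at hEE'
  have hWE : W ≤ E := hW ▸ inf_le_left
  have hWE' : W ≤ E' := hW ▸ inf_le_right
  have hEW : E ≤ perpSub f hf W := (hE.le_perp hq).trans (qfam_perp_anti hf hWE)
  have hE'W : E' ≤ perpSub f hf W := (hE'.le_perp hq).trans (qfam_perp_anti hf hWE')
  have hWW : W ≤ perpSub f hf W := hWE.trans hEW
  have hpW := qfam_perp_finrank hf W
  have hsup : E ⊔ E' = perpSub f hf W := by
    apply Submodule.eq_of_le_of_finrank_eq (sup_le hEW hE'W)
    have h1 := Submodule.finrank_sup_add_finrank_inf_eq E E'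
    rw [← hW] at h1
    omega
  obtain ⟨X, hX⟩ : ∃ X, X = G ⊓ perpSub f hf W := ⟨_, rfl⟩
  obtain ⟨d, hd⟩ : ∃ d, d = Module.finrank F ↥(G ⊓ W) := ⟨_, rfl⟩
  have hXd : Module.finrank F X = d + 1 := by
    have h1 : X = perpSub f hf (G ⊔ W) := by
      rw [hX, qfam_perp_sup, hG.perp_eq hq]
    have h2 := qfam_perp_finrank hf (G ⊔ W)
    have h3 := Submodule.finrank_sup_add_finrank_inf_eq G W
    rw [h1]
    omega
  have hGWX : G ⊓ W ≤ X := by
    rw [hX]
    exact le_inf inf_le_left (inf_le_right.trans hWW)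
  have hXG : X ≤ G := hX ▸ inf_le_left
  have hXp : X ≤ perpSub f hf W := hX ▸ inf_le_right
  obtain ⟨x, hxX, hxn⟩ : ∃ x ∈ X, x ∉ G ⊓ W := by
    by_contra hcon
    push Not at hcon
    have h1 : X ≤ G ⊓ W := fun x hx => hcon x hx
    have h2 := Submodule.finrank_mono h1
    omega
  have hxG : x ∈ G := hXG hxX
  have hxW : x ∉ W := fun h => hxn ⟨hxG, h⟩
  have hXeq : (G ⊓ W) ⊔ Submodule.span F {x} = X := by
    apply Submodule.eq_of_le_of_finrank_eq
    · exact sup_le hGWX ((Submodule.span_singleton_le_iff_mem x X).2 hxX)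
    · rw [qfam_finrank_sup_singleton _ x hxn, hXd, hd]
  -- `x ∈ E` or `x ∈ E'`
  have hxEE' : x ∈ E ∨ x ∈ E' := by
    have hx1 : x ∈ E ⊔ E' := by
      rw [hsup]
      exact hXp hxX
    obtain ⟨e, he, e', he', hee'⟩ := Submodule.mem_sup.1 hx1
    have hfee' : f e e' = 0 := by
      have h1 := hq.polar e e'
      rw [hee', hG.1 x hxG, hE.1 e he, hE'.1 e' he'] at h1
      linear_combination -h1
    by_cases heE' : e ∈ E'
    · right
      rw [← hee']
      exact E'.add_mem heE' he'
    · left
      have heW : e ∉ W := fun h => heE' (hWE' h)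
      have hE1 : W ⊔ Submodule.span F {e} = E := by
        apply Submodule.eq_of_le_of_finrank_eq
        · exact sup_le hWE ((Submodule.span_singleton_le_iff_mem e E).2 he)
        · rw [qfam_finrank_sup_singleton _ e heW, hEm]
          exact hEE'
      have he'E : e' ∈ E := by
        rw [← hE.perp_eq hq]
        intro w hw
        rw [← hE1] at hw
        obtain ⟨w₀, hw₀, w₁, hw₁, rfl⟩ := Submodule.mem_sup.1 hw
        obtain ⟨c, rfl⟩ := Submodule.mem_span_singleton.1 hw₁
        rw [hf.add_left, hf.smul_left, hfee', ts_ti hq E' hE'.1 w₀ (hWE' hw₀) e' he']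
        ring
      rw [← hee']
      exact E.add_mem he he'E
  -- the symmetric computation
  have aux : ∀ A B : Submodule F (Fin n → F), A ≤ perpSub f hf W → B ≤ perpSub f hf W → W ≤ A → W ≤ B →
      A ⊓ B ≤ W → x ∈ A →
      Module.finrank F ↥(G ⊓ A) = d + 1 ∧ Module.finrank F ↥(G ⊓ B) = d := by
    intro A B hAW hBW hWA hWB hAB hxA
    have hXA : X ≤ A := by
      rw [← hXeq]
      exact sup_le (inf_le_right.trans hWA) ((Submodule.span_singleton_le_iff_mem x A).2 hxA)
    have hGA : G ⊓ A = X := by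
      apply le_antisymm
      · rw [hX]
        exact le_inf inf_le_left (inf_le_right.trans hAW)
      · exact le_inf hXG hXA
    have hGB : G ⊓ B = G ⊓ W := by
      apply le_antisymm
      · intro y hy
        have hyX : y ∈ X := by
          rw [hX]
          exact ⟨hy.1, hBW hy.2⟩
        exact ⟨hy.1, hAB ⟨hXA hyX, hy.2⟩⟩
      · exact inf_le_inf_left G hWB
    rw [hGA, hGB, hXd, hd]
    exact ⟨rfl, rfl⟩
  rcases hxEE' with hxE | hxE'
  · obtain ⟨h1, h2⟩ := aux E E' hEW hE'W hWE hWE' (by rw [hW]) hxE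
    rw [h1, h2]
    exact ⟨d, by ring⟩
  · obtain ⟨h1, h2⟩ := aux E' E hE'W hEW hWE' hWE (by rw [hW, inf_comm]) hxE'
    rw [h1, h2]
    exact ⟨d, by ring⟩

/-! ## the path step -/

theorem qfam_step (hq : QF Q f) {m : ℕ} (hn : n = 2 * m) {U U' : Submodule F (Fin n → F)}
    (hU : MaxTS Q U) (hU' : MaxTS Q U') (hne : U ≠ U') :
    ∃ U'' : Submodule F (Fin n → F), MaxTS Q U'' ∧ Module.finrank F ↥(U ⊓ U'') + 1 = m ∧
      Module.finrank F ↥(U ⊓ U') < Module.finrank F ↥(U'' ⊓ U') := by
  have hf := hq.sym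
  have hUm : Module.finrank F U = m := by have := hU.2; omega
  obtain ⟨x, hxU', hxU⟩ : ∃ x ∈ U', x ∉ U := by
    by_contra hcon
    push Not at hcon
    exact hne (hU'.eq_of_le hq hU (fun x hx => hcon x hx)).symm
  have hx0 : x ≠ 0 := by
    rintro rfl
    exact hxU U.zero_mem
  obtain ⟨P, hP⟩ : ∃ P, P = perpSub f hf (Submodule.span F {x}) := ⟨_, rfl⟩
  have hmemP : ∀ y, y ∈ P ↔ f x y = 0 := by
    intro y
    rw [hP, mem_perpSub]
    constructor
    · intro h
      exact h x (Submodule.mem_span_singleton_self x)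
    · intro h w hw
      obtain ⟨c, rfl⟩ := Submodule.mem_span_singleton.1 hw
      rw [hf.smul_left, h, mul_zero]
  have hPfr : Module.finrank F P + 1 = n := by
    have := qfam_perp_finrank hf (Submodule.span F {x})
    rw [finrank_span_singleton hx0, ← hP] at this
    exact this
  have hUP : ¬ U ≤ P := by
    intro h
    apply hxU
    rw [← hU.perp_eq hq]
    intro w hw
    rw [s_symm hf]
    exact (hmemP w).1 (h hw)
  obtain ⟨S, hS⟩ : ∃ S, S = U ⊓ P := ⟨_, rfl⟩
  have hSfr : Module.finrank F S + 1 = m := by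
    have h1 := Submodule.finrank_sup_add_finrank_inf_eq U P
    rw [← hS] at h1
    have h2 : P < U ⊔ P := by
      rw [lt_iff_le_and_ne]
      refine ⟨le_sup_right, fun h => hUP ?_⟩
      rw [h]
      exact le_sup_left
    have h3 := Submodule.finrank_lt_finrank_of_lt h2
    have h4 : Module.finrank F ↥(U ⊔ P) ≤ n := by
      have := Submodule.finrank_le (U ⊔ P)
      rwa [Module.finrank_fin_fun] at this
    omega
  have hxS : x ∉ S := fun h => hxU (hS ▸ h : x ∈ U ⊓ P).1
  have hSU : S ≤ U := hS ▸ inf_le_left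
  have hSP : S ≤ P := hS ▸ inf_le_right
  obtain ⟨U'', hU''⟩ : ∃ U'', U'' = S ⊔ Submodule.span F {x} := ⟨_, rfl⟩
  have hU''fr : Module.finrank F U'' = m := by
    rw [hU'', qfam_finrank_sup_singleton _ x hxS]
    exact hSfr
  have hxU'' : x ∈ U'' := by
    rw [hU'']
    exact Submodule.mem_sup_right (Submodule.mem_span_singleton_self x)
  have hSU'' : S ≤ U'' := hU'' ▸ le_sup_left
  have hxx : Q x = 0 := hU'.1 x hxU'
  have hmax : MaxTS Q U'' := by
    refine ⟨?_, by omega⟩
    intro y hy
    rw [hU''] at hy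
    obtain ⟨s, hs, t, ht, rfl⟩ := Submodule.mem_sup.1 hy
    obtain ⟨c, rfl⟩ := Submodule.mem_span_singleton.1 ht
    have hsx : f s x = 0 := by
      rw [s_symm hf]
      exact (hmemP s).1 (hSP hs)
    rw [hq.polar, hU.1 s (hSU hs), hq.smul, hxx, s_smul_right hf, hsx]
    ring
  refine ⟨U'', hmax, ?_, ?_⟩
  · have h1 : S ≤ U ⊓ U'' := le_inf hSU hSU''
    have h2 := Submodule.finrank_mono h1
    have h3 : Module.finrank F ↥(U ⊓ U'') ≤ Module.finrank F U := Submodule.finrank_mono inf_le_left
    have h4 : Module.finrank F ↥(U ⊓ U'') ≠ m := by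
      intro h
      have h5 : U ⊓ U'' = U := Submodule.eq_of_le_of_finrank_eq inf_le_left (by rw [h, hUm])
      have h6 : U ≤ U'' := by
        rw [← h5]
        exact inf_le_right
      have h7 := hU.eq_of_le hq hmax h6
      exact hxU (h7 ▸ hxU'')
    omega
  · have h1 : (U ⊓ U') ⊔ Submodule.span F {x} ≤ U'' ⊓ U' := by
      apply sup_le
      · intro y hy
        refine ⟨hSU'' ?_, hy.2⟩
        rw [hS]
        exact ⟨hy.1, (hmemP y).2 (ts_ti hq U' hU'.1 x hxU' y hy.2)⟩
      · rw [Submodule.span_singleton_le_iff_mem]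
        exact ⟨hxU'', hxU'⟩
    have h2 := Submodule.finrank_mono h1
    rw [qfam_finrank_sup_singleton (U ⊓ U') x (fun h => hxU (Submodule.mem_inf.1 h).1)] at h2
    omega

/-! ## triangle parity -/

theorem qfam_triangle (hq : QF Q f) {m : ℕ} (hn : n = 2 * m) :
    ∀ (k : ℕ) (U U' G : Submodule F (Fin n → F)), MaxTS Q U → MaxTS Q U' → MaxTS Q G →
      m - Module.finrank F ↥(U ⊓ U') = k →
      Even (Module.finrank F ↥(G ⊓ U) + Module.finrank F ↥(G ⊓ U') + Module.finrank F ↥(U ⊓ U') + m) := by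
  intro k
  induction k using Nat.strong_induction_on with
  | _ k ih =>
    intro U U' G hU hU' hG hk
    have hUm : Module.finrank F U = m := by have := hU.2; omega
    have hU'm : Module.finrank F U' = m := by have := hU'.2; omega
    by_cases hne : U = U'
    · subst hne
      rw [inf_idem, hUm]
      exact ⟨Module.finrank F ↥(G ⊓ U) + m, by ring⟩
    · obtain ⟨U'', hU'', hadj, hlt⟩ := qfam_step hq hn hU hU' hne
      have hU''m : Module.finrank F U'' = m := by have := hU''.2; omega
      have hle : Module.finrank F ↥(U'' ⊓ U') ≤ m := by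
        have := Submodule.finrank_mono (inf_le_left : U'' ⊓ U' ≤ U'')
        omega
      have hIH := ih (m - Module.finrank F ↥(U'' ⊓ U')) (by omega) U'' U' G hU'' hU' hG rfl
      have hA1 := qfam_adjacent hq hn hU hU'' hG hadj
      have hA2 := qfam_adjacent hq hn hU hU'' hU' hadj
      rw [inf_comm U' U, inf_comm U' U''] at hA2
      rw [Nat.even_iff] at hIH ⊢
      rw [Nat.odd_iff] at hA1 hA2
      omega

end Cfsg.Agent.Lib.Helper10.QFam
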