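import Mathlib
import Cfsg.Prelude.Def_GeometricClasses
import Cfsg.Agent.Lib.Helper28.ONdW
import Cfsg.Agent.Lib.Helper10.QFAMA

set_option autoImplicit false
set_option linter.unusedVariables false
set_option linter.unusedSectionVars false
set_option linter.unusedSimpArgs false

/-!
# The two families of maximal totally singular subspaces, part B (helper10; plus-type rows S5847 / S5871)

ANY field, any characteristic, `Q` a plain function with `IsNondegenerateQuadraticForm Q`, `n = 2 m`.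

* `omega_family_parity` : `g ∈ omegaGL Q`, `U` totally singular of dimension `m` ==> `Even (m - dim (U ∩ g U))`
  (`g ↦ dim U₀ / (U₀ ∩ g U₀) mod 2` is a homomorphism `O(Q) → Z/2` by `qfam_triangle`; it kills the commutator subgroup);
* `ts_submax_le` : plus type, `W` t.s. of dimension `m - 1` ==> `Stab_Ω(W) ≤ Stab(U)` for a t.s. `m`-space `U ≥ W`;
* `ts_pair_odd_le` : `m` odd, `D` a pair of complementary t.s. `m`-spaces ==> `Stab_Ω(D) ≤ Stab(D 0)`.
-/

namespace Cfsg.Agent.Lib.Helper10.QFam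

open Cfsg Cfsg.Geo
open Cfsg.Agent.Lib.Helper28.HForm Cfsg.Agent.Lib.Helper28.OGen Cfsg.Agent.Lib.Helper28.OQ
  Cfsg.Agent.Lib.Helper28.OMax Cfsg.Agent.Lib.Helper28.DecGen Cfsg.Agent.Lib.Helper28.OPair
  Cfsg.Agent.Lib.Helper28.OEven Cfsg.Agent.Lib.Helper28.ONd Cfsg.Agent.Lib.Helper28.ONdW
open scoped Matrix

variable {n : ℕ} {F : Type*} [Field F] {Q : (Fin n → F) → F} {f : (Fin n → F) → (Fin n → F) → F}

/-- the image of a subspace under an invertible matrix -/
def qfamImg (g : GL (Fin n) F) (U : Submodule F (Fin n → F)) : Submodule F (Fin n → F) :=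
  U.map (Matrix.toLin' (g : Matrix (Fin n) (Fin n) F))

theorem qfamImg_def (g : GL (Fin n) F) (U : Submodule F (Fin n → F)) :
    qfamImg g U = U.map (Matrix.toLin' (g : Matrix (Fin n) (Fin n) F)) := rfl

theorem qfamImg_one (U : Submodule F (Fin n → F)) : qfamImg (1 : GL (Fin n) F) U = U := by
  unfold qfamImg
  rw [Units.val_one, Matrix.toLin'_one, Submodule.map_id]

theorem qfamImg_mul (g h : GL (Fin n) F) (U : Submodule F (Fin n → F)) :
    qfamImg (g * h) U = qfamImg g (qfamImg h U) := by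
  unfold qfamImg
  rw [Units.val_mul, Matrix.toLin'_mul, Submodule.map_comp]

theorem qfamImg_inf (g : GL (Fin n) F) (A B : Submodule F (Fin n → F)) :
    qfamImg g (A ⊓ B) = qfamImg g A ⊓ qfamImg g B := by
  unfold qfamImg
  exact Submodule.map_inf _ (gl_inj g)

theorem qfamImg_finrank (g : GL (Fin n) F) (A : Submodule F (Fin n → F)) :
    Module.finrank F (qfamImg g A) = Module.finrank F A := finrank_map_gl g A

theorem qfamImg_mem (g : GL (Fin n) F) (A : Submodule F (Fin n → F)) (x : Fin n → F) (hx : x ∈ A) :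
    (g : Matrix (Fin n) (Fin n) F) *ᵥ x ∈ qfamImg g A :=
  ⟨x, hx, by rw [Matrix.toLin'_apply]⟩

theorem qfamImg_maxTS (g : GL (Fin n) F) (hg : ∀ x, Q ((g : Matrix (Fin n) (Fin n) F) *ᵥ x) = Q x)
    {U : Submodule F (Fin n → F)} (hU : MaxTS Q U) : MaxTS Q (qfamImg g U) := by
  refine ⟨?_, by rw [qfamImg_finrank]; exact hU.2⟩
  rintro _ ⟨x, hx, rfl⟩
  rw [Matrix.toLin'_apply, hg]
  exact hU.1 x hx

/-- the parity cocycle identity -/
theorem qfam_cocycle (hq : QF Q f) {m : ℕ} (hn : n = 2 * m) {U₀ : Submodule F (Fin n → F)}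
    (hU₀ : MaxTS Q U₀) (g h : GL (Fin n) F)
    (hg : ∀ x, Q ((g : Matrix (Fin n) (Fin n) F) *ᵥ x) = Q x)
    (hh : ∀ x, Q ((h : Matrix (Fin n) (Fin n) F) *ᵥ x) = Q x) :
    Even ((Module.finrank F ↥(U₀ ⊓ qfamImg g U₀) + m) + (Module.finrank F ↥(U₀ ⊓ qfamImg h U₀) + m) +
      (Module.finrank F ↥(U₀ ⊓ qfamImg (g * h) U₀) + m)) := by
  have hgh : ∀ x, Q (((g * h : GL (Fin n) F) : Matrix (Fin n) (Fin n) F) *ᵥ x) = Q x := by
    intro x
    rw [Units.val_mul, ← Matrix.mulVec_mulVec, hg, hh]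
  have h1 := qfam_triangle hq hn _ U₀ (qfamImg (g * h) U₀) (qfamImg g U₀) hU₀
    (qfamImg_maxTS (g * h) hgh hU₀) (qfamImg_maxTS g hg hU₀) rfl
  have h2 : Module.finrank F ↥(qfamImg g U₀ ⊓ qfamImg (g * h) U₀) =
      Module.finrank F ↥(U₀ ⊓ qfamImg h U₀) := by
    rw [qfamImg_mul, ← qfamImg_inf, qfamImg_finrank]
  rw [h2, inf_comm (qfamImg g U₀) U₀] at h1
  rw [Nat.even_iff] at h1 ⊢
  omega

/-- the parity homomorphism `O(Q) → Z/2` attached to a maximal totally singular subspace -/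
noncomputable def qfamHom (hq : QF Q f) {m : ℕ} (hn : n = 2 * m) {U₀ : Submodule F (Fin n → F)}
    (hU₀ : MaxTS Q U₀) : ↥(isometryGroup F Q) →* Multiplicative (ZMod 2) :=
  MonoidHom.mk' (fun g => Multiplicative.ofAdd
    (((Module.finrank F ↥(U₀ ⊓ qfamImg (g : GL (Fin n) F) U₀) + m : ℕ) : ZMod 2)))
    (by
      intro g h
      rw [← ofAdd_add]
      congr 1
      have h1 := qfam_cocycle hq hn hU₀ (g : GL (Fin n) F) (h : GL (Fin n) F)
        (fun x => g.2 x x) (fun x => h.2 x x)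
      have h2 := ZMod.natCast_eq_zero_iff_even.2 h1
      have h3 : (2 : ZMod 2) = 0 := rfl
      push_cast at h2 ⊢
      linear_combination h2 - ((Module.finrank F ↥(U₀ ⊓ qfamImg (g : GL (Fin n) F) U₀) : ZMod 2) + m +
        ((Module.finrank F ↥(U₀ ⊓ qfamImg (h : GL (Fin n) F) U₀) : ZMod 2) + m)) * h3)

theorem qfamHom_apply (hq : QF Q f) {m : ℕ} (hn : n = 2 * m) {U₀ : Submodule F (Fin n → F)}
    (hU₀ : MaxTS Q U₀) (g : ↥(isometryGroup F Q)) :
    qfamHom hq hn hU₀ g = Multiplicative.ofAdd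
      (((Module.finrank F ↥(U₀ ⊓ qfamImg (g : GL (Fin n) F) U₀) + m : ℕ) : ZMod 2)) := rfl

/-- **the two families**: an element of `Ω(Q)` moves a maximal totally singular subspace `U` to one meeting `U` in even
codimension -/
theorem omega_family_parity (hQ : IsNondegenerateQuadraticForm Q) {m : ℕ} (hn : n = 2 * m)
    {g : GL (Fin n) F} (hg : g ∈ omegaGL Q) (U : Submodule F (Fin n → F))
    (hU : IsTotallySingularQuad Q U) (hUm : Module.finrank F U = m) :
    Even (m - Module.finrank F ↥(U ⊓ U.map (Matrix.toLin' (g : Matrix (Fin n) (Fin n) F)))) := by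
  have hq := qf_unb Q hQ
  have hU₀ : MaxTS Q U := ⟨hU, by omega⟩
  obtain ⟨h, hh, rfl⟩ := Subgroup.mem_map.1 hg
  have hker := (Abelianization.commutator_subset_ker (qfamHom hq hn hU₀)) hh
  rw [MonoidHom.mem_ker, qfamHom_apply, ofAdd_eq_one, ZMod.natCast_eq_zero_iff_even] at hker
  have hle : Module.finrank F ↥(U ⊓ qfamImg (h : GL (Fin n) F) U) ≤ m := by
    have := Submodule.finrank_mono (inf_le_left : U ⊓ qfamImg (h : GL (Fin n) F) U ≤ U)
    omega
  show Even (m - Module.finrank F ↥(U ⊓ qfamImg (h : GL (Fin n) F) U))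
  rw [Nat.even_iff] at hker ⊢
  omega

/-! ## corollaries -/

theorem qfam_stab_iff (g : GL (Fin n) F) (U : Submodule F (Fin n → F)) :
    g ∈ subspaceStabilizer U ↔ qfamImg g U = U := by
  constructor
  · intro h
    have h' : ∀ v, v ∈ U ↔ (g : Matrix (Fin n) (Fin n) F) *ᵥ v ∈ U := h
    apply le_antisymm
    · rintro _ ⟨x, hx, rfl⟩
      rw [Matrix.toLin'_apply]
      exact (h' x).1 hx
    · intro u hu
      refine ⟨((g⁻¹ : GL (Fin n) F) : Matrix (Fin n) (Fin n) F) *ᵥ u, ?_, ?_⟩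
      · apply (h' _).2
        rw [Cfsg.Agent.S5643.inv_mv']
        exact hu
      · rw [Matrix.toLin'_apply, Cfsg.Agent.S5643.inv_mv']
  · intro h
    show ∀ v, v ∈ U ↔ (g : Matrix (Fin n) (Fin n) F) *ᵥ v ∈ U
    intro v
    constructor
    · intro hv
      rw [← h]
      exact qfamImg_mem g U v hv
    · intro hv
      rw [← h] at hv
      obtain ⟨u, hu, hgu⟩ := hv
      have := gl_inj g hgu
      rw [← this]
      exact hu

/-- in plus type a totally singular subspace of dimension `m - 1` lies in a totally singular `m`-space stabilised by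
its stabiliser in `Ω` -/
theorem ts_submax_le (hQ : IsNondegenerateQuadraticForm Q) {m : ℕ} (hn : n = 2 * m)
    (hplus : IsPlusTypeOn Q ⊤) (W : Submodule F (Fin n → F)) (hW : IsTotallySingularQuad Q W)
    (hWm : Module.finrank F W + 1 = m) :
    ∃ U : Submodule F (Fin n → F), IsTotallySingularQuad Q U ∧ Module.finrank F U = m ∧ W ≤ U ∧
      subspaceStabilizer W ⊓ omegaGL Q ≤ subspaceStabilizer U := by
  have hq := qf_unb Q hQ
  have hf := hq.sym
  obtain ⟨U₀, -, hU₀ts, hU₀fr⟩ := hplus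
  rw [finrank_top, Module.finrank_fin_fun] at hU₀fr
  have hU₀ : MaxTS Q U₀ := ⟨hU₀ts, hU₀fr⟩
  have hU₀m : Module.finrank F U₀ = m := by omega
  have hWW : W ≤ perpSub (QuadraticMap.polar Q) hf W :=
    fun x hx w hw => ts_ti hq W hW w hw x hx
  obtain ⟨A, hA⟩ : ∃ A, A = U₀ ⊓ perpSub (QuadraticMap.polar Q) hf W := ⟨_, rfl⟩
  obtain ⟨U, hUdef⟩ : ∃ U, U = A ⊔ W := ⟨_, rfl⟩
  have hAfr : Module.finrank F A = Module.finrank F ↥(U₀ ⊓ W) + 1 := by
    have h1 : A = perpSub (QuadraticMap.polar Q) hf (U₀ ⊔ W) := by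
      rw [hA, qfam_perp_sup, hU₀.perp_eq hq]
    have h2 := qfam_perp_finrank hf (U₀ ⊔ W)
    have h3 := Submodule.finrank_sup_add_finrank_inf_eq U₀ W
    rw [h1]
    omega
  have hAW : A ⊓ W = U₀ ⊓ W := by
    rw [hA, inf_assoc]
    congr 1
    exact (inf_eq_right (a := perpSub (QuadraticMap.polar Q) hf W) (b := W)).2 hWW
  have hUfr : Module.finrank F U = m := by
    have h1 := Submodule.finrank_sup_add_finrank_inf_eq A W
    rw [hAW, ← hUdef] at h1
    omega
  have hUts : IsTotallySingularQuad Q U := by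
    intro y hy
    rw [hUdef] at hy
    obtain ⟨a, ha, w, hw, rfl⟩ := Submodule.mem_sup.1 hy
    have ha' : a ∈ U₀ ⊓ perpSub (QuadraticMap.polar Q) hf W := hA ▸ ha
    have h1 : QuadraticMap.polar Q a w = 0 := by
      rw [s_symm hf]
      exact ha'.2 w hw
    rw [hq.polar, hU₀ts a ha'.1, hW w hw, h1]
    ring
  have hWU : W ≤ U := hUdef ▸ le_sup_right
  refine ⟨U, hUts, hUfr, hWU, ?_⟩
  rintro g ⟨hgW, hgΩ⟩
  have hgW' := (qfam_stab_iff g W).1 hgW
  have hpar := omega_family_parity hQ hn hgΩ U hUts hUfr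
  have hle : W ≤ U ⊓ qfamImg g U := by
    refine le_inf hWU ?_
    rw [← hgW']
    exact Submodule.map_mono hWU
  have h1 := Submodule.finrank_mono hle
  have h2 : Module.finrank F ↥(U ⊓ qfamImg g U) ≤ m := by
    have := Submodule.finrank_mono (inf_le_left : U ⊓ qfamImg g U ≤ U)
    omega
  have h3 : Module.finrank F ↥(U ⊓ qfamImg g U) = m := by
    change Even (m - Module.finrank F ↥(U ⊓ qfamImg g U)) at hpar
    rw [Nat.even_iff] at hpar
    omega
  have h4 : U ⊓ qfamImg g U = U := Submodule.eq_of_le_of_finrank_eq inf_le_left (by rw [h3, hUfr])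
  have h5 : U ≤ qfamImg g U := by
    intro x hx
    have hx' : x ∈ U ⊓ qfamImg g U := by
      rw [h4]
      exact hx
    exact (Submodule.mem_inf.1 hx').2
  have h6 : U = qfamImg g U := Submodule.eq_of_le_of_finrank_eq h5 (by rw [qfamImg_finrank])
  exact (qfam_stab_iff g U).2 h6.symm

/-- a pair of complementary totally singular `m`-spaces with `m` odd is not swapped by `Ω` -/
theorem ts_pair_odd_le (hQ : IsNondegenerateQuadraticForm Q) {m : ℕ} (hn : n = 2 * m) (hodd : Odd m)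
    (D : Fin 2 → Submodule F (Fin n → F)) (hD : IsMDecomposition m D)
    (hts : ∀ i, IsTotallySingularQuad Q (D i)) :
    decompositionStabilizer D ⊓ omegaGL Q ≤ subspaceStabilizer (D 0) := by
  rintro g ⟨⟨σ, hσ⟩, hgΩ⟩
  rw [qfam_stab_iff]
  have h0 := hσ 0
  have hcases : σ 0 = 0 ∨ σ 0 = 1 := by
    have : ∀ j : Fin 2, j = 0 ∨ j = 1 := by decide
    exact this (σ 0)
  rcases hcases with h | h
  · rw [h] at h0
    exact h0
  · exfalso
    rw [h] at h0
    have hpar := omega_family_parity hQ hn hgΩ (D 0) (hts 0) (hD.finrank_eq 0)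
    rw [h0] at hpar
    have hdisj : D 0 ⊓ D 1 = ⊥ := by
      have := hD.indep.pairwiseDisjoint (show (0 : Fin 2) ≠ 1 by decide)
      exact disjoint_iff.1 this
    rw [hdisj, finrank_bot, Nat.sub_zero] at hpar
    exact (Nat.not_even_iff_odd.2 hodd) hpar

end Cfsg.Agent.Lib.Helper10.QFam
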