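import Mathlib
import Cfsg.Prelude.Def_GeometricClasses
import Cfsg.Agent.Lib.Helper27.ASC.Defs
import Cfsg.Agent.Lib.helper23.ASCO.Defs
import Cfsg.Agent.Lib.Helper19.ASG.Defs
import Cfsg.Agent.Lib.Helper1.ASGCLIF3
import Cfsg.Agent.Lib.Helper25.ASO.Defs
import Cfsg.Agent.Lib.helper23.ASE.Defs
import Cfsg.Agent.Lib.Helper27.E10P.Defs
import Cfsg.Agent.Lib.Helper19.ASCOCONV
import Cfsg.Agent.Lib.Helper10.QFAMB

set_option autoImplicit false
set_option linter.unusedVariables false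
set_option linter.unusedSectionVars false

/-!
# Project E10P, piece TS4 : `ts_submax_extend` = wrapper of `Helper10.QFAMB` `ts_submax_le` (two families of maximal t.s. subspaces)
-/

namespace Cfsg.Agent.Lib.Helper27.E10P

open Cfsg Cfsg.Geo Cfsg.Agent.Lib.Helper27.ASC Cfsg.Agent.Lib.helper23.ASCO Cfsg.Agent.Lib.Helper19.ASG
  Cfsg.Agent.Lib.Helper25.ASO Cfsg.Agent.Lib.helper23.ASE
open scoped MatrixGroups Matrix Kronecker

variable {n : ℕ} {F : Type*} [Field F] [Fintype F]

/-- TS4 : in plus type a totally singular subspace of dimension `m - 1` lies in a maximal totally singular subspace fixed by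
its stabiliser in `Ω`. -/
theorem ts_submax_extend {m : ℕ} (hn : n = 2 * m) (hm : 1 ≤ m) (Q : QuadraticForm F (Fin n → F))
    (hQ : (QuadraticMap.polarBilin Q).Nondegenerate) (hplus : IsPlusTypeOn (⇑Q) ⊤)
    (W : Submodule F (Fin n → F)) (hW : IsTotallySingularQuad (⇑Q) W) (hdim : Module.finrank F W + 1 = m) :
    ∃ M : Submodule F (Fin n → F), IsTotallySingularQuad (⇑Q) M ∧ Module.finrank F M = m ∧
      subspaceStabilizer W ⊓ omegaGL (⇑Q) ≤ subspaceStabilizer M := by
  obtain ⟨U, hU, hUm, -, hle⟩ := Cfsg.Agent.Lib.Helper10.QFam.ts_submax_le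
    (isNondegenerateQuadraticForm_coe Q hQ) hn hplus W hW hdim
  exact ⟨U, hU, hUm, hle⟩

end Cfsg.Agent.Lib.Helper27.E10P
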