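import Mathlib
import Cfsg.Prelude.Def_GeometricClasses
import Cfsg.Agent.Lib.Helper27.ASC.Defs
import Cfsg.Agent.Lib.helper23.ASCO.Defs
import Cfsg.Agent.Lib.Helper19.ASG.Defs
import Cfsg.Agent.Lib.Helper1.ASGCLIF3
import Cfsg.Agent.Lib.Helper25.ASO.Defs
import Cfsg.Agent.Lib.helper23.ASE.Defs
import Cfsg.Agent.Lib.Helper27.E10P.Defs
import Cfsg.Agent.Lib.Helper19.ASCOCONV
import Cfsg.Agent.Lib.Helper10.QFAMB

set_option autoImplicit false
set_option linter.unusedVariables false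
set_option linter.unusedSectionVars false

/-!
# Project E10P, piece TSPAIR : `ts_pair_fix` = wrapper of `Helper10.QFAMB` `ts_pair_odd_le`
-/

namespace Cfsg.Agent.Lib.Helper27.E10P

open Cfsg Cfsg.Geo Cfsg.Agent.Lib.Helper27.ASC Cfsg.Agent.Lib.helper23.ASCO Cfsg.Agent.Lib.Helper19.ASG
  Cfsg.Agent.Lib.Helper25.ASO Cfsg.Agent.Lib.helper23.ASE
open scoped MatrixGroups Matrix Kronecker

variable {n : ℕ} {F : Type*} [Field F] [Fintype F]

/-- TSPAIR : `m` odd: an element of `Ω` cannot interchange two complementary totally singular `m`-spaces. -/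
theorem ts_pair_fix {m : ℕ} (hn : n = 2 * m) (hm : Odd m) (Q : QuadraticForm F (Fin n → F))
    (hQ : (QuadraticMap.polarBilin Q).Nondegenerate) (D : Fin 2 → Submodule F (Fin n → F))
    (hD : IsMDecomposition m D) (hts : ∀ i, IsTotallySingularQuad (⇑Q) (D i)) :
    decompositionStabilizer D ⊓ omegaGL (⇑Q) ≤ subspaceStabilizer (D 0) :=
  Cfsg.Agent.Lib.Helper10.QFam.ts_pair_odd_le (isNondegenerateQuadraticForm_coe Q hQ) hn hm D hD hts

end Cfsg.Agent.Lib.Helper27.E10P
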