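import Mathlib
import Cfsg.Prelude.Def_GeometricClasses
import Cfsg.Agent.Lib.Helper27.ASC.Defs
import Cfsg.Agent.Lib.helper23.ASCO.Defs
import Cfsg.Agent.Lib.Helper19.ASG.Defs
import Cfsg.Agent.Lib.Helper25.ASO.Defs
import Cfsg.Agent.Lib.helper23.ASE.Defs
import Cfsg.Agent.Lib.Helper26.E12P.Defs

set_option autoImplicit false
set_option linter.unusedVariables false
set_option linter.unusedSectionVars false

/-!
# Project E12P, piece D4Q2 (helper10): the ASSEMBLY `e12pd4q2_core`

`|F| = 2`: from the BLOCK lemma (each plus-type 4-block `W` is the orthogonal sum of two canonical anisotropic planes `P`, `P'`: two distinct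
non-singular vectors of `W` have polar `1` iff they lie in the same plane) to the decomposition into `2 t` minus planes stabilised by the
stabiliser of the blocks.  The block lemma is a hypothesis here (`hblock`).

Reusable (any field unless stated): `e12pd4q2_indep` (pairwise orthogonal non-degenerate subspaces are independent),
`e12pd4q2_plane_basis`, `e12pd4q2_polar_one`, `e12pd4q2_plane_nondeg`, `e12pd4q2_plane_not_plus`, `e12pd4q2_plane_iso`.
-/

namespace Cfsg.Agent.Lib.Helper26.E12P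

open Cfsg Cfsg.Geo
open scoped MatrixGroups Matrix

variable {n : ℕ} {F : Type*} [Field F]

/-- pairwise orthogonal non-degenerate subspaces are independent (any index type, any field) -/
theorem e12pd4q2_indep {ι : Type*} (Q : QuadraticForm F (Fin n → F)) (E : ι → Submodule F (Fin n → F))
    (hnd : ∀ i, IsNondegenerateOn (QuadraticMap.polar (⇑Q)) (E i))
    (horth : ∀ i j, i ≠ j → AreOrthogonalFor (QuadraticMap.polar (⇑Q)) (E i) (E j)) : iSupIndep E := by
  intro i
  rw [Submodule.disjoint_def]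
  intro v hv hv'
  by_contra hv0
  obtain ⟨⟨x, hx, hxv⟩, _⟩ := hnd i v hv hv0
  apply hxv
  have hle : (⨆ j, ⨆ (_ : j ≠ i), E j) ≤ LinearMap.ker (QuadraticMap.polarBilin Q x) := by
    apply iSup_le
    intro j
    apply iSup_le
    intro hj y hy
    rw [LinearMap.mem_ker]
    exact horth i j (Ne.symm hj) x hx y hy
  have := hle hv'
  rw [LinearMap.mem_ker] at this
  exact this

/-- a plane has a basis of two distinct non-zero vectors -/
theorem e12pd4q2_plane_basis (P : Submodule F (Fin n → F)) (hd : Module.finrank F P = 2) :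
    ∃ u v : Fin n → F, u ∈ P ∧ v ∈ P ∧ u ≠ 0 ∧ v ≠ 0 ∧ u ≠ v ∧ v ∉ Submodule.span F {u} ∧
      P = Submodule.span F ({u, v} : Set (Fin n → F)) := by
  have hPne : P ≠ ⊥ := by
    intro hb
    rw [hb, finrank_bot] at hd
    omega
  obtain ⟨u, huP, hu0⟩ := Submodule.exists_mem_ne_zero_of_ne_bot hPne
  have hnle : ¬ P ≤ Submodule.span F {u} := by
    intro hle
    have h1 := Submodule.finrank_mono hle
    rw [finrank_span_singleton hu0] at h1
    omega
  obtain ⟨v, hvP, hvn⟩ := SetLike.not_le_iff_exists.1 hnle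
  have hv0 : v ≠ 0 := by
    intro h
    apply hvn
    rw [h]
    exact Submodule.zero_mem _
  have huv : u ≠ v := by
    intro h
    apply hvn
    rw [← h]
    exact Submodule.mem_span_singleton_self u
  refine ⟨u, v, huP, hvP, hu0, hv0, huv, hvn, ?_⟩
  have hli : LinearIndependent F ![u, v] := by
    rw [LinearIndependent.pair_iff' hu0]
    intro a ha
    apply hvn
    rw [Submodule.mem_span_singleton]
    exact ⟨a, ha⟩
  symm
  apply Submodule.eq_of_le_of_finrank_eq
  · rw [Submodule.span_le]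
    intro z hz
    rcases hz with rfl | rfl
    · exact huP
    · exact hvP
  · have := finrank_span_eq_card hli
    rw [Fintype.card_fin] at this
    have hr : Set.range ![u, v] = ({u, v} : Set (Fin n → F)) := by
      ext z
      simp [eq_comm]
      exact or_comm
    rw [hr] at this
    rw [hd, this]

/-- characteristic 2: in a subspace where `Q = 1` off zero, two distinct non-zero vectors have polar `1` -/
theorem e12pd4q2_polar_one (h2 : (2 : F) = 0) (Q : QuadraticForm F (Fin n → F)) (P : Submodule F (Fin n → F))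
    (hPQ : ∀ v ∈ P, v ≠ 0 → Q v = 1) (u v : Fin n → F) (hu : u ∈ P) (hv : v ∈ P) (hu0 : u ≠ 0) (hv0 : v ≠ 0)
    (huv : u ≠ v) : QuadraticMap.polar (⇑Q) u v = 1 := by
  have hsum : u + v ≠ 0 := by
    intro h
    apply huv
    have h2v : (2 : F) • v = 0 := by rw [h2, zero_smul]
    rw [two_smul] at h2v
    have e1 : u = -v := eq_neg_of_add_eq_zero_left h
    have e2 : v = -v := eq_neg_of_add_eq_zero_left h2v
    rw [e1, ← e2]
  have h1 := hPQ _ (P.add_mem hu hv) hsum
  have h3 : Q (u + v) = Q u + Q v + QuadraticMap.polar (⇑Q) u v := QuadraticMap.map_add Q u v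
  rw [h1, hPQ u hu hu0, hPQ v hv hv0] at h3
  linear_combination -h3 - h2

/-- such a plane is non-degenerate -/
theorem e12pd4q2_plane_nondeg (h2 : (2 : F) = 0) (Q : QuadraticForm F (Fin n → F)) (P : Submodule F (Fin n → F))
    (hd : Module.finrank F P = 2) (hPQ : ∀ v ∈ P, v ≠ 0 → Q v = 1) :
    IsNondegenerateOn (QuadraticMap.polar (⇑Q)) P := by
  intro w hw hw0
  have hnle : ¬ P ≤ Submodule.span F {w} := by
    intro hle
    have h1 := Submodule.finrank_mono hle
    rw [finrank_span_singleton hw0] at h1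
    omega
  obtain ⟨x, hxP, hxn⟩ := SetLike.not_le_iff_exists.1 hnle
  have hx0 : x ≠ 0 := by
    intro h
    apply hxn
    rw [h]
    exact Submodule.zero_mem _
  have hxw : x ≠ w := by
    intro h
    apply hxn
    rw [h]
    exact Submodule.mem_span_singleton_self w
  have h1 := e12pd4q2_polar_one h2 Q P hPQ x w hxP hw hx0 hw0 hxw
  refine ⟨⟨x, hxP, ?_⟩, ⟨x, hxP, ?_⟩⟩
  · rw [h1]
    exact one_ne_zero
  · rw [QuadraticMap.polar_comm, h1]
    exact one_ne_zero

/-- such a plane is not of plus type -/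
theorem e12pd4q2_plane_not_plus (Q : QuadraticForm F (Fin n → F)) (P : Submodule F (Fin n → F))
    (hd : Module.finrank F P = 2) (hPQ : ∀ v ∈ P, v ≠ 0 → Q v = 1) : ¬ IsPlusTypeOn (⇑Q) P := by
  rintro ⟨U, hUP, hU, hUd⟩
  have hUne : U ≠ ⊥ := by
    intro hb
    rw [hb, finrank_bot, hd] at hUd
    omega
  obtain ⟨z, hzU, hz0⟩ := Submodule.exists_mem_ne_zero_of_ne_bot hUne
  have h1 := hPQ z (hUP hzU) hz0
  rw [hU z hzU] at h1
  exact zero_ne_one h1

/-- two such planes are isometric -/
theorem e12pd4q2_plane_iso (Q : QuadraticForm F (Fin n → F)) (P₁ P₂ : Submodule F (Fin n → F))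
    (h1 : Module.finrank F P₁ = 2) (h2 : Module.finrank F P₂ = 2) (hQ1 : ∀ v ∈ P₁, v ≠ 0 → Q v = 1)
    (hQ2 : ∀ v ∈ P₂, v ≠ 0 → Q v = 1) : AreIsometricFor (⇑Q) P₁ P₂ := by
  refine ⟨LinearEquiv.ofFinrankEq P₁ P₂ (by rw [h1, h2]), fun w => ?_⟩
  by_cases hw : w = 0
  · rw [hw, map_zero]
    rfl
  · have hew : (LinearEquiv.ofFinrankEq P₁ P₂ (by rw [h1, h2])) w ≠ 0 := by
      rwa [Ne, LinearEquiv.map_eq_zero_iff]
    rw [hQ2 _ (Subtype.property _) (fun h => hew (Subtype.ext h)), hQ1 _ w.2 (fun h => hw (Subtype.ext h))]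

variable [Fintype F]

/-- D4Q2, the assembly: from the block lemma to the decomposition into `2 t` minus planes. -/
theorem e12pd4q2_core (hq : Fintype.card F = 2) (Q : QuadraticForm F (Fin n → F))
    {t : ℕ} (D : Fin t → Submodule F (Fin n → F)) (hD : IsOrthogonalMDecomposition (⇑Q) 4 D)
    (hblock : ∀ i, ∃ P P' : Submodule F (Fin n → F), P ≤ D i ∧ P' ≤ D i ∧ Module.finrank F P = 2 ∧
      Module.finrank F P' = 2 ∧ P ⊔ P' = D i ∧ AreOrthogonalFor (QuadraticMap.polar (⇑Q)) P P' ∧
      (∀ v ∈ P, v ≠ 0 → Q v = 1) ∧ (∀ v ∈ P', v ≠ 0 → Q v = 1) ∧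
      (∀ u ∈ D i, ∀ v ∈ D i, Q u = 1 → Q v = 1 → u ≠ v → QuadraticMap.polar (⇑Q) u v = 1 →
        (u ∈ P ∧ v ∈ P) ∨ (u ∈ P' ∧ v ∈ P'))) :
    ∃ (t' : ℕ) (D' : Fin t' → Submodule F (Fin n → F)), IsOrthogonalMDecomposition (⇑Q) 2 D' ∧
      (∀ i, ¬ IsPlusTypeOn (⇑Q) (D' i)) ∧
      decompositionStabilizer D ⊓ isometryGroup F (⇑Q) ≤ decompositionStabilizer D' := by
  classical
  have h2 : (2 : F) = 0 := by
    have := Nat.cast_card_eq_zero F
    rw [hq] at this
    exact_mod_cast this
  choose P P' hPW hP'W hPd hP'd hsup horth hPQ hP'Q hcanon using hblock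
  have ht2 : 2 ≤ t := hD.decomp.decomp.two_le
  obtain ⟨e⟩ : Nonempty (Fin (t * 2) ≃ Fin t × Fin 2) := ⟨finProdFinEquiv.symm⟩
  obtain ⟨E, hE⟩ : ∃ E : Fin (t * 2) → Submodule F (Fin n → F),
      ∀ m, E m = if (e m).2 = 0 then P (e m).1 else P' (e m).1 := ⟨_, fun _ => rfl⟩
  have hE0 : ∀ i, E (e.symm (i, 0)) = P i := by
    intro i
    rw [hE, e.apply_symm_apply]
    simp
  have hE1 : ∀ i, E (e.symm (i, 1)) = P' i := by
    intro i
    rw [hE, e.apply_symm_apply]
    simp
  have hEW : ∀ m, E m ≤ D (e m).1 := by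
    intro m
    rw [hE]
    split_ifs
    · exact hPW _
    · exact hP'W _
  have hEd : ∀ m, Module.finrank F (E m) = 2 := by
    intro m
    rw [hE]
    by_cases h : (e m).2 = 0
    · rw [if_pos h]
      exact hPd _
    · rw [if_neg h]
      exact hP'd _
  have hEQ : ∀ m, ∀ v ∈ E m, v ≠ 0 → Q v = 1 := by
    intro m
    rw [hE]
    split_ifs
    · exact hPQ _
    · exact hP'Q _
  have hcases : ∀ a b : Fin 2, a ≠ b → (a = 0 ∧ b = 1) ∨ (a = 1 ∧ b = 0) := by decide
  have hEorth : ∀ m m', m ≠ m' → AreOrthogonalFor (QuadraticMap.polar (⇑Q)) (E m) (E m') := by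
    intro m m' hmm
    by_cases h1 : (e m).1 = (e m').1
    · have h2' : (e m).2 ≠ (e m').2 := by
        intro h2'
        exact hmm (e.injective (Prod.ext h1 h2'))
      intro u hu v hv
      rw [hE] at hu hv
      rcases hcases _ _ h2' with ⟨ha, hb⟩ | ⟨ha, hb⟩
      · rw [ha] at hu
        rw [hb, ← h1] at hv
        simp only [if_true, Fin.isValue, one_ne_zero, if_false] at hu hv
        exact horth _ u hu v hv
      · rw [ha] at hu
        rw [hb, ← h1] at hv
        simp only [if_true, Fin.isValue, one_ne_zero, if_false] at hu hv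
        rw [QuadraticMap.polar_comm]
        exact horth _ v hv u hu
    · intro u hu v hv
      exact hD.decomp.orthogonal _ _ h1 u (hEW m hu) v (hEW m' hv)
  have hEnd : ∀ m, IsNondegenerateOn (QuadraticMap.polar (⇑Q)) (E m) := fun m =>
    e12pd4q2_plane_nondeg h2 Q (E m) (hEd m) (hEQ m)
  have hEindep := e12pd4q2_indep Q E hEnd hEorth
  have hEtop : iSup E = ⊤ := by
    rw [eq_top_iff, ← hD.decomp.decomp.iSup_eq_top]
    apply iSup_le
    intro i
    rw [← hsup i]
    apply sup_le
    · rw [← hE0 i]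
      exact le_iSup E _
    · rw [← hE1 i]
      exact le_iSup E _
  have hEne : ∀ m, E m ≠ ⊥ := by
    intro m hb
    have := hEd m
    rw [hb, finrank_bot] at this
    omega
  have hEinj : Function.Injective E := hEindep.injective hEne
  refine ⟨t * 2, E, ⟨⟨⟨by omega, by norm_num, hEd, hEindep, hEtop⟩, hEnd, hEorth⟩, ?_⟩, ?_, ?_⟩
  · intro m m'
    exact e12pd4q2_plane_iso Q (E m) (E m') (hEd m) (hEd m') (hEQ m) (hEQ m')
  · intro m
    exact e12pd4q2_plane_not_plus Q (E m) (hEd m) (hEQ m)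
  · intro g hg
    obtain ⟨⟨σ, hσ⟩, hgI⟩ := Subgroup.mem_inf.mp hg
    have hgQ : ∀ v : Fin n → F, Q ((g : Matrix (Fin n) (Fin n) F) *ᵥ v) = Q v := fun v => hgI v v
    have hgpol : ∀ u v, QuadraticMap.polar (⇑Q) ((g : Matrix (Fin n) (Fin n) F) *ᵥ u)
        ((g : Matrix (Fin n) (Fin n) F) *ᵥ v) = QuadraticMap.polar (⇑Q) u v := by
      intro u v
      unfold QuadraticMap.polar
      rw [← Matrix.mulVec_add, hgQ, hgQ, hgQ]
    have hginj : Function.Injective (Matrix.toLin' (g : Matrix (Fin n) (Fin n) F)) := by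
      intro a b hab
      rw [Matrix.toLin'_apply, Matrix.toLin'_apply] at hab
      have hu : IsUnit (g : Matrix (Fin n) (Fin n) F) := ⟨g, rfl⟩
      exact Matrix.mulVec_injective_iff_isUnit.2 hu hab
    have hex : ∀ m, ∃ m', (E m).map (Matrix.toLin' (g : Matrix (Fin n) (Fin n) F)) = E m' := by
      intro m
      obtain ⟨u, v, hu, hv, hu0, hv0, huv, _, hspan⟩ := e12pd4q2_plane_basis (E m) (hEd m)
      have hpuv := e12pd4q2_polar_one h2 Q (E m) (hEQ m) u v hu hv hu0 hv0 huv
      have hgu : (g : Matrix (Fin n) (Fin n) F) *ᵥ u ∈ D (σ (e m).1) := by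
        rw [← hσ]
        exact ⟨u, hEW m hu, by rw [Matrix.toLin'_apply]⟩
      have hgv : (g : Matrix (Fin n) (Fin n) F) *ᵥ v ∈ D (σ (e m).1) := by
        rw [← hσ]
        exact ⟨v, hEW m hv, by rw [Matrix.toLin'_apply]⟩
      have hne : (g : Matrix (Fin n) (Fin n) F) *ᵥ u ≠ (g : Matrix (Fin n) (Fin n) F) *ᵥ v := by
        intro h
        apply huv
        apply hginj
        rw [Matrix.toLin'_apply, Matrix.toLin'_apply]
        exact h
      have hfr : Module.finrank F ((E m).map (Matrix.toLin' (g : Matrix (Fin n) (Fin n) F))) = 2 := by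
        rw [← hEd m]
        exact (LinearEquiv.finrank_eq (Submodule.equivMapOfInjective _ hginj (E m))).symm
      rcases hcanon (σ (e m).1) _ hgu _ hgv (by rw [hgQ, hEQ m u hu hu0]) (by rw [hgQ, hEQ m v hv hv0]) hne
        (by rw [hgpol, hpuv]) with ⟨h1, h2'⟩ | ⟨h1, h2'⟩
      · refine ⟨e.symm (σ (e m).1, 0), ?_⟩
        rw [hE0]
        apply Submodule.eq_of_le_of_finrank_eq
        · rw [hspan, Submodule.map_span, Submodule.span_le]
          rintro _ ⟨z, hz, rfl⟩
          rw [Matrix.toLin'_apply]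
          rcases hz with rfl | rfl
          · exact h1
          · exact h2'
        · rw [hPd, hfr]
      · refine ⟨e.symm (σ (e m).1, 1), ?_⟩
        rw [hE1]
        apply Submodule.eq_of_le_of_finrank_eq
        · rw [hspan, Submodule.map_span, Submodule.span_le]
          rintro _ ⟨z, hz, rfl⟩
          rw [Matrix.toLin'_apply]
          rcases hz with rfl | rfl
          · exact h1
          · exact h2'
        · rw [hP'd, hfr]
    choose φ hφ using hex
    have hinj : Function.Injective φ := by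
      intro m m' hmm
      have h1 : (E m).map (Matrix.toLin' (g : Matrix (Fin n) (Fin n) F)) =
          (E m').map (Matrix.toLin' (g : Matrix (Fin n) (Fin n) F)) := by rw [hφ, hφ, hmm]
      exact hEinj (Submodule.map_injective_of_injective hginj h1)
    exact ⟨Equiv.ofBijective φ (Finite.injective_iff_bijective.1 hinj), hφ⟩

end Cfsg.Agent.Lib.Helper26.E12P
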