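import Mathlib
import Cfsg.Prelude.Def_GeometricClasses
import Cfsg.Agent.Lib.Helper27.ASC.Defs
import Cfsg.Agent.Lib.helper23.ASCO.Defs
import Cfsg.Agent.Lib.Helper19.ASG.Defs
import Cfsg.Agent.Lib.Helper25.ASO.Defs
import Cfsg.Agent.Lib.helper23.ASE.Defs
import Cfsg.Agent.Lib.Helper26.E12P.Defs
import Cfsg.Agent.Lib.Helper10.E12PD4Q2core
import Cfsg.Agent.Lib.Helper24.E12PD4Q2a

set_option autoImplicit false
set_option linter.unusedVariables false
set_option linter.unusedSectionVars false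

/-!
# Project E12P, piece D4Q2 : `dec4_plus_q2` = assembly `e12pd4q2_core` (helper10) + block lemma `e12pd4q2_block` (helper24)
-/

namespace Cfsg.Agent.Lib.Helper26.E12P

open Cfsg Cfsg.Geo Cfsg.Agent.Lib.Helper27.ASC Cfsg.Agent.Lib.helper23.ASCO Cfsg.Agent.Lib.Helper19.ASG
  Cfsg.Agent.Lib.Helper25.ASO Cfsg.Agent.Lib.helper23.ASE
open scoped MatrixGroups Matrix Kronecker

variable {n : ℕ} {F : Type*} [Field F] [Fintype F]

/-- D4Q2 : `|F| = 2`: the isometries stabilising an orthogonal decomposition into `t` isometric 4-spaces of plus type stabilise an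
orthogonal decomposition into `2 t` planes of minus type. -/
theorem dec4_plus_q2 (hq : Fintype.card F = 2) (Q : QuadraticForm F (Fin n → F))
    (hQ : (QuadraticMap.polarBilin Q).Nondegenerate) {t : ℕ} (D : Fin t → Submodule F (Fin n → F))
    (hD : IsOrthogonalMDecomposition (⇑Q) 4 D) (hp : ∀ i, IsPlusTypeOn (⇑Q) (D i)) :
    ∃ (t' : ℕ) (D' : Fin t' → Submodule F (Fin n → F)), IsOrthogonalMDecomposition (⇑Q) 2 D' ∧
      (∀ i, ¬ IsPlusTypeOn (⇑Q) (D' i)) ∧
      decompositionStabilizer D ⊓ isometryGroup F (⇑Q) ≤ decompositionStabilizer D' :=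
  e12pd4q2_core hq Q D hD fun i =>
    e12pd4q2_block hq Q (D i) (hD.decomp.nondegenerate i) (hD.decomp.decomp.finrank_eq i) (hp i)

end Cfsg.Agent.Lib.Helper26.E12P
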