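import Mathlib

set_option autoImplicit false

namespace Cfsg.Agent.Lib.Helper10.EmbPSL4

open Matrix

theorem zmod2_unit_eq_one (x : ZMod 2) (hx : IsUnit x) : x = 1 := by
  revert hx
  revert x
  decide

/-- A representation on a `ZMod 2`-module of dimension at most 4 gives a homomorphism to
`SL₄(2)` with the same kernel. -/
theorem exists_hom_SL4 {Γ V : Type*} [Group Γ] [AddCommGroup V] [Module (ZMod 2) V] [Finite V]
    (hV : Module.finrank (ZMod 2) V ≤ 4) (ρ₀ : Γ →* Module.End (ZMod 2) V) :
    ∃ f : Γ →* Matrix.SpecialLinearGroup (Fin 4) (ZMod 2), ∀ g, f g = 1 ↔ ρ₀ g = 1 := by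
  classical
  have hfinW : Module.finrank (ZMod 2) (V × (Fin (4 - Module.finrank (ZMod 2) V) → ZMod 2)) = 4 := by
    rw [Module.finrank_prod, Module.finrank_fin_fun]
    omega
  let b := Module.finBasisOfFinrankEq (ZMod 2)
    (V × (Fin (4 - Module.finrank (ZMod 2) V) → ZMod 2)) hfinW
  let ρ : Γ →* Module.End (ZMod 2) (V × (Fin (4 - Module.finrank (ZMod 2) V) → ZMod 2)) :=
    { toFun := fun g => (ρ₀ g).prodMap LinearMap.id
      map_one' := by
        rw [map_one]
        exact LinearMap.prodMap_one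
      map_mul' := by
        intro g h
        rw [map_mul]
        apply LinearMap.ext
        rintro ⟨v, w⟩
        rfl }
  have hρ : ∀ g, ρ g = 1 ↔ ρ₀ g = 1 := by
    intro g
    constructor
    · intro h
      ext v
      have := congrArg (fun φ : Module.End (ZMod 2)
        (V × (Fin (4 - Module.finrank (ZMod 2) V) → ZMod 2)) => (φ (v, 0)).1) h
      simpa [ρ] using this
    · intro h
      show (ρ₀ g).prodMap LinearMap.id = 1
      rw [h]
      exact LinearMap.prodMap_one
  let M : Γ →* Matrix (Fin 4) (Fin 4) (ZMod 2) :=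
    (MonoidHomClass.toMonoidHom (LinearMap.toMatrixAlgEquiv b)).comp ρ
  have hM : ∀ g, M g = 1 ↔ ρ g = 1 := by
    intro g
    show LinearMap.toMatrixAlgEquiv b (ρ g) = 1 ↔ _
    constructor
    · intro h
      apply (LinearMap.toMatrixAlgEquiv b).injective
      rw [h, map_one]
    · intro h
      rw [h, map_one]
  let U : Γ →* (Matrix (Fin 4) (Fin 4) (ZMod 2))ˣ := M.toHomUnits
  have hU : ∀ g, ((U g : (Matrix (Fin 4) (Fin 4) (ZMod 2))ˣ) : Matrix (Fin 4) (Fin 4) (ZMod 2)) = M g :=
    fun g => rfl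
  have hdet : ∀ g, (M g).det = 1 := by
    intro g
    apply zmod2_unit_eq_one
    rw [← hU g]
    exact (Matrix.isUnit_iff_isUnit_det _).mp (Units.isUnit _)
  refine ⟨{ toFun := fun g => ⟨M g, hdet g⟩
            map_one' := ?_
            map_mul' := ?_ }, ?_⟩
  · apply Subtype.ext
    show M 1 = 1
    rw [map_one]
  · intro g h
    apply Subtype.ext
    show M (g * h) = M g * M h
    rw [map_mul]
  · intro g
    rw [← hρ, ← hM]
    constructor
    · intro h
      exact congrArg Subtype.val h
    · intro h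
      apply Subtype.ext
      exact h

theorem center_SL4_two : Subgroup.center (Matrix.SpecialLinearGroup (Fin 4) (ZMod 2)) = ⊥ := by
  rw [eq_bot_iff]
  intro A hA
  rw [Matrix.SpecialLinearGroup.mem_center_iff] at hA
  obtain ⟨r, hr, hA⟩ := hA
  rw [Subgroup.mem_bot]
  have h01 : ∀ x : ZMod 2, x = 0 ∨ x = 1 := by decide
  rcases h01 r with rfl | rfl
  · simp at hr
  · apply Subtype.ext
    rw [← hA]
    simp

/-- A representation on a `ZMod 2`-module of dimension at most 4 gives a homomorphism to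
`PSL₄(2)` with the same kernel. -/
theorem exists_hom_PSL4 {Γ V : Type*} [Group Γ] [AddCommGroup V] [Module (ZMod 2) V] [Finite V]
    (hV : Module.finrank (ZMod 2) V ≤ 4) (ρ₀ : Γ →* Module.End (ZMod 2) V) :
    ∃ f : Γ →* Matrix.ProjectiveSpecialLinearGroup (Fin 4) (ZMod 2), ∀ g, f g = 1 ↔ ρ₀ g = 1 := by
  obtain ⟨f, hf⟩ := exists_hom_SL4 hV ρ₀
  refine ⟨(QuotientGroup.mk' _).comp f, fun g => ?_⟩
  rw [← hf]
  show (QuotientGroup.mk (f g) : Matrix.ProjectiveSpecialLinearGroup (Fin 4) (ZMod 2)) = 1 ↔ _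
  rw [QuotientGroup.eq_one_iff, center_SL4_two, Subgroup.mem_bot]

end Cfsg.Agent.Lib.Helper10.EmbPSL4

namespace Cfsg.Agent.Lib.Helper10.EmbPSL4

/-- An action on an elementary abelian 2-group of order at most 16 gives a homomorphism to
`PSL₄(2)` with kernel the kernel of the action. -/
theorem exists_hom_PSL4_of_elementary {Γ E : Type*} [Group Γ] [CommGroup E] [Finite E]
    (h2 : ∀ a : E, a ^ 2 = 1) (hcard : Nat.card E ≤ 16) (θ : Γ → (E →* E))
    (h1 : θ 1 = MonoidHom.id E) (hm : ∀ g h, θ (g * h) = (θ g).comp (θ h)) :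
    ∃ f : Γ →* Matrix.ProjectiveSpecialLinearGroup (Fin 4) (ZMod 2),
      ∀ g, f g = 1 ↔ θ g = MonoidHom.id E := by
  classical
  letI : Module (ZMod 2) (Additive E) := AddCommGroup.zmodModule (n := 2) (by
    intro a
    have := h2 (Additive.toMul a)
    exact congrArg Additive.ofMul this)
  haveI : Finite (Additive E) := inferInstanceAs (Finite E)
  have hfin : Module.finrank (ZMod 2) (Additive E) ≤ 4 := by
    have hc : Nat.card (Additive E) = 2 ^ Module.finrank (ZMod 2) (Additive E) := by
      rw [Module.natCard_eq_pow_finrank (K := ZMod 2) (V := Additive E), Nat.card_zmod]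
    have hc' : Nat.card (Additive E) ≤ 16 := hcard
    rw [hc] at hc'
    by_contra hlt
    rw [not_le] at hlt
    have : 2 ^ 5 ≤ 2 ^ Module.finrank (ZMod 2) (Additive E) :=
      Nat.pow_le_pow_right (by norm_num) hlt
    omega
  let ρ₀ : Γ →* Module.End (ZMod 2) (Additive E) :=
    { toFun := fun g => (MonoidHom.toAdditive (θ g)).toZModLinearMap 2
      map_one' := by
        rw [h1]
        rfl
      map_mul' := by
        intro g h
        rw [hm]
        rfl }
  obtain ⟨f, hf⟩ := exists_hom_PSL4 hfin ρ₀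
  refine ⟨f, fun g => ?_⟩
  rw [hf]
  constructor
  · intro h
    refine MonoidHom.ext fun a => ?_
    have := LinearMap.congr_fun h (Additive.ofMul a)
    exact congrArg Additive.toMul this
  · intro h
    show (MonoidHom.toAdditive (θ g)).toZModLinearMap 2 = 1
    rw [h]
    rfl

end Cfsg.Agent.Lib.Helper10.EmbPSL4
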