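import Mathlib

set_option autoImplicit false

/-! A group `P` of order `p ^ 3` with centre of order `p`, acted on faithfully by an abelian group
`K` of odd order prime to `p` that centralizes the centre: then `#K ∣ p - 1` or `#K ∣ p + 1`. -/

namespace Cfsg.Agent.Lib.Helper10.ExtraK

open Subgroup
open scoped Pointwise commutatorElement

/-- A free action gives divisibility. -/
theorem card_dvd_of_free {K X : Type*} [Group K] [MulAction K X]
    (h : ∀ (k : K) (x : X), k • x = x → k = 1) : Nat.card K ∣ Nat.card X := by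
  have hst : ∀ b : X, MulAction.stabilizer K b = ⊥ := by
    intro b
    ext k
    simp only [MulAction.mem_stabilizer_iff, Subgroup.mem_bot]
    exact ⟨h k b, fun hk => by rw [hk, one_smul]⟩
  have e := MulAction.selfEquivOrbitsQuotientProd hst
  rw [Nat.card_congr e, Nat.card_prod]
  exact dvd_mul_left _ _

section Abstract

variable {P : Type*} [Group P] [Finite P] {p : ℕ}

/-- A "line": a subgroup of order `p ^ 2` containing the centre. -/
def IsLine (p : ℕ) (L : Subgroup P) : Prop := center P ≤ L ∧ Nat.card L = p ^ 2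

theorem line_le (hp : p.Prime) (hZc : Nat.card (center P) = p) {L : Subgroup P}
    (hL : IsLine p L) {H : Subgroup P} (hZH : center P ≤ H) {g : P} (hgL : g ∈ L)
    (hgZ : g ∉ center P) (hgH : g ∈ H) : L ≤ H := by
  have h1 : Nat.card ↥(H ⊓ L) ∣ p ^ 2 := hL.2 ▸ Subgroup.card_dvd_of_le inf_le_right
  obtain ⟨j, hj, hjc⟩ := (Nat.dvd_prime_pow hp).1 h1
  have hZle : center P ≤ H ⊓ L := le_inf hZH hL.1
  have hne : center P ≠ H ⊓ L := by
    intro heq
    apply hgZ
    rw [heq]
    exact ⟨hgH, hgL⟩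
  have hlt : p < p ^ j := by
    by_contra hle
    push Not at hle
    exact hne (Subgroup.eq_of_le_of_card_ge hZle (by rw [hjc, hZc]; exact hle))
  have hj2 : j = 2 := by
    have : 1 < j := by
      by_contra h
      push Not at h
      have : p ^ j ≤ p ^ 1 := Nat.pow_le_pow_right hp.pos h
      simp at this
      omega
    omega
  have heq : H ⊓ L = L := Subgroup.eq_of_le_of_card_ge inf_le_right (by rw [hjc, hj2, hL.2])
  rw [← heq]
  exact inf_le_left

theorem cent_isLine (hp : p.Prime) (hPc : Nat.card P = p ^ 3) (hZc : Nat.card (center P) = p)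
    {g : P} (hg : g ∉ center P) : IsLine p (centralizer {g}) := by
  refine ⟨center_le_centralizer _, ?_⟩
  have h1 : Nat.card ↥(centralizer ({g} : Set P)) ∣ p ^ 3 := hPc ▸ Subgroup.card_subgroup_dvd_card _
  obtain ⟨j, hj, hjc⟩ := (Nat.dvd_prime_pow hp).1 h1
  have hne : centralizer ({g} : Set P) ≠ ⊤ := by
    intro h
    apply hg
    rw [mem_center_iff]
    intro x
    have hx : x ∈ centralizer ({g} : Set P) := h ▸ mem_top x
    exact mem_centralizer_singleton_iff.1 hx
  have hj3 : j ≠ 3 := by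
    intro h
    apply hne
    rw [← Subgroup.card_eq_iff_eq_top, hjc, h, hPc]
  have hne2 : center P ≠ centralizer ({g} : Set P) := by
    intro heq
    apply hg
    rw [heq]
    exact mem_centralizer_singleton_iff.2 rfl
  have hlt : p < p ^ j := by
    by_contra hle
    push Not at hle
    exact hne2 (Subgroup.eq_of_le_of_card_ge (center_le_centralizer _)
      (by rw [hjc, hZc]; exact hle))
  have hj2 : 1 < j := by
    by_contra h
    push Not at h
    have : p ^ j ≤ p ^ 1 := Nat.pow_le_pow_right hp.pos h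
    simp at this
    omega
  have : j = 2 := by omega
  rw [hjc, this]

theorem line_comm (hp : p.Prime) {L : Subgroup P} (hL : IsLine p L) {a b : P} (ha : a ∈ L)
    (hb : b ∈ L) : a * b = b * a := by
  haveI : Fact p.Prime := ⟨hp⟩
  have h := (IsPGroup.isMulCommutative_of_card_eq_prime_sq hL.2).is_comm.comm
    (⟨a, ha⟩ : L) ⟨b, hb⟩
  exact congrArg Subtype.val h

theorem line_eq_cent (hp : p.Prime) (hPc : Nat.card P = p ^ 3) (hZc : Nat.card (center P) = p)
    {L : Subgroup P} (hL : IsLine p L) {g : P} (hgL : g ∈ L) (hgZ : g ∉ center P) :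
    L = centralizer {g} := by
  refine Subgroup.eq_of_le_of_card_ge ?_ ?_
  · exact line_le hp hZc hL (center_le_centralizer _) hgL hgZ (mem_centralizer_singleton_iff.2 rfl)
  · rw [hL.2, (cent_isLine hp hPc hZc hgZ).2]

theorem line_eq_of_mem (hp : p.Prime) (hPc : Nat.card P = p ^ 3) (hZc : Nat.card (center P) = p)
    {L L' : Subgroup P} (hL : IsLine p L) (hL' : IsLine p L') {g : P} (hgL : g ∈ L)
    (hgL' : g ∈ L') (hgZ : g ∉ center P) : L = L' := by
  rw [line_eq_cent hp hPc hZc hL hgL hgZ, line_eq_cent hp hPc hZc hL' hgL' hgZ]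

theorem exists_mem_line (hp : p.Prime) (hZc : Nat.card (center P) = p) {L : Subgroup P}
    (hL : IsLine p L) : ∃ g ∈ L, g ∉ center P := by
  by_contra h
  push Not at h
  have hle : L ≤ center P := h
  have := Subgroup.card_le_of_le hle
  rw [hL.2, hZc] at this
  have h2 : p * 2 ≤ p * p := Nat.mul_le_mul_left p hp.two_le
  have hp0 := hp.pos
  nlinarith

theorem comm_mem_center (hp : p.Prime) (hPc : Nat.card P = p ^ 3)
    (hZc : Nat.card (center P) = p) (a b : P) : ⁅a, b⁆ ∈ center P := by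
  haveI : Fact p.Prime := ⟨hp⟩
  have hq : Nat.card (P ⧸ center P) = p ^ 2 := by
    have h := Subgroup.card_eq_card_quotient_mul_card_subgroup (center P)
    rw [hPc, hZc] at h
    have h3 : p ^ 3 = p ^ 2 * p := by ring
    rw [h3] at h
    exact (Nat.eq_of_mul_eq_mul_right hp.pos h).symm
  have hcomm := (IsPGroup.isMulCommutative_of_card_eq_prime_sq hq).is_comm.comm
  rw [← QuotientGroup.eq_one_iff]
  have : ((⁅a, b⁆ : P) : P ⧸ center P) = ⁅(a : P ⧸ center P), (b : P ⧸ center P)⁆ :=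
    map_commutatorElement (QuotientGroup.mk' (center P)) a b
  rw [this, commutatorElement_eq_one_iff_mul_comm]
  exact hcomm _ _

theorem comm_mul_left (hc : ∀ a b : P, ⁅a, b⁆ ∈ center P) (a a' b : P) :
    ⁅a * a', b⁆ = ⁅a, b⁆ * ⁅a', b⁆ := by
  have h := mem_center_iff.1 (hc a' b)
  calc ⁅a * a', b⁆ = a * ⁅a', b⁆ * b * a⁻¹ * b⁻¹ := by
        simp only [commutatorElement_def]; group
    _ = ⁅a', b⁆ * a * b * a⁻¹ * b⁻¹ := by rw [h a]
    _ = ⁅a', b⁆ * ⁅a, b⁆ := by simp only [commutatorElement_def, mul_assoc]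
    _ = ⁅a, b⁆ * ⁅a', b⁆ := (h _).symm

theorem comm_mul_right (hc : ∀ a b : P, ⁅a, b⁆ ∈ center P) (a b b' : P) :
    ⁅a, b * b'⁆ = ⁅a, b⁆ * ⁅a, b'⁆ := by
  have h := mem_center_iff.1 (hc a b')
  calc ⁅a, b * b'⁆ = a * b * a⁻¹ * ⁅a, b'⁆ * b⁻¹ := by
        simp only [commutatorElement_def]; group
    _ = a * b * a⁻¹ * (⁅a, b'⁆ * b⁻¹) := by simp only [mul_assoc]
    _ = a * b * a⁻¹ * (b⁻¹ * ⁅a, b'⁆) := by rw [h b⁻¹]
    _ = ⁅a, b⁆ * ⁅a, b'⁆ := by simp only [commutatorElement_def, mul_assoc]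

/-- `x ↦ ⁅x, b⁆` as a homomorphism. -/
def commL (hc : ∀ a b : P, ⁅a, b⁆ ∈ center P) (b : P) : P →* P where
  toFun x := ⁅x, b⁆
  map_one' := commutatorElement_one_left b
  map_mul' x y := comm_mul_left hc x y b

/-- `x ↦ ⁅a, x⁆` as a homomorphism. -/
def commR (hc : ∀ a b : P, ⁅a, b⁆ ∈ center P) (a : P) : P →* P where
  toFun x := ⁅a, x⁆
  map_one' := commutatorElement_one_right a
  map_mul' x y := comm_mul_right hc a x y

theorem comm_central_left {z : P} (hz : z ∈ center P) (b : P) : ⁅z, b⁆ = 1 := by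
  rw [commutatorElement_eq_one_iff_mul_comm]
  exact (mem_center_iff.1 hz b).symm

theorem comm_central_right {z : P} (hz : z ∈ center P) (a : P) : ⁅a, z⁆ = 1 := by
  rw [commutatorElement_eq_one_iff_mul_comm]
  exact mem_center_iff.1 hz a

/-- `⁅g ^ a * z, h ^ b * z'⁆ = (⁅g, h⁆ ^ b) ^ a` for central `z, z'`. -/
theorem comm_scalar (hc : ∀ a b : P, ⁅a, b⁆ ∈ center P) (g h z z' : P) (hz : z ∈ center P)
    (hz' : z' ∈ center P) (a b : ℤ) : ⁅g ^ a * z, h ^ b * z'⁆ = (⁅g, h⁆ ^ b) ^ a := by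
  have e1 : ⁅g ^ a * z, h ^ b * z'⁆ = ⁅g ^ a, h ^ b * z'⁆ := by
    rw [comm_mul_left hc, comm_central_left hz, mul_one]
  have e2 : ⁅g ^ a, h ^ b * z'⁆ = ⁅g ^ a, h ^ b⁆ := by
    rw [comm_mul_right hc, comm_central_right hz', mul_one]
  have e3 : ⁅g ^ a, h ^ b⁆ = ⁅g, h ^ b⁆ ^ a := map_zpow (commL hc (h ^ b)) g a
  have e4 : ⁅g, h ^ b⁆ = ⁅g, h⁆ ^ b := map_zpow (commR hc g) h b
  rw [e1, e2, e3, e4]

/-- A line is generated by the centre and any of its non-central elements. -/
theorem line_gen (hp : p.Prime) (hZc : Nat.card (center P) = p) {L : Subgroup P}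
    (hL : IsLine p L) {g : P} (hgL : g ∈ L) (hgZ : g ∉ center P) {y : P} (hy : y ∈ L) :
    ∃ a : ℤ, ∃ z ∈ center P, y = g ^ a * z := by
  let T : Subgroup P :=
    { carrier := {y | ∃ a : ℤ, ∃ z ∈ center P, y = g ^ a * z}
      mul_mem' := by
        rintro _ _ ⟨a, z, hz, rfl⟩ ⟨b, z', hz', rfl⟩
        refine ⟨a + b, z * z', mul_mem hz hz', ?_⟩
        have h := mem_center_iff.1 hz (g ^ b)
        calc g ^ a * z * (g ^ b * z') = g ^ a * (z * g ^ b) * z' := by group
          _ = g ^ a * (g ^ b * z) * z' := by rw [h]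
          _ = g ^ (a + b) * (z * z') := by rw [zpow_add]; group
      one_mem' := ⟨0, 1, one_mem _, by simp⟩
      inv_mem' := by
        rintro _ ⟨a, z, hz, rfl⟩
        refine ⟨-a, z⁻¹, inv_mem hz, ?_⟩
        have h := mem_center_iff.1 (inv_mem hz) (g ^ (-a))
        rw [h]
        group }
  have hZT : center P ≤ T := fun z hz => ⟨0, z, hz, by simp⟩
  have hgT : g ∈ T := ⟨1, 1, one_mem _, by simp⟩
  exact line_le hp hZc hL hZT hgL hgZ hgT hy

theorem card_line_diff (hZc : Nat.card (center P) = p) {L : Subgroup P}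
    (hL : IsLine p L) : Nat.card {g : P // g ∈ L ∧ g ∉ center P} = p ^ 2 - p := by
  have h1 : Nat.card {g : P // g ∈ L ∧ g ∉ center P} =
      ((L : Set P) \ (center P : Set P)).ncard := by
    rw [← Nat.card_coe_set_eq]
    rfl
  have h2 := Set.ncard_sdiff_add_ncard_of_subset (s := (center P : Set P)) (t := (L : Set P))
    (fun x hx => hL.1 hx)
  have h3 : ((L : Set P)).ncard = p ^ 2 := by
    rw [← Nat.card_coe_set_eq]; exact hL.2
  have h4 : ((center P : Set P)).ncard = p := by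
    rw [← Nat.card_coe_set_eq]; exact hZc
  rw [h1]
  omega

theorem card_compl_center (hPc : Nat.card P = p ^ 3) (hZc : Nat.card (center P) = p) :
    Nat.card {g : P // g ∉ center P} = p ^ 3 - p := by
  have h1 : Nat.card {g : P // g ∉ center P} = ((center P : Set P)ᶜ).ncard := by
    rw [← Nat.card_coe_set_eq]
    rfl
  have h4 : ((center P : Set P)).ncard = p := by
    rw [← Nat.card_coe_set_eq]; exact hZc
  rw [h1, Set.ncard_compl, hPc, h4]

theorem card_lines (hp : p.Prime) (hPc : Nat.card P = p ^ 3) (hZc : Nat.card (center P) = p) :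
    Nat.card {L : Subgroup P // IsLine p L} = p + 1 := by
  classical
  haveI : Fintype {L : Subgroup P // IsLine p L} := Fintype.ofFinite _
  let f : (Σ L : {L : Subgroup P // IsLine p L}, {g : P // g ∈ L.1 ∧ g ∉ center P}) →
      {g : P // g ∉ center P} := fun x => ⟨x.2.1, x.2.2.2⟩
  have hf : Function.Bijective f := by
    constructor
    · rintro ⟨⟨L, hL⟩, ⟨g, hg⟩⟩ ⟨⟨L', hL'⟩, ⟨g', hg'⟩⟩ h
      have hgg : g = g' := congrArg Subtype.val h
      subst hgg
      have hLL : L = L' := line_eq_of_mem hp hPc hZc hL hL' hg.1 hg'.1 hg.2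
      subst hLL
      rfl
    · rintro ⟨g, hg⟩
      exact ⟨⟨⟨centralizer {g}, cent_isLine hp hPc hZc hg⟩,
        ⟨g, mem_centralizer_singleton_iff.2 rfl, hg⟩⟩, rfl⟩
  have h1 := Nat.card_congr (Equiv.ofBijective f hf)
  rw [Nat.card_sigma, card_compl_center hPc hZc] at h1
  have h2 : ∀ L : {L : Subgroup P // IsLine p L},
      Nat.card {g : P // g ∈ L.1 ∧ g ∉ center P} = p ^ 2 - p :=
    fun L => card_line_diff hZc L.2
  simp only [h2, Finset.sum_const, Finset.card_univ, smul_eq_mul] at h1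
  rw [Nat.card_eq_fintype_card]
  have hp2 := hp.two_le
  have h3 : p ^ 3 - p = (p + 1) * (p ^ 2 - p) := by
    have ha : p ≤ p ^ 2 := by nlinarith
    have hb : p ≤ p ^ 3 := by nlinarith [pow_succ p 2]
    zify [ha, hb]
    ring
  have hpos : 0 < p ^ 2 - p := by
    have : p * 2 ≤ p * p := Nat.mul_le_mul_left p hp2
    have : p < p ^ 2 := by nlinarith
    omega
  rw [h3] at h1
  exact Nat.eq_of_mul_eq_mul_right hpos h1

section Action

variable {K : Type*} [Group K] [Finite K] [MulDistribMulAction K P]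

theorem smul_comm_elt (k : K) (a b : P) : k • ⁅a, b⁆ = ⁅k • a, k • b⁆ := by
  simp only [commutatorElement_def, smul_mul', smul_inv']

theorem pow_smul_fixed (u : K) (l : P) (h2 : u • l = l) : ∀ n : ℕ, u ^ n • l = l := by
  intro n
  induction n with
  | zero => simp
  | succ n ih => rw [pow_succ, mul_smul, h2, ih]

theorem pow_smul_stab (u : K) (y l : P) (h1 : u • y = y * l) (h2 : u • l = l) :
    ∀ n : ℕ, u ^ n • y = y * l ^ n := by
  intro n
  induction n with
  | zero => simp
  | succ n ih =>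
    rw [pow_succ, mul_smul, h1, smul_mul', ih, pow_smul_fixed u l h2, pow_succ, mul_assoc]

/-- Coprime stability. -/
theorem stab_triv (hPc : Nat.card P = p ^ 3) (hKp : (Nat.card K).Coprime p) (u : K) (y l : P)
    (h1 : u • y = y * l) (h2 : u • l = l) : u • y = y := by
  have h := pow_smul_stab u y l h1 h2 (Nat.card K)
  rw [pow_card_eq_one', one_smul] at h
  have hl1 : l ^ Nat.card K = 1 := by
    have : y * l ^ Nat.card K = y * 1 := by rw [mul_one]; exact h.symm
    exact mul_left_cancel this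
  have hl2 : l ^ (p ^ 3) = 1 := by rw [← hPc]; exact pow_card_eq_one'
  have hd1 := orderOf_dvd_of_pow_eq_one hl1
  have hd2 := orderOf_dvd_of_pow_eq_one hl2
  have hcop : (Nat.card K).Coprime (p ^ 3) := Nat.Coprime.pow_right 3 hKp
  have h1' : orderOf l = 1 := Nat.eq_one_of_dvd_coprimes hcop hd1 hd2
  rw [orderOf_eq_one_iff] at h1'
  rw [h1, h1', mul_one]

/-- An element of `K` fixing a non-central element of a line is trivial. -/
theorem fix_trivial (hp : p.Prime) (hPc : Nat.card P = p ^ 3) (hZc : Nat.card (center P) = p)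
    (hKp : (Nat.card K).Coprime p) (hKZ : ∀ (k : K), ∀ z ∈ center P, k • z = z)
    (hKf : ∀ k : K, (∀ g : P, k • g = g) → k = 1) {L : Subgroup P} (hL : IsLine p L)
    (s : K) {g : P} (hgL : g ∈ L) (hgZ : g ∉ center P) (hsg : s • g = g) : s = 1 := by
  let T : Subgroup P :=
    { carrier := {y | s • y = y}
      mul_mem' := by
        intro a b ha hb
        simp only [Set.mem_setOf_eq] at ha hb ⊢
        rw [smul_mul', ha, hb]
      one_mem' := smul_one s
      inv_mem' := by
        intro a ha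
        simp only [Set.mem_setOf_eq] at ha ⊢
        rw [smul_inv', ha] }
  have hZT : center P ≤ T := fun z hz => hKZ s z hz
  have hLT : L ≤ T := line_le hp hZc hL hZT hgL hgZ hsg
  have hLc := line_eq_cent hp hPc hZc hL hgL hgZ
  have hc := comm_mem_center hp hPc hZc
  apply hKf
  intro h
  have e1 : ⁅g, s • h⁆ = ⁅g, h⁆ := by
    have := smul_comm_elt s g h
    rw [hsg, hKZ s _ (hc g h)] at this
    exact this.symm
  have hl : h⁻¹ * s • h ∈ L := by
    rw [hLc, mem_centralizer_singleton_iff]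
    simp only [commutatorElement_def] at e1
    have e2 : s • h * g⁻¹ * (s • h)⁻¹ = h * g⁻¹ * h⁻¹ := by
      have := congrArg (fun x => g⁻¹ * x) e1
      simp only [← mul_assoc, inv_mul_cancel, one_mul] at this
      exact this
    have e3 : (h⁻¹ * s • h) * g⁻¹ = g⁻¹ * (h⁻¹ * s • h) := by
      have := congrArg (fun x => h⁻¹ * x * (s • h)) e2
      simp only [← mul_assoc, inv_mul_cancel, one_mul, inv_mul_cancel_right] at this
      rw [this]
      simp only [mul_assoc]
    have e4 := congrArg (fun x => g * x * g) e3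
    simp only [← mul_assoc] at e4
    simp only [mul_inv_cancel, one_mul, inv_mul_cancel_right] at e4
    rw [e4.symm]
    simp only [mul_assoc]
  exact stab_triv hPc hKp s h (h⁻¹ * s • h) (by group) (hLT hl)

theorem isLine_smul (hKZ : ∀ (k : K), ∀ z ∈ center P, k • z = z) {L : Subgroup P}
    (hL : IsLine p L) (k : K) : IsLine p (k • L) := by
  refine ⟨?_, ?_⟩
  · intro z hz
    rw [Subgroup.mem_pointwise_smul_iff_inv_smul_mem, hKZ k⁻¹ z hz]
    exact hL.1 hz
  · rw [← hL.2]
    exact Nat.card_congr (Subgroup.equivSMul k L).toEquiv.symm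

theorem smul_not_mem_center (hKZ : ∀ (k : K), ∀ z ∈ center P, k • z = z) (k : K) {g : P}
    (hg : g ∉ center P) : k • g ∉ center P := by
  intro h
  apply hg
  have := hKZ k⁻¹ _ h
  rw [inv_smul_smul] at this
  rw [this]
  exact h

/-- If `s` stabilizes a line that `k` moves (and `s`, `k` commute), then `s = 1`. -/
theorem stab_eq_of_ne (hp : p.Prime) (hPc : Nat.card P = p ^ 3) (hZc : Nat.card (center P) = p)
    (hKp : (Nat.card K).Coprime p) (hodd : Odd (Nat.card K))
    (hKZ : ∀ (k : K), ∀ z ∈ center P, k • z = z)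
    (hKf : ∀ k : K, (∀ g : P, k • g = g) → k = 1) {L : Subgroup P} (hL : IsLine p L)
    (s k : K) (hsk : s * k = k * s) (hsL : s • L = L) (hkL : k • L ≠ L) : s = 1 := by
  have hc := comm_mem_center hp hPc hZc
  obtain ⟨g, hgL, hgZ⟩ := exists_mem_line hp hZc hL
  have hL' : IsLine p (k • L) := isLine_smul hKZ hL k
  have hsgL : s • g ∈ L := by
    have := Subgroup.smul_mem_pointwise_smul g s L hgL
    rwa [hsL] at this
  obtain ⟨a, z, hz, hsg⟩ := line_gen hp hZc hL hgL hgZ hsgL
  set h : P := k • g with hh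
  have hhL' : h ∈ k • L := Subgroup.smul_mem_pointwise_smul g k L hgL
  have hhZ : h ∉ center P := smul_not_mem_center hKZ k hgZ
  have hL'c := line_eq_cent hp hPc hZc hL' hhL' hhZ
  have hsh : s • h = h ^ a * z := by
    rw [hh, ← mul_smul, hsk, mul_smul, hsg, smul_mul', smul_zpow', hKZ k z hz]
  -- the commutator
  have hc1 : ⁅g, h⁆ ≠ 1 := by
    intro h1
    rw [commutatorElement_eq_one_iff_mul_comm] at h1
    have hgL' : g ∈ k • L := by
      rw [hL'c, mem_centralizer_singleton_iff]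
      exact h1
    exact hkL (line_eq_of_mem hp hPc hZc hL hL' hgL hgL' hgZ).symm
  have hsc : s • ⁅g, h⁆ = ⁅g, h⁆ := hKZ s _ (hc g h)
  have hkey : (⁅g, h⁆ ^ a) ^ a = ⁅g, h⁆ := by
    rw [← comm_scalar hc g h z z hz hz a a, ← hsg, ← hsh, ← smul_comm_elt, hsc]
  -- the square of `s`
  have hu : (s * s) • g = (g ^ a * z) ^ a * z := by
    rw [mul_smul, hsg, smul_mul', smul_zpow', hsg, hKZ s z hz]
  have hcu : ⁅(s * s) • g, h⁆ = ⁅g, h⁆ := by
    rw [hu]
    have e1 : ⁅(g ^ a * z) ^ a * z, h⁆ = ⁅(g ^ a * z) ^ a, h⁆ := by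
      rw [comm_mul_left hc, comm_central_left hz, mul_one]
    have e2 : ⁅(g ^ a * z) ^ a, h⁆ = ⁅g ^ a * z, h⁆ ^ a := map_zpow (commL hc h) _ a
    have e3 : ⁅g ^ a * z, h⁆ = ⁅g ^ a, h⁆ := by
      rw [comm_mul_left hc, comm_central_left hz, mul_one]
    have e4 : ⁅g ^ a, h⁆ = ⁅g, h⁆ ^ a := map_zpow (commL hc h) g a
    rw [e1, e2, e3, e4, hkey]
  have husL : (s * s) • g ∈ L := by
    have := Subgroup.smul_mem_pointwise_smul _ s L hsgL
    rwa [hsL, ← mul_smul] at this
  -- `l = g⁻¹ * u • g` commutes with `h`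
  have hlcomm : (g⁻¹ * (s * s) • g) * h = h * (g⁻¹ * (s * s) • g) := by
    simp only [commutatorElement_def] at hcu
    have e2 := congrArg (fun x => g⁻¹ * (x * h) * ((s * s) • g)) hcu
    simp only [← mul_assoc] at e2
    simp only [inv_mul_cancel_right, inv_mul_cancel, one_mul] at e2
    rw [e2]
    simp only [mul_assoc]
  have hlL : g⁻¹ * (s * s) • g ∈ L := mul_mem (inv_mem hgL) husL
  have hlZ : g⁻¹ * (s * s) • g ∈ center P := by
    by_contra hn
    have hlL' : g⁻¹ * (s * s) • g ∈ k • L := by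
      rw [hL'c, mem_centralizer_singleton_iff]
      exact hlcomm
    exact hkL (line_eq_of_mem hp hPc hZc hL hL' hlL hlL' hn).symm
  have hug : (s * s) • g = g :=
    stab_triv hPc hKp (s * s) g (g⁻¹ * (s * s) • g) (by group) (hKZ _ _ hlZ)
  have hss : s * s = 1 := fix_trivial hp hPc hZc hKp hKZ hKf hL (s * s) hgL hgZ hug
  have h2 : orderOf s ∣ 2 := orderOf_dvd_of_pow_eq_one (by rw [pow_two, hss])
  have hK : orderOf s ∣ Nat.card K := orderOf_dvd_natCard s
  have h1 : orderOf s = 1 := by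
    have hcop : Nat.Coprime 2 (Nat.card K) := Nat.coprime_two_left.2 hodd
    exact Nat.eq_one_of_dvd_coprimes hcop h2 hK
  exact orderOf_eq_one_iff.1 h1

/-- The abstract theorem. -/
theorem card_dvd_abstract (hp : p.Prime) (hPc : Nat.card P = p ^ 3)
    (hZc : Nat.card (center P) = p) (hKcomm : ∀ a b : K, a * b = b * a)
    (hodd : Odd (Nat.card K)) (hKp : (Nat.card K).Coprime p)
    (hKZ : ∀ (k : K), ∀ z ∈ center P, k • z = z)
    (hKf : ∀ k : K, (∀ g : P, k • g = g) → k = 1) :
    Nat.card K ∣ p - 1 ∨ Nat.card K ∣ p + 1 := by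
  by_cases hA : ∃ L : Subgroup P, IsLine p L ∧ ∃ s : K, s ≠ 1 ∧ s • L = L
  · left
    obtain ⟨L, hL, s, hs1, hsL⟩ := hA
    have hKL : ∀ k : K, k • L = L := by
      intro k
      by_contra hk
      exact hs1 (stab_eq_of_ne hp hPc hZc hKp hodd hKZ hKf hL s k (hKcomm s k) hsL hk)
    let S : SubMulAction K P :=
      { carrier := {g | g ∈ L ∧ g ∉ center P}
        smul_mem' := by
          intro k g hg
          refine ⟨?_, smul_not_mem_center hKZ k hg.2⟩
          have := Subgroup.smul_mem_pointwise_smul g k L hg.1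
          rwa [hKL k] at this }
    have hfree : ∀ (k : K) (x : S), k • x = x → k = 1 := by
      intro k x hx
      have hx' : k • (x : P) = x := congrArg Subtype.val hx
      exact fix_trivial hp hPc hZc hKp hKZ hKf hL k x.2.1 x.2.2 hx'
    have hdvd := card_dvd_of_free hfree
    have hcard : Nat.card S = p ^ 2 - p := card_line_diff hZc hL
    rw [hcard] at hdvd
    have hpp : p ^ 2 - p = p * (p - 1) := by
      rw [Nat.mul_sub, mul_one, pow_two]
    rw [hpp] at hdvd
    exact hKp.dvd_of_dvd_mul_left hdvd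
  · right
    push Not at hA
    let S : SubMulAction K (Subgroup P) :=
      { carrier := {L | IsLine p L}
        smul_mem' := fun k L hL => isLine_smul hKZ hL k }
    have hfree : ∀ (k : K) (x : S), k • x = x → k = 1 := by
      intro k x hx
      have hx' : k • (x : Subgroup P) = x := congrArg Subtype.val hx
      by_contra hk
      exact hA x.1 x.2 k hk hx'
    have hdvd := card_dvd_of_free hfree
    have hcard : Nat.card S = p + 1 := card_lines hp hPc hZc
    rw [hcard] at hdvd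
    exact hdvd

end Action

end Abstract

section InG

variable {G : Type*} [Group G] [Finite G] {p : ℕ}

/-- In-group form, with the centre of `↥P` as a type-level subgroup. -/
theorem card_dvd_sub_or_add' (hp : p.Prime) (P K : Subgroup G)
    (hPc : Nat.card P = p ^ 3) (hZc : Nat.card (center ↥P) = p)
    (hKN : K ≤ normalizer (P : Set G)) (hKcomm : ∀ a ∈ K, ∀ b ∈ K, a * b = b * a)
    (hodd : Odd (Nat.card K)) (hKp : (Nat.card K).Coprime p)
    (hKZ : ∀ k ∈ K, ∀ z ∈ P, (∀ g ∈ P, g * z = z * g) → k * z = z * k)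
    (hKf : ∀ k ∈ K, (∀ g ∈ P, k * g = g * k) → k = 1) :
    Nat.card K ∣ p - 1 ∨ Nat.card K ∣ p + 1 := by
  letI : MulDistribMulAction ↥K ↥P :=
    MulDistribMulAction.compHom ↥P (Subgroup.inclusion hKN)
  have hsmul : ∀ (k : ↥K) (g : ↥P), ((k • g : ↥P) : G) = (k : G) * g * (k : G)⁻¹ :=
    fun k g => rfl
  refine card_dvd_abstract (P := ↥P) (K := ↥K) hp hPc hZc ?_ hodd hKp ?_ ?_
  · intro a b
    exact Subtype.ext (hKcomm a a.2 b b.2)
  · intro k z hz
    apply Subtype.ext
    rw [hsmul]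
    have hz' : ∀ g ∈ P, g * (z : G) = z * g := by
      intro g hg
      have := mem_center_iff.1 hz ⟨g, hg⟩
      exact congrArg Subtype.val this
    rw [hKZ k k.2 z z.2 hz']
    group
  · intro k hk
    apply Subtype.ext
    apply hKf k k.2
    intro g hg
    have h2 := congrArg Subtype.val (hk ⟨g, hg⟩)
    rw [hsmul] at h2
    have h3 : (k : G) * g * (k : G)⁻¹ = g := h2
    calc (k : G) * g = (k : G) * g * (k : G)⁻¹ * k := by group
      _ = g * k := by rw [h3]

/-- In-group form, with the centre given as a subgroup `Z` of `G`. -/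
theorem card_dvd_sub_or_add (hp : p.Prime) (P Z K : Subgroup G)
    (hPc : Nat.card P = p ^ 3) (hZP : Z ≤ P) (hZc : Nat.card Z = p)
    (hZcen : ∀ z ∈ Z, ∀ g ∈ P, g * z = z * g)
    (hPZ : ∀ z ∈ P, (∀ g ∈ P, g * z = z * g) → z ∈ Z)
    (hKN : K ≤ normalizer (P : Set G)) (hKcomm : ∀ a ∈ K, ∀ b ∈ K, a * b = b * a)
    (hodd : Odd (Nat.card K)) (hKp : (Nat.card K).Coprime p)
    (hKZ : ∀ k ∈ K, ∀ z ∈ Z, k * z = z * k)
    (hKf : ∀ k ∈ K, (∀ g ∈ P, k * g = g * k) → k = 1) :
    Nat.card K ∣ p - 1 ∨ Nat.card K ∣ p + 1 := by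
  have hcen : center ↥P = Z.subgroupOf P := by
    ext z
    rw [mem_center_iff, mem_subgroupOf]
    constructor
    · intro h
      apply hPZ z z.2
      intro g hg
      exact congrArg Subtype.val (h ⟨g, hg⟩)
    · intro h g
      exact Subtype.ext (hZcen z h g g.2)
  have hZc' : Nat.card (center ↥P) = p := by
    rw [hcen, ← hZc]
    exact Nat.card_congr (Subgroup.subgroupOfEquivOfLe hZP).toEquiv
  refine card_dvd_sub_or_add' hp P K hPc hZc' hKN hKcomm hodd hKp ?_ hKf
  intro k hk z hz hzc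
  exact hKZ k hk z (hPZ z hz hzc)

/-- Cyclic version. -/
theorem card_dvd_sub_or_add_of_cyclic (hp : p.Prime) (P Z K : Subgroup G)
    (hPc : Nat.card P = p ^ 3) (hZP : Z ≤ P) (hZc : Nat.card Z = p)
    (hZcen : ∀ z ∈ Z, ∀ g ∈ P, g * z = z * g)
    (hPZ : ∀ z ∈ P, (∀ g ∈ P, g * z = z * g) → z ∈ Z)
    (hKN : K ≤ normalizer (P : Set G)) (hKcyc : IsCyclic K)
    (hodd : Odd (Nat.card K)) (hKp : (Nat.card K).Coprime p)
    (hKZ : ∀ k ∈ K, ∀ z ∈ Z, k * z = z * k)
    (hKf : ∀ k ∈ K, (∀ g ∈ P, k * g = g * k) → k = 1) :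
    Nat.card K ∣ p - 1 ∨ Nat.card K ∣ p + 1 := by
  refine card_dvd_sub_or_add hp P Z K hPc hZP hZc hZcen hPZ hKN ?_ hodd hKp hKZ hKf
  intro a ha b hb
  haveI := hKcyc
  have := (IsCyclic.commGroup (α := ↥K)).mul_comm ⟨a, ha⟩ ⟨b, hb⟩
  exact congrArg Subtype.val this

end InG

end Cfsg.Agent.Lib.Helper10.ExtraK
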