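import Cfsg.Agent.Lib.Helper10.ExtraK

set_option autoImplicit false

/-! A "narrow" `p`-group `P` (`p` odd) with a central subgroup `Z1` of order `p`, acted on by an
abelian group `K` of odd order prime to `p` which centralizes `Z1` and whose non-identity elements
have all their fixed points in `Z1`; `x ∉ Z1` of order `p` with abelian centralizer whose
elements of order dividing `p` lie in a subgroup `A` of order `p ^ 2`.
Then `#K ∣ p - 1`, or `#P = p ^ 3` and `#K ∣ p + 1`. -/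

namespace Cfsg.Agent.Lib.Helper10.ExtraK

open Subgroup
open scoped Pointwise commutatorElement

section Pow

variable {P : Type*} [Group P]

/-- `h ^ n * g = c ^ n * g * h ^ n` for `c = ⁅h, g⁆` central. -/
theorem pow_mul_comm_central (g h : P) (hc : ∀ y : P, y * ⁅h, g⁆ = ⁅h, g⁆ * y) (n : ℕ) :
    h ^ n * g = ⁅h, g⁆ ^ n * g * h ^ n := by
  have hhg : h * g = ⁅h, g⁆ * g * h := by
    rw [commutatorElement_def]; group
  induction n with
  | zero => simp
  | succ n ih =>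
    have hcn : ∀ y : P, y * ⁅h, g⁆ ^ n = ⁅h, g⁆ ^ n * y := by
      intro y
      exact ((Commute.pow_right (hc y) n) : y * ⁅h, g⁆ ^ n = ⁅h, g⁆ ^ n * y)
    calc h ^ (n + 1) * g = h * (h ^ n * g) := by rw [pow_succ']; group
      _ = h * (⁅h, g⁆ ^ n * g * h ^ n) := by rw [ih]
      _ = (h * ⁅h, g⁆ ^ n) * g * h ^ n := by group
      _ = ⁅h, g⁆ ^ n * (h * g) * h ^ n := by rw [hcn h]; group
      _ = ⁅h, g⁆ ^ n * (⁅h, g⁆ * g * h) * h ^ n := by rw [hhg]
      _ = ⁅h, g⁆ ^ (n + 1) * g * h ^ (n + 1) := by rw [pow_succ, pow_succ']; group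

/-- `(g * h) ^ n = g ^ n * h ^ n * c ^ (0 + 1 + ⋯ + (n-1))` for `c = ⁅h, g⁆` central. -/
theorem mul_pow_central (g h : P) (hc : ∀ y : P, y * ⁅h, g⁆ = ⁅h, g⁆ * y) (n : ℕ) :
    (g * h) ^ n = g ^ n * h ^ n * ⁅h, g⁆ ^ (∑ i ∈ Finset.range n, i) := by
  induction n with
  | zero => simp
  | succ n ih =>
    have hcn : ∀ (m : ℕ) (y : P), y * ⁅h, g⁆ ^ m = ⁅h, g⁆ ^ m * y := by
      intro m y
      exact ((Commute.pow_right (hc y) m) : y * ⁅h, g⁆ ^ m = ⁅h, g⁆ ^ m * y)
    rw [pow_succ, ih, Finset.sum_range_succ]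
    calc g ^ n * h ^ n * ⁅h, g⁆ ^ (∑ i ∈ Finset.range n, i) * (g * h)
        = g ^ n * h ^ n * (⁅h, g⁆ ^ (∑ i ∈ Finset.range n, i) * g) * h := by group
      _ = g ^ n * h ^ n * (g * ⁅h, g⁆ ^ (∑ i ∈ Finset.range n, i)) * h := by rw [hcn _ g]
      _ = g ^ n * (h ^ n * g) * (⁅h, g⁆ ^ (∑ i ∈ Finset.range n, i) * h) := by group
      _ = g ^ n * (⁅h, g⁆ ^ n * g * h ^ n) * (h * ⁅h, g⁆ ^ (∑ i ∈ Finset.range n, i)) := by
          rw [pow_mul_comm_central g h hc n, hcn _ h]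
      _ = g ^ n * (⁅h, g⁆ ^ n * g) * (h ^ n * h) * ⁅h, g⁆ ^ (∑ i ∈ Finset.range n, i) := by group
      _ = g ^ n * (g * ⁅h, g⁆ ^ n) * (h ^ n * h) * ⁅h, g⁆ ^ (∑ i ∈ Finset.range n, i) := by
          rw [hcn n g]
      _ = g ^ n * g * (⁅h, g⁆ ^ n * h ^ (n + 1)) * ⁅h, g⁆ ^ (∑ i ∈ Finset.range n, i) := by
          rw [pow_succ h n]; group
      _ = g ^ n * g * (h ^ (n + 1) * ⁅h, g⁆ ^ n) * ⁅h, g⁆ ^ (∑ i ∈ Finset.range n, i) := by
          rw [hcn n (h ^ (n + 1))]
      _ = g ^ (n + 1) * h ^ (n + 1) * ⁅h, g⁆ ^ (∑ i ∈ Finset.range n, i + n) := by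
          rw [pow_succ g n, add_comm (∑ i ∈ Finset.range n, i) n, pow_add ⁅h, g⁆ n]
          simp only [mul_assoc]

/-- For `p` odd, `c = ⁅h, g⁆` central with `c ^ p = 1`: `(g * h) ^ p = g ^ p * h ^ p`. -/
theorem mul_pow_prime_central {p : ℕ} (hp : p.Prime) (hp2 : p ≠ 2) (g h : P)
    (hc : ∀ y : P, y * ⁅h, g⁆ = ⁅h, g⁆ * y) (hcp : ⁅h, g⁆ ^ p = 1) :
    (g * h) ^ p = g ^ p * h ^ p := by
  rw [mul_pow_central g h hc p]
  have h2 := Finset.sum_range_id_mul_two p
  have hdvd : p ∣ ∑ i ∈ Finset.range p, i := by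
    have hcop : Nat.Coprime p 2 := (Nat.coprime_primes hp Nat.prime_two).2 hp2
    have : p ∣ (∑ i ∈ Finset.range p, i) * 2 := by rw [h2]; exact dvd_mul_right _ _
    exact hcop.dvd_of_dvd_mul_right this
  obtain ⟨m, hm⟩ := hdvd
  rw [hm, pow_mul, hcp, one_pow, mul_one]

end Pow

section Narrow

variable {P : Type*} [Group P] [Finite P] {p : ℕ}

theorem comm_mul_left_of (a a' b : P) (h : ∀ y : P, y * ⁅a', b⁆ = ⁅a', b⁆ * y) :
    ⁅a * a', b⁆ = ⁅a, b⁆ * ⁅a', b⁆ := by
  calc ⁅a * a', b⁆ = a * ⁅a', b⁆ * b * a⁻¹ * b⁻¹ := by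
        simp only [commutatorElement_def]; group
    _ = ⁅a', b⁆ * a * b * a⁻¹ * b⁻¹ := by rw [h a]
    _ = ⁅a', b⁆ * ⁅a, b⁆ := by simp only [commutatorElement_def, mul_assoc]
    _ = ⁅a, b⁆ * ⁅a', b⁆ := (h _).symm

theorem comm_inv_left_of (a b : P) (h : ∀ y : P, y * ⁅a, b⁆ = ⁅a, b⁆ * y) :
    ⁅a⁻¹, b⁆ = ⁅a, b⁆⁻¹ := by
  have h1 := comm_mul_left_of a⁻¹ a b h
  rw [inv_mul_cancel, commutatorElement_one_left] at h1
  exact eq_inv_of_mul_eq_one_left h1.symm

theorem central_of_mem {Z1 : Subgroup P} (hZ1 : Z1 ≤ center P) {z : P} (hz : z ∈ Z1) (y : P) :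
    y * z = z * y := mem_center_iff.1 (hZ1 hz) y

theorem pow_eq_one_of_mem {Z1 : Subgroup P} (hZ1c : Nat.card Z1 = p) {z : P} (hz : z ∈ Z1) :
    z ^ p = 1 := by
  have h : (⟨z, hz⟩ : Z1) ^ Nat.card Z1 = 1 := pow_card_eq_one'
  rw [hZ1c] at h
  exact congrArg Subtype.val h

/-- The preimage of `Ω₁ Z(P / Z1)`. -/
def vSub (hp : p.Prime) (hp2 : p ≠ 2) (Z1 : Subgroup P) (hZ1 : Z1 ≤ center P)
    (hZ1c : Nat.card Z1 = p) : Subgroup P where
  carrier := {g | (∀ h : P, ⁅g, h⁆ ∈ Z1) ∧ g ^ p ∈ Z1}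
  mul_mem' := by
    rintro g g' ⟨hg, hgp⟩ ⟨hg', hgp'⟩
    refine ⟨fun h => ?_, ?_⟩
    · rw [comm_mul_left_of g g' h (central_of_mem hZ1 (hg' h))]
      exact mul_mem (hg h) (hg' h)
    · rw [mul_pow_prime_central hp hp2 g g' (central_of_mem hZ1 (hg' g))
        (pow_eq_one_of_mem hZ1c (hg' g))]
      exact mul_mem hgp hgp'
  one_mem' := by
    refine ⟨fun h => ?_, ?_⟩
    · rw [commutatorElement_one_left]; exact one_mem _
    · rw [one_pow]; exact one_mem _
  inv_mem' := by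
    rintro g ⟨hg, hgp⟩
    refine ⟨fun h => ?_, ?_⟩
    · rw [comm_inv_left_of g h (central_of_mem hZ1 (hg h))]
      exact inv_mem (hg h)
    · rw [inv_pow]; exact inv_mem hgp

theorem mem_vSub (hp : p.Prime) (hp2 : p ≠ 2) (Z1 : Subgroup P) (hZ1 : Z1 ≤ center P)
    (hZ1c : Nat.card Z1 = p) {g : P} :
    g ∈ vSub hp hp2 Z1 hZ1 hZ1c ↔ (∀ h : P, ⁅g, h⁆ ∈ Z1) ∧ g ^ p ∈ Z1 := Iff.rfl

theorem le_vSub (hp : p.Prime) (hp2 : p ≠ 2) (Z1 : Subgroup P) (hZ1 : Z1 ≤ center P)
    (hZ1c : Nat.card Z1 = p) : Z1 ≤ vSub hp hp2 Z1 hZ1 hZ1c := by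
  intro z hz
  refine ⟨fun h => ?_, ?_⟩
  · rw [comm_central_left (hZ1 hz)]; exact one_mem _
  · rw [pow_eq_one_of_mem hZ1c hz]; exact one_mem _

theorem exists_vSub_not_mem (hp : p.Prime) (hp2 : p ≠ 2) (hPp : IsPGroup p P) (Z1 : Subgroup P)
    (hZ1 : Z1 ≤ center P) (hZ1c : Nat.card Z1 = p) (hne : Z1 ≠ ⊤) :
    ∃ g ∈ vSub hp hp2 Z1 hZ1 hZ1c, g ∉ Z1 := by
  haveI : Fact p.Prime := ⟨hp⟩
  haveI : Z1.Normal := ⟨fun n hn g => by
    have := central_of_mem hZ1 hn g
    rw [this, mul_inv_cancel_right]; exact hn⟩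
  haveI : Nontrivial (P ⧸ Z1) := QuotientGroup.nontrivial_iff.2 hne
  have hQ : IsPGroup p (P ⧸ Z1) := hPp.to_quotient Z1
  haveI := hQ.center_nontrivial
  have hdvd : p ∣ Nat.card (center (P ⧸ Z1)) := by
    obtain ⟨n, hn⟩ := IsPGroup.iff_card.1 (hQ.to_subgroup (center (P ⧸ Z1)))
    rw [hn]
    have hn0 : n ≠ 0 := by
      rintro rfl
      have h1 : Nat.card (center (P ⧸ Z1)) = 1 := by simpa using hn
      have := Finite.one_lt_card (α := center (P ⧸ Z1))
      omega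
    exact dvd_pow_self p hn0
  obtain ⟨y, hy⟩ := exists_prime_orderOf_dvd_card' p hdvd
  obtain ⟨g, hg⟩ := QuotientGroup.mk_surjective (y : P ⧸ Z1)
  have hyo : orderOf (y : P ⧸ Z1) = p := by rw [Subgroup.orderOf_coe]; exact hy
  refine ⟨g, ⟨fun h => ?_, ?_⟩, ?_⟩
  · rw [← QuotientGroup.eq_one_iff]
    have : ((⁅g, h⁆ : P) : P ⧸ Z1) = ⁅(g : P ⧸ Z1), (h : P ⧸ Z1)⁆ :=
      map_commutatorElement (QuotientGroup.mk' Z1) g h
    rw [this, commutatorElement_eq_one_iff_mul_comm, hg]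
    exact (mem_center_iff.1 y.2 _).symm
  · rw [← QuotientGroup.eq_one_iff, QuotientGroup.mk_pow, hg, ← hyo]
    exact pow_orderOf_eq_one _
  · intro hgZ
    have h1 : (y : P ⧸ Z1) = 1 := by rw [← hg]; exact (QuotientGroup.eq_one_iff g).2 hgZ
    rw [h1, orderOf_one] at hyo
    exact hp.one_lt.ne hyo

theorem mul_card_le_of_lt (hp : p.Prime) (hPp : IsPGroup p P) {H H' : Subgroup P} (h : H < H') :
    p * Nat.card H ≤ Nat.card H' := by
  haveI : Fact p.Prime := ⟨hp⟩
  obtain ⟨a, ha⟩ := IsPGroup.iff_card.1 (hPp.to_subgroup H)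
  obtain ⟨b, hb⟩ := IsPGroup.iff_card.1 (hPp.to_subgroup H')
  have hdvd : Nat.card H ∣ Nat.card H' := Subgroup.card_dvd_of_le h.le
  rw [ha, hb] at hdvd
  have hab : a ≤ b := (Nat.pow_dvd_pow_iff_le_right hp.one_lt).1 hdvd
  have hne : a ≠ b := by
    rintro rfl
    exact h.ne (Subgroup.eq_of_le_of_card_ge h.le (by rw [ha, hb]))
  have hab' : a + 1 ≤ b := by omega
  rw [ha, hb, ← pow_succ']
  exact Nat.pow_le_pow_right hp.pos hab'

theorem card_diff {Z W : Subgroup P} (hZW : Z ≤ W) :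
    Nat.card {g : P // g ∈ W ∧ g ∉ Z} = Nat.card W - Nat.card Z := by
  have h1 : Nat.card {g : P // g ∈ W ∧ g ∉ Z} = ((W : Set P) \ (Z : Set P)).ncard := by
    rw [← Nat.card_coe_set_eq]
    rfl
  have h2 := Set.ncard_sdiff_add_ncard_of_subset (s := (Z : Set P)) (t := (W : Set P))
    (fun x hx => hZW hx)
  have h3 : ((W : Set P)).ncard = Nat.card W := by
    rw [← Nat.card_coe_set_eq]; rfl
  have h4 : ((Z : Set P)).ncard = Nat.card Z := by
    rw [← Nat.card_coe_set_eq]; rfl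
  rw [h1]
  omega

section Action

variable {K : Type*} [Group K] [Finite K] [MulDistribMulAction K P]

/-- Coprime stability in a `p`-group. -/
theorem stab_triv_pgroup (hPp : IsPGroup p P) (hKp : (Nat.card K).Coprime p) (u : K) (y l : P)
    (h1 : u • y = y * l) (h2 : u • l = l) : u • y = y := by
  have h := pow_smul_stab u y l h1 h2 (Nat.card K)
  rw [pow_card_eq_one', one_smul] at h
  have hl1 : l ^ Nat.card K = 1 := by
    have : y * l ^ Nat.card K = y * 1 := by rw [mul_one]; exact h.symm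
    exact mul_left_cancel this
  obtain ⟨n, hn⟩ := hPp l
  have hd1 := orderOf_dvd_of_pow_eq_one hl1
  have hd2 := orderOf_dvd_of_pow_eq_one hn
  have hcop : (Nat.card K).Coprime (p ^ n) := Nat.Coprime.pow_right n hKp
  have h1' : orderOf l = 1 := Nat.eq_one_of_dvd_coprimes hcop hd1 hd2
  rw [orderOf_eq_one_iff] at h1'
  rw [h1, h1', mul_one]

/-- If `k ≠ 1` moves `d` inside an abelian `K`-invariant subgroup `D` all of whose elements of order
dividing `p` lie in `Z1`, we get a contradiction: so `K` centralizes `D`. -/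
theorem smul_eq_of_abelian (hp : p.Prime) (hPp : IsPGroup p P) (hKp : (Nat.card K).Coprime p)
    (Z1 : Subgroup P) (hZ1 : Z1 ≤ center P) (hKZ : ∀ (k : K), ∀ z ∈ Z1, k • z = z)
    (D : Subgroup P) (hDc : ∀ a ∈ D, ∀ b ∈ D, a * b = b * a)
    (hDK : ∀ (k : K), ∀ d ∈ D, k • d ∈ D) (hDΩ : ∀ e ∈ D, e ^ p = 1 → e ∈ Z1)
    (k : K) {d : P} (hd : d ∈ D) : k • d = d := by
  by_contra hne
  set e : P := k • d * d⁻¹ with he
  have heD : e ∈ D := mul_mem (hDK k d hd) (inv_mem hd)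
  have he1 : e ≠ 1 := by
    intro h
    apply hne
    rw [he, mul_inv_eq_one] at h
    exact h
  obtain ⟨n, hn⟩ := hPp e
  obtain ⟨j, hj, hjo⟩ := (Nat.dvd_prime_pow hp).1 (orderOf_dvd_of_pow_eq_one hn)
  have hj0 : j ≠ 0 := by
    rintro rfl
    rw [pow_zero, orderOf_eq_one_iff] at hjo
    exact he1 hjo
  obtain ⟨i, rfl⟩ : ∃ i, j = i + 1 := ⟨j - 1, by omega⟩
  set e' : P := e ^ p ^ i with he'
  have he'D : e' ∈ D := pow_mem heD _
  have he'p : e' ^ p = 1 := by
    rw [he', ← pow_mul, ← pow_succ, ← hjo]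
    exact pow_orderOf_eq_one e
  have he'1 : e' ≠ 1 := by
    intro h
    have hdvd := orderOf_dvd_of_pow_eq_one h
    rw [hjo] at hdvd
    have := (Nat.pow_dvd_pow_iff_le_right hp.one_lt).1 hdvd
    omega
  have he'Z : e' ∈ Z1 := hDΩ e' he'D he'p
  set d' : P := d ^ p ^ i with hd'
  have hkd : k • d = e * d := by rw [he]; group
  have hcomm : Commute e d := hDc e heD d hd
  have hkd' : k • d' = d' * e' := by
    rw [hd', smul_pow', hkd, hcomm.mul_pow, ← he', ← hd']
    exact (central_of_mem hZ1 he'Z d').symm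
  have := stab_triv_pgroup hPp hKp k d' e' hkd' (hKZ k e' he'Z)
  rw [hkd'] at this
  exact he'1 (mul_left_cancel (this.trans (mul_one d').symm))

/-- The abstract narrow-group theorem. -/
theorem narrow_abstract (hp : p.Prime) (hp2 : p ≠ 2) (hPp : IsPGroup p P)
    (Z1 : Subgroup P) (hZ1 : Z1 ≤ center P) (hZ1c : Nat.card Z1 = p)
    (hKcomm : ∀ a b : K, a * b = b * a) (hodd : Odd (Nat.card K))
    (hKp : (Nat.card K).Coprime p) (hKZ : ∀ (k : K), ∀ z ∈ Z1, k • z = z)
    (hfix : ∀ k : K, k ≠ 1 → ∀ g : P, k • g = g → g ∈ Z1)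
    (x : P) (hxo : orderOf x = p) (hxZ : x ∉ Z1)
    (hCx : ∀ a b : P, a * x = x * a → b * x = x * b → a * b = b * a)
    (A : Subgroup P) (hAc : Nat.card A = p ^ 2)
    (hΩ : ∀ a : P, a * x = x * a → a ^ p = 1 → a ∈ A) :
    Nat.card K ∣ p - 1 ∨ (Nat.card P = p ^ 3 ∧ Nat.card K ∣ p + 1) := by
  haveI : Fact p.Prime := ⟨hp⟩
  by_cases hK1 : ∀ k : K, k = 1
  · left
    haveI : Subsingleton K := ⟨fun a b => by rw [hK1 a, hK1 b]⟩
    rw [Nat.card_of_subsingleton (1 : K)]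
    exact one_dvd _
  push Not at hK1
  obtain ⟨k0, hk0⟩ := hK1
  have hp1 := hp.one_lt
  have hxp : x ^ p = 1 := by rw [← hxo]; exact pow_orderOf_eq_one x
  -- invariance of `V`
  have hVK : ∀ (k : K), ∀ g ∈ vSub hp hp2 Z1 hZ1 hZ1c, k • g ∈ vSub hp hp2 Z1 hZ1 hZ1c := by
    intro k g hg
    refine ⟨fun h => ?_, ?_⟩
    · have : ⁅k • g, h⁆ = k • ⁅g, k⁻¹ • h⁆ := by
        rw [smul_comm_elt, smul_inv_smul]
      rw [this, hKZ k _ (hg.1 _)]
      exact hg.1 _
    · rw [← smul_pow', hKZ k _ hg.2]; exact hg.2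
  -- the minimal invariant subgroup
  let Sfam : Subgroup P → Prop := fun W =>
    Z1 < W ∧ W ≤ vSub hp hp2 Z1 hZ1 hZ1c ∧ ∀ (k : K), ∀ g ∈ W, k • g ∈ W
  have hVfam : Sfam (vSub hp hp2 Z1 hZ1 hZ1c) := by
    refine ⟨?_, le_rfl, hVK⟩
    obtain ⟨g, hgV, hgZ⟩ := exists_vSub_not_mem hp hp2 hPp Z1 hZ1 hZ1c
      (by intro h; apply hxZ; rw [h]; trivial)
    exact lt_of_le_of_ne (le_vSub hp hp2 Z1 hZ1 hZ1c) (by intro h; apply hgZ; rw [h]; exact hgV)
  obtain ⟨W, hWfam, hmin⟩ := exists_minimal_of_wellFoundedLT Sfam ⟨_, hVfam⟩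
  obtain ⟨hZW, hWV, hWK⟩ := hWfam
  have hWx : ∀ w ∈ W, ∀ h : P, ⁅w, h⁆ ∈ Z1 := fun w hw => (hWV hw).1
  -- exponent `p`
  have hWexp : ∀ w ∈ W, w ^ p = 1 := by
    let W0 : Subgroup P :=
      { carrier := {w | w ∈ W ∧ w ^ p = 1}
        mul_mem' := by
          rintro a b ⟨ha, hap⟩ ⟨hb, hbp⟩
          refine ⟨mul_mem ha hb, ?_⟩
          rw [mul_pow_prime_central hp hp2 a b (central_of_mem hZ1 (hWx b hb a))
            (pow_eq_one_of_mem hZ1c (hWx b hb a)), hap, hbp, one_mul]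
        one_mem' := ⟨one_mem _, one_pow _⟩
        inv_mem' := by
          rintro a ⟨ha, hap⟩
          exact ⟨inv_mem ha, by rw [inv_pow, hap, inv_one]⟩ }
    have hZW0 : Z1 ≤ W0 := fun z hz => ⟨hZW.le hz, pow_eq_one_of_mem hZ1c hz⟩
    have hW0K : ∀ (k : K), ∀ g ∈ W0, k • g ∈ W0 := fun k g hg =>
      ⟨hWK k g hg.1, by rw [← smul_pow', hg.2, smul_one]⟩
    by_cases hlt : Z1 < W0
    · have hle := hmin ⟨hlt, fun g hg => hWV hg.1, hW0K⟩ (fun g hg => hg.1)
      intro w hw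
      exact (hle hw).2
    · exfalso
      have hW0Z : W0 ≤ Z1 := by
        by_contra hnot
        exact hlt (lt_of_le_of_ne hZW0 (fun h => hnot (h ▸ le_rfl)))
      have hWZ : W ≤ Z1 := by
        intro w hw
        have heW : k0 • w * w⁻¹ ∈ W := mul_mem (hWK k0 w hw) (inv_mem hw)
        have hep : (k0 • w * w⁻¹) ^ p = 1 := by
          have hcz := hWx w⁻¹ (inv_mem hw) (k0 • w)
          rw [mul_pow_prime_central hp hp2 (k0 • w) w⁻¹ (central_of_mem hZ1 hcz)
            (pow_eq_one_of_mem hZ1c hcz), ← smul_pow', hKZ k0 _ (hWV hw).2, inv_pow,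
            mul_inv_cancel]
        have heZ : k0 • w * w⁻¹ ∈ Z1 := hW0Z ⟨heW, hep⟩
        have hkw : k0 • w = w * (k0 • w * w⁻¹) := by
          rw [central_of_mem hZ1 heZ w]; group
        have := stab_triv_pgroup hPp hKp k0 w _ hkw (hKZ k0 _ heZ)
        exact hfix k0 hk0 w this
      exact absurd (lt_of_lt_of_le hZW hWZ) (lt_irrefl _)
  -- the commutator homomorphism `w ↦ ⁅w, x⁆`
  let f : ↥W →* P :=
    { toFun := fun w => ⁅(w : P), x⁆
      map_one' := commutatorElement_one_left x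
      map_mul' := fun a b => comm_mul_left_of (a : P) (b : P) x
        (central_of_mem hZ1 (hWx b b.2 x)) }
  have hfr : f.range ≤ Z1 := by
    rintro _ ⟨w, rfl⟩
    exact hWx w w.2 x
  have hfk : f.ker.map W.subtype = W ⊓ centralizer {x} := by
    ext g
    constructor
    · rintro ⟨w, hw, rfl⟩
      refine ⟨w.2, mem_centralizer_singleton_iff.2 ?_⟩
      have h1 : ⁅(w : P), x⁆ = 1 := MonoidHom.mem_ker.1 hw
      exact commutatorElement_eq_one_iff_mul_comm.1 h1
    · rintro ⟨hgW, hgx⟩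
      refine ⟨⟨g, hgW⟩, ?_, rfl⟩
      rw [SetLike.mem_coe, MonoidHom.mem_ker]
      exact commutatorElement_eq_one_iff_mul_comm.2 (mem_centralizer_singleton_iff.1 hgx)
  have hcardW : Nat.card W = Nat.card ↥(W ⊓ centralizer {x}) * Nat.card f.range := by
    rw [← hfk, Subgroup.card_map_of_injective W.subtype_injective, ← Subgroup.index_ker,
      Subgroup.card_mul_index]
  have hrange : Nat.card f.range ≤ p := hZ1c ▸ Subgroup.card_le_of_le hfr
  have hCWA : W ⊓ centralizer {x} ≤ A := by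
    rintro g ⟨hgW, hgx⟩
    exact hΩ g (mem_centralizer_singleton_iff.1 hgx) (hWexp g hgW)
  have hCWc : Nat.card ↥(W ⊓ centralizer {x}) ≤ p ^ 2 := hAc ▸ Subgroup.card_le_of_le hCWA
  have hW2 : p * p ≤ Nat.card W := by
    have := mul_card_le_of_lt hp hPp hZW
    rwa [hZ1c] at this
  have hW3 : Nat.card W ≤ p ^ 3 := by
    rw [hcardW]
    calc Nat.card ↥(W ⊓ centralizer {x}) * Nat.card f.range ≤ p ^ 2 * p :=
          Nat.mul_le_mul hCWc hrange
      _ = p ^ 3 := by ring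
  obtain ⟨j, hj⟩ := IsPGroup.iff_card.1 (hPp.to_subgroup W)
  have hj2 : 2 ≤ j := by
    rw [hj, ← pow_two] at hW2
    exact (Nat.pow_le_pow_iff_right hp1).1 hW2
  have hj3 : j ≤ 3 := by
    rw [hj] at hW3
    exact (Nat.pow_le_pow_iff_right hp1).1 hW3
  have hfaith : ∀ k : K, (∀ g : P, k • g = g) → k = 1 := by
    intro k hk
    by_contra hk1
    exact hxZ (hfix k hk1 x (hk x))
  rcases (by omega : j = 2 ∨ j = 3) with rfl | rfl
  · -- `#W = p ^ 2`: free action on `W \ Z1`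
    left
    let S : SubMulAction K P :=
      { carrier := {g | g ∈ W ∧ g ∉ Z1}
        smul_mem' := by
          intro k g hg
          refine ⟨hWK k g hg.1, ?_⟩
          intro h
          apply hg.2
          have := hKZ k⁻¹ _ h
          rw [inv_smul_smul] at this
          rw [this]; exact h }
    have hfree : ∀ (k : K) (y : S), k • y = y → k = 1 := by
      intro k y hy
      have hy' : k • (y : P) = y := congrArg Subtype.val hy
      by_contra hk1
      exact y.2.2 (hfix k hk1 y hy')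
    have hdvd := card_dvd_of_free hfree
    have hcard : Nat.card S = p ^ 2 - p := by
      have := card_diff hZW.le
      rw [hj, hZ1c] at this
      exact this
    rw [hcard] at hdvd
    have hpp : p ^ 2 - p = p * (p - 1) := by
      rw [Nat.mul_sub, mul_one, pow_two]
    rw [hpp] at hdvd
    exact hKp.dvd_of_dvd_mul_left hdvd
  · -- `#W = p ^ 3`
    have hker2 : p ^ 2 ≤ Nat.card ↥(W ⊓ centralizer {x}) := by
      by_contra hlt
      push Not at hlt
      have : Nat.card W < p ^ 2 * p := by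
        rw [hcardW]
        calc Nat.card ↥(W ⊓ centralizer {x}) * Nat.card f.range
            ≤ Nat.card ↥(W ⊓ centralizer {x}) * p := Nat.mul_le_mul_left _ hrange
          _ < p ^ 2 * p := Nat.mul_lt_mul_of_pos_right hlt hp.pos
      rw [hj] at this
      have h3 : p ^ 2 * p = p ^ 3 := by ring
      omega
    have hCWeq : W ⊓ centralizer {x} = A :=
      Subgroup.eq_of_le_of_card_ge hCWA (by rw [hAc]; exact hker2)
    have hxA : x ∈ A := hΩ x rfl hxp
    have hxW : x ∈ W := by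
      have : x ∈ W ⊓ centralizer {x} := hCWeq ▸ hxA
      exact this.1
    have hZ1A : Z1 ≤ A := fun z hz =>
      hΩ z (central_of_mem hZ1 hz x).symm (pow_eq_one_of_mem hZ1c hz)
    -- an element of `W` not commuting with `x`
    obtain ⟨w2, hw2W, hw2x⟩ : ∃ w2 ∈ W, w2 * x ≠ x * w2 := by
      by_contra hall
      push Not at hall
      have : W ≤ W ⊓ centralizer {x} := fun w hw =>
        ⟨hw, mem_centralizer_singleton_iff.2 (hall w hw)⟩
      have hc := Subgroup.card_le_of_le this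
      rw [hj] at hc
      have : p ^ 3 ≤ p ^ 2 := hc.trans hCWc
      have := (Nat.pow_le_pow_iff_right hp1).1 this
      omega
    -- the centre of `W` is `Z1`
    have hZWc : W ⊓ centralizer (W : Set P) ≤ Z1 := by
      by_contra hnot
      have hle : Z1 ≤ W ⊓ centralizer (W : Set P) := fun z hz =>
        ⟨hZW.le hz, mem_centralizer_iff.2 (fun w _ => central_of_mem hZ1 hz w)⟩
      have hlt : Z1 < W ⊓ centralizer (W : Set P) :=
        lt_of_le_of_ne hle (fun h => hnot (h ▸ le_rfl))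
      have hleA : W ⊓ centralizer (W : Set P) ≤ A := by
        rintro g ⟨hgW, hgc⟩
        exact hΩ g ((mem_centralizer_iff.1 hgc x hxW).symm) (hWexp g hgW)
      have hc := mul_card_le_of_lt hp hPp hlt
      rw [hZ1c] at hc
      have heq : W ⊓ centralizer (W : Set P) = A :=
        Subgroup.eq_of_le_of_card_ge hleA (by rw [hAc, pow_two]; exact hc)
      have hxc : x ∈ W ⊓ centralizer (W : Set P) := heq ▸ hxA
      exact hw2x (mem_centralizer_iff.1 hxc.2 w2 hw2W)
    -- `D = C_P(W)` lies in `Z1`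
    have hDZ : centralizer (W : Set P) ≤ Z1 := by
      have hDx : ∀ d ∈ centralizer (W : Set P), d * x = x * d := fun d hd =>
        (mem_centralizer_iff.1 hd x hxW).symm
      have hDc : ∀ a ∈ centralizer (W : Set P), ∀ b ∈ centralizer (W : Set P), a * b = b * a :=
        fun a ha b hb => hCx a b (hDx a ha) (hDx b hb)
      have hDK : ∀ (k : K), ∀ d ∈ centralizer (W : Set P), k • d ∈ centralizer (W : Set P) := by
        intro k d hd
        rw [mem_centralizer_iff]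
        intro w hw
        have h1 := mem_centralizer_iff.1 hd (k⁻¹ • w) (hWK k⁻¹ w hw)
        have h2 := congrArg (fun y => k • y) h1
        simp only [smul_mul', smul_inv_smul] at h2
        exact h2
      have hDΩ : ∀ e ∈ centralizer (W : Set P), e ^ p = 1 → e ∈ Z1 := by
        intro e he hep
        have heA : e ∈ A := hΩ e (hDx e he) hep
        have heW : e ∈ W := by
          have : e ∈ W ⊓ centralizer {x} := hCWeq ▸ heA
          exact this.1
        exact hZWc ⟨heW, he⟩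
      intro d hd
      exact hfix k0 hk0 d
        (smul_eq_of_abelian hp hPp hKp Z1 hZ1 hKZ _ hDc hDK hDΩ k0 hd)
    -- the index of `C_P(x) ∩ C_P(w2)`
    have hcx : ∀ g : P, ⁅g, x⁆ ∈ Z1 := fun g => by
      rw [← commutatorElement_inv]; exact inv_mem (hWx x hxW g)
    have hcw : ∀ g : P, ⁅g, w2⁆ ∈ Z1 := fun g => by
      rw [← commutatorElement_inv]; exact inv_mem (hWx w2 hw2W g)
    let φx : P →* P :=
      { toFun := fun g => ⁅g, x⁆
        map_one' := commutatorElement_one_left x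
        map_mul' := fun a b => comm_mul_left_of a b x (central_of_mem hZ1 (hcx b)) }
    let φw : P →* P :=
      { toFun := fun g => ⁅g, w2⁆
        map_one' := commutatorElement_one_left w2
        map_mul' := fun a b => comm_mul_left_of a b w2 (central_of_mem hZ1 (hcw b)) }
    have hφr : (φx.prod φw).range ≤ Z1.prod Z1 := by
      rintro _ ⟨g, rfl⟩
      exact ⟨hcx g, hcw g⟩
    have hprodc : Nat.card ↥(Z1.prod Z1) = p * p := by
      rw [Nat.card_congr (Subgroup.prodEquiv Z1 Z1).toEquiv, Nat.card_prod, hZ1c]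
    have hφk : (φx.prod φw).ker ≤ centralizer (W : Set P) := by
      intro g hg
      rw [MonoidHom.ker_prod] at hg
      have hgx : g * x = x * g := commutatorElement_eq_one_iff_mul_comm.1 (MonoidHom.mem_ker.1 hg.1)
      have hgw : g * w2 = w2 * g := commutatorElement_eq_one_iff_mul_comm.1 (MonoidHom.mem_ker.1 hg.2)
      -- `T = W ⊓ C(g)` is all of `W`
      have hT1 : Z1 < W ⊓ centralizer {g} ⊓ centralizer {x} := by
        refine lt_of_le_of_ne ?_ ?_
        · intro z hz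
          exact ⟨⟨hZW.le hz, mem_centralizer_singleton_iff.2 (central_of_mem hZ1 hz g).symm⟩,
            mem_centralizer_singleton_iff.2 (central_of_mem hZ1 hz x).symm⟩
        · intro h
          apply hxZ
          rw [h]
          exact ⟨⟨hxW, mem_centralizer_singleton_iff.2 hgx.symm⟩,
            mem_centralizer_singleton_iff.2 rfl⟩
      have hT2 : W ⊓ centralizer {g} ⊓ centralizer {x} < W ⊓ centralizer {g} := by
        refine lt_of_le_of_ne inf_le_left ?_
        intro h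
        have : w2 ∈ W ⊓ centralizer {g} ⊓ centralizer {x} := by
          rw [h]
          exact ⟨hw2W, mem_centralizer_singleton_iff.2 hgw.symm⟩
        exact hw2x (mem_centralizer_singleton_iff.1 this.2)
      have hc1 := mul_card_le_of_lt hp hPp hT1
      have hc2 := mul_card_le_of_lt hp hPp hT2
      rw [hZ1c] at hc1
      have hc3 : p ^ 3 ≤ Nat.card ↥(W ⊓ centralizer {g}) := by
        calc p ^ 3 = p * (p * p) := by ring
          _ ≤ p * Nat.card ↥(W ⊓ centralizer {g} ⊓ centralizer {x}) := Nat.mul_le_mul_left _ hc1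
          _ ≤ _ := hc2
      have hTW : W ⊓ centralizer {g} = W :=
        Subgroup.eq_of_le_of_card_ge inf_le_left (by rw [hj]; exact hc3)
      rw [mem_centralizer_iff]
      intro w hw
      have : w ∈ W ⊓ centralizer {g} := by rw [hTW]; exact hw
      exact mem_centralizer_singleton_iff.1 this.2
    have hPc : Nat.card P = p ^ 3 := by
      have h1 : Nat.card P = Nat.card (φx.prod φw).ker * Nat.card (φx.prod φw).range := by
        rw [← Subgroup.index_ker, Subgroup.card_mul_index]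
      have h2 : Nat.card (φx.prod φw).ker ≤ p :=
        hZ1c ▸ Subgroup.card_le_of_le (hφk.trans hDZ)
      have h3 : Nat.card (φx.prod φw).range ≤ p * p :=
        hprodc ▸ Subgroup.card_le_of_le hφr
      have h4 : Nat.card P ≤ p ^ 3 := by
        rw [h1]
        calc _ ≤ p * (p * p) := Nat.mul_le_mul h2 h3
          _ = p ^ 3 := by ring
      have h5 : p ^ 3 ≤ Nat.card P := hj ▸ Subgroup.card_le_card_group W
      omega
    have hcen : center P = Z1 := by
      apply le_antisymm _ hZ1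
      intro g hg
      apply hDZ
      rw [mem_centralizer_iff]
      intro w _
      exact mem_center_iff.1 hg w
    have hZc' : Nat.card (center P) = p := by rw [hcen, hZ1c]
    have hKZ' : ∀ (k : K), ∀ z ∈ center P, k • z = z := fun k z hz => hKZ k z (hcen ▸ hz)
    rcases card_dvd_abstract hp hPc hZc' hKcomm hodd hKp hKZ' hfaith with h | h
    · exact Or.inl h
    · exact Or.inr ⟨hPc, h⟩

end Action

end Narrow

section InG

variable {G : Type*} [Group G] [Finite G] {p : ℕ}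

/-- In-group form of the narrow-group theorem. -/
theorem narrow_dvd (hp : p.Prime) (hp2 : p ≠ 2) (P Z1 K A : Subgroup G) (hPp : IsPGroup p P)
    (hZ1P : Z1 ≤ P) (hZ1c : Nat.card Z1 = p) (hZ1cen : ∀ z ∈ Z1, ∀ g ∈ P, g * z = z * g)
    (hKN : K ≤ normalizer (P : Set G)) (hKcomm : ∀ a ∈ K, ∀ b ∈ K, a * b = b * a)
    (hodd : Odd (Nat.card K)) (hKp : (Nat.card K).Coprime p)
    (hKZ : ∀ k ∈ K, ∀ z ∈ Z1, k * z = z * k)
    (hfix : ∀ k ∈ K, k ≠ 1 → ∀ g ∈ P, k * g = g * k → g ∈ Z1)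
    (x : G) (hxP : x ∈ P) (hxo : orderOf x = p) (hxZ : x ∉ Z1)
    (hCx : ∀ a ∈ P, ∀ b ∈ P, a * x = x * a → b * x = x * b → a * b = b * a)
    (hAP : A ≤ P) (hAc : Nat.card A = p ^ 2)
    (hΩ : ∀ a ∈ P, a * x = x * a → a ^ p = 1 → a ∈ A) :
    Nat.card K ∣ p - 1 ∨ (Nat.card P = p ^ 3 ∧ Nat.card K ∣ p + 1) := by
  letI : MulDistribMulAction ↥K ↥P :=
    MulDistribMulAction.compHom ↥P (Subgroup.inclusion hKN)
  have hsmul : ∀ (k : ↥K) (g : ↥P), ((k • g : ↥P) : G) = (k : G) * g * (k : G)⁻¹ :=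
    fun k g => rfl
  have hfixeq : ∀ (k : ↥K) (g : ↥P), k • g = g ↔ (k : G) * g = g * k := by
    intro k g
    rw [Subtype.ext_iff, hsmul]
    constructor
    · intro h
      calc (k : G) * g = (k : G) * g * (k : G)⁻¹ * k := by group
        _ = g * k := by rw [h]
    · intro h
      rw [h]; group
  refine narrow_abstract (P := ↥P) (K := ↥K) hp hp2 hPp (Z1.subgroupOf P) ?_ ?_ ?_ hodd hKp
    ?_ ?_ ⟨x, hxP⟩ ?_ ?_ ?_ (A.subgroupOf P) ?_ ?_
  · intro z hz
    rw [mem_center_iff]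
    intro g
    exact Subtype.ext (hZ1cen z (mem_subgroupOf.1 hz) g g.2)
  · rw [← hZ1c]
    exact Nat.card_congr (Subgroup.subgroupOfEquivOfLe hZ1P).toEquiv
  · intro a b
    exact Subtype.ext (hKcomm a a.2 b b.2)
  · intro k z hz
    rw [hfixeq]
    exact hKZ k k.2 z (mem_subgroupOf.1 hz)
  · intro k hk g hg
    rw [hfixeq] at hg
    rw [mem_subgroupOf]
    exact hfix k k.2 (fun h => hk (Subtype.ext h)) g g.2 hg
  · rw [← hxo]
    exact (Subgroup.orderOf_coe (⟨x, hxP⟩ : ↥P)).symm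
  · intro h
    exact hxZ (mem_subgroupOf.1 h)
  · intro a b ha hb
    have ha' : (a : G) * x = x * a := congrArg Subtype.val ha
    have hb' : (b : G) * x = x * b := congrArg Subtype.val hb
    exact Subtype.ext (hCx a a.2 b b.2 ha' hb')
  · rw [← hAc]
    exact Nat.card_congr (Subgroup.subgroupOfEquivOfLe hAP).toEquiv
  · intro a ha hap
    have ha' : (a : G) * x = x * a := congrArg Subtype.val ha
    have hap' : (a : G) ^ p = 1 := by
      have := congrArg Subtype.val hap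
      simpa using this
    rw [mem_subgroupOf]
    exact hΩ a a.2 ha' hap'

end InG

end Cfsg.Agent.Lib.Helper10.ExtraK
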