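import Mathlib
import Cfsg.Agent.Lib.Helper5.FFPlane
import Cfsg.Agent.Lib.Helper1.ClassSizeNPC

set_option autoImplicit false

namespace Cfsg.Agent.Lib.Helper10.FFAb

open scoped commutatorElement
open Cfsg.Agent.Lib.Helper5

theorem card_mulAut_le_six {N : Type*} [Group N] (hN : Nat.card N = 4) :
    Nat.card (MulAut N) ≤ 6 := by
  classical
  haveI : Finite N := Nat.finite_of_card_ne_zero (by rw [hN]; norm_num)
  haveI : Fintype N := Fintype.ofFinite N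
  have hS : Nat.card {x : N // x ≠ 1} = 3 := by
    rw [Nat.card_eq_fintype_card, Fintype.card_subtype_compl, Fintype.card_subtype_eq,
      ← Nat.card_eq_fintype_card, hN]
  let f : MulAut N → Equiv.Perm {x : N // x ≠ 1} := fun φ =>
    (φ.toEquiv).subtypeEquiv (fun x => by
      show x ≠ 1 ↔ φ x ≠ 1
      rw [Ne, Ne, map_eq_one_iff φ φ.injective])
  have hinj : Function.Injective f := by
    intro φ ψ h
    ext x
    by_cases hx : x = 1
    · rw [hx, map_one, map_one]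
    · have h1 := congrArg (fun e : Equiv.Perm {x : N // x ≠ 1} => ((e ⟨x, hx⟩ : {x : N // x ≠ 1}) : N)) h
      exact h1
  have h1 := Nat.card_le_card_of_injective f hinj
  rw [Nat.card_perm, hS] at h1
  exact h1

/-- commutator of a product in an abelian normal subgroup -/
theorem comm_mul_of_abelian {G : Type*} [Group G] {V : Subgroup G}
    (hVc : ∀ x ∈ V, ∀ y ∈ V, x * y = y * x) {n m a : G} (hn : n ∈ V) (hm : m ∈ V)
    (ha : a * m⁻¹ * a⁻¹ ∈ V) : ⁅n * m, a⁆ = ⁅m, a⁆ * ⁅n, a⁆ := by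
  have h1 : ⁅m, a⁆ ∈ V := by
    rw [commutatorElement_def]
    have : m * a * m⁻¹ * a⁻¹ = m * (a * m⁻¹ * a⁻¹) := by group
    rw [this]
    exact V.mul_mem hm ha
  have h2 : ⁅n * m, a⁆ = n * ⁅m, a⁆ * n⁻¹ * ⁅n, a⁆ := by
    simp only [commutatorElement_def]; group
  rw [h2, hVc n hn _ h1]
  group

/-- Lemma T: if `V = N × N'` with both factors `A`-invariant, the replacement subgroup `As`
centralizes `N`, and `C_V(As) ≤ [V,A] C_V(A)`, then `A` centralizes `N`. -/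
theorem lemT {G : Type*} [Group G] [Finite G] {p : ℕ} [Fact p.Prime] {V N N' A As : Subgroup G}
    (hVc : ∀ x ∈ V, ∀ y ∈ V, x * y = y * x) (hVp : IsPGroup p V) (hAp : IsPGroup p A)
    (hAV : A ≤ Subgroup.normalizer (V : Set G))
    (hNV : N ≤ V) (hN'V : N' ≤ V) (hdisj : N ⊓ N' = ⊥) (hsup : V ≤ N ⊔ N')
    (hAN : A ≤ Subgroup.normalizer (N : Set G)) (hAN' : A ≤ Subgroup.normalizer (N' : Set G))
    (hstar : V ⊓ Subgroup.centralizer (As : Set G) ≤ ⁅V, A⁆ ⊔ (V ⊓ Subgroup.centralizer (A : Set G)))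
    (hAsN : N ≤ Subgroup.centralizer (As : Set G)) :
    N ≤ Subgroup.centralizer (A : Set G) := by
  have hNN' : ∀ d ∈ N, ∀ m ∈ N', d * m = m * d := fun d hd m hm => hVc d (hNV hd) m (hN'V hm)
  have hcN : ⁅N, A⁆ ≤ N := Cfsg.Agent.Lib.Lead.commutator_le_left_of_le_normalizer N A hAN
  have hcN' : ⁅N', A⁆ ≤ N' := Cfsg.Agent.Lib.Lead.commutator_le_left_of_le_normalizer N' A hAN'
  have hconj : ∀ a ∈ A, ∀ {K : Subgroup G}, A ≤ Subgroup.normalizer (K : Set G) →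
      ∀ x ∈ K, a * x * a⁻¹ ∈ K := by
    intro a ha K hK x hx
    exact (Subgroup.mem_normalizer_iff.mp (hK ha) x).mp hx
  -- uniqueness of decomposition
  have huniq : ∀ x ∈ N, ∀ y ∈ N', ∀ x' ∈ N, ∀ y' ∈ N', x * y = x' * y' → x = x' := by
    intro x hx y hy x' hx' y' hy' h
    have h1 : x'⁻¹ * x = y' * y⁻¹ := by
      have : x'⁻¹ * (x * y) * y⁻¹ = x'⁻¹ * (x' * y') * y⁻¹ := by rw [h]
      calc x'⁻¹ * x = x'⁻¹ * (x * y) * y⁻¹ := by group
        _ = x'⁻¹ * (x' * y') * y⁻¹ := this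
        _ = y' * y⁻¹ := by group
    have h2 : x'⁻¹ * x ∈ N ⊓ N' :=
      ⟨N.mul_mem (N.inv_mem hx') hx, h1 ▸ N'.mul_mem hy' (N'.inv_mem hy)⟩
    rw [hdisj, Subgroup.mem_bot] at h2
    calc x = x' * (x'⁻¹ * x) := by group
      _ = x' := by rw [h2, mul_one]
  -- step 1: [V,A] ≤ [N,A] ⊔ [N',A]
  have h1 : ⁅V, A⁆ ≤ ⁅N, A⁆ ⊔ ⁅N', A⁆ := by
    rw [Subgroup.commutator_le]
    intro v hv a ha
    obtain ⟨n, hn, m, hm, rfl⟩ := mem_sup_of_commute hNN' (hsup hv)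
    rw [comm_mul_of_abelian hVc (hNV hn) (hN'V hm)
      (hN'V (hconj a ha hAN' _ (N'.inv_mem hm)))]
    rw [sup_comm]
    exact Subgroup.mul_mem_sup (Subgroup.commutator_mem_commutator hm ha)
      (Subgroup.commutator_mem_commutator hn ha)
  have hcV : ⁅V, A⁆ ≤ V := Cfsg.Agent.Lib.Lead.commutator_le_left_of_le_normalizer V A hAV
  -- step 3: N ≤ [N,A] ⊔ C_N(A), elementwise
  have h3 : ∀ v ∈ N, ∃ w ∈ ⁅N, A⁆, ∃ c ∈ N ⊓ Subgroup.centralizer (A : Set G), v = w * c := by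
    intro v hv
    have hv1 : v ∈ ⁅V, A⁆ ⊔ (V ⊓ Subgroup.centralizer (A : Set G)) :=
      hstar ⟨hNV hv, hAsN hv⟩
    have hcm1 : ∀ d ∈ ⁅V, A⁆, ∀ m ∈ V ⊓ Subgroup.centralizer (A : Set G), d * m = m * d :=
      fun d hd m hm => hVc d (hcV hd) m hm.1
    obtain ⟨w, hw, c, hc, rfl⟩ := mem_sup_of_commute hcm1 hv1
    have hcm2 : ∀ d ∈ ⁅N, A⁆, ∀ m ∈ ⁅N', A⁆, d * m = m * d :=
      fun d hd m hm => hVc d (hNV (hcN hd)) m (hN'V (hcN' hm))
    obtain ⟨w1, hw1, w2, hw2, rfl⟩ := mem_sup_of_commute hcm2 (h1 hw)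
    obtain ⟨c1, hc1, c2, hc2, rfl⟩ := mem_sup_of_commute hNN' (hsup hc.1)
    have hc1A : c1 ∈ Subgroup.centralizer (A : Set G) := by
      rw [Subgroup.mem_centralizer_iff]
      intro a ha
      have hcc := Subgroup.mem_centralizer_iff.mp hc.2 a ha
      have h5 : (a * c1 * a⁻¹) * (a * c2 * a⁻¹) = c1 * c2 := by
        calc (a * c1 * a⁻¹) * (a * c2 * a⁻¹) = (a * (c1 * c2)) * a⁻¹ := by group
          _ = ((c1 * c2) * a) * a⁻¹ := by rw [hcc]
          _ = c1 * c2 := by group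
      have h6 := huniq _ (hconj a ha hAN c1 hc1) _ (hconj a ha hAN' c2 hc2) c1 hc1 c2 hc2 h5
      calc a * c1 = (a * c1 * a⁻¹) * a := by group
        _ = c1 * a := by rw [h6]
    refine ⟨w1, hw1, c1, ⟨hc1, hc1A⟩, ?_⟩
    have h7 : w1 * w2 * (c1 * c2) = (w1 * c1) * (w2 * c2) := by
      have : w2 * c1 = c1 * w2 := hVc _ (hN'V (hcN' hw2)) _ (hNV hc1)
      calc w1 * w2 * (c1 * c2) = w1 * (w2 * c1) * c2 := by group
        _ = w1 * (c1 * w2) * c2 := by rw [this]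
        _ = (w1 * c1) * (w2 * c2) := by group
    rw [h7]
    have h8 : w1 * c1 * (w2 * c2) = (w1 * c1 * (w2 * c2)) * 1 := by rw [mul_one]
    have h9 := huniq _ (N.mul_mem (hcN hw1) hc1) _ (N'.mul_mem (hcN' hw2) hc2) _
      (by rw [← h7]; exact hv) 1 (one_mem _) h8
    rw [← h9]
  -- step 4: [N,A] ≤ [[N,A],A]
  have h4 : ⁅N, A⁆ ≤ ⁅⁅N, A⁆, A⁆ := by
    rw [Subgroup.commutator_le]
    intro v hv a ha
    obtain ⟨w, hw, c, hc, rfl⟩ := h3 v hv
    rw [comm_mul_of_abelian hVc (hNV (hcN hw)) (hNV hc.1)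
      (hNV (hconj a ha hAN _ (N.inv_mem hc.1)))]
    have hca : ⁅c, a⁆ = 1 := by
      rw [commutatorElement_eq_one_iff_commute]
      exact ((Subgroup.mem_centralizer_iff.mp hc.2) a ha).symm
    rw [hca, one_mul]
    exact Subgroup.commutator_mem_commutator hw ha
  -- step 5
  have hP : IsPGroup p ↥(A ⊔ V) := IsPGroup.to_sup_of_normal_right' hAp hVp hAV
  have h5 : ⁅N, A⁆ = ⊥ :=
    Cfsg.Agent.Lib.Helper1.eq_bot_of_le_commutator_pgroup (A ⊔ V) hP ⁅N, A⁆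
      ((hcN.trans hNV).trans le_sup_right)
      (h4.trans (Subgroup.commutator_mono le_rfl le_sup_left))
  exact Subgroup.commutator_eq_bot_iff_le_centralizer.mp h5

end Cfsg.Agent.Lib.Helper10.FFAb
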