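import Mathlib
import Cfsg.Agent.Lib.Helper10.FFAb1
import Cfsg.Agent.Lib.Helper22.Ord4E
import Cfsg.Agent.S0617
import Cfsg.Agent.S0598

set_option autoImplicit false

namespace Cfsg.Agent.Lib.Helper10.FFAb

open scoped commutatorElement
open Cfsg.Agent.Lib.Helper5

set_option maxRecDepth 1000000 in
set_option maxHeartbeats 4000000 in
theorem sl22_witness : ∃ y t : Matrix.SpecialLinearGroup (Fin 2) (ZMod 2),
    t ^ 2 = 1 ∧ t ≠ 1 ∧ t * y ≠ y * t := by decide

theorem sl22_iso_s3 : Nonempty (Matrix.SpecialLinearGroup (Fin 2) (ZMod 2) ≃* Equiv.Perm (Fin 3)) := by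
  obtain ⟨y, t, h2, h1, hc⟩ := sl22_witness
  exact Cfsg.Agent.Lib.Helper22.Ord4E.s3_of_card_six' card_sl22 y t
    (orderOf_eq_prime h2 h1) hc

section B1

variable {G : Type*} [Group G] [Finite G] {V H : Subgroup G}

/-- product structure of `H` -/
theorem prod_struct (hV : Cfsg.IsElementaryAbelian 2 V)
    (hHV : H ≤ Subgroup.normalizer (V : Set G))
    (hf : H ⊓ Subgroup.centralizer (V : Set G) = ⊥)
    (hS1 : Subgroup.centralizer (Cfsg.pPrimeCore 2 ↥H : Set ↥H) ≤ Cfsg.pPrimeCore 2 ↥H)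
    (hS3 : H = ⨆ A : {A : Subgroup G // A ≤ H ∧ Cfsg.IsBestOffenderOn 2 V A}, (A : Subgroup G))
    (hH1 : H ≠ ⊥) :
    Nonempty (↥H ≃* ({E : Subgroup G // Cfsg.Agent.S0617.IsE 2 V H E} → Equiv.Perm (Fin 3))) ∧
      Nonempty {E : Subgroup G // Cfsg.Agent.S0617.IsE 2 V H E} := by
  classical
  haveI : Fact (Nat.Prime 2) := ⟨Nat.prime_two⟩
  haveI : Fintype {E : Subgroup G // Cfsg.Agent.S0617.IsE 2 V H E} := Fintype.ofFinite _
  have hS : FFSetup 2 V H := FFSetup.of_hyp hV hHV hf hS1 hS3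
  obtain ⟨-, hE, hind, hsup, -, -⟩ := Cfsg.Agent.S0617.main V H hV hHV hf hS1 hS3 hH1
  have hE' : ∀ E : {E : Subgroup G // Cfsg.Agent.S0617.IsE 2 V H E},
      ∃ A, MinOff 2 V H A ∧ (E : Subgroup G) = ffE 2 H A := by
    rintro ⟨E, A, hAH, hA, hAV, hmin, rfl⟩
    exact ⟨A, ⟨hV, hHV, hf, hS1, hAH, hA, hAV, hmin⟩, rfl⟩
  have hcomm : Pairwise fun i j : {E : Subgroup G // Cfsg.Agent.S0617.IsE 2 V H E} =>
      ∀ x y : G, x ∈ (i : Subgroup G) → y ∈ (j : Subgroup G) → Commute x y := by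
    intro i j hij x y hx hy
    obtain ⟨A, hA, hiA⟩ := hE' i
    obtain ⟨D, hD, hjD⟩ := hE' j
    have hne : ffE 2 H A ≠ ffE 2 H D := by
      intro h
      apply hij
      apply Subtype.ext
      rw [hiA, hjD, h]
    have h1 := hA.comm_E_E hS hD hne
    rw [Subgroup.commutator_eq_bot_iff_le_centralizer] at h1
    rw [hiA] at hx
    rw [hjD] at hy
    exact ((Subgroup.mem_centralizer_iff.mp (h1 hx)) y hy).symm
  have hinj := Subgroup.injective_noncommPiCoprod_of_iSupIndep (hcomm := hcomm) hind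
  have hrange : (Subgroup.noncommPiCoprod hcomm).range = H := by
    rw [Subgroup.noncommPiCoprod_range, hsup]
  constructor
  · have e1 : (∀ i : {E : Subgroup G // Cfsg.Agent.S0617.IsE 2 V H E}, ↥(i : Subgroup G)) ≃* ↥H :=
      (MonoidHom.ofInjective hinj).trans (MulEquiv.subgroupCongr hrange)
    obtain ⟨e3⟩ := sl22_iso_s3
    have e2 : (∀ i : {E : Subgroup G // Cfsg.Agent.S0617.IsE 2 V H E}, ↥(i : Subgroup G)) ≃*
        ({E : Subgroup G // Cfsg.Agent.S0617.IsE 2 V H E} → Equiv.Perm (Fin 3)) :=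
      MulEquiv.piCongrRight (fun i => ((hE i).2.1.some).trans e3)
    exact ⟨e1.symm.trans e2⟩
  · by_contra hne
    rw [not_nonempty_iff] at hne
    apply hH1
    rw [← hsup, iSup_of_empty]

theorem card_of_prod {ι : Type*} [Finite ι] {H : Type*} [Group H]
    (e : H ≃* (ι → Equiv.Perm (Fin 3))) : Nat.card H = 6 ^ Nat.card ι := by
  rw [Nat.card_congr e.toEquiv, Nat.card_fun, Nat.card_perm, Nat.card_fin]
  rfl

end B1

end Cfsg.Agent.Lib.Helper10.FFAb
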