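import Mathlib
import Cfsg.Agent.Lib.Helper10.FFAb2

set_option autoImplicit false

namespace Cfsg.Agent.Lib.Helper10.FFAb

open scoped commutatorElement
open Cfsg.Agent.Lib.Helper5

section C

variable {G : Type*} [Group G] [Finite G]

/-- counting lemma: a group acting faithfully on a family of `ι` planes has order at most `6^|ι|` -/
theorem card_le_of_planes {ι : Type*} [Fintype ι] (R : Subgroup G) (P : ι → Subgroup G)
    (hRN : ∀ i, R ≤ Subgroup.normalizer ((P i : Subgroup G) : Set G))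
    (hP : ∀ i, Nat.card (P i) = 4)
    (hfaith : ∀ r ∈ R, (∀ i, r ∈ Subgroup.centralizer ((P i : Subgroup G) : Set G)) → r = 1) :
    Nat.card R ≤ 6 ^ Fintype.card ι := by
  classical
  let Φ : ↥R →* (∀ i, MulAut ↥(P i)) :=
    MonoidHom.pi (fun i => Cfsg.Agent.S0593.conjAut (P i) R (hRN i))
  have hinj : Function.Injective Φ := by
    rw [injective_iff_map_eq_one]
    intro r hr
    apply Subtype.ext
    apply hfaith r r.2
    intro i
    have h1 : Cfsg.Agent.S0593.conjAut (P i) R (hRN i) r = 1 := congrFun hr i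
    rw [Subgroup.mem_centralizer_iff]
    intro z hz
    have h2 := congrArg (fun f : MulAut ↥(P i) => ((f ⟨z, hz⟩ : P i) : G)) h1
    simp only [Cfsg.Agent.S0593.conjAut_apply, MulAut.one_apply] at h2
    calc z * (r : G) = ((r : G) * z * (r : G)⁻¹) * (r : G) := by rw [h2]
      _ = (r : G) * z := by group
  have h1 := Nat.card_le_card_of_injective Φ hinj
  rw [Nat.card_pi] at h1
  refine h1.trans ?_
  calc ∏ i, Nat.card (MulAut ↥(P i)) ≤ ∏ _i : ι, 6 :=
        Finset.prod_le_prod' (fun i _ => card_mulAut_le_six (hP i))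
    _ = 6 ^ Fintype.card ι := by rw [Finset.prod_const, Finset.card_univ]

theorem le_normalizer_of_map_conj_le {A K : Subgroup G}
    (h : ∀ a ∈ A, K.map (MulAut.conj a).toMonoidHom ≤ K) :
    A ≤ Subgroup.normalizer (K : Set G) := by
  intro a ha
  rw [Subgroup.mem_normalizer_iff]
  intro x
  constructor
  · intro hx
    exact h a ha ⟨x, hx, rfl⟩
  · intro hx
    have h1 := h a⁻¹ (A.inv_mem ha) ⟨a * x * a⁻¹, hx, rfl⟩
    have h2 : (MulAut.conj a⁻¹).toMonoidHom (a * x * a⁻¹) = x := by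
      show a⁻¹ * (a * x * a⁻¹) * a⁻¹⁻¹ = x
      group
    rw [h2] at h1
    exact h1

theorem map_conj_le_centralizer {K S : Subgroup G} {a : G}
    (ha : ∀ b ∈ S, a * b = b * a) (hK : K ≤ Subgroup.centralizer (S : Set G)) :
    K.map (MulAut.conj a).toMonoidHom ≤ Subgroup.centralizer (S : Set G) := by
  rintro _ ⟨x, hx, rfl⟩
  rw [Subgroup.mem_centralizer_iff]
  intro b hb
  have h1 := Subgroup.mem_centralizer_iff.mp (hK hx) b hb
  have h2 := ha b hb
  show b * (a * x * a⁻¹) = (a * x * a⁻¹) * b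
  calc b * (a * x * a⁻¹) = (b * a) * x * a⁻¹ := by group
    _ = (a * b) * x * a⁻¹ := by rw [h2]
    _ = a * (b * x) * a⁻¹ := by group
    _ = a * (x * b) * a⁻¹ := by rw [h1]
    _ = a * x * a⁻¹ * (a * b) * a⁻¹ := by group
    _ = a * x * a⁻¹ * (b * a) * a⁻¹ := by rw [h2]
    _ = (a * x * a⁻¹) * b := by group

theorem disjoint_of_indep {ι : Type*} [DecidableEq ι] (V : Subgroup G)
    (hVc : ∀ x ∈ V, ∀ y ∈ V, x * y = y * x) (f : ι → Subgroup G) (hfV : ∀ i, f i ≤ V)
    (hind : iSupIndep f) (T : Set ι) :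
    ∀ S : Finset ι, (∀ i ∈ S, i ∉ T) → (⨆ i ∈ S, f i) ⊓ (⨆ i ∈ T, f i) = ⊥ := by
  intro S
  induction S using Finset.induction_on with
  | empty => intro _; simp
  | insert j S0 hj ih =>
    intro hST
    have hS0T : ∀ i ∈ S0, i ∉ T := fun i hi => hST i (Finset.mem_insert_of_mem hi)
    have hjT : j ∉ T := hST j (Finset.mem_insert_self j S0)
    rw [Finset.iSup_insert, eq_bot_iff]
    intro x hx
    obtain ⟨hx1, hx2⟩ := hx
    have hRV : (⨆ i ∈ S0, f i) ≤ V := iSup₂_le (fun i _ => hfV i)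
    obtain ⟨n, hn, r, hr, rfl⟩ := mem_sup_of_commute
      (fun d hd m hm => hVc d (hfV j hd) m (hRV hm)) hx1
    have hn2 : n ∈ ⨆ (i) (_ : i ≠ j), f i := by
      have h1 : (⨆ i ∈ T, f i) ≤ ⨆ (i) (_ : i ≠ j), f i := by
        apply iSup₂_le
        intro i hi
        exact le_iSup₂_of_le i (fun h => hjT (h ▸ hi)) le_rfl
      have h2 : (⨆ i ∈ S0, f i) ≤ ⨆ (i) (_ : i ≠ j), f i := by
        apply iSup₂_le
        intro i hi
        exact le_iSup₂_of_le i (fun h => hj (h ▸ hi)) le_rfl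
      have : n = (n * r) * r⁻¹ := by group
      rw [this]
      exact mul_mem (h1 hx2) (inv_mem (h2 hr))
    have hn3 : n ∈ f j ⊓ ⨆ (i) (_ : i ≠ j), f i := ⟨hn, hn2⟩
    rw [disjoint_iff.mp (hind j), Subgroup.mem_bot] at hn3
    rw [hn3, one_mul] at hx2 ⊢
    rw [← ih hS0T]
    exact ⟨hr, hx2⟩

end C

end Cfsg.Agent.Lib.Helper10.FFAb
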