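import Mathlib
import Cfsg.Agent.Lib.Helper10.FFAb3

set_option autoImplicit false

namespace Cfsg.Agent.Lib.Helper10.FFAb

open scoped commutatorElement
open Cfsg.Agent.Lib.Helper5

section B2

variable {G : Type*} [Group G] [Finite G] {V L H A : Subgroup G}

/-- an abelian 2-subgroup of `L` with the weight property lies in the subgroup generated by the
best offenders, as soon as its Thompson replacement does -/
theorem le_of_weight
    (hV : Cfsg.IsElementaryAbelian 2 V)
    (hLV : L ≤ Subgroup.normalizer (V : Set G))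
    (hLf : L ⊓ Subgroup.centralizer (V : Set G) = ⊥)
    (hHL : H ≤ L) (hLH : L ≤ Subgroup.normalizer (H : Set G))
    (hS1 : Subgroup.centralizer (Cfsg.pPrimeCore 2 ↥H : Set ↥H) ≤ Cfsg.pPrimeCore 2 ↥H)
    (hS3 : H = ⨆ A : {A : Subgroup G // A ≤ H ∧ Cfsg.IsBestOffenderOn 2 V A}, (A : Subgroup G))
    (hAL : A ≤ L) (hAc : ∀ a ∈ A, ∀ b ∈ A, a * b = b * a) (hAp : IsPGroup 2 A)
    (hAw : ∀ B : Subgroup G, B ≤ A →
      Nat.card B * Nat.card ↥(V ⊓ Subgroup.centralizer (B : Set G)) ≤
        Nat.card A * Nat.card ↥(V ⊓ Subgroup.centralizer (A : Set G)))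
    (hAs : A ⊓ Subgroup.centralizer ((⁅V, A⁆ : Subgroup G) : Set G) ≤ H) :
    A ≤ H := by
  classical
  haveI : Fact (Nat.Prime 2) := ⟨Nat.prime_two⟩
  have hHV : H ≤ Subgroup.normalizer (V : Set G) := hHL.trans hLV
  have hf : H ⊓ Subgroup.centralizer (V : Set G) = ⊥ :=
    eq_bot_iff.mpr ((inf_le_inf_right _ hHL).trans hLf.le)
  have hVc : ∀ x ∈ V, ∀ y ∈ V, x * y = y * x := fun x hx y hy =>
    congrArg Subtype.val (hV.1.is_comm.comm ⟨x, hx⟩ ⟨y, hy⟩)
  have hVp : IsPGroup 2 V := Cfsg.Agent.Lib.Helper5.elemAb_isPGroup hV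
  have hAV : A ≤ Subgroup.normalizer (V : Set G) := hAL.trans hLV
  have hab : ⁅A, A⁆ ≤ Subgroup.centralizer (V : Set G) := by
    have : ⁅A, A⁆ = ⊥ := by
      rw [Subgroup.commutator_eq_bot_iff_le_centralizer]
      intro a ha
      rw [Subgroup.mem_centralizer_iff]
      intro b hb
      exact hAc b hb a ha
    rw [this]; exact bot_le
  obtain ⟨B, hBA, hB⟩ := Cfsg.Agent.S0598.result V A hV hAV hab V le_rfl
  have hstar : V ⊓ Subgroup.centralizer
      ((A ⊓ Subgroup.centralizer ((⁅V, A⁆ : Subgroup G) : Set G) : Subgroup G) : Set G) =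
      ⁅V, A⁆ ⊔ (V ⊓ Subgroup.centralizer (A : Set G)) := by
    rcases hB with hlt | ⟨rfl, h2, -⟩
    · exact absurd (hAw B hBA) (not_le.mpr hlt)
    · exact h2
  obtain ⟨As, hAsdef⟩ : ∃ As : Subgroup G,
      As = A ⊓ Subgroup.centralizer ((⁅V, A⁆ : Subgroup G) : Set G) := ⟨_, rfl⟩
  rw [← hAsdef] at hstar hAs
  have hAsA : As ≤ A := by rw [hAsdef]; exact inf_le_left
  by_cases hH1 : H = ⊥
  · have hAsbot : As = ⊥ := le_bot_iff.mp (hH1 ▸ hAs)
    have h1 : V ≤ Subgroup.centralizer (A : Set G) := by
      apply lemT (N := V) (N' := ⊥) (As := As) hVc hVp hAp hAV le_rfl bot_le (inf_bot_eq _)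
        le_sup_left hAV _ hstar.le
      · rw [hAsbot, centralizer_coe_bot]; exact le_top
      · rw [Subgroup.normalizer_eq_top_iff.mpr (inferInstance : (⊥ : Subgroup G).Normal)]
        exact le_top
    have h2 : A ≤ L ⊓ Subgroup.centralizer (V : Set G) :=
      le_inf hAL (Subgroup.le_centralizer_iff.mp h1)
    rw [hLf] at h2
    exact h2.trans bot_le
  · haveI : Fintype {E : Subgroup G // Cfsg.Agent.S0617.IsE 2 V H E} := Fintype.ofFinite _
    have hS : FFSetup 2 V H := FFSetup.of_hyp hV hHV hf hS1 hS3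
    obtain ⟨-, hE, -, -, hind, hsupV⟩ := Cfsg.Agent.S0617.main V H hV hHV hf hS1 hS3 hH1
    obtain ⟨⟨e⟩, -⟩ := prod_struct hV hHV hf hS1 hS3 hH1
    have hHcard := card_of_prod e
    have hE' : ∀ E : {E : Subgroup G // Cfsg.Agent.S0617.IsE 2 V H E},
        ∃ D, MinOff 2 V H D ∧ (E : Subgroup G) = ffE 2 H D := by
      rintro ⟨E, D, hDH, hD, hDV, hmin, rfl⟩
      exact ⟨D, ⟨hV, hHV, hf, hS1, hDH, hD, hDV, hmin⟩, rfl⟩
    obtain ⟨f, hfdef⟩ : ∃ f : Option {E : Subgroup G // Cfsg.Agent.S0617.IsE 2 V H E} → Subgroup G,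
        f = fun o => o.elim (V ⊓ Subgroup.centralizer (H : Set G))
          (fun E => ⁅V, (E : Subgroup G)⁆) := ⟨_, rfl⟩
    have hfnone : f none = V ⊓ Subgroup.centralizer (H : Set G) := by rw [hfdef]; rfl
    have hfsome : ∀ E : {E : Subgroup G // Cfsg.Agent.S0617.IsE 2 V H E},
        f (some E) = ⁅V, (E : Subgroup G)⁆ := by intro E; rw [hfdef]; rfl
    rw [← hfdef] at hind
    have hEH : ∀ E : {E : Subgroup G // Cfsg.Agent.S0617.IsE 2 V H E}, (E : Subgroup G) ≤ H := by
      intro E
      obtain ⟨D, hD, hED⟩ := hE' E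
      rw [hED]; exact hD.E_le
    have hfV : ∀ o, f o ≤ V := by
      intro o
      cases o with
      | none => rw [hfnone]; exact inf_le_left
      | some E =>
        rw [hfsome]
        exact Cfsg.Agent.Lib.Lead.commutator_le_left_of_le_normalizer V _ ((hEH E).trans hHV)
    have hsup' : ⨆ o, f o = V := by
      rw [iSup_option, hfnone]
      simp only [hfsome]
      exact hsupV
    -- conjugation by elements of `L` permutes the family
    have hperm : ∀ a ∈ L, ∀ o, ∃ o', f o' = (f o).map (MulAut.conj a).toMonoidHom := by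
      intro a ha o
      cases o with
      | none =>
        refine ⟨none, ?_⟩
        rw [hfnone, map_conj_cent (hLV ha) H, map_conj_self_of_mem_normalizer (hLH ha)]
      | some E =>
        obtain ⟨D, hD, hED⟩ := hE' E
        have hD' := hD.conj' (hLH ha) (hLV ha)
        refine ⟨some ⟨ffE 2 H (D.map (MulAut.conj a).toMonoidHom),
          D.map (MulAut.conj a).toMonoidHom, hD'.hAH, hD'.hA, hD'.hAV, hD'.hmin, rfl⟩, ?_⟩
        rw [hfsome, hfsome]
        show ⁅V, ffE 2 H (D.map (MulAut.conj a).toMonoidHom)⁆ = _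
        rw [hD.ffE_conj' (hLH ha), commutator_map_conj (hLV ha), hED]
    have hAcent : ∀ a ∈ A, ∀ b ∈ As, a * b = b * a := fun a ha b hb => hAc a ha b (hAsA hb)
    obtain ⟨N, hNdef⟩ : ∃ N : Subgroup G,
        N = ⨆ o, ⨆ (_ : f o ≤ Subgroup.centralizer (As : Set G)), f o := ⟨_, rfl⟩
    obtain ⟨N', hN'def⟩ : ∃ N' : Subgroup G,
        N' = ⨆ o, ⨆ (_ : ¬ f o ≤ Subgroup.centralizer (As : Set G)), f o := ⟨_, rfl⟩
    have hNV : N ≤ V := by rw [hNdef]; exact iSup₂_le (fun o _ => hfV o)
    have hN'V : N' ≤ V := by rw [hN'def]; exact iSup₂_le (fun o _ => hfV o)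
    have hsupN : V ≤ N ⊔ N' := by
      rw [← hsup', hNdef, hN'def,
        iSup_split f (fun o => f o ≤ Subgroup.centralizer (As : Set G))]
    have hdisj : N ⊓ N' = ⊥ := by
      have h1 := disjoint_of_indep V hVc f hfV hind
        {o | ¬ f o ≤ Subgroup.centralizer (As : Set G)}
        (Finset.univ.filter (fun o => f o ≤ Subgroup.centralizer (As : Set G)))
        (by
          intro i hi hi'
          exact hi' (Finset.mem_filter.mp hi).2)
      simp only [Finset.mem_filter, Finset.mem_univ, true_and, Set.mem_setOf_eq] at h1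
      rw [hNdef, hN'def]
      exact h1
    have hNAs : N ≤ Subgroup.centralizer (As : Set G) := by
      rw [hNdef]; exact iSup₂_le (fun o ho => ho)
    have hAN : A ≤ Subgroup.normalizer (N : Set G) := by
      apply le_normalizer_of_map_conj_le
      intro a ha
      rw [hNdef, Subgroup.map_iSup]
      apply iSup_le
      intro o
      rw [Subgroup.map_iSup]
      apply iSup_le
      intro ho
      obtain ⟨o', ho'⟩ := hperm a (hAL ha) o
      rw [← ho']
      refine le_iSup₂_of_le o' ?_ le_rfl
      rw [ho']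
      exact map_conj_le_centralizer (hAcent a ha) ho
    have hAN' : A ≤ Subgroup.normalizer (N' : Set G) := by
      apply le_normalizer_of_map_conj_le
      intro a ha
      rw [hN'def, Subgroup.map_iSup]
      apply iSup_le
      intro o
      rw [Subgroup.map_iSup]
      apply iSup_le
      intro ho
      obtain ⟨o', ho'⟩ := hperm a (hAL ha) o
      rw [← ho']
      refine le_iSup₂_of_le o' ?_ le_rfl
      intro hq
      apply ho
      have h1 := map_conj_le_centralizer (K := f o') (S := As) (a := a⁻¹)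
        (fun b hb => hAcent a⁻¹ (A.inv_mem ha) b hb) hq
      rw [ho', map_conj_inv_map_conj] at h1
      exact h1
    have hT : N ≤ Subgroup.centralizer (A : Set G) :=
      lemT hVc hVp hAp hAV hNV hN'V hdisj hsupN hAN hAN' hstar.le hNAs
    have hle_N : ∀ o, f o ≤ Subgroup.centralizer (As : Set G) → f o ≤ N := by
      intro o ho
      rw [hNdef]
      exact le_iSup₂_of_le o ho le_rfl
    -- the subgroup `R`
    obtain ⟨R, hRdef⟩ : ∃ R : Subgroup G, R = L ⊓
        (⨅ E : {E : Subgroup G // Cfsg.Agent.S0617.IsE 2 V H E},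
          Subgroup.normalizer ((⁅V, (E : Subgroup G)⁆ : Subgroup G) : Set G)) ⊓
        Subgroup.centralizer ((V ⊓ Subgroup.centralizer (H : Set G) : Subgroup G) : Set G) :=
      ⟨_, rfl⟩
    have hqnone : f none ≤ Subgroup.centralizer (As : Set G) := by
      rw [hfnone]
      exact inf_le_right.trans (Subgroup.centralizer_le (SetLike.coe_subset_coe.mpr hAs))
    have hAR : A ≤ R := by
      rw [hRdef]
      refine le_inf (le_inf hAL ?_) ?_
      · apply le_iInf
        intro E
        by_cases hq : f (some E) ≤ Subgroup.centralizer (As : Set G)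
        · have h1 : f (some E) ≤ Subgroup.centralizer (A : Set G) := (hle_N _ hq).trans hT
          rw [hfsome] at h1
          exact (Subgroup.le_centralizer_iff.mp h1).trans (Subgroup.centralizer_le_normalizer _)
        · intro a ha
          by_contra hna
          apply hq
          obtain ⟨D, hD, hED⟩ := hE' E
          have hnE : a ∉ Subgroup.normalizer ((ffE 2 H D : Subgroup G) : Set G) := by
            intro h
            apply hna
            rw [hED]
            exact Cfsg.Agent.Lib.Lead.le_normalizer_commutator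
              (Subgroup.normalizer (V : Set G) ⊓
                Subgroup.normalizer ((ffE 2 H D : Subgroup G) : Set G)) V _
              inf_le_left inf_le_right ⟨hAV ha, h⟩
          have hmv := (minOff_op_moved hS hD (X' := A) (hAL.trans hLH) hAV ha hnE).1
          rw [hfsome, hED]
          intro v hv
          rw [Subgroup.mem_centralizer_iff]
          intro b hb
          have hu : a * v * a⁻¹ ∈ ffC 2 V H D := hmv ⟨v, hv, rfl⟩
          have hbH : b ∈ H := hAs hb
          have hbA : b ∈ A := hAsA hb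
          have hcomm : (a * v * a⁻¹) * v⁻¹ ∈ ⁅V, A⁆ := by
            have h1 : (a * v * a⁻¹) * v⁻¹ = ⁅a, v⁆ := by rw [commutatorElement_def]
            rw [h1, Subgroup.commutator_comm]
            exact Subgroup.commutator_mem_commutator ha (hD.N_le hv)
          have hbc : b ∈ Subgroup.centralizer ((⁅V, A⁆ : Subgroup G) : Set G) := by
            rw [hAsdef] at hb
            exact hb.2
          have h2 := Subgroup.mem_centralizer_iff.mp hbc _ hcomm
          have hbu : b * (a * v * a⁻¹) * b⁻¹ ∈ ffC 2 V H D :=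
            (Subgroup.mem_normalizer_iff.mp (hD.H_norm_C hS hbH) _).mp hu
          have hbv : b * v⁻¹ * b⁻¹ ∈ ffN 2 V H D :=
            (Subgroup.mem_normalizer_iff.mp (hD.H_norm_N hS hbH) _).mp (inv_mem hv)
          have h3 : (b * (a * v * a⁻¹) * b⁻¹) * (b * v⁻¹ * b⁻¹) = (a * v * a⁻¹) * v⁻¹ := by
            calc (b * (a * v * a⁻¹) * b⁻¹) * (b * v⁻¹ * b⁻¹)
                = (b * ((a * v * a⁻¹) * v⁻¹)) * b⁻¹ := by group
              _ = (((a * v * a⁻¹) * v⁻¹) * b) * b⁻¹ := by rw [h2]
              _ = (a * v * a⁻¹) * v⁻¹ := by group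
          have h4 : (b * v⁻¹ * b⁻¹) * v ∈ ffN 2 V H D ⊓ ffC 2 V H D := by
            refine ⟨mul_mem hbv hv, ?_⟩
            have h5 : (b * v⁻¹ * b⁻¹) * v =
                (b * (a * v * a⁻¹) * b⁻¹)⁻¹ * (a * v * a⁻¹) := by
              have h6 : (b * v⁻¹ * b⁻¹) = (b * (a * v * a⁻¹) * b⁻¹)⁻¹ * ((a * v * a⁻¹) * v⁻¹) := by
                rw [← h3]; group
              rw [h6]; group
            rw [h5]
            exact (ffC 2 V H D).mul_mem ((ffC 2 V H D).inv_mem hbu) hu
          rw [hD.N_inf_C, Subgroup.mem_bot] at h4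
          have h7 : b * v⁻¹ * b⁻¹ = v⁻¹ := by
            calc b * v⁻¹ * b⁻¹ = ((b * v⁻¹ * b⁻¹) * v) * v⁻¹ := by group
              _ = v⁻¹ := by rw [h4, one_mul]
          have h8 : v⁻¹ * b = b * v⁻¹ := by
            calc v⁻¹ * b = (b * v⁻¹ * b⁻¹) * b := by rw [h7]
              _ = b * v⁻¹ := by group
          calc b * v = v * (v⁻¹ * b) * v := by group
            _ = v * (b * v⁻¹) * v := by rw [h8]
            _ = v * b := by group
      · have h1 : f none ≤ Subgroup.centralizer (A : Set G) := (hle_N _ hqnone).trans hT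
        rw [hfnone] at h1
        exact Subgroup.le_centralizer_iff.mp h1
    have hHR : H ≤ R := by
      rw [hRdef]
      refine le_inf (le_inf hHL ?_) ?_
      · apply le_iInf
        intro E
        exact Cfsg.Agent.Lib.Lead.le_normalizer_commutator H V _ hHV (hE E).1
      · exact Subgroup.le_centralizer_iff.mp inf_le_right
    have hRcard : Nat.card R ≤
        6 ^ Fintype.card {E : Subgroup G // Cfsg.Agent.S0617.IsE 2 V H E} := by
      apply card_le_of_planes R
        (fun E : {E : Subgroup G // Cfsg.Agent.S0617.IsE 2 V H E} => ⁅V, (E : Subgroup G)⁆)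
      · intro E
        rw [hRdef]
        exact (inf_le_left.trans inf_le_right).trans (iInf_le _ E)
      · intro E
        show Nat.card ↥(⁅V, (E : Subgroup G)⁆) = 4
        rw [(hE E).2.2]
        norm_num
      · intro r hr hrc
        have hrL : r ∈ L := by rw [hRdef] at hr; exact hr.1.1
        have hr0 : r ∈ Subgroup.centralizer
            ((V ⊓ Subgroup.centralizer (H : Set G) : Subgroup G) : Set G) := by
          rw [hRdef] at hr; exact hr.2
        have h1 : ∀ o, f o ≤ Subgroup.centralizer (Subgroup.zpowers r : Set G) := by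
          intro o
          rw [Subgroup.le_centralizer_iff, Subgroup.zpowers_le]
          cases o with
          | none => rw [hfnone]; exact hr0
          | some E => rw [hfsome]; exact hrc E
        have h2 : V ≤ Subgroup.centralizer (Subgroup.zpowers r : Set G) := by
          rw [← hsup']; exact iSup_le h1
        rw [Subgroup.le_centralizer_iff, Subgroup.zpowers_le] at h2
        have h3 : r ∈ L ⊓ Subgroup.centralizer (V : Set G) := ⟨hrL, h2⟩
        rw [hLf, Subgroup.mem_bot] at h3
        exact h3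
    rw [Nat.card_eq_fintype_card (α := {E : Subgroup G // Cfsg.Agent.S0617.IsE 2 V H E})]
      at hHcard
    have hRH : H = R := Subgroup.eq_of_le_of_card_ge hHR (hRcard.trans_eq hHcard.symm)
    rw [hRH]
    exact hAR

end B2

end Cfsg.Agent.Lib.Helper10.FFAb
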