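import Mathlib
import Cfsg.Agent.Lib.Helper10.FFAb4

set_option autoImplicit false

namespace Cfsg.Agent.Lib.Helper10.FFAb

open scoped commutatorElement
open Cfsg.Agent.Lib.Helper5

section B3

variable {G : Type*} [Group G] [Finite G] {V L Hb : Subgroup G}

/-- the replacement subgroup `C_A([V,A])` of an abelian subgroup with the weight property is a best
offender -/
theorem star_bestOffender {A : Subgroup G} (hV : Cfsg.IsElementaryAbelian 2 V)
    (hAV : A ≤ Subgroup.normalizer (V : Set G))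
    (hAc : ∀ a ∈ A, ∀ b ∈ A, a * b = b * a)
    (hAw : ∀ B : Subgroup G, B ≤ A →
      Nat.card B * Nat.card ↥(V ⊓ Subgroup.centralizer (B : Set G)) ≤
        Nat.card A * Nat.card ↥(V ⊓ Subgroup.centralizer (A : Set G))) :
    Cfsg.IsBestOffenderOn 2 V (A ⊓ Subgroup.centralizer ((⁅V, A⁆ : Subgroup G) : Set G)) := by
  haveI : Fact (Nat.Prime 2) := ⟨Nat.prime_two⟩
  have hab : ⁅A, A⁆ ≤ Subgroup.centralizer (V : Set G) := by
    have : ⁅A, A⁆ = ⊥ := by
      rw [Subgroup.commutator_eq_bot_iff_le_centralizer]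
      intro a ha
      rw [Subgroup.mem_centralizer_iff]
      intro b hb
      exact hAc b hb a ha
    rw [this]; exact bot_le
  obtain ⟨B, hBA, hB⟩ := Cfsg.Agent.S0598.result V A hV hAV hab V le_rfl
  have heq : Nat.card A * Nat.card ↥(V ⊓ Subgroup.centralizer (A : Set G)) =
      Nat.card ↥(A ⊓ Subgroup.centralizer ((⁅V, A⁆ : Subgroup G) : Set G)) *
        Nat.card ↥(V ⊓ Subgroup.centralizer
          ((A ⊓ Subgroup.centralizer ((⁅V, A⁆ : Subgroup G) : Set G) : Subgroup G) : Set G)) := by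
    rcases hB with hlt | ⟨rfl, -, h3⟩
    · exact absurd (hAw B hBA) (not_le.mpr hlt)
    · exact h3
  refine ⟨?_, ?_, ?_⟩
  · intro B hB
    rw [← heq]
    exact hAw B (hB.trans inf_le_left)
  · have : ⁅A ⊓ Subgroup.centralizer ((⁅V, A⁆ : Subgroup G) : Set G),
        A ⊓ Subgroup.centralizer ((⁅V, A⁆ : Subgroup G) : Set G)⁆ = ⊥ := by
      rw [Subgroup.commutator_eq_bot_iff_le_centralizer]
      intro a ha
      rw [Subgroup.mem_centralizer_iff]
      intro b hb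
      exact hAc b hb.1 a ha.1
    rw [this]; exact bot_le
  · intro a ha
    have hcV : ⁅V, A⁆ ≤ V := Cfsg.Agent.Lib.Lead.commutator_le_left_of_le_normalizer V A hAV
    exact pow_mem_centralizer_of_stab (le_stabSub hAV le_rfl ha.1) ha.2 2
      (fun m hm => hV.2 m (hcV hm))

/-- structure of a normal subgroup generated by abelian 2-subgroups with the weight property -/
theorem struct_of_weight
    (hV : Cfsg.IsElementaryAbelian 2 V)
    (hLV : L ≤ Subgroup.normalizer (V : Set G))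
    (hLf : L ⊓ Subgroup.centralizer (V : Set G) = ⊥)
    (hHL : Hb ≤ L) (hLH : L ≤ Subgroup.normalizer (Hb : Set G))
    (hS1 : ∀ J : Subgroup G, J ≤ L → L ≤ Subgroup.normalizer (J : Set G) →
      Subgroup.centralizer (Cfsg.pPrimeCore 2 ↥J : Set ↥J) ≤ Cfsg.pPrimeCore 2 ↥J)
    (𝒜 : Set (Subgroup G)) (hgen : Hb = sSup 𝒜)
    (h𝒜 : ∀ A ∈ 𝒜, (∀ a ∈ A, ∀ b ∈ A, a * b = b * a) ∧ IsPGroup 2 A ∧
      ∀ B : Subgroup G, B ≤ A →
        Nat.card B * Nat.card ↥(V ⊓ Subgroup.centralizer (B : Set G)) ≤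
          Nat.card A * Nat.card ↥(V ⊓ Subgroup.centralizer (A : Set G))) :
    Hb = ⊥ ∨ ∃ n : ℕ, 1 ≤ n ∧ Nonempty (↥Hb ≃* (Fin n → Equiv.Perm (Fin 3))) := by
  classical
  haveI : Fact (Nat.Prime 2) := ⟨Nat.prime_two⟩
  have hHbV : Hb ≤ Subgroup.normalizer (V : Set G) := hHL.trans hLV
  have hfb : Hb ⊓ Subgroup.centralizer (V : Set G) = ⊥ :=
    eq_bot_iff.mpr ((inf_le_inf_right _ hHL).trans hLf.le)
  have hS1b := hS1 Hb hHL hLH
  obtain ⟨H0, hH0def⟩ : ∃ H0 : Subgroup G,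
      H0 = ⨆ B : {B : Subgroup G // B ≤ Hb ∧ Cfsg.IsBestOffenderOn 2 V B}, (B : Subgroup G) :=
    ⟨_, rfl⟩
  have hH0Hb : H0 ≤ Hb := by
    rw [hH0def]; exact iSup_le (fun B => B.2.1)
  have hle0 : ∀ B : Subgroup G, B ≤ Hb → Cfsg.IsBestOffenderOn 2 V B → B ≤ H0 := by
    intro B hB1 hB2
    rw [hH0def]
    exact le_iSup (fun B : {B : Subgroup G // B ≤ Hb ∧ Cfsg.IsBestOffenderOn 2 V B} =>
      (B : Subgroup G)) ⟨B, hB1, hB2⟩
  have hLH0 : L ≤ Subgroup.normalizer (H0 : Set G) := by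
    apply le_normalizer_of_map_conj_le
    intro a ha
    rw [hH0def, Subgroup.map_iSup]
    apply iSup_le
    rintro ⟨B, hB1, hB2⟩
    rw [← hH0def]
    exact hle0 _ (map_conj_le_of_mem_normalizer hB1 (hLH ha))
      (bestOffender_conj' hV hHbV hfb hS1b hB1 hB2 (hLH ha) (hLV ha))
  have hH0L : H0 ≤ L := hH0Hb.trans hHL
  have hS3 : H0 = ⨆ A : {A : Subgroup G // A ≤ H0 ∧ Cfsg.IsBestOffenderOn 2 V A},
      (A : Subgroup G) := by
    apply le_antisymm
    · conv_lhs => rw [hH0def]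
      apply iSup_le
      rintro ⟨B, hB1, hB2⟩
      exact le_iSup (fun A : {A : Subgroup G // A ≤ H0 ∧ Cfsg.IsBestOffenderOn 2 V A} =>
        (A : Subgroup G)) ⟨B, hle0 B hB1 hB2, hB2⟩
    · exact iSup_le (fun A => A.2.1)
  have hS10 := hS1 H0 hH0L hLH0
  have hAle : ∀ A ∈ 𝒜, A ≤ H0 := by
    intro A hA
    obtain ⟨hAc, hAp, hAw⟩ := h𝒜 A hA
    have hAHb : A ≤ Hb := by rw [hgen]; exact le_sSup hA
    have hAL : A ≤ L := hAHb.trans hHL
    apply le_of_weight hV hLV hLf hH0L hLH0 hS10 hS3 hAL hAc hAp hAw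
    exact hle0 _ (inf_le_left.trans hAHb) (star_bestOffender hV (hAL.trans hLV) hAc hAw)
  have hEq : Hb = H0 := by
    apply le_antisymm _ hH0Hb
    rw [hgen]
    exact sSup_le hAle
  by_cases hH1 : H0 = ⊥
  · left
    rw [hEq, hH1]
  · right
    have hHV0 : H0 ≤ Subgroup.normalizer (V : Set G) := hH0L.trans hLV
    have hf0 : H0 ⊓ Subgroup.centralizer (V : Set G) = ⊥ :=
      eq_bot_iff.mpr ((inf_le_inf_right _ hH0L).trans hLf.le)
    obtain ⟨⟨e⟩, hne⟩ := prod_struct hV hHV0 hf0 hS10 hS3 hH1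
    haveI : Fintype {E : Subgroup G // Cfsg.Agent.S0617.IsE 2 V H0 E} := Fintype.ofFinite _
    refine ⟨Fintype.card {E : Subgroup G // Cfsg.Agent.S0617.IsE 2 V H0 E},
      Fintype.card_pos_iff.mpr hne, ?_⟩
    rw [hEq]
    exact ⟨e.trans (MulEquiv.arrowCongr (Fintype.equivFin _) (MulEquiv.refl _))⟩

end B3

end Cfsg.Agent.Lib.Helper10.FFAb
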