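import Mathlib
import Cfsg.Agent.Lib.Helper10.FFAb5

set_option autoImplicit false

namespace Cfsg.Agent.Lib.Helper10.FFAb

open scoped commutatorElement
open Cfsg.Agent.Lib.Helper5

section A1

variable {X : Type*} [Group X]

theorem centralizer_normalClosure (S : Subgroup X) :
    Subgroup.centralizer ((Subgroup.normalClosure (S : Set X) : Subgroup X) : Set X) =
      (Subgroup.centralizer (S : Set X)).normalCore := by
  apply le_antisymm
  · rw [Subgroup.normal_le_normalCore]
    exact Subgroup.centralizer_le Subgroup.subset_normalClosure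
  · have h1 : (S : Set X) ⊆
        (Subgroup.centralizer (((Subgroup.centralizer (S : Set X)).normalCore : Subgroup X) : Set X)
          : Subgroup X) := by
      intro s hs
      rw [SetLike.mem_coe, Subgroup.mem_centralizer_iff]
      intro k hk
      have hk' := Subgroup.normalCore_le _ hk
      exact (Subgroup.mem_centralizer_iff.mp hk' s hs).symm
    have h2 := Subgroup.normalClosure_le_normal h1
    exact Subgroup.le_centralizer_iff.mp h2

/-- the elements of order dividing two in an abelian subgroup -/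
def omg (V0 : Subgroup X) (hc : ∀ x ∈ V0, ∀ y ∈ V0, x * y = y * x) : Subgroup X where
  carrier := {x | x ∈ V0 ∧ x ^ 2 = 1}
  one_mem' := ⟨V0.one_mem, one_pow 2⟩
  mul_mem' := by
    rintro a b ⟨ha, ha2⟩ ⟨hb, hb2⟩
    refine ⟨V0.mul_mem ha hb, ?_⟩
    rw [(show Commute a b from hc a ha b hb).mul_pow, ha2, hb2, one_mul]
  inv_mem' := by
    rintro a ⟨ha, ha2⟩
    exact ⟨V0.inv_mem ha, by rw [inv_pow, ha2, inv_one]⟩

theorem mem_omg {V0 : Subgroup X} {hc : ∀ x ∈ V0, ∀ y ∈ V0, x * y = y * x} {x : X} :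
    x ∈ omg V0 hc ↔ x ∈ V0 ∧ x ^ 2 = 1 := Iff.rfl

theorem omg_le (V0 : Subgroup X) (hc : ∀ x ∈ V0, ∀ y ∈ V0, x * y = y * x) : omg V0 hc ≤ V0 :=
  fun _ hx => hx.1

theorem omg_normal (V0 : Subgroup X) (hc : ∀ x ∈ V0, ∀ y ∈ V0, x * y = y * x) [hn : V0.Normal] :
    (omg V0 hc).Normal := by
  constructor
  rintro n ⟨hn1, hn2⟩ g
  refine ⟨hn.conj_mem n hn1 g, ?_⟩
  rw [conj_pow, hn2, mul_one, mul_inv_cancel]

theorem omg_elemAb (V0 : Subgroup X) (hc : ∀ x ∈ V0, ∀ y ∈ V0, x * y = y * x) :
    Cfsg.IsElementaryAbelian 2 (omg V0 hc) := by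
  constructor
  · refine ⟨⟨fun a b => ?_⟩⟩
    apply Subtype.ext
    exact hc a a.2.1 b b.2.1
  · intro a ha
    exact ha.2

/-- an element of odd order normalizing an abelian 2-group and centralizing its elements of order
at most two centralizes it -/
theorem cent_of_cent_omg {V0 : Subgroup X} (hc : ∀ x ∈ V0, ∀ y ∈ V0, x * y = y * x)
    (hp : IsPGroup 2 V0) {x : X} (hx : x ∈ Subgroup.normalizer (V0 : Set X))
    (hodd : Odd (orderOf x))
    (hcent : x ∈ Subgroup.centralizer ((omg V0 hc : Subgroup X) : Set X)) :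
    x ∈ Subgroup.centralizer (V0 : Set X) := by
  have key : ∀ k : ℕ, ∀ v ∈ V0, v ^ (2 ^ k) = 1 → x * v * x⁻¹ = v := by
    intro k
    induction k with
    | zero =>
      intro v _ hv1
      rw [pow_zero, pow_one] at hv1
      rw [hv1]; group
    | succ k ih =>
      intro v hv hvk
      have hv2 : (v ^ 2) ^ (2 ^ k) = 1 := by
        rw [← pow_mul, ← pow_succ']; exact hvk
      have h1 := ih (v ^ 2) (V0.pow_mem hv 2) hv2
      have hxv : x * v * x⁻¹ ∈ V0 := (Subgroup.mem_normalizer_iff.mp hx v).mp hv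
      obtain ⟨c, hcdef⟩ : ∃ c : X, c = v⁻¹ * (x * v * x⁻¹) := ⟨_, rfl⟩
      have hcV : c ∈ V0 := by rw [hcdef]; exact V0.mul_mem (V0.inv_mem hv) hxv
      have hc2 : c ^ 2 = 1 := by
        rw [hcdef, (show Commute v⁻¹ (x * v * x⁻¹) from hc _ (V0.inv_mem hv) _ hxv).mul_pow,
          conj_pow, h1, inv_pow, inv_mul_cancel]
      have hcx : x * c = c * x := by
        have h2 := Subgroup.mem_centralizer_iff.mp hcent c ⟨hcV, hc2⟩
        exact h2.symm
      have h3 : x * v * x⁻¹ = v * c := by rw [hcdef]; group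
      have h4 := conj_pow_of_comm h3 hcx (orderOf x)
      rw [pow_orderOf_eq_one, one_mul, inv_one, mul_one] at h4
      obtain ⟨m, hm⟩ := hodd
      have h5 : c ^ orderOf x = c := by
        rw [hm, pow_succ, pow_mul, hc2, one_pow, one_mul]
      rw [h5] at h4
      have h6 : c = 1 := by
        have : v * c = v * 1 := by rw [mul_one]; exact h4.symm
        exact mul_left_cancel this
      rw [h3, h6, mul_one]
  rw [Subgroup.mem_centralizer_iff]
  intro v hv
  obtain ⟨k, hk⟩ := hp ⟨v, hv⟩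
  have hk' : v ^ (2 ^ k) = 1 := by
    have := congrArg Subtype.val hk
    rwa [Subgroup.coe_pow, Subgroup.coe_one] at this
  have h1 := key k v hv hk'
  calc v * x = (x * v * x⁻¹) * x := by rw [h1]
    _ = x * v := by group

end A1

end Cfsg.Agent.Lib.Helper10.FFAb
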