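import Mathlib
import Cfsg.Agent.Lib.Helper10.FFAb6
import Cfsg.Agent.Lib.Helper11.PuigCenter
import Cfsg.Agent.Lib.Helper1.CFitting

set_option autoImplicit false

namespace Cfsg.Agent.Lib.Helper10.FFAb

open scoped commutatorElement
open Cfsg.Agent.Lib.Helper5

section A2

variable {X : Type*} [Group X] [Finite X]

theorem sylow_le_centralizer_center (T : Sylow 2 X) :
    (T : Subgroup X) ≤ Subgroup.centralizer
      (((T : Subgroup X) ⊓ Subgroup.centralizer ((T : Subgroup X) : Set X) : Subgroup X) : Set X) := by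
  intro t ht
  rw [Subgroup.mem_centralizer_iff]
  intro z hz
  exact (Subgroup.mem_centralizer_iff.mp hz.2 t ht).symm

/-- `O_2(X/K) = 1` for `K` the core of the centralizer of `Z(T)` -/
theorem pCore_quot_eq_bot (T : Sylow 2 X) (K : Subgroup X) [K.Normal]
    (hK : K = (Subgroup.centralizer
      (((T : Subgroup X) ⊓ Subgroup.centralizer ((T : Subgroup X) : Set X) : Subgroup X) :
        Set X)).normalCore) :
    Cfsg.pCore 2 (X ⧸ K) = ⊥ := by
  haveI : Fact (Nat.Prime 2) := ⟨Nat.prime_two⟩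
  have h1 := Cfsg.Agent.Lib.Helper11.PuigCenter.comap_pCore_le_sup 2 T K
  obtain ⟨P, hP⟩ : ∃ P : Subgroup X, P = (Cfsg.pCore 2 (X ⧸ K)).comap (QuotientGroup.mk' K) :=
    ⟨_, rfl⟩
  rw [← hP] at h1
  haveI hPn : P.Normal := by
    rw [hP]
    exact (Cfsg.Agent.Lib.Helper1.pCore_normal 2).comap _
  have h2 : P ≤ Subgroup.centralizer
      (((T : Subgroup X) ⊓ Subgroup.centralizer ((T : Subgroup X) : Set X) : Subgroup X) :
        Set X) := by
    refine h1.trans (sup_le ?_ (inf_le_left.trans (sylow_le_centralizer_center T)))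
    rw [hK]
    exact Subgroup.normalCore_le _
  have h3 : P ≤ K := by
    rw [hK]
    exact Subgroup.normal_le_normalCore.mpr h2
  have h4 : Cfsg.pCore 2 (X ⧸ K) = P.map (QuotientGroup.mk' K) := by
    rw [hP, Subgroup.map_comap_eq_self_of_surjective (QuotientGroup.mk'_surjective K)]
  rw [h4, eq_bot_iff]
  refine (Subgroup.map_mono h3).trans ?_
  rw [QuotientGroup.map_mk'_self]

theorem exists_module [Group.IsSolvable X] (hF : Cfsg.fittingSubgroup X = Cfsg.pCore 2 X)
    (T : Sylow 2 X) :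
    ∃ V : Subgroup X, V.Normal ∧ Cfsg.IsElementaryAbelian 2 V ∧ V ≤ Cfsg.pCore 2 X ∧
      Subgroup.centralizer (V : Set X) = (Subgroup.centralizer
        (((T : Subgroup X) ⊓ Subgroup.centralizer ((T : Subgroup X) : Set X) : Subgroup X) :
          Set X)).normalCore := by
  haveI : Fact (Nat.Prime 2) := ⟨Nat.prime_two⟩
  haveI hO2n : (Cfsg.pCore 2 X).Normal := Cfsg.Agent.Lib.Helper1.pCore_normal 2
  have hO2T : Cfsg.pCore 2 X ≤ (T : Subgroup X) := Cfsg.Agent.Lib.Helper1.pCore_le_sylow 2 T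
  have hO2p : IsPGroup 2 ↥(Cfsg.pCore 2 X) := Cfsg.Agent.Lib.Helper1.pCore_isPGroup 2
  have hcent : Subgroup.centralizer ((Cfsg.pCore 2 X : Subgroup X) : Set X) ≤ Cfsg.pCore 2 X := by
    rw [← hF]
    exact Cfsg.Agent.Lib.Helper1.centralizer_fittingSubgroup_le
  obtain ⟨Z, hZ⟩ : ∃ Z : Subgroup X,
      Z = (T : Subgroup X) ⊓ Subgroup.centralizer ((T : Subgroup X) : Set X) := ⟨_, rfl⟩
  rw [← hZ]
  have hZc : Z ≤ Subgroup.centralizer ((Cfsg.pCore 2 X : Subgroup X) : Set X) := by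
    rw [hZ]
    exact inf_le_right.trans (Subgroup.centralizer_le (SetLike.coe_subset_coe.mpr hO2T))
  have hZ2 : Z ≤ Cfsg.pCore 2 X ⊓ Subgroup.centralizer ((Cfsg.pCore 2 X : Subgroup X) : Set X) :=
    le_inf (hZc.trans hcent) hZc
  obtain ⟨V0, hV0⟩ : ∃ V0 : Subgroup X, V0 = Subgroup.normalClosure (Z : Set X) := ⟨_, rfl⟩
  haveI hV0n : V0.Normal := by rw [hV0]; infer_instance
  have hV0Z2 : V0 ≤ Cfsg.pCore 2 X ⊓
      Subgroup.centralizer ((Cfsg.pCore 2 X : Subgroup X) : Set X) := by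
    rw [hV0]
    exact Subgroup.normalClosure_le_normal hZ2
  have hV0c : ∀ x ∈ V0, ∀ y ∈ V0, x * y = y * x := by
    intro x hx y hy
    exact (Subgroup.mem_centralizer_iff.mp (hV0Z2 hy).2 x (hV0Z2 hx).1)
  have hV0p : IsPGroup 2 ↥V0 := hO2p.to_le (hV0Z2.trans inf_le_left)
  have hCV0 : Subgroup.centralizer (V0 : Set X) =
      (Subgroup.centralizer (Z : Set X)).normalCore := by
    rw [hV0]; exact centralizer_normalClosure Z
  haveI hVn : (omg V0 hV0c).Normal := omg_normal V0 hV0c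
  refine ⟨omg V0 hV0c, hVn, omg_elemAb V0 hV0c,
    (omg_le V0 hV0c).trans (hV0Z2.trans inf_le_left), ?_⟩
  apply le_antisymm
  · -- `C(V) ≤ C`
    obtain ⟨K, hK⟩ : ∃ K : Subgroup X, K = (Subgroup.centralizer (Z : Set X)).normalCore :=
      ⟨_, rfl⟩
    rw [← hK] at hCV0 ⊢
    haveI hKn : K.Normal := by rw [hK]; infer_instance
    have hO : Cfsg.pCore 2 (X ⧸ K) = ⊥ := pCore_quot_eq_bot T K (by rw [hK, hZ])
    obtain ⟨D, hD⟩ : ∃ D : Subgroup X,
        D = Subgroup.centralizer ((omg V0 hV0c : Subgroup X) : Set X) := ⟨_, rfl⟩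
    rw [← hD]
    haveI hDn : D.Normal := by rw [hD]; infer_instance
    have hmn : (D.map (QuotientGroup.mk' K)).Normal :=
      hDn.map _ (QuotientGroup.mk'_surjective K)
    have hmp : IsPGroup 2 ↥(D.map (QuotientGroup.mk' K)) := by
      rintro ⟨_, ⟨d, hd, rfl⟩⟩
      have hn0 : orderOf d ≠ 0 := (orderOf_pos d).ne'
      obtain ⟨k, m, hm, hkm⟩ := Nat.exists_eq_two_pow_mul_odd hn0
      refine ⟨k, ?_⟩
      apply Subtype.ext
      rw [Subgroup.coe_pow, Subgroup.coe_one]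
      show (QuotientGroup.mk' K d) ^ 2 ^ k = 1
      rw [← map_pow, QuotientGroup.mk'_apply, QuotientGroup.eq_one_iff, ← hCV0]
      have hord : orderOf (d ^ 2 ^ k) = m := by
        rw [orderOf_pow_of_dvd (pow_ne_zero k (by norm_num)) (Dvd.intro _ hkm.symm), hkm,
          Nat.mul_div_cancel_left _ (pow_pos (by norm_num) k)]
      apply cent_of_cent_omg hV0c hV0p
      · rw [Subgroup.normalizer_eq_top_iff.mpr hV0n]; exact Subgroup.mem_top _
      · rw [hord]; exact hm
      · rw [← hD]; exact D.pow_mem hd _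
    have h5 := Cfsg.Agent.Lib.Helper1.le_pCore hmn hmp
    rw [hO, le_bot_iff, Subgroup.map_eq_bot_iff, QuotientGroup.ker_mk'] at h5
    exact h5
  · rw [← hCV0]
    exact Subgroup.centralizer_le (SetLike.coe_subset_coe.mpr (omg_le V0 hV0c))

end A2

end Cfsg.Agent.Lib.Helper10.FFAb
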