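import Mathlib
import Cfsg.Agent.Lib.Helper10.FFAb7
import Cfsg.Agent.Lib.Helper5.Hol2
import Cfsg.Agent.Lib.Helper5.Card

set_option autoImplicit false

namespace Cfsg.Agent.Lib.Helper10.FFAb

open scoped commutatorElement
open Cfsg.Agent.Lib.Helper5

section A3

variable {X : Type*} [Group X] [Finite X]

/-- a conjugate of a maximal abelian subgroup of `T` that stays inside `T` is again one -/
theorem maxAb_conj (T : Subgroup X) (A : Subgroup ↥T) (hA : A ∈ Cfsg.maxAbelianSubgroups ↥T)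
    (g : X) (hle : (A.map T.subtype).map (MulAut.conj g).toMonoidHom ≤ T) :
    ∃ A2 ∈ Cfsg.maxAbelianSubgroups ↥T,
      A2.map T.subtype = (A.map T.subtype).map (MulAut.conj g).toMonoidHom := by
  obtain ⟨hAc, hAmax⟩ := hA
  haveI := hAc
  refine ⟨((A.map T.subtype).map (MulAut.conj g).toMonoidHom).subgroupOf T, ⟨?_, ?_⟩, ?_⟩
  · infer_instance
  · intro B hB
    refine (hAmax B hB).trans (le_of_eq ?_)
    rw [Nat.card_congr (Subgroup.subgroupOfEquivOfLe hle).toEquiv,
      Subgroup.card_map_of_injective (MulAut.conj g).injective,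
      Subgroup.card_map_of_injective T.subtype_injective]
  · exact Subgroup.map_subgroupOf_eq_of_le hle

theorem thompsonA_eq_iSup (T : Subgroup X) :
    Cfsg.thompsonSubgroupAOf T =
      ⨆ A : ↥(Cfsg.maxAbelianSubgroups ↥T), (A : Subgroup ↥T).map T.subtype := by
  unfold Cfsg.thompsonSubgroupAOf Cfsg.thompsonSubgroupA
  rw [sSup_eq_iSup', Subgroup.map_iSup]

theorem thompsonA_le (T : Subgroup X) : Cfsg.thompsonSubgroupAOf T ≤ T := by
  unfold Cfsg.thompsonSubgroupAOf
  exact Subgroup.map_subtype_le _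

/-- elements normalizing a subgroup of `T` containing `J(T)` normalize `J(T)` -/
theorem normalizer_le_normalizer_thompsonA (T R : Subgroup X) (hRT : R ≤ T)
    (hJR : Cfsg.thompsonSubgroupAOf T ≤ R) :
    Subgroup.normalizer (R : Set X) ≤ Subgroup.normalizer (Cfsg.thompsonSubgroupAOf T : Set X) := by
  apply le_normalizer_of_map_conj_le
  intro g hg
  conv_lhs => rw [thompsonA_eq_iSup, Subgroup.map_iSup]
  apply iSup_le
  intro A
  have h1 : (A : Subgroup ↥T).map T.subtype ≤ R := by
    refine le_trans ?_ hJR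
    rw [thompsonA_eq_iSup]
    exact le_iSup (fun A : ↥(Cfsg.maxAbelianSubgroups ↥T) => (A : Subgroup ↥T).map T.subtype) A
  have h2 : ((A : Subgroup ↥T).map T.subtype).map (MulAut.conj g).toMonoidHom ≤ R := by
    rintro _ ⟨x, hx, rfl⟩
    exact (Subgroup.mem_normalizer_iff.mp hg x).mp (h1 hx)
  obtain ⟨A2, hA2, hA2e⟩ := maxAb_conj T A.1 A.2 g (h2.trans hRT)
  rw [← hA2e, thompsonA_eq_iSup]
  exact le_iSup (fun A : ↥(Cfsg.maxAbelianSubgroups ↥T) => (A : Subgroup ↥T).map T.subtype)
    ⟨A2, hA2⟩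

/-- weight property of conjugates of maximal abelian subgroups of a Sylow 2-subgroup -/
theorem weight_maxAb (T : Subgroup X) (V : Subgroup X) [hVn : V.Normal]
    (hV : Cfsg.IsElementaryAbelian 2 V) (hVT : V ≤ T) (A : Subgroup ↥T)
    (hA : A ∈ Cfsg.maxAbelianSubgroups ↥T) (g : X) :
    (∀ a ∈ (A.map T.subtype).map (MulAut.conj g).toMonoidHom,
      ∀ b ∈ (A.map T.subtype).map (MulAut.conj g).toMonoidHom, a * b = b * a) ∧
    ∀ B : Subgroup X, B ≤ (A.map T.subtype).map (MulAut.conj g).toMonoidHom →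
      Nat.card B * Nat.card ↥(V ⊓ Subgroup.centralizer (B : Set X)) ≤
        Nat.card ↥((A.map T.subtype).map (MulAut.conj g).toMonoidHom) *
          Nat.card ↥(V ⊓ Subgroup.centralizer
            (((A.map T.subtype).map (MulAut.conj g).toMonoidHom : Subgroup X) : Set X)) := by
  obtain ⟨hAc, hAmax⟩ := hA
  haveI := hAc
  obtain ⟨A', hA'⟩ : ∃ A' : Subgroup X,
      A' = (A.map T.subtype).map (MulAut.conj g).toMonoidHom := ⟨_, rfl⟩
  rw [← hA']
  haveI hA'c : IsMulCommutative ↥A' := by rw [hA']; infer_instance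
  have hA'comm : ∀ a ∈ A', ∀ b ∈ A', a * b = b * a := fun a ha b hb =>
    congrArg Subtype.val (hA'c.is_comm.comm ⟨a, ha⟩ ⟨b, hb⟩)
  have hA'cent : A' ≤ Subgroup.centralizer (A' : Set X) :=
    Subgroup.le_centralizer_iff_isMulCommutative.mpr hA'c
  have hA'card : Nat.card A' = Nat.card A := by
    rw [hA', Subgroup.card_map_of_injective (MulAut.conj g).injective,
      Subgroup.card_map_of_injective T.subtype_injective]
  refine ⟨hA'comm, ?_⟩
  intro B hBA
  obtain ⟨W, hW⟩ : ∃ W : Subgroup X, W = V ⊓ Subgroup.centralizer (B : Set X) := ⟨_, rfl⟩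
  rw [← hW]
  have hVc : V ≤ Subgroup.centralizer (V : Set X) :=
    Subgroup.le_centralizer_iff_isMulCommutative.mpr hV.1
  have hBc : B ≤ Subgroup.centralizer (B : Set X) :=
    hBA.trans (hA'cent.trans (Subgroup.centralizer_le (SetLike.coe_subset_coe.mpr hBA)))
  have hWB : W ≤ Subgroup.centralizer (B : Set X) := by rw [hW]; exact inf_le_right
  have hWW : W ≤ Subgroup.centralizer (W : Set X) := by
    rw [hW]
    exact inf_le_left.trans (hVc.trans (Subgroup.centralizer_le
      (SetLike.coe_subset_coe.mpr inf_le_left)))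
  have hDc : B ⊔ W ≤ Subgroup.centralizer ((B ⊔ W : Subgroup X) : Set X) := by
    apply sup_le
    · rw [Subgroup.le_centralizer_iff]
      exact sup_le hBc hWB
    · rw [Subgroup.le_centralizer_iff]
      exact sup_le (Subgroup.le_centralizer_iff.mp hWB) hWW
  haveI hDcomm : IsMulCommutative ↥(B ⊔ W) := Subgroup.le_centralizer_iff_isMulCommutative.mp hDc
  -- conjugate back into `T`
  have hD0T : (B ⊔ W).map (MulAut.conj g⁻¹).toMonoidHom ≤ T := by
    rw [Subgroup.map_sup]
    apply sup_le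
    · have h1 := Subgroup.map_mono (f := (MulAut.conj g⁻¹).toMonoidHom) hBA
      rw [hA', map_conj_inv_map_conj] at h1
      exact h1.trans (Subgroup.map_subtype_le _)
    · rintro _ ⟨w, hw, rfl⟩
      rw [hW] at hw
      exact hVT (hVn.conj_mem w hw.1 g⁻¹)
  have hcard1 : Nat.card ↥(B ⊔ W) ≤ Nat.card A := by
    have h1 := hAmax (((B ⊔ W).map (MulAut.conj g⁻¹).toMonoidHom).subgroupOf T) inferInstance
    rw [Nat.card_congr (Subgroup.subgroupOfEquivOfLe hD0T).toEquiv,
      Subgroup.card_map_of_injective (MulAut.conj g⁻¹).injective] at h1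
    exact h1
  have hcard2 : Nat.card ↥(B ⊓ W) ≤ Nat.card ↥(V ⊓ Subgroup.centralizer (A' : Set X)) := by
    apply Subgroup.card_le_of_le
    intro x hx
    refine ⟨?_, hA'cent (hBA hx.1)⟩
    have := hx.2
    rw [hW] at this
    exact this.1
  calc Nat.card B * Nat.card W ≤ Nat.card ↥(B ⊔ W) * Nat.card ↥(B ⊓ W) :=
        card_mul_card_le_sup_mul_inf B W
    _ ≤ Nat.card A' * Nat.card ↥(V ⊓ Subgroup.centralizer (A' : Set X)) := by
        rw [hA'card]
        exact Nat.mul_le_mul hcard1 hcard2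

end A3

end Cfsg.Agent.Lib.Helper10.FFAb
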