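import Mathlib
import Cfsg.Agent.Lib.Helper10.FFAb8
import Cfsg.Agent.Lib.Helper5.SolvPSolv

set_option autoImplicit false

namespace Cfsg.Agent.Lib.Helper10.FFAb

open scoped commutatorElement
open Cfsg.Agent.Lib.Helper5

section A4

variable {X : Type*} [Group X] [Finite X]

/-- the weight property passes to the image in the holomorph -/
theorem hol_weight (V : Subgroup X) [V.Normal] (A : Subgroup X)
    (hA : ∀ B : Subgroup X, B ≤ A →
      Nat.card B * Nat.card ↥(V ⊓ Subgroup.centralizer (B : Set X)) ≤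
        Nat.card A * Nat.card ↥(V ⊓ Subgroup.centralizer (A : Set X))) :
    ∀ B' : Subgroup (HolG V), B' ≤ A.map (holPsi V) →
      Nat.card B' * Nat.card ↥(holV V ⊓ Subgroup.centralizer (B' : Set (HolG V))) ≤
        Nat.card ↥(A.map (holPsi V)) *
          Nat.card ↥(holV V ⊓ Subgroup.centralizer
            ((A.map (holPsi V) : Subgroup (HolG V)) : Set (HolG V))) := by
  intro B' hB'
  have hBmap : (A ⊓ B'.comap (holPsi V)).map (holPsi V) = B' := by
    apply le_antisymm
    · rintro _ ⟨b, hb, rfl⟩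
      exact hb.2
    · intro b' hb'
      obtain ⟨a, ha, rfl⟩ := hB' hb'
      exact ⟨a, ⟨ha, hb'⟩, rfl⟩
  have hBC : (A ⊓ B'.comap (holPsi V)) ⊓ Subgroup.centralizer (V : Set X) =
      A ⊓ Subgroup.centralizer (V : Set X) := by
    apply le_antisymm (inf_le_inf_right _ inf_le_left)
    intro x hx
    refine ⟨⟨hx.1, ?_⟩, hx.2⟩
    have hx2 : x ∈ Subgroup.centralizer (V : Set X) := hx.2
    rw [← holPsi_ker V, MonoidHom.mem_ker] at hx2
    show holPsi V x ∈ B'
    rw [hx2]; exact one_mem _
  have h1 := hA (A ⊓ B'.comap (holPsi V)) inf_le_left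
  have h2 := card_map_psi V (A ⊓ B'.comap (holPsi V))
  have h3 := card_map_psi V A
  rw [hBmap, hBC] at h2
  rw [← hBmap, hol_cent, hol_cent, card_holSub V inf_le_left, card_holSub V inf_le_left, hBmap]
  have hk : 0 < Nat.card ↥(A ⊓ Subgroup.centralizer (V : Set X)) := Nat.card_pos
  apply Nat.le_of_mul_le_mul_right _ hk
  calc Nat.card ↥B' * Nat.card ↥(V ⊓ Subgroup.centralizer
        ((A ⊓ B'.comap (holPsi V) : Subgroup X) : Set X)) *
        Nat.card ↥(A ⊓ Subgroup.centralizer (V : Set X))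
      = (Nat.card ↥B' * Nat.card ↥(A ⊓ Subgroup.centralizer (V : Set X))) *
        Nat.card ↥(V ⊓ Subgroup.centralizer
        ((A ⊓ B'.comap (holPsi V) : Subgroup X) : Set X)) := by ring
    _ = Nat.card ↥(A ⊓ B'.comap (holPsi V)) * Nat.card ↥(V ⊓ Subgroup.centralizer
        ((A ⊓ B'.comap (holPsi V) : Subgroup X) : Set X)) := by rw [h2]
    _ ≤ Nat.card A * Nat.card ↥(V ⊓ Subgroup.centralizer (A : Set X)) := h1
    _ = (Nat.card ↥(A.map (holPsi V)) * Nat.card ↥(A ⊓ Subgroup.centralizer (V : Set X))) *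
        Nat.card ↥(V ⊓ Subgroup.centralizer (A : Set X)) := by rw [h3]
    _ = Nat.card ↥(A.map (holPsi V)) * Nat.card ↥(V ⊓ Subgroup.centralizer (A : Set X)) *
        Nat.card ↥(A ⊓ Subgroup.centralizer (V : Set X)) := by ring

/-- the family of conjugates of the maximal abelian subgroups of `T` -/
def conjFam (T : Subgroup X) (i : X × ↥(Cfsg.maxAbelianSubgroups ↥T)) : Subgroup X :=
  ((i.2 : Subgroup ↥T).map T.subtype).map (MulAut.conj i.1).toMonoidHom

theorem conjFam_map_conj (T : Subgroup X) (i : X × ↥(Cfsg.maxAbelianSubgroups ↥T)) (h : X) :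
    (conjFam T i).map (MulAut.conj h).toMonoidHom = conjFam T (h * i.1, i.2) := by
  unfold conjFam
  rw [Subgroup.map_map]
  congr 1
  ext x
  show h * (i.1 * x * i.1⁻¹) * h⁻¹ = (h * i.1) * x * (h * i.1)⁻¹
  group

theorem normalClosure_thompsonA (T : Subgroup X) :
    Subgroup.normalClosure (Cfsg.thompsonSubgroupAOf T : Set X) = ⨆ i, conjFam T i := by
  apply le_antisymm
  · haveI : (⨆ i, conjFam T i).Normal := by
      constructor
      intro n hn g
      have h1 : (⨆ i, conjFam T i).map (MulAut.conj g).toMonoidHom ≤ ⨆ i, conjFam T i := by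
        rw [Subgroup.map_iSup]
        apply iSup_le
        intro i
        rw [conjFam_map_conj]
        exact le_iSup (conjFam T) (g * i.1, i.2)
      exact h1 ⟨n, hn, rfl⟩
    apply Subgroup.normalClosure_le_normal
    rw [SetLike.coe_subset_coe, thompsonA_eq_iSup]
    apply iSup_le
    intro A
    refine le_trans ?_ (le_iSup (conjFam T) (1, A))
    intro x hx
    exact ⟨x, hx, by show 1 * x * 1⁻¹ = x; group⟩
  · apply iSup_le
    intro i
    rintro _ ⟨x, hx, rfl⟩
    have h1 : x ∈ Cfsg.thompsonSubgroupAOf T := by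
      rw [thompsonA_eq_iSup]
      exact (le_iSup (fun A : ↥(Cfsg.maxAbelianSubgroups ↥T) =>
        (A : Subgroup ↥T).map T.subtype) i.2) hx
    exact (Subgroup.normalClosure_normal).conj_mem x (Subgroup.subset_normalClosure h1) i.1

end A4

end Cfsg.Agent.Lib.Helper10.FFAb
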