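import Mathlib
import Cfsg.Agent.Lib.Helper10.FFAb9

set_option autoImplicit false

namespace Cfsg.Agent.Lib.Helper10.FFAb

open scoped commutatorElement
open Cfsg.Agent.Lib.Helper5

section A5

variable {X : Type*} [Group X] [Finite X]

/-- claim (1): Frattini argument -/
theorem claim1 (T : Sylow 2 X) (K : Subgroup X) [K.Normal] :
    K ⊔ Subgroup.normalClosure (Cfsg.thompsonSubgroupAOf (T : Subgroup X) : Set X) ⊔
      Subgroup.normalizer (Cfsg.thompsonSubgroupAOf (T : Subgroup X) : Set X) = ⊤ := by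
  haveI : Fact (Nat.Prime 2) := ⟨Nat.prime_two⟩
  obtain ⟨M, hM⟩ : ∃ M : Subgroup X,
      M = K ⊔ Subgroup.normalClosure (Cfsg.thompsonSubgroupAOf (T : Subgroup X) : Set X) :=
    ⟨_, rfl⟩
  rw [← hM]
  haveI hMn : M.Normal := by rw [hM]; infer_instance
  have h1 := Cfsg.Agent.Lib.Helper11.PuigCenter.frattini_inf 2 T M
  have h2 : Subgroup.normalizer ((((T : Subgroup X) ⊓ M : Subgroup X)) : Set X) ≤
      Subgroup.normalizer (Cfsg.thompsonSubgroupAOf (T : Subgroup X) : Set X) := by
    apply normalizer_le_normalizer_thompsonA (T : Subgroup X) _ inf_le_left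
    apply le_inf (thompsonA_le _)
    rw [hM]
    exact le_trans Subgroup.le_normalClosure le_sup_right
  rw [eq_top_iff, ← h1, sup_comm]
  exact sup_le_sup_left h2 M

/-- claim (2) -/
theorem claim2 [Group.IsSolvable X] (T : Sylow 2 X) (V : Subgroup X) [hVn : V.Normal]
    (hV : Cfsg.IsElementaryAbelian 2 V) (hVO : V ≤ Cfsg.pCore 2 X)
    (hO : Cfsg.pCore 2 (X ⧸ Subgroup.centralizer (V : Set X)) = ⊥)
    (K : Subgroup X) [hKn : K.Normal] (hK : Subgroup.centralizer (V : Set X) = K) :
    Subgroup.normalClosure (Cfsg.thompsonSubgroupAOf (T : Subgroup X) : Set X) ≤ K ∨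
      ∃ n : ℕ, 1 ≤ n ∧
        Nonempty (↥(Subgroup.normalClosure (Cfsg.thompsonSubgroupAOf (T : Subgroup X) : Set X)) ⧸
            K.subgroupOf (Subgroup.normalClosure (Cfsg.thompsonSubgroupAOf (T : Subgroup X) : Set X))
          ≃* (Fin n → Equiv.Perm (Fin 3))) := by
  classical
  haveI : Fact (Nat.Prime 2) := ⟨Nat.prime_two⟩
  subst hK
  have hsep : Cfsg.IsPSolvable 2 X := isPSolvable_of_isSolvable 2 X inferInstance
  obtain ⟨Y, hY⟩ : ∃ Y : Subgroup X,
      Y = Subgroup.normalClosure (Cfsg.thompsonSubgroupAOf (T : Subgroup X) : Set X) := ⟨_, rfl⟩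
  rw [← hY]
  haveI hYn : Y.Normal := by rw [hY]; infer_instance
  have hV' := holV_elemAb V hV
  haveI := holV_normal V
  have hLV : (holPsi V).range ≤
      Subgroup.normalizer ((holV V : Subgroup (HolG V)) : Set (HolG V)) :=
    Subgroup.le_normalizer_of_normal
  have hLf := hol_faithful V
  have hHL : Y.map (holPsi V) ≤ (holPsi V).range := by
    rw [MonoidHom.range_eq_map]; exact Subgroup.map_mono le_top
  have hLH : (holPsi V).range ≤
      Subgroup.normalizer ((Y.map (holPsi V) : Subgroup (HolG V)) : Set (HolG V)) := by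
    have h1 := Subgroup.le_normalizer_map (holPsi V) (H := Y)
    rw [Subgroup.normalizer_eq_top, ← MonoidHom.range_eq_map] at h1
    exact h1
  have hS1 : ∀ J' : Subgroup (HolG V), J' ≤ (holPsi V).range →
      (holPsi V).range ≤ Subgroup.normalizer (J' : Set (HolG V)) →
      Subgroup.centralizer (Cfsg.pPrimeCore 2 ↥J' : Set ↥J') ≤ Cfsg.pPrimeCore 2 ↥J' := by
    intro J' hJ'L hLJ'
    haveI hJn : (J'.comap (holPsi V)).Normal := by
      constructor
      intro n hn g
      rw [Subgroup.mem_comap] at hn ⊢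
      rw [map_mul, map_mul, map_inv]
      exact (Subgroup.mem_normalizer_iff.mp (hLJ' ⟨g, rfl⟩) _).mp hn
    have hmap : (J'.comap (holPsi V)).map (holPsi V) = J' := by
      rw [Subgroup.map_comap_eq]
      exact inf_eq_right.mpr hJ'L
    have h1 := hol_map_hS1 V hsep hO (J'.comap (holPsi V))
    rw [hmap] at h1
    exact h1
  have hVT : V ≤ (T : Subgroup X) := hVO.trans (Cfsg.Agent.Lib.Helper1.pCore_le_sylow 2 T)
  have hgen : Y.map (holPsi V) =
      sSup (Set.range (fun i => (conjFam (T : Subgroup X) i).map (holPsi V))) := by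
    rw [sSup_range, ← Subgroup.map_iSup, hY, normalClosure_thompsonA]
  have h𝒜 : ∀ A ∈ Set.range (fun i => (conjFam (T : Subgroup X) i).map (holPsi V)),
      (∀ a ∈ A, ∀ b ∈ A, a * b = b * a) ∧ IsPGroup 2 A ∧
      ∀ B : Subgroup (HolG V), B ≤ A →
        Nat.card B * Nat.card ↥(holV V ⊓ Subgroup.centralizer (B : Set (HolG V))) ≤
          Nat.card A * Nat.card ↥(holV V ⊓ Subgroup.centralizer (A : Set (HolG V))) := by
    rintro _ ⟨i, rfl⟩
    obtain ⟨hc, hw⟩ := weight_maxAb (T : Subgroup X) V hV hVT i.2.1 i.2.2 i.1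
    refine ⟨?_, ?_, ?_⟩
    · rintro _ ⟨a, ha, rfl⟩ _ ⟨b, hb, rfl⟩
      rw [← map_mul, ← map_mul, hc a ha b hb]
    · apply IsPGroup.map
      apply IsPGroup.map
      apply IsPGroup.map
      exact T.isPGroup'.to_subgroup _
    · exact hol_weight V _ hw
  rcases struct_of_weight hV' hLV hLf hHL hLH hS1 _ hgen h𝒜 with h | ⟨n, hn, ⟨e⟩⟩
  · left
    rw [Subgroup.map_eq_bot_iff, holPsi_ker] at h
    exact h
  · right
    refine ⟨n, hn, ?_⟩
    have hker : (Subgroup.centralizer (V : Set X)).subgroupOf Y =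
        ((holPsi V).subgroupMap Y).ker := by
      ext y
      rw [Subgroup.mem_subgroupOf, MonoidHom.mem_ker, ← holPsi_ker V, MonoidHom.mem_ker]
      constructor
      · intro h
        apply Subtype.ext
        exact h
      · intro h
        exact congrArg Subtype.val h
    exact ⟨((QuotientGroup.quotientMulEquivOfEq hker).trans
      (QuotientGroup.quotientKerEquivOfSurjective ((holPsi V).subgroupMap Y)
        ((holPsi V).subgroupMap_surjective Y))).trans e⟩

end A5

end Cfsg.Agent.Lib.Helper10.FFAb
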