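import Mathlib
import Cfsg.Agent.Lib.Helper19.G2V.Defs
import Cfsg.Agent.Lib.Helper21.P4VG1

/-!
# G2V row F4 (`fpf`), core: the statements of I2 (`iota_mul`, `iota_inv`), Q2 (`iota_norm_Qp'`) and
F3 (`fpf_cmp`) are hypotheses.
-/

set_option autoImplicit false

namespace Cfsg.Agent.Lib.Helper19.G2V

open Cfsg.Lie Cfsg.Lie.ChevalleyDatum Matrix
open Cfsg.Agent.Lib.helper8
open Cfsg.Agent.Lib.helper23.P4V

universe u

variable {F : Type u} [Field F]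

/-- an element of `GL₂(F)` with trace `τ` and determinant `ν` is conjugate in `GL₂(F)` to `cmpU τ ν` -/
theorem g2vf4_conj (τ ν : F) (hirr : ∀ t : F, t ^ 2 - τ * t + ν ≠ 0) (hν : ν ≠ 0) (A : GL (Fin 2) F)
    (htr : (A : M2 F).trace = τ) (hdet : (A : M2 F).det = ν) :
    ∃ P : GL (Fin 2) F, A = P * cmpU τ ν hν * P⁻¹ := by
  obtain ⟨P, hP, hA⟩ := conj_cmp τ ν hirr (A : M2 F) htr hdet
  refine ⟨mk2 P hP, ?_⟩
  apply Units.ext
  rw [Units.val_mul, Units.val_mul, mk2_val, cmpU_val, Matrix.coe_units_inv, mk2_val]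
  exact hA

/-- **F4**, core. -/
theorem g2vf4_core
    (hI2 : ∀ A B : GL (Fin 2) F, iota (A * B) = iota A * iota B)
    (hI2i : ∀ A : GL (Fin 2) F, iota A⁻¹ = (iota A)⁻¹)
    (hQ2' : ∀ (A : GL (Fin 2) F) (u : GG F), u ∈ Qp F → (iota A)⁻¹ * u * iota A ∈ Qp F)
    (τ ν : F) (hG : Good' τ ν)
    (hF3 : ∀ u : GG F, u ∈ Qp F →
      u * xG τ ν hG.1.nu_ne_zero = xG τ ν hG.1.nu_ne_zero * u → u = 1)
    (A : GL (Fin 2) F) (htr : (A : M2 F).trace = τ)
    (hdet : (A : M2 F).det = ν) (u : GG F) (hu : u ∈ Qp F) (hc : u * iota A = iota A * u) : u = 1 := by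
  obtain ⟨P, hA⟩ := g2vf4_conj τ ν hG.1.2.2 hG.1.nu_ne_zero A htr hdet
  have hiA : iota A = iota P * xG τ ν hG.1.nu_ne_zero * (iota P)⁻¹ := by
    rw [hA, hI2, hI2, hI2i]
    rfl
  have h1 : (iota P)⁻¹ * u * iota P = 1 := by
    apply hF3 _ (hQ2' P u hu)
    have h2 : xG τ ν hG.1.nu_ne_zero = (iota P)⁻¹ * iota A * iota P := by
      rw [hiA]; group
    rw [h2]
    calc (iota P)⁻¹ * u * iota P * ((iota P)⁻¹ * iota A * iota P)
        = (iota P)⁻¹ * (u * iota A) * iota P := by group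
      _ = (iota P)⁻¹ * (iota A * u) * iota P := by rw [hc]
      _ = (iota P)⁻¹ * iota A * iota P * ((iota P)⁻¹ * u * iota P) := by group
  calc u = iota P * ((iota P)⁻¹ * u * iota P) * (iota P)⁻¹ := by group
    _ = 1 := by rw [h1]; group

end Cfsg.Agent.Lib.Helper19.G2V
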