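import Mathlib
import Cfsg.Agent.Lib.Helper19.G2V.Defs

/-!
# G2V row F5 (`absorb`), core: the statements of Q2 (`iota_norm_Qp'`), M2 (`Qp_le_Pp`), M3 (`Pp_le_Gp`)
and F4 (`fpf`) are hypotheses.
-/

set_option autoImplicit false

namespace Cfsg.Agent.Lib.Helper19.G2V

open Cfsg.Lie Cfsg.Lie.ChevalleyDatum Matrix
open Cfsg.Agent.Lib.helper8
open Cfsg.Agent.Lib.helper23.P4V

universe u

variable {F : Type u} [Field F]

/-- a finite group `Q` normalised by `a` with `C_Q(a) = 1`: every `a * u`, `u ∈ Q`, is `Q`-conjugate to `a`. -/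
theorem g2vf5_absorb {G : Type*} [Group G] (Q : Subgroup G) [Finite Q] (a : G)
    (hn : ∀ u ∈ Q, a⁻¹ * u * a ∈ Q) (hfix : ∀ u ∈ Q, u * a = a * u → u = 1) (u : G) (hu : u ∈ Q) :
    ∃ w ∈ Q, a * u = w * a * w⁻¹ := by
  let f : Q → Q := fun w => ⟨a⁻¹ * (w : G) * a * (w : G)⁻¹, Q.mul_mem (hn _ w.2) (Q.inv_mem w.2)⟩
  have hinj : Function.Injective f := by
    intro w w' h
    have h1 : a⁻¹ * (w : G) * a * (w : G)⁻¹ = a⁻¹ * (w' : G) * a * (w' : G)⁻¹ :=
      congrArg Subtype.val h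
    have h2 : ((w' : G)⁻¹ * (w : G)) * a = a * ((w' : G)⁻¹ * (w : G)) := by
      have h3 : (w : G) * a * (w : G)⁻¹ = (w' : G) * a * (w' : G)⁻¹ := by
        have := congrArg (fun z => a * z) h1
        simpa [mul_assoc] using this
      calc ((w' : G)⁻¹ * (w : G)) * a = (w' : G)⁻¹ * ((w : G) * a * (w : G)⁻¹) * (w : G) := by group
        _ = (w' : G)⁻¹ * ((w' : G) * a * (w' : G)⁻¹) * (w : G) := by rw [h3]
        _ = a * ((w' : G)⁻¹ * (w : G)) := by group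
    have h4 := hfix _ (Q.mul_mem (Q.inv_mem w'.2) w.2) h2
    apply Subtype.ext
    calc (w : G) = (w' : G) * ((w' : G)⁻¹ * (w : G)) := by group
      _ = (w' : G) := by rw [h4, mul_one]
  have hsurj : Function.Surjective f := Finite.injective_iff_surjective.mp hinj
  obtain ⟨w, hw⟩ := hsurj ⟨u, hu⟩
  refine ⟨w, w.2, ?_⟩
  have h1 : a⁻¹ * (w : G) * a * (w : G)⁻¹ = u := congrArg Subtype.val hw
  rw [← h1]
  group

/-- **F5**, core. -/
theorem g2vf5_core [Fintype F]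
    (hQ2' : ∀ (A : GL (Fin 2) F) (u : GG F), u ∈ Qp F → (iota A)⁻¹ * u * iota A ∈ Qp F)
    (hM2 : Qp F ≤ Pp F) (hM3 : Pp F ≤ Gp F)
    (τ ν : F) (_hG : Good' τ ν)
    (hF4 : ∀ A : GL (Fin 2) F, (A : M2 F).trace = τ → (A : M2 F).det = ν →
      ∀ u : GG F, u ∈ Qp F → u * iota A = iota A * u → u = 1)
    (A : GL (Fin 2) F)
    (htr : (A : M2 F).trace = τ) (hdet : (A : M2 F).det = ν) (u : GG F) (hu : u ∈ Qp F) :
    CjG (iota A) (iota A * u) := by
  classical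
  have : Finite (GG F) := inferInstance
  have : Finite (Qp F) := inferInstance
  obtain ⟨w, hw, h⟩ := g2vf5_absorb (Qp F) (iota A) (hQ2' A) (hF4 A htr hdet) u hu
  exact ⟨w, hM3 (hM2 hw), h⟩

end Cfsg.Agent.Lib.Helper19.G2V
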