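import Mathlib
import Cfsg.Agent.Lib.Helper19.G2V.Defs

/-!
# G2V row N6 (`iota_norm_Qm`, `iota_norm_Qm'`), cores: the statements of N3 (`nrho_iota'`) and
Q2 (`iota_norm_Qp`, `iota_norm_Qp'`) are hypotheses.
-/

set_option autoImplicit false

namespace Cfsg.Agent.Lib.Helper19.G2V

open Cfsg.Lie Cfsg.Lie.ChevalleyDatum Matrix
open Cfsg.Agent.Lib.helper8
open Cfsg.Agent.Lib.helper23.P4V

universe u

variable {F : Type u} [Field F]

/-- the determinant of an element of `GL₂(F)` is not zero -/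
theorem g2vn6_det_ne (A : GL (Fin 2) F) : (A : M2 F).det ≠ 0 := by
  have := A.isUnit.map (Matrix.detMonoidHom (n := Fin 2) (R := F))
  exact this.ne_zero

/-- the determinant of `c • A` -/
theorem g2vn6_det_smul (c : F) (A : M2 F) : (c • A).det = c ^ 2 * A.det := by
  rw [Matrix.det_smul, Fintype.card_fin]

/-- the matrix `(det A)⁻¹ • A` in `GL₂(F)` -/
noncomputable def g2vn6_tw (A : GL (Fin 2) F) : GL (Fin 2) F :=
  mk2 (((A : M2 F).det)⁻¹ • (A : M2 F)) (by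
    rw [g2vn6_det_smul]
    exact mul_ne_zero (pow_ne_zero _ (inv_ne_zero (g2vn6_det_ne A))) (g2vn6_det_ne A))

theorem g2vn6_tw_val (A : GL (Fin 2) F) :
    ((g2vn6_tw A : GL (Fin 2) F) : M2 F) = ((A : M2 F).det)⁻¹ • (A : M2 F) := rfl

/-- **N6** (first), core. -/
theorem g2vn6_core
    (hN3' : ∀ A A' : GL (Fin 2) F, (A' : M2 F) = ((A : M2 F).det)⁻¹ • (A : M2 F) →
      nrho⁻¹ * iota A * nrho = iota A')
    (hQ2 : ∀ (A : GL (Fin 2) F) (u : GG F), u ∈ Qp F → iota A * u * (iota A)⁻¹ ∈ Qp F)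
    (A : GL (Fin 2) F) (v : GG F) (hv : v ∈ Qm F) : iota A * v * (iota A)⁻¹ ∈ Qm F := by
  obtain ⟨u, hu, rfl⟩ := (mem_Qm_iff v).mp hv
  have h := hN3' A (g2vn6_tw A) (g2vn6_tw_val A)
  rw [mem_Qm_iff]
  refine ⟨iota (g2vn6_tw A) * u * (iota (g2vn6_tw A))⁻¹, hQ2 _ u hu, ?_⟩
  rw [← h]
  group

/-- **N6** (second), core. -/
theorem g2vn6_core'
    (hN3' : ∀ A A' : GL (Fin 2) F, (A' : M2 F) = ((A : M2 F).det)⁻¹ • (A : M2 F) →
      nrho⁻¹ * iota A * nrho = iota A')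
    (hQ2' : ∀ (A : GL (Fin 2) F) (u : GG F), u ∈ Qp F → (iota A)⁻¹ * u * iota A ∈ Qp F)
    (A : GL (Fin 2) F) (v : GG F) (hv : v ∈ Qm F) : (iota A)⁻¹ * v * iota A ∈ Qm F := by
  obtain ⟨u, hu, rfl⟩ := (mem_Qm_iff v).mp hv
  have h := hN3' A (g2vn6_tw A) (g2vn6_tw_val A)
  rw [mem_Qm_iff]
  refine ⟨(iota (g2vn6_tw A))⁻¹ * u * iota (g2vn6_tw A), hQ2' _ u hu, ?_⟩
  rw [← h]
  group

end Cfsg.Agent.Lib.Helper19.G2V
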