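import Mathlib
import Cfsg.Agent.Lib.Helper19.G2V.Defs
import Cfsg.Agent.Lib.Helper10.G2VN6core
import Cfsg.Agent.Lib.Helper25.G2VN3
import Cfsg.Agent.Lib.Helper5.G2VQ2

/-!
# G2V row N6 (`iota_norm_Qm`, `iota_norm_Qm'`), verbatim: `g2vn6_core` / `g2vn6_core'` on the landed
N3 (`nrho_iota'`, Helper25) and Q2 (`iota_norm_Qp`, `iota_norm_Qp'`, Helper5).
-/

set_option autoImplicit false

namespace Cfsg.Agent.Lib.Helper19.G2V

open Cfsg.Lie Cfsg.Lie.ChevalleyDatum Matrix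
open Cfsg.Agent.Lib.helper8
open Cfsg.Agent.Lib.helper23.P4V

universe u

variable {F : Type u} [Field F]

/-- **N6** [S-M] (both).  `Qm = n_ρ Qp n_ρ⁻¹`, N3 and Q2. -/
theorem iota_norm_Qm (A : GL (Fin 2) F) (v : GG F) (hv : v ∈ Qm F) : iota A * v * (iota A)⁻¹ ∈ Qm F :=
  g2vn6_core nrho_iota' iota_norm_Qp A v hv

theorem iota_norm_Qm' (A : GL (Fin 2) F) (v : GG F) (hv : v ∈ Qm F) : (iota A)⁻¹ * v * iota A ∈ Qm F :=
  g2vn6_core' nrho_iota' iota_norm_Qp' A v hv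

end Cfsg.Agent.Lib.Helper19.G2V
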