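import Mathlib
import Cfsg.Agent.Lib.Helper19.G2V.Defs
import Cfsg.Agent.Lib.helper7.G2VGP
import Cfsg.Agent.Lib.Helper21.G2VM1

/-!
# G2V row N7 (`absorb_m`), core: the statements of N3 (`nrho_iota`), Q2 (`iota_norm_Qp'`) and
F5 (`absorb`) are hypotheses; GP (`good'_inv`) and M1 (`nrho_mem_Gp`) are cited.
-/

set_option autoImplicit false

namespace Cfsg.Agent.Lib.Helper19.G2V

open Cfsg.Lie Cfsg.Lie.ChevalleyDatum Matrix
open Cfsg.Agent.Lib.helper8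
open Cfsg.Agent.Lib.helper23.P4V

universe u

variable {F : Type u} [Field F]

/-- **N7**, core. -/
theorem g2vn7_core [Fintype F]
    (hN3 : ∀ A A' : GL (Fin 2) F, (A' : M2 F) = ((A : M2 F).det)⁻¹ • (A : M2 F) →
      nrho * iota A * nrho⁻¹ = iota A')
    (hQ2' : ∀ (A : GL (Fin 2) F) (u : GG F), u ∈ Qp F → (iota A)⁻¹ * u * iota A ∈ Qp F)
    (hF5 : ∀ (τ ν : F), Good' τ ν → ∀ A : GL (Fin 2) F, (A : M2 F).trace = τ → (A : M2 F).det = ν →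
      ∀ u : GG F, u ∈ Qp F → CjG (iota A) (iota A * u))
    (τ ν : F) (hG : Good' τ ν) (A : GL (Fin 2) F)
    (htr : (A : M2 F).trace = τ) (hdet : (A : M2 F).det = ν) (v : GG F) (hv : v ∈ Qm F) :
    CjG (iota A) (v * iota A) := by
  have hν : ν ≠ 0 := hG.1.nu_ne_zero
  obtain ⟨u₁, hu₁, rfl⟩ := (mem_Qm_iff v).mp hv
  -- the matrix `A° = ν⁻¹ • A`
  have hdet0 : (ν⁻¹ • (A : M2 F)).det = ν⁻¹ := by
    rw [Matrix.det_smul, Fintype.card_fin, hdet]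
    field_simp
  have hdetne : (ν⁻¹ • (A : M2 F)).det ≠ 0 := by
    rw [hdet0]; exact inv_ne_zero hν
  set A0 : GL (Fin 2) F := mk2 (ν⁻¹ • (A : M2 F)) hdetne with hA0
  have hA0v : ((A0 : GL (Fin 2) F) : M2 F) = ν⁻¹ • (A : M2 F) := rfl
  have htr0 : ((A0 : GL (Fin 2) F) : M2 F).trace = τ / ν := by
    rw [hA0v, Matrix.trace_smul, htr, smul_eq_mul]
    field_simp
  have hdet0' : ((A0 : GL (Fin 2) F) : M2 F).det = ν⁻¹ := by rw [hA0v]; exact hdet0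
  have hback : nrho * iota A0 * nrho⁻¹ = iota A := by
    apply hN3 A0 A
    rw [hdet0', hA0v, inv_inv, smul_smul, mul_inv_cancel₀ hν, one_smul]
  obtain ⟨c, hc, hcj⟩ := hF5 (τ / ν) ν⁻¹ (good'_inv τ ν hG) A0 htr0 hdet0'
    ((iota A0)⁻¹ * u₁ * iota A0) (hQ2' A0 u₁ hu₁)
  have hcj' : u₁ * iota A0 = c * iota A0 * c⁻¹ := by
    rw [← hcj]; group
  refine ⟨nrho * c * nrho⁻¹, ?_, ?_⟩
  · exact (Gp F).mul_mem ((Gp F).mul_mem nrho_mem_Gp hc) ((Gp F).inv_mem nrho_mem_Gp)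
  · rw [← hback]
    calc nrho * u₁ * nrho⁻¹ * (nrho * iota A0 * nrho⁻¹)
        = nrho * (u₁ * iota A0) * nrho⁻¹ := by group
      _ = nrho * (c * iota A0 * c⁻¹) * nrho⁻¹ := by rw [hcj']
      _ = nrho * c * nrho⁻¹ * (nrho * iota A0 * nrho⁻¹) * (nrho * c * nrho⁻¹)⁻¹ := by group

end Cfsg.Agent.Lib.Helper19.G2V
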