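import Mathlib
import Cfsg.Agent.Lib.Helper18.PRL.Defs
import Cfsg.Agent.Lib.helper23.PRLCH1
import Cfsg.Agent.Lib.Helper19.MCPCOMM
import Cfsg.Agent.Lib.helper4.UE.Defs

/-!
# Project UE (S3806), piece COMM2 : `[Z_a, Z_a] = [Z_a, Z_{a-1}] ≤ Z_{2a-1-n}`
-/

set_option autoImplicit false

namespace Cfsg.Agent.Lib.helper4.UE

open Cfsg.Agent.Lib.Helper18.PRL
open Cfsg.Agent.Lib.helper4.MCP
open scoped commutatorElement

universe u

section mc
variable {p : ℕ} [Fact p.Prime] {G : Type u} [Group G] [Finite G] {n : ℕ}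

/-- a subgroup between `Z_{a-1}` and `Z_a` not contained in `Z_{a-1}` is `Z_a` -/
theorem uecomm2_between (h : MC p G n) (hn : 3 ≤ n) (a : ℕ) (ha : 1 ≤ a) (ha' : a ≤ n - 2)
    (L : Subgroup G) (h1 : Z G (a - 1) ≤ L) (h2 : L ≤ Z G a) (g : G) (hg : g ∈ L)
    (hg' : g ∉ Z G (a - 1)) : L = Z G a := by
  have hp := (Fact.out : p.Prime)
  have hca := card_Z h hn a ha'
  have hca1 := card_Z h hn (a - 1) (by omega)
  have hd1 : Nat.card L ∣ p ^ a := hca ▸ Subgroup.card_dvd_of_le h2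
  have hd2 : p ^ (a - 1) ∣ Nat.card L := hca1 ▸ Subgroup.card_dvd_of_le h1
  obtain ⟨m, hm, hLm⟩ := (Nat.dvd_prime_pow hp).mp hd1
  rw [hLm] at hd2
  have hm2 : a - 1 ≤ m := (Nat.pow_dvd_pow_iff_le_right hp.one_lt).mp hd2
  have hma : m = a := by
    by_contra hne
    have hm1 : m = a - 1 := by omega
    have : Z G (a - 1) = L := Subgroup.eq_of_le_of_card_ge h1 (by rw [hLm, hca1, hm1])
    exact hg' (this ▸ hg)
  exact Subgroup.eq_of_le_of_card_ge h2 (by rw [hLm, hca, hma])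

/-- UE-COMM2: `[Z_a, Z_a] = [Z_a, Z_{a-1}] ≤ Z_{2a-1-n}`. -/
theorem commutator_Z_self_le (h : MC p G n) (hn : 3 ≤ n) (a : ℕ) (ha : 1 ≤ a) (ha' : a ≤ n - 2) :
    ⁅Z G a, Z G a⁆ ≤ Z G (2 * a - 1 - n) := by
  set W : Subgroup G := Z G (2 * a - 1 - n) with hW
  have hWn : W.Normal := inferInstance
  have hcomm1 : ⁅Z G a, Z G (a - 1)⁆ ≤ W := by
    have := commutator_Z_le h hn a (a - 1) (by omega)
    have e : a + (a - 1) - n = 2 * a - 1 - n := by omega
    rwa [e] at this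
  have hmono : Z G (a - 1) ≤ Z G a := Subgroup.upperCentralSeries_mono G (by omega)
  -- commuting modulo `W`
  have hcw : ∀ x b : G, ⁅b⁻¹, x⁻¹⁆ ∈ W →
      QuotientGroup.mk' W b * QuotientGroup.mk' W x = QuotientGroup.mk' W x * QuotientGroup.mk' W b := by
    intro x b hxb
    rw [← map_mul, ← map_mul]
    symm
    show ((x * b : G) : G ⧸ W) = ((b * x : G) : G ⧸ W)
    rw [QuotientGroup.eq]
    have e : (x * b)⁻¹ * (b * x) = ⁅b⁻¹, x⁻¹⁆ := by
      simp only [commutatorElement_def]; group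
    rw [e]; exact hxb
  set C : Subgroup G := Z G a ⊓
    (Subgroup.centralizer (((Z G a).map (QuotientGroup.mk' W) : Subgroup (G ⧸ W)) : Set (G ⧸ W))).comap
      (QuotientGroup.mk' W) with hC
  have hmemC : ∀ x : G, x ∈ C ↔ x ∈ Z G a ∧ ∀ b ∈ Z G a,
      QuotientGroup.mk' W b * QuotientGroup.mk' W x = QuotientGroup.mk' W x * QuotientGroup.mk' W b := by
    intro x
    rw [hC, Subgroup.mem_inf, Subgroup.mem_comap, Subgroup.mem_centralizer_iff]
    constructor
    · rintro ⟨h1, h2⟩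
      exact ⟨h1, fun b hb => h2 _ (Subgroup.mem_map_of_mem _ hb)⟩
    · rintro ⟨h1, h2⟩
      refine ⟨h1, ?_⟩
      rintro _ ⟨b, hb, rfl⟩
      exact h2 b hb
  have hZC : Z G (a - 1) ≤ C := by
    intro x hx
    rw [hmemC]
    refine ⟨hmono hx, fun b hb => hcw x b ?_⟩
    exact hcomm1 (Subgroup.commutator_mem_commutator (Subgroup.inv_mem _ hb) (Subgroup.inv_mem _ hx))
  have hCtop : Z G a ≤ C := by
    by_contra hnot
    obtain ⟨g, hgA, hgC⟩ := SetLike.not_le_iff_exists.mp hnot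
    set C' : Subgroup G := Z G a ⊓
      (Subgroup.centralizer ({QuotientGroup.mk' W g} : Set (G ⧸ W))).comap (QuotientGroup.mk' W)
      with hC'
    have hmemC' : ∀ x : G, x ∈ C' ↔ x ∈ Z G a ∧
        QuotientGroup.mk' W g * QuotientGroup.mk' W x = QuotientGroup.mk' W x * QuotientGroup.mk' W g := by
      intro x
      rw [hC', Subgroup.mem_inf, Subgroup.mem_comap, Subgroup.mem_centralizer_iff]
      simp only [Set.mem_singleton_iff, forall_eq]
    have hCC' : C ≤ C' := by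
      intro x hx
      rw [hmemC] at hx
      rw [hmemC']
      exact ⟨hx.1, hx.2 g hgA⟩
    have hgC' : g ∈ C' := by
      rw [hmemC']
      exact ⟨hgA, rfl⟩
    have hgZ : g ∉ Z G (a - 1) := fun hg => hgC (hZC hg)
    have hC'eq : C' = Z G a :=
      uecomm2_between h hn a ha ha' C' (hZC.trans hCC') inf_le_left g hgC' hgZ
    apply hgC
    rw [hmemC]
    refine ⟨hgA, fun b hb => ?_⟩
    have hb' : b ∈ C' := hC'eq ▸ hb
    rw [hmemC'] at hb'
    exact hb'.2.symm
  rw [Subgroup.commutator_le]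
  intro x hx b hb
  have hx' := (hmemC x).mp (hCtop hx)
  have h1 := hx'.2 b hb
  have h2 : ⁅QuotientGroup.mk' W x, QuotientGroup.mk' W b⁆ = 1 :=
    commutatorElement_eq_one_iff_mul_comm.mpr h1.symm
  rw [← map_commutatorElement] at h2
  exact (QuotientGroup.eq_one_iff _).mp h2

end mc

end Cfsg.Agent.Lib.helper4.UE
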