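import Mathlib
import Cfsg.Agent.Lib.Helper18.GBT.Defs
import Cfsg.Agent.Lib.Helper10.UECOMM2

/-!
# Project GBT, piece ABEL : `Z_a` is abelian when `2 a ≤ n + 1`
-/

set_option autoImplicit false

namespace Cfsg.Agent.Lib.Helper18.GBT

open Cfsg.Agent.Lib.Helper18.PRL
open scoped commutatorElement

universe u

section mc
variable {p : ℕ} [Fact p.Prime] {G : Type u} [Group G] [Finite G] {n : ℕ}

/-- GBT-ABEL -/
theorem Z_comm (h : MC p G n) (hn : 3 ≤ n) (a : ℕ) (ha : a ≤ n - 2) (ha2 : 2 * a ≤ n + 1) :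
    ∀ x ∈ Z G a, ∀ y ∈ Z G a, x * y = y * x := by
  intro x hx y hy
  rcases Nat.eq_zero_or_pos a with h0 | h0
  · subst h0
    have hx' : x = 1 := by simpa [Z] using hx
    rw [hx', one_mul, mul_one]
  · have h1 := Cfsg.Agent.Lib.helper4.UE.commutator_Z_self_le h hn a h0 ha
    have e : 2 * a - 1 - n = 0 := by omega
    rw [e] at h1
    have h2 : ⁅x, y⁆ ∈ Z G 0 := h1 (Subgroup.commutator_mem_commutator hx hy)
    have h3 : ⁅x, y⁆ = 1 := by simpa [Z] using h2
    exact commutatorElement_eq_one_iff_mul_comm.mp h3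

end mc

end Cfsg.Agent.Lib.Helper18.GBT
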