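import Mathlib
import Cfsg.Agent.Lib.Helper18.PRL.Defs
import Cfsg.Agent.Lib.Helper20.PolySeq
import Cfsg.Agent.Lib.helper23.PRLCH3
import Cfsg.Agent.Lib.Helper16.PRLU1
import Cfsg.Agent.Lib.helper4.MCPRHP
import Cfsg.Agent.Lib.Helper19.MCPCENT
import Cfsg.Agent.Lib.Helper19.MCPCOMM
import Cfsg.Agent.Lib.Helper29.MCPCLS

/-!
# Project MCP (S5238), piece POW : the power structure of `G'`
-/

set_option autoImplicit false

namespace Cfsg.Agent.Lib.helper4.MCP

open Cfsg.Agent.Lib.Helper18.PRL
open Cfsg.Agent.Lib.Helper20.PolySeq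
open scoped commutatorElement

universe u

/-- `[s, Z_{m}] ⊆ Z_{m-1}` (natural subtraction) -/
theorem mcppow_comm_mem {G : Type u} [Group G] (s z : G) (m : ℕ) (hz : z ∈ Z G m) : ⁅s, z⁆ ∈ Z G (m - 1) := by
  rcases Nat.eq_zero_or_pos m with h0 | h0
  · subst h0
    have hz1 : z = 1 := by
      have : z ∈ (⊥ : Subgroup G) := by simpa [Z] using hz
      exact Subgroup.mem_bot.mp this
    rw [hz1, commutatorElement_one_right]
    exact one_mem _
  · obtain ⟨m', rfl⟩ : ∃ m', m = m' + 1 := ⟨m - 1, by omega⟩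
    rw [Nat.add_sub_cancel]
    have h1 := (Subgroup.mem_upperCentralSeries_succ_iff.mp hz) s
    have h2 : ⁅s, z⁆ = (z * s * z⁻¹ * s⁻¹)⁻¹ := by
      rw [commutatorElement_def]
      group
    rw [h2]
    exact inv_mem h1

/-- iterating `z ↦ [s, z]` on `Z_i` -/
theorem mcppow_iter_mem {G : Type u} [Group G] (s y : G) (i : ℕ) (hy : y ∈ Z G i) (k : ℕ) :
    (fun z => ⁅s, z⁆)^[k] y ∈ Z G (i - k) := by
  induction k with
  | zero => simpa using hy
  | succ k ih =>
    rw [Function.iterate_succ_apply']
    have := mcppow_comm_mem s _ _ ih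
    have e : i - k - 1 = i - (k + 1) := by omega
    rw [e] at this
    exact this

section mc
variable {p : ℕ} [Fact p.Prime] {G : Type u} [Group G] [Finite G] {n : ℕ}

/-- the core: one level, given the upper bound one level below -/
theorem mcppow_level (h : MC p G n) (hn : 4 ≤ n) (s : G)
    (hs : Nat.card (Subgroup.centralizer ({s} : Set G)) ≤ p ^ 2) (i : ℕ) (hi : i ≤ n - 2)
    (hprev : ∀ z ∈ Z G (i - 1), z ^ p ∈ Z G (i - p)) :
    (∀ y ∈ Z G i, y ^ p ∈ Z G (i - (p - 1))) ∧
      (p ≤ i → ∀ y ∈ Z G i, y ∉ Z G (i - 1) → y ^ p ∉ Z G (i - p)) := by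
  have hpp := (Fact.out : p.Prime)
  have hp2 := hpp.two_le
  have hU : Unif G n s := unif_of_card_centralizer h hn s hs
  obtain ⟨-, hsp⟩ := unif_cent h hn s hU
  have hcenter : Z G 1 = Subgroup.center G := Subgroup.upperCentralSeries_one G
  have hspc : s ^ p ∈ Subgroup.center G := hcenter ▸ hsp
  have hcomm := commutator_eq_Z h (by omega : 3 ≤ n)
  -- the inverse of `s`
  have hs' : Nat.card (Subgroup.centralizer ({s⁻¹} : Set G)) ≤ p ^ 2 := by
    have e : Subgroup.centralizer ({s⁻¹} : Set G) = Subgroup.centralizer ({s} : Set G) := by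
      ext g
      simp only [Subgroup.mem_centralizer_iff, Set.mem_singleton_iff, forall_eq]
      constructor
      · intro hg
        have : g * s⁻¹ = s⁻¹ * g := hg.symm
        calc s * g = s * (g * s⁻¹) * s := by group
          _ = s * (s⁻¹ * g) * s := by rw [this]
          _ = g * s := by group
      · intro hg
        have : g * s = s * g := hg.symm
        calc s⁻¹ * g = s⁻¹ * (g * s) * s⁻¹ := by group
          _ = s⁻¹ * (s * g) * s⁻¹ := by rw [this]
          _ = g * s⁻¹ := by group
    rw [e]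
    exact hs
  have hspc' : s⁻¹ ^ p ∈ Subgroup.center G := by
    rw [inv_pow]
    exact inv_mem hspc
  -- the key identity for every `y ∈ Z_i`
  have key : ∀ y ∈ Z G i, ∃ w ∈ Z G (i - p), 1 = y ^ p * ((fun z => ⁅s, z⁆)^[p - 1] y) * w := by
    intro y hy
    have hyc : y ∈ commutator G := by
      rw [hcomm]
      exact Subgroup.upperCentralSeries_mono G hi hy
    obtain ⟨w, hw, heq⟩ := rhp s⁻¹ (fun k => Z G (i + 1 - k)) (fun k => inferInstance)
      (fun k => Subgroup.upperCentralSeries_mono G (by omega))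
      (fun k z hz => by
        rw [inv_inv]
        have := mcppow_comm_mem s z _ hz
        have e : i + 1 - k - 1 = i + 1 - (k + 1) := by omega
        rw [e] at this
        exact this)
      (fun a b ha hb => by
        refine le_trans (commutator_Z_le h (by omega) (i + 1 - a) (i + 1 - b) (by omega)) ?_
        exact Subgroup.upperCentralSeries_mono G (by omega))
      p hpp (Z G (i - p)) (Subgroup.upperCentralSeries_mono G (by omega))
      (fun z hz => by
        have e : i + 1 - 2 = i - 1 := by omega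
        rw [e] at hz
        exact hprev z hz) y (by simpa using hy)
    refine ⟨w, hw, ?_⟩
    simp only [inv_inv] at heq
    rw [← heq, pow_mul_eq h (by omega) s⁻¹ hs' hspc' y hyc, inv_pow, mul_inv_cancel]
  constructor
  · intro y hy
    obtain ⟨w, hw, heq⟩ := key y hy
    have ht := mcppow_iter_mem s y i hy (p - 1)
    have hw' : w ∈ Z G (i - (p - 1)) := Subgroup.upperCentralSeries_mono G (by omega) hw
    have e : y ^ p = (((fun z => ⁅s, z⁆)^[p - 1] y) * w)⁻¹ := by
      rw [eq_inv_iff_mul_eq_one, ← mul_assoc]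
      exact heq.symm
    rw [e]
    exact inv_mem (mul_mem ht hw')
  · intro hpi y hy hy1 hcon
    obtain ⟨w, hw, heq⟩ := key y hy
    -- the iterates stay exactly in their level
    have hlev : ∀ k, k ≤ p - 1 → (fun z => ⁅s, z⁆)^[k] y ∉ Z G (i - k - 1) := by
      intro k
      induction k with
      | zero => intro _; simpa using hy1
      | succ k ih =>
        intro hk
        have h1 := ih (by omega)
        have h2 := mcppow_iter_mem s y i hy k
        rw [Function.iterate_succ_apply']
        have h3 := hU (i - k) (by omega) (by omega) _ h2 h1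
        intro h4
        apply h3
        have e : i - (k + 1) - 1 = i - k - 2 := by omega
        rw [e] at h4
        have e2 : ⁅(fun z => ⁅s, z⁆)^[k] y, s⁆ = ⁅s, (fun z => ⁅s, z⁆)^[k] y⁆⁻¹ := by
          rw [commutatorElement_inv]
        rw [e2]
        exact inv_mem h4
    have ht := hlev (p - 1) le_rfl
    apply ht
    have e : i - (p - 1) - 1 = i - p := by omega
    rw [e]
    have e3 : (fun z => ⁅s, z⁆)^[p - 1] y = (y ^ p)⁻¹ * w⁻¹ := by
      have h5 : y ^ p * ((fun z => ⁅s, z⁆)^[p - 1] y) * w = 1 := heq.symm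
      have h6 : (fun z => ⁅s, z⁆)^[p - 1] y = (y ^ p)⁻¹ * (y ^ p * ((fun z => ⁅s, z⁆)^[p - 1] y) * w) * w⁻¹ := by
        group
      rw [h6, h5, mul_one]
    rw [e3]
    exact mul_mem (inv_mem hcon) (inv_mem hw)

/-- MCP-POW -/
theorem power_structure (h : MC p G n) (hn : 4 ≤ n) (s : G)
    (hs : Nat.card (Subgroup.centralizer ({s} : Set G)) ≤ p ^ 2) (i : ℕ) (hi : i ≤ n - 2) :
    (∀ y ∈ Z G i, y ^ p ∈ Z G (i - (p - 1))) ∧
      (p ≤ i → ∀ y ∈ Z G i, y ∉ Z G (i - 1) → y ^ p ∉ Z G (i - p)) := by
  have hpp := (Fact.out : p.Prime)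
  have hp2 := hpp.two_le
  induction i using Nat.strong_induction_on with
  | _ i ih =>
    apply mcppow_level h hn s hs i hi
    intro z hz
    rcases Nat.eq_zero_or_pos i with h0 | h0
    · subst h0
      have hz1 : z = 1 := by
        have : z ∈ (⊥ : Subgroup G) := by simpa [Z] using hz
        exact Subgroup.mem_bot.mp this
      rw [hz1, one_pow]
      exact one_mem _
    · have := (ih (i - 1) (by omega) (by omega)).1 z hz
      have e : i - 1 - (p - 1) = i - p := by omega
      rw [e] at this
      exact this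

end mc

end Cfsg.Agent.Lib.helper4.MCP
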