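import Mathlib
import Cfsg.Agent.Lib.Helper18.GBT.Defs
import Cfsg.Agent.Lib.Helper19.MCPCOMM
import Cfsg.Agent.Lib.Helper10.MCPPOW
import Cfsg.Agent.Lib.helper4.MCPRHP

/-!
# Project GBT, piece KEY3a : `(y c)^p = y^p` for `y ∈ Z_{p+1}`, `c ∈ Z_{p-1}` (`n ≥ p + 3`)
-/

set_option autoImplicit false

namespace Cfsg.Agent.Lib.Helper18.GBT

open Cfsg.Agent.Lib.Helper18.PRL
open Cfsg.Agent.Lib.helper4.MCP
open scoped commutatorElement

universe u

section mc
variable {p : ℕ} [Fact p.Prime] {G : Type u} [Group G] [Finite G] {n : ℕ}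

/-- GBT-KEY3a -/
theorem pow_mul_eq_pow (h : MC p G n) (hn : p + 3 ≤ n) (s : G)
    (hs : Nat.card (Subgroup.centralizer ({s} : Set G)) ≤ p ^ 2) (y c : G)
    (hy : y ∈ Z G (p + 1)) (hc : c ∈ Z G (p - 1)) : (y * c) ^ p = y ^ p := by
  have hpp := (Fact.out : p.Prime)
  have hp2 := hpp.two_le
  have hn3 : 3 ≤ n := by omega
  have hn4 : 4 ≤ n := by omega
  have hbot : ∀ g : G, g ∈ Z G 0 → g = 1 := by
    intro g hg
    simpa [Z] using hg
  set Y : ℕ → Subgroup G := fun k => Z G (p + 1 - 2 * k) with hY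
  have hnorm : ∀ k, (Y k).Normal := fun k => by rw [hY]; infer_instance
  have hanti : ∀ k, Y (k + 1) ≤ Y k := by
    intro k
    rw [hY]
    exact Subgroup.upperCentralSeries_mono G (by omega)
  have hτ : ∀ k, ∀ z ∈ Y k, ⁅y⁻¹, z⁆ ∈ Y (k + 1) := by
    intro k z hz
    have h1 := commutator_Z_le h hn3 (p + 1) (p + 1 - 2 * k) (by omega)
    have h2 : ⁅y⁻¹, z⁆ ∈ Z G (p + 1 + (p + 1 - 2 * k) - n) :=
      h1 (Subgroup.commutator_mem_commutator (Subgroup.inv_mem _ hy) hz)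
    exact Subgroup.upperCentralSeries_mono G (by omega) h2
  have hYY : ∀ a b, 1 ≤ a → 1 ≤ b → ⁅Y a, Y b⁆ ≤ Y (a + b + 1) := by
    intro a b ha hb
    have h1 := commutator_Z_le h hn3 (p + 1 - 2 * a) (p + 1 - 2 * b) (by omega)
    exact h1.trans (Subgroup.upperCentralSeries_mono G (by omega))
  have hN1 : Y (p + 1) ≤ (⊥ : Subgroup G) := by
    intro g hg
    have e : p + 1 - 2 * (p + 1) = 0 := by omega
    rw [hY] at hg
    simp only [e] at hg
    rw [Subgroup.mem_bot]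
    exact hbot g hg
  have hN2 : ∀ z ∈ Y 2, z ^ p ∈ (⊥ : Subgroup G) := by
    intro z hz
    have h1 := (power_structure h hn4 s hs (p + 1 - 2 * 2) (by omega)).1 z hz
    have e : p + 1 - 2 * 2 - (p - 1) = 0 := by omega
    rw [e] at h1
    rw [Subgroup.mem_bot]
    exact hbot _ h1
  have hcY : c ∈ Y 1 := by
    have e : p + 1 - 2 * 1 = p - 1 := by omega
    rw [hY]
    simp only [e]
    exact hc
  obtain ⟨w, hw, hrhp⟩ := rhp y Y hnorm hanti hτ hYY p hpp ⊥ hN1 hN2 c hcY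
  rw [Subgroup.mem_bot] at hw
  -- `c ^ p = 1`
  have hcp : c ^ p = 1 := by
    have h1 := (power_structure h hn4 s hs (p - 1) (by omega)).1 c hc
    have e : p - 1 - (p - 1) = 0 := by omega
    rw [e] at h1
    exact hbot _ h1
  -- the iterated commutator vanishes
  have hiter : ∀ k, ((fun z => ⁅y⁻¹, z⁆)^[k] c) ∈ Y (1 + k) := by
    intro k
    induction k with
    | zero => simpa using hcY
    | succ k ih =>
      rw [Function.iterate_succ_apply']
      have := hτ (1 + k) _ ih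
      have e : 1 + (k + 1) = 1 + k + 1 := by omega
      rw [e]
      exact this
  have ht : ((fun z => ⁅y⁻¹, z⁆)^[p - 1] c) = 1 := by
    have h1 := hiter (p - 1)
    rw [hY] at h1
    have e : p + 1 - 2 * (1 + (p - 1)) = 0 := by omega
    simp only [e] at h1
    exact hbot _ h1
  rw [hcp, ht, hw, one_mul, one_mul] at hrhp
  -- `y⁻¹ ^ p * (y * c) ^ p = 1`
  have : (y * c) ^ p = (y⁻¹ ^ p)⁻¹ := eq_inv_of_mul_eq_one_right hrhp
  rw [this, inv_pow, inv_inv]

end mc

end Cfsg.Agent.Lib.Helper18.GBT
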