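import Mathlib
import Cfsg.Agent.Lib.Helper18.GBT.Defs
import Cfsg.Agent.Lib.helper23.PRLCH1
import Cfsg.Agent.Lib.helper23.PRLCH3
import Cfsg.Agent.Lib.helper23.PRLCH5
import Cfsg.Agent.Lib.Helper21.MaxClassP

/-!
# Project GBT, pieces S1EX and GENH : elements of `H ∖ G'` for a subgroup `H` of index `p`
-/

set_option autoImplicit false

namespace Cfsg.Agent.Lib.Helper18.GBT

open Cfsg.Agent.Lib.Helper18.PRL
open scoped commutatorElement

universe u

section mc
variable {p : ℕ} [Fact p.Prime] {G : Type u} [Group G] [Finite G] {n : ℕ}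

/-- the index of `G'` in a subgroup `H` of index `p` is `p` -/
theorem h10gbt_relIndex (h : MC p G n) (hn : 3 ≤ n) (H : Subgroup G) (hH : H.index = p) :
    (commutator G).relIndex H = p := by
  have hpp := (Fact.out : p.Prime)
  have hle : commutator G ≤ H := commutator_le_of_index h H hH
  obtain ⟨hidx, -⟩ := Cfsg.Agent.Lib.Helper21.mc_p_index p n G hn h.1 h.2
  have h1 := Subgroup.relIndex_mul_index hle
  rw [hidx, hH, pow_two] at h1
  exact Nat.eq_of_mul_eq_mul_right hpp.pos h1

/-- GBT-S1EX -/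
theorem exists_mem_notMem_commutator (h : MC p G n) (hn : 3 ≤ n) (H : Subgroup G)
    (hH : H.index = p) : ∃ s1 : G, s1 ∈ H ∧ s1 ∉ commutator G := by
  have hpp := (Fact.out : p.Prime)
  by_contra hcon
  push Not at hcon
  have hle : H ≤ commutator G := fun x hx => hcon x hx
  have h1 := h10gbt_relIndex h hn H hH
  rw [Subgroup.relIndex_eq_one.mpr hle] at h1
  exact hpp.one_lt.ne h1

/-- GBT-GENH -/
theorem le_of_mem_of_commutator_le (h : MC p G n) (hn : 3 ≤ n) (H : Subgroup G)
    (hH : H.index = p) (s1 : G) (hs1 : s1 ∈ H) (hs1' : s1 ∉ commutator G) (K : Subgroup G)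
    (hK : commutator G ≤ K) (hsK : s1 ∈ K) : H ≤ K := by
  have hpp := (Fact.out : p.Prime)
  have hle : commutator G ≤ H := commutator_le_of_index h H hH
  have h1 := h10gbt_relIndex h hn H hH
  have hmul := Subgroup.relIndex_mul_relIndex (commutator G) (K ⊓ H) H (le_inf hK hle) inf_le_right
  rw [h1] at hmul
  have hne : (commutator G).relIndex (K ⊓ H) ≠ 1 := by
    intro h4
    have := Subgroup.relIndex_eq_one.mp h4
    exact hs1' (this ⟨hsK, hs1⟩)
  have hdvd : (commutator G).relIndex (K ⊓ H) ∣ p := Dvd.intro _ hmul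
  have heqp : (commutator G).relIndex (K ⊓ H) = p := by
    rcases (Nat.dvd_prime hpp).mp hdvd with h5 | h5
    · exact absurd h5 hne
    · exact h5
  rw [heqp] at hmul
  have h6 : (K ⊓ H).relIndex H = 1 :=
    Nat.eq_of_mul_eq_mul_left hpp.pos (by rw [hmul, mul_one])
  exact (Subgroup.relIndex_eq_one.mp h6).trans inf_le_left

end mc

end Cfsg.Agent.Lib.Helper18.GBT
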