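import Mathlib

set_option autoImplicit false

/-!
# Glauberman's automorphism lemma, part 1: induced automorphisms on quotients and subgroups
-/

namespace Cfsg.Agent.Lib.Helper10.GlaubA

variable {G : Type*} [Group G]

/-- The automorphism induced on the quotient by a characteristic subgroup. -/
noncomputable def autQuot (K : Subgroup G) [hK : K.Characteristic] : MulAut G →* MulAut (G ⧸ K) where
  toFun α := QuotientGroup.congr K K α (Subgroup.characteristic_iff_map_eq.mp hK α)
  map_one' := by
    ext x
    induction x using QuotientGroup.induction_on with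
    | H g => rfl
  map_mul' α β := by
    ext x
    induction x using QuotientGroup.induction_on with
    | H g => rfl

@[simp] theorem autQuot_mk (K : Subgroup G) [hK : K.Characteristic] (α : MulAut G) (g : G) :
    autQuot K α (QuotientGroup.mk g : G ⧸ K) = QuotientGroup.mk (α g) := rfl

theorem mem_ker_autQuot (K : Subgroup G) [hK : K.Characteristic] (α : MulAut G) :
    α ∈ (autQuot K).ker ↔ ∀ g : G, g⁻¹ * α g ∈ K := by
  rw [MonoidHom.mem_ker]
  constructor
  · intro h g
    have : autQuot K α (QuotientGroup.mk g : G ⧸ K) = QuotientGroup.mk g := by rw [h]; rfl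
    rw [autQuot_mk] at this
    exact QuotientGroup.eq.mp this.symm
  · intro h
    ext x
    induction x using QuotientGroup.induction_on with
    | H g =>
      rw [autQuot_mk]
      exact (QuotientGroup.eq.mpr (h g)).symm

/-- The automorphisms of `G` stabilizing the subgroup `M`. -/
def stab (M : Subgroup G) : Subgroup (MulAut G) where
  carrier := {α | ∀ g, α g ∈ M ↔ g ∈ M}
  one_mem' := fun _ => Iff.rfl
  mul_mem' := fun {α β} ha hb g => by
    show α (β g) ∈ M ↔ g ∈ M
    rw [ha, hb]
  inv_mem' := fun {α} ha g => by
    have := ha (α⁻¹ g)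
    rw [MulAut.apply_inv_self] at this
    exact this.symm

theorem mem_stab {M : Subgroup G} {α : MulAut G} : α ∈ stab M ↔ ∀ g, α g ∈ M ↔ g ∈ M := Iff.rfl

/-- Restriction of a stabilizing automorphism to the subgroup. -/
noncomputable def autRes (M : Subgroup G) : stab M →* MulAut M where
  toFun α :=
    { toFun := fun m => ⟨(α : MulAut G) m, (α.2 m).mpr m.2⟩
      invFun := fun m => ⟨(α : MulAut G)⁻¹ m, ((stab M).inv_mem α.2 m).mpr m.2⟩
      left_inv := fun m => Subtype.ext (MulAut.inv_apply_self _ _ _)
      right_inv := fun m => Subtype.ext (MulAut.apply_inv_self _ _ _)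
      map_mul' := fun a b => Subtype.ext (map_mul (α : MulAut G) _ _) }
  map_one' := by ext m; rfl
  map_mul' α β := by ext m; rfl

@[simp] theorem autRes_apply_coe (M : Subgroup G) (α : stab M) (m : M) :
    ((autRes M α m : M) : G) = (α : MulAut G) m := rfl

end Cfsg.Agent.Lib.Helper10.GlaubA
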