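import Mathlib

set_option autoImplicit false

/-!
# Glauberman's automorphism lemma, part 2: two elementary lemmas

* `comm_eq_one_of_commute`: if `β` has odd order, `c = ⁅q, β⁆` is a 2-element commuting with `β`,
  then `c = 1`.
* `aut_eq_conj_of_derivation`: an automorphism fixing a subgroup of odd index pointwise and moving
  every element by an element of an abelian normal 2-subgroup `Z` is conjugation by an element of `Z`.
-/

namespace Cfsg.Agent.Lib.Helper10.GlaubA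

open scoped commutatorElement

theorem comm_eq_one_of_commute {A : Type*} [Group A] (q β : A) (hβ : Odd (orderOf β))
    (hc2 : ∃ k : ℕ, orderOf ⁅q, β⁆ = 2 ^ k) (hcomm : β * ⁅q, β⁆ = ⁅q, β⁆ * β) : ⁅q, β⁆ = 1 := by
  have h1 : β * q⁻¹ * β⁻¹ = q⁻¹ * ⁅q, β⁆ := by
    rw [commutatorElement_def]; group
  have hcomm' : β * ⁅q, β⁆ * β⁻¹ = ⁅q, β⁆ := by rw [hcomm]; group
  have key : ∀ n : ℕ, β ^ n * q⁻¹ * (β ^ n)⁻¹ = q⁻¹ * ⁅q, β⁆ ^ n := by
    intro n
    induction n with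
    | zero => simp
    | succ n ih =>
      have hcn : β * ⁅q, β⁆ ^ n * β⁻¹ = ⁅q, β⁆ ^ n := by
        have : β * ⁅q, β⁆ ^ n * β⁻¹ = (β * ⁅q, β⁆ * β⁻¹) ^ n := by
          rw [conj_pow]
        rw [this, hcomm']
      calc β ^ (n + 1) * q⁻¹ * (β ^ (n + 1))⁻¹
          = β * (β ^ n * q⁻¹ * (β ^ n)⁻¹) * β⁻¹ := by rw [pow_succ']; group
        _ = β * (q⁻¹ * ⁅q, β⁆ ^ n) * β⁻¹ := by rw [ih]
        _ = (β * q⁻¹ * β⁻¹) * (β * ⁅q, β⁆ ^ n * β⁻¹) := by group
        _ = q⁻¹ * ⁅q, β⁆ * ⁅q, β⁆ ^ n := by rw [h1, hcn]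
        _ = q⁻¹ * ⁅q, β⁆ ^ (n + 1) := by rw [pow_succ', mul_assoc]
  have h2 := key (orderOf β)
  rw [pow_orderOf_eq_one] at h2
  simp only [one_mul, inv_one, mul_one] at h2
  have h3 : ⁅q, β⁆ ^ orderOf β = 1 := by
    have := congrArg (fun x => q * x) h2
    simp only [mul_inv_cancel, mul_inv_cancel_left] at this
    exact this.symm
  have h4 : orderOf ⁅q, β⁆ ∣ orderOf β := orderOf_dvd_of_pow_eq_one h3
  obtain ⟨k, hk⟩ := hc2
  rw [hk] at h4
  rcases Nat.eq_zero_or_pos k with h0 | h0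
  · rw [h0, pow_zero] at hk
    exact orderOf_eq_one_iff.mp hk
  · exfalso
    have : 2 ∣ orderOf β := (dvd_pow_self 2 h0.ne').trans h4
    exact (Nat.not_even_iff_odd.mpr hβ) (even_iff_two_dvd.mpr this)

theorem aut_eq_conj_of_derivation {G : Type*} [Group G] [Finite G] (S : Subgroup G)
    (hSi : ¬ 2 ∣ S.index) (Z : Subgroup G) [hZn : Z.Normal]
    (hZc : ∀ a ∈ Z, ∀ b ∈ Z, a * b = b * a) (hZ2 : IsPGroup 2 Z)
    (c : MulAut G) (hcS : ∀ s ∈ S, c s = s) (hcZ : ∀ g : G, c g * g⁻¹ ∈ Z) :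
    ∃ z ∈ Z, ∀ g : G, c g = z * g * z⁻¹ := by
  classical
  letI : CommGroup Z :=
    { (inferInstance : Group Z) with mul_comm := fun a b => Subtype.ext (hZc a a.2 b b.2) }
  letI : Fintype (G ⧸ S) := Fintype.ofFinite _
  have : Fact (Nat.Prime 2) := ⟨Nat.prime_two⟩
  -- the derivation
  let δ : G → Z := fun g => ⟨c g * g⁻¹, hcZ g⟩
  let θ : G →* MulAut Z := MulAut.conjNormal
  have hθ : ∀ (h : G) (z : Z), ((θ h z : Z) : G) = h * z * h⁻¹ := fun h z => rfl
  have hder : ∀ g h : G, δ (g * h) = δ g * θ g (δ h) := by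
    intro g h
    apply Subtype.ext
    show c (g * h) * (g * h)⁻¹ = (c g * g⁻¹) * (g * (c h * h⁻¹) * g⁻¹)
    rw [map_mul]; group
  have hδS : ∀ s ∈ S, δ s = 1 := by
    intro s hs
    apply Subtype.ext
    show c s * s⁻¹ = 1
    rw [hcS s hs, mul_inv_cancel]
  have hδgs : ∀ (g : G) (s : G), s ∈ S → δ (g * s) = δ g := by
    intro g s hs
    rw [hder, hδS s hs, map_one, mul_one]
  have hθδ : ∀ h g : G, θ h (δ g) = (δ h)⁻¹ * δ (h * g) := by
    intro h g
    rw [hder, inv_mul_cancel_left]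
  -- the averaged element
  let w : Z := ∏ x : G ⧸ S, δ x.out
  have hout : ∀ (h : G) (x : G ⧸ S), δ (h * x.out) = δ ((h • x).out) := by
    intro h x
    have hx : (h • x : G ⧸ S) = QuotientGroup.mk (h * x.out) := by
      conv_lhs => rw [← QuotientGroup.out_eq' x]
      rfl
    obtain ⟨s, hs⟩ := QuotientGroup.mk_out_eq_mul S (h * x.out)
    rw [hx, hs, hδgs _ _ s.2]
  have hw : ∀ h : G, θ h w = (δ h)⁻¹ ^ S.index * w := by
    intro h
    show θ h (∏ x : G ⧸ S, δ x.out) = _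
    rw [map_prod]
    have h1 : ∀ x : G ⧸ S, θ h (δ x.out) = (δ h)⁻¹ * δ ((h • x).out) := by
      intro x
      rw [hθδ, hout]
    rw [Finset.prod_congr rfl (fun x _ => h1 x), Finset.prod_mul_distrib, Finset.prod_const,
      Finset.card_univ]
    congr 1
    · congr 1
      rw [Subgroup.index, Nat.card_eq_fintype_card]
    · exact Fintype.prod_equiv (MulAction.toPerm h) _ _ (fun x => rfl)
  -- invert the odd power
  have hcop : (Nat.card Z).Coprime S.index := by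
    obtain ⟨k, hk⟩ := IsPGroup.iff_card.mp hZ2
    rw [hk]
    apply Nat.Coprime.pow_left
    rw [Nat.Prime.coprime_iff_not_dvd Nat.prime_two]
    exact hSi
  let e : Z ≃ Z := powCoprime hcop
  have he : ∀ z : Z, e z = z ^ S.index := fun z => rfl
  obtain ⟨z, hz⟩ : ∃ z : Z, z ^ S.index = w := ⟨e.symm w, by rw [← he]; exact e.apply_symm_apply w⟩
  refine ⟨z, z.2, ?_⟩
  intro h
  have h2 : (δ h) ^ S.index = (z * (θ h z)⁻¹) ^ S.index := by
    rw [mul_pow, inv_pow, ← map_pow, hz, hw h, inv_pow]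
    rw [mul_inv_rev, inv_inv]
    rw [mul_comm w, mul_comm w⁻¹, mul_assoc, inv_mul_cancel, mul_one]
  have h3 : δ h = z * (θ h z)⁻¹ := by
    apply e.injective
    rw [he, he, h2]
  have h4 := congrArg (fun x : Z => (x : G)) h3
  simp only [Subgroup.coe_mul, Subgroup.coe_inv] at h4
  rw [hθ] at h4
  have h5 : c h * h⁻¹ = (z : G) * (h * z * h⁻¹)⁻¹ := h4
  calc c h = (c h * h⁻¹) * h := by group
    _ = (z : G) * (h * z * h⁻¹)⁻¹ * h := by rw [h5]
    _ = z * h * (z : G)⁻¹ := by group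

end Cfsg.Agent.Lib.Helper10.GlaubA
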