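import Mathlib
import Cfsg.Prelude.Def_Local
import Cfsg.Agent.Lib.Helper10.PComp
import Cfsg.Agent.Lib.Helper10.PComp2
import Cfsg.Agent.Lib.Helper10.GlaubA1
import Cfsg.Agent.Lib.Helper10.GlaubA2

set_option autoImplicit false

/-!
# Glauberman's automorphism lemma, part 3: the case `O₂(G) ≠ 1`
-/

namespace Cfsg.Agent.Lib.Helper10.GlaubA

open Cfsg
open scoped commutatorElement

variable {G : Type*} [Group G]

instance ga_pPrimeCore_char (p : ℕ) : (Cfsg.pPrimeCore p G).Characteristic := by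
  rw [Subgroup.characteristic_iff_map_le]
  intro φ
  rw [Subgroup.map_le_iff_le_comap]
  apply sSup_le
  rintro K ⟨hKn, hKc⟩
  rw [← Subgroup.map_le_iff_le_comap]
  apply le_sSup
  refine ⟨hKn.map φ.toMonoidHom φ.surjective, ?_⟩
  rw [Subgroup.card_map_of_injective φ.injective]
  exact hKc

instance ga_pCore_char (p : ℕ) : (Cfsg.pCore p G).Characteristic := by
  rw [Subgroup.characteristic_iff_map_le]
  intro φ
  rw [Subgroup.map_le_iff_le_comap]
  apply sSup_le
  rintro K ⟨hKn, hKc⟩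
  rw [← Subgroup.map_le_iff_le_comap]
  apply le_sSup
  exact ⟨hKn.map φ.toMonoidHom φ.surjective, hKc.map _⟩

/-- `O_{2,2'}(G) ∩ C_G(U) ≤ U` for a normal 2-subgroup `U` when `O(G) = 1`. -/
theorem core_inf_centralizer_le [Finite G] (hO : Cfsg.pPrimeCore 2 G = ⊥) (U : Subgroup G)
    [hUn : U.Normal] (hU : IsPGroup 2 U) :
    (Cfsg.pPrimeCore 2 (G ⧸ U)).comap (QuotientGroup.mk' U) ⊓ Subgroup.centralizer (U : Set G)
      ≤ U := by
  classical
  have : Fact (Nat.Prime 2) := ⟨Nat.prime_two⟩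
  have hKn : (Cfsg.pPrimeCore 2 (G ⧸ U)).Normal := Cfsg.Agent.Lib.Helper1.pPrimeCore_normal 2
  set D : Subgroup G := (Cfsg.pPrimeCore 2 (G ⧸ U)).comap (QuotientGroup.mk' U) ⊓
    Subgroup.centralizer (U : Set G) with hD
  have hDn : D.Normal := inferInstance
  -- the 2-part of D
  have hN2n : (U.subgroupOf D).Normal := inferInstance
  have hN2p : IsPGroup 2 (U.subgroupOf D) := hU.comap_of_injective D.subtype D.subtype_injective
  have hidx : (U.subgroupOf D).index ∣ Nat.card (Cfsg.pPrimeCore 2 (G ⧸ U)) := by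
    have h1 : ((QuotientGroup.mk' U).subgroupMap D).ker = U.subgroupOf D :=
      Cfsg.Agent.Lib.Helper10.ker_subgroupMap_mk' U D
    rw [← h1, Subgroup.index_ker]
    have h2 : ((QuotientGroup.mk' U).subgroupMap D).range = ⊤ :=
      MonoidHom.range_eq_top.mpr ((QuotientGroup.mk' U).subgroupMap_surjective D)
    rw [h2, Subgroup.card_top]
    apply Subgroup.card_dvd_of_le
    rw [Subgroup.map_le_iff_le_comap]
    exact inf_le_left
  have hodd : (Nat.card (Cfsg.pPrimeCore 2 (G ⧸ U))).Coprime 2 :=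
    Cfsg.Agent.Lib.Helper1.pPrimeCore_card_coprime 2
  have hcop : Nat.Coprime (Nat.card (U.subgroupOf D)) (U.subgroupOf D).index := by
    obtain ⟨k, hk⟩ := IsPGroup.iff_card.mp hN2p
    rw [hk]
    apply Nat.Coprime.pow_left
    exact (Nat.Coprime.coprime_dvd_left hidx hodd).symm
  obtain ⟨H, hH⟩ := Subgroup.exists_right_complement'_of_coprime hcop
  have hHcard : Nat.card H = (U.subgroupOf D).index := by
    have h1 := hH.card_mul_card
    have h2 := (U.subgroupOf D).card_mul_index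
    have hpos : 0 < Nat.card (U.subgroupOf D) := Nat.card_pos
    exact Nat.eq_of_mul_eq_mul_left hpos (h1.trans h2.symm)
  -- elements of the 2-part are central in D
  have hcent : ∀ n ∈ U.subgroupOf D, ∀ d : D, d * n = n * d := by
    intro n hn d
    apply Subtype.ext
    have hd : (d : G) ∈ Subgroup.centralizer (U : Set G) := d.2.2
    have := Subgroup.mem_centralizer_iff.mp hd (n : G) (Subgroup.mem_subgroupOf.mp hn)
    simp only [Subgroup.coe_mul]
    exact this.symm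
  -- H is normal in D
  have hHn : H.Normal := by
    constructor
    intro x hx d
    obtain ⟨⟨⟨n, hn⟩, ⟨h, hh⟩⟩, hnh, -⟩ := hH.existsUnique d
    simp only at hnh
    have e : d * x * d⁻¹ = h * x * h⁻¹ := by
      rw [← hnh]
      have c1 := hcent n hn (h * x * h⁻¹)
      calc n * h * x * (n * h)⁻¹ = n * (h * x * h⁻¹) * n⁻¹ := by group
        _ = (h * x * h⁻¹) * n * n⁻¹ := by rw [← c1]
        _ = h * x * h⁻¹ := by group
    rw [e]
    exact H.mul_mem (H.mul_mem hh hx) (H.inv_mem hh)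
  -- H is subnormal in G of odd order, hence trivial
  have hHsn : (H.map D.subtype).IsSubnormal :=
    Subgroup.IsSubnormal.trans' hHn.isSubnormal hDn.isSubnormal
  have hHodd : (Nat.card (H.map D.subtype)).Coprime 2 := by
    rw [Subgroup.card_map_of_injective D.subtype_injective, hHcard]
    exact Nat.Coprime.coprime_dvd_left hidx hodd
  have hHle := Cfsg.Agent.Lib.Helper10.subnormal_coprime_le_pPrimeCore 2 _ hHsn hHodd
  rw [hO, le_bot_iff, Subgroup.map_eq_bot_iff_of_injective _ D.subtype_injective] at hHle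
  rw [hHle, Subgroup.isComplement'_bot_right] at hH
  intro d hd
  have : (⟨d, hd⟩ : D) ∈ U.subgroupOf D := by rw [hH]; exact Subgroup.mem_top _
  exact Subgroup.mem_subgroupOf.mp this

/-- Case `O₂(G) ≠ 1`: an automorphism `c` fixing `S` pointwise and acting trivially on
`(G/O₂(G))/O(G/O₂(G))` is conjugation by an element of `S`. -/
theorem aut_eq_conj_of_trivial_mod [Finite G] (hO : Cfsg.pPrimeCore 2 G = ⊥) (S : Subgroup G)
    (hS : IsPGroup 2 S) (hSi : ¬ 2 ∣ S.index) (c : MulAut G) (hcS : ∀ s ∈ S, c s = s)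
    (hc : autQuot (Cfsg.pCore 2 G) c ∈ (autQuot (Cfsg.pPrimeCore 2 (G ⧸ Cfsg.pCore 2 G))).ker) :
    ∃ z ∈ S, ∀ g : G, c g = z * g * z⁻¹ := by
  classical
  have : Fact (Nat.Prime 2) := ⟨Nat.prime_two⟩
  have hUn : (Cfsg.pCore 2 G).Normal := Cfsg.Agent.Lib.Helper1.pCore_normal 2
  have hU : IsPGroup 2 (Cfsg.pCore 2 G) := Cfsg.Agent.Lib.Helper1.pCore_isPGroup 2
  have hUS : Cfsg.pCore 2 G ≤ S := by
    have := Cfsg.Agent.Lib.Helper1.pCore_le_sylow 2 (hS.toSylow hSi)
    exact this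
  have hcU : ∀ u ∈ Cfsg.pCore 2 G, c u = u := fun u hu => hcS u (hUS hu)
  rw [mem_ker_autQuot] at hc
  -- the displacement lies in K ∩ C(U) ≤ U
  have h1 : ∀ g : G, g⁻¹ * c g ∈ (Cfsg.pPrimeCore 2 (G ⧸ Cfsg.pCore 2 G)).comap
      (QuotientGroup.mk' (Cfsg.pCore 2 G)) := by
    intro g
    rw [Subgroup.mem_comap]
    have := hc (QuotientGroup.mk g)
    rw [autQuot_mk] at this
    exact this
  have h2 : ∀ g : G, g⁻¹ * c g ∈ Subgroup.centralizer ((Cfsg.pCore 2 G : Subgroup G) : Set G) := by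
    intro g
    rw [Subgroup.mem_centralizer_iff]
    intro u hu
    have hgu : g * u * g⁻¹ ∈ Cfsg.pCore 2 G := hUn.conj_mem u hu g
    have h3 := hcU _ hgu
    rw [map_mul, map_mul, hcU u hu, map_inv] at h3
    calc u * (g⁻¹ * c g) = g⁻¹ * (g * u * g⁻¹) * c g := by group
      _ = g⁻¹ * (c g * u * (c g)⁻¹) * c g := by rw [h3]
      _ = g⁻¹ * c g * u := by group
  have h3 : ∀ g : G, g⁻¹ * c g ∈ Cfsg.pCore 2 G ⊓
      Subgroup.centralizer ((Cfsg.pCore 2 G : Subgroup G) : Set G) := by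
    intro g
    exact ⟨core_inf_centralizer_le hO (Cfsg.pCore 2 G) hU ⟨h1 g, h2 g⟩, h2 g⟩
  have hZn : (Cfsg.pCore 2 G ⊓
      Subgroup.centralizer ((Cfsg.pCore 2 G : Subgroup G) : Set G)).Normal := inferInstance
  have h4 : ∀ g : G, c g * g⁻¹ ∈ Cfsg.pCore 2 G ⊓
      Subgroup.centralizer ((Cfsg.pCore 2 G : Subgroup G) : Set G) := by
    intro g
    have := hZn.conj_mem _ (h3 g) g
    have e : g * (g⁻¹ * c g) * g⁻¹ = c g * g⁻¹ := by group
    rwa [e] at this
  obtain ⟨z, hz, hzc⟩ := aut_eq_conj_of_derivation S hSi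
    (Cfsg.pCore 2 G ⊓ Subgroup.centralizer ((Cfsg.pCore 2 G : Subgroup G) : Set G))
    (fun a ha b hb => (Subgroup.mem_centralizer_iff.mp hb.2 a ha.1))
    (hU.to_le inf_le_left) c hcS h4
  exact ⟨z, hUS hz.1, hzc⟩

/-- If `c = ⁅q, β⁆` is conjugation by an element fixed by `β`, `c` is a 2-element and `β` has odd
order, then `c = 1`. -/
theorem comm_eq_one_of_conj (q β : MulAut G) (hβ : Odd (orderOf β))
    (hc2 : ∃ k : ℕ, orderOf ⁅q, β⁆ = 2 ^ k) (z : G) (hβz : β z = z)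
    (hz : ∀ g : G, ⁅q, β⁆ g = z * g * z⁻¹) : ⁅q, β⁆ = 1 := by
  apply comm_eq_one_of_commute q β hβ hc2
  ext g
  show β (⁅q, β⁆ g) = ⁅q, β⁆ (β g)
  rw [hz, hz, map_mul, map_mul, map_inv, hβz]

end Cfsg.Agent.Lib.Helper10.GlaubA
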