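import Mathlib
import Cfsg.Agent.S3072

set_option autoImplicit false

/-!
# Glauberman's automorphism lemma, part 4: localizing fusion of a single element

From the strong Alperin–Goldschmidt theorem: if `a ∈ P` is conjugate to another element of the Sylow
`p`-subgroup `P`, then some `H ≤ P` containing `a` with `C_P(H) ≤ H` and `N_P(H)` Sylow in `N(H)` has
an element of `N(H)` moving `a`.
-/

namespace Cfsg.Agent.Lib.Helper10.GlaubA

theorem fusion_localize {Γ : Type*} [Group Γ] [Finite Γ] {p : ℕ} [Fact p.Prime] (P : Sylow p Γ)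
    (a : Γ) (haP : a ∈ P) (ha1 : a ≠ 1) (g : Γ) (hg : g⁻¹ * a * g ∈ P) (hne : g⁻¹ * a * g ≠ a) :
    ∃ H : Subgroup Γ, H ≤ (P : Subgroup Γ) ∧ a ∈ H ∧
      (P : Subgroup Γ) ⊓ Subgroup.centralizer (H : Set Γ) ≤ H ∧
      ¬ p ∣ ((P : Subgroup Γ) ⊓ Subgroup.normalizer (H : Set Γ)).relIndex
        (Subgroup.normalizer (H : Set Γ)) ∧
      ∃ x ∈ Subgroup.normalizer (H : Set Γ), x⁻¹ * a * x ≠ a := by
  classical
  have hA : ({a} : Set Γ) ⊆ ((P : Subgroup Γ) : Set Γ) := by
    intro b hb; rw [Set.mem_singleton_iff] at hb; subst hb; exact haP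
  have hAg : (fun b => g⁻¹ * b * g) '' ({a} : Set Γ) ⊆ ((P : Subgroup Γ) : Set Γ) := by
    rintro _ ⟨b, hb, rfl⟩
    rw [Set.mem_singleton_iff] at hb; subst hb; exact hg
  obtain ⟨n, H, X, x, c, y, hc, hy, hgeq, hall⟩ :=
    Cfsg.Agent.S3072.result P ({a} : Set Γ) hA ⟨a, rfl, ha1⟩ g hAg
  have hlen : (List.ofFn x).length = n := List.length_ofFn
  -- prefix products
  have key : ∀ k : ℕ, k ≤ n →
      (∃ i : Fin n, (((List.ofFn x).take i.val).prod)⁻¹ * a * ((List.ofFn x).take i.val).prod = a ∧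
        (x i)⁻¹ * a * x i ≠ a) ∨
      (((List.ofFn x).take k).prod)⁻¹ * a * ((List.ofFn x).take k).prod = a := by
    intro k
    induction k with
    | zero => intro _; right; simp
    | succ k ih =>
      intro hk
      rcases ih (Nat.le_of_succ_le hk) with h | h
      · left; exact h
      · have hk' : k < (List.ofFn x).length := by rw [hlen]; exact hk
        have e := List.prod_take_succ (List.ofFn x) k hk'
        have e2 : (List.ofFn x)[k] = x ⟨k, hk⟩ := by
          rw [List.getElem_ofFn]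
        by_cases hx : (x ⟨k, hk⟩)⁻¹ * a * x ⟨k, hk⟩ = a
        · right
          rw [e, e2]
          calc (((List.ofFn x).take k).prod * x ⟨k, hk⟩)⁻¹ * a *
                (((List.ofFn x).take k).prod * x ⟨k, hk⟩)
              = (x ⟨k, hk⟩)⁻¹ * ((((List.ofFn x).take k).prod)⁻¹ * a *
                  ((List.ofFn x).take k).prod) * x ⟨k, hk⟩ := by group
            _ = a := by rw [h, hx]
        · left
          exact ⟨⟨k, hk⟩, h, hx⟩
  rcases key n le_rfl with ⟨i, hi1, hi2⟩ | h
  · obtain ⟨h1, h2, h3, -, -, ⟨hHX, hXN, -, -, -⟩, h7, h8⟩ := hall i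
    refine ⟨H i, h1, ?_, h3, h2, x i, ?_, hi2⟩
    · have := h8 ⟨a, rfl, rfl⟩
      simp only at this
      rw [hi1] at this
      exact this
    · obtain ⟨w, -, hw⟩ := h7
      rw [← hw]
      exact hXN w.2
  · have htake : (List.ofFn x).take n = List.ofFn x := by
      apply List.take_of_length_le
      rw [hlen]
    rw [htake] at h
    have hca : c⁻¹ * a * c = a := by
      have := Subgroup.mem_centralizer_iff.mp hc a rfl
      calc c⁻¹ * a * c = c⁻¹ * (a * c) := by group
        _ = c⁻¹ * (c * a) := by rw [this]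
        _ = a := by group
    have hya : y⁻¹ * a * y ≠ a := by
      intro hy'
      apply hne
      rw [hgeq]
      calc (c * (List.ofFn x).prod * y)⁻¹ * a * (c * (List.ofFn x).prod * y)
          = y⁻¹ * (((List.ofFn x).prod)⁻¹ * (c⁻¹ * a * c) * (List.ofFn x).prod) * y := by group
        _ = a := by rw [hca, h, hy']
    refine ⟨P, le_rfl, haP, inf_le_left, ?_, y, hy, hya⟩
    rw [inf_eq_left.mpr Subgroup.le_normalizer]
    intro hdvd
    exact P.not_dvd_index (hdvd.trans (Subgroup.relIndex_dvd_index_of_le Subgroup.le_normalizer))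

end Cfsg.Agent.Lib.Helper10.GlaubA
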