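import Mathlib
import Cfsg.Prelude.Def_Local
import Cfsg.Agent.S0215
import Cfsg.Agent.Lib.Helper1.Cores
import Cfsg.Agent.Lib.Helper10.SylowSubnormal
import Cfsg.Agent.Lib.Helper10.GlaubA4

set_option autoImplicit false

/-!
# Glauberman's automorphism lemma, part 5: the semidirect product `G ⋊ V` and local data
-/

namespace Cfsg.Agent.Lib.Helper10.GlaubA

open Cfsg SemidirectProduct

universe u

variable {G : Type u} [Group G]

/-- The subgroup `M'' = {g ∈ N_G(R) | ∀ c ∈ V, g⁻¹ c(g) ∈ R}`. -/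
def mpp (R : Subgroup G) (V : Subgroup (MulAut G)) : Subgroup G where
  carrier := {g | g ∈ Subgroup.normalizer (R : Set G) ∧ ∀ c ∈ V, g⁻¹ * c g ∈ R}
  one_mem' := ⟨Subgroup.one_mem _, fun c _ => by simp [R.one_mem]⟩
  mul_mem' := by
    rintro g h ⟨hg1, hg2⟩ ⟨hh1, hh2⟩
    refine ⟨Subgroup.mul_mem _ hg1 hh1, fun c hc => ?_⟩
    have e : (g * h)⁻¹ * c (g * h) = (h⁻¹ * (g⁻¹ * c g) * h⁻¹⁻¹) * (h⁻¹ * c h) := by
      rw [map_mul]; group
    rw [e]
    refine R.mul_mem ?_ (hh2 c hc)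
    exact (Subgroup.mem_normalizer_iff.mp (Subgroup.inv_mem _ hh1) _).mp (hg2 c hc)
  inv_mem' := by
    rintro g ⟨hg1, hg2⟩
    refine ⟨Subgroup.inv_mem _ hg1, fun c hc => ?_⟩
    have e : g⁻¹⁻¹ * c g⁻¹ = g * (g⁻¹ * c g)⁻¹ * g⁻¹ := by
      rw [map_inv]; group
    rw [e]
    exact (Subgroup.mem_normalizer_iff.mp hg1 _).mp (R.inv_mem (hg2 c hc))

theorem mem_mpp {R : Subgroup G} {V : Subgroup (MulAut G)} {g : G} :
    g ∈ mpp R V ↔ g ∈ Subgroup.normalizer (R : Set G) ∧ ∀ c ∈ V, g⁻¹ * c g ∈ R := Iff.rfl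

/-- The Sylow 2-subgroup `S × V` of `G ⋊ V`. -/
def sdP (S : Subgroup G) (V : Subgroup (MulAut G)) (hVS : ∀ c ∈ V, ∀ s ∈ S, c s = s) :
    Subgroup (G ⋊[V.subtype] V) where
  carrier := {γ | γ.left ∈ S}
  one_mem' := S.one_mem
  mul_mem' := fun {a b} ha hb => by
    show (a * b).left ∈ S
    rw [SemidirectProduct.mul_left]
    have : (V.subtype a.right) b.left = b.left := hVS _ a.right.2 _ hb
    rw [this]; exact S.mul_mem ha hb
  inv_mem' := fun {a} ha => by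
    show (a⁻¹).left ∈ S
    rw [SemidirectProduct.inv_left]
    have : (V.subtype a.right⁻¹) a.left⁻¹ = a.left⁻¹ := hVS _ (a.right⁻¹).2 _ (S.inv_mem ha)
    rw [this]; exact S.inv_mem ha

theorem mem_sdP {S : Subgroup G} {V : Subgroup (MulAut G)} {hVS : ∀ c ∈ V, ∀ s ∈ S, c s = s}
    {γ : G ⋊[V.subtype] V} : γ ∈ sdP S V hVS ↔ γ.left ∈ S := Iff.rfl

theorem card_sdP (S : Subgroup G) (V : Subgroup (MulAut G)) (hVS : ∀ c ∈ V, ∀ s ∈ S, c s = s) :
    Nat.card (sdP S V hVS) = Nat.card S * Nat.card V := by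
  rw [← Nat.card_prod]
  exact Nat.card_congr
    { toFun := fun γ => (⟨γ.1.left, γ.2⟩, γ.1.right)
      invFun := fun sc => ⟨⟨sc.1.1, sc.2⟩, sc.1.2⟩
      left_inv := fun γ => rfl
      right_inv := fun sc => rfl }

instance ga_finite_sd [Finite G] (V : Subgroup (MulAut G)) : Finite (G ⋊[V.subtype] V) :=
  Finite.of_equiv _ (SemidirectProduct.equivProd (φ := V.subtype)).symm

theorem index_sdP [Finite G] (S : Subgroup G) (V : Subgroup (MulAut G))
    (hVS : ∀ c ∈ V, ∀ s ∈ S, c s = s) : (sdP S V hVS).index = S.index := by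
  have h1 := (sdP S V hVS).card_mul_index
  rw [card_sdP, SemidirectProduct.card, ← S.card_mul_index] at h1
  have hpos : 0 < Nat.card S * Nat.card V := Nat.mul_pos Nat.card_pos Nat.card_pos
  apply Nat.eq_of_mul_eq_mul_left hpos
  rw [h1]; ring

theorem inl_conj_inr (V : Subgroup (MulAut G)) (g : G) (c : V) :
    (inl g : G ⋊[V.subtype] V)⁻¹ * inr c * inl g = inl (g⁻¹ * (c : MulAut G) g) * inr c := by
  ext <;> simp

theorem inr_conj_inl (V : Subgroup (MulAut G)) (g : G) (c : V) :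
    (inr c : G ⋊[V.subtype] V) * inl g * (inr c)⁻¹ = inl ((c : MulAut G) g) := by
  ext <;> simp

end Cfsg.Agent.Lib.Helper10.GlaubA
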