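import Mathlib
import Cfsg.Agent.Lib.Helper10.GlaubA5

set_option autoImplicit false

/-!
# Glauberman's automorphism lemma, part 6: local data from the Z*-theorem and fusion
-/

namespace Cfsg.Agent.Lib.Helper10.GlaubA

open Cfsg SemidirectProduct

universe u

variable {G : Type u} [Group G]

theorem exists_local_data [Finite G] (hO : Cfsg.pPrimeCore 2 G = ⊥) (S : Subgroup G)
    (hS : IsPGroup 2 S) (hSi : ¬ 2 ∣ S.index)
    (V : Subgroup (MulAut G)) (hVc : ∀ a ∈ V, ∀ b ∈ V, a * b = b * a)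
    (hV2 : ∀ a ∈ V, a * a = 1) (hVS : ∀ c ∈ V, ∀ s ∈ S, c s = s)
    (v : MulAut G) (hv : v ∈ V) (hv1 : v ≠ 1) :
    ∃ R : Subgroup G, R ≤ S ∧ ∃ g₁ ∈ mpp R V, g₁⁻¹ * v g₁ ≠ 1 ∧
      ¬ 2 ∣ (S ⊓ mpp R V).relIndex (mpp R V) := by
  classical
  have : Fact (Nat.Prime 2) := ⟨Nat.prime_two⟩
  have hVp : IsPGroup 2 V := by
    intro a
    refine ⟨1, ?_⟩
    rw [pow_one, pow_two]
    exact Subtype.ext (hV2 a a.2)
  have hPp : IsPGroup 2 (sdP S V hVS) := by
    obtain ⟨a, ha⟩ := IsPGroup.iff_card.mp hS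
    obtain ⟨b, hb⟩ := IsPGroup.iff_card.mp hVp
    apply IsPGroup.of_card (n := a + b)
    rw [card_sdP, ha, hb, pow_add]
  have hPi : ¬ 2 ∣ (sdP S V hVS).index := by rw [index_sdP]; exact hSi
  set PS : Sylow 2 (G ⋊[V.subtype] V) := hPp.toSylow hPi with hPS
  have hmemPS : ∀ γ : G ⋊[V.subtype] V, γ ∈ PS ↔ γ.left ∈ S := fun γ => Iff.rfl
  set vh : G ⋊[V.subtype] V := inr ⟨v, hv⟩ with hvh
  have hvh1 : vh ≠ 1 := by
    intro h
    have : (inr ⟨v, hv⟩ : G ⋊[V.subtype] V) = inr 1 := by rw [map_one]; exact h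
    have := inr_injective this
    exact hv1 (congrArg Subtype.val this)
  have hvh2 : vh * vh = 1 := by
    rw [hvh, ← map_mul]
    have : (⟨v, hv⟩ : V) * ⟨v, hv⟩ = 1 := Subtype.ext (hV2 v hv)
    rw [this, map_one]
  have hvord : orderOf vh = 2 := orderOf_eq_prime (by rw [pow_two]; exact hvh2) hvh1
  have hvP : vh ∈ PS := by
    rw [hmemPS]; exact S.one_mem
  -- the Z*-theorem: `vh` is not isolated
  have hfus : ∃ γ : G ⋊[V.subtype] V, γ * vh * γ⁻¹ ∈ PS ∧ γ * vh * γ⁻¹ ≠ vh := by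
    by_contra hcon
    push Not at hcon
    obtain ⟨N, hNn, hNodd, hN⟩ := Cfsg.Agent.S0215.result PS vh hvord hvP hcon
    apply hv1
    have hcomap : (N.comap (inl : G →* G ⋊[V.subtype] V)) ≤ Cfsg.pPrimeCore 2 G := by
      apply Cfsg.Agent.Lib.Helper1.le_pPrimeCore (hNn.comap _)
      have hd : Nat.card (N.comap (inl : G →* G ⋊[V.subtype] V)) ∣ Nat.card N :=
        Subgroup.card_comap_dvd_of_injective N _ inl_injective
      exact Nat.Coprime.coprime_dvd_left hd (Nat.Coprime.symm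
        (Nat.Prime.coprime_iff_not_dvd Nat.prime_two |>.mpr
          (fun h => (Nat.not_even_iff_odd.mpr hNodd) (even_iff_two_dvd.mpr h))))
    rw [hO] at hcomap
    ext g
    have h1 := hN (inl g)
    have h2 : vh * inl g * vh⁻¹ * (inl g)⁻¹ = inl (v g * g⁻¹) := by
      rw [hvh, inr_conj_inl, ← map_inv, ← map_mul]
    rw [h2] at h1
    have h3 : v g * g⁻¹ ∈ N.comap (inl : G →* G ⋊[V.subtype] V) := h1
    have h4 := hcomap h3
    rw [Subgroup.mem_bot] at h4
    rw [MulAut.one_apply]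
    exact mul_inv_eq_one.mp h4
  obtain ⟨γ, hγP, hγne⟩ := hfus
  have hg1 : (γ⁻¹)⁻¹ * vh * γ⁻¹ ∈ PS := by rw [inv_inv]; exact hγP
  have hg2 : (γ⁻¹)⁻¹ * vh * γ⁻¹ ≠ vh := by rw [inv_inv]; exact hγne
  obtain ⟨H, hHP, hvH, hCH, hSyl, x, hxN, hxv⟩ := fusion_localize PS vh hvP hvh1 γ⁻¹ hg1 hg2
  have hHS : ∀ h ∈ H, h.left ∈ S := fun h hh => (hmemPS h).mp (hHP hh)
  -- (6a) the image of V lies in H
  have hVH : ∀ c : V, (inr c : G ⋊[V.subtype] V) ∈ H := by
    intro c
    apply hCH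
    refine ⟨(hmemPS _).mpr (by rw [left_inr]; exact S.one_mem), ?_⟩
    show inr c ∈ Subgroup.centralizer (H : Set (G ⋊[V.subtype] V))
    rw [Subgroup.mem_centralizer_iff]
    intro h hh
    have hl : (c : MulAut G) h.left = h.left := hVS _ c.2 _ (hHS h hh)
    ext
    · simp [hl]
    · simp only [mul_right, right_inr]
      have e : h.right * c = c * h.right := Subtype.ext (hVc _ h.right.2 _ c.2)
      rw [e]
  -- (6c) left components of elements of H lie in H
  have hleft : ∀ h ∈ H, (inl h.left : G ⋊[V.subtype] V) ∈ H := by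
    intro h hh
    have e : (inl h.left : G ⋊[V.subtype] V) = h * (inr h.right)⁻¹ := by
      rw [eq_mul_inv_iff_mul_eq, inl_left_mul_inr_right]
    rw [e]
    exact H.mul_mem hh (H.inv_mem (hVH _))
  refine ⟨H.comap (inl : G →* G ⋊[V.subtype] V), ?_, ?_⟩
  · intro g hg
    have := hHS _ (Subgroup.mem_comap.mp hg)
    rwa [left_inl] at this
  set R : Subgroup G := H.comap (inl : G →* G ⋊[V.subtype] V) with hR
  have hRmem : ∀ g : G, g ∈ R ↔ (inl g : G ⋊[V.subtype] V) ∈ H := fun g => Iff.rfl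
  -- (6f) membership in mpp
  have hfwd : ∀ g ∈ mpp R V, ∀ h ∈ H, (inl g : G ⋊[V.subtype] V)⁻¹ * h * inl g ∈ H := by
    intro g hg h hh
    obtain ⟨hg1, hg2⟩ := mem_mpp.mp hg
    have e : (inl g : G ⋊[V.subtype] V)⁻¹ * h * inl g =
        inl (g⁻¹ * h.left * g⁻¹⁻¹) * (inl (g⁻¹ * (h.right : MulAut G) g) * inr h.right) := by
      rw [← inl_conj_inr]
      conv_lhs => rw [← inl_left_mul_inr_right h]
      simp only [map_mul, map_inv]
      group
    rw [e]
    refine H.mul_mem ?_ (H.mul_mem ?_ (hVH _))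
    · rw [← hRmem]
      exact (Subgroup.mem_normalizer_iff.mp (Subgroup.inv_mem _ hg1) _).mp
        ((hRmem _).mpr (hleft h hh))
    · rw [← hRmem]
      exact hg2 _ h.right.2
  have hmem_iff : ∀ g : G, g ∈ mpp R V ↔
      (inl g : G ⋊[V.subtype] V) ∈ Subgroup.normalizer (H : Set (G ⋊[V.subtype] V)) := by
    intro g
    constructor
    · intro hg
      rw [Subgroup.mem_normalizer_iff]
      intro h
      constructor
      · intro hh
        have := hfwd g⁻¹ ((mpp R V).inv_mem hg) h hh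
        rwa [map_inv, inv_inv] at this
      · intro hh
        have := hfwd g hg _ hh
        have e : (inl g : G ⋊[V.subtype] V)⁻¹ * (inl g * h * (inl g)⁻¹) * inl g = h := by group
        rwa [e] at this
    · intro hg
      rw [mem_mpp]
      constructor
      · rw [Subgroup.mem_normalizer_iff]
        intro r
        rw [hRmem, hRmem, map_mul, map_mul, map_inv]
        exact Subgroup.mem_normalizer_iff.mp hg _
      · intro c hc
        rw [hRmem]
        have h1 : (inl g : G ⋊[V.subtype] V)⁻¹ * inr ⟨c, hc⟩ * inl g ∈ H := by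
          have := (Subgroup.mem_normalizer_iff.mp (Subgroup.inv_mem _ hg) _).mp (hVH ⟨c, hc⟩)
          rwa [inv_inv] at this
        rw [inl_conj_inr] at h1
        have := H.mul_mem h1 (H.inv_mem (hVH ⟨c, hc⟩))
        rwa [mul_inv_cancel_right] at this
  -- (6d) replace x by its left component
  have hx' : (inl x.left : G ⋊[V.subtype] V) ∈ Subgroup.normalizer (H : Set (G ⋊[V.subtype] V)) := by
    have e : (inl x.left : G ⋊[V.subtype] V) = x * (inr x.right)⁻¹ := by
      rw [eq_mul_inv_iff_mul_eq, inl_left_mul_inr_right]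
    rw [e]
    exact Subgroup.mul_mem _ hxN (Subgroup.inv_mem _ (Subgroup.le_normalizer (hVH _)))
  have hcommV : ∀ c : V, (inr c : G ⋊[V.subtype] V) * vh = vh * inr c := by
    intro c
    rw [hvh, ← map_mul, ← map_mul]
    congr 1
    exact Subtype.ext (hVc _ c.2 _ hv)
  refine ⟨x.left, (hmem_iff _).mpr hx', ?_, ?_⟩
  · intro h1
    apply hxv
    have e1 := inl_conj_inr V x.left ⟨v, hv⟩
    rw [show ((⟨v, hv⟩ : V) : MulAut G) = v from rfl, h1, map_one, one_mul] at e1
    -- (inl x.left)⁻¹ * vh * inl x.left = vh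
    have e2 : x = inl x.left * inr x.right := (inl_left_mul_inr_right x).symm
    rw [e2]
    calc (inl x.left * inr x.right)⁻¹ * vh * (inl x.left * inr x.right)
        = (inr x.right)⁻¹ * ((inl x.left)⁻¹ * vh * inl x.left) * inr x.right := by group
      _ = (inr x.right)⁻¹ * vh * inr x.right := by rw [← hvh] at e1; rw [e1]
      _ = (inr x.right)⁻¹ * (vh * inr x.right) := by group
      _ = (inr x.right)⁻¹ * (inr x.right * vh) := by rw [hcommV]
      _ = vh := by group
  · -- (6h) the Sylow condition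
    set N := Subgroup.normalizer (H : Set (G ⋊[V.subtype] V)) with hN
    set Gh : Subgroup (G ⋊[V.subtype] V) := (inl : G →* G ⋊[V.subtype] V).range with hGh
    have hGhn : Gh.Normal := by
      rw [hGh, range_inl_eq_ker_rightHom]; infer_instance
    have hmapM : (mpp R V).map (inl : G →* G ⋊[V.subtype] V) = N ⊓ Gh := by
      ext γ
      constructor
      · rintro ⟨g, hg, rfl⟩
        exact ⟨(hmem_iff g).mp hg, ⟨g, rfl⟩⟩
      · rintro ⟨h1, ⟨g, rfl⟩⟩
        exact ⟨g, (hmem_iff g).mpr h1, rfl⟩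
    have hmapSM : (S ⊓ mpp R V).map (inl : G →* G ⋊[V.subtype] V) =
        ((PS : Subgroup (G ⋊[V.subtype] V)) ⊓ N) ⊓ (N ⊓ Gh) := by
      ext γ
      constructor
      · rintro ⟨g, ⟨hgS, hgM⟩, rfl⟩
        refine ⟨⟨?_, (hmem_iff g).mp hgM⟩, (hmem_iff g).mp hgM, ⟨g, rfl⟩⟩
        show (inl g : G ⋊[V.subtype] V).left ∈ S
        rw [left_inl]; exact hgS
      · rintro ⟨⟨h1, h2⟩, -, ⟨g, rfl⟩⟩
        refine ⟨g, ⟨?_, (hmem_iff g).mpr h2⟩, rfl⟩
        have : (inl g : G ⋊[V.subtype] V).left ∈ S := h1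
        rwa [left_inl] at this
    rw [← Subgroup.relIndex_map_map_of_injective (f := (inl : G →* G ⋊[V.subtype] V))
      (S ⊓ mpp R V) (mpp R V) inl_injective, hmapM, hmapSM,
      Subgroup.inf_relIndex_right]
    have hnorm : (PS : Subgroup (G ⋊[V.subtype] V)) ⊓ N ≤
        Subgroup.normalizer ((N ⊓ Gh : Subgroup (G ⋊[V.subtype] V)) : Set (G ⋊[V.subtype] V)) := by
      intro n hn
      have hnN : n ∈ N := hn.2
      rw [Subgroup.mem_normalizer_iff]
      intro y
      constructor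
      · rintro ⟨hy1, hy2⟩
        exact ⟨N.mul_mem (N.mul_mem hnN hy1) (N.inv_mem hnN), hGhn.conj_mem y hy2 n⟩
      · rintro ⟨hy1, hy2⟩
        constructor
        · have := N.mul_mem (N.mul_mem (N.inv_mem hnN) hy1) hnN
          have e : n⁻¹ * (n * y * n⁻¹) * n = y := by group
          rwa [e] at this
        · have := hGhn.conj_mem _ hy2 n⁻¹
          have e : n⁻¹ * (n * y * n⁻¹) * n⁻¹⁻¹ = y := by group
          rwa [e] at this
    rw [← Cfsg.Agent.Lib.Helper10.relIndex_sup_of_le_normalizer' _ _ hnorm]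
    intro hdvd
    apply hSyl
    have e2 := Subgroup.relIndex_mul_relIndex ((PS : Subgroup (G ⋊[V.subtype] V)) ⊓ N)
      (((PS : Subgroup (G ⋊[V.subtype] V)) ⊓ N) ⊔ (N ⊓ Gh)) N le_sup_left
      (sup_le inf_le_right inf_le_left)
    exact hdvd.trans (Dvd.intro _ e2)

end Cfsg.Agent.Lib.Helper10.GlaubA
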