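import Mathlib
import Cfsg.Agent.Lib.Helper10.GlaubA3
import Cfsg.Agent.Lib.Helper10.GlaubA6

set_option autoImplicit false

/-!
# Glauberman's automorphism lemma, part 7: reductions (quotients)
-/

namespace Cfsg.Agent.Lib.Helper10.GlaubA

open Cfsg
open scoped commutatorElement

universe u

/-- Glauberman's lemma for the group `G`: if a 2-group `Q` and an odd-order group `B` normalizing `Q`
of automorphisms both fix a Sylow 2-subgroup pointwise, then `⁅Q, B⁆` acts trivially on `G/O(G)`. -/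
def GAProp (G : Type u) [Group G] : Prop :=
  ∀ (S : Subgroup G), IsPGroup 2 S → ¬ 2 ∣ S.index →
  ∀ (Q B : Subgroup (MulAut G)), IsPGroup 2 Q → (∀ β ∈ B, Odd (orderOf β)) →
  (∀ β ∈ B, ∀ q ∈ Q, β * q * β⁻¹ ∈ Q) →
  (∀ q ∈ Q, ∀ s ∈ S, q s = s) → (∀ β ∈ B, ∀ s ∈ S, β s = s) →
  ∀ q ∈ Q, ∀ β ∈ B, ⁅q, β⁆ ∈ (autQuot (Cfsg.pPrimeCore 2 G)).ker

variable {G : Type u} [Group G]

theorem comm_mem_of_normalizes {Q B : Subgroup (MulAut G)}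
    (hBQ : ∀ β ∈ B, ∀ q ∈ Q, β * q * β⁻¹ ∈ Q) {q β : MulAut G} (hq : q ∈ Q) (hβ : β ∈ B) :
    ⁅q, β⁆ ∈ Q := by
  have : ⁅q, β⁆ = q * (β * q⁻¹ * β⁻¹) := by rw [commutatorElement_def]; group
  rw [this]
  exact Q.mul_mem hq (hBQ β hβ _ (Q.inv_mem hq))

theorem orderOf_two_pow_of_mem {A : Type*} [Group A] {Q : Subgroup A} (hQ : IsPGroup 2 Q) {c : A}
    (hc : c ∈ Q) : ∃ k : ℕ, orderOf c = 2 ^ k := by
  obtain ⟨k, hk⟩ := (IsPGroup.iff_orderOf.1 hQ) ⟨c, hc⟩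
  exact ⟨k, by rw [← hk]; exact (Subgroup.orderOf_mk c hc).symm⟩

/-- Transfer of the hypotheses to the quotient by a characteristic subgroup. -/
theorem gaprop_quot_apply [Finite G] (K : Subgroup G) [hK : K.Characteristic]
    (hIH : GAProp (G ⧸ K))
    (S : Subgroup G) (hS : IsPGroup 2 S) (hSi : ¬ 2 ∣ S.index)
    (Q B : Subgroup (MulAut G)) (hQ : IsPGroup 2 Q) (hB : ∀ β ∈ B, Odd (orderOf β))
    (hBQ : ∀ β ∈ B, ∀ q ∈ Q, β * q * β⁻¹ ∈ Q)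
    (hQS : ∀ q ∈ Q, ∀ s ∈ S, q s = s) (hBS : ∀ β ∈ B, ∀ s ∈ S, β s = s)
    (q : MulAut G) (hq : q ∈ Q) (β : MulAut G) (hβ : β ∈ B) :
    autQuot K ⁅q, β⁆ ∈ (autQuot (Cfsg.pPrimeCore 2 (G ⧸ K))).ker := by
  have hidx : ¬ 2 ∣ (S.map (QuotientGroup.mk' K)).index := by
    intro h
    exact hSi (h.trans (Subgroup.index_map_dvd S (QuotientGroup.mk'_surjective K)))
  have h := hIH (S.map (QuotientGroup.mk' K)) (hS.map _) hidx (Q.map (autQuot K)) (B.map (autQuot K))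
    (hQ.map _) ?_ ?_ ?_ ?_ (autQuot K q) ⟨q, hq, rfl⟩ (autQuot K β) ⟨β, hβ, rfl⟩
  · rw [map_commutatorElement]; exact h
  · rintro _ ⟨b, hb, rfl⟩
    exact Odd.of_dvd_nat (hB b hb) (orderOf_map_dvd _ b)
  · rintro _ ⟨b, hb, rfl⟩ _ ⟨a, ha, rfl⟩
    refine ⟨b * a * b⁻¹, hBQ b hb a ha, ?_⟩
    rw [map_mul, map_mul, map_inv]
  · rintro _ ⟨a, ha, rfl⟩ _ ⟨s, hs, rfl⟩
    show autQuot K a (QuotientGroup.mk s) = QuotientGroup.mk s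
    rw [autQuot_mk, hQS a ha s hs]
  · rintro _ ⟨b, hb, rfl⟩ _ ⟨s, hs, rfl⟩
    show autQuot K b (QuotientGroup.mk s) = QuotientGroup.mk s
    rw [autQuot_mk, hBS b hb s hs]

/-- Step 0: reduction modulo `O(G)`. -/
theorem gaprop_step0 [Finite G] (hIH : GAProp (G ⧸ Cfsg.pPrimeCore 2 G)) : GAProp G := by
  intro S hS hSi Q B hQ hB hBQ hQS hBS q hq β hβ
  have h := gaprop_quot_apply (Cfsg.pPrimeCore 2 G) hIH S hS hSi Q B hQ hB hBQ hQS hBS q hq β hβ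
  rw [mem_ker_autQuot] at h ⊢
  intro g
  have h1 := h (QuotientGroup.mk g)
  rw [autQuot_mk] at h1
  have h2 : Cfsg.pPrimeCore 2 (G ⧸ Cfsg.pPrimeCore 2 G) = ⊥ :=
    Cfsg.Agent.Lib.Helper10.pPrimeCore_quotient_eq_bot 2
  rw [h2, Subgroup.mem_bot] at h1
  have h3 : ((g⁻¹ * ⁅q, β⁆ g : G) : G ⧸ Cfsg.pPrimeCore 2 G) = 1 := h1
  exact (QuotientGroup.eq_one_iff _).mp h3

/-- Case A: `O(G) = 1`, reduction modulo `O₂(G)`. -/
theorem gaprop_caseA [Finite G] (hO : Cfsg.pPrimeCore 2 G = ⊥)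
    (hIH : GAProp (G ⧸ Cfsg.pCore 2 G)) : GAProp G := by
  intro S hS hSi Q B hQ hB hBQ hQS hBS q hq β hβ
  have h := gaprop_quot_apply (Cfsg.pCore 2 G) hIH S hS hSi Q B hQ hB hBQ hQS hBS q hq β hβ
  have hcQ : ⁅q, β⁆ ∈ Q := comm_mem_of_normalizes hBQ hq hβ
  obtain ⟨z, hzS, hz⟩ := aut_eq_conj_of_trivial_mod hO S hS hSi ⁅q, β⁆
    (fun s hs => hQS _ hcQ s hs) h
  have h1 := comm_eq_one_of_conj q β (hB β hβ) (orderOf_two_pow_of_mem hQ hcQ) z (hBS β hβ z hzS) hz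
  rw [h1]
  exact Subgroup.one_mem _

end Cfsg.Agent.Lib.Helper10.GlaubA
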