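import Mathlib
import Cfsg.Agent.Lib.Helper10.GlaubA7

set_option autoImplicit false

/-!
# Glauberman's automorphism lemma, part 8: the case `O(G) = O₂(G) = 1` and the main theorem
-/

namespace Cfsg.Agent.Lib.Helper10.GlaubA

open Cfsg
open scoped commutatorElement

universe u

variable {G : Type u} [Group G]

theorem map_mem_mpp {R : Subgroup G} {V : Subgroup (MulAut G)} (α : MulAut G)
    (hαR : ∀ r ∈ R, α r = r) (hαV : ∀ c ∈ V, α⁻¹ * c * α ∈ V) {g : G} (hg : g ∈ mpp R V) :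
    α g ∈ mpp R V := by
  obtain ⟨hg1, hg2⟩ := mem_mpp.mp hg
  rw [mem_mpp]
  constructor
  · rw [Subgroup.mem_normalizer_iff]
    intro r
    constructor
    · intro hr
      have h1 : g * r * g⁻¹ ∈ R := (Subgroup.mem_normalizer_iff.mp hg1 r).mp hr
      have h2 := hαR _ h1
      rw [map_mul, map_mul, map_inv, hαR r hr] at h2
      rw [h2]; exact h1
    · intro hr
      have h1 : g⁻¹ * (α g * r * (α g)⁻¹) * g⁻¹⁻¹ ∈ R :=
        (Subgroup.mem_normalizer_iff.mp (Subgroup.inv_mem _ hg1) _).mp hr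
      have h2 := hαR _ h1
      rw [map_mul, map_mul, map_inv, map_inv, map_inv, hαR _ hr] at h2
      have e : (α g)⁻¹ * (α g * r * (α g)⁻¹) * (α g)⁻¹⁻¹ = r := by group
      rw [e] at h2
      rw [h2]; exact h1
  · intro c hc
    have h1 := hg2 _ (hαV c hc)
    have h2 := hαR _ h1
    rw [map_mul, map_inv] at h2
    have e : α ((α⁻¹ * c * α) g) = c (α g) := by
      show α (α⁻¹ (c (α g))) = c (α g)
      exact MulAut.apply_inv_self _ _ _
    rw [e] at h2
    rw [h2]; exact h1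

theorem mem_stab_mpp {R : Subgroup G} {V : Subgroup (MulAut G)} (α : MulAut G)
    (hαR : ∀ r ∈ R, α r = r) (hαV : ∀ c ∈ V, α⁻¹ * c * α ∈ V) (hαV' : ∀ c ∈ V, α * c * α⁻¹ ∈ V) :
    α ∈ stab (mpp R V) := by
  rw [mem_stab]
  intro g
  constructor
  · intro h
    have hαR' : ∀ r ∈ R, α⁻¹ r = r := by
      intro r hr
      conv_lhs => rw [← hαR r hr]
      exact MulAut.inv_apply_self _ _ _
    have := map_mem_mpp α⁻¹ hαR' (fun c hc => by rw [inv_inv]; exact hαV' c hc) h
    rwa [MulAut.inv_apply_self] at this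
  · exact map_mem_mpp α hαR hαV

theorem eq_one_of_mem_ker_of_core_eq_bot (hO : Cfsg.pPrimeCore 2 G = ⊥) {α : MulAut G}
    (h : α ∈ (autQuot (Cfsg.pPrimeCore 2 G)).ker) : α = 1 := by
  rw [mem_ker_autQuot] at h
  ext g
  have := h g
  rw [hO, Subgroup.mem_bot] at this
  rw [MulAut.one_apply]
  exact (inv_mul_eq_one.mp this).symm

end Cfsg.Agent.Lib.Helper10.GlaubA
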