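import Mathlib
import Cfsg.Agent.Lib.Helper10.GlaubA8

set_option autoImplicit false

/-!
# Glauberman's automorphism lemma, part 9: the case `O(G) = O₂(G) = 1`
-/

namespace Cfsg.Agent.Lib.Helper10.GlaubA

open Cfsg
open scoped commutatorElement

universe u

variable {G : Type u} [Group G]

/-- The generating set of `⁅Q, B⁆`. -/
def commSet (Q B : Subgroup (MulAut G)) : Set (MulAut G) :=
  {c | ∃ q ∈ Q, ∃ β ∈ B, c = ⁅q, β⁆}

set_option maxHeartbeats 800000 in
theorem caseB_false [Finite G] (hO : Cfsg.pPrimeCore 2 G = ⊥) (hU : Cfsg.pCore 2 G = ⊥)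
    (hIH : ∀ M : Subgroup G, M ≠ ⊤ → GAProp ↥M)
    (S : Subgroup G) (hS : IsPGroup 2 S) (hSi : ¬ 2 ∣ S.index)
    (Q B : Subgroup (MulAut G)) (hQ : IsPGroup 2 Q) (hB : ∀ β ∈ B, Odd (orderOf β))
    (hBQ : ∀ β ∈ B, ∀ q ∈ Q, β * q * β⁻¹ ∈ Q)
    (hQS : ∀ q ∈ Q, ∀ s ∈ S, q s = s) (hBS : ∀ β ∈ B, ∀ s ∈ S, β s = s)
    (hQ1 : Q = Subgroup.closure (commSet Q B)) (hQne : Q ≠ ⊥) : False := by
  classical
  have : Fact (Nat.Prime 2) := ⟨Nat.prime_two⟩
  -- a central involution of Q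
  have hQnt : Nontrivial Q := (Subgroup.nontrivial_iff_ne_bot Q).mpr hQne
  have hcn : Nontrivial (Subgroup.center Q) := hQ.center_nontrivial
  have h2 : 2 ∣ Nat.card (Subgroup.center Q) := by
    obtain ⟨j, hj⟩ := IsPGroup.iff_card.mp (hQ.to_subgroup (Subgroup.center Q))
    rw [hj]
    rcases Nat.eq_zero_or_pos j with h0 | h0
    · rw [h0, pow_zero] at hj
      have := Finite.one_lt_card (α := Subgroup.center Q)
      omega
    · exact dvd_pow_self 2 h0.ne'
  obtain ⟨v₀, hv₀⟩ := exists_prime_orderOf_dvd_card' (G := Subgroup.center Q) 2 h2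
  set v : MulAut G := ((v₀ : Q) : MulAut G) with hv
  have hvQ : v ∈ Q := (v₀ : Q).2
  have hv2 : v * v = 1 := by
    have : v₀ ^ 2 = 1 := by rw [← hv₀, pow_orderOf_eq_one]
    rw [pow_two] at this
    have := congrArg (fun x : Subgroup.center Q => ((x : Q) : MulAut G)) this
    exact this
  have hv1 : v ≠ 1 := by
    intro h
    have : v₀ = 1 := Subtype.ext (Subtype.ext h)
    rw [this, orderOf_one] at hv₀
    omega
  have hvc : ∀ q ∈ Q, q * v = v * q := by
    intro q hq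
    have := Subgroup.mem_center_iff.mp v₀.2 ⟨q, hq⟩
    exact congrArg Subtype.val this
  -- V
  set V : Subgroup (MulAut G) := Subgroup.closure {c | ∃ β ∈ B, c = β * v * β⁻¹} with hV
  have hVgen : ∀ c ∈ {c | ∃ β ∈ B, c = β * v * β⁻¹},
      c ∈ Q ⊓ Subgroup.centralizer (Q : Set (MulAut G)) := by
    rintro _ ⟨β, hβ, rfl⟩
    refine ⟨hBQ β hβ v hvQ, ?_⟩
    show β * v * β⁻¹ ∈ Subgroup.centralizer (Q : Set (MulAut G))
    rw [Subgroup.mem_centralizer_iff]
    intro q hq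
    have hq' : β⁻¹ * q * β⁻¹⁻¹ ∈ Q := hBQ β⁻¹ (B.inv_mem hβ) q hq
    have := hvc _ hq'
    calc q * (β * v * β⁻¹) = β * ((β⁻¹ * q * β⁻¹⁻¹) * v) * β⁻¹ := by group
      _ = β * (v * (β⁻¹ * q * β⁻¹⁻¹)) * β⁻¹ := by rw [this]
      _ = β * v * β⁻¹ * q := by group
  have hVle : V ≤ Q ⊓ Subgroup.centralizer (Q : Set (MulAut G)) := by
    rw [hV, Subgroup.closure_le]; exact hVgen
  have hVQ : V ≤ Q := hVle.trans inf_le_left
  have hVc : ∀ a ∈ V, ∀ b ∈ V, a * b = b * a := by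
    intro a ha b hb
    exact (Subgroup.mem_centralizer_iff.mp (hVle hb).2 a (hVQ ha))
  have hV2 : ∀ a ∈ V, a * a = 1 := by
    intro a ha
    induction ha using Subgroup.closure_induction with
    | mem x hx =>
      obtain ⟨β, -, rfl⟩ := hx
      calc β * v * β⁻¹ * (β * v * β⁻¹) = β * (v * v) * β⁻¹ := by group
        _ = 1 := by rw [hv2]; group
    | one => simp
    | mul x y hx hy ihx ihy =>
      have hc := hVc x hx y hy
      calc x * y * (x * y) = x * (y * x) * y := by group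
        _ = x * (x * y) * y := by rw [hc]
        _ = (x * x) * (y * y) := by group
        _ = 1 := by rw [ihx, ihy, mul_one]
    | inv x hx ihx =>
      have : x⁻¹ = x := inv_eq_of_mul_eq_one_left ihx
      rw [this]; exact ihx
  have hVS : ∀ c ∈ V, ∀ s ∈ S, c s = s := fun c hc s hs => hQS c (hVQ hc) s hs
  have hvV : v ∈ V := by
    apply Subgroup.subset_closure
    exact ⟨1, B.one_mem, by simp⟩
  have hBV : ∀ β ∈ B, ∀ c ∈ V, β * c * β⁻¹ ∈ V := by
    intro β hβ c hc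
    induction hc using Subgroup.closure_induction with
    | mem x hx =>
      obtain ⟨β', hβ', rfl⟩ := hx
      apply Subgroup.subset_closure
      exact ⟨β * β', B.mul_mem hβ hβ', by group⟩
    | one => simp [V.one_mem]
    | mul x y _ _ ihx ihy =>
      have : β * (x * y) * β⁻¹ = (β * x * β⁻¹) * (β * y * β⁻¹) := by group
      rw [this]; exact V.mul_mem ihx ihy
    | inv x _ ihx =>
      have : β * x⁻¹ * β⁻¹ = (β * x * β⁻¹)⁻¹ := by group
      rw [this]; exact V.inv_mem ihx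
  -- the local data
  obtain ⟨R, hRS, g₁, hg₁M, hg₁ne, hSyl⟩ := exists_local_data hO S hS hSi V hVc hV2 hVS v hvV hv1
  have hg₁R : g₁⁻¹ * v g₁ ∈ R := (mem_mpp.mp hg₁M).2 v hvV
  set M := mpp R V with hM
  -- M is proper
  have hMtop : M ≠ ⊤ := by
    intro htop
    have hRn : R.Normal := by
      rw [← Subgroup.normalizer_eq_top_iff]
      rw [eq_top_iff]
      intro g _
      have : g ∈ M := by rw [htop]; exact Subgroup.mem_top g
      exact (mem_mpp.mp this).1
    have hRU : R ≤ Cfsg.pCore 2 G := Cfsg.Agent.Lib.Helper1.le_pCore hRn (hS.to_le hRS)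
    rw [hU] at hRU
    exact hg₁ne ((Subgroup.mem_bot).mp (hRU hg₁R))
  -- invariance of M
  have hQstab : Q ≤ stab M := by
    intro q hq
    apply mem_stab_mpp q (fun r hr => hQS q hq r (hRS hr))
    · intro c hc
      have := (Subgroup.mem_centralizer_iff.mp (hVle hc).2 q hq)
      have e : q⁻¹ * c * q = c := by
        calc q⁻¹ * c * q = q⁻¹ * (c * q) := by group
          _ = q⁻¹ * (q * c) := by rw [this]
          _ = c := by group
      rw [e]; exact hc
    · intro c hc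
      have := (Subgroup.mem_centralizer_iff.mp (hVle hc).2 q hq)
      have e : q * c * q⁻¹ = c := by
        rw [this]; group
      rw [e]; exact hc
  have hBstab : B ≤ stab M := by
    intro β hβ
    apply mem_stab_mpp β (fun r hr => hBS β hβ r (hRS hr))
    · intro c hc
      have := hBV β⁻¹ (B.inv_mem hβ) c hc
      rwa [inv_inv] at this
    · exact hBV β hβ
  -- apply the induction hypothesis to M
  have hIHM := hIH M hMtop ((S ⊓ M).subgroupOf M)
    ((hS.to_le inf_le_left).comap_of_injective M.subtype M.subtype_injective) hSyl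
    ((Q.subgroupOf (stab M)).map (autRes M)) ((B.subgroupOf (stab M)).map (autRes M))
    ((hQ.comap_of_injective (stab M).subtype (stab M).subtype_injective).map _) ?_ ?_ ?_ ?_
  rotate_left
  · rintro _ ⟨b, hb, rfl⟩
    have h1 : orderOf (autRes M b) ∣ orderOf b := orderOf_map_dvd _ b
    have h2 : orderOf b = orderOf (b : MulAut G) := (Subgroup.orderOf_coe b).symm
    rw [h2] at h1
    exact Odd.of_dvd_nat (hB _ (Subgroup.mem_subgroupOf.mp hb)) h1
  · rintro _ ⟨b, hb, rfl⟩ _ ⟨a, ha, rfl⟩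
    refine ⟨b * a * b⁻¹, ?_, by rw [map_mul, map_mul, map_inv]⟩
    show b * a * b⁻¹ ∈ Q.subgroupOf (stab M)
    rw [Subgroup.mem_subgroupOf]
    exact hBQ _ (Subgroup.mem_subgroupOf.mp hb) _ (Subgroup.mem_subgroupOf.mp ha)
  · rintro _ ⟨a, ha, rfl⟩ s hs
    apply Subtype.ext
    rw [autRes_apply_coe]
    exact hQS _ (Subgroup.mem_subgroupOf.mp ha) _ (Subgroup.mem_subgroupOf.mp hs).1
  · rintro _ ⟨b, hb, rfl⟩ s hs
    apply Subtype.ext
    rw [autRes_apply_coe]
    exact hBS _ (Subgroup.mem_subgroupOf.mp hb) _ (Subgroup.mem_subgroupOf.mp hs).1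
  -- all of Q acts trivially on M / O(M)
  have hQW : Q ≤ (((autQuot (Cfsg.pPrimeCore 2 ↥M)).ker.comap (autRes M)).map (stab M).subtype) := by
    conv_lhs => rw [hQ1]
    rw [Subgroup.closure_le]
    rintro _ ⟨q, hq, β, hβ, rfl⟩
    refine ⟨⟨⁅q, β⁆, (stab M).mul_mem ((stab M).mul_mem ((stab M).mul_mem (hQstab hq)
      (hBstab hβ)) ((stab M).inv_mem (hQstab hq))) ((stab M).inv_mem (hBstab hβ))⟩, ?_, rfl⟩
    rw [SetLike.mem_coe, Subgroup.mem_comap]
    have h1 := hIHM (autRes M ⟨q, hQstab hq⟩) ⟨⟨q, hQstab hq⟩, Subgroup.mem_subgroupOf.mpr hq, rfl⟩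
      (autRes M ⟨β, hBstab hβ⟩) ⟨⟨β, hBstab hβ⟩, Subgroup.mem_subgroupOf.mpr hβ, rfl⟩
    rw [← map_commutatorElement] at h1
    exact h1
  obtain ⟨v', hv'ker, hv'eq⟩ := hQW hvQ
  rw [SetLike.mem_coe, Subgroup.mem_comap, mem_ker_autQuot] at hv'ker
  have h3 := hv'ker ⟨g₁, hg₁M⟩
  -- the element g₁⁻¹ v(g₁) has odd order and 2-power order
  have hval : ((⟨g₁, hg₁M⟩⁻¹ * (autRes M v') ⟨g₁, hg₁M⟩ : ↥M) : G) = g₁⁻¹ * v g₁ := by
    rw [Subgroup.coe_mul, autRes_apply_coe, Subgroup.coe_inv]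
    have : ((v' : stab M) : MulAut G) = v := hv'eq
    rw [this]
  have hodd : (orderOf (g₁⁻¹ * v g₁)).Coprime 2 := by
    rw [← hval, Subgroup.orderOf_coe]
    have hd := Subgroup.orderOf_dvd_natCard _ h3
    exact Nat.Coprime.coprime_dvd_left hd (Cfsg.Agent.Lib.Helper1.pPrimeCore_card_coprime 2)
  obtain ⟨k, hk⟩ := orderOf_two_pow_of_mem (hS.to_le hRS) hg₁R
  rw [hk] at hodd
  rcases Nat.eq_zero_or_pos k with h0 | h0
  · rw [h0, pow_zero] at hk
    exact hg₁ne (orderOf_eq_one_iff.mp hk)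
  · have : 2 ∣ Nat.gcd (2 ^ k) 2 := Nat.dvd_gcd (dvd_pow_self 2 h0.ne') dvd_rfl
    rw [Nat.Coprime] at hodd
    rw [hodd] at this
    omega

end Cfsg.Agent.Lib.Helper10.GlaubA
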