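import Mathlib
import Cfsg.Agent.Lib.Helper10.GlaubA9

set_option autoImplicit false

/-!
# Glauberman's automorphism lemma: the main theorem

If a 2-group `Q` of automorphisms of the finite group `G` and a group `B` of automorphisms of odd
order normalizing `Q` both fix a Sylow 2-subgroup of `G` pointwise, then every commutator `⁅q, β⁆`
acts trivially on `G / O(G)`.
-/

namespace Cfsg.Agent.Lib.Helper10.GlaubA

open Cfsg
open scoped commutatorElement

universe u

variable {G : Type u} [Group G]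

theorem commSet_subset {Q B : Subgroup (MulAut G)} (hBQ : ∀ β ∈ B, ∀ q ∈ Q, β * q * β⁻¹ ∈ Q) :
    commSet Q B ⊆ (Q : Set (MulAut G)) := by
  rintro _ ⟨q, hq, β, hβ, rfl⟩
  exact comm_mem_of_normalizes hBQ hq hβ

theorem conj_mem_closure_commSet {Q B : Subgroup (MulAut G)}
    (hBQ : ∀ β ∈ B, ∀ q ∈ Q, β * q * β⁻¹ ∈ Q) {β : MulAut G} (hβ : β ∈ B) {c : MulAut G}
    (hc : c ∈ Subgroup.closure (commSet Q B)) :
    β * c * β⁻¹ ∈ Subgroup.closure (commSet Q B) := by
  induction hc using Subgroup.closure_induction with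
  | mem x hx =>
    obtain ⟨q, hq, β', hβ', rfl⟩ := hx
    apply Subgroup.subset_closure
    refine ⟨β * q * β⁻¹, hBQ β hβ q hq, β * β' * β⁻¹, B.mul_mem (B.mul_mem hβ hβ') (B.inv_mem hβ), ?_⟩
    rw [commutatorElement_def, commutatorElement_def]; group
  | one => simp [Subgroup.one_mem]
  | mul x y _ _ ihx ihy =>
    have : β * (x * y) * β⁻¹ = (β * x * β⁻¹) * (β * y * β⁻¹) := by group
    rw [this]; exact Subgroup.mul_mem _ ihx ihy
  | inv x _ ihx =>
    have : β * x⁻¹ * β⁻¹ = (β * x * β⁻¹)⁻¹ := by group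
    rw [this]; exact Subgroup.inv_mem _ ihx

/-- Case B: `O(G) = O₂(G) = 1`. -/
theorem gaprop_caseB [Finite G] (hO : Cfsg.pPrimeCore 2 G = ⊥) (hU : Cfsg.pCore 2 G = ⊥)
    (hIH : ∀ M : Subgroup G, M ≠ ⊤ → GAProp ↥M) : GAProp G := by
  intro S hS hSi Q B hQ hB hBQ hQS hBS
  -- induction on the order of Q
  suffices key : ∀ n : ℕ, ∀ Q : Subgroup (MulAut G), Nat.card Q = n → IsPGroup 2 Q →
      (∀ β ∈ B, ∀ q ∈ Q, β * q * β⁻¹ ∈ Q) → (∀ q ∈ Q, ∀ s ∈ S, q s = s) →
      ∀ q ∈ Q, ∀ β ∈ B, ⁅q, β⁆ = 1 by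
    intro q hq β hβ
    rw [key _ Q rfl hQ hBQ hQS q hq β hβ]
    exact Subgroup.one_mem _
  intro n
  induction n using Nat.strong_induction_on with
  | _ n ih =>
    intro Q hn hQ hBQ hQS q hq β hβ
    by_cases hQ1 : Subgroup.closure (commSet Q B) = Q
    · by_cases hQb : Q = ⊥
      · rw [hQb, Subgroup.mem_bot] at hq
        rw [hq, commutatorElement_def]; group
      · exact (caseB_false hO hU hIH S hS hSi Q B hQ hB hBQ hQS hBS hQ1.symm hQb).elim
    · have hle : Subgroup.closure (commSet Q B) ≤ Q := by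
        rw [Subgroup.closure_le]; exact commSet_subset hBQ
      have hlt : Nat.card (Subgroup.closure (commSet Q B)) < n := by
        rw [← hn]
        rcases (Subgroup.card_le_of_le hle).lt_or_eq with h | h
        · exact h
        · exact absurd (Subgroup.eq_of_le_of_card_ge hle h.ge) hQ1
      have hcQ : ⁅q, β⁆ ∈ Q := comm_mem_of_normalizes hBQ hq hβ
      have hc1 : ⁅q, β⁆ ∈ Subgroup.closure (commSet Q B) :=
        Subgroup.subset_closure ⟨q, hq, β, hβ, rfl⟩
      have h1 := ih _ hlt (Subgroup.closure (commSet Q B)) rfl (hQ.to_le hle)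
        (fun β' hβ' c hc => conj_mem_closure_commSet hBQ hβ' hc)
        (fun c hc s hs => hQS c (hle hc) s hs) ⁅q, β⁆ hc1 β hβ
      apply comm_eq_one_of_commute q β (hB β hβ) (orderOf_two_pow_of_mem hQ hcQ)
      rw [commutatorElement_eq_one_iff_mul_comm] at h1
      exact h1.symm

/-- **Glauberman's lemma**, by induction on the order of the group. -/
theorem gaprop_all : ∀ n : ℕ, ∀ (G : Type u) [Group G] [Finite G], Nat.card G = n → GAProp G := by
  intro n
  induction n using Nat.strong_induction_on with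
  | _ n ih =>
    intro G _ _ hn
    by_cases hO : Cfsg.pPrimeCore 2 G = ⊥
    · by_cases hU : Cfsg.pCore 2 G = ⊥
      · apply gaprop_caseB hO hU
        intro M hM
        apply ih (Nat.card M) _ ↥M rfl
        rw [← hn]
        have h1 := M.card_mul_index
        have h2 : M.index ≠ 1 := fun h => hM (Subgroup.index_eq_one.mp h)
        have h3 : M.index ≠ 0 := Subgroup.index_ne_zero_of_finite
        have h4 : 2 ≤ M.index := by omega
        have hpos : 0 < Nat.card M := Nat.card_pos
        nlinarith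
      · apply gaprop_caseA hO
        apply ih (Nat.card (G ⧸ Cfsg.pCore 2 G)) _ _ rfl
        rw [← hn, Subgroup.card_eq_card_quotient_mul_card_subgroup (Cfsg.pCore 2 G)]
        have h1 : 1 < Nat.card (Cfsg.pCore 2 G) := (Subgroup.one_lt_card_iff_ne_bot _).mpr hU
        have hpos : 0 < Nat.card (G ⧸ Cfsg.pCore 2 G) := Nat.card_pos
        nlinarith
    · apply gaprop_step0
      apply ih (Nat.card (G ⧸ Cfsg.pPrimeCore 2 G)) _ _ rfl
      rw [← hn, Subgroup.card_eq_card_quotient_mul_card_subgroup (Cfsg.pPrimeCore 2 G)]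
      have h1 : 1 < Nat.card (Cfsg.pPrimeCore 2 G) := (Subgroup.one_lt_card_iff_ne_bot _).mpr hO
      have hpos : 0 < Nat.card (G ⧸ Cfsg.pPrimeCore 2 G) := Nat.card_pos
      nlinarith

/-- **Glauberman's lemma.** -/
theorem glauberman_aut (G : Type u) [Group G] [Finite G] : GAProp G :=
  gaprop_all (Nat.card G) G rfl

end Cfsg.Agent.Lib.Helper10.GlaubA
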