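import Mathlib
import Cfsg.Agent.S0071
import Cfsg.Agent.Lib.Helper10.LBal10
import Cfsg.Agent.Lib.Helper10.GlaubA10

set_option autoImplicit false

/-!
# Consequences of Glauberman's lemma: 2-elements of a group with perfect core-quotient centralizing a
Sylow 2-subgroup of a normal subgroup `M` act trivially on `M / O(M)`.
-/

namespace Cfsg.Agent.Lib.Helper10.GlaubA

open Cfsg
open scoped commutatorElement

universe u

/-- A homomorphism from a group with perfect `X / O(X)` to a finite 2-group is trivial. -/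
theorem hom_to_two_group_trivial {X T : Type*} [Group X] [Finite X] [Group T] [Finite T]
    (hT : IsPGroup 2 T) (hperf : Group.IsPerfect (X ⧸ Cfsg.pPrimeCore 2 X)) (f : X →* T) (x : X) :
    f x = 1 := by
  have : Fact (Nat.Prime 2) := ⟨Nat.prime_two⟩
  have hker : Cfsg.pPrimeCore 2 X ≤ f.ker := by
    intro y hy
    rw [MonoidHom.mem_ker]
    have h1 : orderOf (f y) ∣ Nat.card (Cfsg.pPrimeCore 2 X) :=
      (orderOf_map_dvd f y).trans (Subgroup.orderOf_dvd_natCard _ hy)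
    have h2 : (orderOf (f y)).Coprime 2 :=
      Nat.Coprime.coprime_dvd_left h1 (Cfsg.Agent.Lib.Helper1.pPrimeCore_card_coprime 2)
    obtain ⟨k, hk⟩ := (IsPGroup.iff_orderOf.1 hT) (f y)
    rw [hk] at h2
    rcases Nat.eq_zero_or_pos k with h0 | h0
    · rw [h0, pow_zero] at hk
      exact orderOf_eq_one_iff.mp hk
    · exfalso
      have : 2 ∣ Nat.gcd (2 ^ k) 2 := Nat.dvd_gcd (dvd_pow_self 2 h0.ne') dvd_rfl
      rw [Nat.Coprime] at h2
      rw [h2] at this
      omega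
  have hsol : Group.IsSolvable T := by
    have : Group.IsNilpotent T := hT.isNilpotent
    infer_instance
  have := Cfsg.Agent.Lib.Helper10.eq_one_of_perfect_of_solvable hperf
    (QuotientGroup.lift (Cfsg.pPrimeCore 2 X) f hker) (QuotientGroup.mk x)
  rwa [QuotientGroup.lift_mk] at this

variable {Y : Type u} [Group Y]

/-- The kernel of the action of `Y` on `M / O(M)`, for a normal subgroup `M`. -/
noncomputable def cstar (M : Subgroup Y) [M.Normal] : Subgroup Y :=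
  ((autQuot (Cfsg.pPrimeCore 2 ↥M)).comp (MulAut.conjNormal : Y →* MulAut ↥M)).ker

instance cstar_normal (M : Subgroup Y) [M.Normal] : (cstar M).Normal := by
  unfold cstar; infer_instance

theorem mem_cstar (M : Subgroup Y) [M.Normal] (y : Y) :
    y ∈ cstar M ↔ ∀ m : ↥M, m⁻¹ * (MulAut.conjNormal y m) ∈ Cfsg.pPrimeCore 2 ↥M := by
  unfold cstar
  rw [MonoidHom.mem_ker, MonoidHom.comp_apply, ← MonoidHom.mem_ker, mem_ker_autQuot]

set_option maxHeartbeats 800000 in
theorem two_element_mem_cstar [Finite Y] (M : Subgroup Y) [hMn : M.Normal] (SM : Subgroup Y)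
    (hSM : SM ≤ M) (hSM2 : IsPGroup 2 SM) (hSMi : ¬ 2 ∣ SM.relIndex M)
    (X : Subgroup Y) (hX : X ≤ Subgroup.centralizer (SM : Set Y))
    (hperf : Group.IsPerfect (↥X ⧸ Cfsg.pPrimeCore 2 ↥X))
    (k : Y) (hk : k ∈ X) (hk2 : ∃ j : ℕ, orderOf k = 2 ^ j) : k ∈ cstar M := by
  classical
  have : Fact (Nat.Prime 2) := ⟨Nat.prime_two⟩
  set ψ : Y →* MulAut (↥M ⧸ Cfsg.pPrimeCore 2 ↥M) :=
    (autQuot (Cfsg.pPrimeCore 2 ↥M)).comp (MulAut.conjNormal : Y →* MulAut ↥M) with hψ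
  have hψmk : ∀ (y : Y) (m : ↥M), ψ y (QuotientGroup.mk m) =
      QuotientGroup.mk (MulAut.conjNormal y m) := fun y m => rfl
  set J : Subgroup (MulAut (↥M ⧸ Cfsg.pPrimeCore 2 ↥M)) :=
    (Subgroup.centralizer (SM : Set Y)).map ψ with hJ
  -- the Sylow 2-subgroup of M / O(M)
  set Sb : Subgroup (↥M ⧸ Cfsg.pPrimeCore 2 ↥M) :=
    (SM.subgroupOf M).map (QuotientGroup.mk' (Cfsg.pPrimeCore 2 ↥M)) with hSb
  have hSb2 : IsPGroup 2 Sb :=
    (hSM2.comap_of_injective M.subtype M.subtype_injective).map _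
  have hSbi : ¬ 2 ∣ Sb.index := by
    intro h
    apply hSMi
    have h1 : Sb.index ∣ (SM.subgroupOf M).index :=
      Subgroup.index_map_dvd _ (QuotientGroup.mk'_surjective _)
    exact h.trans h1
  have hJfix : ∀ α ∈ J, ∀ s ∈ Sb, α s = s := by
    rintro _ ⟨y, hy, rfl⟩ _ ⟨s, hs, rfl⟩
    show ψ y (QuotientGroup.mk s) = QuotientGroup.mk s
    rw [hψmk]
    congr 1
    apply Subtype.ext
    rw [MulAut.conjNormal_apply]
    have := Subgroup.mem_centralizer_iff.mp hy (s : Y) (Subgroup.mem_subgroupOf.mp hs)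
    rw [← this]; group
  have hcore : Cfsg.pPrimeCore 2 (↥M ⧸ Cfsg.pPrimeCore 2 ↥M) = ⊥ :=
    Cfsg.Agent.Lib.Helper10.pPrimeCore_quotient_eq_bot 2
  -- J has a normal 2-complement
  obtain ⟨T⟩ : Nonempty (Sylow 2 ↥J) := inferInstance
  have hfrob : ∃ N : Subgroup ↥J, N.Normal ∧ N.IsComplement' (T : Subgroup ↥J) := by
    rw [Cfsg.Agent.S0071.result T]
    intro Q' hQ'T g hg hgodd
    rw [Subgroup.mem_centralizer_iff]
    intro q hq
    have hGA := glauberman_aut (↥M ⧸ Cfsg.pPrimeCore 2 ↥M) Sb hSb2 hSbi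
      (Q'.map J.subtype) (Subgroup.zpowers (g : MulAut (↥M ⧸ Cfsg.pPrimeCore 2 ↥M)))
      ((T.2.to_le hQ'T).map _) ?_ ?_ ?_ ?_ (q : MulAut _) ⟨q, hq, rfl⟩
      (g : MulAut _) (Subgroup.mem_zpowers _)
    · have h1 := eq_one_of_mem_ker_of_core_eq_bot hcore hGA
      rw [commutatorElement_eq_one_iff_mul_comm] at h1
      exact Subtype.ext h1
    · rintro _ ⟨i, rfl⟩
      have h1 : orderOf ((g : MulAut (↥M ⧸ Cfsg.pPrimeCore 2 ↥M)) ^ i) ∣
          orderOf (g : MulAut (↥M ⧸ Cfsg.pPrimeCore 2 ↥M)) := by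
        apply orderOf_dvd_of_pow_eq_one
        rw [← zpow_natCast, ← zpow_mul, mul_comm, zpow_mul, zpow_natCast, pow_orderOf_eq_one,
          one_zpow]
      rw [Subgroup.orderOf_coe] at h1
      have h2 : Odd (orderOf g) := by
        rw [← Nat.not_even_iff_odd, even_iff_two_dvd]
        intro h
        have := Nat.Coprime.eq_one_of_dvd hgodd.symm h
        omega
      exact Odd.of_dvd_nat h2 h1
    · rintro _ ⟨i, rfl⟩ _ ⟨q', hq', rfl⟩
      have hgi : g ^ i ∈ Subgroup.normalizer (Q' : Set ↥J) := Subgroup.zpow_mem _ hg i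
      have h1 := (Subgroup.mem_normalizer_iff.mp hgi q').mp hq'
      refine ⟨g ^ i * q' * (g ^ i)⁻¹, h1, ?_⟩
      simp
    · rintro _ ⟨q', hq', rfl⟩ s hs
      exact hJfix _ q'.2 s hs
    · rintro _ ⟨i, rfl⟩ s hs
      exact hJfix _ (J.zpow_mem g.2 i) s hs
  obtain ⟨N, hNn, hcomp⟩ := hfrob
  have hNcard : Nat.card N = (T : Subgroup ↥J).index := by
    have h1 := hcomp.card_mul_card
    have h2 := (T : Subgroup ↥J).card_mul_index
    have hpos : 0 < Nat.card (T : Subgroup ↥J) := Nat.card_pos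
    apply Nat.eq_of_mul_eq_mul_left hpos
    rw [h2, ← h1, mul_comm]
  have hNodd : (Nat.card N).Coprime 2 := by
    rw [hNcard, Nat.coprime_comm, Nat.Prime.coprime_iff_not_dvd Nat.prime_two]
    exact T.not_dvd_index
  have hquot2 : IsPGroup 2 (↥J ⧸ N) := by
    obtain ⟨a, ha⟩ := IsPGroup.iff_card.mp T.2
    apply IsPGroup.of_card (n := a)
    have h1 := hcomp.card_mul_card
    have h2 := N.card_mul_index
    have hpos : 0 < Nat.card N := Nat.card_pos
    have h3 : N.index = Nat.card (T : Subgroup ↥J) := by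
      apply Nat.eq_of_mul_eq_mul_left hpos
      rw [h2, h1]
    rw [← ha, ← h3]
    rfl
  -- the homomorphism from X to J
  let f : ↥X →* ↥J := (ψ.comp X.subtype).codRestrict J (fun x => ⟨(x : Y), hX x.2, rfl⟩)
  have hfval : ∀ x : ↥X, ((f x : ↥J) : MulAut (↥M ⧸ Cfsg.pPrimeCore 2 ↥M)) = ψ (x : Y) :=
    fun x => rfl
  have hfN : ∀ x : ↥X, f x ∈ N := by
    intro x
    have := hom_to_two_group_trivial hquot2 hperf ((QuotientGroup.mk' N).comp f) x
    rw [MonoidHom.comp_apply] at this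
    exact (QuotientGroup.eq_one_iff _).mp this
  have h1 : orderOf (f ⟨k, hk⟩) ∣ Nat.card N := Subgroup.orderOf_dvd_natCard _ (hfN _)
  have h2 : orderOf (f ⟨k, hk⟩) ∣ orderOf k := by
    have := orderOf_map_dvd f (⟨k, hk⟩ : ↥X)
    have e : orderOf (⟨k, hk⟩ : ↥X) = orderOf k := Subgroup.orderOf_mk k hk
    rw [e] at this
    exact this
  obtain ⟨j, hj⟩ := hk2
  rw [hj] at h2
  obtain ⟨i, -, hi⟩ := (Nat.dvd_prime_pow Nat.prime_two).mp h2
  have h3 : (orderOf (f ⟨k, hk⟩)).Coprime 2 := Nat.Coprime.coprime_dvd_left h1 hNodd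
  have h4 : f ⟨k, hk⟩ = 1 := by
    rcases Nat.eq_zero_or_pos i with h0 | h0
    · rw [h0, pow_zero] at hi
      exact orderOf_eq_one_iff.mp hi
    · exfalso
      rw [hi] at h3
      have : 2 ∣ Nat.gcd (2 ^ i) 2 := Nat.dvd_gcd (dvd_pow_self 2 h0.ne') dvd_rfl
      rw [Nat.Coprime] at h3
      rw [h3] at this
      omega
  have h5 : ψ k = 1 := by
    have := congrArg (fun x : ↥J => (x : MulAut (↥M ⧸ Cfsg.pPrimeCore 2 ↥M))) h4
    exact this
  unfold cstar
  rw [MonoidHom.mem_ker]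
  exact h5

end Cfsg.Agent.Lib.Helper10.GlaubA
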