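import Mathlib
import Cfsg.Prelude.Def_ChevStructure
import Cfsg.Agent.Lib.helper14.INV.Defs

/-!
# Project INV (S2174), piece LEMN : two involutions of `N` in the same coset of `H` (of odd order)
are `H`-conjugate
-/

set_option autoImplicit false
set_option linter.unusedVariables false

namespace Cfsg.Agent.Lib.helper14.INV

open Cfsg.Lie Cfsg.Lie.ChevalleyDatum Cfsg.Agent.Lib.helper8 Cfsg.Agent.Lib.helper14

universe u

variable {F : Type u} [Field F]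

/-- the group-theoretic core of LEMN : in any group, if `n₁`, `n₂` are involutions and the order of
`n₁⁻¹ n₂` divides `2 j + 1` then `(n₁⁻¹ n₂)^j` conjugates `n₁` to `n₂` -/
theorem invlemn_core {G : Type*} [Group G] (n₁ n₂ : G) (hs₁ : n₁ * n₁ = 1) (hs₂ : n₂ * n₂ = 1)
    (j : ℕ) (hk : (n₁⁻¹ * n₂) ^ (2 * j + 1) = 1) :
    (n₁⁻¹ * n₂) ^ j * n₁ * ((n₁⁻¹ * n₂) ^ j)⁻¹ = n₂ := by
  have hi₁ : n₁⁻¹ = n₁ := inv_eq_of_mul_eq_one_left hs₁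
  have hi₂ : n₂⁻¹ = n₂ := inv_eq_of_mul_eq_one_left hs₂
  have hkdef : n₁ * (n₁⁻¹ * n₂) = n₂ := by rw [← mul_assoc, mul_inv_cancel, one_mul]
  have hconj : n₁ * (n₁⁻¹ * n₂) * n₁⁻¹ = (n₁⁻¹ * n₂)⁻¹ := by
    rw [mul_inv_rev, inv_inv, hi₂, hi₁, ← mul_assoc, hs₁, one_mul]
  generalize n₁⁻¹ * n₂ = k at *
  have hconjpow : n₁ * k ^ j * n₁⁻¹ = (k ^ j)⁻¹ := by
    rw [← conj_pow, hconj, inv_pow]
  have h2 : n₁ * (k ^ j)⁻¹ * n₁⁻¹ = k ^ j := by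
    rw [← conj_inv, hconjpow, inv_inv]
  have hswap : k ^ j * n₁ = n₁ * (k ^ j)⁻¹ := (mul_inv_eq_iff_eq_mul.mp h2).symm
  have hpow : (k ^ j)⁻¹ * (k ^ j)⁻¹ = k := by
    rw [← mul_inv_rev, ← pow_add, ← two_mul]
    rw [pow_succ] at hk
    exact inv_eq_of_mul_eq_one_right hk
  rw [hswap, mul_assoc, hpow, hkdef]

/-- LEMN : two involutions of `N` in the same coset of `H` (of odd order) are `H`-conjugate -/
theorem N_invol_conj [Finite F] (D : ChevalleyDatum) (hB : H8Base.{u} D) (hA : H8ReflAll D)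
    (hBN : H8BN D) (hodd : Odd (Nat.card (D.diagonalSubgroup F)))
    (n₁ n₂ : GL D.Idx F) (h₁ : n₁ ∈ D.monomialSubgroup F) (h₂ : n₂ ∈ D.monomialSubgroup F)
    (hs₁ : n₁ * n₁ = 1) (hs₂ : n₂ * n₂ = 1) (hH : n₁⁻¹ * n₂ ∈ D.diagonalSubgroup F) :
    ∃ h ∈ D.diagonalSubgroup F, h * n₁ * h⁻¹ = n₂ := by
  obtain ⟨j, hj⟩ := hodd
  have hk : (n₁⁻¹ * n₂) ^ (2 * j + 1) = 1 := by
    have h : (⟨n₁⁻¹ * n₂, hH⟩ : D.diagonalSubgroup F) ^ Nat.card (D.diagonalSubgroup F) = 1 :=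
      pow_card_eq_one'
    rw [hj] at h
    have h' := congrArg (Subtype.val) h
    simpa using h'
  exact ⟨(n₁⁻¹ * n₂) ^ j, Subgroup.pow_mem _ hH j, invlemn_core n₁ n₂ hs₁ hs₂ j hk⟩

end Cfsg.Agent.Lib.helper14.INV
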