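import Mathlib
import Cfsg.Prelude.Def_ChevStructure
import Cfsg.Agent.Lib.helper14.INV.Defs

/-!
# Project INV (S2174), piece UPLE : the group generated by the positive root subgroups other than
`X_{p}` lies in `U`
-/

set_option autoImplicit false
set_option linter.unusedVariables false

namespace Cfsg.Agent.Lib.helper14.INV

open Cfsg.Lie Cfsg.Lie.ChevalleyDatum Cfsg.Agent.Lib.helper8 Cfsg.Agent.Lib.helper14

universe u

variable {F : Type u} [Field F]

/-- UPLE : the group generated by the positive root subgroups other than `X_{p_i}` lies in `U` -/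
theorem up_le_U (D : ChevalleyDatum) (hB : H8Base.{u} D) (p : ℕ) :
    Subgroup.closure (h8UpSet D F p) ≤ D.posUnipotent F := by
  unfold ChevalleyDatum.posUnipotent
  apply Subgroup.closure_mono
  rintro g ⟨s, t, hs, _, hg⟩
  exact ⟨s, t, hs, hg⟩

end Cfsg.Agent.Lib.helper14.INV
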