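import Mathlib
import Cfsg.Prelude.Def_ChevStructure
import Cfsg.Agent.Lib.helper14.INV.Defs

/-!
# Project INV (S2174), piece WZERO : the canonical word with vanishing coefficients is trivial
-/

set_option autoImplicit false
set_option linter.unusedVariables false

namespace Cfsg.Agent.Lib.helper14.INV

open Cfsg.Lie Cfsg.Lie.ChevalleyDatum Cfsg.Agent.Lib.helper8 Cfsg.Agent.Lib.helper14

universe u

variable {F : Type u} [Field F]

/-- the tail of a canonical word with vanishing coefficients is trivial -/
theorem invwzero_aux (D : ChevalleyDatum) (hB : H8Base.{u} D) (c : ℕ → F)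
    (hc : ∀ r, D.IsPosRoot r → c r = 0) :
    ∀ (m k : ℕ), k + m = D.nroots → f4cW D hB k c = 1 := by
  intro m
  induction m with
  | zero =>
    intro k hk
    exact f4cW_top D hB k (by omega) c
  | succ m ih =>
    intro k hk
    by_cases hpos : D.IsPosRoot k
    · rw [f4cW_pos D hB k hpos, hc k hpos, h8xU_zero, one_mul]
      exact ih (k + 1) (by omega)
    · rw [f4cW_not D hB k hpos]
      exact ih (k + 1) (by omega)

/-- WZERO : the canonical word with vanishing coefficients is trivial -/
theorem f4cW_zero' (D : ChevalleyDatum) (hB : H8Base.{u} D) (c : ℕ → F)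
    (hc : ∀ r, D.IsPosRoot r → c r = 0) : f4cW D hB 0 c = 1 :=
  invwzero_aux D hB c hc D.nroots 0 (by omega)

end Cfsg.Agent.Lib.helper14.INV
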