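import Mathlib

set_option autoImplicit false

namespace Cfsg.Agent.Lib.Helper10.IsoInv

variable {G : Type*} [Group G]

noncomputable def half (r : G) : ℕ := (orderOf r + 1) / 2

theorem two_half {r : G} (h : Odd (orderOf r)) : half r + half r = orderOf r + 1 := by
  obtain ⟨m, hm⟩ := h
  unfold half
  omega

theorem pow_half_mul_self {r : G} (h : Odd (orderOf r)) : r ^ half r * r ^ half r = r := by
  rw [← pow_add, two_half h, pow_succ, pow_orderOf_eq_one, one_mul]

noncomputable def mid (u v : G) : G := u * (u * v) ^ half (u * v)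

theorem inv_mul_of_inv {u v : G} (hu : u⁻¹ = u) (hv : v⁻¹ = v) : (u * v)⁻¹ = v * u := by
  rw [mul_inv_rev, hu, hv]

theorem mul_self_of_inv {u : G} (hu : u⁻¹ = u) : u * u = 1 := by
  nth_rewrite 1 [← hu]; exact inv_mul_cancel u

theorem conj_prod {u v : G} (hu : u⁻¹ = u) (hv : v⁻¹ = v) : u * (u * v) * u⁻¹ = (u * v)⁻¹ := by
  rw [inv_mul_of_inv hu hv, hu, ← mul_assoc, mul_self_of_inv hu, one_mul]

theorem conj_prod_pow {u v : G} (hu : u⁻¹ = u) (hv : v⁻¹ = v) (k : ℕ) :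
    u * (u * v) ^ k * u⁻¹ = ((u * v) ^ k)⁻¹ := by
  rw [← conj_pow, conj_prod hu hv, inv_pow]

theorem mul_pow_eq {u v : G} (hu : u⁻¹ = u) (hv : v⁻¹ = v) (k : ℕ) :
    u * (u * v) ^ k = ((u * v) ^ k)⁻¹ * u := by
  have := conj_prod_pow hu hv k
  rw [← this]; group

theorem mid_conj {u v : G} (hu : u⁻¹ = u) (hv : v⁻¹ = v) (hodd : Odd (orderOf (u * v))) :
    mid u v * u * (mid u v)⁻¹ = v := by
  unfold mid
  obtain ⟨a, ha⟩ : ∃ a, a = (u * v) ^ half (u * v) := ⟨_, rfl⟩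
  rw [← ha]
  have h1 : u * a = a⁻¹ * u := by rw [ha]; exact mul_pow_eq hu hv _
  have h2 : a * a = u * v := by rw [ha]; exact pow_half_mul_self hodd
  have h3 : u * u = 1 := mul_self_of_inv hu
  calc u * a * u * (u * a)⁻¹ = u * a * (u * a⁻¹) * u⁻¹ := by group
    _ = (u * a) * (u * a⁻¹) * u := by rw [hu]
    _ = (a⁻¹ * u) * (u * a⁻¹) * u := by rw [h1]
    _ = a⁻¹ * (u * u) * a⁻¹ * u := by group
    _ = (a * a)⁻¹ * u := by rw [h3]; group
    _ = v := by rw [h2, inv_mul_of_inv hu hv, mul_assoc, h3, mul_one]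

theorem mid_isConj {u v : G} (hu : u⁻¹ = u) (hv : v⁻¹ = v) (hodd : Odd (orderOf (u * v))) :
    ∃ b : G, mid u v = b⁻¹ * u * b := by
  unfold mid
  obtain ⟨r, hr⟩ : ∃ r, r = u * v := ⟨_, rfl⟩
  rw [← hr] at hodd ⊢
  refine ⟨(r ^ half r) ^ half r, ?_⟩
  have h1 : u * (r ^ half r) ^ half r = ((r ^ half r) ^ half r)⁻¹ * u := by
    rw [← pow_mul, hr]; exact mul_pow_eq hu hv _
  have h2 : (r ^ half r) ^ half r * (r ^ half r) ^ half r = r ^ half r := by
    rw [← (Commute.refl (r ^ half r)).mul_pow, pow_half_mul_self hodd]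
  calc u * r ^ half r = u * ((r ^ half r) ^ half r * (r ^ half r) ^ half r) := by rw [h2]
    _ = (u * (r ^ half r) ^ half r) * (r ^ half r) ^ half r := by rw [mul_assoc]
    _ = ((r ^ half r) ^ half r)⁻¹ * u * (r ^ half r) ^ half r := by rw [h1]

theorem half_inv (r : G) : half r⁻¹ = half r := by
  unfold half; rw [orderOf_inv]

theorem mid_swap {u v : G} (hu : u⁻¹ = u) (hv : v⁻¹ = v) (hodd : Odd (orderOf (u * v))) :
    mid v u = mid u v := by
  unfold mid
  have h1 : v * u = (u * v)⁻¹ := (inv_mul_of_inv hu hv).symm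
  rw [h1, half_inv, inv_pow]
  obtain ⟨a, ha⟩ : ∃ a, a = (u * v) ^ half (u * v) := ⟨_, rfl⟩
  rw [← ha]
  have h2 : a * a = u * v := by rw [ha]; exact pow_half_mul_self hodd
  have h3 : u * u = 1 := mul_self_of_inv hu
  have h4 : v = u * (a * a) := by rw [h2, ← mul_assoc, h3, one_mul]
  calc v * a⁻¹ = u * (a * a) * a⁻¹ := by rw [← h4]
    _ = u * a := by group

theorem half_conj (c r : G) : half (c * r * c⁻¹) = half r := by
  unfold half
  have := MulEquiv.orderOf_eq (MulAut.conj c) r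
  rw [MulAut.conj_apply] at this
  rw [this]

theorem conj_mid (c u v : G) : c * mid u v * c⁻¹ = mid (c * u * c⁻¹) (c * v * c⁻¹) := by
  unfold mid
  have h1 : c * u * c⁻¹ * (c * v * c⁻¹) = c * (u * v) * c⁻¹ := by group
  rw [h1, half_conj, conj_pow]
  group

theorem mid_conj_self {u z : G} (hu : u⁻¹ = u) (hz : z⁻¹ = z) (hodd : Odd (orderOf (u * z))) :
    mid u (z * u * z⁻¹) = z := by
  unfold mid
  have h1 : u * (z * u * z⁻¹) = (u * z) * (u * z) := by rw [hz]; group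
  have h2 : orderOf ((u * z) * (u * z)) = orderOf (u * z) := by
    rw [← sq]
    exact ((Nat.Coprime.orderOf_pow (Nat.Coprime.symm (Nat.coprime_two_left.mpr hodd))))
  have h3 : half ((u * z) * (u * z)) = half (u * z) := by unfold half; rw [h2]
  rw [h1, h3, ← sq, ← pow_mul, two_mul, two_half hodd, pow_succ, pow_orderOf_eq_one, one_mul,
    ← mul_assoc, mul_self_of_inv hu, one_mul]

end Cfsg.Agent.Lib.Helper10.IsoInv
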