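import Mathlib
import Cfsg.Agent.Lib.Helper10.IsoInv1
import Cfsg.Agent.Lib.Helper9.Isolated
import Cfsg.Agent.S1180

set_option autoImplicit false

namespace Cfsg.Agent.Lib.Helper10.IsoInv

open Cfsg.Agent.Lib.Helper9

variable {G : Type*} [Group G]

def Cls (z : G) : Set G := {u | ∃ g : G, u = g * z * g⁻¹}

def Fix (z c : G) : Set G := {u | (∃ g : G, u = g * z * g⁻¹) ∧ Commute u c}

noncomputable def mu (s u : G) : G := mid u (s * u * s⁻¹)

theorem cls_inv {z : G} (hz : orderOf z = 2) {u : G} (hu : u ∈ Cls z) : u⁻¹ = u := by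
  obtain ⟨g, rfl⟩ := hu
  exact inv_conj_eq hz g

theorem conj_mem_cls {z : G} {u : G} (hu : u ∈ Cls z) (c : G) : c * u * c⁻¹ ∈ Cls z := by
  obtain ⟨g, rfl⟩ := hu
  exact ⟨c * g, by group⟩

section
variable [Finite G]

theorem cls_mul_odd {z : G} (hz : Cfsg.IsIsolatedInvolution z) {u : G} (hu : u ∈ Cls z) (c : G) :
    Odd (orderOf (u * (c * u * c⁻¹))) := by
  obtain ⟨g, rfl⟩ := hu
  exact isolated_mul_conj_odd (isolated_conj hz g) c

theorem mu_mem_cls {z s : G} (hz : Cfsg.IsIsolatedInvolution z) {u : G} (hu : u ∈ Cls z) :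
    mu s u ∈ Cls z := by
  have hui := cls_inv hz.1 hu
  have hvi := cls_inv hz.1 (conj_mem_cls hu s)
  obtain ⟨b, hb⟩ := mid_isConj hui hvi (cls_mul_odd hz hu s)
  unfold mu
  rw [hb]
  have := conj_mem_cls hu b⁻¹
  rwa [inv_inv] at this

theorem mu_comm {z s : G} (hz : Cfsg.IsIsolatedInvolution z) (hs : orderOf s = 2) {u : G}
    (hu : u ∈ Cls z) : Commute (mu s u) s := by
  have hui := cls_inv hz.1 hu
  have hvi := cls_inv hz.1 (conj_mem_cls hu s)
  have hsi : s⁻¹ = s := inv_eq_self_of_orderOf_two hs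
  have h1 : s * mu s u * s⁻¹ = mu s u := by
    unfold mu
    rw [conj_mid]
    have e : s * (s * u * s⁻¹) * s⁻¹ = u := by
      have : s * s = 1 := mul_self_of_orderOf_two hs
      calc s * (s * u * s⁻¹) * s⁻¹ = (s * s) * u * (s * s)⁻¹ := by group
        _ = u := by rw [this]; group
    rw [e]
    exact mid_swap hui hvi (cls_mul_odd hz hu s)
  unfold Commute SemiconjBy
  calc mu s u * s = (s * mu s u * s⁻¹) * s := by rw [h1]
    _ = s * mu s u := by group

theorem mu_conj {s c : G} (hc : Commute c s) (u : G) :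
    mu s (c * u * c⁻¹) = c * mu s u * c⁻¹ := by
  unfold mu
  rw [conj_mid]
  have e : s * (c * u * c⁻¹) * s⁻¹ = c * (s * u * s⁻¹) * c⁻¹ := by
    have h1 : s * c = c * s := hc.eq.symm
    have h2 : c⁻¹ * s⁻¹ = s⁻¹ * c⁻¹ := by rw [← mul_inv_rev, ← mul_inv_rev, h1]
    calc s * (c * u * c⁻¹) * s⁻¹ = (s * c) * u * (c⁻¹ * s⁻¹) := by group
      _ = (c * s) * u * (s⁻¹ * c⁻¹) := by rw [h1, h2]
      _ = c * (s * u * s⁻¹) * c⁻¹ := by group
  rw [e]

omit [Finite G] in
theorem orderOf_mul_comm' (x y : G) : orderOf (x * y) = orderOf (y * x) := by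
  have := MulEquiv.orderOf_eq (MulAut.conj y⁻¹) (y * x)
  rw [MulAut.conj_apply] at this
  have e : y⁻¹ * (y * x) * y⁻¹⁻¹ = x * y := by group
  rw [e] at this
  exact this

theorem cls_mul_z_odd {z : G} (hz : Cfsg.IsIsolatedInvolution z) {u : G} (hu : u ∈ Cls z) :
    Odd (orderOf (u * z)) := by
  obtain ⟨g, rfl⟩ := hu
  rw [orderOf_mul_comm']
  exact isolated_mul_conj_odd hz g

theorem mu_eq_z_iff {z s : G} (hz : Cfsg.IsIsolatedInvolution z) (hs : orderOf s = 2)
    (hsz : Commute s z) {u : G} (hu : u ∈ Cls z) : mu s u = z ↔ Commute u (s * z) := by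
  have hui := cls_inv hz.1 hu
  have hvi := cls_inv hz.1 (conj_mem_cls hu s)
  have hzi : z⁻¹ = z := inv_eq_self_of_orderOf_two hz.1
  have hsi : s⁻¹ = s := inv_eq_self_of_orderOf_two hs
  have hss : s * s = 1 := mul_self_of_orderOf_two hs
  constructor
  · intro h
    have h1 := mid_conj hui hvi (cls_mul_odd hz hu s)
    change mu s u * u * (mu s u)⁻¹ = s * u * s⁻¹ at h1
    rw [h] at h1
    unfold Commute SemiconjBy
    symm
    calc (s * z) * u = (s * (z * u * z⁻¹) * s⁻¹) * (s * z) := by group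
      _ = (s * (s * u * s⁻¹) * s⁻¹) * (s * z) := by rw [h1]
      _ = (s * s) * u * (s * s)⁻¹ * (s * z) := by group
      _ = u * (s * z) := by rw [hss]; group
  · intro h
    have h1 : s * u * s⁻¹ = z * u * z⁻¹ := by
      have e := h.eq
      calc s * u * s⁻¹ = s⁻¹ * u * s := by rw [hsi]
        _ = s⁻¹ * (u * (s * z)) * z⁻¹ := by group
        _ = s⁻¹ * ((s * z) * u) * z⁻¹ := by rw [e]
        _ = z * u * z⁻¹ := by group
    unfold mu
    rw [h1]
    exact mid_conj_self hui hzi (cls_mul_z_odd hz hu)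

end

end Cfsg.Agent.Lib.Helper10.IsoInv
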