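import Mathlib
import Cfsg.Agent.Lib.Helper10.IsoInv2

set_option autoImplicit false

namespace Cfsg.Agent.Lib.Helper10.IsoInv

open Cfsg.Agent.Lib.Helper9

variable {G : Type*} [Group G] [Finite G]

theorem exists_conj_in_centralizer {z s : G} (hz : Cfsg.IsIsolatedInvolution z)
    (hsz : Commute s z) {w : G} (hw : w ∈ Fix z s) :
    ∃ c : G, Commute c s ∧ c * z * c⁻¹ = w := by
  obtain ⟨⟨g, rfl⟩, hws⟩ := hw
  have hzH : z ∈ Subgroup.centralizer ({s} : Set G) := by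
    rw [Subgroup.mem_centralizer_singleton_iff]; exact hsz.eq.symm
  have hgH : g * z * g⁻¹ ∈ Subgroup.centralizer ({s} : Set G) := by
    rw [Subgroup.mem_centralizer_singleton_iff]; exact hws.eq
  obtain ⟨h, hh, hhz⟩ := Cfsg.Agent.S1180.result z hz _ hzH g hgH
  refine ⟨h, ?_, hhz⟩
  rw [Subgroup.mem_centralizer_singleton_iff] at hh
  exact hh

theorem card_cls {z s : G} (hz : Cfsg.IsIsolatedInvolution z) (hs : orderOf s = 2)
    (hsz : Commute s z) :
    Nat.card (Cls z) = Nat.card (Fix z s) * Nat.card (Fix z (s * z)) := by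
  classical
  have hc : ∀ w : Fix z s, ∃ c : G, Commute c s ∧ c * z * c⁻¹ = w :=
    fun w => exists_conj_in_centralizer hz hsz w.2
  choose c hcs hcw using hc
  have hΦmem : ∀ p : (Fix z s) × (Fix z (s * z)), c p.1 * p.2 * (c p.1)⁻¹ ∈ Cls z :=
    fun p => conj_mem_cls p.2.2.1 _
  have hμΦ : ∀ p : (Fix z s) × (Fix z (s * z)), mu s (c p.1 * p.2 * (c p.1)⁻¹) = p.1 := by
    intro p
    rw [mu_conj (hcs p.1), (mu_eq_z_iff hz hs hsz p.2.2.1).2 p.2.2.2, hcw]
  have hinj : Function.Injective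
      (fun p : (Fix z s) × (Fix z (s * z)) => (⟨_, hΦmem p⟩ : Cls z)) := by
    intro p q hpq
    have h1 : c p.1 * p.2 * (c p.1)⁻¹ = c q.1 * q.2 * (c q.1)⁻¹ := congrArg Subtype.val hpq
    have h2 : (p.1 : G) = q.1 := by rw [← hμΦ p, ← hμΦ q, h1]
    have h3 : p.1 = q.1 := Subtype.ext h2
    rw [h3] at h1
    have h4 : (p.2 : G) = q.2 := by
      calc (p.2 : G) = (c q.1)⁻¹ * (c q.1 * p.2 * (c q.1)⁻¹) * c q.1 := by group
        _ = (c q.1)⁻¹ * (c q.1 * q.2 * (c q.1)⁻¹) * c q.1 := by rw [h1]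
        _ = q.2 := by group
    exact Prod.ext h3 (Subtype.ext h4)
  have hsurj : Function.Surjective
      (fun p : (Fix z s) × (Fix z (s * z)) => (⟨_, hΦmem p⟩ : Cls z)) := by
    intro u
    have hw : mu s (u : G) ∈ Fix z s := ⟨mu_mem_cls hz u.2, mu_comm hz hs u.2⟩
    obtain ⟨w, hwdef⟩ : ∃ w : Fix z s, (w : G) = mu s (u : G) := ⟨⟨_, hw⟩, rfl⟩
    have hu0cls : (c w)⁻¹ * (u : G) * (c w) ∈ Cls z := by
      have := conj_mem_cls u.2 (c w)⁻¹
      rwa [inv_inv] at this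
    have hcinv : Commute (c w)⁻¹ s := (hcs w).inv_left
    have hu0 : (c w)⁻¹ * (u : G) * (c w) ∈ Fix z (s * z) := by
      refine ⟨hu0cls, ?_⟩
      rw [← mu_eq_z_iff hz hs hsz hu0cls]
      have := mu_conj hcinv (u : G)
      rw [inv_inv] at this
      rw [this, ← hwdef, ← hcw w]
      group
    refine ⟨(w, ⟨_, hu0⟩), ?_⟩
    apply Subtype.ext
    show c w * ((c w)⁻¹ * (u : G) * (c w)) * (c w)⁻¹ = u
    group
  rw [← Nat.card_prod]
  exact (Nat.card_congr (Equiv.ofBijective _ ⟨hinj, hsurj⟩)).symm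

end Cfsg.Agent.Lib.Helper10.IsoInv
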