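import Mathlib
import Cfsg.Agent.Lib.Helper10.IsoInv3

set_option autoImplicit false

namespace Cfsg.Agent.Lib.Helper10.IsoInv

open Cfsg.Agent.Lib.Helper9

variable {G : Type*} [Group G]

theorem card_eq_centralizer_mul_cls (z : G) :
    Nat.card G = Nat.card (Subgroup.centralizer ({z} : Set G)) * Nat.card (Cls z) := by
  have h1 := Subgroup.card_mul_index (MulAction.stabilizer (ConjAct G) z)
  rw [MulAction.index_stabilizer, ← Subgroup.nat_card_centralizer_nat_card_stabilizer,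
    ← Nat.card_coe_set_eq] at h1
  have h2 : MulAction.orbit (ConjAct G) z = Cls z := by
    ext u
    rw [ConjAct.mem_orbit_conjAct, isConj_iff]
    constructor
    · rintro ⟨c, hc⟩
      exact ⟨c⁻¹, by rw [← hc]; group⟩
    · rintro ⟨g, rfl⟩
      exact ⟨g⁻¹, by group⟩
  rw [h2] at h1
  have h3 : Nat.card (ConjAct G) = Nat.card G := rfl
  rw [← h3, ← h1]

variable [Finite G]

omit [Finite G] in
theorem inverted_mul_mem_cls {z k : G} (hz : orderOf z = 2) (hk : Odd (orderOf k))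
    (hinv : z * k * z⁻¹ = k⁻¹) : k * z ∈ Cls z := by
  obtain ⟨m, hm⟩ := hk
  refine ⟨k ^ (m + 1), ?_⟩
  have h1 : z * (k ^ (m + 1))⁻¹ = k ^ (m + 1) * z := by
    have h0 : z * k⁻¹ * z⁻¹ = k := by
      have := congrArg Inv.inv hinv
      rw [inv_inv] at this
      calc z * k⁻¹ * z⁻¹ = (z * k * z⁻¹)⁻¹ := by group
        _ = k := this
    have h2 : z * (k ^ (m + 1))⁻¹ * z⁻¹ = k ^ (m + 1) := by
      rw [← inv_pow, ← conj_pow, h0]
    calc z * (k ^ (m + 1))⁻¹ = (z * (k ^ (m + 1))⁻¹ * z⁻¹) * z := by group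
      _ = k ^ (m + 1) * z := by rw [h2]
  have h3 : k ^ (m + 1) * k ^ (m + 1) = k := by
    rw [← pow_add, show m + 1 + (m + 1) = orderOf k + 1 by omega, pow_succ, pow_orderOf_eq_one,
      one_mul]
  calc k * z = (k ^ (m + 1) * k ^ (m + 1)) * z := by rw [h3]
    _ = k ^ (m + 1) * (k ^ (m + 1) * z) := by rw [mul_assoc]
    _ = k ^ (m + 1) * (z * (k ^ (m + 1))⁻¹) := by rw [h1]
    _ = k ^ (m + 1) * z * (k ^ (m + 1))⁻¹ := by rw [mul_assoc]

theorem card_inverted_eq_fix {z c : G} (hz : Cfsg.IsIsolatedInvolution z) (hcz : Commute c z) :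
    Nat.card {k : G // Odd (orderOf k) ∧ z * k * z⁻¹ = k⁻¹ ∧ Commute k c} =
      Nat.card (Fix z c) := by
  have hzi : z⁻¹ = z := inv_eq_self_of_orderOf_two hz.1
  have hzz : z * z = 1 := mul_self_of_orderOf_two hz.1
  apply Nat.card_congr
  refine
    { toFun := fun k => ⟨(k : G) * z, ⟨inverted_mul_mem_cls hz.1 k.2.1 k.2.2.1, ?_⟩⟩
      invFun := fun u => ⟨(u : G) * z, ⟨?_, ?_, ?_⟩⟩
      left_inv := ?_
      right_inv := ?_ }
  · exact k.2.2.2.mul_left hcz.symm
  · exact cls_mul_z_odd hz u.2.1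
  · have hui := cls_inv hz.1 u.2.1
    rw [mul_inv_rev, hzi, hui]
    calc z * ((u : G) * z) * z = z * u * (z * z) := by group
      _ = z * u := by rw [hzz, mul_one]
  · exact u.2.2.mul_left hcz.symm
  · intro k
    apply Subtype.ext
    show (k : G) * z * z = k
    rw [mul_assoc, hzz, mul_one]
  · intro u
    apply Subtype.ext
    show (u : G) * z * z = u
    rw [mul_assoc, hzz, mul_one]

end Cfsg.Agent.Lib.Helper10.IsoInv
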