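import Mathlib
import Cfsg.Agent.S0572

set_option autoImplicit false

namespace Cfsg.Agent.Lib.Helper10.ItoB

open scoped commutatorElement Pointwise

variable {G : Type*} [Group G]

structure Cex (A B : Subgroup G) : Prop where
  commA : ∀ x ∈ A, ∀ y ∈ A, x * y = y * x
  commB : ∀ x ∈ B, ∀ y ∈ B, x * y = y * x
  prod : ∀ g : G, ∃ a ∈ A, ∃ b ∈ B, g = a * b
  noA : ∀ N : Subgroup G, N.Normal → N ≤ A → N = ⊥
  noB : ∀ N : Subgroup G, N.Normal → N ≤ B → N = ⊥

theorem Cex.symm {A B : Subgroup G} (h : Cex A B) : Cex B A where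
  commA := h.commB
  commB := h.commA
  prod := by
    intro g
    obtain ⟨a, ha, b, hb, hg⟩ := h.prod g⁻¹
    refine ⟨b⁻¹, B.inv_mem hb, a⁻¹, A.inv_mem ha, ?_⟩
    rw [← mul_inv_rev, ← hg, inv_inv]
  noA := h.noB
  noB := h.noA

theorem normal_of_normalized {A B : Subgroup G} (h : Cex A B) (N : Subgroup G)
    (hA : ∀ a ∈ A, ∀ n ∈ N, a * n * a⁻¹ ∈ N) (hB : ∀ b ∈ B, ∀ n ∈ N, b * n * b⁻¹ ∈ N) :
    N.Normal := by
  constructor
  intro n hn g
  obtain ⟨a, ha, b, hb, rfl⟩ := h.prod g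
  have h1 := hA a ha _ (hB b hb n hn)
  have e : a * b * n * (a * b)⁻¹ = a * (b * n * b⁻¹) * a⁻¹ := by group
  rw [e]
  exact h1

theorem central_eq_one {A B : Subgroup G} (h : Cex A B) (z : G)
    (hzA : ∀ a ∈ A, a * z = z * a) (hzB : ∀ b ∈ B, b * z = z * b) (hz : z ∈ A ∨ z ∈ B) :
    z = 1 := by
  have hN : (Subgroup.zpowers z).Normal := by
    apply normal_of_normalized h
    · intro a ha n hn
      obtain ⟨k, rfl⟩ := Subgroup.mem_zpowers_iff.1 hn
      have : a * z ^ k * a⁻¹ = z ^ k := by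
        have hc : Commute a z := hzA a ha
        have := (hc.zpow_right k).eq
        rw [this]
        group
      rw [this]
      exact Subgroup.zpow_mem_zpowers z k
    · intro b hb n hn
      obtain ⟨k, rfl⟩ := Subgroup.mem_zpowers_iff.1 hn
      have : b * z ^ k * b⁻¹ = z ^ k := by
        have hc : Commute b z := hzB b hb
        have := (hc.zpow_right k).eq
        rw [this]
        group
      rw [this]
      exact Subgroup.zpow_mem_zpowers z k
  have hbot : Subgroup.zpowers z = ⊥ := by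
    rcases hz with hz | hz
    · exact h.noA _ hN (by rw [Subgroup.zpowers_le]; exact hz)
    · exact h.noB _ hN (by rw [Subgroup.zpowers_le]; exact hz)
  exact Subgroup.zpowers_eq_bot.1 hbot

theorem centralizer_A {A B : Subgroup G} (h : Cex A B) (g : G)
    (hg : ∀ a ∈ A, a * g = g * a) : g ∈ A := by
  obtain ⟨a, ha, b, hb, rfl⟩ := h.prod g
  have hb1 : b = 1 := by
    apply central_eq_one h b _ _ (Or.inr hb)
    · intro a' ha'
      have h1 := hg a' ha'
      have h2 := h.commA a' ha' a ha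
      calc a' * b = a⁻¹ * (a' * (a * b)) := by rw [← mul_assoc a', h2]; group
        _ = a⁻¹ * (a * b * a') := by rw [h1]
        _ = b * a' := by group
    · intro b' hb'
      exact h.commB b' hb' b hb
  rw [hb1, mul_one]
  exact ha

theorem comm_mem_commutator (x y : G) : ⁅x, y⁆ ∈ commutator G :=
  Subgroup.commutator_mem_commutator (Subgroup.mem_top x) (Subgroup.mem_top y)

theorem commutator_comm {A B : Subgroup G} [IsMulCommutative A] [IsMulCommutative B]
    (hAB : ∀ g : G, ∃ a ∈ A, ∃ b ∈ B, g = a * b) :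
    ∀ x ∈ commutator G, ∀ y ∈ commutator G, x * y = y * x := by
  have h2 := Cfsg.Agent.S0572.result A B hAB
  rw [show (2 : ℕ) = 1 + 1 from rfl, derivedSeries_succ, derivedSeries_one,
    Subgroup.commutator_eq_bot_iff_le_centralizer] at h2
  intro x hx y hy
  have := h2 hx
  rw [Subgroup.mem_centralizer_iff] at this
  exact (this y hy).symm

theorem inf_commutator_eq_bot {A B : Subgroup G} (h : Cex A B)
    (hM : ∀ x ∈ commutator G, ∀ y ∈ commutator G, x * y = y * x) :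
    commutator G ⊓ A = ⊥ := by
  apply h.noA _ _ inf_le_right
  apply normal_of_normalized h
  · intro a ha n hn
    have hnA := hn.2
    have : a * n * a⁻¹ = n := by
      rw [h.commA a ha n hnA]; group
    rw [this]; exact hn
  · intro b hb n hn
    have hyM : b * n * b⁻¹ ∈ commutator G :=
      (inferInstance : (commutator G).Normal).conj_mem n hn.1 b
    refine ⟨hyM, ?_⟩
    apply centralizer_A h
    intro a ha
    have hc : ⁅a, b⁆ ∈ commutator G := comm_mem_commutator a b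
    have e1 : a * b = ⁅a, b⁆ * b * a := by rw [commutatorElement_def]; group
    have e2 : a * n * a⁻¹ = n := by rw [h.commA a ha n hn.2]; group
    have e3 : a * (b * n * b⁻¹) * a⁻¹ = ⁅a, b⁆ * (b * n * b⁻¹) * ⁅a, b⁆⁻¹ := by
      calc a * (b * n * b⁻¹) * a⁻¹ = (a * b) * n * (a * b)⁻¹ := by group
        _ = (⁅a, b⁆ * b * a) * n * (⁅a, b⁆ * b * a)⁻¹ := by rw [← e1]
        _ = ⁅a, b⁆ * (b * (a * n * a⁻¹) * b⁻¹) * ⁅a, b⁆⁻¹ := by group
        _ = ⁅a, b⁆ * (b * n * b⁻¹) * ⁅a, b⁆⁻¹ := by rw [e2]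
    have e4 : ⁅a, b⁆ * (b * n * b⁻¹) * ⁅a, b⁆⁻¹ = b * n * b⁻¹ := by
      rw [hM _ hc _ hyM]; group
    rw [e4] at e3
    calc a * (b * n * b⁻¹) = (a * (b * n * b⁻¹) * a⁻¹) * a := by group
      _ = (b * n * b⁻¹) * a := by rw [e3]

theorem centralizer_commutator_inf_eq_bot {A B : Subgroup G} (h : Cex A B)
    (hM : ∀ x ∈ commutator G, ∀ y ∈ commutator G, x * y = y * x)
    (y : G) (hyA : y ∈ A) (hyM : ∀ m ∈ commutator G, y * m = m * y) : y = 1 := by
  apply central_eq_one h y _ _ (Or.inl hyA)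
  · intro a ha; exact h.commA a ha y hyA
  · intro b hb
    have hcM : ⁅y, b⁆ ∈ commutator G := comm_mem_commutator y b
    have hcA : ⁅y, b⁆ ∈ A := by
      apply centralizer_A h
      intro a ha
      have hd : ⁅a, b⁆ ∈ commutator G := comm_mem_commutator a b
      have e1 : a * b * a⁻¹ = ⁅a, b⁆ * b := by rw [commutatorElement_def]; group
      have e2 : a * y * a⁻¹ = y := by rw [h.commA a ha y hyA]; group
      have e3 : a * ⁅y, b⁆ * a⁻¹ = ⁅a * y * a⁻¹, a * b * a⁻¹⁆ := by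
        rw [commutatorElement_def, commutatorElement_def]; group
      have e4 : ⁅y, ⁅a, b⁆ * b⁆ = ⁅a, b⁆ * ⁅y, b⁆ * ⁅a, b⁆⁻¹ := by
        have := hyM _ hd
        calc ⁅y, ⁅a, b⁆ * b⁆ = (y * ⁅a, b⁆) * b * y⁻¹ * b⁻¹ * ⁅a, b⁆⁻¹ := by
              rw [commutatorElement_def y]; group
          _ = (⁅a, b⁆ * y) * b * y⁻¹ * b⁻¹ * ⁅a, b⁆⁻¹ := by rw [this]
          _ = ⁅a, b⁆ * ⁅y, b⁆ * ⁅a, b⁆⁻¹ := by rw [commutatorElement_def y b]; group
      have e5 : ⁅a, b⁆ * ⁅y, b⁆ * ⁅a, b⁆⁻¹ = ⁅y, b⁆ := by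
        rw [hM _ hd _ hcM]; group
      rw [e2, e1, e4, e5] at e3
      calc a * ⁅y, b⁆ = (a * ⁅y, b⁆ * a⁻¹) * a := by group
        _ = ⁅y, b⁆ * a := by rw [e3]
    have hc1 : ⁅y, b⁆ = 1 := by
      have : ⁅y, b⁆ ∈ commutator G ⊓ A := ⟨hcM, hcA⟩
      rw [inf_commutator_eq_bot h hM] at this
      exact Subgroup.mem_bot.1 this
    have := commutatorElement_eq_one_iff_mul_comm.1 hc1
    exact this.symm

end Cfsg.Agent.Lib.Helper10.ItoB
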