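import Mathlib
import Cfsg.Agent.Lib.Helper10.ItoB1
import Cfsg.Agent.Lib.Helper5.Card
import Cfsg.Agent.Lib.Helper1.Nilp

set_option autoImplicit false

namespace Cfsg.Agent.Lib.Helper10.ItoB

open scoped commutatorElement Pointwise

variable {G : Type*} [Group G]

def powKer (M : Subgroup G) (hM : ∀ x ∈ M, ∀ y ∈ M, x * y = y * x) (n : ℕ) : Subgroup G where
  carrier := {x | x ∈ M ∧ x ^ n = 1}
  one_mem' := ⟨one_mem _, one_pow n⟩
  mul_mem' := fun {x y} hx hy => ⟨mul_mem hx.1 hy.1, by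
    rw [(show Commute x y from hM x hx.1 y hy.1).mul_pow, hx.2, hy.2, one_mul]⟩
  inv_mem' := fun {x} hx => ⟨inv_mem hx.1, by rw [inv_pow, hx.2, inv_one]⟩

theorem mem_powKer {M : Subgroup G} {hM : ∀ x ∈ M, ∀ y ∈ M, x * y = y * x} {n : ℕ} {x : G} :
    x ∈ powKer M hM n ↔ x ∈ M ∧ x ^ n = 1 := Iff.rfl

theorem powKer_le (M : Subgroup G) (hM : ∀ x ∈ M, ∀ y ∈ M, x * y = y * x) (n : ℕ) :
    powKer M hM n ≤ M := fun _ hx => hx.1

theorem powKer_normal (M : Subgroup G) [M.Normal] (hM : ∀ x ∈ M, ∀ y ∈ M, x * y = y * x) (n : ℕ) :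
    (powKer M hM n).Normal := by
  constructor
  intro x hx g
  refine ⟨(inferInstance : M.Normal).conj_mem x hx.1 g, ?_⟩
  rw [conj_pow, hx.2]; group

theorem powKer_inf (M : Subgroup G) (hM : ∀ x ∈ M, ∀ y ∈ M, x * y = y * x) {m n : ℕ}
    (h : Nat.Coprime m n) : powKer M hM m ⊓ powKer M hM n = ⊥ := by
  rw [eq_bot_iff]
  intro x hx
  rw [Subgroup.mem_bot]
  have := (pow_gcd_eq_one (a := x)).2 ⟨hx.1.2, hx.2.2⟩
  rwa [Nat.Coprime.gcd_eq_one h, pow_one] at this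

theorem powKer_decomp (M : Subgroup G) (hM : ∀ x ∈ M, ∀ y ∈ M, x * y = y * x) {m n : ℕ}
    (h : Nat.Coprime m n) (hcard : ∀ x ∈ M, x ^ (m * n) = 1) (x : G) (hx : x ∈ M) :
    ∃ y ∈ powKer M hM m, ∃ z ∈ powKer M hM n, x = y * z := by
  have hb := Nat.gcd_eq_gcd_ab m n
  rw [Nat.Coprime.gcd_eq_one h] at hb
  refine ⟨(x ^ n) ^ (Nat.gcdB m n), ⟨M.zpow_mem (M.pow_mem hx n) _, ?_⟩,
    (x ^ m) ^ (Nat.gcdA m n), ⟨M.zpow_mem (M.pow_mem hx m) _, ?_⟩, ?_⟩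
  · rw [← zpow_natCast, ← zpow_mul, mul_comm, zpow_mul, zpow_natCast, ← pow_mul, mul_comm,
      hcard x hx, one_zpow]
  · rw [← zpow_natCast, ← zpow_mul, mul_comm, zpow_mul, zpow_natCast, ← pow_mul,
      hcard x hx, one_zpow]
  · rw [← zpow_natCast, ← zpow_natCast, ← zpow_mul, ← zpow_mul, ← zpow_add]
    have : (n : ℤ) * Nat.gcdB m n + (m : ℤ) * Nat.gcdA m n = 1 := by
      rw [add_comm]; exact_mod_cast hb.symm
    rw [this, zpow_one]

theorem powKer_isPGroup (M : Subgroup G) (hM : ∀ x ∈ M, ∀ y ∈ M, x * y = y * x) (p k : ℕ) :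
    IsPGroup p (powKer M hM (p ^ k)) := by
  intro g
  refine ⟨k, ?_⟩
  apply Subtype.ext
  rw [Subgroup.coe_pow]
  exact g.2.2

theorem powKer_ne_bot [Finite G] (M : Subgroup G) (hM : ∀ x ∈ M, ∀ y ∈ M, x * y = y * x)
    (p k : ℕ) [Fact p.Prime] (hp : p ∣ Nat.card M) (hk : 1 ≤ k) :
    powKer M hM (p ^ k) ≠ ⊥ := by
  obtain ⟨x, hx⟩ := exists_prime_orderOf_dvd_card' p hp
  intro hbot
  have hmem : (x : G) ∈ powKer M hM (p ^ k) := by
    refine ⟨x.2, ?_⟩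
    have : x ^ (p ^ k) = 1 := by
      rw [← orderOf_dvd_iff_pow_eq_one, hx]
      exact dvd_pow_self p (by omega)
    have h2 := congrArg Subtype.val this
    rwa [Subgroup.coe_pow] at h2
  rw [hbot, Subgroup.mem_bot] at hmem
  have hx1 : x = 1 := Subtype.ext hmem
  rw [hx1, orderOf_one] at hx
  exact (Fact.out : p.Prime).one_lt.ne hx

end Cfsg.Agent.Lib.Helper10.ItoB
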