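import Mathlib
import Cfsg.Agent.Lib.Helper10.ItoB2

set_option autoImplicit false

namespace Cfsg.Agent.Lib.Helper10.ItoB

open scoped commutatorElement Pointwise

variable {G : Type*} [Group G]

theorem key_rel {A B : Subgroup G} (h : Cex A B) {a w a' m' : G} (ha : a ∈ A) (ha' : a' ∈ A)
    (hb : a * w ∈ B) (hb' : a' * m' ∈ B) :
    (a'⁻¹ * w * a') * m' = (a⁻¹ * m' * a) * w := by
  have e1 := h.commB _ hb _ hb'
  have e2 := h.commA a ha a' ha'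
  have e3 : a * w * (a' * m') = a * a' * ((a'⁻¹ * w * a') * m') := by group
  have e4 : a' * m' * (a * w) = a' * a * ((a⁻¹ * m' * a) * w) := by group
  rw [e3, e4, e2] at e1
  exact mul_left_cancel e1

theorem exists_fixed [Finite G] {p : ℕ} [Fact p.Prime] (Ap Mp : Subgroup G) [Mp.Normal]
    (hAp : IsPGroup p Ap) (hMp : IsPGroup p Mp) (hne : Mp ≠ ⊥) :
    ∃ w ∈ Mp, w ≠ 1 ∧ ∀ a ∈ Ap, a * w = w * a := by
  have hP : IsPGroup p (Ap ⊔ Mp : Subgroup G) := IsPGroup.to_sup_of_normal_right hAp hMp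
  have hnil : Group.IsNilpotent (Ap ⊔ Mp : Subgroup G) := hP.isNilpotent
  have hN : (Mp.subgroupOf (Ap ⊔ Mp)).Normal := Subgroup.Normal.subgroupOf inferInstance _
  have hNne : Mp.subgroupOf (Ap ⊔ Mp) ≠ ⊥ := by
    intro hb
    rw [Subgroup.subgroupOf_eq_bot] at hb
    exact hne (disjoint_self.1 (hb.mono_right (le_sup_right : Mp ≤ Ap ⊔ Mp)))
  have h1 := Cfsg.Agent.Lib.Helper1.normal_inf_center_ne_bot (Mp.subgroupOf (Ap ⊔ Mp)) hNne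
  obtain ⟨⟨⟨z, hzP⟩, hz⟩, hz1⟩ := (Subgroup.ne_bot_iff_exists_ne_one).1 h1
  refine ⟨z, ?_, ?_, ?_⟩
  · have := (Subgroup.mem_inf.1 hz).1
    rwa [Subgroup.mem_subgroupOf] at this
  · intro h; apply hz1; apply Subtype.ext; apply Subtype.ext; exact h
  · intro a ha
    have hc := (Subgroup.mem_inf.1 hz).2
    rw [Subgroup.mem_center_iff] at hc
    have := hc ⟨a, (le_sup_left : Ap ≤ Ap ⊔ Mp) ha⟩
    exact congrArg Subtype.val this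

theorem card_Ap [Finite G] {A B : Subgroup G} (h : Cex A B) (Mp : Subgroup G) [Mp.Normal]
    (hBM : B ⊓ Mp = ⊥) (hAB : A ⊓ B = ⊥) :
    Nat.card (A ⊓ (B ⊔ Mp) : Subgroup G) = Nat.card Mp := by
  have h1 := Cfsg.Agent.Lib.Helper5.card_mul_set_mul_card_inf B Mp
  have h2 := Cfsg.Agent.Lib.Helper5.card_mul_set_mul_card_inf (A ⊓ (B ⊔ Mp)) B
  have hs1 : ((B : Set G) * (Mp : Set G)) = ((B ⊔ Mp : Subgroup G) : Set G) :=
    (Subgroup.mul_normal B Mp).symm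
  have hs2 : (((A ⊓ (B ⊔ Mp) : Subgroup G) : Set G) * (B : Set G)) =
      ((B ⊔ Mp : Subgroup G) : Set G) := by
    ext x
    constructor
    · rintro ⟨y, hy, z, hz, rfl⟩
      exact mul_mem hy.2 ((le_sup_left : B ≤ B ⊔ Mp) hz)
    · intro hx
      obtain ⟨a, ha, b, hb, rfl⟩ := h.prod x
      refine ⟨a, ⟨ha, ?_⟩, b, hb, rfl⟩
      have : a = a * b * b⁻¹ := by group
      rw [this]
      exact (B ⊔ Mp).mul_mem hx ((B ⊔ Mp).inv_mem ((le_sup_left : B ≤ B ⊔ Mp) hb))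
  rw [hs1, hBM] at h1
  rw [hs2] at h2
  have h3 : (A ⊓ (B ⊔ Mp)) ⊓ B = ⊥ := by
    rw [eq_bot_iff, ← hAB]
    exact fun x hx => ⟨hx.1.1, hx.2⟩
  rw [h3] at h2
  rw [Subgroup.card_bot, mul_one] at h1 h2
  rw [h1, mul_comm] at h2
  exact (Nat.eq_of_mul_eq_mul_right Nat.card_pos h2).symm

theorem false_of_cex [Finite G] {A B : Subgroup G} (h : Cex A B)
    (hM : ∀ x ∈ commutator G, ∀ y ∈ commutator G, x * y = y * x)
    (hne : commutator G ≠ ⊥) : False := by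
  have hMA : ∀ m ∈ commutator G, m ∈ A → m = 1 := by
    intro m hm hmA
    have : m ∈ commutator G ⊓ A := ⟨hm, hmA⟩
    rw [inf_commutator_eq_bot h hM] at this
    exact Subgroup.mem_bot.1 this
  have hMB : ∀ m ∈ commutator G, m ∈ B → m = 1 := by
    intro m hm hmB
    have : m ∈ commutator G ⊓ B := ⟨hm, hmB⟩
    rw [inf_commutator_eq_bot h.symm hM] at this
    exact Subgroup.mem_bot.1 this
  have hABbot : A ⊓ B = ⊥ := by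
    rw [eq_bot_iff]
    intro z hz
    rw [Subgroup.mem_bot]
    exact central_eq_one h z (fun a ha => h.commA a ha z hz.1) (fun b hb => h.commB b hb z hz.2)
      (Or.inl hz.1)
  have hn1 : Nat.card (commutator G) ≠ 1 := fun h1 => hne (Subgroup.card_eq_one.1 h1)
  obtain ⟨p, hp, hpd⟩ := Nat.exists_prime_and_dvd hn1
  have hpf : Fact p.Prime := ⟨hp⟩
  obtain ⟨n, hn⟩ : ∃ n, n = Nat.card (commutator G) := ⟨_, rfl⟩
  rw [← hn] at hpd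
  have hn0 : n ≠ 0 := by rw [hn]; exact Nat.card_pos.ne'
  obtain ⟨k, hk⟩ : ∃ k, k = n.factorization p := ⟨_, rfl⟩
  obtain ⟨t, ht⟩ : ∃ t, t = n / p ^ k := ⟨_, rfl⟩
  have hkt : p ^ k * t = n := by rw [ht, hk]; exact Nat.ordProj_mul_ordCompl_eq_self n p
  have hcop : Nat.Coprime (p ^ k) t := by
    rw [ht, hk]; exact (Nat.coprime_ordCompl hp hn0).pow_left _
  have hk1 : 1 ≤ k := by
    rw [hk]; exact (hp.dvd_iff_one_le_factorization hn0).1 hpd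
  have hcard : ∀ x ∈ commutator G, x ^ (p ^ k * t) = 1 := by
    intro x hx
    rw [hkt, hn]
    have := pow_card_eq_one' (G := commutator G) (x := ⟨x, hx⟩)
    have h2 := congrArg Subtype.val this
    rwa [Subgroup.coe_pow] at h2
  obtain ⟨Mp, hMpdef⟩ : ∃ Mp, Mp = powKer (commutator G) hM (p ^ k) := ⟨_, rfl⟩
  obtain ⟨Mq, hMqdef⟩ : ∃ Mq, Mq = powKer (commutator G) hM t := ⟨_, rfl⟩
  have hMpN : Mp.Normal := by rw [hMpdef]; exact powKer_normal _ hM _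
  have hMqN : Mq.Normal := by rw [hMqdef]; exact powKer_normal _ hM _
  have hMpM : Mp ≤ commutator G := by rw [hMpdef]; exact powKer_le _ hM _
  have hMqM : Mq ≤ commutator G := by rw [hMqdef]; exact powKer_le _ hM _
  have hMpq : Mp ⊓ Mq = ⊥ := by rw [hMpdef, hMqdef]; exact powKer_inf _ hM hcop
  have hMpP : IsPGroup p Mp := by rw [hMpdef]; exact powKer_isPGroup _ hM p k
  have hMpne : Mp ≠ ⊥ := by
    rw [hMpdef]; exact powKer_ne_bot _ hM p k (by rw [← hn]; exact hpd) hk1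
  have hBMp : B ⊓ Mp = ⊥ := by
    rw [eq_bot_iff]
    intro z hz
    rw [Subgroup.mem_bot]
    exact hMB z (hMpM hz.2) hz.1
  have hcardAp := card_Ap h Mp hBMp hABbot
  have hApP : IsPGroup p (A ⊓ (B ⊔ Mp) : Subgroup G) := by
    obtain ⟨j, hj⟩ := (IsPGroup.iff_card).1 hMpP
    exact IsPGroup.of_card (n := j) (by rw [hcardAp, hj])
  obtain ⟨w, hwMp, hw1, hwc⟩ := exists_fixed (A ⊓ (B ⊔ Mp)) Mp hApP hMpP hMpne
  obtain ⟨a₀, ha₀, b₀, hb₀, hw⟩ := h.prod w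
  have haw : a₀⁻¹ * w ∈ B := by rw [hw]; simpa using hb₀
  have ha : a₀⁻¹ ∈ A := A.inv_mem ha₀
  have ha1 : a₀⁻¹ ≠ 1 := by
    intro h1
    rw [h1, one_mul] at haw
    exact hw1 (hMB w (hMpM hwMp) haw)
  have hmemAp : ∀ a' m', a' ∈ A → m' ∈ Mp → a' * m' ∈ B → a' ∈ A ⊓ (B ⊔ Mp) := by
    intro a' m' ha' hm' hb'
    refine ⟨ha', ?_⟩
    have : a' = a' * m' * m'⁻¹ := by group
    rw [this]
    exact (B ⊔ Mp).mul_mem ((le_sup_left : B ≤ B ⊔ Mp) hb')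
      ((B ⊔ Mp).inv_mem ((le_sup_right : Mp ≤ B ⊔ Mp) hm'))
  have hcentP : ∀ m' ∈ Mp, a₀⁻¹ * m' = m' * a₀⁻¹ := by
    intro m' hm'
    obtain ⟨a₁, ha₁, b₁, hb₁, hm'e⟩ := h.prod m'
    have hb' : a₁⁻¹ * m' ∈ B := by rw [hm'e]; simpa using hb₁
    have ha' : a₁⁻¹ ∈ A := A.inv_mem ha₁
    have hrel := key_rel h ha ha' haw hb'
    have hcomm := hwc _ (hmemAp _ _ ha' hm' hb')
    have e1 : a₁⁻¹⁻¹ * w * a₁⁻¹ = w := by
      rw [mul_assoc, ← hcomm]; group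
    rw [e1] at hrel
    have hvM : a₀⁻¹⁻¹ * m' * a₀⁻¹ ∈ commutator G := by
      have := (inferInstance : (commutator G).Normal).conj_mem m' (hMpM hm') (a₀⁻¹⁻¹)
      simpa using this
    have e2 : a₀⁻¹⁻¹ * m' * a₀⁻¹ * w = w * (a₀⁻¹⁻¹ * m' * a₀⁻¹) :=
      hM _ hvM _ (hMpM hwMp)
    rw [e2] at hrel
    have e3 := mul_left_cancel hrel
    calc a₀⁻¹ * m' = a₀⁻¹ * (a₀⁻¹⁻¹ * m' * a₀⁻¹) := by rw [← e3]
      _ = m' * a₀⁻¹ := by group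
  have hcentQ : ∀ m' ∈ Mq, a₀⁻¹ * m' = m' * a₀⁻¹ := by
    intro m' hm'
    obtain ⟨a₁, ha₁, b₁, hb₁, hm'e⟩ := h.prod m'
    have hb' : a₁⁻¹ * m' ∈ B := by rw [hm'e]; simpa using hb₁
    have ha' : a₁⁻¹ ∈ A := A.inv_mem ha₁
    have hrel := key_rel h ha ha' haw hb'
    have huP : a₁⁻¹⁻¹ * w * a₁⁻¹ ∈ Mp := by
      have := hMpN.conj_mem w hwMp (a₁⁻¹⁻¹)
      simpa using this
    have hvQ : a₀⁻¹⁻¹ * m' * a₀⁻¹ ∈ Mq := by
      have := hMqN.conj_mem m' hm' (a₀⁻¹⁻¹)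
      simpa using this
    have e1 : (a₁⁻¹⁻¹ * w * a₁⁻¹) * w⁻¹ = (a₀⁻¹⁻¹ * m' * a₀⁻¹) * m'⁻¹ := by
      have c1 : a₁⁻¹⁻¹ * w * a₁⁻¹ * m' = m' * (a₁⁻¹⁻¹ * w * a₁⁻¹) :=
        hM _ (hMpM huP) _ (hMqM hm')
      have c2 : (a₀⁻¹⁻¹ * m' * a₀⁻¹) * w = w * (a₀⁻¹⁻¹ * m' * a₀⁻¹) :=
        hM _ (hMqM hvQ) _ (hMpM hwMp)
      have c3 : m' * w = w * m' := hM _ (hMqM hm') _ (hMpM hwMp)
      rw [c1, c2] at hrel
      calc (a₁⁻¹⁻¹ * w * a₁⁻¹) * w⁻¹ = m'⁻¹ * (m' * (a₁⁻¹⁻¹ * w * a₁⁻¹)) * w⁻¹ := by group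
        _ = m'⁻¹ * (w * (a₀⁻¹⁻¹ * m' * a₀⁻¹)) * w⁻¹ := by rw [hrel]
        _ = m'⁻¹ * ((a₀⁻¹⁻¹ * m' * a₀⁻¹) * w) * w⁻¹ := by rw [c2]
        _ = m'⁻¹ * (a₀⁻¹⁻¹ * m' * a₀⁻¹) := by group
        _ = (a₀⁻¹⁻¹ * m' * a₀⁻¹) * m'⁻¹ := by
          exact hM _ (inv_mem (hMqM hm')) _ (hMqM hvQ)
    have hin : (a₀⁻¹⁻¹ * m' * a₀⁻¹) * m'⁻¹ ∈ Mp ⊓ Mq := by
      refine ⟨?_, Mq.mul_mem hvQ (Mq.inv_mem hm')⟩
      rw [← e1]
      exact Mp.mul_mem huP (Mp.inv_mem hwMp)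
    rw [hMpq, Subgroup.mem_bot] at hin
    have e3 : a₀⁻¹⁻¹ * m' * a₀⁻¹ = m' := by
      calc a₀⁻¹⁻¹ * m' * a₀⁻¹ = (a₀⁻¹⁻¹ * m' * a₀⁻¹ * m'⁻¹) * m' := by group
        _ = m' := by rw [hin, one_mul]
    calc a₀⁻¹ * m' = a₀⁻¹ * (a₀⁻¹⁻¹ * m' * a₀⁻¹) := by rw [e3]
      _ = m' * a₀⁻¹ := by group
  apply ha1
  apply centralizer_commutator_inf_eq_bot h hM _ ha
  intro m hm
  obtain ⟨y, hy, z, hz, rfl⟩ := powKer_decomp (commutator G) hM hcop hcard m hm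
  rw [← hMpdef] at hy
  rw [← hMqdef] at hz
  rw [← mul_assoc, hcentP y hy, mul_assoc, hcentQ z hz, ← mul_assoc]

end Cfsg.Agent.Lib.Helper10.ItoB
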