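import Mathlib
import Cfsg.Agent.Lib.Helper10.KF1

set_option autoImplicit false

/-! Existence of a characteristic subgroup `K` of a finite `p`-group `S` (`p` odd) containing its
centralizer and normal in every "nice" group having `S` as a Sylow `p`-subgroup. -/

universe u

namespace Cfsg.Agent.Lib.Helper10.KF

open scoped Pointwise
open Cfsg.Agent.Lib.Helper9 Cfsg.Agent.Lib.Helper10.ZJnpc Cfsg.Agent.Lib.Helper10.ZJsc
  Cfsg.Agent.Lib.Helper10.ZJfree Cfsg.Agent.Lib.Helper13

/-- The family predicate "commutative". -/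
abbrev Qc : ∀ (X : Type u) [Group X], Subgroup X → Prop :=
  fun (X : Type u) [Group X] (A : Subgroup X) => IsMulCommutative A

/-- `K` is a good characteristic subgroup of `S`. -/
def Good (p : ℕ) (S : Type u) [Group S] (K : Subgroup S) : Prop :=
  K.Characteristic ∧ Subgroup.centralizer (K : Set S) ≤ K ∧
    ∀ (X : Type u) [Group X] [Finite X], Nice p X → ∀ ι : S →* X, Function.Injective ι →
      ¬ p ∣ ι.range.index → (K.map ι).Normal

section Aux

variable {p : ℕ} [Fact p.Prime]

theorem zj_map_normal (hp : p ≠ 2) {S : Type u} [Group S] [Finite S] (hS : IsPGroup p S)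
    {X : Type u} [Group X] [Finite X] (hX : Nice p X) (ι : S →* X) (hι : Function.Injective ι)
    (hsyl : ¬ p ∣ ι.range.index) : ((Wz Qc S).map ι).Normal := by
  have hQ := qfam_comm (p := p) hp
  have hrp : IsPGroup p ι.range := by
    rw [MonoidHom.range_eq_map]
    exact (hS.to_subgroup ⊤).map ι
  obtain ⟨T, hT⟩ : ∃ T : Sylow p X, (T : Subgroup X) = ι.range :=
    ⟨hrp.toSylow hsyl, IsPGroup.toSylow_coe _ _⟩
  have h1 := zfam_normal_sc (Qc X) T (hQ.hyp X T) (T : Subgroup X) ⟨le_rfl, fun x _ g hg => hg⟩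
    hX.1 (nice_nps hX)
  obtain ⟨S₀⟩ : Nonempty (Sylow p S) := inferInstance
  have h2 := zfam_map_of_injOn ι ⊤ (hι.injOn) (Qc S) (Qc X) (hQ.hyp S S₀).bot
    (fun A hA => hQ.map S X ι ⊤ A hι.injOn hA)
  rw [← MonoidHom.range_eq_map, ← hT] at h2
  unfold Wz
  rw [← h2]
  exact h1

theorem index_of_mem_iff {X : Type*} [Group X] [Finite X] (T C : Subgroup X) [C.Normal]
    (hT : ¬ p ∣ T.index) (R : Subgroup ↥C) (hR : ∀ x : ↥C, x ∈ R ↔ (x : X) ∈ T) :
    ¬ p ∣ R.index := by
  have hRT : R = T.subgroupOf C := by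
    ext x
    rw [hR, Subgroup.mem_subgroupOf]
  rw [hRT]
  intro hd
  exact hT (hd.trans (relIndex_dvd_index_of_normal_right T C))

/-- Frattini step: a characteristic subgroup of a Sylow `p`-subgroup of a normal subgroup `C`
which is normal in `C` is normal in the whole group. -/
theorem normal_of_normal_in_normal {X : Type*} [Group X] [Finite X] (C : Subgroup X) [C.Normal]
    {S' : Type*} [Group S'] (hS' : IsPGroup p S') (K' : Subgroup S') [K'.Characteristic]
    (ι' : S' →* ↥C) (hι' : Function.Injective ι') (hsyl : ¬ p ∣ ι'.range.index)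
    (hn : (K'.map ι').Normal) : (K'.map (C.subtype.comp ι')).Normal := by
  have hrp : IsPGroup p ι'.range := by
    rw [MonoidHom.range_eq_map]
    exact (hS'.to_subgroup ⊤).map ι'
  obtain ⟨P, hP⟩ : ∃ P : Sylow p ↥C, (P : Subgroup ↥C) = ι'.range :=
    ⟨hrp.toSylow hsyl, IsPGroup.toSylow_coe _ _⟩
  have hfr := Sylow.normalizer_sup_eq_top P
  rw [hP] at hfr
  have hrange : (ι'.range).map C.subtype = (C.subtype.comp ι').range := by
    rw [MonoidHom.range_comp]
  rw [hrange] at hfr
  have h1 : Subgroup.normalizer ((C.subtype.comp ι').range : Set X) ≤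
      Subgroup.normalizer (K'.map (C.subtype.comp ι') : Set X) :=
    normalizer_range_le K' _ (C.subtype_injective.comp hι')
  have h2 : C ≤ Subgroup.normalizer (K'.map (C.subtype.comp ι') : Set X) := by
    have h3 := Subgroup.le_normalizer_map C.subtype (H := K'.map ι')
    rw [Subgroup.normalizer_eq_top_iff.mpr hn, ← MonoidHom.range_eq_map, Subgroup.range_subtype,
      Subgroup.map_map] at h3
    exact h3
  rw [← Subgroup.normalizer_eq_top_iff, eq_top_iff, ← hfr]
  exact sup_le h1 h2

end Aux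

end Cfsg.Agent.Lib.Helper10.KF
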