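import Mathlib
import Cfsg.Agent.Lib.Helper10.KF2

set_option autoImplicit false

/-! The two inductive steps for the existence of good characteristic subgroups. -/

universe u

namespace Cfsg.Agent.Lib.Helper10.KF

open scoped Pointwise
open Cfsg.Agent.Lib.Helper9 Cfsg.Agent.Lib.Helper10.ZJnpc Cfsg.Agent.Lib.Helper10.ZJsc
  Cfsg.Agent.Lib.Helper10.ZJfree Cfsg.Agent.Lib.Helper13

section Steps

variable {p : ℕ} [Fact p.Prime]

theorem wz_map_eq (hp : p ≠ 2) {S : Type u} [Group S] [Finite S] (hS : IsPGroup p S) (φ : S ≃* S) :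
    (Wz Qc S).map φ.toMonoidHom = Wz Qc S :=
  (isCharPFunctor_Wz (qfam_comm (p := p) hp)).2 S S hS φ

theorem wz_comm (hp : p ≠ 2) {S : Type u} [Group S] [Finite S] {x y : S}
    (hx : x ∈ Wz Qc S) (hy : y ∈ Wz Qc S) : x * y = y * x := by
  obtain ⟨S₀⟩ : Nonempty (Sylow p S) := inferInstance
  exact zfam_comm (Qc S) ((qfam_comm (p := p) hp).hyp S S₀).bot (fun A h => h) ⊤ hx hy

set_option maxHeartbeats 800000 in
/-- Step B: `Z = ZJ(S)` central in `S`; lift a good subgroup of `S / Z`. -/
theorem good_of_quotient (hp : p ≠ 2) {S : Type u} [Group S] [Finite S] (hS : IsPGroup p S)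
    [hZn : (Wz Qc S).Normal] (hZc : Wz Qc S ≤ Subgroup.center S)
    (Kb : Subgroup (S ⧸ Wz Qc S)) (hKb : Good p (S ⧸ Wz Qc S) Kb) :
    Good p S (Kb.comap (QuotientGroup.mk' (Wz Qc S))) := by
  obtain ⟨hKbchar, hKbcent, hKbn⟩ := hKb
  obtain ⟨Z, hZdef⟩ : ∃ Z : Subgroup S, Z = Wz Qc S := ⟨_, rfl⟩
  have hZK : Wz Qc S ≤ Kb.comap (QuotientGroup.mk' (Wz Qc S)) := by
    intro z hz
    rw [Subgroup.mem_comap]
    have : QuotientGroup.mk' (Wz Qc S) z = 1 := (QuotientGroup.eq_one_iff z).mpr hz
    rw [this]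
    exact Subgroup.one_mem _
  have hchar : (Kb.comap (QuotientGroup.mk' (Wz Qc S))).Characteristic := by
    rw [Subgroup.characteristic_iff_comap_eq]
    intro φ
    have hφ : (Wz Qc S).map φ.toMonoidHom = Wz Qc S := wz_map_eq hp hS φ
    have hcomp : (QuotientGroup.mk' (Wz Qc S)).comp φ.toMonoidHom =
        (QuotientGroup.congr (Wz Qc S) (Wz Qc S) φ hφ).toMonoidHom.comp
          (QuotientGroup.mk' (Wz Qc S)) := by
      ext s
      rfl
    rw [Subgroup.comap_comap, hcomp, ← Subgroup.comap_comap,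
      Subgroup.characteristic_iff_comap_eq.mp hKbchar]
  refine ⟨hchar, ?_, ?_⟩
  · intro x hx
    rw [Subgroup.mem_comap]
    apply hKbcent
    rw [Subgroup.mem_centralizer_iff]
    intro yb hyb
    obtain ⟨y, rfl⟩ := QuotientGroup.mk_surjective yb
    have hy : y ∈ Kb.comap (QuotientGroup.mk' (Wz Qc S)) := hyb
    have h1 := Subgroup.mem_centralizer_iff.mp hx y hy
    show (QuotientGroup.mk' (Wz Qc S)) y * (QuotientGroup.mk' (Wz Qc S)) x =
      (QuotientGroup.mk' (Wz Qc S)) x * (QuotientGroup.mk' (Wz Qc S)) y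
    rw [← map_mul, ← map_mul, h1]
  · intro X _ _ hX ι hι hsyl
    have hZXn : ((Wz Qc S).map ι).Normal := zj_map_normal hp hS hX ι hι hsyl
    obtain ⟨C, hCdef⟩ : ∃ C : Subgroup X, C = Subgroup.centralizer (((Wz Qc S).map ι : Subgroup X) : Set X) :=
      ⟨_, rfl⟩
    haveI hCn : C.Normal := by rw [hCdef]; infer_instance
    have hιC : ∀ s : S, ι s ∈ C := by
      intro s
      rw [hCdef, Subgroup.mem_centralizer_iff]
      rintro _ ⟨z, hz, rfl⟩
      have h1 := Subgroup.mem_center_iff.mp (hZc hz) s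
      rw [← map_mul, ← map_mul, h1]
    have hι₀ : Function.Injective (ι.codRestrict C hιC) := by
      intro a b hab
      apply hι
      have := congrArg Subtype.val hab
      simpa using this
    have hCnice : Nice p ↥C := nice_normal_subgroup hX C
    obtain ⟨ZC, hZCdef⟩ : ∃ ZC : Subgroup ↥C, ZC = ((Wz Qc S).map ι).subgroupOf C := ⟨_, rfl⟩
    haveI hZCn : ZC.Normal := by rw [hZCdef]; exact Subgroup.Normal.subgroupOf hZXn C
    have hZCp : IsPGroup p ZC := by
      rw [hZCdef]
      exact ((hS.to_subgroup (Wz Qc S)).map ι).comap_subtype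
    have hZCc : ZC ≤ Subgroup.center ↥C := by
      intro z hz
      rw [Subgroup.mem_center_iff]
      intro c
      apply Subtype.ext
      have hz' : (z : X) ∈ (Wz Qc S).map ι := by
        rw [hZCdef, Subgroup.mem_subgroupOf] at hz
        exact hz
      have hc : (c : X) ∈ Subgroup.centralizer (((Wz Qc S).map ι : Subgroup X) : Set X) := by
        rw [← hCdef]; exact c.2
      have := Subgroup.mem_centralizer_iff.mp hc _ hz'
      simp only [Subgroup.coe_mul]
      exact this.symm
    have hCbnice : Nice p (↥C ⧸ ZC) := nice_quotient_central hCnice ZC hZCp hZCc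
    have hle : Wz Qc S ≤ ZC.comap (ι.codRestrict C hιC) := by
      intro z hz
      rw [Subgroup.mem_comap, hZCdef, Subgroup.mem_subgroupOf]
      exact ⟨z, hz, rfl⟩
    obtain ⟨ιb, hιbdef⟩ : ∃ ιb : S ⧸ Wz Qc S →* ↥C ⧸ ZC,
        ιb = QuotientGroup.map (Wz Qc S) ZC (ι.codRestrict C hιC) hle := ⟨_, rfl⟩
    have hιb_mk : ∀ s : S, ιb (QuotientGroup.mk' (Wz Qc S) s) =
        QuotientGroup.mk' ZC (ι.codRestrict C hιC s) := by
      intro s
      rw [hιbdef]
      rfl
    have hιbinj : Function.Injective ιb := by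
      rw [injective_iff_map_eq_one]
      intro sb hsb
      obtain ⟨s, rfl⟩ := QuotientGroup.mk_surjective sb
      have h1 : ιb (QuotientGroup.mk' (Wz Qc S) s) = 1 := hsb
      rw [hιb_mk, QuotientGroup.mk'_apply, QuotientGroup.eq_one_iff, hZCdef,
        Subgroup.mem_subgroupOf] at h1
      obtain ⟨z, hz, hzs⟩ := h1
      have : z = s := hι (by simpa using hzs)
      rw [← this]
      exact (QuotientGroup.eq_one_iff z).mpr hz
    have hιbsyl : ¬ p ∣ ιb.range.index := by
      have h1 : ιb.range = ((ι.codRestrict C hιC).range).map (QuotientGroup.mk' ZC) := by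
        ext y
        constructor
        · rintro ⟨sb, rfl⟩
          obtain ⟨s, rfl⟩ := QuotientGroup.mk_surjective sb
          exact ⟨ι.codRestrict C hιC s, ⟨s, rfl⟩, (hιb_mk s).symm⟩
        · rintro ⟨_, ⟨s, rfl⟩, rfl⟩
          exact ⟨QuotientGroup.mk' (Wz Qc S) s, hιb_mk s⟩
      rw [h1]
      have h2 := Subgroup.index_map_dvd ((ι.codRestrict C hιC).range)
        (QuotientGroup.mk'_surjective ZC)
      have h3 : ¬ p ∣ ((ι.codRestrict C hιC).range).index := by
        apply index_of_mem_iff ι.range C hsyl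
        intro x
        constructor
        · rintro ⟨s, rfl⟩
          exact ⟨s, rfl⟩
        · rintro ⟨s, hs⟩
          exact ⟨s, Subtype.ext hs⟩
      exact fun hd => h3 (hd.trans h2)
    have hnb : (Kb.map ιb).Normal := hKbn (↥C ⧸ ZC) hCbnice ιb hιbinj hιbsyl
    have hclaim : (Kb.map ιb).comap (QuotientGroup.mk' ZC) =
        (Kb.comap (QuotientGroup.mk' (Wz Qc S))).map (ι.codRestrict C hιC) := by
      ext x
      rw [Subgroup.mem_comap]
      constructor
      · rintro ⟨sb, hsb, hsx⟩
        obtain ⟨s, rfl⟩ := QuotientGroup.mk_surjective sb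
        have h1 : ιb (QuotientGroup.mk' (Wz Qc S) s) = QuotientGroup.mk' ZC x := hsx
        rw [hιb_mk] at h1
        have h2 : (ι.codRestrict C hιC s)⁻¹ * x ∈ ZC := by
          rw [← QuotientGroup.eq]
          exact h1
        rw [hZCdef, Subgroup.mem_subgroupOf] at h2
        obtain ⟨z, hz, hzx⟩ := h2
        refine ⟨s * z, ?_, ?_⟩
        · exact Subgroup.mul_mem _ hsb (hZK hz)
        · apply Subtype.ext
          have h3 : ι z = (ι s)⁻¹ * (x : X) := by simpa using hzx
          show ι (s * z) = (x : X)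
          rw [map_mul, h3]; group
      · rintro ⟨s, hs, rfl⟩
        exact ⟨QuotientGroup.mk' (Wz Qc S) s, hs, hιb_mk s⟩
    have hn0 : ((Kb.comap (QuotientGroup.mk' (Wz Qc S))).map (ι.codRestrict C hιC)).Normal := by
      rw [← hclaim]
      exact Subgroup.Normal.comap hnb _
    have hfinal := normal_of_normal_in_normal C hS (Kb.comap (QuotientGroup.mk' (Wz Qc S)))
      (ι.codRestrict C hιC) hι₀ (by
        apply index_of_mem_iff ι.range C hsyl
        intro x
        constructor
        · rintro ⟨s, rfl⟩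
          exact ⟨s, rfl⟩
        · rintro ⟨s, hs⟩
          exact ⟨s, Subtype.ext hs⟩) hn0
    have hcomp : C.subtype.comp (ι.codRestrict C hιC) = ι := by
      ext s; rfl
    rw [hcomp] at hfinal
    exact hfinal

set_option maxHeartbeats 800000 in
/-- Step A: pass to `S₁ = C_S(ZJ(S))`. -/
theorem good_of_centralizer (hp : p ≠ 2) {S : Type u} [Group S] [Finite S] (hS : IsPGroup p S)
    (K₁ : Subgroup ↥(Subgroup.centralizer ((Wz Qc S : Subgroup S) : Set S)))
    (hK₁ : Good p ↥(Subgroup.centralizer ((Wz Qc S : Subgroup S) : Set S)) K₁) :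
    Good p S (K₁.map (Subgroup.centralizer ((Wz Qc S : Subgroup S) : Set S)).subtype) := by
  obtain ⟨hK₁char, hK₁cent, hK₁n⟩ := hK₁
  obtain ⟨S₁, hS₁def⟩ : ∃ S₁ : Subgroup S, S₁ = Subgroup.centralizer ((Wz Qc S : Subgroup S) : Set S) :=
    ⟨_, rfl⟩
  have hZS₁ : Wz Qc S ≤ Subgroup.centralizer ((Wz Qc S : Subgroup S) : Set S) := by
    intro z hz
    rw [Subgroup.mem_centralizer_iff]
    intro y hy
    exact wz_comm hp hy hz
  -- `Z ≤ K`
  have hZK : ∀ z (hz : z ∈ Wz Qc S), (⟨z, hZS₁ hz⟩ :
      ↥(Subgroup.centralizer ((Wz Qc S : Subgroup S) : Set S))) ∈ K₁ := by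
    intro z hz
    apply hK₁cent
    rw [Subgroup.mem_centralizer_iff]
    intro k _
    apply Subtype.ext
    have hk := k.2
    rw [Subgroup.mem_centralizer_iff] at hk
    simp only [Subgroup.coe_mul]
    exact (hk z hz).symm
  have hS₁char : (Subgroup.centralizer ((Wz Qc S : Subgroup S) : Set S)).Characteristic := by
    rw [Subgroup.characteristic_iff_map_le]
    intro φ
    rintro _ ⟨y, hy, rfl⟩
    rw [Subgroup.mem_centralizer_iff]
    intro z hz
    have hz' : z ∈ (Wz Qc S).map φ.toMonoidHom := by rw [wz_map_eq hp hS φ]; exact hz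
    obtain ⟨z', hz', rfl⟩ := hz'
    have h1 := Subgroup.mem_centralizer_iff.mp hy z' hz'
    show φ z' * φ y = φ y * φ z'
    rw [← map_mul, ← map_mul, h1]
  have hchar : (K₁.map (Subgroup.centralizer ((Wz Qc S : Subgroup S) : Set S)).subtype).Characteristic := by
    rw [Subgroup.characteristic_iff_map_eq]
    intro φ
    have hmap := Subgroup.characteristic_iff_map_eq.mp hS₁char φ
    obtain ⟨φ₁, hφ₁⟩ : ∃ φ₁ : ↥(Subgroup.centralizer ((Wz Qc S : Subgroup S) : Set S)) ≃*
        ↥(Subgroup.centralizer ((Wz Qc S : Subgroup S) : Set S)),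
        ∀ s, ((φ₁ s : ↥(Subgroup.centralizer ((Wz Qc S : Subgroup S) : Set S))) : S) = φ (s : S) := by
      refine ⟨(φ.subgroupMap _).trans (MulEquiv.subgroupCongr hmap), ?_⟩
      intro s
      rfl
    have hcomp : φ.toMonoidHom.comp (Subgroup.centralizer ((Wz Qc S : Subgroup S) : Set S)).subtype =
        (Subgroup.centralizer ((Wz Qc S : Subgroup S) : Set S)).subtype.comp φ₁.toMonoidHom := by
      ext s
      exact (hφ₁ s).symm
    rw [Subgroup.map_map, hcomp, ← Subgroup.map_map,
      Subgroup.characteristic_iff_map_eq.mp hK₁char φ₁]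
  refine ⟨hchar, ?_, ?_⟩
  · intro x hx
    have hxS₁ : x ∈ Subgroup.centralizer ((Wz Qc S : Subgroup S) : Set S) := by
      rw [Subgroup.mem_centralizer_iff]
      intro z hz
      exact Subgroup.mem_centralizer_iff.mp hx z ⟨⟨z, hZS₁ hz⟩, hZK z hz, rfl⟩
    refine ⟨⟨x, hxS₁⟩, ?_, rfl⟩
    apply hK₁cent
    rw [Subgroup.mem_centralizer_iff]
    intro k hk
    apply Subtype.ext
    simp only [Subgroup.coe_mul]
    exact Subgroup.mem_centralizer_iff.mp hx (k : S) ⟨k, hk, rfl⟩
  · intro X _ _ hX ι hι hsyl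
    have hZXn : ((Wz Qc S).map ι).Normal := zj_map_normal hp hS hX ι hι hsyl
    obtain ⟨C, hCdef⟩ : ∃ C : Subgroup X, C = Subgroup.centralizer (((Wz Qc S).map ι : Subgroup X) : Set X) :=
      ⟨_, rfl⟩
    haveI hCn : C.Normal := by rw [hCdef]; infer_instance
    have hjC : ∀ s : ↥(Subgroup.centralizer ((Wz Qc S : Subgroup S) : Set S)),
        (ι.comp (Subgroup.centralizer ((Wz Qc S : Subgroup S) : Set S)).subtype) s ∈ C := by
      intro s
      rw [hCdef, Subgroup.mem_centralizer_iff]
      rintro _ ⟨z, hz, rfl⟩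
      have h1 := Subgroup.mem_centralizer_iff.mp s.2 z hz
      show ι z * ι (s : S) = ι (s : S) * ι z
      rw [← map_mul, ← map_mul, h1]
    have hι₁ : Function.Injective ((ι.comp
        (Subgroup.centralizer ((Wz Qc S : Subgroup S) : Set S)).subtype).codRestrict C hjC) := by
      intro a b hab
      apply Subtype.ext
      apply hι
      have := congrArg Subtype.val hab
      simpa using this
    have hCnice : Nice p ↥C := nice_normal_subgroup hX C
    have hsyl₁ : ¬ p ∣ ((ι.comp
        (Subgroup.centralizer ((Wz Qc S : Subgroup S) : Set S)).subtype).codRestrict C hjC).range.index := by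
      apply index_of_mem_iff ι.range C hsyl
      intro x
      constructor
      · rintro ⟨s, rfl⟩
        exact ⟨(s : S), rfl⟩
      · rintro ⟨s, hs⟩
        have hsS₁ : s ∈ Subgroup.centralizer ((Wz Qc S : Subgroup S) : Set S) := by
          rw [Subgroup.mem_centralizer_iff]
          intro z hz
          apply hι
          have hx : (x : X) ∈ Subgroup.centralizer (((Wz Qc S).map ι : Subgroup X) : Set X) := by
            rw [← hCdef]; exact x.2
          have h1 := Subgroup.mem_centralizer_iff.mp hx (ι z) ⟨z, hz, rfl⟩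
          rw [map_mul, map_mul, hs]
          exact h1
        exact ⟨⟨s, hsS₁⟩, Subtype.ext hs⟩
    have hn₁ := hK₁n ↥C hCnice _ hι₁ hsyl₁
    have hfinal := normal_of_normal_in_normal C
      (hS.to_subgroup (Subgroup.centralizer ((Wz Qc S : Subgroup S) : Set S))) K₁ _ hι₁ hsyl₁ hn₁
    have hcomp : C.subtype.comp ((ι.comp
        (Subgroup.centralizer ((Wz Qc S : Subgroup S) : Set S)).subtype).codRestrict C hjC) =
        ι.comp (Subgroup.centralizer ((Wz Qc S : Subgroup S) : Set S)).subtype := by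
      ext s; rfl
    rw [hcomp, ← Subgroup.map_map] at hfinal
    exact hfinal

end Steps

end Cfsg.Agent.Lib.Helper10.KF
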