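import Mathlib
import Cfsg.Agent.Lib.Helper10.KF3

set_option autoImplicit false

/-! The canonical good characteristic subgroup `Kf S` of a finite `p`-group `S`. -/

universe u

namespace Cfsg.Agent.Lib.Helper10.KF

open scoped Pointwise
open Cfsg.Agent.Lib.Helper9 Cfsg.Agent.Lib.Helper10.ZJnpc Cfsg.Agent.Lib.Helper10.ZJsc
  Cfsg.Agent.Lib.Helper10.ZJfree Cfsg.Agent.Lib.Helper13

section Exists

variable {p : ℕ} [Fact p.Prime]

theorem exists_good (hp : p ≠ 2) : ∀ (n : ℕ) (S : Type u) [Group S] [Finite S], Nat.card S = n →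
    IsPGroup p S → ∃ K : Subgroup S, Good p S K := by
  intro n
  induction n using Nat.strong_induction_on with
  | _ n ih =>
  intro S _ _ hcard hS
  by_cases htriv : Subsingleton S
  · refine ⟨⊤, inferInstance, le_top, ?_⟩
    intro X _ _ _ ι _ _
    have : (⊤ : Subgroup S) = ⊥ := Subsingleton.elim _ _
    rw [this, Subgroup.map_bot]
    infer_instance
  · have hnt : Nontrivial S := not_subsingleton_iff_nontrivial.mp htriv
    have hW := isCharPFunctor_Wz (qfam_comm (p := p) hp)
    have hZne : Wz Qc S ≠ ⊥ := hW.1 S hS hnt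
    by_cases hS₁ : Subgroup.centralizer ((Wz Qc S : Subgroup S) : Set S) = ⊤
    · -- Step B
      have hZc : Wz Qc S ≤ Subgroup.center S := by
        intro z hz
        rw [Subgroup.mem_center_iff]
        intro g
        have hg : g ∈ Subgroup.centralizer ((Wz Qc S : Subgroup S) : Set S) := by
          rw [hS₁]; trivial
        exact (Subgroup.mem_centralizer_iff.mp hg z hz).symm
      have hZchar : (Wz Qc S).Characteristic :=
        Subgroup.characteristic_iff_map_eq.mpr (fun φ => wz_map_eq hp hS φ)
      haveI hZn : (Wz Qc S).Normal := inferInstance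
      have hlt : Nat.card (S ⧸ Wz Qc S) < n := by
        rw [← hcard]
        exact card_quotient_lt_of_ne_bot (Wz Qc S) hZne
      obtain ⟨Kb, hKb⟩ := ih _ hlt (S ⧸ Wz Qc S) rfl (hS.to_quotient (Wz Qc S))
      exact ⟨_, good_of_quotient hp hS hZc Kb hKb⟩
    · -- Step A
      have hlt : Nat.card ↥(Subgroup.centralizer ((Wz Qc S : Subgroup S) : Set S)) < n := by
        rw [← hcard]
        exact card_subgroup_lt_of_ne_top _ hS₁
      obtain ⟨K₁, hK₁⟩ := ih _ hlt ↥(Subgroup.centralizer ((Wz Qc S : Subgroup S) : Set S)) rfl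
        (hS.to_subgroup _)
      exact ⟨_, good_of_centralizer hp hS K₁ hK₁⟩

end Exists

section Canon

variable (p : ℕ)

/-- The largest good characteristic subgroup. -/
def Kf : ∀ (S : Type u) [Group S], Subgroup S :=
  fun (S : Type u) [Group S] => sSup {K : Subgroup S | Good p S K}

variable {p}

theorem good_sup {S : Type u} [Group S] {K₁ K₂ : Subgroup S} (h₁ : Good p S K₁)
    (h₂ : Good p S K₂) : Good p S (K₁ ⊔ K₂) := by
  obtain ⟨hc₁, hz₁, hn₁⟩ := h₁
  obtain ⟨hc₂, hz₂, hn₂⟩ := h₂
  refine ⟨?_, ?_, ?_⟩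
  · rw [Subgroup.characteristic_iff_map_eq]
    intro φ
    rw [Subgroup.map_sup, Subgroup.characteristic_iff_map_eq.mp hc₁ φ,
      Subgroup.characteristic_iff_map_eq.mp hc₂ φ]
  · exact (Subgroup.centralizer_le (show ((K₁ : Subgroup S) : Set S) ⊆ ((K₁ ⊔ K₂ : Subgroup S) : Set S)
      from SetLike.coe_subset_coe.mpr le_sup_left)).trans (hz₁.trans le_sup_left)
  · intro X _ _ hX ι hι hsyl
    rw [Subgroup.map_sup]
    haveI := hn₁ X hX ι hι hsyl
    haveI := hn₂ X hX ι hι hsyl
    infer_instance

theorem good_Kf [Fact p.Prime] (hp : p ≠ 2) (S : Type u) [Group S] [Finite S] (hS : IsPGroup p S) :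
    Good p S (Kf p S) := by
  classical
  obtain ⟨K₀, hK₀⟩ := exists_good hp (Nat.card S) S rfl hS
  have hfin : Set.Finite {K : Subgroup S | Good p S K} := Set.toFinite _
  -- the supremum of a finite nonempty set closed under binary sup belongs to the set
  have key : ∀ (s : Finset (Subgroup S)), (∀ K ∈ s, Good p S K) → s.Nonempty →
      Good p S (s.sup id) := by
    intro s
    induction s using Finset.induction_on with
    | empty => intro _ h; exact absurd h (by simp)
    | insert a s ha ih =>
      intro hall _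
      by_cases hs : s.Nonempty
      · rw [Finset.sup_insert]
        exact good_sup (hall a (Finset.mem_insert_self a s))
          (ih (fun K hK => hall K (Finset.mem_insert_of_mem hK)) hs)
      · rw [Finset.not_nonempty_iff_eq_empty] at hs
        subst hs
        simpa using hall a (Finset.mem_insert_self a ∅)
  have h1 := key hfin.toFinset (fun K hK => (Set.Finite.mem_toFinset hfin).mp hK)
    ⟨K₀, (Set.Finite.mem_toFinset hfin).mpr hK₀⟩
  have h2 : hfin.toFinset.sup id = Kf p S := by
    unfold Kf
    rw [Finset.sup_id_eq_sSup, Set.Finite.coe_toFinset]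
  rw [h2] at h1
  exact h1

end Canon

end Cfsg.Agent.Lib.Helper10.KF
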