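import Mathlib
import Cfsg.Agent.Lib.Helper10.KF4

set_option autoImplicit false

/-! Isomorphism invariance of `Kf`; `Kf` as an isomorphism-invariant `p`-group functor. -/

universe u

namespace Cfsg.Agent.Lib.Helper10.KF

open scoped Pointwise
open Cfsg.Agent.Lib.Helper13

section Iso

variable {p : ℕ}

theorem good_map_equiv {S S' : Type u} [Group S] [Group S'] (e : S ≃* S') {K : Subgroup S}
    (h : Good p S K) : Good p S' (K.map e.toMonoidHom) := by
  obtain ⟨hc, hz, hn⟩ := h
  refine ⟨?_, ?_, ?_⟩
  · rw [Subgroup.characteristic_iff_map_eq]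
    intro φ'
    have h1 := Subgroup.characteristic_iff_map_eq.mp hc ((e.trans φ').trans e.symm)
    have hcomp : φ'.toMonoidHom.comp e.toMonoidHom =
        e.toMonoidHom.comp ((e.trans φ').trans e.symm).toMonoidHom := by
      ext s
      simp
    rw [Subgroup.map_map, hcomp, ← Subgroup.map_map, h1]
  · intro x' hx'
    refine ⟨e.symm x', ?_, by simp⟩
    apply hz
    rw [Subgroup.mem_centralizer_iff]
    intro k hk
    have h1 := Subgroup.mem_centralizer_iff.mp hx' (e k) ⟨k, hk, rfl⟩
    apply e.injective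
    rw [map_mul, map_mul]
    simpa using h1
  · intro X _ _ hX ι' hι' hsyl
    rw [Subgroup.map_map]
    apply hn X hX (ι'.comp e.toMonoidHom) (hι'.comp e.injective)
    have : (ι'.comp e.toMonoidHom).range = ι'.range := by
      rw [MonoidHom.range_comp, MonoidHom.range_eq_top.mpr e.surjective, ← MonoidHom.range_eq_map]
    rw [this]
    exact hsyl

theorem Kf_map_equiv {S S' : Type u} [Group S] [Group S'] (e : S ≃* S') :
    (Kf p S).map e.toMonoidHom = Kf p S' := by
  apply le_antisymm
  · rw [Subgroup.map_le_iff_le_comap]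
    unfold Kf
    apply sSup_le
    intro K hK
    rw [← Subgroup.map_le_iff_le_comap]
    exact le_sSup (good_map_equiv e hK)
  · unfold Kf
    apply sSup_le
    intro K' hK'
    have h1 : Good p S (K'.map e.symm.toMonoidHom) := good_map_equiv e.symm hK'
    have h2 : K' = (K'.map e.symm.toMonoidHom).map e.toMonoidHom := by
      rw [Subgroup.map_map]
      have : e.toMonoidHom.comp e.symm.toMonoidHom = MonoidHom.id S' := by
        ext s; simp
      rw [this, Subgroup.map_id]
    rw [h2]
    exact Subgroup.map_mono (le_sSup h1)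

theorem isCharPFunctor_Kf [Fact p.Prime] (hp : p ≠ 2) : Cfsg.IsCharPFunctor.{u} p (Kf p) := by
  constructor
  · intro Q _ _ hQ hnt hbot
    have h := (good_Kf hp Q hQ).2.1
    rw [hbot] at h
    obtain ⟨x, hx⟩ := exists_ne (1 : Q)
    apply hx
    have h1 : x ∈ Subgroup.centralizer (((⊥ : Subgroup Q) : Subgroup Q) : Set Q) := by
      rw [Subgroup.mem_centralizer_iff]
      intro y hy
      have : y = 1 := hy
      rw [this]; simp
    exact h h1
  · intro Q R _ _ _ _ φ
    exact Kf_map_equiv φ

/-- `Kf` of a Sylow `p`-subgroup of a nice group is normal. -/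
theorem inducedFunctor_Kf_normal [Fact p.Prime] (hp : p ≠ 2) {X : Type u} [Group X] [Finite X]
    (hX : Nice p X) (T : Subgroup X) (hT : IsPGroup p T) (hTi : ¬ p ∣ T.index) :
    (Cfsg.inducedFunctor (G := X) (Kf p) T).Normal := by
  unfold Cfsg.inducedFunctor
  apply (good_Kf hp ↥T hT).2.2 X hX T.subtype T.subtype_injective
  rw [Subgroup.range_subtype]
  exact hTi

/-- `Kf` of a subgroup contains its centralizer in that subgroup. -/
theorem centralizer_inducedFunctor_Kf_le [Fact p.Prime] (hp : p ≠ 2) {X : Type u} [Group X]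
    (T : Subgroup X) [Finite T] (hT : IsPGroup p T) :
    T ⊓ Subgroup.centralizer ((Cfsg.inducedFunctor (G := X) (Kf p) T : Subgroup X) : Set X) ≤
      Cfsg.inducedFunctor (G := X) (Kf p) T := by
  intro x hx
  obtain ⟨hxT, hxC⟩ := Subgroup.mem_inf.mp hx
  unfold Cfsg.inducedFunctor at hxC ⊢
  refine ⟨⟨x, hxT⟩, ?_, rfl⟩
  apply (good_Kf hp ↥T hT).2.1
  rw [Subgroup.mem_centralizer_iff]
  intro k hk
  apply Subtype.ext
  simp only [Subgroup.coe_mul]
  exact Subgroup.mem_centralizer_iff.mp hxC (k : X) ⟨k, hk, rfl⟩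

end Iso

end Cfsg.Agent.Lib.Helper10.KF
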