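import Mathlib
import Cfsg.Agent.Lib.Helper10.ZJnpc1

set_option autoImplicit false

namespace Cfsg.Agent.Lib.Helper10.ZJnpc

open Cfsg Cfsg.Agent.S5306
open Cfsg.Agent.Lib.Helper1.TNPC

open scoped Pointwise

universe u

/-- a group that has no normal `p`-complement although every proper overgroup of a Sylow
subgroup has; `H = O_p(G)`, `O_{p'}(G) = 1`. -/
structure MinCex2 (p : ℕ) (G : Type u) [Group G] [Finite G] (P : Sylow p G) (H : Subgroup G) :
    Prop where
  cex : ¬ HasNormalPComplement p G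
  sub : ∀ M : Subgroup G, M ≠ ⊤ → (P : Subgroup G) ≤ M → HasNormalPComplement p ↥M
  opp : ∀ (T : Subgroup G) [T.Normal], (Nat.card T).Coprime p → T = ⊥
  hHP : H ≤ (P : Subgroup G)
  normal_pgroup_le : ∀ (X : Subgroup G) [X.Normal], IsPGroup p X → X ≤ H

section Final2

variable {G : Type u} [Group G] [Finite G] {p : ℕ} [hp : Fact p.Prime] {P : Sylow p G}
  {H : Subgroup G} [hHn : H.Normal] {Kb : Subgroup (G ⧸ H)}

theorem MinCex2.hHp (c : MinCex2 p G P H) : IsPGroup p H := P.isPGroup'.to_le c.hHP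

theorem cent_le2 (c : MinCex2 p G P H) (k : KCtx p G P H Kb) :
    Subgroup.centralizer (H : Set G) ≤ H := by
  set K := Kb.comap (QuotientGroup.mk' H) with hK
  haveI hKn : K.Normal := k.normal
  have hsol : Cfsg.IsPSolvable p G := by
    refine ⟨3, ![⊥, H, K, ⊤], rfl, rfl, ?_, ?_, ?_⟩
    · rw [Fin.monotone_iff_le_succ]
      intro i
      fin_cases i
      · show (⊥ : Subgroup G) ≤ H
        exact bot_le
      · show H ≤ K
        exact k.H_le
      · show K ≤ ⊤
        exact le_top
    · intro i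
      fin_cases i
      · show (⊥ : Subgroup G).Normal
        infer_instance
      · exact hHn
      · exact hKn
      · show (⊤ : Subgroup G).Normal
        infer_instance
    · intro i
      fin_cases i
      · left
        obtain ⟨a, ha⟩ := IsPGroup.iff_card.mp c.hHp
        refine ⟨a, ?_⟩
        show (⊥ : Subgroup G).relIndex H = p ^ a
        rw [Subgroup.relIndex_bot_left, ha]
      · right
        show (H.relIndex K).Coprime p
        rw [k.relIndex_eq]
        exact k.hcop
      · left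
        obtain ⟨j, hj⟩ := k.index_eq
        refine ⟨j, ?_⟩
        show K.relIndex ⊤ = p ^ j
        rw [Subgroup.relIndex_top_right, hj]
  have hO : Cfsg.pPrimeCore p G = ⊥ := by
    unfold Cfsg.pPrimeCore
    rw [sSup_eq_bot]
    rintro N ⟨hN, hc⟩
    haveI := hN
    exact c.opp N hc
  have hcore : Cfsg.pCore p G = H := by
    apply le_antisymm
    · exact c.normal_pgroup_le _ (Cfsg.Agent.Lib.Helper1.pCore_isPGroup p)
    · exact le_sSup ⟨hHn, c.hHp⟩
  have := Cfsg.Agent.Lib.Helper5.h5_centralizer_pCore_le hsol hO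
  rw [hcore] at this
  exact this

theorem F2' (c : MinCex2 p G P H) (k : KCtx p G P H Kb) (K₁ : Subgroup G) (h1 : H ≤ K₁)
    (h2 : K₁ ≤ Kb.comap (QuotientGroup.mk' H))
    (h3 : (P : Subgroup G) ≤ Subgroup.normalizer (K₁ : Set G))
    (h4 : K₁ ≠ Kb.comap (QuotientGroup.mk' H)) : K₁ = H := by
  set K := Kb.comap (QuotientGroup.mk' H) with hK
  have hCH := cent_le2 c k
  set M := K₁ ⊔ (P : Subgroup G) with hM
  have hMne : M ≠ ⊤ := by
    intro htop
    apply h4
    apply le_antisymm h2
    intro x hx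
    have hxM : x ∈ ((K₁ ⊔ (P : Subgroup G) : Subgroup G) : Set G) := by
      rw [← hM, htop]
      trivial
    rw [Subgroup.coe_mul_of_right_le_normalizer_left K₁ _ h3] at hxM
    obtain ⟨k₁, hk₁, u, hu, hku⟩ := hxM
    have hku' : k₁ * u = x := hku
    have huK : u ∈ K := by
      have : u = k₁⁻¹ * x := by rw [← hku']; group
      rw [this]
      exact mul_mem (inv_mem (h2 hk₁)) hx
    have huH : u ∈ H := k.inf_le ⟨huK, hu⟩
    rw [← hku']
    exact mul_mem hk₁ (h1 huH)
  have hPM : (P : Subgroup G) ≤ M := le_sup_right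
  have hnpc : HasNormalPComplement p ↥M := c.sub M hMne hPM
  obtain ⟨Y, hYn, hYc, j, hj⟩ := npc_iff.mp hnpc
  haveI := hYn
  have hYbot : Y = ⊥ := coprime_normal_eq_bot c.hHp hCH (h1.trans le_sup_left) Y hYc
  rw [hYbot, Subgroup.index_bot] at hj
  have hMp : IsPGroup p M := IsPGroup.of_card hj
  have hMP : M = (P : Subgroup G) := P.is_maximal' hMp hPM
  have hK₁P : K₁ ≤ (P : Subgroup G) := by
    rw [← hMP]
    exact le_sup_left
  exact le_antisymm (fun x hx => k.inf_le ⟨h2 hx, hK₁P hx⟩) h1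

theorem K_ne_H' (c : MinCex2 p G P H) (k : KCtx p G P H Kb) :
    Kb.comap (QuotientGroup.mk' H) ≠ H := by
  intro h
  apply c.cex
  apply npc_of_isPGroup
  have htop : (P : Subgroup G) = ⊤ := by
    rw [eq_top_iff]
    intro g _
    obtain ⟨x, hx, u, hu, rfl⟩ := k.decomp g
    rw [h] at hx
    exact mul_mem (c.hHP hx) hu
  have hP := P.isPGroup'
  rw [htop] at hP
  exact IsPGroup.of_equiv hP Subgroup.topEquiv

theorem Kb_sub_eq' (c : MinCex2 p G P H) (k : KCtx p G P H Kb) (Xb : Subgroup (G ⧸ H))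
    (hXK : Xb ≤ Kb) (hXne : Xb ≠ ⊥)
    (hPX : (P : Subgroup G).map (QuotientGroup.mk' H) ≤ Subgroup.normalizer (Xb : Set (G ⧸ H))) :
    Xb = Kb := by
  have hsurj := QuotientGroup.mk'_surjective H
  by_contra hne
  have h1 : Xb.comap (QuotientGroup.mk' H) = H := by
    apply F2' c k (Xb.comap (QuotientGroup.mk' H))
    · intro h hh
      rw [Subgroup.mem_comap]
      have : QuotientGroup.mk' H h = 1 := (QuotientGroup.eq_one_iff h).mpr hh
      rw [this]
      exact one_mem _
    · exact Subgroup.comap_mono hXK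
    · rw [← Subgroup.comap_normalizer_eq_of_surjective Xb hsurj]
      intro u hu
      exact hPX ⟨u, hu, rfl⟩
    · intro heq
      apply hne
      rw [← Subgroup.map_comap_eq_self_of_surjective hsurj Xb, heq, k.map_eq]
  apply hXne
  rw [← Subgroup.map_comap_eq_self_of_surjective hsurj Xb, h1, eq_bot_iff]
  rintro _ ⟨h, hh, rfl⟩
  rw [Subgroup.mem_bot]
  exact (QuotientGroup.eq_one_iff h).mpr hh

theorem Kb_comm' (c : MinCex2 p G P H) (k : KCtx p G P H Kb) :
    ∀ a ∈ Kb, ∀ b ∈ Kb, a * b = b * a := by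
  haveI := k.hn
  have hsurj := QuotientGroup.mk'_surjective H
  set Pb := (P : Subgroup G).map (QuotientGroup.mk' H) with hPb
  have hPbp : IsPGroup p Pb := P.isPGroup'.map _
  have hsup : Pb ⊔ Kb = ⊤ := by
    rw [sup_comm]
    exact k.compl.sup_eq_top
  have hcop' : (Nat.card Pb).Coprime (Nat.card Kb) := by
    obtain ⟨a, ha⟩ := IsPGroup.iff_card.mp hPbp
    rw [ha]
    exact Nat.Coprime.pow_left a k.hcop.symm
  have hsolv : Group.IsSolvable Pb ∨ Group.IsSolvable Kb := by
    left
    haveI := hPbp.isNilpotent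
    infer_instance
  have hKbne : Kb ≠ ⊥ := by
    intro h
    apply K_ne_H' c k
    rw [h, MonoidHom.comap_bot, QuotientGroup.ker_mk']
  have hcard1 : Nat.card Kb ≠ 1 := fun h => hKbne (Subgroup.eq_bot_of_card_eq Kb h)
  obtain ⟨q, hq, hqdvd⟩ := Nat.exists_prime_and_dvd hcard1
  haveI : Fact q.Prime := ⟨hq⟩
  obtain ⟨Q, hQ⟩ := Cfsg.Agent.Lib.Lead.exists_invariant_sylow_ext Pb Kb hsup hcop' hsolv q
  have hQeq : (Q : Subgroup Kb).map Kb.subtype = Kb := by
    apply Kb_sub_eq' c k _ (Subgroup.map_subtype_le _) _ hQ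
    intro h
    have h2 : (Q : Subgroup Kb) = ⊥ := by
      rw [eq_bot_iff]
      intro x hx
      have : (x : G ⧸ H) ∈ (Q : Subgroup Kb).map Kb.subtype := ⟨x, hx, rfl⟩
      rw [h, Subgroup.mem_bot] at this
      rw [Subgroup.mem_bot]
      exact Subtype.ext this
    exact Sylow.ne_bot_of_dvd_card Q hqdvd h2
  have hKq : IsPGroup q Kb := by
    have := Q.isPGroup'.map Kb.subtype
    rw [hQeq] at this
    exact this
  haveI : Nontrivial Kb := (Subgroup.nontrivial_iff_ne_bot Kb).mpr hKbne
  haveI hZnt := hKq.center_nontrivial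
  have hZeq : (Subgroup.center Kb).map Kb.subtype = Kb := by
    apply Kb_sub_eq' c k _ (Subgroup.map_subtype_le _)
    · intro h
      obtain ⟨z, hz⟩ := exists_ne (1 : Subgroup.center Kb)
      apply hz
      have : ((z : Kb) : G ⧸ H) ∈ (Subgroup.center Kb).map Kb.subtype := ⟨z, z.2, rfl⟩
      rw [h, Subgroup.mem_bot] at this
      apply Subtype.ext
      apply Subtype.ext
      exact this
    · have : ((Subgroup.center Kb).map Kb.subtype).Normal := inferInstance
      rw [Subgroup.normalizer_eq_top_iff.mpr this]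
      exact le_top
  intro a ha b hb
  have ha' : a ∈ (Subgroup.center Kb).map Kb.subtype := by rw [hZeq]; exact ha
  obtain ⟨a', ha'c, rfl⟩ := ha'
  have := Subgroup.mem_center_iff.mp ha'c ⟨b, hb⟩
  exact (congrArg Subtype.val this).symm

end Final2

end Cfsg.Agent.Lib.Helper10.ZJnpc
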