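import Mathlib
import Cfsg.Agent.Lib.Helper10.ZJnpc2
import Cfsg.Agent.Lib.Helper13.NPStable

set_option autoImplicit false

namespace Cfsg.Agent.Lib.Helper10.ZJnpc

open Cfsg Cfsg.Agent.S5306
open Cfsg.Agent.Lib.Helper1.TNPC Cfsg.Agent.Lib.Helper9 Cfsg.Agent.Lib.Helper10.ZJsc

open scoped Pointwise

universe u

/-- the hypothesis of the strongly closed Glauberman--Thompson theorem -/
def SCHyp (Qf : ∀ (X : Type u) [Group X], Subgroup X → Prop) (p : ℕ) (G : Type u) [Group G]
    (P D : Subgroup G) : Prop :=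
  Cfsg.IsStronglyClosed D P ∧
    HasNormalPComplement p ↥(Subgroup.normalizer (zfam (Qf G) D : Set G))

def IHyp2 (Qf : ∀ (X : Type u) [Group X], Subgroup X → Prop) (p : ℕ) (G : Type u) [Group G] :
    Prop :=
  ∀ (G' : Type u) [Group G'] [Finite G'], Nat.card G' < Nat.card G →
    ∀ (P' : Sylow p G') (D' : Subgroup G'), SCHyp Qf p G' (P' : Subgroup G') D' →
      HasNormalPComplement p G'

section Steps

variable {Qf : ∀ (X : Type u) [Group X], Subgroup X → Prop}
variable {G : Type u} [Group G] [Finite G] {p : ℕ} [hp : Fact p.Prime]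

theorem exists_conj_mem_sylow (S : Sylow p G) (C : Subgroup G) [C.Normal] (B : Subgroup G)
    (hB : IsPGroup p B) (hBK : B ≤ (S : Subgroup G) ⊔ C) :
    ∃ c ∈ C, ∀ b ∈ B, c * b * c⁻¹ ∈ (S : Subgroup G) := by
  obtain ⟨K, hKdef⟩ : ∃ K : Subgroup G, K = (S : Subgroup G) ⊔ C := ⟨_, rfl⟩
  have hSK : (S : Subgroup G) ≤ K := by rw [hKdef]; exact le_sup_left
  have hBK' : B ≤ K := by rw [hKdef]; exact hBK
  have hBKp : IsPGroup p (B.subgroupOf K) := hB.comap_subtype
  obtain ⟨P', hP'⟩ := hBKp.exists_le_sylow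
  obtain ⟨k, hk⟩ := MulAction.exists_smul_eq ↥K P' (S.subtype hSK)
  have hkmem : (k : G) ∈ ((S : Subgroup G) ⊔ C : Subgroup G) := by rw [← hKdef]; exact k.2
  rw [← SetLike.mem_coe, Subgroup.mul_normal, Set.mem_mul] at hkmem
  obtain ⟨s, hs, c, hc, hsc⟩ := hkmem
  refine ⟨c, hc, ?_⟩
  intro b hb
  have h1 : (⟨b, hBK' hb⟩ : ↥K) ∈ (P' : Subgroup ↥K) := hP' (by rw [Subgroup.mem_subgroupOf]; exact hb)
  have h2 : k * ⟨b, hBK' hb⟩ * k⁻¹ ∈ ((k • P' : Sylow p ↥K) : Subgroup ↥K) := by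
    rw [Sylow.coe_subgroup_smul, Subgroup.mem_pointwise_smul_iff_inv_smul_mem]
    have h0 : (MulAut.conj k)⁻¹ • (k * ⟨b, hBK' hb⟩ * k⁻¹) = (⟨b, hBK' hb⟩ : ↥K) := by
      simp [MulAut.smul_def, mul_assoc]
    rw [h0]
    exact h1
  rw [hk, Sylow.coe_subtype, Subgroup.mem_subgroupOf] at h2
  have h3 : (k : G) * b * (k : G)⁻¹ ∈ (S : Subgroup G) := by simpa using h2
  rw [← hsc] at h3
  have h4 : s⁻¹ * (s * c * b * (s * c)⁻¹) * s⁻¹⁻¹ ∈ (S : Subgroup G) :=
    (S : Subgroup G).mul_mem ((S : Subgroup G).mul_mem ((S : Subgroup G).inv_mem hs) h3)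
      ((S : Subgroup G).inv_mem ((S : Subgroup G).inv_mem hs))
  convert h4 using 1
  group

/-- (A) proper overgroups of `P` have normal `p`-complements. -/
theorem sub_npc (hQ : QFam p Qf) (IH : IHyp2 Qf p G) (P : Sylow p G) (D : Subgroup G)
    (h : SCHyp Qf p G (P : Subgroup G) D) (M : Subgroup G) (hM : M ≠ ⊤)
    (hPM : (P : Subgroup G) ≤ M) : HasNormalPComplement p ↥M := by
  obtain ⟨hD, hnpc⟩ := h
  have hDM : D ≤ M := hD.1.trans hPM
  apply IH ↥M (card_lt_of_ne_top hM) (P.subtype hPM) (D.subgroupOf M)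
  constructor
  · rw [Sylow.coe_subtype]
    constructor
    · intro x hx
      rw [Subgroup.mem_subgroupOf] at hx ⊢
      exact hD.1 hx
    · intro x hx g hg
      rw [Subgroup.mem_subgroupOf] at hx hg ⊢
      have := hD.2 (x : G) hx (g : G) (by simpa using hg)
      simpa using this
  · have hmap : (zfam (Qf ↥M) (D.subgroupOf M)).map M.subtype = zfam (Qf G) D := by
      rw [← zfam_map_of_injOn M.subtype (D.subgroupOf M) (M.subtype_injective.injOn)
        (Qf ↥M) (Qf G) (hQ.hyp ↥M (P.subtype hPM)).bot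
        (fun A hA => hQ.map ↥M G M.subtype (D.subgroupOf M) A (M.subtype_injective.injOn) hA)]
      rw [Subgroup.subgroupOf_map_subtype, inf_eq_left.mpr hDM]
    apply npc_of_map_injective M.subtype M.subtype_injective
    refine npc_of_le ?_ hnpc
    rw [← hmap]
    exact Subgroup.le_normalizer_map _

/-- (B) there is no nontrivial normal `p'`-subgroup. -/
theorem quot_p'_step (hQ : QFam p Qf) (IH : IHyp2 Qf p G) (hcex : ¬ HasNormalPComplement p G)
    (P : Sylow p G) (D : Subgroup G) (h : SCHyp Qf p G (P : Subgroup G) D)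
    (T : Subgroup G) [T.Normal] (hT : (Nat.card T).Coprime p) : T = ⊥ := by
  obtain ⟨hD, hnpc⟩ := h
  by_contra hne
  have h1 : Nat.card (G ⧸ T) < Nat.card G := by
    have e := Subgroup.card_eq_card_quotient_mul_card_subgroup T
    have h2 : 1 < Nat.card T := (Subgroup.one_lt_card_iff_ne_bot T).mpr hne
    have h3 : 0 < Nat.card (G ⧸ T) := Nat.card_pos
    rw [e]
    nlinarith
  have hsurj := QuotientGroup.mk'_surjective T
  have hDp : IsPGroup p D := P.isPGroup'.to_le hD.1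
  have hinjP := injOn_mk_of_coprime T hT (P : Subgroup G) P.isPGroup'
  have hinjD : Set.InjOn (QuotientGroup.mk' T) (D : Set G) := hinjP.mono hD.1
  apply hcex
  apply npc_of_quotient T hT
  apply IH (G ⧸ T) h1 (Sylow.mapSurjective hsurj P) (D.map (QuotientGroup.mk' T))
  rw [Sylow.coe_mapSurjective]
  constructor
  · constructor
    · exact Subgroup.map_mono hD.1
    · rintro _ ⟨x, hx, rfl⟩ gb hgb
      obtain ⟨g, rfl⟩ := hsurj gb
      obtain ⟨u, hu, hug⟩ := hgb
      have hmem : g * x * g⁻¹ ∈ (P : Subgroup G) ⊔ T := by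
        have h2 : u⁻¹ * (g * x * g⁻¹) ∈ T := by
          rw [← QuotientGroup.eq]
          simpa using hug
        have h3 : g * x * g⁻¹ = u * (u⁻¹ * (g * x * g⁻¹)) := by group
        rw [h3]
        exact Subgroup.mul_mem _ (le_sup_left (a := (P : Subgroup G)) hu) (le_sup_right (b := T) h2)
      have hBp : IsPGroup p (Subgroup.zpowers (g * x * g⁻¹)) := by
        have h4 : Subgroup.zpowers (g * x * g⁻¹) ≤ D.map (MulAut.conj g).toMonoidHom := by
          rw [Subgroup.zpowers_le]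
          exact ⟨x, hx, by simp⟩
        exact (hDp.map _).to_le h4
      obtain ⟨c, hc, hcb⟩ := exists_conj_mem_sylow P T _ hBp
        (Subgroup.zpowers_le.mpr hmem)
      have h5 := hcb _ (Subgroup.mem_zpowers _)
      have h6 : (c * g) * x * (c * g)⁻¹ ∈ (P : Subgroup G) := by
        have e : (c * g) * x * (c * g)⁻¹ = c * (g * x * g⁻¹) * c⁻¹ := by group
        rw [e]; exact h5
      have h7 := hD.2 x hx (c * g) h6
      refine ⟨(c * g) * x * (c * g)⁻¹, h7, ?_⟩
      have hc1 : (QuotientGroup.mk' T) c = 1 := (QuotientGroup.eq_one_iff c).mpr hc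
      simp only [map_mul, map_inv, hc1, one_mul, inv_one, mul_one]
  · have hzmap : zfam (Qf (G ⧸ T)) (D.map (QuotientGroup.mk' T)) =
        (zfam (Qf G) D).map (QuotientGroup.mk' T) :=
      zfam_map_of_injOn (QuotientGroup.mk' T) D hinjD (Qf G) (Qf (G ⧸ T)) (hQ.hyp G P).bot
        (fun A hA => hQ.map G (G ⧸ T) (QuotientGroup.mk' T) D A hinjD hA)
    rw [hzmap, ← Cfsg.Agent.Lib.Helper10.map_normalizer_eq_of_coprime p T hT _
      (hDp.to_le (hQ.le G D))]
    exact npc_map _ _ hnpc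

/-- (D) the quotient by `O_p(G)` has a normal `p`-complement. -/
theorem quot_pcore_npc (hQ : QFam p Qf) (IH : IHyp2 Qf p G) (hcex : ¬ HasNormalPComplement p G)
    (P : Sylow p G) (D : Subgroup G) (h : SCHyp Qf p G (P : Subgroup G) D)
    (hne : Cfsg.pCore p G ≠ ⊥) :
    haveI : (Cfsg.pCore p G).Normal := Cfsg.Agent.Lib.Helper1.pCore_normal p
    HasNormalPComplement p (G ⧸ Cfsg.pCore p G) := by
  haveI hHn : (Cfsg.pCore p G).Normal := Cfsg.Agent.Lib.Helper1.pCore_normal p
  have hsub := sub_npc hQ IH P D h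
  obtain ⟨hD, hnpc⟩ := h
  obtain ⟨H, hHdef⟩ : ∃ H : Subgroup G, H = Cfsg.pCore p G := ⟨_, rfl⟩
  have hHP : Cfsg.pCore p G ≤ (P : Subgroup G) := Cfsg.Agent.Lib.Helper1.pCore_le_sylow p P
  have hHp : IsPGroup p (Cfsg.pCore p G) := Cfsg.Agent.Lib.Helper1.pCore_isPGroup p
  have h1 : Nat.card (G ⧸ Cfsg.pCore p G) < Nat.card G := by
    have e := Subgroup.card_eq_card_quotient_mul_card_subgroup (Cfsg.pCore p G)
    have h2 : 1 < Nat.card (Cfsg.pCore p G) := (Subgroup.one_lt_card_iff_ne_bot _).mpr hne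
    have h3 : 0 < Nat.card (G ⧸ Cfsg.pCore p G) := Nat.card_pos
    rw [e]
    nlinarith
  have hsurj := QuotientGroup.mk'_surjective (Cfsg.pCore p G)
  have hDp : IsPGroup p D := P.isPGroup'.to_le hD.1
  by_cases hDH : D ≤ Cfsg.pCore p G
  · exfalso
    apply hcex
    have hDn : Subgroup.normalizer (D : Set G) = ⊤ := by
      rw [eq_top_iff]
      intro g _
      rw [Subgroup.mem_normalizer_iff]
      intro x
      constructor
      · intro hx
        exact hD.2 x hx g (hHP (hHn.conj_mem x (hDH hx) g))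
      · intro hx
        have h2 := hD.2 (g * x * g⁻¹) hx g⁻¹ (hHP (hHn.conj_mem _ (hDH hx) g⁻¹))
        have e : g⁻¹ * (g * x * g⁻¹) * g⁻¹⁻¹ = x := by group
        rw [e] at h2; exact h2
    have hZn : Subgroup.normalizer (zfam (Qf G) D : Set G) = ⊤ := by
      rw [eq_top_iff, ← hDn]
      exact normalizer_le_normalizer_zfam (Qf G) (hQ.hyp G P).aut D
    exact npc_of_eq_top hZn hnpc
  · apply IH (G ⧸ Cfsg.pCore p G) h1 (Sylow.mapSurjective hsurj P)
      (D.map (QuotientGroup.mk' (Cfsg.pCore p G)))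
    rw [Sylow.coe_mapSurjective]
    have hsc : Cfsg.IsStronglyClosed (D.map (QuotientGroup.mk' (Cfsg.pCore p G)))
        ((P : Subgroup G).map (QuotientGroup.mk' (Cfsg.pCore p G))) := by
      constructor
      · exact Subgroup.map_mono hD.1
      · rintro _ ⟨x, hx, rfl⟩ gb hgb
        obtain ⟨g, rfl⟩ := hsurj gb
        obtain ⟨u, hu, hug⟩ := hgb
        have h2 : u⁻¹ * (g * x * g⁻¹) ∈ Cfsg.pCore p G := by
          rw [← QuotientGroup.eq]
          simpa using hug
        have h3 : g * x * g⁻¹ = u * (u⁻¹ * (g * x * g⁻¹)) := by group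
        have h4 : g * x * g⁻¹ ∈ (P : Subgroup G) := by
          rw [h3]
          exact Subgroup.mul_mem _ hu (hHP h2)
        refine ⟨g * x * g⁻¹, hD.2 x hx g h4, ?_⟩
        simp
    refine ⟨hsc, ?_⟩
    obtain ⟨Xb, hXbdef⟩ : ∃ Xb : Subgroup (G ⧸ Cfsg.pCore p G),
      Xb = zfam (Qf (G ⧸ Cfsg.pCore p G)) (D.map (QuotientGroup.mk' (Cfsg.pCore p G))) := ⟨_, rfl⟩
    rw [← hXbdef]
    have hDbp : IsPGroup p (D.map (QuotientGroup.mk' (Cfsg.pCore p G))) := hDp.map _
    have hDbne : D.map (QuotientGroup.mk' (Cfsg.pCore p G)) ≠ ⊥ := by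
      intro hb
      apply hDH
      intro x hx
      have : (QuotientGroup.mk' (Cfsg.pCore p G)) x ∈ D.map (QuotientGroup.mk' (Cfsg.pCore p G)) :=
        ⟨x, hx, rfl⟩
      rw [hb, Subgroup.mem_bot] at this
      exact (QuotientGroup.eq_one_iff x).mp this
    have hXbne : Xb ≠ ⊥ := by
      rw [hXbdef]; exact hQ.ne_bot _ _ hDbp hDbne
    have hXbD : Xb ≤ D.map (QuotientGroup.mk' (Cfsg.pCore p G)) := by
      rw [hXbdef]; exact hQ.le _ _
    have hPXb : (P : Subgroup G).map (QuotientGroup.mk' (Cfsg.pCore p G)) ≤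
        Subgroup.normalizer (Xb : Set (G ⧸ Cfsg.pCore p G)) := by
      rw [hXbdef]
      exact (normalizes_of_stronglyClosed hsc).trans
        (normalizer_le_normalizer_zfam _ (hQ.hyp _ (Sylow.mapSurjective hsurj P)).aut _)
    -- the preimage
    obtain ⟨X, hXdef⟩ : ∃ X : Subgroup G, X = Xb.comap (QuotientGroup.mk' (Cfsg.pCore p G)) :=
      ⟨_, rfl⟩
    have hXmap : X.map (QuotientGroup.mk' (Cfsg.pCore p G)) = Xb := by
      rw [hXdef]; exact Subgroup.map_comap_eq_self_of_surjective hsurj Xb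
    have hXP : X ≤ (P : Subgroup G) := by
      intro x hx
      rw [hXdef, Subgroup.mem_comap] at hx
      obtain ⟨u, hu, hux⟩ := (hXbD.trans (Subgroup.map_mono hD.1)) hx
      have h2 : u⁻¹ * x ∈ Cfsg.pCore p G := by
        rw [← QuotientGroup.eq]
        exact hux
      have h3 : x = u * (u⁻¹ * x) := by group
      rw [h3]
      exact Subgroup.mul_mem _ hu (hHP h2)
    have hNX : Subgroup.normalizer (X : Set G) =
        (Subgroup.normalizer (Xb : Set (G ⧸ Cfsg.pCore p G))).comap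
          (QuotientGroup.mk' (Cfsg.pCore p G)) := by
      rw [hXdef]; exact (Subgroup.comap_normalizer_eq_of_surjective Xb hsurj).symm
    have hPNX : (P : Subgroup G) ≤ Subgroup.normalizer (X : Set G) := by
      rw [hNX]
      intro u hu
      exact hPXb ⟨u, hu, rfl⟩
    have hNXne : Subgroup.normalizer (X : Set G) ≠ ⊤ := by
      intro htop
      have hXn : X.Normal := Subgroup.normalizer_eq_top_iff.mp htop
      have hXle : X ≤ Cfsg.pCore p G :=
        Cfsg.Agent.Lib.Helper1.le_pCore hXn (P.isPGroup'.to_le hXP)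
      apply hXbne
      rw [← hXmap, eq_bot_iff]
      rintro _ ⟨x, hx, rfl⟩
      rw [Subgroup.mem_bot]
      exact (QuotientGroup.eq_one_iff x).mpr (hXle hx)
    have h5 := hsub _ hNXne hPNX
    have h6 := npc_map (QuotientGroup.mk' (Cfsg.pCore p G)) _ h5
    rw [hNX, Subgroup.map_comap_eq_self_of_surjective hsurj] at h6
    exact h6

end Steps

end Cfsg.Agent.Lib.Helper10.ZJnpc
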