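import Mathlib
import Cfsg.Agent.Lib.Helper10.ZJnpc3

set_option autoImplicit false

namespace Cfsg.Agent.Lib.Helper10.ZJnpc

open Cfsg Cfsg.Agent.S5306
open Cfsg.Agent.Lib.Helper1.TNPC Cfsg.Agent.Lib.Helper9 Cfsg.Agent.Lib.Helper10.ZJsc

open scoped Pointwise

universe u

section Main

variable {Qf : ∀ (X : Type u) [Group X], Subgroup X → Prop}
variable {p : ℕ} [hp : Fact p.Prime]

theorem npc_of_sylow_eq_bot {G : Type u} [Group G] [Finite G] (P : Sylow p G)
    (hP : (P : Subgroup G) = ⊥) : HasNormalPComplement p G := by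
  rw [npc_iff]
  refine ⟨⊤, inferInstance, ?_, 0, by simp⟩
  rw [Subgroup.card_top]
  have h1 := Sylow.card_eq_multiplicity P
  rw [hP, Subgroup.card_bot] at h1
  have hG : Nat.card G ≠ 0 := Nat.card_pos.ne'
  have h2 : (Nat.card G).factorization p = 0 := by
    by_contra h0
    have : 1 < p ^ (Nat.card G).factorization p := Nat.one_lt_pow h0 hp.out.one_lt
    omega
  rw [Nat.coprime_comm, Nat.Prime.coprime_iff_not_dvd hp.out]
  intro hdvd
  have := (hp.out.dvd_iff_one_le_factorization hG).mp hdvd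
  omega

theorem sc_npc_aux (hQ : QFam p Qf) (hp2 : p ≠ 2) : ∀ (n : ℕ) (G : Type u) [Group G] [Finite G],
    Nat.card G = n → ∀ (P : Sylow p G) (D : Subgroup G), SCHyp Qf p G (P : Subgroup G) D →
      HasNormalPComplement p G := by
  intro n
  induction n using Nat.strong_induction_on with
  | _ n ih =>
  intro G _ _ hcard P D h
  by_contra hcex
  have IH : IHyp2 Qf p G := by
    intro G' _ _ hlt P' D' h'
    exact ih (Nat.card G') (hcard ▸ hlt) G' rfl P' D' h'
  have hsub := sub_npc hQ IH P D h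
  have hPne : (P : Subgroup G) ≠ ⊥ := fun hb => hcex (npc_of_sylow_eq_bot P hb)
  haveI hHn : (Cfsg.pCore p G).Normal := Cfsg.Agent.Lib.Helper1.pCore_normal p
  have hHp : IsPGroup p (Cfsg.pCore p G) := Cfsg.Agent.Lib.Helper1.pCore_isPGroup p
  have hHP : Cfsg.pCore p G ≤ (P : Subgroup G) := Cfsg.Agent.Lib.Helper1.pCore_le_sylow p P
  -- (C) O_p(G) ≠ 1
  have hHne : Cfsg.pCore p G ≠ ⊥ := by
    intro hbot
    apply hcex
    apply thompson_npc hp2 P
    constructor
    · apply hsub
      · intro htop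
        have hn : (TJ p (P : Subgroup G)).Normal := Subgroup.normalizer_eq_top_iff.mp htop
        have hle := Cfsg.Agent.Lib.Helper1.le_pCore hn
          (P.isPGroup'.to_le (TJ_le p (P : Subgroup G)))
        rw [hbot] at hle
        exact TJ_ne_bot P.isPGroup' hPne (le_bot_iff.mp hle)
      · exact Subgroup.le_normalizer.trans (normalizer_le_normalizer_TJ (P : Subgroup G))
    · apply hsub
      · intro htop
        have hn : ((P : Subgroup G) ⊓ Subgroup.centralizer ((P : Subgroup G) : Set G)).Normal := by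
          rw [← Subgroup.normalizer_eq_top_iff, eq_top_iff, ← htop]
          exact Subgroup.centralizer_le_normalizer _
        have hle := Cfsg.Agent.Lib.Helper1.le_pCore hn (P.isPGroup'.to_le inf_le_left)
        rw [hbot] at hle
        exact Z_ne_bot P.isPGroup' hPne (le_bot_iff.mp hle)
      · intro x hx
        rw [Subgroup.mem_centralizer_iff]
        intro z hz
        have hzc : z ∈ Subgroup.centralizer ((P : Subgroup G) : Set G) := (Subgroup.mem_inf.mp hz).2
        rw [Subgroup.mem_centralizer_iff] at hzc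
        exact (hzc x hx).symm
  have hquot := quot_pcore_npc hQ IH hcex P D h hHne
  obtain ⟨Kb, hKbn, hKbc, j, hj⟩ := npc_iff.mp hquot
  have k : KCtx p G P (Cfsg.pCore p G) Kb := ⟨hKbn, hKbc, ⟨j, hj⟩⟩
  have c : MinCex2 p G P (Cfsg.pCore p G) :=
    ⟨hcex, hsub, fun T _ hT => quot_p'_step hQ IH hcex P D h T hT, hHP,
      fun X hX hXp => Cfsg.Agent.Lib.Helper1.le_pCore hX hXp⟩
  have hcent := cent_le2 c k
  have hKcomm := Kb_comm' c k
  -- Sylow 2-subgroups are abelian
  have h2 : ∀ T : Sylow 2 G, IsMulCommutative T := by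
    intro T
    refine ⟨⟨fun a b => ?_⟩⟩
    apply Subtype.ext
    show (a : G) * (b : G) = (b : G) * (a : G)
    have hmemK : ∀ t : G, t ∈ (T : Subgroup G) → (QuotientGroup.mk' (Cfsg.pCore p G)) t ∈ Kb := by
      intro t ht
      haveI := hKbn
      apply mem_of_index_pow hj
      have h3 : orderOf ((QuotientGroup.mk' (Cfsg.pCore p G)) t) ∣ orderOf t := orderOf_map_dvd _ t
      obtain ⟨e, he⟩ := (IsPGroup.iff_orderOf.mp T.isPGroup') ⟨t, ht⟩
      have he' : orderOf t = 2 ^ e := by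
        rw [← he]; exact (Subgroup.orderOf_coe (⟨t, ht⟩ : ↥(T : Subgroup G)))
      rw [he'] at h3
      obtain ⟨i, _, hi⟩ := (Nat.dvd_prime_pow Nat.prime_two).mp h3
      rw [hi]
      apply Nat.Coprime.pow_left
      rw [Nat.coprime_primes Nat.prime_two hp.out]
      exact fun h => hp2 h.symm
    have h4 := hKcomm _ (hmemK a a.2) _ (hmemK b b.2)
    have h5 : (a : G) * b * (a : G)⁻¹ * (b : G)⁻¹ ∈ Cfsg.pCore p G := by
      rw [← QuotientGroup.eq_one_iff]
      have e : (((a : G) * b * (a : G)⁻¹ * (b : G)⁻¹ : G) : G ⧸ Cfsg.pCore p G) =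
          (QuotientGroup.mk' (Cfsg.pCore p G) a) * (QuotientGroup.mk' (Cfsg.pCore p G) b) *
          (QuotientGroup.mk' (Cfsg.pCore p G) a)⁻¹ * (QuotientGroup.mk' (Cfsg.pCore p G) b)⁻¹ := by
        simp
      rw [e, h4]
      group
    have h6 : (a : G) * b * (a : G)⁻¹ * (b : G)⁻¹ ∈ (T : Subgroup G) :=
      Subgroup.mul_mem _ (Subgroup.mul_mem _ (Subgroup.mul_mem _ a.2 b.2) (Subgroup.inv_mem _ a.2))
        (Subgroup.inv_mem _ b.2)
    have hcop : (Nat.card (Cfsg.pCore p G)).Coprime (Nat.card (T : Subgroup G)) := by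
      obtain ⟨i, hi⟩ := IsPGroup.iff_card.mp hHp
      obtain ⟨e, he⟩ := IsPGroup.iff_card.mp T.isPGroup'
      rw [hi, he]
      apply Nat.Coprime.pow
      rw [Nat.coprime_primes hp.out Nat.prime_two]
      exact hp2
    have h7 : Cfsg.pCore p G ⊓ (T : Subgroup G) = ⊥ :=
      (Subgroup.disjoint_of_coprime_natCard hcop).eq_bot
    have h8 : (a : G) * b * (a : G)⁻¹ * (b : G)⁻¹ ∈ Cfsg.pCore p G ⊓ (T : Subgroup G) := ⟨h5, h6⟩
    rw [h7, Subgroup.mem_bot] at h8
    have h9 : (a : G) * b * (a : G)⁻¹ = b := mul_inv_eq_one.mp h8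
    calc (a : G) * b = ((a : G) * b * (a : G)⁻¹) * a := by group
      _ = b * a := by rw [h9]
  have hst : Cfsg.IsNormalizerPStable p G :=
    Cfsg.Agent.Lib.Helper13.isNormalizerPStable_of_syl2comm hp2 h2
  have hZn := zfam_normal_sc (Qf G) P (hQ.hyp G P) D h.1 hcent hst
  exact hcex (npc_of_eq_top (Subgroup.normalizer_eq_top_iff.mpr hZn) h.2)

theorem sc_npc (hQ : QFam p Qf) (hp2 : p ≠ 2) {G : Type u} [Group G] [Finite G] (P : Sylow p G)
    (D : Subgroup G) (hD : Cfsg.IsStronglyClosed D (P : Subgroup G))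
    (h : HasNormalPComplement p ↥(Subgroup.normalizer (zfam (Qf G) D : Set G))) :
    HasNormalPComplement p G :=
  sc_npc_aux hQ hp2 (Nat.card G) G rfl P D ⟨hD, h⟩

end Main

end Cfsg.Agent.Lib.Helper10.ZJnpc
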