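import Mathlib
import Cfsg.Agent.Lib.Helper10.KF5
import Cfsg.Agent.Lib.Helper10.ZJnpc4

set_option autoImplicit false

/-! A group of characteristic `p` whose quotient by `O_p` has a normal `p`-complement and whose
Sylow `p`-subgroups are maximal subgroups is "nice". -/

universe u

namespace Cfsg.Agent.Lib.Helper10.KF

open Cfsg Cfsg.Agent.S5306
open Cfsg.Agent.Lib.Helper1.TNPC Cfsg.Agent.Lib.Helper10.ZJnpc Cfsg.Agent.Lib.Helper13
open scoped Pointwise

section Coatom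

variable {p : ℕ} [hp : Fact p.Prime]

theorem npc_of_isPGroup {M : Type u} [Group M] [Finite M] (hM : IsPGroup p M) :
    HasNormalPComplement p M := by
  rw [Cfsg.Agent.Lib.Helper1.TNPC.npc_iff]
  obtain ⟨k, hk⟩ := IsPGroup.iff_card.mp hM
  refine ⟨⊥, inferInstance, by simp, k, ?_⟩
  rw [Subgroup.index_bot, hk]

/-- In a group of characteristic `p`, normal `p'`-subgroups are trivial. -/
theorem p'_normal_eq_bot {X : Type u} [Group X] [Finite X]
    (hc : Subgroup.centralizer (Cfsg.pCore p X : Set X) ≤ Cfsg.pCore p X)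
    (T' : Subgroup X) [hT'n : T'.Normal] (hT' : (Nat.card T').Coprime p) : T' = ⊥ := by
  have hHn : (Cfsg.pCore p X).Normal := Cfsg.Agent.Lib.Helper1.pCore_normal p
  have hHp : IsPGroup p (Cfsg.pCore p X) := Cfsg.Agent.Lib.Helper1.pCore_isPGroup p
  have hcop : (Nat.card T').Coprime (Nat.card (Cfsg.pCore p X)) := by
    obtain ⟨k, hk⟩ := IsPGroup.iff_card.mp hHp
    rw [hk]
    exact Nat.Coprime.pow_right k hT'
  have hdisj : Disjoint T' (Cfsg.pCore p X) := Subgroup.disjoint_of_coprime_natCard hcop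
  have hle : T' ≤ Subgroup.centralizer (Cfsg.pCore p X : Set X) := by
    intro t ht
    rw [Subgroup.mem_centralizer_iff]
    intro h hh
    exact (Subgroup.commute_of_normal_of_disjoint T' (Cfsg.pCore p X) hT'n hHn hdisj t h ht hh).eq.symm
  rw [eq_bot_iff]
  intro t ht
  have h1 : t ∈ T' ⊓ Cfsg.pCore p X := ⟨ht, hc (hle ht)⟩
  rw [hdisj.eq_bot] at h1
  exact h1

set_option maxHeartbeats 800000 in
theorem nice_of_coatom (hp2 : p ≠ 2) {X : Type u} [Group X] [Finite X]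
    (hc : Subgroup.centralizer (Cfsg.pCore p X : Set X) ≤ Cfsg.pCore p X)
    (hq : HasNormalPComplement p (X ⧸ Cfsg.pCore p X))
    (T : Sylow p X) (hT : IsCoatom (T : Subgroup X)) : Nice p X := by
  haveI hHn : (Cfsg.pCore p X).Normal := Cfsg.Agent.Lib.Helper1.pCore_normal p
  have hHp : IsPGroup p (Cfsg.pCore p X) := Cfsg.Agent.Lib.Helper1.pCore_isPGroup p
  have hHP : Cfsg.pCore p X ≤ (T : Subgroup X) := Cfsg.Agent.Lib.Helper1.pCore_le_sylow p T
  have hopp : ∀ (T' : Subgroup X) [T'.Normal], (Nat.card T').Coprime p → T' = ⊥ :=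
    fun T' _ h => p'_normal_eq_bot hc T' h
  have hcex : ¬ HasNormalPComplement p X := by
    intro hnpc
    obtain ⟨Y, hYn, hYc, j, hj⟩ := Cfsg.Agent.Lib.Helper1.TNPC.npc_iff.mp hnpc
    have hYb : Y = ⊥ := hopp Y hYc
    rw [hYb, Subgroup.index_bot] at hj
    have hXp : IsPGroup p X := IsPGroup.of_card hj
    have : (T : Subgroup X) = ⊤ := by
      have h1 := T.is_maximal' (Q := ⊤) (hXp.to_subgroup ⊤) le_top
      exact h1.symm
    exact hT.1 this
  have hsub : ∀ M : Subgroup X, M ≠ ⊤ → (T : Subgroup X) ≤ M → HasNormalPComplement p ↥M := by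
    intro M hM hTM
    have hMT : M = (T : Subgroup X) := by
      by_contra hne
      exact hM (hT.2 M (lt_of_le_of_ne hTM (Ne.symm hne)))
    rw [hMT]
    exact npc_of_isPGroup T.isPGroup'
  obtain ⟨Kb, hKbn, hKbc, j, hj⟩ := Cfsg.Agent.Lib.Helper1.TNPC.npc_iff.mp hq
  have k : KCtx p X T (Cfsg.pCore p X) Kb := ⟨hKbn, hKbc, ⟨j, hj⟩⟩
  have c : MinCex2 p X T (Cfsg.pCore p X) :=
    ⟨hcex, hsub, fun T' _ hT' => hopp T' hT', hHP,
      fun Y hY hYp => Cfsg.Agent.Lib.Helper1.le_pCore hY hYp⟩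
  have hKcomm := Kb_comm' c k
  -- Sylow 2-subgroups are abelian
  have h2 : ∀ T₂ : Sylow 2 X, IsMulCommutative T₂ := by
    intro T₂
    refine ⟨⟨fun a b => ?_⟩⟩
    apply Subtype.ext
    show (a : X) * (b : X) = (b : X) * (a : X)
    have hmemK : ∀ t : X, t ∈ (T₂ : Subgroup X) → (QuotientGroup.mk' (Cfsg.pCore p X)) t ∈ Kb := by
      intro t ht
      haveI := hKbn
      apply mem_of_index_pow hj
      have h3 : orderOf ((QuotientGroup.mk' (Cfsg.pCore p X)) t) ∣ orderOf t := orderOf_map_dvd _ t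
      obtain ⟨e, he⟩ := (IsPGroup.iff_orderOf.mp T₂.isPGroup') ⟨t, ht⟩
      have he' : orderOf t = 2 ^ e := by
        rw [← he]; exact (Subgroup.orderOf_coe (⟨t, ht⟩ : ↥(T₂ : Subgroup X)))
      rw [he'] at h3
      obtain ⟨i, _, hi⟩ := (Nat.dvd_prime_pow Nat.prime_two).mp h3
      rw [hi]
      apply Nat.Coprime.pow_left
      rw [Nat.coprime_primes Nat.prime_two hp.out]
      exact fun h => hp2 h.symm
    have h4 := hKcomm _ (hmemK a a.2) _ (hmemK b b.2)
    have h5 : (a : X) * b * (a : X)⁻¹ * (b : X)⁻¹ ∈ Cfsg.pCore p X := by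
      rw [← QuotientGroup.eq_one_iff]
      have e : (((a : X) * b * (a : X)⁻¹ * (b : X)⁻¹ : X) : X ⧸ Cfsg.pCore p X) =
          (QuotientGroup.mk' (Cfsg.pCore p X) a) * (QuotientGroup.mk' (Cfsg.pCore p X) b) *
          (QuotientGroup.mk' (Cfsg.pCore p X) a)⁻¹ * (QuotientGroup.mk' (Cfsg.pCore p X) b)⁻¹ := by
        simp
      rw [e, h4]
      group
    have h6 : (a : X) * b * (a : X)⁻¹ * (b : X)⁻¹ ∈ (T₂ : Subgroup X) :=
      Subgroup.mul_mem _ (Subgroup.mul_mem _ (Subgroup.mul_mem _ a.2 b.2) (Subgroup.inv_mem _ a.2))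
        (Subgroup.inv_mem _ b.2)
    have hcop : (Nat.card (Cfsg.pCore p X)).Coprime (Nat.card (T₂ : Subgroup X)) := by
      obtain ⟨i, hi⟩ := IsPGroup.iff_card.mp hHp
      obtain ⟨e, he⟩ := IsPGroup.iff_card.mp T₂.isPGroup'
      rw [hi, he]
      apply Nat.Coprime.pow
      rw [Nat.coprime_primes hp.out Nat.prime_two]
      exact hp2
    have h7 : Cfsg.pCore p X ⊓ (T₂ : Subgroup X) = ⊥ :=
      (Subgroup.disjoint_of_coprime_natCard hcop).eq_bot
    have h8 : (a : X) * b * (a : X)⁻¹ * (b : X)⁻¹ ∈ Cfsg.pCore p X ⊓ (T₂ : Subgroup X) := ⟨h5, h6⟩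
    rw [h7, Subgroup.mem_bot] at h8
    have h9 : (a : X) * b * (a : X)⁻¹ = b := mul_inv_eq_one.mp h8
    calc (a : X) * b = ((a : X) * b * (a : X)⁻¹) * a := by group
      _ = b * a := by rw [h9]
  refine ⟨hc, ?_⟩
  rintro Q _ _ ⟨K, f, hf⟩
  apply isNormalizerPStable_of_syl2comm hp2
  exact Cfsg.Agent.Lib.Helper5.syl2comm_of_surjective f hf
    (Cfsg.Agent.Lib.Helper5.syl2comm_subgroup K h2)

end Coatom

end Cfsg.Agent.Lib.Helper10.KF
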