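import Mathlib
import Cfsg.Agent.Lib.Helper10.KF6
import Cfsg.Agent.Lib.Helper22.Burnside
import Cfsg.Agent.S2005

set_option autoImplicit false

/-! The normal `p`-complement criterion for the functor `Kf`. -/

universe u

namespace Cfsg.Agent.Lib.Helper10.KF

open Cfsg
open Cfsg.Agent.Lib.Helper13
open scoped Pointwise

section Burn

variable {p : ℕ} [hp : Fact p.Prime]

set_option maxHeartbeats 1600000 in
/-- If `U ≤ P` contains `C_P(U)`, is normalized by the Sylow `p`-subgroup `P`, and the `p'`-elements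
of `N_G(U)` centralize `U`, then `N_G(U)` has a normal `p`-complement. -/
theorem npc_normalizer_of_aut_pgroup {G : Type u} [Group G] [Finite G] (P : Sylow p G)
    (U : Subgroup G) (hPN : (P : Subgroup G) ≤ Subgroup.normalizer (U : Set G))
    (hcent : (P : Subgroup G) ⊓ Subgroup.centralizer (U : Set G) ≤ U)
    (h : ∀ g ∈ Subgroup.normalizer (U : Set G), (orderOf g).Coprime p →
      g ∈ Subgroup.centralizer (U : Set G)) :
    HasNormalPComplement p ↥(Subgroup.normalizer (U : Set G)) := by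
  obtain ⟨N, hNdef⟩ : ∃ N : Subgroup G, N = Subgroup.normalizer (U : Set G) := ⟨_, rfl⟩
  obtain ⟨D, hDdef⟩ : ∃ D : Subgroup G, D = Subgroup.centralizer (U : Set G) := ⟨_, rfl⟩
  rw [← hNdef] at hPN h ⊢
  rw [← hDdef] at hcent h
  have hDN : D ≤ N := by
    rw [hDdef, hNdef]; exact Subgroup.centralizer_le_normalizer _
  -- (1) `N` normalizes `D`
  have hconjD : ∀ n ∈ N, ∀ d ∈ D, n * d * n⁻¹ ∈ D := by
    intro n hn d hd
    rw [hDdef, Subgroup.mem_centralizer_iff]
    intro u hu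
    have hn' : n⁻¹ ∈ Subgroup.normalizer (U : Set G) := by
      rw [← hNdef]; exact Subgroup.inv_mem _ hn
    have hu' : n⁻¹ * u * n⁻¹⁻¹ ∈ U := (Subgroup.mem_normalizer_iff.mp hn' u).mp hu
    rw [inv_inv] at hu'
    have hd' := hd
    rw [hDdef, Subgroup.mem_centralizer_iff] at hd'
    have h1 := hd' _ hu'
    calc u * (n * d * n⁻¹) = n * ((n⁻¹ * u * n) * d) * n⁻¹ := by group
      _ = n * (d * (n⁻¹ * u * n)) * n⁻¹ := by rw [h1]
      _ = n * d * n⁻¹ * u := by group
  have hND : N ≤ Subgroup.normalizer (D : Set G) := by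
    intro n hn
    rw [Subgroup.mem_normalizer_iff]
    intro d
    constructor
    · exact hconjD n hn d
    · intro hd
      have := hconjD n⁻¹ (Subgroup.inv_mem _ hn) _ hd
      have e : n⁻¹ * (n * d * n⁻¹) * n⁻¹⁻¹ = d := by group
      rwa [e] at this
  -- (2) elements of `P ⊓ D` are central in `D`
  have hcentral : ∀ x ∈ (P : Subgroup G) ⊓ D, ∀ d ∈ D, x * d = d * x := by
    intro x hx d hd
    have hxU := hcent hx
    rw [hDdef, Subgroup.mem_centralizer_iff] at hd
    exact hd x hxU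
  -- (3) `P ⊓ D` is a Sylow `p`-subgroup of `D`
  have hPNi : ¬ p ∣ (P : Subgroup G).relIndex N := fun hd =>
    P.not_dvd_index (hd.trans (Subgroup.relIndex_dvd_index_of_le hPN))
  have hsylD : ¬ p ∣ ((P : Subgroup G) ⊓ D).relIndex D :=
    not_dvd_relIndex_inf_of_normal hDN hND hPNi
  -- (4) every `p`-element of `D` is central in `D`
  have hpcentral : ∀ R : Subgroup G, R ≤ D → IsPGroup p R → ∀ q ∈ R, ∀ d ∈ D, q * d = d * q := by
    intro R hRD hRp q hq d hd
    obtain ⟨c, hc, hle⟩ := exists_mem_cj_le_of_relIndex (p := p)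
      (inf_le_right : (P : Subgroup G) ⊓ D ≤ D) (P.isPGroup'.to_le inf_le_left) hsylD hRD hRp
    have h1 : c * q * c⁻¹ ∈ (P : Subgroup G) ⊓ D := hle ⟨q, hq, by simp [MulAut.conj_apply]⟩
    have h2 := hcentral _ h1 c hc
    have h3 : c * q * c⁻¹ = q := by
      have e1 : c * q * c⁻¹ * c = c * q := by group
      rw [e1] at h2
      exact (mul_left_cancel h2).symm
    rw [h3] at h1
    exact hcentral q h1 d hd
  -- (5) Burnside in `D`
  obtain ⟨Q⟩ : Nonempty (Sylow p ↥D) := inferInstance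
  have hNC : Subgroup.normalizer ((Q : Subgroup ↥D) : Set ↥D) ≤
      Subgroup.centralizer ((Q : Subgroup ↥D) : Set ↥D) := by
    intro g _
    rw [Subgroup.mem_centralizer_iff]
    intro q hq
    apply Subtype.ext
    simp only [Subgroup.coe_mul]
    exact hpcentral ((Q : Subgroup ↥D).map D.subtype) (Subgroup.map_subtype_le _)
      (Q.isPGroup'.map _) (q : G) ⟨q, hq, rfl⟩ (g : G) g.2
  obtain ⟨Y₀, hY₀n, hY₀c, hY₀mem⟩ := Cfsg.Agent.Lib.Helper22.burnside_type p Q hNC
  have hY₀cop : (Nat.card Y₀).Coprime p :=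
    Cfsg.Agent.Lib.Helper1.card_coprime_of_isComplement'_sylow Q hY₀c
  -- (6) the normal `p`-complement of `N`
  obtain ⟨Y', hY'def⟩ : ∃ Y' : Subgroup ↥N, Y' = (Y₀.map D.subtype).subgroupOf N := ⟨_, rfl⟩
  have hmemY' : ∀ x : ↥N, x ∈ Y' ↔ (x : G) ∈ D ∧ (orderOf (x : G)).Coprime p := by
    intro x
    rw [hY'def, Subgroup.mem_subgroupOf]
    constructor
    · rintro ⟨y, hy, hyx⟩
      have h1 := (hY₀mem y).mp hy
      have h2 : (y : G) = (x : G) := hyx
      rw [← h2]
      exact ⟨y.2, by rwa [Subgroup.orderOf_coe]⟩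
    · rintro ⟨hxD, hxo⟩
      refine ⟨⟨(x : G), hxD⟩, ?_, rfl⟩
      show (⟨(x : G), hxD⟩ : ↥D) ∈ Y₀
      rw [hY₀mem, ← Subgroup.orderOf_coe]
      exact hxo
  have hY'n : Y'.Normal := by
    constructor
    intro y hy n
    rw [hmemY'] at hy ⊢
    have e : ((n * y * n⁻¹ : ↥N) : G) = (n : G) * (y : G) * (n : G)⁻¹ := by simp
    rw [e]
    refine ⟨hconjD (n : G) n.2 (y : G) hy.1, ?_⟩
    have h1 : orderOf ((n : G) * (y : G) * (n : G)⁻¹) = orderOf (y : G) := by
      have := orderOf_injective (MulAut.conj (n : G)).toMonoidHom (MulAut.conj (n : G)).injective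
        (y : G)
      simpa [MulAut.conj_apply] using this
    rw [h1]
    exact hy.2
  have hY'cop : (Nat.card Y').Coprime p := by
    have h1 : Nat.card Y' = Nat.card Y₀ := by
      have e1 : Nat.card Y' = Nat.card (Y₀.map D.subtype) := by
        rw [hY'def]
        have hle : Y₀.map D.subtype ≤ N := (Subgroup.map_subtype_le _).trans hDN
        exact Nat.card_congr (Subgroup.subgroupOfEquivOfLe hle).toEquiv
      rw [e1]
      exact Nat.card_congr (Y₀.equivMapOfInjective _ D.subtype_injective).symm.toEquiv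
    rw [h1]
    exact hY₀cop
  rw [Cfsg.Agent.Lib.Helper1.TNPC.npc_iff]
  refine ⟨Y', hY'n, hY'cop, ?_⟩
  have hquot : IsPGroup p (↥N ⧸ Y') := by
    intro xb
    obtain ⟨x, rfl⟩ := QuotientGroup.mk_surjective xb
    obtain ⟨a, m, hm, hn⟩ := Nat.exists_eq_pow_mul_and_not_dvd (orderOf_pos (x : G)).ne' p
      hp.out.ne_one
    refine ⟨a, ?_⟩
    rw [← QuotientGroup.mk_pow, QuotientGroup.eq_one_iff, hmemY']
    have ho : (orderOf ((x : G) ^ (p ^ a))).Coprime p := by
      rw [orderOf_pow' (x : G) (pow_ne_zero a hp.out.ne_zero), hn]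
      have hcop : Nat.Coprime m p := ((Nat.Prime.coprime_iff_not_dvd hp.out).2 hm).symm
      have hg : Nat.gcd (p ^ a * m) (p ^ a) = p ^ a := Nat.gcd_eq_right (dvd_mul_right _ _)
      rw [hg, Nat.mul_div_cancel_left _ (pow_pos hp.out.pos a)]
      exact hcop
    have e : ((x ^ (p ^ a) : ↥N) : G) = (x : G) ^ (p ^ a) := by simp
    rw [e]
    exact ⟨h _ (Subgroup.pow_mem _ x.2 _) ho, ho⟩
  obtain ⟨k, hk⟩ := IsPGroup.iff_card.mp hquot
  exact ⟨k, by rw [Subgroup.index_eq_card, hk]⟩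

end Burn

end Cfsg.Agent.Lib.Helper10.KF
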