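import Mathlib
import Cfsg.Agent.Lib.Helper10.KF7
import Cfsg.Agent.Lib.Helper13.SecFusC

set_option autoImplicit false

/-! The normal `p`-complement theorem for the functor `Kf`. -/

universe u

namespace Cfsg.Agent.Lib.Helper10.KF

open Cfsg
open Cfsg.Agent.Lib.Helper13
open scoped Pointwise

section Final

variable {p : ℕ} [hp : Fact p.Prime]

theorem sylow_le_normalizer_Kf (hp2 : p ≠ 2) {G : Type u} [Group G] [Finite G]
    {S : Subgroup G} (hS : IsPGroup p ↥S) :
    S ≤ Subgroup.normalizer ((Cfsg.inducedFunctor (G := G) (Kf p) S : Subgroup G) : Set G) :=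
  Subgroup.le_normalizer.trans
    (normalizer_le_normalizer_functor
      (inducedFunctor_isConjugacyFunctor (Kf p) (isCharPFunctor_Kf hp2)) hS)

set_option maxHeartbeats 1600000 in
theorem npc_iff_Kf (hp2 : p ≠ 2) {G : Type u} [Group G] [Finite G] (P : Sylow p G) :
    HasNormalPComplement p G ↔
      ∀ g ∈ Subgroup.normalizer
          ((Cfsg.inducedFunctor (G := G) (Kf p) (P : Subgroup G) : Subgroup G) : Set G),
        (orderOf g).Coprime p →
          g ∈ Subgroup.centralizer
            ((Cfsg.inducedFunctor (G := G) (Kf p) (P : Subgroup G) : Subgroup G) : Set G) := by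
  constructor
  · intro hnpc g hg hgo
    rw [Cfsg.Agent.Lib.Helper1.TNPC.npc_iff] at hnpc
    obtain ⟨Y, hYn, hYc, k, hk⟩ := hnpc
    have hgY : g ∈ Y := Cfsg.Agent.Lib.Helper1.TNPC.mem_of_index_pow hk g hgo
    have hKP : Cfsg.inducedFunctor (G := G) (Kf p) (P : Subgroup G) ≤ P := inducedFunctor_le _ _
    rw [Subgroup.mem_centralizer_iff]
    intro u hu
    have hu' : g * u * g⁻¹ ∈ Cfsg.inducedFunctor (G := G) (Kf p) (P : Subgroup G) :=
      (Subgroup.mem_normalizer_iff.mp hg u).mp hu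
    -- the commutator lies in `Y ⊓ P = ⊥`
    have hc1 : g * u * g⁻¹ * u⁻¹ ∈ Y := by
      have h1 : u * g⁻¹ * u⁻¹ ∈ Y := hYn.conj_mem _ (Y.inv_mem hgY) u
      have e : g * u * g⁻¹ * u⁻¹ = g * (u * g⁻¹ * u⁻¹) := by group
      rw [e]
      exact Y.mul_mem hgY h1
    have hc2 : g * u * g⁻¹ * u⁻¹ ∈ (P : Subgroup G) :=
      (P : Subgroup G).mul_mem (hKP hu') ((P : Subgroup G).inv_mem (hKP hu))
    have hbot : Y ⊓ (P : Subgroup G) = ⊥ := by
      have hcop : (Nat.card Y).Coprime (Nat.card (P : Subgroup G)) := by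
        obtain ⟨m, hm⟩ := IsPGroup.iff_card.mp P.isPGroup'
        rw [hm]
        exact Nat.Coprime.pow_right _ hYc
      exact (Subgroup.disjoint_of_coprime_natCard hcop).eq_bot
    have h1 : g * u * g⁻¹ * u⁻¹ ∈ Y ⊓ (P : Subgroup G) := ⟨hc1, hc2⟩
    rw [hbot, Subgroup.mem_bot] at h1
    have h2 : g * u * g⁻¹ = u := by
      have := congrArg (· * u) h1
      simpa using this
    calc u * g = (g * u * g⁻¹) * g := by rw [h2]
      _ = g * u := by group
  · intro h
    have hN : HasNormalPComplement p ↥(Subgroup.normalizer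
        ((Cfsg.inducedFunctor (G := G) (Kf p) (P : Subgroup G) : Subgroup G) : Set G)) :=
      npc_normalizer_of_aut_pgroup P _ (sylow_le_normalizer_Kf hp2 P.isPGroup')
        (centralizer_inducedFunctor_Kf_le hp2 (P : Subgroup G) P.isPGroup') h
    refine Cfsg.Agent.S2005.result (Kf p) (isCharPFunctor_Kf hp2) P hN ?_
    intro K R hR hc hq T hT
    have hnice : Nice p (↥K ⧸ R.subgroupOf K) := nice_of_coatom hp2 hc hq T hT
    exact inducedFunctor_Kf_normal hp2 hnice (T : Subgroup (↥K ⧸ R.subgroupOf K))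
      T.isPGroup' T.not_dvd_index

end Final

end Cfsg.Agent.Lib.Helper10.KF
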