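import Mathlib
import Cfsg.Agent.Lib.Helper10.KF1
import Cfsg.Agent.Lib.helper17.QdStab8
import Cfsg.Agent.Lib.Helper13.NPStable

set_option autoImplicit false

/-! `p`-stability of all sections: elements acting quadratically on the factors of an invariant
series of a normal `p`-subgroup lie in `O_p` modulo the centralizer (helper10). -/

universe u

namespace Cfsg.Agent.Lib.Helper10.KI

open Cfsg.Agent.Lib.Helper13

section Step

variable {p : ℕ} [Fact p.Prime]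

/-- The basic step: an element acting quadratically on the section `V / W` lies in a normal
subgroup all of whose elements have a `p`-power power acting trivially on `V / W`. -/
theorem ps_step {H : Type u} [Group H] [Finite H]
    (hsec : SecAll (fun (Q : Type u) [Group Q] => Cfsg.IsNormalizerPStable p Q) H)
    (V W : Subgroup H) [hVn : V.Normal] [hWn : W.Normal] (hV : IsPGroup p ↥V) (b : H)
    (hq : ⁅⁅V, Subgroup.zpowers b⁆, Subgroup.zpowers b⁆ ≤ W) :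
    ∃ D : Subgroup H, D.Normal ∧ b ∈ D ∧
      ∀ y ∈ D, ∃ k : ℕ, y ^ (p ^ k) ∈ Cfsg.sectionKernel V W := by
  have hN : Cfsg.IsNormalizerPStable p (H ⧸ W) := secAll_self (secAll_quotient hsec W)
  obtain ⟨Vb, hVb⟩ : ∃ Vb : Subgroup (H ⧸ W), Vb = V.map (QuotientGroup.mk' W) := ⟨_, rfl⟩
  have hVbn : Vb.Normal := by
    rw [hVb]
    exact Subgroup.Normal.map hVn _ (QuotientGroup.mk'_surjective W)
  have hVbp : IsPGroup p ↥Vb := by
    rw [hVb]
    exact hV.map _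
  have hzp : Subgroup.zpowers ((QuotientGroup.mk' W) b) =
      (Subgroup.zpowers b).map (QuotientGroup.mk' W) := (MonoidHom.map_zpowers _ b).symm
  have hqb : ⁅⁅Vb, Subgroup.zpowers ((QuotientGroup.mk' W) b)⁆,
      Subgroup.zpowers ((QuotientGroup.mk' W) b)⁆ = ⊥ := by
    rw [hVb, hzp, ← Subgroup.map_commutator, ← Subgroup.map_commutator, eq_bot_iff]
    calc (⁅⁅V, Subgroup.zpowers b⁆, Subgroup.zpowers b⁆).map (QuotientGroup.mk' W)
        ≤ W.map (QuotientGroup.mk' W) := Subgroup.map_mono hq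
      _ = ⊥ := QuotientGroup.map_mk'_self W
  have h1 := Cfsg.Agent.Lib.helper17.QdStab8.pstableOn_of_nps hN Vb hVbp _ hqb
  have hcn : (Cfsg.pCore p ((H ⧸ W) ⧸ Subgroup.centralizer (Vb : Set (H ⧸ W)))).Normal :=
    Cfsg.Agent.Lib.Helper18.pCore_normal_h18 p _
  have hcp : IsPGroup p ↥(Cfsg.pCore p ((H ⧸ W) ⧸ Subgroup.centralizer (Vb : Set (H ⧸ W)))) :=
    Cfsg.Agent.Lib.Helper18.pCore_isPGroup p _
  refine ⟨(Cfsg.pCore p ((H ⧸ W) ⧸ Subgroup.centralizer (Vb : Set (H ⧸ W)))).comap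
    ((QuotientGroup.mk' (Subgroup.centralizer (Vb : Set (H ⧸ W)))).comp (QuotientGroup.mk' W)),
    inferInstance, h1, ?_⟩
  intro y hy
  obtain ⟨k, hk⟩ := hcp ⟨_, hy⟩
  refine ⟨k, ?_⟩
  have hk' := congrArg Subtype.val hk
  simp only [Subgroup.coe_pow, Subgroup.coe_one] at hk'
  show (QuotientGroup.mk' W) (y ^ (p ^ k)) ∈
    Subgroup.centralizer ((V.map (QuotientGroup.mk' W) : Subgroup (H ⧸ W)) : Set (H ⧸ W))
  rw [← hVb, ← QuotientGroup.eq_one_iff, map_pow]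
  exact hk'

/-- Two-step version: an element acting quadratically on `A / A₁` and on `A₁` lies in `O_p`, when
the centralizer of `A` is a `p`-group. -/
theorem ps_two_step {H : Type u} [Group H] [Finite H]
    (hsec : SecAll (fun (Q : Type u) [Group Q] => Cfsg.IsNormalizerPStable p Q) H)
    (A A₁ : Subgroup H) [hAn : A.Normal] [hA₁n : A₁.Normal] (hA : IsPGroup p ↥A)
    (hA₁A : A₁ ≤ A) (hC : IsPGroup p ↥(Subgroup.centralizer (A : Set H))) (b : H)
    (h1 : ⁅⁅A, Subgroup.zpowers b⁆, Subgroup.zpowers b⁆ ≤ A₁)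
    (h2 : ⁅⁅A₁, Subgroup.zpowers b⁆, Subgroup.zpowers b⁆ = ⊥) : b ∈ Cfsg.pCore p H := by
  have hA₁ : IsPGroup p ↥A₁ := hA.to_le hA₁A
  obtain ⟨D₁, hD₁n, hbD₁, hD₁⟩ := ps_step hsec A A₁ hA b h1
  obtain ⟨D₂, hD₂n, hbD₂, hD₂⟩ := ps_step hsec A₁ ⊥ hA₁ b (by rw [h2])
  have hDn : (D₁ ⊓ D₂).Normal := inferInstance
  obtain ⟨m, hm⟩ := IsPGroup.iff_card.mp hA₁
  have hDp : IsPGroup p ↥(D₁ ⊓ D₂) := by
    rintro ⟨y, hy⟩
    obtain ⟨k₁, hk₁⟩ := hD₁ y hy.1
    obtain ⟨k₂, hk₂⟩ := hD₂ y hy.2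
    have hz1 : y ^ (p ^ (k₁ + k₂)) ∈ Cfsg.sectionKernel A A₁ := by
      rw [pow_add, pow_mul]
      exact Subgroup.pow_mem _ hk₁ _
    have hz2 : y ^ (p ^ (k₁ + k₂)) ∈ Cfsg.sectionKernel A₁ (⊥ : Subgroup H) := by
      rw [pow_add, mul_comm, pow_mul]
      exact Subgroup.pow_mem _ hk₂ _
    have hz2' : y ^ (p ^ (k₁ + k₂)) ∈ Subgroup.centralizer (A₁ : Set H) := by
      rw [Subgroup.mem_centralizer_iff]
      intro t ht
      have := mem_sectionKernel_iff.mp hz2 t ht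
      rw [Subgroup.mem_bot] at this
      have h3 : y ^ (p ^ (k₁ + k₂)) * t * (y ^ (p ^ (k₁ + k₂)))⁻¹ = t := mul_inv_eq_one.mp this
      calc t * y ^ (p ^ (k₁ + k₂))
          = (y ^ (p ^ (k₁ + k₂)) * t * (y ^ (p ^ (k₁ + k₂)))⁻¹) * y ^ (p ^ (k₁ + k₂)) := by rw [h3]
        _ = y ^ (p ^ (k₁ + k₂)) * t := by group
    have h3 := pow_card_mem_centralizer_of_two_step (P₀ := A) (Φ := A₁) _ hz2'
      (mem_sectionKernel_iff.mp hz1)
    rw [hm] at h3
    obtain ⟨j, hj⟩ := hC ⟨_, h3⟩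
    have hj' := congrArg Subtype.val hj
    simp only [Subgroup.coe_pow, Subgroup.coe_one] at hj'
    refine ⟨k₁ + k₂ + m + j, ?_⟩
    apply Subtype.ext
    simp only [Subgroup.coe_pow, Subgroup.coe_one]
    rw [pow_add, pow_add, pow_mul, pow_mul]
    exact hj'
  exact Cfsg.Agent.Lib.Helper18.le_pCore hDn hDp ⟨hbD₁, hbD₂⟩

/-- One-step version. -/
theorem ps_one_step {H : Type u} [Group H] [Finite H]
    (hsec : SecAll (fun (Q : Type u) [Group Q] => Cfsg.IsNormalizerPStable p Q) H)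
    (A : Subgroup H) [hAn : A.Normal] (hA : IsPGroup p ↥A)
    (hC : IsPGroup p ↥(Subgroup.centralizer (A : Set H))) (b : H)
    (h1 : ⁅⁅A, Subgroup.zpowers b⁆, Subgroup.zpowers b⁆ = ⊥) : b ∈ Cfsg.pCore p H := by
  apply ps_two_step hsec A ⊥ hA bot_le hC b (by rw [h1])
  rw [eq_bot_iff]
  exact (Subgroup.commutator_mono (Subgroup.commutator_le_left _ _) le_rfl).trans
    (by rw [Subgroup.commutator_bot_left])

end Step

section Rel

variable {p : ℕ} [Fact p.Prime] {G : Type u} [Group G] [Finite G]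

omit [Finite G] in
theorem commutator_subgroupOf_le {H X W : Subgroup G} (hX : X ≤ H) (b : G) (hb : b ∈ H)
    (h : ⁅⁅X, Subgroup.zpowers b⁆, Subgroup.zpowers b⁆ ≤ W) :
    ⁅⁅X.subgroupOf H, Subgroup.zpowers (⟨b, hb⟩ : ↥H)⁆, Subgroup.zpowers (⟨b, hb⟩ : ↥H)⁆ ≤
      W.subgroupOf H := by
  have hz : (Subgroup.zpowers (⟨b, hb⟩ : ↥H)).map H.subtype = Subgroup.zpowers b := by
    rw [MonoidHom.map_zpowers]
    rfl
  show _ ≤ W.comap H.subtype
  rw [← Subgroup.map_le_iff_le_comap, Subgroup.map_commutator, Subgroup.map_commutator, hz,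
    Subgroup.map_subgroupOf_eq_of_le hX]
  exact h

/-- Relative two-step version, inside a subgroup `H` of `G`. -/
theorem ps_two_step_rel
    (hsec : SecAll (fun (Q : Type u) [Group Q] => Cfsg.IsNormalizerPStable p Q) G)
    (H A A₁ : Subgroup G) (hAH : A ≤ H) (hA₁A : A₁ ≤ A)
    (hAn : H ≤ Subgroup.normalizer (A : Set G)) (hA₁n : H ≤ Subgroup.normalizer (A₁ : Set G))
    (hA : IsPGroup p ↥A) (hC : IsPGroup p ↥(H ⊓ Subgroup.centralizer (A : Set G)))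
    (b : G) (hb : b ∈ H)
    (h1 : ⁅⁅A, Subgroup.zpowers b⁆, Subgroup.zpowers b⁆ ≤ A₁)
    (h2 : ⁅⁅A₁, Subgroup.zpowers b⁆, Subgroup.zpowers b⁆ = ⊥) :
    ∃ D : Subgroup G, D ≤ H ∧ IsPGroup p ↥D ∧ b ∈ D ∧ ∀ h ∈ H, ∀ d ∈ D, h * d * h⁻¹ ∈ D := by
  have hsecH := secAll_subgroup hsec H
  have hA₁H : A₁ ≤ H := hA₁A.trans hAH
  have hAn' : (A.subgroupOf H).Normal :=
    (Subgroup.normal_subgroupOf_iff_le_normalizer hAH).mpr hAn
  have hA₁n' : (A₁.subgroupOf H).Normal :=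
    (Subgroup.normal_subgroupOf_iff_le_normalizer hA₁H).mpr hA₁n
  have hAp' : IsPGroup p ↥(A.subgroupOf H) := hA.comap_subtype
  have hC' : IsPGroup p ↥(Subgroup.centralizer ((A.subgroupOf H : Subgroup ↥H) : Set ↥H)) := by
    rintro ⟨y, hy⟩
    have hyC : (y : G) ∈ H ⊓ Subgroup.centralizer (A : Set G) := by
      refine Subgroup.mem_inf.mpr ⟨y.2, ?_⟩
      rw [Subgroup.mem_centralizer_iff]
      intro a ha
      have := Subgroup.mem_centralizer_iff.mp hy ⟨a, hAH ha⟩ (Subgroup.mem_subgroupOf.mpr ha)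
      exact congrArg Subtype.val this
    obtain ⟨k, hk⟩ := hC ⟨_, hyC⟩
    have hk' := congrArg Subtype.val hk
    simp only [Subgroup.coe_pow, Subgroup.coe_one] at hk'
    refine ⟨k, ?_⟩
    apply Subtype.ext
    apply Subtype.ext
    simp only [Subgroup.coe_pow, Subgroup.coe_one]
    exact hk'
  have h1' := commutator_subgroupOf_le hAH b hb h1
  have h2' : ⁅⁅A₁.subgroupOf H, Subgroup.zpowers (⟨b, hb⟩ : ↥H)⁆,
      Subgroup.zpowers (⟨b, hb⟩ : ↥H)⁆ = ⊥ := by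
    have := commutator_subgroupOf_le hA₁H b hb h2.le
    rw [eq_bot_iff]
    refine this.trans ?_
    intro x hx
    rw [Subgroup.mem_subgroupOf, Subgroup.mem_bot] at hx
    rw [Subgroup.mem_bot]
    exact Subtype.ext hx
  have hmem := ps_two_step hsecH (A.subgroupOf H) (A₁.subgroupOf H) hAp'
    (by
      intro x hx
      rw [Subgroup.mem_subgroupOf] at hx ⊢
      exact hA₁A hx) hC' ⟨b, hb⟩ h1' h2'
  have hcn : (Cfsg.pCore p ↥H).Normal := Cfsg.Agent.Lib.Helper18.pCore_normal_h18 p _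
  have hcp : IsPGroup p ↥(Cfsg.pCore p ↥H) := Cfsg.Agent.Lib.Helper18.pCore_isPGroup p _
  refine ⟨(Cfsg.pCore p ↥H).map H.subtype, Subgroup.map_subtype_le _, hcp.map _,
    ⟨⟨b, hb⟩, hmem, rfl⟩, ?_⟩
  rintro h hh _ ⟨d, hd, rfl⟩
  exact ⟨⟨h, hh⟩ * d * ⟨h, hh⟩⁻¹, hcn.conj_mem d hd ⟨h, hh⟩, rfl⟩

end Rel

end Cfsg.Agent.Lib.Helper10.KI
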