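import Mathlib
import Cfsg.Agent.Lib.Helper13.ConjFamily
import Cfsg.Agent.Lib.Helper13.WellPlaced
import Cfsg.Agent.Lib.Helper13.Tight
import Cfsg.Agent.Lib.helper17.PSub

set_option autoImplicit false

/-! Group-theoretic lemmas for subgroups whose normalizer controls strong fusion. -/

namespace Cfsg.Agent.Lib.Helper10.KS

open scoped Pointwise
open Cfsg.Agent.Lib.Helper13

section Basic

variable {G : Type*} [Group G]

theorem relIndex_sup_of_le_normalizer {H K : Subgroup G}
    (h : H ≤ Subgroup.normalizer (K : Set G)) : K.relIndex (H ⊔ K) = K.relIndex H := by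
  obtain ⟨N, hN⟩ : ∃ N : Subgroup G, N = Subgroup.normalizer (K : Set G) := ⟨_, rfl⟩
  have hKN : K ≤ N := by rw [hN]; exact Subgroup.le_normalizer
  have hHN : H ≤ N := by rw [hN]; exact h
  haveI : (K.subgroupOf N).Normal := by rw [hN]; exact Subgroup.normal_in_normalizer
  have h1 := Subgroup.relIndex_sup_right (H := H.subgroupOf N) (K := K.subgroupOf N)
  rw [← Subgroup.subgroupOf_sup hHN hKN, Subgroup.relIndex_subgroupOf (sup_le hHN hKN),
    Subgroup.relIndex_subgroupOf hHN] at h1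
  exact h1

theorem card_mul_relIndex_of_le [Finite G] {K M : Subgroup G} (h : K ≤ M) :
    Nat.card ↥K * K.relIndex M = Nat.card ↥M := by
  have := Subgroup.relIndex_mul_relIndex ⊥ K M bot_le h
  rwa [Subgroup.relIndex_bot_left, Subgroup.relIndex_bot_left] at this

/-- If the finite conjugate of `T` lies in `T` then the element normalizes `T`. -/
theorem mem_normalizer_of_cj_le [Finite G] {g : G} {T : Subgroup G}
    (h : T.map (MulAut.conj g).toMonoidHom ≤ T) : g ∈ Subgroup.normalizer (T : Set G) := by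
  rw [mem_normalizer_iff_cj_eq]
  exact Subgroup.eq_of_le_of_card_ge h (by rw [card_cj])

/-- A `p`-subgroup of `P' D`, with `D` a `p'`-group normalized by the `p`-group `P'`, is
conjugate into `P'` by an element of `D`. -/
theorem exists_mem_cj_le_of_coprime [Finite G] {p : ℕ} [Fact p.Prime] {P' D R : Subgroup G}
    (hP' : IsPGroup p ↥P') (hPD : P' ≤ Subgroup.normalizer (D : Set G))
    (hD : (Nat.card ↥D).Coprime p) (hR : IsPGroup p ↥R) (hRle : R ≤ P' ⊔ D) :
    ∃ d ∈ D, R.map (MulAut.conj d).toMonoidHom ≤ P' := by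
  have hp : p.Prime := Fact.out
  have hidx : ¬ p ∣ P'.relIndex (P' ⊔ D) := by
    have h1 : Nat.card ↥D * D.relIndex (P' ⊔ D) = Nat.card ↥(P' ⊔ D) :=
      card_mul_relIndex_of_le le_sup_right
    have h2 : Nat.card ↥P' * P'.relIndex (P' ⊔ D) = Nat.card ↥(P' ⊔ D) :=
      card_mul_relIndex_of_le le_sup_left
    have h3 : D.relIndex (P' ⊔ D) ∣ Nat.card ↥P' := by
      rw [relIndex_sup_of_le_normalizer hPD]
      exact Subgroup.relIndex_dvd_card _ _
    have h4 : Nat.card ↥P' * P'.relIndex (P' ⊔ D) ∣ Nat.card ↥D * Nat.card ↥P' := by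
      rw [h2, ← h1]
      exact Nat.mul_dvd_mul_left _ h3
    have h5 : P'.relIndex (P' ⊔ D) ∣ Nat.card ↥D := by
      rw [mul_comm (Nat.card ↥D)] at h4
      exact Nat.dvd_of_mul_dvd_mul_left Nat.card_pos h4
    intro hdvd
    have := Nat.Coprime.eq_one_of_dvd hD.symm (hdvd.trans h5)
    exact hp.one_lt.ne' this
  obtain ⟨y, hy, hle⟩ := exists_mem_cj_le_of_relIndex (p := p) (le_sup_left : P' ≤ P' ⊔ D) hP'
    hidx hRle hR
  have hy' : y ∈ ((P' ⊔ D : Subgroup G) : Set G) := hy
  rw [Subgroup.coe_mul_of_left_le_normalizer_right P' D hPD] at hy'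
  obtain ⟨s, hs, d, hd, rfl⟩ := hy'
  refine ⟨d, hd, ?_⟩
  have h1 : (R.map (MulAut.conj d).toMonoidHom).map (MulAut.conj s).toMonoidHom ≤ P' := by
    rw [cj_cj]; exact hle
  have h2 := cj_mono (g := s⁻¹) h1
  rw [cj_inv_cj, cj_self_of_mem (Subgroup.inv_mem _ hs)] at h2
  exact h2

end Basic

end Cfsg.Agent.Lib.Helper10.KS
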