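import Mathlib
import Cfsg.Agent.Lib.Helper10.KI1
import Cfsg.Agent.Lib.Helper24.CritAut
import Cfsg.Agent.Lib.Helper10.KS4

set_option autoImplicit false

/-! Group-theoretic lemmas for the normality of the K-infinity subgroups (helper10). -/

universe u

namespace Cfsg.Agent.Lib.Helper10.KI

open Cfsg.Agent.Lib.Helper13

section Basic

variable {p : ℕ} [Fact p.Prime] {G : Type*} [Group G]

/-- `O_p` of a normal subgroup lies in `O_p` of the group. -/
theorem pCore_map_subtype_le (L : Subgroup G) [hL : L.Normal] :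
    (Cfsg.pCore p ↥L).map L.subtype ≤ Cfsg.pCore p G := by
  haveI := Cfsg.Agent.Lib.Helper18.pCore_characteristic p ↥L
  apply Cfsg.Agent.Lib.Helper18.le_pCore
  · exact ConjAct.normal_of_characteristic_of_normal
  · exact (Cfsg.Agent.Lib.Helper18.pCore_isPGroup p ↥L).map _

/-- A `p`-subgroup of a normal subgroup `L`, invariant under `L`, lies in `O_p(G)`. -/
theorem le_pCore_of_invariant (L Y : Subgroup G) [hL : L.Normal] (hYL : Y ≤ L)
    (hYp : IsPGroup p ↥Y) (hinv : ∀ l ∈ L, ∀ y ∈ Y, l * y * l⁻¹ ∈ Y) : Y ≤ Cfsg.pCore p G := by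
  have hn : (Y.subgroupOf L).Normal := by
    constructor
    intro n hn g
    rw [Subgroup.mem_subgroupOf] at hn ⊢
    exact hinv g g.2 n hn
  have h1 : Y.subgroupOf L ≤ Cfsg.pCore p ↥L :=
    Cfsg.Agent.Lib.Helper18.le_pCore hn hYp.comap_subtype
  intro y hy
  apply pCore_map_subtype_le L
  exact ⟨⟨y, hYL hy⟩, h1 (Subgroup.mem_subgroupOf.mpr hy), rfl⟩

end Basic

section Fin

variable {p : ℕ} [Fact p.Prime] {G : Type*} [Group G] [Finite G]

theorem sectionKernel_conj_mem (L T : Subgroup G) [hL : L.Normal] [hT : T.Normal] {z : G}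
    (hz : z ∈ Cfsg.sectionKernel L T) (g : G) : g * z * g⁻¹ ∈ Cfsg.sectionKernel L T := by
  rw [mem_sectionKernel_iff] at hz ⊢
  intro t ht
  have h1 : g⁻¹ * t * g ∈ L := by
    have := hL.conj_mem t ht g⁻¹
    rwa [inv_inv] at this
  have h2 := hT.conj_mem _ (hz _ h1) g
  have e : g * z * g⁻¹ * t * (g * z * g⁻¹)⁻¹ * t⁻¹ =
      g * (z * (g⁻¹ * t * g) * z⁻¹ * (g⁻¹ * t * g)⁻¹) * g⁻¹ := by group
  rw [e]
  exact h2

/-- If `G = L S` with `L` normal and `S` a Sylow `p`-subgroup, the elements of `S` centralizing `L`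
modulo `O_p(G)` lie in `O_p(G)`. -/
theorem mem_pCore_of_commutator_mem (L : Subgroup G) [hL : L.Normal] (S : Sylow p G)
    (hLS : L ⊔ (S : Subgroup G) = ⊤) (b : G) (hbS : b ∈ (S : Subgroup G))
    (hb : ∀ l ∈ L, b * l * b⁻¹ * l⁻¹ ∈ Cfsg.pCore p G) : b ∈ Cfsg.pCore p G := by
  haveI hTn : (Cfsg.pCore p G).Normal := Cfsg.Agent.Lib.Helper18.pCore_normal_h18 p G
  have hTS : Cfsg.pCore p G ≤ (S : Subgroup G) := pCore_le_sylow S
  obtain ⟨X, hX⟩ : ∃ X : Subgroup G,
      X = (S : Subgroup G) ⊓ Cfsg.sectionKernel L (Cfsg.pCore p G) := ⟨_, rfl⟩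
  have hbX : b ∈ X := by
    rw [hX]
    exact ⟨hbS, mem_sectionKernel_iff.mpr hb⟩
  have hXp : IsPGroup p ↥X := S.isPGroup'.to_le (by rw [hX]; exact inf_le_left)
  have hSN : (S : Subgroup G) ≤ Subgroup.normalizer (X : Set G) := by
    intro s hs
    apply Cfsg.Agent.Lib.Helper10.KS.mem_normalizer_of_cj_le
    rintro _ ⟨x, hx, rfl⟩
    rw [hX] at hx ⊢
    exact ⟨Subgroup.mul_mem _ (Subgroup.mul_mem _ hs hx.1) (Subgroup.inv_mem _ hs),
      sectionKernel_conj_mem L _ hx.2 s⟩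
  have hLN : L ≤ Subgroup.normalizer (X : Set G) := by
    intro l hl
    apply Cfsg.Agent.Lib.Helper10.KS.mem_normalizer_of_cj_le
    rintro _ ⟨x, hx, rfl⟩
    rw [hX] at hx ⊢
    refine ⟨?_, sectionKernel_conj_mem L _ hx.2 l⟩
    have h1 := mem_sectionKernel_iff.mp hx.2 l hl
    have h2 : l * x * l⁻¹ * x⁻¹ ∈ (S : Subgroup G) := by
      have := hTS (Subgroup.inv_mem _ h1)
      have e : (x * l * x⁻¹ * l⁻¹)⁻¹ = l * x * l⁻¹ * x⁻¹ := by group
      rwa [e] at this
    have e : (MulAut.conj l).toMonoidHom x = (l * x * l⁻¹ * x⁻¹) * x := by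
      show l * x * l⁻¹ = _
      group
    rw [e]
    exact Subgroup.mul_mem _ h2 hx.1
  have hXn : X.Normal := by
    rw [← Subgroup.normalizer_eq_top_iff, eq_top_iff, ← hLS]
    exact sup_le hLN hSN
  exact Cfsg.Agent.Lib.Helper18.le_pCore hXn hXp hbX

/-- If `G / L` is a `p`-group then `G = L S` for a Sylow `p`-subgroup `S`. -/
theorem sup_sylow_eq_top (L : Subgroup G) [hL : L.Normal] (hq : IsPGroup p (G ⧸ L))
    (S : Sylow p G) : L ⊔ (S : Subgroup G) = ⊤ := by
  have hp : p.Prime := Fact.out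
  obtain ⟨k, hk⟩ := IsPGroup.iff_card.mp hq
  have h1 : (L ⊔ (S : Subgroup G)).index ∣ p ^ k := by
    rw [← hk, ← Subgroup.index_eq_card]
    exact Subgroup.index_dvd_of_le le_sup_left
  have h2 : (L ⊔ (S : Subgroup G)).index ∣ (S : Subgroup G).index :=
    Subgroup.index_dvd_of_le le_sup_right
  obtain ⟨j, _, hj⟩ := (Nat.dvd_prime_pow hp).mp h1
  rw [← Subgroup.index_eq_one, hj]
  rcases Nat.eq_zero_or_pos j with h0 | hpos
  · rw [h0, pow_zero]
  · exfalso
    apply S.not_dvd_index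
    refine dvd_trans ?_ h2
    rw [hj]
    exact dvd_pow_self p hpos.ne'

/-- The centralizer of a normal critical subgroup of `O_p(G)` lies in `O_p(G)` when
`C_G(O_p(G)) ≤ O_p(G)`. -/
theorem centralizer_le_pCore_of_critical
    (hc : Subgroup.centralizer (Cfsg.pCore p G : Set G) ≤ Cfsg.pCore p G)
    (A : Subgroup G) [hAn : A.Normal] (hAT : A ≤ Cfsg.pCore p G)
    (hCT : Cfsg.pCore p G ⊓ Subgroup.centralizer (A : Set G) ≤ A) :
    Subgroup.centralizer (A : Set G) ≤ Cfsg.pCore p G := by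
  have hp : p.Prime := Fact.out
  haveI hTn : (Cfsg.pCore p G).Normal := Cfsg.Agent.Lib.Helper18.pCore_normal_h18 p G
  have hTp : IsPGroup p ↥(Cfsg.pCore p G) := Cfsg.Agent.Lib.Helper18.pCore_isPGroup p G
  have key : ∀ z ∈ Subgroup.centralizer (A : Set G), (orderOf z).Coprime p → z = 1 := by
    intro z hz hzo
    have ha : Nat.Coprime (orderOf (MulAut.conjNormal z : MulAut ↥(Cfsg.pCore p G))) p :=
      Nat.Coprime.coprime_dvd_left (orderOf_map_dvd _ z) hzo
    have h1 : (MulAut.conjNormal z : MulAut ↥(Cfsg.pCore p G)) = 1 := by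
      apply Cfsg.Agent.Lib.Helper24.ca_crit hTp (A.subgroupOf (Cfsg.pCore p G)) inferInstance _ _ ha
      · intro x hx
        apply Subtype.ext
        rw [MulAut.conjNormal_apply]
        rw [Subgroup.mem_subgroupOf] at hx
        have := Subgroup.mem_centralizer_iff.mp hz _ hx
        rw [← this]
        group
      · intro y hy
        rw [Subgroup.mem_subgroupOf]
        apply hCT
        refine Subgroup.mem_inf.mpr ⟨y.2, ?_⟩
        rw [Subgroup.mem_centralizer_iff]
        intro a ha'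
        have := Subgroup.mem_centralizer_iff.mp hy ⟨a, hAT ha'⟩ (Subgroup.mem_subgroupOf.mpr ha')
        exact congrArg Subtype.val this
    have h2 : z ∈ Subgroup.centralizer (Cfsg.pCore p G : Set G) := by
      rw [Subgroup.mem_centralizer_iff]
      intro t ht
      have h3 := congrArg (fun φ : MulAut ↥(Cfsg.pCore p G) => ((φ ⟨t, ht⟩ : ↥(Cfsg.pCore p G)) : G)) h1
      simp only [MulAut.conjNormal_apply, MulAut.one_apply] at h3
      calc t * z = (z * t * z⁻¹) * z := by rw [h3]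
        _ = z * t := by group
    obtain ⟨k, hk⟩ := hTp ⟨z, hc h2⟩
    have hk' := congrArg Subtype.val hk
    simp only [Subgroup.coe_pow, Subgroup.coe_one] at hk'
    have h4 : orderOf z ∣ p ^ k := orderOf_dvd_of_pow_eq_one hk'
    have h5 : orderOf z = 1 := Nat.Coprime.eq_one_of_dvd (Nat.Coprime.pow_right k hzo) h4
    exact orderOf_eq_one_iff.mp h5
  have hCp : IsPGroup p ↥(Subgroup.centralizer (A : Set G)) := by
    rintro ⟨y, hy⟩
    obtain ⟨k, m, hm, hkm⟩ := Nat.exists_eq_pow_mul_and_not_dvd (orderOf_pos y).ne' p hp.ne_one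
    have hz : y ^ (p ^ k) ∈ Subgroup.centralizer (A : Set G) := Subgroup.pow_mem _ hy _
    have hzo : (orderOf (y ^ (p ^ k))).Coprime p := by
      have h1 : (y ^ (p ^ k)) ^ m = 1 := by
        rw [← pow_mul, ← hkm]
        exact pow_orderOf_eq_one y
      have h2 : orderOf (y ^ (p ^ k)) ∣ m := orderOf_dvd_of_pow_eq_one h1
      have h3 : Nat.Coprime m p := ((Nat.Prime.coprime_iff_not_dvd hp).mpr hm).symm
      exact Nat.Coprime.coprime_dvd_left h2 h3
    refine ⟨k, ?_⟩
    apply Subtype.ext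
    simp only [Subgroup.coe_pow, Subgroup.coe_one]
    exact key _ hz hzo
  exact Cfsg.Agent.Lib.Helper18.le_pCore inferInstance hCp

end Fin

end Cfsg.Agent.Lib.Helper10.KI
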