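import Mathlib
import Cfsg.Agent.Lib.Helper10.KI2

set_option autoImplicit false

/-! The subgroup of a class-two group `A` of elements whose commutators with `A` lie in a given
central subgroup (helper10). -/

universe u

namespace Cfsg.Agent.Lib.Helper10.KI

section CSub

variable {G : Type*} [Group G]

/-- The elements `a` of `A` with `[a, A] ⊆ C₀`, for `C₀` central in `A`. -/
def csub (A C₀ : Subgroup G) (h : C₀ ≤ A ⊓ Subgroup.centralizer (A : Set G)) : Subgroup G where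
  carrier := {a | a ∈ A ∧ ∀ a' ∈ A, a * a' * a⁻¹ * a'⁻¹ ∈ C₀}
  one_mem' := ⟨A.one_mem, fun a' _ => by simp⟩
  mul_mem' := by
    rintro a₁ a₂ ⟨h₁, h₁'⟩ ⟨h₂, h₂'⟩
    refine ⟨A.mul_mem h₁ h₂, fun a' ha' => ?_⟩
    have hc := h₂' a' ha'
    have hcc : a₁ * (a₂ * a' * a₂⁻¹ * a'⁻¹) = (a₂ * a' * a₂⁻¹ * a'⁻¹) * a₁ :=
      (Subgroup.mem_centralizer_iff.mp (h hc).2 a₁ h₁)
    have e : a₁ * a₂ * a' * (a₁ * a₂)⁻¹ * a'⁻¹ =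
        (a₁ * (a₂ * a' * a₂⁻¹ * a'⁻¹)) * a₁⁻¹ * (a₁ * a' * a₁⁻¹ * a'⁻¹) := by group
    rw [e, hcc]
    have e2 : a₂ * a' * a₂⁻¹ * a'⁻¹ * a₁ * a₁⁻¹ * (a₁ * a' * a₁⁻¹ * a'⁻¹) =
        (a₂ * a' * a₂⁻¹ * a'⁻¹) * (a₁ * a' * a₁⁻¹ * a'⁻¹) := by group
    rw [e2]
    exact C₀.mul_mem hc (h₁' a' ha')
  inv_mem' := by
    rintro a ⟨h₁, h₁'⟩
    refine ⟨A.inv_mem h₁, fun a' ha' => ?_⟩
    have hc := C₀.inv_mem (h₁' a' ha')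
    have hcc : a⁻¹ * (a * a' * a⁻¹ * a'⁻¹)⁻¹ = (a * a' * a⁻¹ * a'⁻¹)⁻¹ * a⁻¹ :=
      (Subgroup.mem_centralizer_iff.mp (h hc).2 a⁻¹ (A.inv_mem h₁))
    have e : a⁻¹ * a' * a⁻¹⁻¹ * a'⁻¹ = (a⁻¹ * (a * a' * a⁻¹ * a'⁻¹)⁻¹) * a := by group
    rw [e, hcc]
    have e2 : (a * a' * a⁻¹ * a'⁻¹)⁻¹ * a⁻¹ * a = (a * a' * a⁻¹ * a'⁻¹)⁻¹ := by group
    rw [e2]
    exact hc

theorem mem_csub_iff {A C₀ : Subgroup G} {h : C₀ ≤ A ⊓ Subgroup.centralizer (A : Set G)} {a : G} :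
    a ∈ csub A C₀ h ↔ a ∈ A ∧ ∀ a' ∈ A, a * a' * a⁻¹ * a'⁻¹ ∈ C₀ := Iff.rfl

theorem csub_le (A C₀ : Subgroup G) (h : C₀ ≤ A ⊓ Subgroup.centralizer (A : Set G)) :
    csub A C₀ h ≤ A := fun _ ha => ha.1

theorem commutator_csub_le (A C₀ : Subgroup G) (h : C₀ ≤ A ⊓ Subgroup.centralizer (A : Set G)) :
    ⁅csub A C₀ h, A⁆ ≤ C₀ := by
  rw [Subgroup.commutator_le]
  intro a ha a' ha'
  rw [commutatorElement_def]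
  exact ha.2 a' ha'

/-- The subgroup is invariant under elements normalizing `A` and `C₀`. -/
theorem csub_conj_mem {A C₀ : Subgroup G} [hA : A.Normal]
    (h : C₀ ≤ A ⊓ Subgroup.centralizer (A : Set G)) {g : G}
    (hg : ∀ c ∈ C₀, g * c * g⁻¹ ∈ C₀) {x : G} (hx : x ∈ csub A C₀ h) :
    g * x * g⁻¹ ∈ csub A C₀ h := by
  refine ⟨hA.conj_mem x hx.1 g, fun a' ha' => ?_⟩
  have h1 : g⁻¹ * a' * g ∈ A := by
    have := hA.conj_mem a' ha' g⁻¹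
    rwa [inv_inv] at this
  have h2 := hg _ (hx.2 _ h1)
  have e : g * x * g⁻¹ * a' * (g * x * g⁻¹)⁻¹ * a'⁻¹ =
      g * (x * (g⁻¹ * a' * g) * x⁻¹ * (g⁻¹ * a' * g)⁻¹) * g⁻¹ := by group
  rw [e]
  exact h2

end CSub

end Cfsg.Agent.Lib.Helper10.KI
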