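import Mathlib
import Cfsg.Agent.Lib.Helper10.KI3
import Cfsg.Agent.Lib.Helper13.KInfD

set_option autoImplicit false

/-! Confinement of the lower star family of a Sylow `p`-subgroup, for groups all of whose sections
are `p`-stable (helper10). -/

universe u

namespace Cfsg.Agent.Lib.Helper10.KI

open Cfsg.Agent.Lib.Helper13
open scoped commutatorElement

section Low

variable {p : ℕ} [Fact p.Prime] {G : Type u} [Group G] [Finite G]

/-- Conjugation by an element of the normalizer of `B` preserves the centralizer of `B`. -/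
theorem conj_mem_centralizer_of_mem_normalizer {B : Subgroup G} {g : G}
    (hg : g ∈ Subgroup.normalizer (B : Set G)) {c : G}
    (hc : c ∈ Subgroup.centralizer (B : Set G)) :
    g * c * g⁻¹ ∈ Subgroup.centralizer (B : Set G) := by
  rw [Subgroup.mem_centralizer_iff]
  intro u hu
  have hg' : g⁻¹ ∈ Subgroup.normalizer (B : Set G) := Subgroup.inv_mem _ hg
  have hu' : g⁻¹ * u * g⁻¹⁻¹ ∈ B := (Subgroup.mem_normalizer_iff.mp hg' u).mp hu
  rw [inv_inv] at hu'
  have h1 := Subgroup.mem_centralizer_iff.mp hc _ hu'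
  calc u * (g * c * g⁻¹) = g * ((g⁻¹ * u * g) * c) * g⁻¹ := by group
    _ = g * (c * (g⁻¹ * u * g)) * g⁻¹ := by rw [h1]
    _ = g * c * g⁻¹ * u := by group

/-- Subgroups acting quadratically on a normal `p`-subgroup with `p`-group centralizer lie in
`O_p`. -/
theorem le_pCore_of_quadratic
    (hsec : SecAll (fun (Q : Type u) [Group Q] => Cfsg.IsNormalizerPStable p Q) G)
    (A : Subgroup G) [hAn : A.Normal] (hA : IsPGroup p ↥A)
    (hC : IsPGroup p ↥(Subgroup.centralizer (A : Set G))) (X : Subgroup G)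
    (h : ⁅⁅A, X⁆, X⁆ = ⊥) : X ≤ Cfsg.pCore p G := by
  intro g hg
  have hgX : Subgroup.zpowers g ≤ X := Subgroup.zpowers_le.mpr hg
  apply ps_one_step hsec A hA hC g
  exact le_bot_iff.mp ((Subgroup.commutator_mono (Subgroup.commutator_mono le_rfl hgX) hgX).trans h.le)

/-- Two-step version. -/
theorem le_pCore_of_quadratic_two
    (hsec : SecAll (fun (Q : Type u) [Group Q] => Cfsg.IsNormalizerPStable p Q) G)
    (A A₁ : Subgroup G) [hAn : A.Normal] [hA₁n : A₁.Normal] (hA : IsPGroup p ↥A) (hA₁A : A₁ ≤ A)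
    (hC : IsPGroup p ↥(Subgroup.centralizer (A : Set G))) (X : Subgroup G)
    (h1 : ⁅⁅A, X⁆, X⁆ ≤ A₁) (h2 : ⁅⁅A₁, X⁆, X⁆ = ⊥) : X ≤ Cfsg.pCore p G := by
  intro g hg
  have hgX : Subgroup.zpowers g ≤ X := Subgroup.zpowers_le.mpr hg
  apply ps_two_step hsec A A₁ hA hA₁A hC g
  · exact (Subgroup.commutator_mono (Subgroup.commutator_mono le_rfl hgX) hgX).trans h1
  · exact le_bot_iff.mp ((Subgroup.commutator_mono (Subgroup.commutator_mono le_rfl hgX) hgX).trans
      h2.le)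

set_option maxHeartbeats 1600000 in
/-- Confinement of the lower star family. -/
theorem lowIn_le_pCore
    (hsec : SecAll (fun (Q : Type u) [Group Q] => Cfsg.IsNormalizerPStable p Q) G)
    (S : Sylow p G) (A : Subgroup G) [hAn : A.Normal] (hAT : A ≤ Cfsg.pCore p G)
    (hATc : ⁅A, Cfsg.pCore p G⁆ ≤ A ⊓ Subgroup.centralizer (A : Set G))
    (hCA : Subgroup.centralizer (A : Set G) ≤ Cfsg.pCore p G)
    (hLS : Subgroup.centralizer ((A ⊓ Subgroup.centralizer (A : Set G) : Subgroup G) : Set G) ⊔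
      (S : Subgroup G) = ⊤)
    (R : Subgroup G) (hAR : A ≤ R) (hRS : R ≤ (S : Subgroup G)) (B : Subgroup G)
    (hB : B ∈ lowIn (S : Subgroup G) R) : B ≤ Cfsg.pCore p G := by
  obtain ⟨⟨hB2, hRB, hBcond⟩, hBS⟩ := hB
  have hTp : IsPGroup p ↥(Cfsg.pCore p G) := Cfsg.Agent.Lib.Helper18.pCore_isPGroup p G
  have hTS : Cfsg.pCore p G ≤ (S : Subgroup G) := pCore_le_sylow S
  have hAp : IsPGroup p ↥A := hTp.to_le hAT
  have hCp : IsPGroup p ↥(Subgroup.centralizer (A : Set G)) := hTp.to_le hCA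
  obtain ⟨Z, hZ⟩ : ∃ Z : Subgroup G, Z = A ⊓ Subgroup.centralizer (A : Set G) := ⟨_, rfl⟩
  obtain ⟨zB, hzB⟩ : ∃ zB : Subgroup G, zB = B ⊓ Subgroup.centralizer (B : Set G) := ⟨_, rfl⟩
  obtain ⟨L, hL⟩ : ∃ L : Subgroup G, L = Subgroup.centralizer (Z : Set G) := ⟨_, rfl⟩
  rw [← hZ] at hATc hLS
  rw [← hL] at hLS
  rw [← hzB] at hBcond
  have hZn : Z.Normal := by
    rw [hZ]
    infer_instance
  have hLn : L.Normal := by
    rw [hL]
    infer_instance
  have hZA : Z ≤ A := hZ ▸ inf_le_left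
  have hZCA : Z ≤ Subgroup.centralizer (A : Set G) := hZ ▸ inf_le_right
  have hZZ : ⁅Z, Z⁆ = ⊥ := by
    rw [Subgroup.commutator_eq_bot_iff_le_centralizer]
    exact hZCA.trans (Subgroup.centralizer_le hZA)
  have hZ2 : Z ∈ Cfsg.classTwoSubgroups G := by
    show ⁅Z, Z⁆ ≤ _
    rw [hZZ]
    exact bot_le
  have hzBB : zB ≤ B := hzB ▸ inf_le_left
  have hzBC : zB ≤ Subgroup.centralizer (B : Set G) := hzB ▸ inf_le_right
  have hZAbot : ⁅Z, A⁆ = ⊥ := Subgroup.commutator_eq_bot_iff_le_centralizer.mpr hZCA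
  -- (1) `B` is quadratic on `Z`
  have hBZ : ⁅B, Z⁆ ≤ zB := by
    apply hBcond Z hZ2 (hZA.trans hAR)
    · rw [Subgroup.normalizer_eq_top]
      exact le_top
    · rw [hZZ, Subgroup.commutator_bot_right]
    · exact le_bot_iff.mp ((Subgroup.commutator_mono (Subgroup.commutator_le_right _ Z) le_rfl).trans
        hZZ.le)
  -- (2) `A` normalizes `B` and its centre
  have hAB : A ≤ Subgroup.normalizer (B : Set G) := hAR.trans hRB
  have hABc : ⁅A, B⁆ ≤ B := Subgroup.le_normalizer_iff_commutator_le_right.mp hAB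
  have hABA : ⁅A, B⁆ ≤ A := Subgroup.commutator_le_left A B
  have hconjzB : ∀ g ∈ Subgroup.normalizer (B : Set G), ∀ x ∈ zB, g * x * g⁻¹ ∈ zB := by
    intro g hg x hx
    rw [hzB] at hx ⊢
    exact ⟨(Subgroup.mem_normalizer_iff.mp hg x).mp hx.1,
      conj_mem_centralizer_of_mem_normalizer hg hx.2⟩
  have hAzB : ⁅A, zB⁆ ≤ zB := by
    rw [Subgroup.commutator_le]
    intro a ha x hx
    have h1 := hconjzB a (hAB ha) x hx
    rw [commutatorElement_def]
    exact Subgroup.mul_mem _ h1 (Subgroup.inv_mem _ hx)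
  have hzBzB : ⁅zB, zB⁆ = ⊥ := by
    rw [Subgroup.commutator_eq_bot_iff_le_centralizer]
    exact hzBC.trans (Subgroup.centralizer_le hzBB)
  -- (3) the centre of `B` lies in `O_p`
  have hzBT : zB ≤ Cfsg.pCore p G := by
    apply le_pCore_of_quadratic hsec A hAp hCp zB
    exact le_bot_iff.mp ((Subgroup.commutator_mono hAzB le_rfl).trans hzBzB.le)
  have hzBA : ⁅zB, A⁆ ≤ Z ⊓ zB := by
    rw [Subgroup.commutator_comm]
    exact le_inf ((Subgroup.commutator_mono le_rfl hzBT).trans hATc) hAzB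
  -- (4) the subgroup `AB`
  obtain ⟨C₀, hC₀def⟩ : ∃ C₀ : Subgroup G, C₀ = Z ⊓ Subgroup.centralizer (B : Set G) := ⟨_, rfl⟩
  have hC₀Z : C₀ ≤ Z := hC₀def ▸ inf_le_left
  have hC₀B : C₀ ≤ Subgroup.centralizer (B : Set G) := hC₀def ▸ inf_le_right
  have hC₀ : C₀ ≤ A ⊓ Subgroup.centralizer (A : Set G) := hZ ▸ hC₀Z
  obtain ⟨AB, hABdef⟩ : ∃ AB : Subgroup G, AB = csub A C₀ hC₀ := ⟨_, rfl⟩
  have hABle : AB ≤ A := hABdef ▸ csub_le A C₀ hC₀
  have hABcomm : ⁅AB, A⁆ ≤ C₀ := hABdef ▸ commutator_csub_le A C₀ hC₀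
  have hconjC₀N : ∀ g ∈ Subgroup.normalizer (B : Set G), ∀ c ∈ C₀, g * c * g⁻¹ ∈ C₀ := by
    intro g hg c hc
    rw [hC₀def] at hc ⊢
    exact ⟨hZn.conj_mem c hc.1 g, conj_mem_centralizer_of_mem_normalizer hg hc.2⟩
  have hconjC₀L : ∀ g ∈ L, ∀ c ∈ C₀, g * c * g⁻¹ ∈ C₀ := by
    intro g hg c hc
    rw [hL] at hg
    have := Subgroup.mem_centralizer_iff.mp hg c (hC₀Z hc)
    have e : g * c * g⁻¹ = c := by
      rw [← this]
      group
    rw [e]
    exact hc
  have hNAB : ∀ g : G, (∀ c ∈ C₀, g * c * g⁻¹ ∈ C₀) →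
      g ∈ Subgroup.normalizer (AB : Set G) := by
    intro g hg
    apply mem_normalizer_of_cj_le
    rintro _ ⟨x, hx, rfl⟩
    rw [hABdef] at hx ⊢
    exact csub_conj_mem hC₀ hg hx
  have hBNAB : B ≤ Subgroup.normalizer (AB : Set G) :=
    fun b hb => hNAB b (hconjC₀N b (Subgroup.le_normalizer hb))
  have hAB2 : AB ∈ Cfsg.classTwoSubgroups G := by
    show ⁅AB, AB⁆ ≤ _
    exact ((Subgroup.commutator_mono le_rfl hABle).trans hABcomm).trans
      ((hC₀Z.trans hZCA).trans (Subgroup.centralizer_le hABle))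
  have hBAB : ⁅B, AB⁆ ≤ zB := by
    apply hBcond AB hAB2 (hABle.trans hAR) hBNAB
    · rw [Subgroup.commutator_comm, Subgroup.commutator_eq_bot_iff_le_centralizer]
      exact ((Subgroup.commutator_mono le_rfl hABle).trans hABcomm).trans hC₀B
    · have h1 : ⁅zB, AB⁆ ≤ Z := (Subgroup.commutator_mono le_rfl hABle).trans (hzBA.trans inf_le_left)
      exact le_bot_iff.mp ((Subgroup.commutator_mono h1 hABle).trans hZAbot.le)
  have hquadAB : ⁅⁅AB, B⁆, B⁆ = ⊥ := by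
    rw [hzB] at hBAB
    exact quadratic_of_commutator_le_zIn hBAB
  -- (5) `B` is quadratic on `A / AB`
  have hquadA : ⁅⁅A, B⁆, B⁆ ≤ AB := by
    have h1 : ⁅⁅A, B⁆, B⁆ ≤ A :=
      (Subgroup.commutator_mono hABA le_rfl).trans (Subgroup.commutator_le_left A B)
    have h2 : ⁅⁅A, B⁆, B⁆ ≤ ⁅B, B⁆ := Subgroup.commutator_mono hABc le_rfl
    have h3 : ⁅B, B⁆ ≤ zB := by
      rw [hzB]
      exact le_inf (Subgroup.commutator_le.mpr (fun a ha b hb =>
        B.mul_mem (B.mul_mem (B.mul_mem ha hb) (B.inv_mem ha)) (B.inv_mem hb))) hB2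
    intro x hx
    rw [hABdef]
    refine ⟨h1 hx, fun a' ha' => ?_⟩
    have h4 : ⁅x, a'⁆ ∈ ⁅zB, A⁆ := Subgroup.commutator_mem_commutator (h3 (h2 hx)) ha'
    have h5 := hzBA h4
    rw [commutatorElement_def] at h5
    rw [hC₀def]
    exact ⟨h5.1, hzBC h5.2⟩
  -- (6) the subgroup `H`
  obtain ⟨S', hS'⟩ : ∃ S' : Subgroup G,
      S' = (S : Subgroup G) ⊓ Subgroup.normalizer (B : Set G) := ⟨_, rfl⟩
  obtain ⟨H, hH⟩ : ∃ H : Subgroup G, H = L ⊔ S' := ⟨_, rfl⟩
  have hLH : L ≤ H := hH ▸ le_sup_left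
  have hS'H : S' ≤ H := hH ▸ le_sup_right
  have hAS' : A ≤ S' := by
    rw [hS']
    exact le_inf (hAR.trans hRS) hAB
  have hBS' : B ≤ S' := by
    rw [hS']
    exact le_inf hBS Subgroup.le_normalizer
  have hHA : H ≤ Subgroup.normalizer (A : Set G) := by
    rw [Subgroup.normalizer_eq_top]
    exact le_top
  have hHAB : H ≤ Subgroup.normalizer (AB : Set G) := by
    rw [hH]
    apply sup_le
    · exact fun l hl => hNAB l (hconjC₀L l hl)
    · intro s hs
      rw [hS'] at hs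
      exact hNAB s (hconjC₀N s hs.2)
  have hCH : IsPGroup p ↥(H ⊓ Subgroup.centralizer (A : Set G)) := hCp.to_le inf_le_right
  -- (7) each element of `B` lies in `O_p(G)`
  intro b hb
  have hbH : b ∈ H := hS'H (hBS' hb)
  have hbB : Subgroup.zpowers b ≤ B := Subgroup.zpowers_le.mpr hb
  obtain ⟨D, hDH, hDp, hbD, hDinv⟩ := ps_two_step_rel hsec H A AB (hAS'.trans hS'H) hABle hHA hHAB
    hAp hCH b hbH
    ((Subgroup.commutator_mono (Subgroup.commutator_mono le_rfl hbB) hbB).trans hquadA)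
    (le_bot_iff.mp ((Subgroup.commutator_mono (Subgroup.commutator_mono le_rfl hbB) hbB).trans
      hquadAB.le))
  have hY : L ⊓ D ≤ Cfsg.pCore p G := by
    apply le_pCore_of_invariant L (L ⊓ D) inf_le_left (hDp.to_le inf_le_right)
    intro l hl y hy
    exact ⟨Subgroup.mul_mem _ (Subgroup.mul_mem _ hl hy.1) (Subgroup.inv_mem _ hl),
      hDinv l (hLH hl) y hy.2⟩
  apply mem_pCore_of_commutator_mem L S hLS b (hBS hb)
  intro l hl
  apply hY
  constructor
  · exact Subgroup.mul_mem _ (hLn.conj_mem l hl b) (Subgroup.inv_mem _ hl)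
  · have h1 : l * b⁻¹ * l⁻¹ ∈ D := hDinv l (hLH hl) _ (Subgroup.inv_mem _ hbD)
    have e : b * l * b⁻¹ * l⁻¹ = b * (l * b⁻¹ * l⁻¹) := by group
    rw [e]
    exact Subgroup.mul_mem _ hbD h1

end Low

end Cfsg.Agent.Lib.Helper10.KI
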