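import Mathlib
import Cfsg.Agent.Lib.Helper10.KI4

set_option autoImplicit false

/-! The two reduction stages for the normality of the K-infinity subgroups (helper10). -/

universe u

namespace Cfsg.Agent.Lib.Helper10.KI

open Cfsg.Agent.Lib.Helper13
open scoped commutatorElement

section Stages

variable {p : ℕ} [Fact p.Prime] {G : Type u} [Group G] [Finite G]

/-- Stage 2: if `G = C_G(Z(A)) S` for a normal critical subgroup `A` of `O_p(G)`, the K-infinity
subgroups of `S` and `O_p(G)` agree. -/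
theorem kinf_eq_of_sup_eq_top
    (hsec : SecAll (fun (Q : Type u) [Group Q] => Cfsg.IsNormalizerPStable p Q) G)
    (S : Sylow p G) (A : Subgroup G) [hAn : A.Normal] (hAT : A ≤ Cfsg.pCore p G)
    (hATc : ⁅A, Cfsg.pCore p G⁆ ≤ A ⊓ Subgroup.centralizer (A : Set G))
    (hCA : Subgroup.centralizer (A : Set G) ≤ Cfsg.pCore p G)
    (hLS : Subgroup.centralizer ((A ⊓ Subgroup.centralizer (A : Set G) : Subgroup G) : Set G) ⊔
      (S : Subgroup G) = ⊤) :
    (⨆ n, kEvenIn (S : Subgroup G) n) = (⨆ n, kEvenIn (Cfsg.pCore p G) n) ∧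
      (⨅ n, kOddIn (S : Subgroup G) n) = (⨅ n, kOddIn (Cfsg.pCore p G) n) := by
  have hTp : IsPGroup p ↥(Cfsg.pCore p G) := Cfsg.Agent.Lib.Helper18.pCore_isPGroup p G
  have hTS : Cfsg.pCore p G ≤ (S : Subgroup G) := pCore_le_sylow S
  have hAp : IsPGroup p ↥A := hTp.to_le hAT
  have hCp : IsPGroup p ↥(Subgroup.centralizer (A : Set G)) := hTp.to_le hCA
  have hA2 : A ∈ Cfsg.classTwoSubgroups G :=
    ((Subgroup.commutator_mono le_rfl hAT).trans hATc).trans inf_le_right
  have hZn : (A ⊓ Subgroup.centralizer (A : Set G)).Normal := inferInstance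
  apply kinf_sandwich hTS hAT
  · intro Q hQS
    refine ⟨hA2, ?_, ?_⟩
    · rw [Subgroup.normalizer_eq_top]
      exact le_top
    · intro X hX hXQ hXN hAXX hZXX
      have hAX_X : ⁅A, X⁆ ≤ X := Subgroup.le_normalizer_iff_commutator_le_right.mp hXN
      have hAX_A : ⁅A, X⁆ ≤ A := Subgroup.commutator_le_left A X
      have hXXC : ⁅X, X⁆ ≤ Subgroup.centralizer (A : Set G) := by
        rw [Subgroup.commutator_comm] at hAXX
        exact Subgroup.commutator_eq_bot_iff_le_centralizer.mp hAXX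
      have h3 : ⁅⁅A, X⁆, X⁆ ≤ A ⊓ Subgroup.centralizer (A : Set G) :=
        le_inf ((Subgroup.commutator_mono hAX_A le_rfl).trans (Subgroup.commutator_le_left A X))
          ((Subgroup.commutator_mono hAX_X le_rfl).trans hXXC)
      have hXT : X ≤ Cfsg.pCore p G :=
        le_pCore_of_quadratic_two hsec A (A ⊓ Subgroup.centralizer (A : Set G)) hAp inf_le_left hCp
          X h3 hZXX
      exact (Subgroup.commutator_mono le_rfl hXT).trans hATc
  · intro Q hQT
    exact ⟨hA2, (Subgroup.commutator_mono le_rfl hQT).trans hATc⟩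
  · rintro Q hAQ hQS B ⟨⟨_, hBQ⟩, hBS⟩
    exact le_pCore_of_quadratic hsec A hAp hCp B
      (quadratic_of_commutator_le_zIn ((Subgroup.commutator_mono le_rfl hAQ).trans hBQ))
  · exact fun Q hAQ hQS B hB => lowIn_le_pCore hsec S A hAT hATc hCA hLS Q hAQ hQS B hB

/-- Stage 1: the K-infinity subgroups of `S` agree with those of `S ⊓ K`, where `K / C_G(Z)` is
`O_p(G / C_G(Z))` for a normal abelian `p`-subgroup `Z`. -/
theorem kinf_eq_stage1 (hN : Cfsg.IsNormalizerPStable p G)
    (S : Sylow p G) (Z : Subgroup G) [hZn : Z.Normal] (hZp : IsPGroup p ↥Z)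
    (hZab : Z ≤ Subgroup.centralizer (Z : Set G)) :
    (⨆ n, kEvenIn (S : Subgroup G) n) = (⨆ n, kEvenIn ((S : Subgroup G) ⊓
        (Cfsg.pCore p (G ⧸ Subgroup.centralizer (Z : Set G))).comap
          (QuotientGroup.mk' (Subgroup.centralizer (Z : Set G)))) n) ∧
      (⨅ n, kOddIn (S : Subgroup G) n) = (⨅ n, kOddIn ((S : Subgroup G) ⊓
        (Cfsg.pCore p (G ⧸ Subgroup.centralizer (Z : Set G))).comap
          (QuotientGroup.mk' (Subgroup.centralizer (Z : Set G)))) n) := by
  have hZS : Z ≤ (S : Subgroup G) := normal_pgroup_le_sylow Z hZp S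
  have hZZ : ⁅Z, Z⁆ = ⊥ := Subgroup.commutator_eq_bot_iff_le_centralizer.mpr hZab
  have hZi : Z ⊓ Subgroup.centralizer (Z : Set G) = Z := inf_eq_left.mpr hZab
  have hZK : Z ≤ (Cfsg.pCore p (G ⧸ Subgroup.centralizer (Z : Set G))).comap
      (QuotientGroup.mk' (Subgroup.centralizer (Z : Set G))) := by
    intro z hz
    rw [Subgroup.mem_comap]
    have : (QuotientGroup.mk' (Subgroup.centralizer (Z : Set G))) z = 1 :=
      (QuotientGroup.eq_one_iff z).mpr (hZab hz)
    rw [this]
    exact Subgroup.one_mem _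
  apply kinf_confined inf_le_left (le_inf hZS hZK)
  · show ⁅Z, Z⁆ ≤ _
    rw [hZZ]
    exact bot_le
  · rw [hZi]
    exact Subgroup.commutator_le_left Z _
  · intro g hg _ h2
    rw [hZi] at h2
    exact ⟨hg, Cfsg.Agent.Lib.helper17.QdStab8.pstableOn_of_nps hN Z hZp g h2⟩

end Stages

end Cfsg.Agent.Lib.Helper10.KI
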