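import Mathlib
import Cfsg.Agent.Lib.Helper10.KI5
import Cfsg.Agent.Lib.Helper13.KInfI
import Cfsg.Agent.Lib.helper17.SylowNormal

set_option autoImplicit false

/-! Glauberman's theorem: in a group `G` with `C_G(O_p(G)) ≤ O_p(G)` all of whose sections are
`p`-stable, the K-infinity subgroups of a Sylow `p`-subgroup are normal (helper10). -/

universe u

namespace Cfsg.Agent.Lib.Helper10.KI

open Cfsg.Agent.Lib.Helper13 Cfsg.Agent.Lib.Helper10.KF
open scoped commutatorElement

section Main

variable {p : ℕ} [Fact p.Prime]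

theorem inducedFunctor_map_subtype {G : Type u} [Group G] [Finite G]
    (W : ∀ (Q : Type u) [Group Q], Subgroup Q) (hW : Cfsg.IsCharPFunctor.{u} p W)
    (K : Subgroup G) (P' : Subgroup ↥K) (hP' : IsPGroup p ↥P') :
    (Cfsg.inducedFunctor (G := ↥K) W P').map K.subtype =
      Cfsg.inducedFunctor (G := G) W (P'.map K.subtype) := by
  unfold Cfsg.inducedFunctor
  have h1 := hW.2 ↥P' ↥(P'.map K.subtype) hP'
    (P'.equivMapOfInjective K.subtype K.subtype_injective)
  rw [← h1, Subgroup.map_map, Subgroup.map_map]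
  congr 1

set_option maxHeartbeats 1600000 in
theorem kinf_eq_of_nice : ∀ (n : ℕ) (G : Type u) [Group G] [Finite G], Nat.card G = n →
    Nice p G → ∀ S : Sylow p G,
      Cfsg.inducedFunctor (G := G) Cfsg.kInfLower (S : Subgroup G) =
        Cfsg.inducedFunctor (G := G) Cfsg.kInfLower (Cfsg.pCore p G) ∧
      Cfsg.inducedFunctor (G := G) Cfsg.kInfUpper (S : Subgroup G) =
        Cfsg.inducedFunctor (G := G) Cfsg.kInfUpper (Cfsg.pCore p G) := by
  intro n
  induction n using Nat.strong_induction_on with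
  | _ n IH =>
  intro G _ _ hcard h S
  haveI hTn : (Cfsg.pCore p G).Normal := Cfsg.Agent.Lib.Helper18.pCore_normal_h18 p G
  have hTp : IsPGroup p ↥(Cfsg.pCore p G) := Cfsg.Agent.Lib.Helper18.pCore_isPGroup p G
  obtain ⟨A, hAn, hAT, hATc, hCT⟩ := exists_critical_in (Cfsg.pCore p G) hTp
  have hCA := centralizer_le_pCore_of_critical h.1 A hAT hCT
  obtain ⟨Z, hZ⟩ : ∃ Z : Subgroup G, Z = A ⊓ Subgroup.centralizer (A : Set G) := ⟨_, rfl⟩
  have hZn : Z.Normal := by
    rw [hZ]
    infer_instance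
  have hZA : Z ≤ A := hZ ▸ inf_le_left
  have hZp : IsPGroup p ↥Z := hTp.to_le (hZA.trans hAT)
  have hZab : Z ≤ Subgroup.centralizer (Z : Set G) :=
    (hZ ▸ inf_le_right : Z ≤ Subgroup.centralizer (A : Set G)).trans (Subgroup.centralizer_le hZA)
  have hst1 := kinf_eq_stage1 (nice_nps h) S Z hZp hZab
  obtain ⟨K, hKdef⟩ : ∃ K : Subgroup G,
      K = (Cfsg.pCore p (G ⧸ Subgroup.centralizer (Z : Set G))).comap
        (QuotientGroup.mk' (Subgroup.centralizer (Z : Set G))) := ⟨_, rfl⟩
  rw [← hKdef] at hst1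
  have hcn : (Cfsg.pCore p (G ⧸ Subgroup.centralizer (Z : Set G))).Normal :=
    Cfsg.Agent.Lib.Helper18.pCore_normal_h18 p _
  have hKn : K.Normal := by
    rw [hKdef]
    infer_instance
  rw [inducedFunctor_kInfLower, inducedFunctor_kInfLower, inducedFunctor_kInfUpper,
    inducedFunctor_kInfUpper]
  by_cases hK : K = ⊤
  · have hq : IsPGroup p (G ⧸ Subgroup.centralizer (Z : Set G)) := by
      intro x
      obtain ⟨g, rfl⟩ := QuotientGroup.mk'_surjective _ x
      have hg : g ∈ K := by
        rw [hK]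
        trivial
      rw [hKdef, Subgroup.mem_comap] at hg
      obtain ⟨k, hk⟩ := (Cfsg.Agent.Lib.Helper18.pCore_isPGroup p _) ⟨_, hg⟩
      refine ⟨k, ?_⟩
      have hk' := congrArg Subtype.val hk
      simpa using hk'
    have hLS := sup_sylow_eq_top (Subgroup.centralizer (Z : Set G)) hq S
    rw [hZ] at hLS
    exact kinf_eq_of_sup_eq_top h.2 S A hAT hATc hCA hLS
  · have hlt : Nat.card ↥K < n := by
      rw [← hcard]
      apply lt_of_le_of_ne (Subgroup.card_le_card_group K)
      intro heq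
      exact hK (Subgroup.eq_top_of_card_eq K heq)
    have hKnice : Nice p ↥K := nice_normal_subgroup h K
    have IHK := IH _ hlt ↥K rfl hKnice (Cfsg.Agent.Lib.helper17.sylowInfNormal S K)
    have hTK : Cfsg.pCore p G ≤ K := by
      intro t ht
      rw [hKdef, Subgroup.mem_comap]
      have h1 : (Cfsg.pCore p G).map (QuotientGroup.mk' (Subgroup.centralizer (Z : Set G))) ≤
          Cfsg.pCore p (G ⧸ Subgroup.centralizer (Z : Set G)) :=
        Cfsg.Agent.Lib.Helper18.le_pCore
          (Subgroup.Normal.map hTn _ (QuotientGroup.mk'_surjective _)) (hTp.map _)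
      exact h1 ⟨t, ht, rfl⟩
    have hpc : (Cfsg.pCore p ↥K).map K.subtype = Cfsg.pCore p G := by
      apply le_antisymm (pCore_map_subtype_le K)
      intro t ht
      have h1 : (Cfsg.pCore p G).subgroupOf K ≤ Cfsg.pCore p ↥K :=
        Cfsg.Agent.Lib.Helper18.le_pCore inferInstance hTp.comap_subtype
      exact ⟨⟨t, hTK ht⟩, h1 (Subgroup.mem_subgroupOf.mpr ht), rfl⟩
    have hSKp : IsPGroup p ↥((Cfsg.Agent.Lib.helper17.sylowInfNormal S K : Sylow p ↥K) :
        Subgroup ↥K) := (Cfsg.Agent.Lib.helper17.sylowInfNormal S K).isPGroup'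
    have hcKp : IsPGroup p ↥(Cfsg.pCore p ↥K) := Cfsg.Agent.Lib.Helper18.pCore_isPGroup p _
    have e1 := congrArg (Subgroup.map K.subtype) IHK.1
    have e2 := congrArg (Subgroup.map K.subtype) IHK.2
    rw [inducedFunctor_map_subtype _ (isCharPFunctor_kInfLower p) K _ hSKp,
      inducedFunctor_map_subtype _ (isCharPFunctor_kInfLower p) K _ hcKp,
      Cfsg.Agent.Lib.helper17.sylowInfNormal_map, hpc, inducedFunctor_kInfLower,
      inducedFunctor_kInfLower] at e1
    rw [inducedFunctor_map_subtype _ (isCharPFunctor_kInfUpper p) K _ hSKp,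
      inducedFunctor_map_subtype _ (isCharPFunctor_kInfUpper p) K _ hcKp,
      Cfsg.Agent.Lib.helper17.sylowInfNormal_map, hpc, inducedFunctor_kInfUpper,
      inducedFunctor_kInfUpper] at e2
    exact ⟨hst1.1.trans e1, hst1.2.trans e2⟩

end Main

end Cfsg.Agent.Lib.Helper10.KI
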