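import Mathlib
import Cfsg.Agent.Lib.Helper10.KI6
import Cfsg.Agent.Lib.Helper10.KF8

set_option autoImplicit false

/-! The normal `p`-complement theorem for the lower K-infinity subgroup (helper10). -/

universe u

namespace Cfsg.Agent.Lib.Helper10.KI

open Cfsg
open Cfsg.Agent.Lib.Helper13 Cfsg.Agent.Lib.Helper10.KF

section Npc

variable {p : ℕ} [hp : Fact p.Prime]

/-- The lower K-infinity subgroup of a finite `p`-group contains its centralizer. -/
theorem centralizer_kInfLower_le (P : Type u) [Group P] [Finite P] (hP : IsPGroup p P) :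
    Subgroup.centralizer ((Cfsg.kInfLower P : Subgroup P) : Set P) ≤ Cfsg.kInfLower P := by
  obtain ⟨H, hHchar, -, hcomm, hcent⟩ := Cfsg.Agent.Lib.Helper1.exists_critical hP
  have hHn : H.Normal := inferInstance
  have hmem : H ∈ Cfsg.kLowerStarFamily (Cfsg.kSeqOdd P 0) := by
    refine ⟨?_, ?_, ?_⟩
    · exact ((Subgroup.commutator_mono le_rfl le_top).trans hcomm).trans inf_le_right
    · rw [Subgroup.normalizer_eq_top]
      exact le_top
    · intro X _ _ _ _ _
      exact (Subgroup.commutator_mono le_rfl le_top).trans hcomm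
  have hle : H ≤ Cfsg.kInfLower P :=
    (le_sSup hmem : H ≤ Cfsg.kSeqEven P 0).trans (le_iSup (fun n => Cfsg.kSeqEven P n) 0)
  exact ((Subgroup.centralizer_le hle).trans hcent).trans hle

theorem centralizer_inducedFunctor_kInfLower_le {X : Type u} [Group X]
    (T : Subgroup X) [Finite T] (hT : IsPGroup p T) :
    T ⊓ Subgroup.centralizer ((Cfsg.inducedFunctor (G := X) Cfsg.kInfLower T : Subgroup X) : Set X) ≤
      Cfsg.inducedFunctor (G := X) Cfsg.kInfLower T := by
  intro x hx
  obtain ⟨hxT, hxC⟩ := Subgroup.mem_inf.mp hx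
  unfold Cfsg.inducedFunctor at hxC ⊢
  refine ⟨⟨x, hxT⟩, ?_, rfl⟩
  apply centralizer_kInfLower_le ↥T hT
  rw [Subgroup.mem_centralizer_iff]
  intro k hk
  apply Subtype.ext
  simp only [Subgroup.coe_mul]
  exact Subgroup.mem_centralizer_iff.mp hxC (k : X) ⟨k, hk, rfl⟩

theorem sylow_le_normalizer_kInfLower {G : Type u} [Group G] [Finite G]
    {S : Subgroup G} (hS : IsPGroup p ↥S) :
    S ≤ Subgroup.normalizer ((Cfsg.inducedFunctor (G := G) Cfsg.kInfLower S : Subgroup G) : Set G) :=
  Subgroup.le_normalizer.trans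
    (normalizer_le_normalizer_functor
      (inducedFunctor_isConjugacyFunctor Cfsg.kInfLower (isCharPFunctor_kInfLower p)) hS)

set_option maxHeartbeats 1600000 in
theorem npc_of_kInfLower (hp2 : p ≠ 2) {G : Type u} [Group G] [Finite G] (S : Sylow p G)
    (h : Cfsg.HasNormalPComplement p ↥(Subgroup.normalizer
        ((Cfsg.inducedFunctor Cfsg.kInfLower (S : Subgroup G) : Subgroup G) : Set G)) ∨
      ∀ g ∈ Subgroup.normalizer
          ((Cfsg.inducedFunctor Cfsg.kInfLower (S : Subgroup G) : Subgroup G) : Set G),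
        (orderOf g).Coprime p → g ∈ Subgroup.centralizer
          ((Cfsg.inducedFunctor Cfsg.kInfLower (S : Subgroup G) : Subgroup G) : Set G)) :
    Cfsg.HasNormalPComplement p G := by
  have hN : HasNormalPComplement p ↥(Subgroup.normalizer
      ((Cfsg.inducedFunctor (G := G) Cfsg.kInfLower (S : Subgroup G) : Subgroup G) : Set G)) := by
    rcases h with h | h
    · exact h
    · exact npc_normalizer_of_aut_pgroup S _ (sylow_le_normalizer_kInfLower S.isPGroup')
        (centralizer_inducedFunctor_kInfLower_le (S : Subgroup G) S.isPGroup') h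
  refine Cfsg.Agent.S2005.result Cfsg.kInfLower (isCharPFunctor_kInfLower p) S hN ?_
  intro K R hR hc hq T hT
  have hnice : Nice p (↥K ⧸ R.subgroupOf K) := nice_of_coatom hp2 hc hq T hT
  have heq := (kinf_eq_of_nice _ (↥K ⧸ R.subgroupOf K) rfl hnice T).1
  rw [heq]
  haveI : (Cfsg.pCore p (↥K ⧸ R.subgroupOf K)).Normal :=
    Cfsg.Agent.Lib.Helper18.pCore_normal_h18 p _
  exact inducedFunctor_normal_of_normal _ (isCharPFunctor_kInfLower p) _
    (Cfsg.Agent.Lib.Helper18.pCore_isPGroup p _)

end Npc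

end Cfsg.Agent.Lib.Helper10.KI
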