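import Mathlib
import Cfsg.Agent.Lib.Helper10.KI2

set_option autoImplicit false

/-! Chief factors between two normal subgroups: an element either acts nontrivially on one of them
or lies in a normal subgroup acting as a `p`-group on the section (helper10). -/

universe u

namespace Cfsg.Agent.Lib.Helper10.KJ

open Cfsg.Agent.Lib.Helper13 Cfsg.Agent.Lib.Helper10.KI
open scoped commutatorElement

section Chief

variable {p : ℕ} [Fact p.Prime] {G : Type*} [Group G] [Finite G]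

omit [Fact p.Prime] in
theorem sectionKernel_normal (K N : Subgroup G) [hK : K.Normal] [hN : N.Normal] :
    (Cfsg.sectionKernel K N).Normal :=
  ⟨fun _ hz g => sectionKernel_conj_mem K N hz g⟩

omit [Fact p.Prime] in
/-- Relative two-step lemma: an element stabilizing `N₀ ≤ V ≤ N₁` has a power acting trivially on
`N₁ / N₀`. -/
theorem pow_card_mem_sectionKernel (N₀ V N₁ : Subgroup G) [hN₀ : N₀.Normal] [hV : V.Normal] (z : G)
    (hz1 : z ∈ Cfsg.sectionKernel V N₀) (hz2 : z ∈ Cfsg.sectionKernel N₁ V) :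
    z ^ Nat.card ↥(V.map (QuotientGroup.mk' N₀)) ∈ Cfsg.sectionKernel N₁ N₀ := by
  have h1 : (QuotientGroup.mk' N₀) z ∈
      Subgroup.centralizer ((V.map (QuotientGroup.mk' N₀) : Subgroup (G ⧸ N₀)) : Set (G ⧸ N₀)) := hz1
  have h2 : ∀ t ∈ N₁.map (QuotientGroup.mk' N₀),
      (QuotientGroup.mk' N₀) z * t * ((QuotientGroup.mk' N₀) z)⁻¹ * t⁻¹ ∈
        V.map (QuotientGroup.mk' N₀) := by
    rintro _ ⟨t, ht, rfl⟩
    refine ⟨z * t * z⁻¹ * t⁻¹, mem_sectionKernel_iff.mp hz2 t ht, ?_⟩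
    simp
  have h3 := pow_card_mem_centralizer_of_two_step (P₀ := N₁.map (QuotientGroup.mk' N₀))
    (Φ := V.map (QuotientGroup.mk' N₀)) _ h1 h2
  show (QuotientGroup.mk' N₀) (z ^ Nat.card ↥(V.map (QuotientGroup.mk' N₀))) ∈
    Subgroup.centralizer ((N₁.map (QuotientGroup.mk' N₀) : Subgroup (G ⧸ N₀)) : Set (G ⧸ N₀))
  rw [map_pow]
  exact h3

/-- Between two normal subgroups `N₀ ≤ N₁` (`N₁` a `p`-group), either `g` acts nontrivially on a
chief factor of `G` between them, or `g` lies in a normal subgroup all of whose elements have a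
`p`-power power acting trivially on `N₁ / N₀`. -/
theorem chief_or_stab (g : G) (N₀ : Subgroup G) [hN₀ : N₀.Normal] :
    ∀ (n : ℕ) (N₁ : Subgroup G) [N₁.Normal], N₀ ≤ N₁ → IsPGroup p ↥N₁ → Nat.card ↥N₁ ≤ n →
      (∃ U V : Subgroup G, Cfsg.IsChiefFactor U V ∧ N₀ ≤ V ∧ U ≤ N₁ ∧
        ¬ ⁅U, Subgroup.zpowers g⁆ ≤ V) ∨
      (∃ D : Subgroup G, D.Normal ∧ g ∈ D ∧
        ∀ y ∈ D, ∃ k : ℕ, y ^ (p ^ k) ∈ Cfsg.sectionKernel N₁ N₀) := by
  intro n
  induction n using Nat.strong_induction_on with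
  | _ n IH =>
  intro N₁ hN₁ hle hN₁p hcard
  by_cases heq : N₁ = N₀
  · right
    refine ⟨⊤, inferInstance, Subgroup.mem_top _, fun y _ => ⟨0, ?_⟩⟩
    rw [mem_sectionKernel_iff, heq]
    intro t ht
    exact Subgroup.mul_mem _ (hN₀.conj_mem t ht _) (Subgroup.inv_mem _ ht)
  · have hlt : N₀ < N₁ := lt_of_le_of_ne hle (Ne.symm heq)
    have hfin : {V : Subgroup G | V.Normal ∧ N₀ ≤ V ∧ V < N₁}.Finite := Set.toFinite _
    have hne : {V : Subgroup G | V.Normal ∧ N₀ ≤ V ∧ V < N₁}.Nonempty := ⟨N₀, hN₀, le_rfl, hlt⟩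
    obtain ⟨V, ⟨hVn, hN₀V, hVlt⟩, hVmax⟩ :=
      Set.exists_max_image _ (fun V : Subgroup G => Nat.card ↥V) hfin hne
    have hchief : Cfsg.IsChiefFactor N₁ V := by
      refine ⟨hVlt, hN₁, hVn, ?_⟩
      intro N hNn hVN hNN₁
      by_cases hN : N = N₁
      · exact Or.inr hN
      · left
        have h1 : Nat.card ↥N ≤ Nat.card ↥V :=
          hVmax N ⟨hNn, hN₀V.trans hVN, lt_of_le_of_ne hNN₁ hN⟩
        exact (Subgroup.eq_of_le_of_card_ge hVN h1).symm
    have hVcard : Nat.card ↥V < n := by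
      refine lt_of_lt_of_le ?_ hcard
      apply lt_of_le_of_ne (Subgroup.card_le_of_le hVlt.le)
      intro hc
      exact hVlt.ne (Subgroup.eq_of_le_of_card_ge hVlt.le hc.ge)
    rcases IH _ hVcard V hN₀V (hN₁p.to_le hVlt.le) le_rfl with
      ⟨U, V', hUV', hN₀V', hUV, hnon⟩ | ⟨D, hDn, hgD, hD⟩
    · exact Or.inl ⟨U, V', hUV', hN₀V', hUV.trans hVlt.le, hnon⟩
    · by_cases hg : ⁅N₁, Subgroup.zpowers g⁆ ≤ V
      · right
        have hsKn : (Cfsg.sectionKernel N₁ V).Normal := sectionKernel_normal N₁ V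
        have hgs : g ∈ Cfsg.sectionKernel N₁ V := by
          rw [mem_sectionKernel_iff]
          intro t ht
          have h1 : ⁅t, g⁆ ∈ ⁅N₁, Subgroup.zpowers g⁆ :=
            Subgroup.commutator_mem_commutator ht (Subgroup.mem_zpowers g)
          have h2 := Subgroup.inv_mem _ (hg h1)
          have e : (⁅t, g⁆)⁻¹ = g * t * g⁻¹ * t⁻¹ := by
            rw [commutatorElement_def]
            group
          rwa [e] at h2
        obtain ⟨m, hm⟩ := IsPGroup.iff_card.mp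
          ((hN₁p.to_le hVlt.le).map (QuotientGroup.mk' N₀))
        refine ⟨D ⊓ Cfsg.sectionKernel N₁ V, inferInstance, ⟨hgD, hgs⟩, ?_⟩
        intro y hy
        obtain ⟨k, hk⟩ := hD y hy.1
        have h1 : y ^ (p ^ k) ∈ Cfsg.sectionKernel N₁ V := Subgroup.pow_mem _ hy.2 _
        have h2 := pow_card_mem_sectionKernel N₀ V N₁ _ hk h1
        rw [hm, ← pow_mul, ← pow_add] at h2
        exact ⟨k + m, h2⟩
      · exact Or.inl ⟨N₁, V, hchief, hN₀V, le_rfl, hg⟩

end Chief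

end Cfsg.Agent.Lib.Helper10.KJ
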