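import Mathlib
import Cfsg.Agent.Lib.Helper13.ConjFamily
import Cfsg.Agent.S0623

set_option autoImplicit false

/-! A group-theoretic form of Clifford's theorem: an abelian minimal normal subgroup is a product
of minimal invariant subgroups for every subnormal subgroup of a suitable kind, so invariant
subgroups have invariant complements (helper10). -/

universe u

namespace Cfsg.Agent.Lib.Helper10.KJ

open Cfsg.Agent.Lib.Helper13
open scoped commutatorElement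

section Cliff

variable {Γ : Type*} [Group Γ]

/-- `W` is a minimal nontrivial `N`-invariant subgroup of `E`. -/
def MinInv (E N W : Subgroup Γ) : Prop :=
  W ≠ ⊥ ∧ W ≤ E ∧ N ≤ Subgroup.normalizer (W : Set Γ) ∧
    ∀ W' : Subgroup Γ, W' ≤ W → W' ≠ ⊥ → N ≤ Subgroup.normalizer (W' : Set Γ) → W' = W

/-- `E` is generated by its minimal `N`-invariant subgroups. -/
def FullSoc (E N : Subgroup Γ) : Prop := E ≤ sSup {W | MinInv E N W}

theorem le_normalizer_sup {N X Y : Subgroup Γ} (hX : N ≤ Subgroup.normalizer (X : Set Γ))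
    (hY : N ≤ Subgroup.normalizer (Y : Set Γ)) : N ≤ Subgroup.normalizer ((X ⊔ Y : Subgroup Γ) : Set Γ) := by
  intro n hn
  rw [mem_normalizer_iff_cj_eq, Subgroup.map_sup, mem_normalizer_iff_cj_eq.mp (hX hn),
    mem_normalizer_iff_cj_eq.mp (hY hn)]

theorem le_normalizer_inf {N X Y : Subgroup Γ} (hX : N ≤ Subgroup.normalizer (X : Set Γ))
    (hY : N ≤ Subgroup.normalizer (Y : Set Γ)) : N ≤ Subgroup.normalizer ((X ⊓ Y : Subgroup Γ) : Set Γ) := by
  intro n hn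
  rw [mem_normalizer_iff_cj_eq, Subgroup.map_inf _ _ _ (MulAut.conj n).injective,
    mem_normalizer_iff_cj_eq.mp (hX hn), mem_normalizer_iff_cj_eq.mp (hY hn)]

theorem minInv_cj {E N' X : Subgroup Γ} [hE : E.Normal] (hX : MinInv E N' X) {n : Γ}
    (hn : n ∈ Subgroup.normalizer (N' : Set Γ)) :
    MinInv E N' (X.map (MulAut.conj n).toMonoidHom) := by
  obtain ⟨hXne, hXE, hXN, hXmin⟩ := hX
  have hn' : n⁻¹ ∈ Subgroup.normalizer (N' : Set Γ) := Subgroup.inv_mem _ hn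
  have key : ∀ (m : Γ), m ∈ Subgroup.normalizer (N' : Set Γ) → ∀ Y : Subgroup Γ,
      N' ≤ Subgroup.normalizer (Y : Set Γ) →
      N' ≤ Subgroup.normalizer ((Y.map (MulAut.conj m).toMonoidHom : Subgroup Γ) : Set Γ) := by
    intro m hm Y hY
    rw [normalizer_cj, ← mem_normalizer_iff_cj_eq.mp hm]
    exact cj_mono hY
  refine ⟨?_, ?_, key n hn X hXN, ?_⟩
  · intro h
    exact hXne ((Subgroup.map_eq_bot_iff_of_injective _ (MulAut.conj n).injective).mp h)
  · rintro _ ⟨x, hx, rfl⟩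
    exact hE.conj_mem x (hXE hx) n
  · intro Y hY hYne hYN
    have h1 : Y.map (MulAut.conj n⁻¹).toMonoidHom ≤ X := by
      have := cj_mono (g := n⁻¹) hY
      rwa [cj_inv_cj] at this
    have h2 : Y.map (MulAut.conj n⁻¹).toMonoidHom ≠ ⊥ := by
      intro h
      exact hYne ((Subgroup.map_eq_bot_iff_of_injective _ (MulAut.conj n⁻¹).injective).mp h)
    have h3 := hXmin _ h1 h2 (key n⁻¹ hn' Y hYN)
    rw [← h3, cj_cj_inv]

variable [Finite Γ]

/-- Clifford: minimal invariant subgroups for `N` are generated by minimal invariant subgroups for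
a normal subgroup `N'` of `N`. -/
theorem fullSoc_of_normal {E N N' : Subgroup Γ} [hE : E.Normal] (hN'N : N' ≤ N)
    (hnorm : N ≤ Subgroup.normalizer (N' : Set Γ)) (h : FullSoc E N) : FullSoc E N' := by
  refine h.trans (sSup_le ?_)
  rintro W ⟨hWne, hWE, hWN, hWmin⟩
  have hfin : {X : Subgroup Γ | X ≠ ⊥ ∧ X ≤ W ∧ N' ≤ Subgroup.normalizer (X : Set Γ)}.Finite :=
    Set.toFinite _
  have hne : {X : Subgroup Γ | X ≠ ⊥ ∧ X ≤ W ∧ N' ≤ Subgroup.normalizer (X : Set Γ)}.Nonempty :=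
    ⟨W, hWne, le_rfl, hN'N.trans hWN⟩
  obtain ⟨W₀, ⟨hW₀ne, hW₀W, hW₀N⟩, hW₀min⟩ :=
    Set.exists_min_image _ (fun X : Subgroup Γ => Nat.card ↥X) hfin hne
  have hW₀ : MinInv E N' W₀ := by
    refine ⟨hW₀ne, hW₀W.trans hWE, hW₀N, ?_⟩
    intro X hXW₀ hXne hXN
    exact Subgroup.eq_of_le_of_card_ge hXW₀ (hW₀min X ⟨hXne, hXW₀.trans hW₀W, hXN⟩)
  obtain ⟨W₁, hW₁⟩ : ∃ W₁ : Subgroup Γ,
      W₁ = ⨆ n : ↥N, W₀.map (MulAut.conj (n : Γ)).toMonoidHom := ⟨_, rfl⟩
  have h1 : W₁ ≤ W := by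
    rw [hW₁]
    apply iSup_le
    intro n
    have := cj_mono (g := (n : Γ)) hW₀W
    rwa [mem_normalizer_iff_cj_eq.mp (hWN n.2)] at this
  have h2 : W₁ ≠ ⊥ := by
    intro hb
    apply hW₀ne
    rw [eq_bot_iff, ← hb, hW₁]
    have := le_iSup (fun n : ↥N => W₀.map (MulAut.conj (n : Γ)).toMonoidHom) ⟨1, N.one_mem⟩
    simp only [cj_one] at this
    exact this
  have h3 : N ≤ Subgroup.normalizer (W₁ : Set Γ) := by
    intro m hm
    apply mem_normalizer_of_cj_le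
    rw [hW₁, Subgroup.map_iSup]
    apply iSup_le
    intro n
    rw [cj_cj]
    exact le_iSup (fun n : ↥N => W₀.map (MulAut.conj (n : Γ)).toMonoidHom)
      ⟨m * n, N.mul_mem hm n.2⟩
  have h4 : W₁ = W := hWmin W₁ h1 h2 h3
  rw [← h4, hW₁]
  apply iSup_le
  intro n
  exact le_sSup (minInv_cj hW₀ (hnorm n.2))

/-- If `E` is generated by minimal `N`-invariant subgroups, every `N`-invariant subgroup of `E`
(`E` abelian) has an `N`-invariant complement. -/
theorem exists_compl_of_fullSoc {E N U : Subgroup Γ}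
    (hEc : E ≤ Subgroup.centralizer (E : Set Γ)) (h : FullSoc E N) (hUE : U ≤ E)
    (hUN : N ≤ Subgroup.normalizer (U : Set Γ)) :
    ∃ U' : Subgroup Γ, U' ≤ E ∧ N ≤ Subgroup.normalizer (U' : Set Γ) ∧ U ⊓ U' = ⊥ ∧
      E ≤ U ⊔ U' := by
  have hfin : {X : Subgroup Γ | X ≤ E ∧ N ≤ Subgroup.normalizer (X : Set Γ) ∧ U ⊓ X = ⊥}.Finite :=
    Set.toFinite _
  have hne : {X : Subgroup Γ | X ≤ E ∧ N ≤ Subgroup.normalizer (X : Set Γ) ∧ U ⊓ X = ⊥}.Nonempty := by
    refine ⟨⊥, bot_le, ?_, inf_bot_eq _⟩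
    rw [Subgroup.normalizer_eq_top]
    exact le_top
  obtain ⟨U', ⟨hU'E, hU'N, hUU'⟩, hU'max⟩ :=
    Set.exists_max_image _ (fun X : Subgroup Γ => Nat.card ↥X) hfin hne
  refine ⟨U', hU'E, hU'N, hUU', ?_⟩
  refine h.trans (sSup_le ?_)
  rintro W ⟨hWne, hWE, hWN, hWmin⟩
  by_contra hnot
  -- `W ⊓ (U ⊔ U')` is trivial
  have hY : W ⊓ (U ⊔ U') = ⊥ := by
    by_contra hYne
    have := hWmin (W ⊓ (U ⊔ U')) inf_le_left hYne
      (le_normalizer_inf hWN (le_normalizer_sup hUN hU'N))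
    exact hnot (this ▸ inf_le_right)
  -- `U' ⊔ W` is a bigger candidate
  have hWU' : W ≤ Subgroup.normalizer (U' : Set Γ) := by
    intro w hw
    apply mem_normalizer_of_cj_le
    rintro _ ⟨u, hu, rfl⟩
    have := Subgroup.mem_centralizer_iff.mp (hEc (hWE hw)) u (hU'E hu)
    show w * u * w⁻¹ ∈ U'
    rw [← this]
    simpa using hu
  have hcand : U ⊓ (U' ⊔ W) = ⊥ := by
    rw [eq_bot_iff]
    rintro u ⟨huU, huUW⟩
    rw [sup_comm] at huUW
    have huUW' : u ∈ ((W ⊔ U' : Subgroup Γ) : Set Γ) := huUW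
    rw [Subgroup.coe_mul_of_left_le_normalizer_right W U' hWU'] at huUW'
    obtain ⟨w, hw, u', hu', rfl⟩ := huUW'
    change w * u' ∈ U at huU
    show w * u' ∈ (⊥ : Subgroup Γ)
    have hwY : w ∈ W ⊓ (U ⊔ U') := by
      refine ⟨hw, ?_⟩
      have e : w = (w * u') * u'⁻¹ := by group
      rw [e]
      exact Subgroup.mul_mem _ (Subgroup.mem_sup_left huU)
        (Subgroup.mem_sup_right (Subgroup.inv_mem _ hu'))
    rw [hY, Subgroup.mem_bot] at hwY
    rw [hwY, one_mul] at huU ⊢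
    have : u' ∈ U ⊓ U' := ⟨huU, hu'⟩
    rw [hUU'] at this
    exact this
  have hle := hU'max (U' ⊔ W) ⟨sup_le hU'E hWE, le_normalizer_sup hU'N hWN, hcand⟩
  have heq : U' = U' ⊔ W := Subgroup.eq_of_le_of_card_ge le_sup_left hle
  apply hnot
  calc W ≤ U' ⊔ W := le_sup_right
    _ = U' := heq.symm
    _ ≤ U ⊔ U' := le_sup_right

/-- A minimal normal subgroup is generated by minimal invariant subgroups for the whole group. -/
theorem fullSoc_top {E : Subgroup Γ} [hE : E.Normal] (hEne : E ≠ ⊥)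
    (hEmin : ∀ M : Subgroup Γ, M.Normal → M ≤ E → M = ⊥ ∨ M = E) : FullSoc E ⊤ := by
  apply le_sSup
  refine ⟨hEne, le_rfl, ?_, ?_⟩
  · rw [Subgroup.normalizer_eq_top]
  · intro W' hW'E hW'ne hW'N
    have hn : W'.Normal := Subgroup.normalizer_eq_top_iff.mp (top_le_iff.mp hW'N)
    rcases hEmin W' hn hW'E with h | h
    · exact absurd h hW'ne
    · exact h

/-- The chain argument: `E` is generated by minimal invariant subgroups for `L P₀`, for every
subgroup `P₀` of the `p`-group `P`, when this holds for `L P` (`L` normal). -/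
theorem fullSoc_chain {p : ℕ} [Fact p.Prime] {E L P : Subgroup Γ} [hE : E.Normal] [hL : L.Normal]
    (hP : IsPGroup p ↥P) (htop : FullSoc E (L ⊔ P)) :
    ∀ (n : ℕ) (P₀ : Subgroup Γ), P₀ ≤ P → Nat.card ↥P - Nat.card ↥P₀ ≤ n →
      FullSoc E (L ⊔ P₀) := by
  intro n
  induction n using Nat.strong_induction_on with
  | _ n IH =>
  intro P₀ hP₀P hcard
  by_cases heq : P₀ = P
  · rw [heq]
    exact htop
  · have hlt := card_lt_card_inf_normalizer hP hP₀P heq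
    obtain ⟨P₁, hP₁⟩ : ∃ P₁ : Subgroup Γ, P₁ = P ⊓ Subgroup.normalizer (P₀ : Set Γ) := ⟨_, rfl⟩
    rw [← hP₁] at hlt
    have hP₁P : P₁ ≤ P := hP₁ ▸ inf_le_left
    have hP₁N : P₁ ≤ Subgroup.normalizer (P₀ : Set Γ) := hP₁ ▸ inf_le_right
    have hP₀P₁ : P₀ ≤ P₁ := hP₁ ▸ le_inf hP₀P Subgroup.le_normalizer
    have hc1 : Nat.card ↥P₁ ≤ Nat.card ↥P := Subgroup.card_le_of_le hP₁P
    have h1 : FullSoc E (L ⊔ P₁) := IH (Nat.card ↥P - Nat.card ↥P₁) (by omega) P₁ hP₁P le_rfl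
    apply fullSoc_of_normal (sup_le_sup_left hP₀P₁ L) _ h1
    apply sup_le
    · intro l hl
      apply mem_normalizer_of_cj_le
      rw [Subgroup.map_sup]
      apply sup_le
      · rintro _ ⟨x, hx, rfl⟩
        exact Subgroup.mem_sup_left (hL.conj_mem x hx l)
      · rintro _ ⟨x, hx, rfl⟩
        have e : (MulAut.conj l).toMonoidHom x = (l * (x * l⁻¹ * x⁻¹)) * x := by
          show l * x * l⁻¹ = _
          group
        rw [e]
        exact Subgroup.mul_mem _ (Subgroup.mem_sup_left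
          (L.mul_mem hl (hL.conj_mem _ (L.inv_mem hl) x))) (Subgroup.mem_sup_right hx)
    · apply le_normalizer_sup _ hP₁N
      rw [Subgroup.normalizer_eq_top]
      exact le_top

/-- An element of `M` acting quadratically on an `M`-invariant subgroup `W` of the abelian normal
subgroup `E` and on `E / W` acts quadratically on `E`, when `E` is generated by minimal
`M`-invariant subgroups. -/
theorem quad_of_fullSoc {E M W : Subgroup Γ} [hE : E.Normal]
    (hEc : E ≤ Subgroup.centralizer (E : Set Γ)) (hFS : FullSoc E M) (hWE : W ≤ E)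
    (hWM : M ≤ Subgroup.normalizer (W : Set Γ)) (b : Γ) (hb : b ∈ M)
    (h1 : ⁅⁅E, Subgroup.zpowers b⁆, Subgroup.zpowers b⁆ ≤ W)
    (h2 : ⁅⁅W, Subgroup.zpowers b⁆, Subgroup.zpowers b⁆ = ⊥) :
    ⁅⁅E, Subgroup.zpowers b⁆, Subgroup.zpowers b⁆ = ⊥ := by
  obtain ⟨W', hW'E, hW'M, hWW', hEWW'⟩ := exists_compl_of_fullSoc hEc hFS hWE hWM
  rw [Cfsg.Agent.S0623.quad_iff] at h2 ⊢
  intro e he i
  have he' : e ∈ ((W ⊔ W' : Subgroup Γ) : Set Γ) := hEWW' he
  have hWW'n : W ≤ Subgroup.normalizer (W' : Set Γ) := by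
    intro w hw
    apply mem_normalizer_of_cj_le
    rintro _ ⟨u, hu, rfl⟩
    have := Subgroup.mem_centralizer_iff.mp (hEc (hWE hw)) u (hW'E hu)
    show w * u * w⁻¹ ∈ W'
    rw [← this]
    simpa using hu
  rw [Subgroup.coe_mul_of_left_le_normalizer_right W W' hWW'n] at he'
  obtain ⟨w, hw, w', hw', rfl⟩ := he'
  change w ∈ W at hw
  change w' ∈ W' at hw'
  -- the commutator splits
  have hcE : ⁅w', b ^ i⁆ ∈ E := by
    rw [commutatorElement_def]
    have h3 : b ^ i * w'⁻¹ * (b ^ i)⁻¹ ∈ E := hE.conj_mem _ (E.inv_mem (hW'E hw')) _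
    have e : w' * b ^ i * w'⁻¹ * (b ^ i)⁻¹ = w' * (b ^ i * w'⁻¹ * (b ^ i)⁻¹) := by group
    rw [e]
    exact E.mul_mem (hW'E hw') h3
  have hsplit : ⁅w * w', b ^ i⁆ = ⁅w', b ^ i⁆ * ⁅w, b ^ i⁆ := by
    have hc := Subgroup.mem_centralizer_iff.mp (hEc (hWE hw)) _ hcE
    rw [commutatorElement_def, commutatorElement_def] at *
    calc w * w' * b ^ i * (w * w')⁻¹ * (b ^ i)⁻¹
        = (w * (w' * b ^ i * w'⁻¹ * (b ^ i)⁻¹)) * (b ^ i * w⁻¹ * (b ^ i)⁻¹) := by group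
      _ = ((w' * b ^ i * w'⁻¹ * (b ^ i)⁻¹) * w) * (b ^ i * w⁻¹ * (b ^ i)⁻¹) := by rw [hc]
      _ = w' * b ^ i * w'⁻¹ * (b ^ i)⁻¹ * (w * b ^ i * w⁻¹ * (b ^ i)⁻¹) := by group
  rw [hsplit]
  apply Commute.mul_left _ (h2 w hw i)
  -- the `W'` part
  have hbiN : b ^ i ∈ Subgroup.normalizer (W' : Set Γ) := hW'M (M.zpow_mem hb i)
  have hx' : ⁅w', b ^ i⁆ ∈ W' := by
    rw [commutatorElement_def]
    have h3 : b ^ i * w'⁻¹ * (b ^ i)⁻¹ ∈ W' :=
      (Subgroup.mem_normalizer_iff.mp hbiN _).mp (W'.inv_mem hw')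
    have e : w' * b ^ i * w'⁻¹ * (b ^ i)⁻¹ = w' * (b ^ i * w'⁻¹ * (b ^ i)⁻¹) := by group
    rw [e]
    exact W'.mul_mem hw' h3
  have hcomm : ⁅⁅w', b ^ i⁆, b⁆ ∈ W ⊓ W' := by
    constructor
    · apply h1
      exact Subgroup.commutator_mem_commutator
        (Subgroup.commutator_mem_commutator (hW'E hw') (Subgroup.zpow_mem_zpowers b i))
        (Subgroup.mem_zpowers b)
    · rw [commutatorElement_def]
      have h3 : b * (⁅w', b ^ i⁆)⁻¹ * b⁻¹ ∈ W' :=
        (Subgroup.mem_normalizer_iff.mp (hW'M hb) _).mp (W'.inv_mem hx')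
      have e : ⁅w', b ^ i⁆ * b * (⁅w', b ^ i⁆)⁻¹ * b⁻¹ =
          ⁅w', b ^ i⁆ * (b * (⁅w', b ^ i⁆)⁻¹ * b⁻¹) := by group
      rw [e]
      exact W'.mul_mem hx' h3
  rw [hWW', Subgroup.mem_bot] at hcomm
  exact (commutatorElement_eq_one_iff_commute.mp hcomm)

end Cliff

end Cfsg.Agent.Lib.Helper10.KJ
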