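import Mathlib
import Cfsg.Agent.Lib.Helper10.KI4

set_option autoImplicit false

/-! Structure of a member of the lower star family relative to a normal critical subgroup, without
stability hypotheses (helper10). -/

universe u

namespace Cfsg.Agent.Lib.Helper10.KJ

open Cfsg.Agent.Lib.Helper13 Cfsg.Agent.Lib.Helper10.KI
open scoped commutatorElement

section Low

variable {p : ℕ} [Fact p.Prime] {G : Type u} [Group G] [Finite G]

set_option maxHeartbeats 1600000 in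
/-- A member `B` of the lower star family of `S` relative to `R ⊇ A` acts quadratically on
`Z(A)`, on a subgroup `AB` of `A`, and on `A / AB`, where `AB` is normalized by `C_G(Z(A))` and by
`N_G(B)`. -/
theorem lowIn_struct (S : Sylow p G) (A : Subgroup G) [hAn : A.Normal]
    (hATc : ⁅A, Cfsg.pCore p G⁆ ≤ A ⊓ Subgroup.centralizer (A : Set G))
    (hquadT : ∀ X : Subgroup G, X ≤ (S : Subgroup G) → ⁅⁅A, X⁆, X⁆ = ⊥ → X ≤ Cfsg.pCore p G)
    (R : Subgroup G) (hAR : A ≤ R) (B : Subgroup G)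
    (hB : B ∈ lowIn (S : Subgroup G) R) :
    ⁅⁅A ⊓ Subgroup.centralizer (A : Set G), B⁆, B⁆ = ⊥ ∧
    ∃ AB : Subgroup G, AB ≤ A ∧ ⁅⁅AB, B⁆, B⁆ = ⊥ ∧ ⁅⁅A, B⁆, B⁆ ≤ AB ∧
      Subgroup.centralizer ((A ⊓ Subgroup.centralizer (A : Set G) : Subgroup G) : Set G) ≤
        Subgroup.normalizer (AB : Set G) ∧
      Subgroup.normalizer (B : Set G) ≤ Subgroup.normalizer (AB : Set G) := by
  obtain ⟨⟨hB2, hRB, hBcond⟩, hBS⟩ := hB
  obtain ⟨Z, hZ⟩ : ∃ Z : Subgroup G, Z = A ⊓ Subgroup.centralizer (A : Set G) := ⟨_, rfl⟩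
  obtain ⟨zB, hzB⟩ : ∃ zB : Subgroup G, zB = B ⊓ Subgroup.centralizer (B : Set G) := ⟨_, rfl⟩
  obtain ⟨L, hL⟩ : ∃ L : Subgroup G, L = Subgroup.centralizer (Z : Set G) := ⟨_, rfl⟩
  rw [← hZ] at hATc ⊢
  rw [← hL]
  rw [← hzB] at hBcond
  have hZn : Z.Normal := by
    rw [hZ]
    infer_instance
  have hZA : Z ≤ A := hZ ▸ inf_le_left
  have hZCA : Z ≤ Subgroup.centralizer (A : Set G) := hZ ▸ inf_le_right
  have hZZ : ⁅Z, Z⁆ = ⊥ := by
    rw [Subgroup.commutator_eq_bot_iff_le_centralizer]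
    exact hZCA.trans (Subgroup.centralizer_le hZA)
  have hZ2 : Z ∈ Cfsg.classTwoSubgroups G := by
    show ⁅Z, Z⁆ ≤ _
    rw [hZZ]
    exact bot_le
  have hzBB : zB ≤ B := hzB ▸ inf_le_left
  have hzBC : zB ≤ Subgroup.centralizer (B : Set G) := hzB ▸ inf_le_right
  have hZAbot : ⁅Z, A⁆ = ⊥ := Subgroup.commutator_eq_bot_iff_le_centralizer.mpr hZCA
  -- (1) `B` is quadratic on `Z`
  have hBZ : ⁅B, Z⁆ ≤ zB := by
    apply hBcond Z hZ2 (hZA.trans hAR)
    · rw [Subgroup.normalizer_eq_top]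
      exact le_top
    · rw [hZZ, Subgroup.commutator_bot_right]
    · exact le_bot_iff.mp ((Subgroup.commutator_mono (Subgroup.commutator_le_right _ Z) le_rfl).trans
        hZZ.le)
  have hquadZ : ⁅⁅Z, B⁆, B⁆ = ⊥ := by
    rw [hzB] at hBZ
    exact quadratic_of_commutator_le_zIn hBZ
  refine ⟨hquadZ, ?_⟩
  -- (2) `A` normalizes `B` and its centre
  have hAB : A ≤ Subgroup.normalizer (B : Set G) := hAR.trans hRB
  have hABc : ⁅A, B⁆ ≤ B := Subgroup.le_normalizer_iff_commutator_le_right.mp hAB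
  have hABA : ⁅A, B⁆ ≤ A := Subgroup.commutator_le_left A B
  have hconjzB : ∀ g ∈ Subgroup.normalizer (B : Set G), ∀ x ∈ zB, g * x * g⁻¹ ∈ zB := by
    intro g hg x hx
    rw [hzB] at hx ⊢
    exact ⟨(Subgroup.mem_normalizer_iff.mp hg x).mp hx.1,
      conj_mem_centralizer_of_mem_normalizer hg hx.2⟩
  have hAzB : ⁅A, zB⁆ ≤ zB := by
    rw [Subgroup.commutator_le]
    intro a ha x hx
    have h1 := hconjzB a (hAB ha) x hx
    rw [commutatorElement_def]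
    exact Subgroup.mul_mem _ h1 (Subgroup.inv_mem _ hx)
  have hzBzB : ⁅zB, zB⁆ = ⊥ := by
    rw [Subgroup.commutator_eq_bot_iff_le_centralizer]
    exact hzBC.trans (Subgroup.centralizer_le hzBB)
  -- (3) the centre of `B` lies in `O_p`
  have hzBT : zB ≤ Cfsg.pCore p G := by
    apply hquadT zB (hzBB.trans hBS)
    exact le_bot_iff.mp ((Subgroup.commutator_mono hAzB le_rfl).trans hzBzB.le)
  have hzBA : ⁅zB, A⁆ ≤ Z ⊓ zB := by
    rw [Subgroup.commutator_comm]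
    exact le_inf ((Subgroup.commutator_mono le_rfl hzBT).trans hATc) hAzB
  -- (4) the subgroup `AB`
  obtain ⟨C₀, hC₀def⟩ : ∃ C₀ : Subgroup G, C₀ = Z ⊓ Subgroup.centralizer (B : Set G) := ⟨_, rfl⟩
  have hC₀Z : C₀ ≤ Z := hC₀def ▸ inf_le_left
  have hC₀B : C₀ ≤ Subgroup.centralizer (B : Set G) := hC₀def ▸ inf_le_right
  have hC₀ : C₀ ≤ A ⊓ Subgroup.centralizer (A : Set G) := hZ ▸ hC₀Z
  obtain ⟨AB, hABdef⟩ : ∃ AB : Subgroup G, AB = csub A C₀ hC₀ := ⟨_, rfl⟩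
  have hABle : AB ≤ A := hABdef ▸ csub_le A C₀ hC₀
  have hABcomm : ⁅AB, A⁆ ≤ C₀ := hABdef ▸ commutator_csub_le A C₀ hC₀
  have hconjC₀N : ∀ g ∈ Subgroup.normalizer (B : Set G), ∀ c ∈ C₀, g * c * g⁻¹ ∈ C₀ := by
    intro g hg c hc
    rw [hC₀def] at hc ⊢
    exact ⟨hZn.conj_mem c hc.1 g, conj_mem_centralizer_of_mem_normalizer hg hc.2⟩
  have hconjC₀L : ∀ g ∈ L, ∀ c ∈ C₀, g * c * g⁻¹ ∈ C₀ := by
    intro g hg c hc
    rw [hL] at hg
    have := Subgroup.mem_centralizer_iff.mp hg c (hC₀Z hc)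
    have e : g * c * g⁻¹ = c := by
      rw [← this]
      group
    rw [e]
    exact hc
  have hNAB : ∀ g : G, (∀ c ∈ C₀, g * c * g⁻¹ ∈ C₀) →
      g ∈ Subgroup.normalizer (AB : Set G) := by
    intro g hg
    apply mem_normalizer_of_cj_le
    rintro _ ⟨x, hx, rfl⟩
    rw [hABdef] at hx ⊢
    exact csub_conj_mem hC₀ hg hx
  have hBNAB : B ≤ Subgroup.normalizer (AB : Set G) :=
    fun b hb => hNAB b (hconjC₀N b (Subgroup.le_normalizer hb))
  have hAB2 : AB ∈ Cfsg.classTwoSubgroups G := by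
    show ⁅AB, AB⁆ ≤ _
    exact ((Subgroup.commutator_mono le_rfl hABle).trans hABcomm).trans
      ((hC₀Z.trans hZCA).trans (Subgroup.centralizer_le hABle))
  have hBAB : ⁅B, AB⁆ ≤ zB := by
    apply hBcond AB hAB2 (hABle.trans hAR) hBNAB
    · rw [Subgroup.commutator_comm, Subgroup.commutator_eq_bot_iff_le_centralizer]
      exact ((Subgroup.commutator_mono le_rfl hABle).trans hABcomm).trans hC₀B
    · have h1 : ⁅zB, AB⁆ ≤ Z := (Subgroup.commutator_mono le_rfl hABle).trans (hzBA.trans inf_le_left)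
      exact le_bot_iff.mp ((Subgroup.commutator_mono h1 hABle).trans hZAbot.le)
  have hquadAB : ⁅⁅AB, B⁆, B⁆ = ⊥ := by
    rw [hzB] at hBAB
    exact quadratic_of_commutator_le_zIn hBAB
  -- (5) `B` is quadratic on `A / AB`
  have hquadA : ⁅⁅A, B⁆, B⁆ ≤ AB := by
    have h1 : ⁅⁅A, B⁆, B⁆ ≤ A :=
      (Subgroup.commutator_mono hABA le_rfl).trans (Subgroup.commutator_le_left A B)
    have h2 : ⁅⁅A, B⁆, B⁆ ≤ ⁅B, B⁆ := Subgroup.commutator_mono hABc le_rfl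
    have h3 : ⁅B, B⁆ ≤ zB := by
      rw [hzB]
      exact le_inf (Subgroup.commutator_le.mpr (fun a ha b hb =>
        B.mul_mem (B.mul_mem (B.mul_mem ha hb) (B.inv_mem ha)) (B.inv_mem hb))) hB2
    intro x hx
    rw [hABdef]
    refine ⟨h1 hx, fun a' ha' => ?_⟩
    have h4 : ⁅x, a'⁆ ∈ ⁅zB, A⁆ := Subgroup.commutator_mem_commutator (h3 (h2 hx)) ha'
    have h5 := hzBA h4
    rw [commutatorElement_def] at h5
    rw [hC₀def]
    exact ⟨h5.1, hzBC h5.2⟩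
  exact ⟨AB, hABle, hquadAB, hquadA, fun l hl => hNAB l (hconjC₀L l hl),
    fun s hs => hNAB s (hconjC₀N s hs)⟩

end Low

end Cfsg.Agent.Lib.Helper10.KJ
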