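import Mathlib
import Cfsg.Agent.Lib.Helper10.KJ2
import Cfsg.Agent.Lib.Helper13.EngC

set_option autoImplicit false

/-! Application of Clifford's theorem to a chief factor: quadratic action on the two factors of a
series invariant under a subnormal subgroup gives quadratic action on the chief factor
(helper10). -/

universe u

namespace Cfsg.Agent.Lib.Helper10.KJ

open Cfsg.Agent.Lib.Helper13
open scoped commutatorElement

section App

variable {p : ℕ} [Fact p.Prime] {G : Type*} [Group G] [Finite G]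

set_option maxHeartbeats 1600000 in
theorem quad_chief_of_series (S : Sylow p G) (U V : Subgroup G) (hUV : Cfsg.IsChiefFactor U V)
    (hUab : ⁅U, U⁆ ≤ V) (L K N₀ AB : Subgroup G) [hLn : L.Normal] [hKn : K.Normal]
    (hK : L ⊔ ((S : Subgroup G) ⊓ K) = K)
    (hLAB : L ≤ Subgroup.normalizer (AB : Set G)) (hNAB : N₀ ≤ Subgroup.normalizer (AB : Set G))
    (b : G) (hbS : b ∈ (S : Subgroup G)) (hbK : b ∈ K) (hbN : b ∈ N₀)
    (h1 : ⁅⁅U, Subgroup.zpowers b⁆, Subgroup.zpowers b⁆ ≤ AB)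
    (h2 : ⁅⁅AB, Subgroup.zpowers b⁆, Subgroup.zpowers b⁆ = ⊥) :
    ⁅⁅U, Subgroup.zpowers b⁆, Subgroup.zpowers b⁆ ≤ V := by
  have hUn : U.Normal := hUV.2.1
  have hVn : V.Normal := hUV.2.2.1
  have hsurj := QuotientGroup.mk'_surjective V
  obtain ⟨E, hE⟩ : ∃ E : Subgroup (G ⧸ V), E = U.map (QuotientGroup.mk' V) := ⟨_, rfl⟩
  have hEn : E.Normal := hE ▸ Subgroup.Normal.map hUn _ hsurj
  obtain ⟨hEne, hEmin⟩ := chief_map_min U V hUV
  rw [← hE] at hEne hEmin
  have hEc : E ≤ Subgroup.centralizer (E : Set (G ⧸ V)) := by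
    rw [← Subgroup.commutator_eq_bot_iff_le_centralizer, hE, ← Subgroup.map_commutator, eq_bot_iff]
    calc (⁅U, U⁆).map (QuotientGroup.mk' V) ≤ V.map (QuotientGroup.mk' V) := Subgroup.map_mono hUab
      _ = ⊥ := QuotientGroup.map_mk'_self V
  have hLbn : (L.map (QuotientGroup.mk' V)).Normal := Subgroup.Normal.map hLn _ hsurj
  have hKbn : (K.map (QuotientGroup.mk' V)).Normal := Subgroup.Normal.map hKn _ hsurj
  have hPp : IsPGroup p ↥(((S : Subgroup G) ⊓ K).map (QuotientGroup.mk' V)) :=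
    (S.isPGroup'.to_le inf_le_left).map _
  have htop : FullSoc E (L.map (QuotientGroup.mk' V) ⊔
      ((S : Subgroup G) ⊓ K).map (QuotientGroup.mk' V)) := by
    rw [← Subgroup.map_sup, hK]
    apply fullSoc_of_normal le_top _ (fullSoc_top hEne hEmin)
    rw [Subgroup.normalizer_eq_top]
  have hchain := fullSoc_chain hPp htop _
    (((S : Subgroup G) ⊓ K ⊓ N₀).map (QuotientGroup.mk' V)) (Subgroup.map_mono inf_le_left) le_rfl
  obtain ⟨M, hM⟩ : ∃ M : Subgroup (G ⧸ V), M = L.map (QuotientGroup.mk' V) ⊔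
      ((S : Subgroup G) ⊓ K ⊓ N₀).map (QuotientGroup.mk' V) := ⟨_, rfl⟩
  rw [← hM] at hchain
  have hUABn : L ⊔ ((S : Subgroup G) ⊓ K ⊓ N₀) ≤ Subgroup.normalizer ((U ⊓ AB : Subgroup G) : Set G) := by
    apply le_normalizer_inf
    · rw [Subgroup.normalizer_eq_top]
      exact le_top
    · exact sup_le hLAB (inf_le_right.trans hNAB)
  have hWM : M ≤ Subgroup.normalizer (((U ⊓ AB).map (QuotientGroup.mk' V) : Subgroup (G ⧸ V)) :
      Set (G ⧸ V)) := by
    rw [hM, ← Subgroup.map_sup]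
    exact (Subgroup.map_mono hUABn).trans (Subgroup.le_normalizer_map _)
  have hbM : (QuotientGroup.mk' V) b ∈ M := by
    rw [hM]
    exact Subgroup.mem_sup_right ⟨b, ⟨⟨hbS, hbK⟩, hbN⟩, rfl⟩
  have hzp : Subgroup.zpowers ((QuotientGroup.mk' V) b) =
      (Subgroup.zpowers b).map (QuotientGroup.mk' V) := (MonoidHom.map_zpowers _ b).symm
  have hUbb : ⁅⁅U, Subgroup.zpowers b⁆, Subgroup.zpowers b⁆ ≤ U :=
    (Subgroup.commutator_mono (Subgroup.commutator_le_left U _) le_rfl).trans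
      (Subgroup.commutator_le_left U _)
  have h1' : ⁅⁅E, Subgroup.zpowers ((QuotientGroup.mk' V) b)⁆,
      Subgroup.zpowers ((QuotientGroup.mk' V) b)⁆ ≤ (U ⊓ AB).map (QuotientGroup.mk' V) := by
    rw [hE, hzp, ← Subgroup.map_commutator, ← Subgroup.map_commutator]
    exact Subgroup.map_mono (le_inf hUbb h1)
  have h2' : ⁅⁅(U ⊓ AB).map (QuotientGroup.mk' V), Subgroup.zpowers ((QuotientGroup.mk' V) b)⁆,
      Subgroup.zpowers ((QuotientGroup.mk' V) b)⁆ = ⊥ := by
    rw [hzp, ← Subgroup.map_commutator, ← Subgroup.map_commutator, eq_bot_iff]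
    calc (⁅⁅U ⊓ AB, Subgroup.zpowers b⁆, Subgroup.zpowers b⁆).map (QuotientGroup.mk' V)
        ≤ (⁅⁅AB, Subgroup.zpowers b⁆, Subgroup.zpowers b⁆).map (QuotientGroup.mk' V) :=
          Subgroup.map_mono (Subgroup.commutator_mono (Subgroup.commutator_mono inf_le_right le_rfl)
            le_rfl)
      _ = ⊥ := by rw [h2, Subgroup.map_bot]
  have hfin := quad_of_fullSoc hEc hchain (hE ▸ Subgroup.map_mono inf_le_left) hWM _ hbM h1' h2'
  rw [hE, hzp, ← Subgroup.map_commutator, ← Subgroup.map_commutator,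
    Subgroup.map_eq_bot_iff, QuotientGroup.ker_mk'] at hfin
  exact hfin

end App

end Cfsg.Agent.Lib.Helper10.KJ
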