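import Mathlib
import Cfsg.Agent.Lib.Helper10.KJ1
import Cfsg.Agent.Lib.Helper10.KJ3
import Cfsg.Agent.Lib.Helper10.KJ4
import Cfsg.Agent.Lib.helper17.SylowNormal

set_option autoImplicit false

/-! If the K-infinity subgroups of a Sylow `p`-subgroup `S` differ from those of `O_p(G)`
(`C_G(O_p(G)) ≤ O_p(G)`), some element of `S` outside `O_p(G)` acts quadratically and
nontrivially on a chief factor inside a critical subgroup (helper10). -/

universe u

namespace Cfsg.Agent.Lib.Helper10.KJ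

open Cfsg.Agent.Lib.Helper13 Cfsg.Agent.Lib.Helper10.KI
open scoped commutatorElement

section Main

variable {p : ℕ} [Fact p.Prime] {G : Type u} [Group G] [Finite G]

/-- If `K / L` is a `p`-group (`L ≤ K` normal) then `K = L (S ∩ K)`. -/
theorem sup_sylow_inf_eq (L K : Subgroup G) [hL : L.Normal] [hK : K.Normal] (hLK : L ≤ K)
    (hq : ∀ y ∈ K, ∃ k : ℕ, y ^ (p ^ k) ∈ L) (S : Sylow p G) :
    L ⊔ ((S : Subgroup G) ⊓ K) = K := by
  have hq' : IsPGroup p (↥K ⧸ L.subgroupOf K) := by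
    intro x
    obtain ⟨y, rfl⟩ := QuotientGroup.mk'_surjective _ x
    obtain ⟨k, hk⟩ := hq y y.2
    refine ⟨k, ?_⟩
    rw [← map_pow]
    exact (QuotientGroup.eq_one_iff _).mpr (Subgroup.mem_subgroupOf.mpr hk)
  have h1 := sup_sylow_eq_top (L.subgroupOf K) hq' (Cfsg.Agent.Lib.helper17.sylowInfNormal S K)
  have h2 := congrArg (Subgroup.map K.subtype) h1
  rw [Subgroup.map_sup, Subgroup.map_subgroupOf_eq_of_le hLK,
    Cfsg.Agent.Lib.helper17.sylowInfNormal_map, ← MonoidHom.range_eq_map,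
    Subgroup.range_subtype] at h2
  exact h2

/-- An element centralizing all chief factors inside `Z(A)` and all chief factors between `Z(A)`
and `A` lies in `O_p(G)`, when `C_G(A) ≤ O_p(G)`. -/
theorem mem_pCore_of_chief_trivial (A : Subgroup G) [hAn : A.Normal] (hAT : A ≤ Cfsg.pCore p G)
    (hCA : Subgroup.centralizer (A : Set G) ≤ Cfsg.pCore p G) (g : G)
    (ha : ∀ U V : Subgroup G, Cfsg.IsChiefFactor U V →
      U ≤ A ⊓ Subgroup.centralizer (A : Set G) → ⁅U, Subgroup.zpowers g⁆ ≤ V)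
    (hb : ∀ U V : Subgroup G, Cfsg.IsChiefFactor U V →
      A ⊓ Subgroup.centralizer (A : Set G) ≤ V → U ≤ A → ⁅U, Subgroup.zpowers g⁆ ≤ V) :
    g ∈ Cfsg.pCore p G := by
  have hTp : IsPGroup p ↥(Cfsg.pCore p G) := Cfsg.Agent.Lib.Helper18.pCore_isPGroup p G
  have hAp : IsPGroup p ↥A := hTp.to_le hAT
  have hCp : IsPGroup p ↥(Subgroup.centralizer (A : Set G)) := hTp.to_le hCA
  obtain ⟨Z, hZ⟩ : ∃ Z : Subgroup G, Z = A ⊓ Subgroup.centralizer (A : Set G) := ⟨_, rfl⟩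
  rw [← hZ] at ha hb
  have hZn : Z.Normal := by
    rw [hZ]
    infer_instance
  have hZA : Z ≤ A := hZ ▸ inf_le_left
  have hZp : IsPGroup p ↥Z := hAp.to_le hZA
  rcases chief_or_stab (p := p) g (⊥ : Subgroup G) _ Z bot_le hZp le_rfl with
    ⟨U, V, hUV, _, hUZ, hnon⟩ | ⟨D₁, hD₁n, hgD₁, hD₁⟩
  · exact absurd (ha U V hUV hUZ) hnon
  rcases chief_or_stab (p := p) g Z _ A hZA hAp le_rfl with
    ⟨U, V, hUV, hZV, hUA, hnon⟩ | ⟨D₂, hD₂n, hgD₂, hD₂⟩
  · exact absurd (hb U V hUV hZV hUA) hnon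
  have hDn : (D₁ ⊓ D₂).Normal := inferInstance
  obtain ⟨m, hm⟩ := IsPGroup.iff_card.mp hZp
  have hDp : IsPGroup p ↥(D₁ ⊓ D₂) := by
    rintro ⟨y, hy⟩
    obtain ⟨k₁, hk₁⟩ := hD₁ y hy.1
    obtain ⟨k₂, hk₂⟩ := hD₂ y hy.2
    have hz1 : y ^ (p ^ (k₁ + k₂)) ∈ Cfsg.sectionKernel Z (⊥ : Subgroup G) := by
      rw [pow_add, pow_mul]
      exact Subgroup.pow_mem _ hk₁ _
    have hz2 : y ^ (p ^ (k₁ + k₂)) ∈ Cfsg.sectionKernel A Z := by
      rw [pow_add, mul_comm, pow_mul]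
      exact Subgroup.pow_mem _ hk₂ _
    have hz1' : y ^ (p ^ (k₁ + k₂)) ∈ Subgroup.centralizer (Z : Set G) := by
      rw [Subgroup.mem_centralizer_iff]
      intro t ht
      have := mem_sectionKernel_iff.mp hz1 t ht
      rw [Subgroup.mem_bot] at this
      have h3 : y ^ (p ^ (k₁ + k₂)) * t * (y ^ (p ^ (k₁ + k₂)))⁻¹ = t := mul_inv_eq_one.mp this
      calc t * y ^ (p ^ (k₁ + k₂))
          = (y ^ (p ^ (k₁ + k₂)) * t * (y ^ (p ^ (k₁ + k₂)))⁻¹) * y ^ (p ^ (k₁ + k₂)) := by rw [h3]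
        _ = y ^ (p ^ (k₁ + k₂)) * t := by group
    have h3 := pow_card_mem_centralizer_of_two_step (P₀ := A) (Φ := Z) _ hz1'
      (mem_sectionKernel_iff.mp hz2)
    rw [hm] at h3
    obtain ⟨j, hj⟩ := hCp ⟨_, h3⟩
    have hj' := congrArg Subtype.val hj
    simp only [Subgroup.coe_pow, Subgroup.coe_one] at hj'
    refine ⟨k₁ + k₂ + m + j, ?_⟩
    apply Subtype.ext
    simp only [Subgroup.coe_pow, Subgroup.coe_one]
    rw [pow_add, pow_add, pow_mul, pow_mul]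
    exact hj'
  exact Cfsg.Agent.Lib.Helper18.le_pCore hDn hDp ⟨hgD₁, hgD₂⟩

/-- An element of `S` acting cubically on `A`, quadratically on `Z(A)` and quadratically on all chief
factors between `Z(A)` and `A` lies in `O_p(G)`, under the forcing hypothesis. -/
theorem mem_pCore_of_quad (S : Sylow p G) (A : Subgroup G) [hAn : A.Normal]
    (hAT : A ≤ Cfsg.pCore p G) (hCA : Subgroup.centralizer (A : Set G) ≤ Cfsg.pCore p G)
    (hforce : ∀ g ∈ (S : Subgroup G),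
      Cfsg.iterCommutator A (Subgroup.zpowers g) 3 ≤ A ⊓ Subgroup.centralizer (A : Set G) →
      ⁅⁅A ⊓ Subgroup.centralizer (A : Set G), Subgroup.zpowers g⁆, Subgroup.zpowers g⁆ = ⊥ →
      (∃ U V : Subgroup G, Cfsg.IsChiefFactor U V ∧ U ≤ A ∧
        ⁅⁅U, Subgroup.zpowers g⁆, Subgroup.zpowers g⁆ ≤ V ∧ ¬ ⁅U, Subgroup.zpowers g⁆ ≤ V) →
      g ∈ Cfsg.pCore p G)
    (g : G) (hg : g ∈ (S : Subgroup G))
    (hcub : Cfsg.iterCommutator A (Subgroup.zpowers g) 3 ≤ A ⊓ Subgroup.centralizer (A : Set G))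
    (hqZ : ⁅⁅A ⊓ Subgroup.centralizer (A : Set G), Subgroup.zpowers g⁆, Subgroup.zpowers g⁆ = ⊥)
    (hup : ∀ U V : Subgroup G, Cfsg.IsChiefFactor U V →
      A ⊓ Subgroup.centralizer (A : Set G) ≤ V → U ≤ A →
      ⁅⁅U, Subgroup.zpowers g⁆, Subgroup.zpowers g⁆ ≤ V) :
    g ∈ Cfsg.pCore p G := by
  by_contra hgT
  apply hgT
  apply mem_pCore_of_chief_trivial A hAT hCA g
  · intro U V hUV hUZ
    by_contra hnon
    apply hgT
    apply hforce g hg hcub hqZ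
    refine ⟨U, V, hUV, hUZ.trans inf_le_left, ?_, hnon⟩
    exact ((Subgroup.commutator_mono (Subgroup.commutator_mono hUZ le_rfl) le_rfl).trans hqZ.le).trans
      bot_le
  · intro U V hUV hZV hUA
    by_contra hnon
    apply hgT
    apply hforce g hg hcub hqZ
    exact ⟨U, V, hUV, hUA, hup U V hUV hZV hUA, hnon⟩

/-- Subgroups of `S` acting quadratically on `A / Z(A)` and on `Z(A)` lie in `O_p(G)`, under the
forcing hypothesis. -/
theorem le_pCore_of_quad (S : Sylow p G) (A : Subgroup G) [hAn : A.Normal]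
    (hAT : A ≤ Cfsg.pCore p G) (hCA : Subgroup.centralizer (A : Set G) ≤ Cfsg.pCore p G)
    (hforce : ∀ g ∈ (S : Subgroup G),
      Cfsg.iterCommutator A (Subgroup.zpowers g) 3 ≤ A ⊓ Subgroup.centralizer (A : Set G) →
      ⁅⁅A ⊓ Subgroup.centralizer (A : Set G), Subgroup.zpowers g⁆, Subgroup.zpowers g⁆ = ⊥ →
      (∃ U V : Subgroup G, Cfsg.IsChiefFactor U V ∧ U ≤ A ∧
        ⁅⁅U, Subgroup.zpowers g⁆, Subgroup.zpowers g⁆ ≤ V ∧ ¬ ⁅U, Subgroup.zpowers g⁆ ≤ V) →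
      g ∈ Cfsg.pCore p G)
    (X : Subgroup G) (hXS : X ≤ (S : Subgroup G))
    (h1 : ⁅⁅A, X⁆, X⁆ ≤ A ⊓ Subgroup.centralizer (A : Set G))
    (h2 : ⁅⁅A ⊓ Subgroup.centralizer (A : Set G), X⁆, X⁆ = ⊥) : X ≤ Cfsg.pCore p G := by
  have hZn : (A ⊓ Subgroup.centralizer (A : Set G)).Normal := inferInstance
  intro g hg
  have hgX : Subgroup.zpowers g ≤ X := Subgroup.zpowers_le.mpr hg
  have h1' : ⁅⁅A, Subgroup.zpowers g⁆, Subgroup.zpowers g⁆ ≤
      A ⊓ Subgroup.centralizer (A : Set G) :=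
    (Subgroup.commutator_mono (Subgroup.commutator_mono le_rfl hgX) hgX).trans h1
  apply mem_pCore_of_quad S A hAT hCA hforce g (hXS hg)
  · show ⁅⁅⁅A, Subgroup.zpowers g⁆, Subgroup.zpowers g⁆, Subgroup.zpowers g⁆ ≤ _
    exact (Subgroup.commutator_mono h1' le_rfl).trans (Subgroup.commutator_le_left _ _)
  · exact le_bot_iff.mp ((Subgroup.commutator_mono (Subgroup.commutator_mono le_rfl hgX) hgX).trans
      h2.le)
  · intro U V _ hZV hUA
    exact ((Subgroup.commutator_mono (Subgroup.commutator_mono hUA le_rfl) le_rfl).trans h1').trans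
      hZV

omit [Fact p.Prime] [Finite G] in
theorem mem_centralizer_of_mem_sectionKernel_bot {Z : Subgroup G} {z : G}
    (hz : z ∈ Cfsg.sectionKernel Z (⊥ : Subgroup G)) : z ∈ Subgroup.centralizer (Z : Set G) := by
  rw [Subgroup.mem_centralizer_iff]
  intro t ht
  have := mem_sectionKernel_iff.mp hz t ht
  rw [Subgroup.mem_bot] at this
  have h3 : z * t * z⁻¹ = t := mul_inv_eq_one.mp this
  calc t * z = (z * t * z⁻¹) * z := by rw [h3]
    _ = z * t := by group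

set_option maxHeartbeats 1600000 in
/-- Confinement of the lower star family under the forcing hypothesis. -/
theorem lowIn_le_pCore_of_force (S : Sylow p G) (A : Subgroup G) [hAn : A.Normal]
    (hAT : A ≤ Cfsg.pCore p G)
    (hATc : ⁅A, Cfsg.pCore p G⁆ ≤ A ⊓ Subgroup.centralizer (A : Set G))
    (hCA : Subgroup.centralizer (A : Set G) ≤ Cfsg.pCore p G)
    (hforce : ∀ g ∈ (S : Subgroup G),
      Cfsg.iterCommutator A (Subgroup.zpowers g) 3 ≤ A ⊓ Subgroup.centralizer (A : Set G) →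
      ⁅⁅A ⊓ Subgroup.centralizer (A : Set G), Subgroup.zpowers g⁆, Subgroup.zpowers g⁆ = ⊥ →
      (∃ U V : Subgroup G, Cfsg.IsChiefFactor U V ∧ U ≤ A ∧
        ⁅⁅U, Subgroup.zpowers g⁆, Subgroup.zpowers g⁆ ≤ V ∧ ¬ ⁅U, Subgroup.zpowers g⁆ ≤ V) →
      g ∈ Cfsg.pCore p G)
    (R : Subgroup G) (hAR : A ≤ R) (B : Subgroup G)
    (hB : B ∈ lowIn (S : Subgroup G) R) : B ≤ Cfsg.pCore p G := by
  have hTp : IsPGroup p ↥(Cfsg.pCore p G) := Cfsg.Agent.Lib.Helper18.pCore_isPGroup p G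
  have hAp : IsPGroup p ↥A := hTp.to_le hAT
  have hquadT : ∀ X : Subgroup G, X ≤ (S : Subgroup G) → ⁅⁅A, X⁆, X⁆ = ⊥ →
      X ≤ Cfsg.pCore p G := by
    intro X hXS h
    apply le_pCore_of_quad S A hAT hCA hforce X hXS
    · rw [h]
      exact bot_le
    · exact le_bot_iff.mp ((Subgroup.commutator_mono (Subgroup.commutator_mono inf_le_left le_rfl)
        le_rfl).trans h.le)
  obtain ⟨hquadZ, AB, hABle, hquadAB, hquadA, hLAB, hNAB⟩ :=
    lowIn_struct S A hATc hquadT R hAR B hB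
  obtain ⟨⟨hB2, hRB, -⟩, hBS⟩ := hB
  obtain ⟨Z, hZ⟩ : ∃ Z : Subgroup G, Z = A ⊓ Subgroup.centralizer (A : Set G) := ⟨_, rfl⟩
  rw [← hZ] at hforce hquadZ hLAB hATc
  have hZn : Z.Normal := by
    rw [hZ]
    infer_instance
  have hZA : Z ≤ A := hZ ▸ inf_le_left
  have hZp : IsPGroup p ↥Z := hAp.to_le hZA
  have hABB : ⁅A, B⁆ ≤ B := Subgroup.le_normalizer_iff_commutator_le_right.mp (hAR.trans hRB)
  intro b hb
  by_contra hbT
  have hbB : Subgroup.zpowers b ≤ B := Subgroup.zpowers_le.mpr hb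
  have hbS : b ∈ (S : Subgroup G) := hBS hb
  have hcub : Cfsg.iterCommutator A (Subgroup.zpowers b) 3 ≤ Z := by
    show ⁅⁅⁅A, Subgroup.zpowers b⁆, Subgroup.zpowers b⁆, Subgroup.zpowers b⁆ ≤ Z
    have h1 : ⁅⁅⁅A, Subgroup.zpowers b⁆, Subgroup.zpowers b⁆, Subgroup.zpowers b⁆ ≤ ⁅⁅B, B⁆, B⁆ :=
      Subgroup.commutator_mono (Subgroup.commutator_mono
        ((Subgroup.commutator_mono le_rfl hbB).trans hABB) hbB) hbB
    rw [classTwo_triple hB2] at h1
    exact h1.trans bot_le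
  have hqZ : ⁅⁅Z, Subgroup.zpowers b⁆, Subgroup.zpowers b⁆ = ⊥ :=
    le_bot_iff.mp ((Subgroup.commutator_mono (Subgroup.commutator_mono le_rfl hbB) hbB).trans
      hquadZ.le)
  -- `b` centralizes the chief factors inside `Z`
  have ha : ∀ U V : Subgroup G, Cfsg.IsChiefFactor U V → U ≤ Z →
      ⁅U, Subgroup.zpowers b⁆ ≤ V := by
    intro U V hUV hUZ
    by_contra hnon
    apply hbT
    apply hforce b hbS hcub hqZ
    refine ⟨U, V, hUV, hUZ.trans hZA, ?_, hnon⟩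
    exact ((Subgroup.commutator_mono (Subgroup.commutator_mono hUZ le_rfl) le_rfl).trans hqZ.le).trans
      bot_le
  rcases chief_or_stab (p := p) b (⊥ : Subgroup G) _ Z bot_le hZp le_rfl with
    ⟨U, V, hUV, _, hUZ, hnon⟩ | ⟨D₁, hD₁n, hbD₁, hD₁⟩
  · exact absurd (ha U V hUV hUZ) hnon
  obtain ⟨L, hL⟩ : ∃ L : Subgroup G, L = Subgroup.centralizer (Z : Set G) := ⟨_, rfl⟩
  rw [← hL] at hLAB
  have hLn : L.Normal := by
    rw [hL]
    infer_instance
  have hKn : (D₁ ⊔ L).Normal := inferInstance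
  have hq : ∀ y ∈ D₁ ⊔ L, ∃ k : ℕ, y ^ (p ^ k) ∈ L := by
    intro y hy
    have hy' : y ∈ ((D₁ ⊔ L : Subgroup G) : Set G) := hy
    rw [Subgroup.mul_normal] at hy'
    obtain ⟨d, hd, l, hl, rfl⟩ := hy'
    obtain ⟨k, hk⟩ := hD₁ d hd
    refine ⟨k, ?_⟩
    have hk' : d ^ (p ^ k) ∈ L := hL ▸ mem_centralizer_of_mem_sectionKernel_bot hk
    rw [← QuotientGroup.eq_one_iff, QuotientGroup.mk_pow, QuotientGroup.mk_mul,
      (QuotientGroup.eq_one_iff l).mpr hl, mul_one, ← QuotientGroup.mk_pow,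
      QuotientGroup.eq_one_iff]
    exact hk'
  have hK := sup_sylow_inf_eq L (D₁ ⊔ L) le_sup_right hq S
  apply hbT
  apply mem_pCore_of_quad S A hAT hCA (hZ ▸ hforce) b hbS (hZ ▸ hcub) (hZ ▸ hqZ)
  intro U V hUV hZV hUA
  rw [← hZ] at hZV
  have hUab : ⁅U, U⁆ ≤ V :=
    ((Subgroup.commutator_mono hUA (hUA.trans hAT)).trans hATc).trans hZV
  apply quad_chief_of_series S U V hUV hUab L (D₁ ⊔ L) (Subgroup.normalizer (B : Set G)) AB hK hLAB
    hNAB b hbS (Subgroup.mem_sup_left hbD₁) (Subgroup.le_normalizer hb)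
  · exact (Subgroup.commutator_mono (Subgroup.commutator_mono hUA hbB) hbB).trans hquadA
  · exact le_bot_iff.mp ((Subgroup.commutator_mono (Subgroup.commutator_mono le_rfl hbB) hbB).trans
      hquadAB.le)

end Main

end Cfsg.Agent.Lib.Helper10.KJ
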