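import Mathlib
import Cfsg.Agent.Lib.Helper10.KJ5
import Cfsg.Agent.Lib.Helper13.KInfI

set_option autoImplicit false

/-! Glauberman's theorem on the K-infinity subgroups, chief factor form (helper10). -/

universe u

namespace Cfsg.Agent.Lib.Helper10.KJ

open Cfsg.Agent.Lib.Helper13 Cfsg.Agent.Lib.Helper10.KI
open scoped commutatorElement

section Main

variable {p : ℕ} [Fact p.Prime] {G : Type u} [Group G] [Finite G]

set_option maxHeartbeats 1600000 in
/-- Under the forcing hypothesis the K-infinity subgroups of `S` and `O_p(G)` agree. -/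
theorem kinf_eq_of_force (S : Sylow p G) (A : Subgroup G) [hAn : A.Normal]
    (hAT : A ≤ Cfsg.pCore p G)
    (hATc : ⁅A, Cfsg.pCore p G⁆ ≤ A ⊓ Subgroup.centralizer (A : Set G))
    (hCA : Subgroup.centralizer (A : Set G) ≤ Cfsg.pCore p G)
    (hforce : ∀ g ∈ (S : Subgroup G),
      Cfsg.iterCommutator A (Subgroup.zpowers g) 3 ≤ A ⊓ Subgroup.centralizer (A : Set G) →
      ⁅⁅A ⊓ Subgroup.centralizer (A : Set G), Subgroup.zpowers g⁆, Subgroup.zpowers g⁆ = ⊥ →
      (∃ U V : Subgroup G, Cfsg.IsChiefFactor U V ∧ U ≤ A ∧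
        ⁅⁅U, Subgroup.zpowers g⁆, Subgroup.zpowers g⁆ ≤ V ∧ ¬ ⁅U, Subgroup.zpowers g⁆ ≤ V) →
      g ∈ Cfsg.pCore p G) :
    (⨆ n, kEvenIn (S : Subgroup G) n) = (⨆ n, kEvenIn (Cfsg.pCore p G) n) ∧
      (⨅ n, kOddIn (S : Subgroup G) n) = (⨅ n, kOddIn (Cfsg.pCore p G) n) := by
  have hTS : Cfsg.pCore p G ≤ (S : Subgroup G) := pCore_le_sylow S
  have hA2 : A ∈ Cfsg.classTwoSubgroups G :=
    ((Subgroup.commutator_mono le_rfl hAT).trans hATc).trans inf_le_right
  apply kinf_sandwich hTS hAT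
  · intro Q hQS
    refine ⟨hA2, ?_, ?_⟩
    · rw [Subgroup.normalizer_eq_top]
      exact le_top
    · intro X hX hXQ hXN hAXX hZXX
      have hAX_X : ⁅A, X⁆ ≤ X := Subgroup.le_normalizer_iff_commutator_le_right.mp hXN
      have hAX_A : ⁅A, X⁆ ≤ A := Subgroup.commutator_le_left A X
      have hXXC : ⁅X, X⁆ ≤ Subgroup.centralizer (A : Set G) := by
        rw [Subgroup.commutator_comm] at hAXX
        exact Subgroup.commutator_eq_bot_iff_le_centralizer.mp hAXX
      have h3 : ⁅⁅A, X⁆, X⁆ ≤ A ⊓ Subgroup.centralizer (A : Set G) :=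
        le_inf ((Subgroup.commutator_mono hAX_A le_rfl).trans (Subgroup.commutator_le_left A X))
          ((Subgroup.commutator_mono hAX_X le_rfl).trans hXXC)
      have hXT : X ≤ Cfsg.pCore p G :=
        le_pCore_of_quad S A hAT hCA hforce X (hXQ.trans hQS) h3 hZXX
      exact (Subgroup.commutator_mono le_rfl hXT).trans hATc
  · intro Q hQT
    exact ⟨hA2, (Subgroup.commutator_mono le_rfl hQT).trans hATc⟩
  · rintro Q hAQ hQS B ⟨⟨_, hBQ⟩, hBS⟩
    have h : ⁅⁅A, B⁆, B⁆ = ⊥ :=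
      quadratic_of_commutator_le_zIn ((Subgroup.commutator_mono le_rfl hAQ).trans hBQ)
    apply le_pCore_of_quad S A hAT hCA hforce B hBS
    · rw [h]
      exact bot_le
    · exact le_bot_iff.mp ((Subgroup.commutator_mono (Subgroup.commutator_mono inf_le_left le_rfl)
        le_rfl).trans h.le)
  · exact fun Q hAQ _ B hB => lowIn_le_pCore_of_force S A hAT hATc hCA hforce Q hAQ B hB

/-- Chief factor form: if a K-infinity subgroup of `S` is not normal, some element of `S` outside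
`O_p(G)` acts cubically on `A`, quadratically on `Z(A)`, and quadratically but nontrivially on a
chief factor inside `A`. -/
theorem exists_quad_chief (S : Sylow p G) (A : Subgroup G) [hAn : A.Normal]
    (hAT : A ≤ Cfsg.pCore p G)
    (hATc : ⁅A, Cfsg.pCore p G⁆ ≤ A ⊓ Subgroup.centralizer (A : Set G))
    (hCA : Subgroup.centralizer (A : Set G) ≤ Cfsg.pCore p G)
    (hK : ¬ (Cfsg.inducedFunctor (G := G) Cfsg.kInfLower (S : Subgroup G)).Normal ∨
      ¬ (Cfsg.inducedFunctor (G := G) Cfsg.kInfUpper (S : Subgroup G)).Normal) :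
    ∃ g : G, g ∈ (S : Subgroup G) ∧ g ∉ Cfsg.pCore p G ∧
      Cfsg.iterCommutator A (Subgroup.zpowers g) 3 ≤ A ⊓ Subgroup.centralizer (A : Set G) ∧
      ⁅⁅A ⊓ Subgroup.centralizer (A : Set G), Subgroup.zpowers g⁆, Subgroup.zpowers g⁆ = ⊥ ∧
      ∃ U V : Subgroup G, Cfsg.IsChiefFactor U V ∧ U ≤ A ∧
        ⁅⁅U, Subgroup.zpowers g⁆, Subgroup.zpowers g⁆ ≤ V ∧ ¬ ⁅U, Subgroup.zpowers g⁆ ≤ V := by
  by_contra hno
  have hforce : ∀ g ∈ (S : Subgroup G),
      Cfsg.iterCommutator A (Subgroup.zpowers g) 3 ≤ A ⊓ Subgroup.centralizer (A : Set G) →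
      ⁅⁅A ⊓ Subgroup.centralizer (A : Set G), Subgroup.zpowers g⁆, Subgroup.zpowers g⁆ = ⊥ →
      (∃ U V : Subgroup G, Cfsg.IsChiefFactor U V ∧ U ≤ A ∧
        ⁅⁅U, Subgroup.zpowers g⁆, Subgroup.zpowers g⁆ ≤ V ∧ ¬ ⁅U, Subgroup.zpowers g⁆ ≤ V) →
      g ∈ Cfsg.pCore p G := by
    intro g hg h1 h2 h3
    by_contra hgT
    exact hno ⟨g, hg, hgT, h1, h2, h3⟩
  obtain ⟨h1, h2⟩ := kinf_normal_of_eq S (kinf_eq_of_force S A hAT hATc hCA hforce)
  rcases hK with hK | hK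
  · exact hK h1
  · exact hK h2

end Main

end Cfsg.Agent.Lib.Helper10.KJ
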