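import Mathlib
import Cfsg.Agent.Lib.Helper10.KJ6
import Cfsg.Agent.Lib.Helper1.GNPC.Helpers

set_option autoImplicit false

/-! Normalizer `p`-stability of a quotient forces quadratic elements to centralize a chief factor;
centralizers of critical subgroups (helper10). -/

universe u

namespace Cfsg.Agent.Lib.Helper10.KJ

open Cfsg.Agent.Lib.Helper13 Cfsg.Agent.Lib.Helper10.KI
open scoped commutatorElement

section Step

variable {p : ℕ} [Fact p.Prime]

/-- The basic step with only the quotient `H / W` assumed normalizer `p`-stable. -/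
theorem ps_step_nps {H : Type u} [Group H] [Finite H]
    (V W : Subgroup H) [hVn : V.Normal] [hWn : W.Normal]
    (hN : Cfsg.IsNormalizerPStable p (H ⧸ W)) (hV : IsPGroup p ↥V) (b : H)
    (hq : ⁅⁅V, Subgroup.zpowers b⁆, Subgroup.zpowers b⁆ ≤ W) :
    ∃ D : Subgroup H, D.Normal ∧ b ∈ D ∧
      ∀ y ∈ D, ∃ k : ℕ, y ^ (p ^ k) ∈ Cfsg.sectionKernel V W := by
  obtain ⟨Vb, hVb⟩ : ∃ Vb : Subgroup (H ⧸ W), Vb = V.map (QuotientGroup.mk' W) := ⟨_, rfl⟩
  have hVbn : Vb.Normal := by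
    rw [hVb]
    exact Subgroup.Normal.map hVn _ (QuotientGroup.mk'_surjective W)
  have hVbp : IsPGroup p ↥Vb := by
    rw [hVb]
    exact hV.map _
  have hzp : Subgroup.zpowers ((QuotientGroup.mk' W) b) =
      (Subgroup.zpowers b).map (QuotientGroup.mk' W) := (MonoidHom.map_zpowers _ b).symm
  have hqb : ⁅⁅Vb, Subgroup.zpowers ((QuotientGroup.mk' W) b)⁆,
      Subgroup.zpowers ((QuotientGroup.mk' W) b)⁆ = ⊥ := by
    rw [hVb, hzp, ← Subgroup.map_commutator, ← Subgroup.map_commutator, eq_bot_iff]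
    calc (⁅⁅V, Subgroup.zpowers b⁆, Subgroup.zpowers b⁆).map (QuotientGroup.mk' W)
        ≤ W.map (QuotientGroup.mk' W) := Subgroup.map_mono hq
      _ = ⊥ := QuotientGroup.map_mk'_self W
  have h1 := Cfsg.Agent.Lib.helper17.QdStab8.pstableOn_of_nps hN Vb hVbp _ hqb
  have hcn : (Cfsg.pCore p ((H ⧸ W) ⧸ Subgroup.centralizer (Vb : Set (H ⧸ W)))).Normal :=
    Cfsg.Agent.Lib.Helper18.pCore_normal_h18 p _
  have hcp : IsPGroup p ↥(Cfsg.pCore p ((H ⧸ W) ⧸ Subgroup.centralizer (Vb : Set (H ⧸ W)))) :=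
    Cfsg.Agent.Lib.Helper18.pCore_isPGroup p _
  refine ⟨(Cfsg.pCore p ((H ⧸ W) ⧸ Subgroup.centralizer (Vb : Set (H ⧸ W)))).comap
    ((QuotientGroup.mk' (Subgroup.centralizer (Vb : Set (H ⧸ W)))).comp (QuotientGroup.mk' W)),
    inferInstance, h1, ?_⟩
  intro y hy
  obtain ⟨k, hk⟩ := hcp ⟨_, hy⟩
  refine ⟨k, ?_⟩
  have hk' := congrArg Subtype.val hk
  simp only [Subgroup.coe_pow, Subgroup.coe_one] at hk'
  show (QuotientGroup.mk' W) (y ^ (p ^ k)) ∈
    Subgroup.centralizer ((V.map (QuotientGroup.mk' W) : Subgroup (H ⧸ W)) : Set (H ⧸ W))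
  rw [← hVb, ← QuotientGroup.eq_one_iff, map_pow]
  exact hk'

/-- A normal subgroup acting as a `p`-group on a minimal normal `p`-subgroup centralizes it. -/
theorem min_normal_central_of_ppow {Γ : Type u} [Group Γ] [Finite Γ]
    (W : Subgroup Γ) [hWn : W.Normal] (hWp : IsPGroup p ↥W) (hWne : W ≠ ⊥)
    (hmin : ∀ M : Subgroup Γ, M.Normal → M ≤ W → M = ⊥ ∨ M = W)
    (D : Subgroup Γ) [hDn : D.Normal]
    (hD : ∀ y ∈ D, ∃ k : ℕ, y ^ (p ^ k) ∈ Subgroup.centralizer (W : Set Γ)) :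
    D ≤ Subgroup.centralizer (W : Set Γ) := by
  obtain ⟨S⟩ : Nonempty (Sylow p Γ) := inferInstance
  haveI hCn : (Subgroup.centralizer (W : Set Γ)).Normal := Subgroup.normal_centralizer
  obtain ⟨L, hL⟩ : ∃ L : Subgroup Γ, L = Subgroup.centralizer (W : Set Γ) ⊓ D := ⟨_, rfl⟩
  haveI hLn : L.Normal := by
    rw [hL]
    infer_instance
  have hLD : L ≤ D := hL ▸ inf_le_right
  have hq : ∀ y ∈ D, ∃ k : ℕ, y ^ (p ^ k) ∈ L := by
    intro y hy
    obtain ⟨k, hk⟩ := hD y hy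
    refine ⟨k, ?_⟩
    rw [hL]
    exact ⟨hk, Subgroup.pow_mem _ hy _⟩
  have hsup := sup_sylow_inf_eq L D hLD hq S
  obtain ⟨Q, hQ⟩ : ∃ Q : Subgroup Γ, Q = (S : Subgroup Γ) ⊓ D := ⟨_, rfl⟩
  rw [← hQ] at hsup
  have hQp : IsPGroup p ↥Q := by
    rw [hQ]
    exact S.isPGroup'.to_le inf_le_left
  obtain ⟨X, hX⟩ : ∃ X : Subgroup Γ, X = W ⊔ Q := ⟨_, rfl⟩
  have hXp : IsPGroup p ↥X := by
    rw [hX]
    exact hWp.to_sup_of_normal_left hQp
  haveI hXnil : Group.IsNilpotent ↥X := hXp.isNilpotent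
  have hWX : W ≤ X := hX ▸ le_sup_left
  have hQX : Q ≤ X := hX ▸ le_sup_right
  haveI hsn : (W.subgroupOf X).Normal := hWn.subgroupOf X
  have hsne : W.subgroupOf X ≠ ⊥ := by
    intro h
    apply hWne
    rw [eq_bot_iff]
    intro w hw
    have : (⟨w, hWX hw⟩ : ↥X) ∈ W.subgroupOf X := Subgroup.mem_subgroupOf.mpr hw
    rw [h, Subgroup.mem_bot] at this
    rw [Subgroup.mem_bot]
    exact congrArg Subtype.val this
  have h1 := Cfsg.Agent.Lib.Helper1.normal_inf_center_ne_bot (W.subgroupOf X) hsne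
  obtain ⟨z, hz1⟩ := (Subgroup.ne_bot_iff_exists_ne_one).mp h1
  have hz' : (z : ↥X) ∈ W.subgroupOf X ⊓ Subgroup.center ↥X := z.2
  have hzW : ((z : ↥X) : Γ) ∈ W := Subgroup.mem_subgroupOf.mp hz'.1
  have hzQ : Q ≤ Subgroup.centralizer ({((z : ↥X) : Γ)} : Set Γ) := by
    intro l hl
    rw [Subgroup.mem_centralizer_iff]
    intro y hy
    rw [Set.mem_singleton_iff] at hy
    subst hy
    have := Subgroup.mem_center_iff.mp hz'.2 ⟨l, hQX hl⟩
    exact (congrArg Subtype.val this).symm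
  have hzL : L ≤ Subgroup.centralizer ({((z : ↥X) : Γ)} : Set Γ) := by
    intro l hl
    rw [Subgroup.mem_centralizer_iff]
    intro y hy
    rw [Set.mem_singleton_iff] at hy
    subst hy
    have hlC : l ∈ Subgroup.centralizer (W : Set Γ) := by
      rw [hL] at hl
      exact hl.1
    exact Subgroup.mem_centralizer_iff.mp hlC _ hzW
  have hzD : D ≤ Subgroup.centralizer ({((z : ↥X) : Γ)} : Set Γ) := by
    rw [← hsup]
    exact sup_le hzL hzQ
  obtain ⟨M, hM⟩ : ∃ M : Subgroup Γ, M = W ⊓ Subgroup.centralizer (D : Set Γ) := ⟨_, rfl⟩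
  haveI hCDn : (Subgroup.centralizer (D : Set Γ)).Normal := Subgroup.normal_centralizer
  have hMn : M.Normal := by
    rw [hM]
    infer_instance
  have hzM : ((z : ↥X) : Γ) ∈ M := by
    rw [hM]
    refine ⟨hzW, ?_⟩
    show ((z : ↥X) : Γ) ∈ Subgroup.centralizer (D : Set Γ)
    rw [Subgroup.mem_centralizer_iff]
    intro d hd
    have := Subgroup.mem_centralizer_iff.mp (hzD hd) _ (Set.mem_singleton _)
    exact this.symm
  have hMne : M ≠ ⊥ := by
    intro h
    apply hz1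
    rw [h, Subgroup.mem_bot] at hzM
    apply Subtype.ext
    apply Subtype.ext
    exact hzM
  rcases hmin M hMn (hM ▸ inf_le_left) with h | h
  · exact absurd h hMne
  · intro d hd
    rw [Subgroup.mem_centralizer_iff]
    intro w hw
    have hwM : w ∈ M := by rw [h]; exact hw
    rw [hM] at hwM
    exact (Subgroup.mem_centralizer_iff.mp hwM.2 d hd).symm

/-- If `G / V` is normalizer `p`-stable, an element acting quadratically on the chief `p`-factor
`U / V` centralizes it. -/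
theorem chief_central_of_nps {G : Type u} [Group G] [Finite G] (U V : Subgroup G)
    (hUV : Cfsg.IsChiefFactor U V) (hUp : IsPGroup p ↥U)
    [hVn : V.Normal] (hN : Cfsg.IsNormalizerPStable p (G ⧸ V)) (g : G)
    (hq : ⁅⁅U, Subgroup.zpowers g⁆, Subgroup.zpowers g⁆ ≤ V) :
    ⁅U, Subgroup.zpowers g⁆ ≤ V := by
  haveI hUn : U.Normal := hUV.2.1
  obtain ⟨D, hDn, hgD, hD⟩ := ps_step_nps U V hN hUp g hq
  obtain ⟨hne, hmin⟩ := chief_map_min U V hUV
  haveI hWn : (U.map (QuotientGroup.mk' V)).Normal :=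
    Subgroup.Normal.map hUn _ (QuotientGroup.mk'_surjective V)
  haveI hDbn : (D.map (QuotientGroup.mk' V)).Normal :=
    Subgroup.Normal.map hDn _ (QuotientGroup.mk'_surjective V)
  have hDb : ∀ y ∈ D.map (QuotientGroup.mk' V), ∃ k : ℕ, y ^ (p ^ k) ∈
      Subgroup.centralizer ((U.map (QuotientGroup.mk' V) : Subgroup (G ⧸ V)) : Set (G ⧸ V)) := by
    rintro _ ⟨d, hd, rfl⟩
    obtain ⟨k, hk⟩ := hD d hd
    refine ⟨k, ?_⟩
    rw [← map_pow]
    exact hk
  have hcen := min_normal_central_of_ppow (U.map (QuotientGroup.mk' V)) (hUp.map _) hne hmin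
    (D.map (QuotientGroup.mk' V)) hDb
  have hgs : Subgroup.zpowers g ≤ Cfsg.sectionKernel U V := by
    rw [Subgroup.zpowers_le]
    exact hcen ⟨g, hgD, rfl⟩
  rw [Subgroup.commutator_le]
  intro t ht z hz
  have h1 := mem_sectionKernel_iff.mp (hgs hz) t ht
  have h2 := Subgroup.inv_mem _ h1
  have e : (z * t * z⁻¹ * t⁻¹)⁻¹ = ⁅t, z⁆ := by
    rw [commutatorElement_def]
    group
  rwa [e] at h2

end Step

section Crit

variable {p : ℕ} [Fact p.Prime] {G : Type u} [Group G] [Finite G]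

/-- If every `p'`-automorphism of `O_p(G)` centralizing `A` is trivial and
`C_G(O_p(G)) ≤ O_p(G)`, then `C_G(A)` is a `p`-group. -/
theorem isPGroup_centralizer_of_aut
    (hc : Subgroup.centralizer (Cfsg.pCore p G : Set G) ≤ Cfsg.pCore p G)
    (A : Subgroup G)
    (hA5 : ∀ φ : MulAut ↥(Cfsg.pCore p G), (orderOf φ).Coprime p →
      (∀ a : ↥(Cfsg.pCore p G), (a : G) ∈ A → φ a = a) → φ = 1) :
    IsPGroup p ↥(Subgroup.centralizer (A : Set G)) := by
  have hp : p.Prime := Fact.out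
  haveI hTn : (Cfsg.pCore p G).Normal := Cfsg.Agent.Lib.Helper18.pCore_normal_h18 p G
  have hTp : IsPGroup p ↥(Cfsg.pCore p G) := Cfsg.Agent.Lib.Helper18.pCore_isPGroup p G
  have key : ∀ z ∈ Subgroup.centralizer (A : Set G), (orderOf z).Coprime p → z = 1 := by
    intro z hz hzo
    have ha : Nat.Coprime (orderOf (MulAut.conjNormal z : MulAut ↥(Cfsg.pCore p G))) p :=
      Nat.Coprime.coprime_dvd_left (orderOf_map_dvd _ z) hzo
    have h1 : (MulAut.conjNormal z : MulAut ↥(Cfsg.pCore p G)) = 1 := by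
      apply hA5 _ ha
      intro x hx
      apply Subtype.ext
      rw [MulAut.conjNormal_apply]
      have := Subgroup.mem_centralizer_iff.mp hz _ hx
      rw [← this]
      group
    have h2 : z ∈ Subgroup.centralizer (Cfsg.pCore p G : Set G) := by
      rw [Subgroup.mem_centralizer_iff]
      intro t ht
      have h3 := congrArg (fun φ : MulAut ↥(Cfsg.pCore p G) => ((φ ⟨t, ht⟩ : ↥(Cfsg.pCore p G)) : G)) h1
      simp only [MulAut.conjNormal_apply, MulAut.one_apply] at h3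
      calc t * z = (z * t * z⁻¹) * z := by rw [h3]
        _ = z * t := by group
    obtain ⟨k, hk⟩ := hTp ⟨z, hc h2⟩
    have hk' := congrArg Subtype.val hk
    simp only [Subgroup.coe_pow, Subgroup.coe_one] at hk'
    have h4 : orderOf z ∣ p ^ k := orderOf_dvd_of_pow_eq_one hk'
    have h5 : orderOf z = 1 := Nat.Coprime.eq_one_of_dvd (Nat.Coprime.pow_right k hzo) h4
    exact orderOf_eq_one_iff.mp h5
  rintro ⟨y, hy⟩
  obtain ⟨k, m, hm, hkm⟩ := Nat.exists_eq_pow_mul_and_not_dvd (orderOf_pos y).ne' p hp.ne_one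
  have hz : y ^ (p ^ k) ∈ Subgroup.centralizer (A : Set G) := Subgroup.pow_mem _ hy _
  have hzo : (orderOf (y ^ (p ^ k))).Coprime p := by
    have h1 : (y ^ (p ^ k)) ^ m = 1 := by
      rw [← pow_mul, ← hkm]
      exact pow_orderOf_eq_one y
    have h2 : orderOf (y ^ (p ^ k)) ∣ m := orderOf_dvd_of_pow_eq_one h1
    have h3 : Nat.Coprime m p := ((Nat.Prime.coprime_iff_not_dvd hp).mpr hm).symm
    exact Nat.Coprime.coprime_dvd_left h2 h3
  refine ⟨k, ?_⟩
  apply Subtype.ext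
  simp only [Subgroup.coe_pow, Subgroup.coe_one]
  exact key _ hz hzo

end Crit

end Cfsg.Agent.Lib.Helper10.KJ
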