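import Mathlib
import Cfsg.Agent.Lib.Helper10.NPStab3

set_option autoImplicit false

/-! Groups in which the automizers `N(Q)/C(Q)` of `p`-subgroups are `SL₂(p)`-free: inheritance by
sections and `p`-stability in the normalizer form. -/

universe u

namespace Cfsg.Agent.Lib.Helper10.KS

open scoped Pointwise commutatorElement
open Cfsg.Agent.Lib.Helper5 Cfsg.Agent.Lib.Helper13 Cfsg.Agent.Lib.Helper10.NPStab

section Inv

/-- Transfer of involvement along a pair of homomorphisms out of a common source. -/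
theorem involves_of_hom_surj {X : Type*} {G : Type*} {Q : Type*} {L : Type*}
    [Group X] [Group G] [Group Q] [Group L]
    (j : L →* G) (ρ : L →* Q) (hρ : Function.Surjective ρ) (hker : j.ker ≤ ρ.ker)
    (h : Cfsg.Involves X Q) : Cfsg.Involves X G := by
  obtain ⟨ρ', hρ'def⟩ : ∃ ρ' : ↥j.range →* Q, ρ' = (QuotientGroup.lift j.ker ρ hker).comp
      (QuotientGroup.quotientKerEquivRange j).symm.toMonoidHom := ⟨_, rfl⟩
  have hρ' : Function.Surjective ρ' := by
    intro q
    obtain ⟨l, rfl⟩ := hρ q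
    refine ⟨QuotientGroup.quotientKerEquivRange j (QuotientGroup.mk l), ?_⟩
    rw [hρ'def]
    simp
  exact involves_of_inj_surj_trans j.range.subtype j.range.subtype_injective ρ' hρ' h

end Inv

section Def

/-- The automizers of `p`-subgroups of `X` are `SL₂(p)`-free. -/
def AutFree (p : ℕ) (X : Type u) [Group X] : Prop :=
  ∀ Q : Subgroup X, IsPGroup p ↥Q →
    ¬ Cfsg.Involves (Matrix.SpecialLinearGroup (Fin 2) (ZMod p))
      (↥(Subgroup.normalizer (Q : Set X)) ⧸
        (Subgroup.centralizer (Q : Set X)).subgroupOf (Subgroup.normalizer (Q : Set X)))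

end Def

section Sec

variable {p : ℕ} [Fact p.Prime]

set_option maxHeartbeats 800000 in
/-- `AutFree` passes to sections. -/
theorem autFree_section {G : Type u} [Group G] [Finite G] (h : AutFree p G)
    (K : Subgroup G) {B : Type u} [Group B] (f : ↥K →* B) (hf : Function.Surjective f) :
    AutFree p B := by
  intro Qb hQb hinv
  obtain ⟨P, hPp, hPmap, hPN⟩ := exists_pgroup_lift f hf Qb hQb
  obtain ⟨P', hP'⟩ : ∃ P' : Subgroup G, P' = P.map K.subtype := ⟨_, rfl⟩
  have hP'p : IsPGroup p P' := by rw [hP']; exact hPp.map _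
  apply h P' hP'p
  obtain ⟨L, hL⟩ : ∃ L : Subgroup ↥K, L = Subgroup.normalizer (P : Set ↥K) ⊓
      (Subgroup.normalizer (Qb : Set B)).comap f := ⟨_, rfl⟩
  have hL1 : L ≤ Subgroup.normalizer (P : Set ↥K) := by rw [hL]; exact inf_le_left
  have hL2 : L ≤ (Subgroup.normalizer (Qb : Set B)).comap f := by rw [hL]; exact inf_le_right
  have hj0 : ∀ x : ↥L, (K.subtype.comp L.subtype) x ∈ Subgroup.normalizer (P' : Set G) := by
    intro x
    have hx : (x : ↥K) ∈ Subgroup.normalizer (P : Set ↥K) := hL1 x.2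
    rw [hP']
    exact Subgroup.le_normalizer_map K.subtype ⟨(x : ↥K), hx, rfl⟩
  have hρ0 : ∀ x : ↥L, (f.comp L.subtype) x ∈ Subgroup.normalizer (Qb : Set B) := by
    intro x
    exact hL2 x.2
  have hρs : Function.Surjective ((f.comp L.subtype).codRestrict _ hρ0) := by
    rintro ⟨y, hy⟩
    obtain ⟨x, hx, rfl⟩ := hPN hy
    have hxL : x ∈ L := by
      rw [hL]
      exact Subgroup.mem_inf.mpr ⟨hx, Subgroup.mem_comap.mpr hy⟩
    exact ⟨⟨x, hxL⟩, rfl⟩
  refine involves_of_hom_surj
    ((QuotientGroup.mk' ((Subgroup.centralizer (P' : Set G)).subgroupOf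
      (Subgroup.normalizer (P' : Set G)))).comp ((K.subtype.comp L.subtype).codRestrict _ hj0))
    ((QuotientGroup.mk' ((Subgroup.centralizer (Qb : Set B)).subgroupOf
      (Subgroup.normalizer (Qb : Set B)))).comp ((f.comp L.subtype).codRestrict _ hρ0))
    ((QuotientGroup.mk'_surjective _).comp hρs) ?_ hinv
  intro x hx
  rw [MonoidHom.mem_ker, MonoidHom.comp_apply, QuotientGroup.mk'_apply, QuotientGroup.eq_one_iff,
    Subgroup.mem_subgroupOf] at hx ⊢
  simp only [MonoidHom.codRestrict_apply, MonoidHom.coe_comp, Function.comp_apply,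
    Subgroup.coe_subtype] at hx ⊢
  rw [Subgroup.mem_centralizer_iff] at hx ⊢
  intro t ht
  rw [← hPmap] at ht
  obtain ⟨q, hq, rfl⟩ := ht
  have h1 := hx (q : G) (by rw [hP']; exact ⟨q, hq, rfl⟩)
  have h2 : q * (x : ↥K) = (x : ↥K) * q := Subtype.ext (by simpa using h1)
  rw [← map_mul, ← map_mul, h2]

end Sec

end Cfsg.Agent.Lib.Helper10.KS
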