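import Mathlib
import Cfsg.Agent.Lib.Helper10.KS1

set_option autoImplicit false

/-! `AutFree` groups are `p`-stable in the normalizer form (relative version of `NPStab1`). -/

universe u

namespace Cfsg.Agent.Lib.Helper10.KS

open scoped Pointwise commutatorElement
open Cfsg.Agent.Lib.Helper5 Cfsg.Agent.Lib.Helper13 Cfsg.Agent.Lib.Helper10.NPStab

section Core

variable {p : ℕ} [Fact p.Prime]

theorem quad_normal_pgroup_rel {Y : Type u} [Group Y] [Finite Y] (C : Subgroup Y)
    (habs : ∀ (M : Subgroup Y) [M.Normal], C ≤ M → AbsPStable p (Y ⧸ M)) :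
    ∀ (n : ℕ) (P₀ : Subgroup Y) [P₀.Normal], IsPGroup p ↥P₀ → Nat.card ↥P₀ ≤ n →
      C ≤ Subgroup.centralizer (P₀ : Set Y) → ∀ g : Y, ⁅⁅P₀, Subgroup.zpowers g⁆, Subgroup.zpowers g⁆ = ⊥ →
      ∃ D : Subgroup Y, D.Normal ∧ Subgroup.centralizer (P₀ : Set Y) ≤ D ∧ g ∈ D ∧
        ∀ y ∈ D, ∃ k : ℕ, y ^ (p ^ k) ∈ Subgroup.centralizer (P₀ : Set Y) := by
  intro n
  induction n using Nat.strong_induction_on with
  | _ n IH =>
  intro P₀ hP₀n hP₀ hcard hCP g hq
  by_cases hbot : P₀ = ⊥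
  · refine ⟨⊤, inferInstance, le_top, Subgroup.mem_top _, fun y _ => ⟨0, ?_⟩⟩
    rw [hbot, Subgroup.mem_centralizer_iff]
    intro t ht
    have : t = 1 := ht
    rw [this]; simp
  · -- the Frattini subgroup of `P₀`
    obtain ⟨Φ, hΦ⟩ : ∃ Φ : Subgroup Y, Φ = (frattini ↥P₀).map P₀.subtype := ⟨_, rfl⟩
    haveI hΦn : Φ.Normal := by rw [hΦ]; infer_instance
    have hΦP : Φ ≤ P₀ := by rw [hΦ]; exact Subgroup.map_subtype_le _
    have hΦp : IsPGroup p ↥Φ := hP₀.to_le hΦP
    haveI : Nontrivial ↥P₀ := by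
      rw [Subgroup.nontrivial_iff_ne_bot]; exact hbot
    have hΦlt : Nat.card ↥Φ < Nat.card ↥P₀ := by
      have hne : frattini ↥P₀ ≠ ⊤ := by
        obtain ⟨M, hM⟩ := (eq_top_or_exists_le_coatom (⊥ : Subgroup ↥P₀)).resolve_left bot_ne_top
        intro h
        have := frattini_le_coatom hM.1
        rw [h] at this
        exact hM.1.1 (top_le_iff.mp this)
      have h1 : Nat.card ↥Φ = Nat.card ↥(frattini ↥P₀) := by
        rw [hΦ]
        exact Nat.card_congr ((frattini ↥P₀).equivMapOfInjective _ P₀.subtype_injective).symm.toEquiv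
      rw [h1]
      by_contra hle
      push Not at hle
      apply hne
      apply Subgroup.eq_top_of_card_eq
      exact le_antisymm (Subgroup.card_le_card_group _) hle
    have hqΦ : ⁅⁅Φ, Subgroup.zpowers g⁆, Subgroup.zpowers g⁆ = ⊥ := by
      rw [eq_bot_iff, ← hq]
      exact Subgroup.commutator_mono (Subgroup.commutator_mono hΦP le_rfl) le_rfl
    obtain ⟨D₁, hD₁n, hCD₁, hgD₁, hD₁p⟩ := IH (Nat.card ↥Φ) (by omega) Φ hΦp le_rfl
      (hCP.trans (Subgroup.centralizer_le hΦP)) g hqΦ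
    -- the elementary abelian section `P₀ / Φ`
    haveI hsk := Cfsg.Agent.Lib.Helper5.sectionKernel_normal P₀ Φ
    have hCsk : Subgroup.centralizer (P₀ : Set Y) ≤ Cfsg.sectionKernel P₀ Φ := by
      intro c hc
      rw [mem_sectionKernel_iff]
      intro t ht
      have := Subgroup.mem_centralizer_iff.mp hc t ht
      have e : c * t * c⁻¹ * t⁻¹ = 1 := by
        rw [← this]; group
      rw [e]; exact Subgroup.one_mem _
    have hΓ : Cfsg.Agent.Lib.Helper5.AbsPStable p (Y ⧸ Cfsg.sectionKernel P₀ Φ) :=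
      habs (Cfsg.sectionKernel P₀ Φ) (hCP.trans hCsk)
    have hsec : Cfsg.IsPStableOnSection p P₀ Φ := by
      apply Cfsg.Agent.Lib.Helper5.pstableOnSection_of P₀ Φ _ _ hΓ
      · rw [Subgroup.commutator_le]
        intro k₁ hk₁ k₂ hk₂
        have h1 := Cfsg.Agent.Lib.Helper1.pgroup_commutator_le_frattini
          (G := ↥P₀) (IsPGroup.of_equiv hP₀ (MulEquiv.refl _))
        have h3 : ⁅(⟨k₁, hk₁⟩ : ↥P₀), ⟨k₂, hk₂⟩⁆ ∈ commutator ↥P₀ :=
          Subgroup.commutator_mem_commutator (Subgroup.mem_top _) (Subgroup.mem_top _)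
        rw [hΦ]
        exact ⟨_, h1 h3, rfl⟩
      · intro k hk
        have h1 := Cfsg.Agent.Lib.Helper1.pgroup_pow_mem_frattini
          (G := ↥P₀) (IsPGroup.of_equiv hP₀ (MulEquiv.refl _)) ⟨k, hk⟩
        rw [hΦ]
        exact ⟨_, h1, rfl⟩
    obtain ⟨D₂, hD₂n, hskD₂, ⟨k₂, hk₂⟩, hgD₂⟩ := hsec g (by rw [hq]; exact bot_le)
    refine ⟨D₁ ⊓ D₂, inferInstance, ?_, Subgroup.mem_inf.mpr ⟨hgD₁, hgD₂⟩, ?_⟩
    · apply le_inf
      · exact (Subgroup.centralizer_le hΦP).trans hCD₁
      · refine le_trans ?_ hskD₂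
        intro c hc
        rw [mem_sectionKernel_iff]
        intro t ht
        have := Subgroup.mem_centralizer_iff.mp hc t ht
        have e : c * t * c⁻¹ * t⁻¹ = 1 := by
          rw [← this]; group
        rw [e]; exact Subgroup.one_mem _
    · intro y hy
      obtain ⟨k₁, hk₁⟩ := hD₁p y (Subgroup.mem_inf.mp hy).1
      have hy2 : y ^ (p ^ k₂) ∈ Cfsg.sectionKernel P₀ Φ := by
        have hyD₂ := (Subgroup.mem_inf.mp hy).2
        haveI : ((Cfsg.sectionKernel P₀ Φ).subgroupOf D₂).Normal := inferInstance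
        have h1 : Nat.card (↥D₂ ⧸ (Cfsg.sectionKernel P₀ Φ).subgroupOf D₂) = p ^ k₂ := by
          rw [← hk₂]; rfl
        have h3 := pow_card_eq_one'
          (x := (QuotientGroup.mk (⟨y, hyD₂⟩ : ↥D₂) : ↥D₂ ⧸ (Cfsg.sectionKernel P₀ Φ).subgroupOf D₂))
        rw [h1, ← QuotientGroup.mk_pow, QuotientGroup.eq_one_iff, Subgroup.mem_subgroupOf] at h3
        simpa using h3
      obtain ⟨c, hc⟩ := IsPGroup.iff_card.mp hΦp
      refine ⟨k₁ + k₂ + c, ?_⟩
      have hz1 : y ^ (p ^ (k₁ + k₂)) ∈ Subgroup.centralizer (Φ : Set Y) := by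
        rw [pow_add, pow_mul]
        exact Subgroup.pow_mem _ hk₁ _
      have hz2 : y ^ (p ^ (k₁ + k₂)) ∈ Cfsg.sectionKernel P₀ Φ := by
        rw [pow_add, mul_comm, pow_mul]
        exact Subgroup.pow_mem _ hy2 _
      have := pow_card_mem_centralizer_of_two_step (P₀ := P₀) (Φ := Φ) _ hz1
        (mem_sectionKernel_iff.mp hz2)
      rw [hc, ← pow_mul, ← pow_add] at this
      exact this

/-- If all quotients of the normalizers of `p`-subgroups are abstractly `p`-stable, the group is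
`p`-stable in the normalizer form. -/
theorem isNormalizerPStable_of_abs_rel {Γ : Type u} [Group Γ] [Finite Γ]
    (h2 : ∀ P : Subgroup Γ, IsPGroup p ↥P → P ≠ ⊥ →
      ∀ (M : Subgroup ↥(Subgroup.normalizer (P : Set Γ))) [M.Normal],
      (Subgroup.centralizer (P : Set Γ)).subgroupOf (Subgroup.normalizer (P : Set Γ)) ≤ M →
      AbsPStable p (↥(Subgroup.normalizer (P : Set Γ)) ⧸ M)) : Cfsg.IsNormalizerPStable p Γ := by
  intro P hP g hg hq
  by_cases hPb : P = ⊥
  · have h1 : (QuotientGroup.mk (s := (Subgroup.centralizer (P : Set Γ)).subgroupOf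
        (Subgroup.normalizer (P : Set Γ))) (⟨g, hg⟩ : ↥(Subgroup.normalizer (P : Set Γ)))) = 1 := by
      rw [QuotientGroup.eq_one_iff, Subgroup.mem_subgroupOf, Subgroup.mem_centralizer_iff]
      intro t ht
      rw [hPb] at ht
      have : t = 1 := ht
      rw [this]; simp
    rw [h1]
    exact Subgroup.one_mem _
  have hY2 := h2 P hP hPb
  haveI hP₀n : (P.subgroupOf (Subgroup.normalizer (P : Set Γ))).Normal :=
    Subgroup.normal_in_normalizer
  have hP₀ : IsPGroup p ↥(P.subgroupOf (Subgroup.normalizer (P : Set Γ))) := hP.comap_subtype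
  have hmapP : (P.subgroupOf (Subgroup.normalizer (P : Set Γ))).map
      (Subgroup.normalizer (P : Set Γ)).subtype = P :=
    Subgroup.map_subgroupOf_eq_of_le Subgroup.le_normalizer
  have hq' : ⁅⁅P.subgroupOf (Subgroup.normalizer (P : Set Γ)),
      Subgroup.zpowers (⟨g, hg⟩ : ↥(Subgroup.normalizer (P : Set Γ)))⁆,
      Subgroup.zpowers (⟨g, hg⟩ : ↥(Subgroup.normalizer (P : Set Γ)))⁆ = ⊥ := by
    apply Subgroup.map_injective (Subgroup.normalizer (P : Set Γ)).subtype_injective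
    rw [Subgroup.map_commutator, Subgroup.map_commutator, hmapP, MonoidHom.map_zpowers,
      Subgroup.map_bot]
    exact hq
  -- the two descriptions of the centralizer agree
  have hCeq : (Subgroup.centralizer (P : Set Γ)).subgroupOf (Subgroup.normalizer (P : Set Γ)) =
      Subgroup.centralizer ((P.subgroupOf (Subgroup.normalizer (P : Set Γ)) :
        Subgroup ↥(Subgroup.normalizer (P : Set Γ))) : Set ↥(Subgroup.normalizer (P : Set Γ))) := by
    ext y
    rw [Subgroup.mem_subgroupOf, Subgroup.mem_centralizer_iff, Subgroup.mem_centralizer_iff]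
    constructor
    · intro h t ht
      apply Subtype.ext
      exact h (t : Γ) (Subgroup.mem_subgroupOf.mp ht)
    · intro h t ht
      have := h ⟨t, Subgroup.le_normalizer ht⟩ (Subgroup.mem_subgroupOf.mpr ht)
      exact congrArg Subtype.val this
  haveI hCn : ((Subgroup.centralizer (P : Set Γ)).subgroupOf
      (Subgroup.normalizer (P : Set Γ))).Normal := by
    rw [hCeq]; infer_instance
  obtain ⟨D, hDn, hCD, hgD, hDp⟩ := quad_normal_pgroup_rel
    ((Subgroup.centralizer (P : Set Γ)).subgroupOf (Subgroup.normalizer (P : Set Γ)))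
    (fun M _ hM => hY2 M hM) _
    (P.subgroupOf (Subgroup.normalizer (P : Set Γ))) hP₀ le_rfl (le_of_eq hCeq) ⟨g, hg⟩ hq'
  have hnorm : (D.map (QuotientGroup.mk' ((Subgroup.centralizer (P : Set Γ)).subgroupOf
      (Subgroup.normalizer (P : Set Γ))))).Normal :=
    Subgroup.Normal.map hDn _ (QuotientGroup.mk'_surjective _)
  have hpg : IsPGroup p ↥(D.map (QuotientGroup.mk' ((Subgroup.centralizer (P : Set Γ)).subgroupOf
      (Subgroup.normalizer (P : Set Γ))))) := by
    rintro ⟨_, ⟨y, hy, rfl⟩⟩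
    obtain ⟨k, hk⟩ := hDp y hy
    refine ⟨k, ?_⟩
    apply Subtype.ext
    rw [Subgroup.coe_pow, Subgroup.coe_one]
    show (QuotientGroup.mk' _ y) ^ (p ^ k) = 1
    rw [← map_pow]
    apply (QuotientGroup.eq_one_iff _).mpr
    rw [hCeq]
    exact hk
  exact Cfsg.Agent.Lib.Helper1.le_pCore hnorm hpg ⟨⟨g, hg⟩, hgD, rfl⟩


/-- `AutFree` groups (`p` odd) are `p`-stable in the normalizer form. -/
theorem autFree_nps (hp : p ≠ 2) {G : Type u} [Group G] [Finite G] (h : AutFree p G) :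
    Cfsg.IsNormalizerPStable p G := by
  apply isNormalizerPStable_of_abs_rel
  intro P hP _ M hM hCM
  apply absPStable_of_sl2free hp
  intro hinv
  apply h P hP
  refine involves_of_hom_surj
    (QuotientGroup.mk' ((Subgroup.centralizer (P : Set G)).subgroupOf
      (Subgroup.normalizer (P : Set G))))
    (QuotientGroup.mk' M) (QuotientGroup.mk'_surjective _) ?_ hinv
  rw [QuotientGroup.ker_mk', QuotientGroup.ker_mk']
  exact hCM

end Core

end Cfsg.Agent.Lib.Helper10.KS
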