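import Mathlib
import Cfsg.Agent.Lib.Helper10.KS2
import Cfsg.Agent.Lib.Helper10.KF8
import Cfsg.Agent.Lib.Helper13.SecFusI

set_option autoImplicit false

/-! In an `AutFree` group the normalizer of `Kf(P)` controls strong fusion in the Sylow
`p`-subgroup `P`. -/

universe u

namespace Cfsg.Agent.Lib.Helper10.KS

open scoped Pointwise
open Cfsg.Agent.Lib.Helper13 Cfsg.Agent.Lib.Helper10.KF Cfsg.Agent.Lib.Helper10.ZJfree

section SecAllMore

variable {Pr : ∀ (Q : Type u) [Group Q], Prop}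

theorem secAll_section {G : Type u} [Group G] (h : SecAll Pr G) (K : Subgroup G)
    {B : Type u} [Group B] (f : ↥K →* B) (hf : Function.Surjective f) : SecAll Pr B := by
  intro Q _ _ ⟨K', f', hf'⟩
  apply secAll_subgroup h K Q
  refine ⟨K'.comap f, f'.comp (f.subgroupComap K'), ?_⟩
  exact hf'.comp (MonoidHom.subgroupComap_surjective_of_surjective _ K' hf)

end SecAllMore

section Ctl

variable {p : ℕ} [Fact p.Prime]

theorem secAll_nps_of_autFree (hp : p ≠ 2) {G : Type u} [Group G] [Finite G] (h : AutFree p G) :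
    SecAll (fun (Q : Type u) [Group Q] => Cfsg.IsNormalizerPStable p Q) G := by
  intro Q _ _ ⟨K, f, hf⟩
  exact autFree_nps hp (autFree_section h K f hf)

theorem hW_Kf (hp : p ≠ 2) :
    ∀ W' ∈ ({Kf p} : Set (∀ (Q : Type u) [Group Q], Subgroup Q)),
      Cfsg.IsCharPFunctor.{u} p W' := by
  intro W' hW'
  rw [Set.mem_singleton_iff] at hW'
  rw [hW']; exact isCharPFunctor_Kf hp

theorem fcs_Kf_of_autFree (hp : p ≠ 2) (G : Type u) [Group G] [Finite G] (h : AutFree p G) :
    FCS p {Kf p} G := by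
  apply sec_main (hW_Kf hp) _ G rfl
  rintro Q _ _ ⟨K, f, hf⟩ hc
  apply fcs_singleton_of_normal
  intro T
  exact inducedFunctor_Kf_normal hp ⟨hc, secAll_section (secAll_nps_of_autFree hp h) K f hf⟩
    (T : Subgroup Q) T.isPGroup' T.not_dvd_index

/-- Control of strong fusion by `N_G(Kf(P))` in the factorized form. -/
theorem controls_Kf (hp : p ≠ 2) {G : Type u} [Group G] [Finite G] (h : AutFree p G)
    (P : Sylow p G) (A : Subgroup G) (hA : A ≤ (P : Subgroup G)) (g : G)
    (hg : A.map (MulAut.conj g).toMonoidHom ≤ (P : Subgroup G)) :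
    ∃ n ∈ Subgroup.normalizer
        ((Cfsg.inducedFunctor (G := G) (Kf p) (P : Subgroup G) : Subgroup G) : Set G),
      ∃ c ∈ Subgroup.centralizer (A : Set G), g = n * c := by
  have hfcs := fcs_Kf_of_autFree hp G h
  have hi : ¬ p ∣ (P : Subgroup G).relIndex ⊤ := by
    rw [Subgroup.relIndex_top_right]; exact P.not_dvd_index
  have hA' : (fun a => g * a * g⁻¹) '' (A : Set G) ⊆ ((P : Subgroup G) : Set G) := by
    rintro _ ⟨a, ha, rfl⟩
    exact hg ⟨a, ha, by simp [MulAut.conj_apply]⟩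
  obtain ⟨c, hc, hca⟩ := family_fusion_of_sylow (indFam_isConjugacyFunctor (hW_Kf hp) G) hfcs
    le_top P.isPGroup' hi (A : Set G) g (Subgroup.mem_top _) hA hA'
  have hcN := (Subgroup.mem_inf.mp (freach_singleton_mem (Kf p) hc)).2
  refine ⟨c, hcN, c⁻¹ * g, ?_, by group⟩
  rw [Subgroup.mem_centralizer_iff]
  intro a ha
  have h1 := hca a ha
  calc a * (c⁻¹ * g) = c⁻¹ * (c * a * c⁻¹) * g := by group
    _ = c⁻¹ * (g * a * g⁻¹) * g := by rw [h1]
    _ = c⁻¹ * g * a := by group

end Ctl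

end Cfsg.Agent.Lib.Helper10.KS
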