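import Mathlib
import Cfsg.Agent.Lib.Helper10.KS4
import Cfsg.Agent.Lib.Helper22.Burnside
import Cfsg.Agent.Lib.Helper1.NPC

set_option autoImplicit false

/-! The normal `p`-complement of the centralizer of a centric subgroup. -/

namespace Cfsg.Agent.Lib.Helper10.KS

open scoped Pointwise
open Cfsg.Agent.Lib.Helper13

section Burn

variable {p : ℕ} [hp : Fact p.Prime]

set_option maxHeartbeats 1600000 in
/-- If the Sylow `p`-subgroup `P` normalizes `U` and `C_P(U) ≤ U`, then `C_G(U)` has a normal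
`p`-complement `D`, normalized by `N_G(U)`. -/
theorem centralizer_pcomplement {G : Type*} [Group G] [Finite G] (P : Sylow p G)
    (U : Subgroup G) (hPN : (P : Subgroup G) ≤ Subgroup.normalizer (U : Set G))
    (hcent : (P : Subgroup G) ⊓ Subgroup.centralizer (U : Set G) ≤ U) :
    ∃ D : Subgroup G, D ≤ Subgroup.centralizer (U : Set G) ∧
      (∀ x, x ∈ D ↔ x ∈ Subgroup.centralizer (U : Set G) ∧ (orderOf x).Coprime p) ∧
      (Nat.card ↥D).Coprime p ∧ Subgroup.normalizer (U : Set G) ≤ Subgroup.normalizer (D : Set G) ∧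
      Subgroup.centralizer (U : Set G) ≤ ((P : Subgroup G) ⊓ Subgroup.centralizer (U : Set G)) ⊔ D := by
  obtain ⟨N, hNdef⟩ : ∃ N : Subgroup G, N = Subgroup.normalizer (U : Set G) := ⟨_, rfl⟩
  obtain ⟨C, hCdef⟩ : ∃ C : Subgroup G, C = Subgroup.centralizer (U : Set G) := ⟨_, rfl⟩
  rw [← hNdef] at hPN ⊢
  rw [← hCdef] at hcent ⊢
  have hCN : C ≤ N := by
    rw [hCdef, hNdef]; exact Subgroup.centralizer_le_normalizer _
  -- (1) `N` normalizes `C`
  have hconjC : ∀ n ∈ N, ∀ d ∈ C, n * d * n⁻¹ ∈ C := by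
    intro n hn d hd
    rw [hCdef, Subgroup.mem_centralizer_iff]
    intro u hu
    have hn' : n⁻¹ ∈ Subgroup.normalizer (U : Set G) := by
      rw [← hNdef]; exact Subgroup.inv_mem _ hn
    have hu' : n⁻¹ * u * n⁻¹⁻¹ ∈ U := (Subgroup.mem_normalizer_iff.mp hn' u).mp hu
    rw [inv_inv] at hu'
    have hd' := hd
    rw [hCdef, Subgroup.mem_centralizer_iff] at hd'
    have h1 := hd' _ hu'
    calc u * (n * d * n⁻¹) = n * ((n⁻¹ * u * n) * d) * n⁻¹ := by group
      _ = n * (d * (n⁻¹ * u * n)) * n⁻¹ := by rw [h1]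
      _ = n * d * n⁻¹ * u := by group
  have hNC : N ≤ Subgroup.normalizer (C : Set G) := by
    intro n hn
    rw [Subgroup.mem_normalizer_iff]
    intro d
    constructor
    · exact hconjC n hn d
    · intro hd
      have := hconjC n⁻¹ (Subgroup.inv_mem _ hn) _ hd
      have e : n⁻¹ * (n * d * n⁻¹) * n⁻¹⁻¹ = d := by group
      rwa [e] at this
  -- (2) elements of `P ⊓ C` are central in `C`
  have hcentral : ∀ x ∈ (P : Subgroup G) ⊓ C, ∀ d ∈ C, x * d = d * x := by
    intro x hx d hd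
    have hxU := hcent hx
    rw [hCdef, Subgroup.mem_centralizer_iff] at hd
    exact hd x hxU
  -- (3) `P ⊓ C` is a Sylow `p`-subgroup of `C`
  have hPNi : ¬ p ∣ (P : Subgroup G).relIndex N := fun hd =>
    P.not_dvd_index (hd.trans (Subgroup.relIndex_dvd_index_of_le hPN))
  have hsylC : ¬ p ∣ ((P : Subgroup G) ⊓ C).relIndex C :=
    not_dvd_relIndex_inf_of_normal hCN hNC hPNi
  have hZp : IsPGroup p ↥((P : Subgroup G) ⊓ C) := P.isPGroup'.to_le inf_le_left
  -- (4) every `p`-element of `C` is central in `C`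
  have hpcentral : ∀ R : Subgroup G, R ≤ C → IsPGroup p R → ∀ q ∈ R, ∀ d ∈ C, q * d = d * q := by
    intro R hRC hRp q hq d hd
    obtain ⟨c, hc, hle⟩ := exists_mem_cj_le_of_relIndex (p := p)
      (inf_le_right : (P : Subgroup G) ⊓ C ≤ C) hZp hsylC hRC hRp
    have h1 : c * q * c⁻¹ ∈ (P : Subgroup G) ⊓ C := hle ⟨q, hq, by simp [MulAut.conj_apply]⟩
    have h2 := hcentral _ h1 c hc
    have h3 : c * q * c⁻¹ = q := by
      have e1 : c * q * c⁻¹ * c = c * q := by group
      rw [e1] at h2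
      exact (mul_left_cancel h2).symm
    rw [h3] at h1
    exact hcentral q h1 d hd
  -- (5) Burnside in `C`
  obtain ⟨Q⟩ : Nonempty (Sylow p ↥C) := inferInstance
  have hNCQ : Subgroup.normalizer ((Q : Subgroup ↥C) : Set ↥C) ≤
      Subgroup.centralizer ((Q : Subgroup ↥C) : Set ↥C) := by
    intro g _
    rw [Subgroup.mem_centralizer_iff]
    intro q hq
    apply Subtype.ext
    simp only [Subgroup.coe_mul]
    exact hpcentral ((Q : Subgroup ↥C).map C.subtype) (Subgroup.map_subtype_le _)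
      (Q.isPGroup'.map _) (q : G) ⟨q, hq, rfl⟩ (g : G) g.2
  obtain ⟨Y₀, hY₀n, hY₀c, hY₀mem⟩ := Cfsg.Agent.Lib.Helper22.burnside_type p Q hNCQ
  have hY₀cop : (Nat.card Y₀).Coprime p :=
    Cfsg.Agent.Lib.Helper1.card_coprime_of_isComplement'_sylow Q hY₀c
  obtain ⟨D, hDdef⟩ : ∃ D : Subgroup G, D = Y₀.map C.subtype := ⟨_, rfl⟩
  have hDC : D ≤ C := by rw [hDdef]; exact Subgroup.map_subtype_le _
  have hDmem : ∀ x, x ∈ D ↔ x ∈ C ∧ (orderOf x).Coprime p := by
    intro x
    rw [hDdef]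
    constructor
    · rintro ⟨y, hy, rfl⟩
      have h1 := (hY₀mem y).mp hy
      refine ⟨y.2, ?_⟩
      have h2 : orderOf ((C.subtype y : G)) = orderOf y := Subgroup.orderOf_coe y
      rw [h2]; exact h1
    · rintro ⟨hxC, hxo⟩
      refine ⟨⟨x, hxC⟩, ?_, rfl⟩
      show (⟨x, hxC⟩ : ↥C) ∈ Y₀
      rw [hY₀mem, ← Subgroup.orderOf_coe]
      exact hxo
  have hDcard : Nat.card ↥D = Nat.card ↥Y₀ := by
    rw [hDdef]
    exact Nat.card_congr (Y₀.equivMapOfInjective _ C.subtype_injective).symm.toEquiv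
  have hDcop : (Nat.card ↥D).Coprime p := by rw [hDcard]; exact hY₀cop
  have hND : N ≤ Subgroup.normalizer (D : Set G) := by
    intro n hn
    apply mem_normalizer_of_cj_le
    rintro _ ⟨x, hx, rfl⟩
    have hx' := (hDmem x).mp hx
    rw [hDmem]
    simp only [MulEquiv.coe_toMonoidHom, MulAut.conj_apply]
    refine ⟨hconjC n hn x hx'.1, ?_⟩
    have h1 : orderOf (n * x * n⁻¹) = orderOf x := by
      have := orderOf_injective (MulAut.conj n).toMonoidHom (MulAut.conj n).injective x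
      simpa [MulAut.conj_apply] using this
    rw [h1]
    exact hx'.2
  refine ⟨D, hDC, hDmem, hDcop, hND, ?_⟩
  -- (6) `C = (P ⊓ C) D` by counting
  obtain ⟨Z, hZdef⟩ : ∃ Z : Subgroup G, Z = (P : Subgroup G) ⊓ C := ⟨_, rfl⟩
  rw [← hZdef] at hsylC hZp ⊢
  have hZC : Z ≤ C := by rw [hZdef]; exact inf_le_right
  have hZD : Z ≤ Subgroup.normalizer (D : Set G) := hZC.trans (hCN.trans hND)
  have hle : Z ⊔ D ≤ C := sup_le hZC hDC
  have hdisj : D ⊓ Z = ⊥ := by
    have hcop : (Nat.card ↥D).Coprime (Nat.card ↥Z) := by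
      obtain ⟨m, hm⟩ := IsPGroup.iff_card.mp hZp
      rw [hm]
      exact Nat.Coprime.pow_right _ hDcop
    exact (Subgroup.disjoint_of_coprime_natCard hcop).eq_bot
  have hcard1 : Nat.card ↥(Z ⊔ D) = Nat.card ↥D * Nat.card ↥Z := by
    have h1 := card_mul_relIndex_of_le (le_sup_right : D ≤ Z ⊔ D)
    rw [relIndex_sup_of_le_normalizer hZD, ← Subgroup.inf_relIndex_right, hdisj,
      Subgroup.relIndex_bot_left] at h1
    exact h1.symm
  have hcard2 : Nat.card ↥Y₀ * Nat.card ↥(Q : Subgroup ↥C) = Nat.card ↥C := hY₀c.card_mul_card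
  have hcard3 : Nat.card ↥(Q : Subgroup ↥C) ∣ Nat.card ↥Z := by
    have h1 := card_dvd_card_of_not_dvd_relIndex (p := p) hZC hZp hsylC
      (Subgroup.map_subtype_le (Q : Subgroup ↥C)) (Q.isPGroup'.map _)
    have h2 : Nat.card ↥((Q : Subgroup ↥C).map C.subtype) = Nat.card ↥(Q : Subgroup ↥C) :=
      Nat.card_congr ((Q : Subgroup ↥C).equivMapOfInjective _ C.subtype_injective).symm.toEquiv
    rwa [h2] at h1
  have hge : Nat.card ↥C ≤ Nat.card ↥(Z ⊔ D) := by
    rw [hcard1, ← hcard2, hDcard]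
    exact Nat.mul_le_mul_left _ (Nat.le_of_dvd Nat.card_pos hcard3)
  exact le_of_eq (Subgroup.eq_of_le_of_card_ge hle hge).symm

end Burn

end Cfsg.Agent.Lib.Helper10.KS
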