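import Mathlib
import Cfsg.Agent.Lib.Helper10.KS3
import Cfsg.Agent.Lib.Helper10.KS5
import Cfsg.Agent.Lib.helper17.QdStab11
import Cfsg.Agent.Lib.Helper5.PConstr

set_option autoImplicit false

/-! In a `Qd(p)`-free group (`p` odd) the normalizer of `Kf(P)` controls strong fusion in the Sylow
`p`-subgroup `P`, and this normalizer is `p`-constrained. -/

universe u

namespace Cfsg.Agent.Lib.Helper10.KS

open scoped Pointwise
open Cfsg.Agent.Lib.Helper13 Cfsg.Agent.Lib.Helper10.KF Cfsg.Agent.Lib.Helper10.ZJfree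

section CtlQd

variable {p : ℕ} [Fact p.Prime]

theorem secAll_nps_of_qdfree (hp : p ≠ 2) {G : Type u} [Group G] [Finite G]
    (h : ¬ Cfsg.Involves ↥(Cfsg.qd p) G) :
    SecAll (fun (Q : Type u) [Group Q] => Cfsg.IsNormalizerPStable p Q) G := by
  intro Q _ _ ⟨K, f, hf⟩
  apply Cfsg.Agent.Lib.helper17.QdStab11.qdfree_nps hp
  intro hi
  exact h (Cfsg.Agent.Lib.Helper10.NPStab.involves_of_inj_surj_trans K.subtype
    K.subtype_injective f hf hi)

theorem fcs_Kf_of_secAll (hp : p ≠ 2) (G : Type u) [Group G] [Finite G]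
    (h : SecAll (fun (Q : Type u) [Group Q] => Cfsg.IsNormalizerPStable p Q) G) :
    FCS p {Kf p} G := by
  apply sec_main (hW_Kf hp) _ G rfl
  rintro Q _ _ ⟨K, f, hf⟩ hc
  apply fcs_singleton_of_normal
  intro T
  exact inducedFunctor_Kf_normal hp ⟨hc, secAll_section h K f hf⟩
    (T : Subgroup Q) T.isPGroup' T.not_dvd_index

/-- Control of strong fusion by `N_G(Kf(P))`, for subsets. -/
theorem controls_Kf_set (hp : p ≠ 2) {G : Type u} [Group G] [Finite G]
    (h : SecAll (fun (Q : Type u) [Group Q] => Cfsg.IsNormalizerPStable p Q) G)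
    (P : Sylow p G) (A : Set G) (hA : A ⊆ ((P : Subgroup G) : Set G)) (g : G)
    (hg : (fun a => g * a * g⁻¹) '' A ⊆ ((P : Subgroup G) : Set G)) :
    ∃ n ∈ Subgroup.normalizer
        ((Cfsg.inducedFunctor (G := G) (Kf p) (P : Subgroup G) : Subgroup G) : Set G),
      ∀ a ∈ A, n * a * n⁻¹ = g * a * g⁻¹ := by
  have hfcs := fcs_Kf_of_secAll hp G h
  have hi : ¬ p ∣ (P : Subgroup G).relIndex ⊤ := by
    rw [Subgroup.relIndex_top_right]; exact P.not_dvd_index
  obtain ⟨c, hc, hca⟩ := family_fusion_of_sylow (indFam_isConjugacyFunctor (hW_Kf hp) G) hfcs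
    le_top P.isPGroup' hi A g (Subgroup.mem_top _) hA hg
  have hcN := (Subgroup.mem_inf.mp (freach_singleton_mem (Kf p) hc)).2
  exact ⟨c, hcN, hca⟩

end CtlQd

section Constr

variable {p : ℕ} [Fact p.Prime]

theorem isPConstrained_of_normal_pgroup {X : Type*} [Group X] [Finite X] (K D₀ : Subgroup X)
    [hKn : K.Normal] [hDn : D₀.Normal] (hK : IsPGroup p K) (hD₀ : (Nat.card D₀).Coprime p)
    (hc : Subgroup.centralizer (K : Set X) ≤ K ⊔ D₀) : Cfsg.IsPConstrained p X := by
  intro P'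
  have hK1 : K ≤ Cfsg.pPrimePCore p X :=
    (Cfsg.Agent.Lib.Helper1.le_pCore hKn hK).trans Cfsg.Agent.Lib.Helper5.h5_pCore_le_pPrimePCore
  have hD1 : D₀ ≤ Cfsg.pPrimePCore p X :=
    (Cfsg.Agent.Lib.Helper1.le_pPrimeCore hDn hD₀).trans
      (Cfsg.Agent.Lib.Helper5.h5_pPrimeCore_le_pPrimePCore p X)
  have hKP : K.subgroupOf (Cfsg.pPrimePCore p X) ≤ (P' : Subgroup ↥(Cfsg.pPrimePCore p X)) :=
    normal_pgroup_le_sylow (K.subgroupOf (Cfsg.pPrimePCore p X)) hK.comap_subtype P'
  have hle : K ≤ (P' : Subgroup ↥(Cfsg.pPrimePCore p X)).map (Cfsg.pPrimePCore p X).subtype := by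
    intro x hx
    exact ⟨⟨x, hK1 hx⟩, hKP (by rw [Subgroup.mem_subgroupOf]; exact hx), rfl⟩
  exact (Subgroup.centralizer_le hle).trans (hc.trans (sup_le hK1 hD1))

set_option maxHeartbeats 800000 in
theorem isPConstrained_normalizer_Kf (hp : p ≠ 2) {G : Type u} [Group G] [Finite G]
    (P : Sylow p G) :
    Cfsg.IsPConstrained p ↥(Subgroup.normalizer
      ((Cfsg.inducedFunctor (G := G) (Kf p) (P : Subgroup G) : Subgroup G) : Set G)) := by
  obtain ⟨U, hUdef⟩ : ∃ U : Subgroup G, U = Cfsg.inducedFunctor (G := G) (Kf p) (P : Subgroup G) :=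
    ⟨_, rfl⟩
  have hPN : (P : Subgroup G) ≤ Subgroup.normalizer (U : Set G) := by
    rw [hUdef]; exact sylow_le_normalizer_Kf hp P.isPGroup'
  have hcent : (P : Subgroup G) ⊓ Subgroup.centralizer (U : Set G) ≤ U := by
    rw [hUdef]; exact centralizer_inducedFunctor_Kf_le hp (P : Subgroup G) P.isPGroup'
  have hUP : U ≤ (P : Subgroup G) := by
    rw [hUdef]
    unfold Cfsg.inducedFunctor
    rw [Subgroup.map_le_iff_le_comap]
    intro x _
    exact x.2
  rw [← hUdef]
  obtain ⟨D, hDC, -, hDcop, hND, hCle⟩ := centralizer_pcomplement P U hPN hcent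
  obtain ⟨N, hNdef⟩ : ∃ N : Subgroup G, N = Subgroup.normalizer (U : Set G) := ⟨_, rfl⟩
  rw [← hNdef] at hPN hND ⊢
  have hUN : U ≤ N := hUP.trans hPN
  have hCN : Subgroup.centralizer (U : Set G) ≤ N := by
    rw [hNdef]; exact Subgroup.centralizer_le_normalizer _
  have hDN : D ≤ N := hDC.trans hCN
  have hKn : (U.subgroupOf N).Normal := by
    rw [hNdef]; exact Subgroup.normal_in_normalizer
  have hDn : (D.subgroupOf N).Normal := (Subgroup.normal_subgroupOf_iff_le_normalizer hDN).mpr hND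
  apply isPConstrained_of_normal_pgroup (U.subgroupOf N) (D.subgroupOf N)
  · exact (P.isPGroup'.to_le hUP).comap_subtype
  · rw [Nat.card_congr (Subgroup.subgroupOfEquivOfLe hDN).toEquiv]
    exact hDcop
  · intro x hx
    have hxC : (x : G) ∈ Subgroup.centralizer (U : Set G) := by
      rw [Subgroup.mem_centralizer_iff]
      intro u hu
      have h1 := (Subgroup.mem_centralizer_iff.mp hx) ⟨u, hUN hu⟩
        (by rw [SetLike.mem_coe, Subgroup.mem_subgroupOf]; exact hu)
      exact congrArg Subtype.val h1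
    have h2 : (x : G) ∈ U ⊔ D := (hCle.trans (sup_le_sup_right hcent D)) hxC
    rw [← Subgroup.subgroupOf_sup hUN hDN, Subgroup.mem_subgroupOf]
    exact h2

end Constr

end Cfsg.Agent.Lib.Helper10.KS
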