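import Mathlib
import Cfsg.Agent.Lib.Helper10.KS9
import Cfsg.Agent.Lib.Helper10.ZJctl3

set_option autoImplicit false

/-! In a `Qd(p)`-free group (`p` odd), with `D` strongly closed in the Sylow `p`-subgroup `P`, the
normalizer of `zfam D` controls strong fusion in `P`. -/

universe u

namespace Cfsg.Agent.Lib.Helper10.KS

open scoped Pointwise
open Cfsg.Agent.Lib.Helper9 Cfsg.Agent.Lib.Helper13 Cfsg.Agent.Lib.Helper10.KF
  Cfsg.Agent.Lib.Helper10.ZJnpc Cfsg.Agent.Lib.Helper10.ZJsc Cfsg.Agent.Lib.Helper10.ZJctl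
  Cfsg.Agent.Lib.Helper10.NPStab

variable {p : ℕ} [Fact p.Prime]

set_option maxHeartbeats 1600000 in
/-- `N_G(zfam D)` controls strong fusion in `P`, for `D` strongly closed in `P`, when `G` is
`Qd(p)`-free and `p` is odd. -/
theorem sc_controls_qdfree {Qf : ∀ (Y : Type u) [Group Y], Subgroup Y → Prop} (hQ : QFam p Qf)
    (hp : p ≠ 2) {G : Type u} [Group G] [Finite G]
    (P : Sylow p G) (D : Subgroup G) (hD : Cfsg.IsStronglyClosed D (P : Subgroup G))
    (hqd : ¬ Cfsg.Involves ↥(Cfsg.qd p) G)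
    (A : Set G) (hA : A ⊆ (P : Subgroup G)) (g : G)
    (hgA : (fun a => g * a * g⁻¹) '' A ⊆ (P : Subgroup G)) :
    ∃ x ∈ Subgroup.normalizer (zfam (Qf G) D : Set G), ∀ a ∈ A, g * a * g⁻¹ = x * a * x⁻¹ := by
  have hsec := secAll_nps_of_qdfree hp hqd
  have hst := Cfsg.Agent.Lib.helper17.QdStab11.qdfree_nps hp hqd
  obtain ⟨n, hn, hna⟩ := controls_Kf_set hp hsec P A hA g hgA
  have hcN := isPConstrained_normalizer_Kf hp P
  have hPN : (P : Subgroup G) ≤ Subgroup.normalizer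
      ((Cfsg.inducedFunctor (G := G) (Kf p) (P : Subgroup G) : Subgroup G) : Set G) :=
    sylow_le_normalizer_Kf hp P.isPGroup'
  obtain ⟨N, hNdef⟩ : ∃ N : Subgroup G, N = Subgroup.normalizer
      ((Cfsg.inducedFunctor (G := G) (Kf p) (P : Subgroup G) : Subgroup G) : Set G) := ⟨_, rfl⟩
  rw [← hNdef] at hn hcN hPN
  have hT₁p : IsPGroup p ((P : Subgroup G).subgroupOf N) := P.isPGroup'.comap_subtype
  have h0 : ¬ p ∣ ((P : Subgroup G).subgroupOf N).index := by
    intro hdvd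
    apply P.not_dvd_index
    have h1 := Subgroup.relIndex_mul_index hPN
    rw [← h1]
    exact Dvd.dvd.mul_right hdvd _
  obtain ⟨SX, hSX⟩ : ∃ SX : Sylow p ↥N, (SX : Subgroup ↥N) = (P : Subgroup G).subgroupOf N :=
    ⟨hT₁p.toSylow h0, IsPGroup.toSylow_coe _ _⟩
  have hDX : Cfsg.IsStronglyClosed (D.subgroupOf N) (SX : Subgroup ↥N) := by
    rw [hSX]
    constructor
    · intro x hx
      rw [Subgroup.mem_subgroupOf] at hx ⊢
      exact hD.1 hx
    · intro x hx m hm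
      rw [Subgroup.mem_subgroupOf] at hx hm ⊢
      simp only [Subgroup.coe_mul, Subgroup.coe_inv] at hm ⊢
      exact hD.2 (x : G) hx (m : G) hm
  have hA' : N.subtype ⁻¹' A ⊆ ((SX : Subgroup ↥N) : Set ↥N) := by
    intro a ha
    rw [SetLike.mem_coe, hSX, Subgroup.mem_subgroupOf]
    exact hA ha
  have hhA' : ∀ a ∈ N.subtype ⁻¹' A,
      (⟨n, hn⟩ : ↥N) * a * (⟨n, hn⟩ : ↥N)⁻¹ ∈ (SX : Subgroup ↥N) := by
    intro a ha
    rw [hSX, Subgroup.mem_subgroupOf]
    simp only [Subgroup.coe_mul, Subgroup.coe_inv]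
    rw [hna (a : G) ha]
    exact hgA ⟨(a : G), ha, rfl⟩
  obtain ⟨x, hx, hxa⟩ := local_control hQ SX (D.subgroupOf N) hDX hcN (nps_subgroup hst N)
    (N.subtype ⁻¹' A) ⟨n, hn⟩ hA' hhA'
  refine ⟨(x : G), ?_, ?_⟩
  · have hzm : zfam (Qf G) ((D.subgroupOf N).map N.subtype) =
        (zfam (Qf ↥N) (D.subgroupOf N)).map N.subtype :=
      zfam_map_of_injOn N.subtype (D.subgroupOf N) N.subtype_injective.injOn (Qf ↥N) (Qf G)
        (hQ.hyp ↥N SX).bot
        (fun B hB => hQ.map ↥N G N.subtype _ B N.subtype_injective.injOn hB)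
    rw [Subgroup.subgroupOf_map_subtype, inf_eq_left.mpr (hD.1.trans hPN)] at hzm
    rw [hzm]
    exact Subgroup.le_normalizer_map N.subtype ⟨x, hx, rfl⟩
  · intro a ha
    have haN : a ∈ N := hPN (hA ha)
    have h1 := hxa ⟨a, haN⟩ ha
    have h2 := congrArg Subtype.val h1
    simp only [Subgroup.coe_mul, Subgroup.coe_inv] at h2
    rw [h2, hna a ha]

end Cfsg.Agent.Lib.Helper10.KS
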