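import Mathlib
import Cfsg.Agent.Lib.Helper10.KS5

set_option autoImplicit false

/-! Subgroups whose normalizer controls strong fusion lie in every centric radical subgroup. -/

namespace Cfsg.Agent.Lib.Helper10.KS

open scoped Pointwise
open Cfsg.Agent.Lib.Helper13

section CtlDef

variable {G : Type*} [Group G]

/-- `N_G(R)` controls strong fusion in `P`, in the factorized form. -/
def Ctl (P R : Subgroup G) : Prop :=
  ∀ A : Subgroup G, A ≤ P → ∀ g : G, A.map (MulAut.conj g).toMonoidHom ≤ P →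
    ∃ h ∈ Subgroup.normalizer (R : Set G), ∃ c ∈ Subgroup.centralizer (A : Set G), g = h * c

theorem Ctl.le_normalizer {P R : Subgroup G} (h : Ctl P R) (hRP : R ≤ P) :
    P ≤ Subgroup.normalizer (R : Set G) := by
  intro x hx
  obtain ⟨n, hn, c, hc, rfl⟩ := h P le_rfl x (by rw [cj_self_of_mem hx])
  have hcR : c ∈ Subgroup.normalizer (R : Set G) :=
    Subgroup.centralizer_le_normalizer _ (Subgroup.centralizer_le hRP hc)
  exact Subgroup.mul_mem _ hn hcR

/-- The normalizer of `U` normalizes the centralizer of `U`. -/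
theorem cj_centralizer_of_mem_normalizer {U : Subgroup G} {n : G}
    (hn : n ∈ Subgroup.normalizer (U : Set G)) :
    (Subgroup.centralizer (U : Set G)).map (MulAut.conj n).toMonoidHom =
      Subgroup.centralizer (U : Set G) := by
  have key : ∀ m ∈ Subgroup.normalizer (U : Set G),
      (Subgroup.centralizer (U : Set G)).map (MulAut.conj m).toMonoidHom ≤
        Subgroup.centralizer (U : Set G) := by
    intro m hm
    rintro _ ⟨d, hd, rfl⟩
    simp only [MulEquiv.coe_toMonoidHom, MulAut.conj_apply]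
    rw [Subgroup.mem_centralizer_iff]
    intro u hu
    have hm' : m⁻¹ ∈ Subgroup.normalizer (U : Set G) := Subgroup.inv_mem _ hm
    have hu' : m⁻¹ * u * m⁻¹⁻¹ ∈ U := (Subgroup.mem_normalizer_iff.mp hm' u).mp hu
    rw [inv_inv] at hu'
    have h1 := Subgroup.mem_centralizer_iff.mp hd _ hu'
    calc u * (m * d * m⁻¹) = m * ((m⁻¹ * u * m) * d) * m⁻¹ := by group
      _ = m * (d * (m⁻¹ * u * m)) * m⁻¹ := by rw [h1]
      _ = m * d * m⁻¹ * u := by group
  apply le_antisymm (key n hn)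
  have h2 := cj_mono (g := n) (key n⁻¹ (Subgroup.inv_mem _ hn))
  rwa [cj_cj_inv] at h2

end CtlDef

section ClaimA

variable {G : Type*} [Group G] [Finite G] {p : ℕ} [Fact p.Prime]

set_option maxHeartbeats 1600000 in
/-- A subgroup whose normalizer controls strong fusion in `P` lies in every centric radical
subgroup of `P`. -/
theorem ctl_le_of_cr {P R U : Subgroup G} (hP : IsPGroup p ↥P) (hctl : Ctl P R) (hRP : R ≤ P)
    (hUP : U ≤ P)
    (hcen : ¬ p ∣ (U ⊓ Subgroup.centralizer (U : Set G)).relIndex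
      (Subgroup.centralizer (U : Set G)))
    (hrad : ∀ X : Subgroup G, X ≤ Subgroup.normalizer (U : Set G) →
      (∀ n ∈ Subgroup.normalizer (U : Set G), X.map (MulAut.conj n).toMonoidHom = X) →
      U ⊔ Subgroup.centralizer (U : Set G) ≤ X →
      (∃ k : ℕ, (U ⊔ Subgroup.centralizer (U : Set G)).relIndex X = p ^ k) →
      X = U ⊔ Subgroup.centralizer (U : Set G)) :
    R ≤ U := by
  have hp : p.Prime := Fact.out
  obtain ⟨N, hN⟩ : ∃ N : Subgroup G, N = Subgroup.normalizer (U : Set G) := ⟨_, rfl⟩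
  obtain ⟨C, hC⟩ : ∃ C : Subgroup G, C = Subgroup.centralizer (U : Set G) := ⟨_, rfl⟩
  have hCN : C ≤ N := by rw [hC, hN]; exact Subgroup.centralizer_le_normalizer _
  have hUN : U ≤ N := by rw [hN]; exact Subgroup.le_normalizer
  have hNU : ∀ n ∈ N, U.map (MulAut.conj n).toMonoidHom = U := by
    intro n hn; rw [hN] at hn; exact mem_normalizer_iff_cj_eq.mp hn
  have hNC : ∀ n ∈ N, C.map (MulAut.conj n).toMonoidHom = C := by
    intro n hn; rw [hN] at hn; rw [hC]; exact cj_centralizer_of_mem_normalizer hn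
  have hNE : N ≤ Subgroup.normalizer ((U ⊔ C : Subgroup G) : Set G) := by
    intro n hn
    rw [mem_normalizer_iff_cj_eq, Subgroup.map_sup, hNU n hn, hNC n hn]
  obtain ⟨R₀, hR₀⟩ : ∃ R₀ : Subgroup G, R₀ = R ⊓ N := ⟨_, rfl⟩
  have hR₀N : R₀ ≤ N := by rw [hR₀]; exact inf_le_right
  have hR₀R : R₀ ≤ R := by rw [hR₀]; exact inf_le_left
  have hR₀p : IsPGroup p ↥R₀ := hP.to_le (hR₀R.trans hRP)
  obtain ⟨X, hX⟩ : ∃ X : Subgroup G, X = R₀ ⊔ (U ⊔ C) := ⟨_, rfl⟩
  have hXN : X ≤ N := by rw [hX]; exact sup_le hR₀N (sup_le hUN hCN)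
  have hCX : C ≤ X := by rw [hX]; exact le_sup_right.trans le_sup_right
  have hinv : ∀ n ∈ N, X.map (MulAut.conj n).toMonoidHom = X := by
    intro n hn
    obtain ⟨h, hh, c, hc, rfl⟩ := hctl U hUP n (by rw [hNU n hn]; exact hUP)
    have hcC : c ∈ C := by rw [hC]; exact hc
    have hcN : c ∈ N := hCN hcC
    have hhN : h ∈ N := by
      have := N.mul_mem hn (N.inv_mem hcN)
      simpa using this
    rw [← cj_cj, cj_self_of_mem (hCX hcC)]
    rw [hX, Subgroup.map_sup, Subgroup.map_sup, hNU h hhN, hNC h hhN, hR₀, cj_inf,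
      mem_normalizer_iff_cj_eq.mp hh, cj_self_of_mem hhN]
  have hidx : ∃ k : ℕ, (U ⊔ C).relIndex X = p ^ k := by
    have h1 : (U ⊔ C).relIndex X = (U ⊔ C).relIndex R₀ := by
      rw [hX]; exact relIndex_sup_of_le_normalizer (hR₀N.trans hNE)
    have h2 : (U ⊔ C).relIndex R₀ ∣ Nat.card ↥R₀ := Subgroup.relIndex_dvd_card _ _
    obtain ⟨m, hm⟩ := IsPGroup.iff_card.mp hR₀p
    rw [hm] at h2
    obtain ⟨k, -, hk⟩ := (Nat.dvd_prime_pow hp).mp h2
    exact ⟨k, by rw [h1, hk]⟩
  have hXeq : X = U ⊔ C := by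
    rw [hN, hC] at *
    exact hrad X hXN hinv (by rw [hX]; exact le_sup_right) hidx
  have hR₀E : R₀ ≤ U ⊔ C := by
    rw [← hXeq, hX]; exact le_sup_left
  -- `R₀ U` is a `p`-subgroup of `U C` containing `U`
  have hUidx : ¬ p ∣ U.relIndex (U ⊔ C) := by
    have h1 : U.relIndex (C ⊔ U) = U.relIndex C := by
      apply relIndex_sup_of_le_normalizer
      rw [← hN]; exact hCN
    have h2 : U.relIndex C = (U ⊓ C).relIndex C := (Subgroup.inf_relIndex_right U C).symm
    rw [sup_comm, h1, h2, hC]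
    exact hcen
  have hVeq : U = R₀ ⊔ U :=
    eq_of_le_of_not_dvd_relIndex (p := p) le_sup_right (sup_le hR₀E le_sup_left)
      (hP.to_le (sup_le (hR₀R.trans hRP) hUP)) hUidx
  have hR₀U : R₀ ≤ U := by
    rw [hVeq]; exact le_sup_left
  -- normalizers grow in the `p`-group `R U`
  by_contra hRU
  have hlt : U < R ⊔ U := by
    apply lt_of_le_of_ne le_sup_right
    intro he
    apply hRU
    rw [he]; exact le_sup_left
  obtain ⟨n, hnT, hnN, hnU⟩ := Cfsg.Agent.Lib.helper17.exists_mem_normalizer_not_mem (p := p)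
    (hP.to_le (sup_le hRP hUP)) hlt
  have hUR : U ≤ Subgroup.normalizer (R : Set G) := hUP.trans (hctl.le_normalizer hRP)
  have hn' : n ∈ ((R ⊔ U : Subgroup G) : Set G) := hnT
  rw [Subgroup.coe_mul_of_right_le_normalizer_left R U hUR] at hn'
  obtain ⟨r, hr, u, hu, rfl⟩ := hn'
  apply hnU
  have hrN : r ∈ N := by
    rw [hN]
    have := Subgroup.mul_mem _ hnN (Subgroup.inv_mem _ (Subgroup.le_normalizer (H := U) hu))
    simpa using this
  have hrU : r ∈ U := hR₀U (by rw [hR₀]; exact ⟨hr, hrN⟩)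
  exact U.mul_mem hrU hu

end ClaimA

end Cfsg.Agent.Lib.Helper10.KS
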