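import Mathlib
import Cfsg.Agent.Lib.Helper10.KS6

set_option autoImplicit false

/-! Enlarging a controlling subgroup: the radical step. -/

namespace Cfsg.Agent.Lib.Helper10.KS

open scoped Pointwise
open Cfsg.Agent.Lib.Helper13

section Step

variable {G : Type*} [Group G] [Finite G] {p : ℕ} [Fact p.Prime]

omit [Finite G] in
theorem cj_eq_self_of_mem_centralizer {A : Subgroup G} {c : G}
    (hc : c ∈ Subgroup.centralizer (A : Set G)) : A.map (MulAut.conj c).toMonoidHom = A := by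
  have hfix : ∀ a ∈ A, c * a * c⁻¹ = a := by
    intro a ha
    have := Subgroup.mem_centralizer_iff.mp hc a ha
    rw [← this]; group
  apply le_antisymm
  · rintro _ ⟨a, ha, rfl⟩
    simp only [MulEquiv.coe_toMonoidHom, MulAut.conj_apply]
    rw [hfix a ha]; exact ha
  · intro a ha
    have := cj_mem (g := c) ha
    rwa [hfix a ha] at this

set_option maxHeartbeats 1600000 in
/-- If `N_G(Q)` controls strong fusion in `P`, `C_P(Q) ≤ Q`, and `X/QC_G(Q)` is a normal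
`p`-subgroup of `N_G(Q)/QC_G(Q)`, then `N_G(P ∩ X)` controls strong fusion in `P`. -/
theorem ctl_step (P : Sylow p G) {Q X : Subgroup G}
    (hctl : Ctl (P : Subgroup G) Q) (hQP : Q ≤ (P : Subgroup G))
    (hcent : (P : Subgroup G) ⊓ Subgroup.centralizer (Q : Set G) ≤ Q)
    (hXN : X ≤ Subgroup.normalizer (Q : Set G))
    (hXinv : ∀ n ∈ Subgroup.normalizer (Q : Set G), X.map (MulAut.conj n).toMonoidHom = X)
    (hQCX : Q ⊔ Subgroup.centralizer (Q : Set G) ≤ X)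
    (hk : ∃ k : ℕ, (Q ⊔ Subgroup.centralizer (Q : Set G)).relIndex X = p ^ k) :
    Ctl (P : Subgroup G) ((P : Subgroup G) ⊓ X) := by
  have hp : p.Prime := Fact.out
  have hPN : (P : Subgroup G) ≤ Subgroup.normalizer (Q : Set G) := hctl.le_normalizer hQP
  obtain ⟨D, hDC, hDmem, hDcop, hND, hCZD⟩ := centralizer_pcomplement P Q hPN hcent
  obtain ⟨N, hN⟩ : ∃ N : Subgroup G, N = Subgroup.normalizer (Q : Set G) := ⟨_, rfl⟩
  obtain ⟨C, hC⟩ : ∃ C : Subgroup G, C = Subgroup.centralizer (Q : Set G) := ⟨_, rfl⟩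
  rw [← hN] at hPN hND hXN hXinv
  rw [← hC] at hDC hCZD hQCX hk hcent
  have hCN : C ≤ N := by rw [hC, hN]; exact Subgroup.centralizer_le_normalizer _
  obtain ⟨Q₁, hQ₁⟩ : ∃ Q₁ : Subgroup G, Q₁ = (P : Subgroup G) ⊓ X := ⟨_, rfl⟩
  rw [← hQ₁]
  have hQ₁P : Q₁ ≤ (P : Subgroup G) := by rw [hQ₁]; exact inf_le_left
  have hQ₁X : Q₁ ≤ X := by rw [hQ₁]; exact inf_le_right
  have hQQ₁ : Q ≤ Q₁ := by rw [hQ₁]; exact le_inf hQP (le_sup_left.trans hQCX)
  have hPNi : ¬ p ∣ (P : Subgroup G).relIndex N := fun hd =>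
    P.not_dvd_index (hd.trans (Subgroup.relIndex_dvd_index_of_le hPN))
  have hNX : N ≤ Subgroup.normalizer (X : Set G) := by
    intro n hn
    rw [mem_normalizer_iff_cj_eq]; exact hXinv n hn
  have hsylX : ¬ p ∣ Q₁.relIndex X := by
    rw [hQ₁]; exact not_dvd_relIndex_inf_of_normal hXN hNX hPNi
  -- `X = Q₁ D`
  have hle1 : Q ⊔ C ≤ Q₁ ⊔ D :=
    sup_le (hQQ₁.trans le_sup_left)
      (hCZD.trans (sup_le ((hcent.trans hQQ₁).trans le_sup_left) le_sup_right))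
  have hle2 : Q₁ ⊔ D ≤ X := sup_le hQ₁X (hDC.trans (le_sup_right.trans hQCX))
  have hXle : X ≤ Q₁ ⊔ D := by
    rw [← Subgroup.relIndex_eq_one]
    have h1 : (Q ⊔ C).relIndex (Q₁ ⊔ D) * (Q₁ ⊔ D).relIndex X = (Q ⊔ C).relIndex X :=
      Subgroup.relIndex_mul_relIndex _ _ _ hle1 hle2
    have h2 : Q₁.relIndex (Q₁ ⊔ D) * (Q₁ ⊔ D).relIndex X = Q₁.relIndex X :=
      Subgroup.relIndex_mul_relIndex _ _ _ le_sup_left hle2
    obtain ⟨k, hk⟩ := hk
    have h3 : (Q₁ ⊔ D).relIndex X ∣ p ^ k := by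
      rw [← hk, ← h1]; exact dvd_mul_left _ _
    obtain ⟨j, -, hj⟩ := (Nat.dvd_prime_pow hp).mp h3
    have h4 : ¬ p ∣ (Q₁ ⊔ D).relIndex X := fun hd => hsylX (by rw [← h2]; exact hd.mul_left _)
    rcases Nat.eq_zero_or_pos j with rfl | hpos
    · simpa using hj
    · exfalso; apply h4; rw [hj]; exact dvd_pow_self p hpos.ne'
  have hPD : (P : Subgroup G) ⊓ D = ⊥ := by
    have hcop : (Nat.card ↥(P : Subgroup G)).Coprime (Nat.card ↥D) := by
      obtain ⟨m, hm⟩ := IsPGroup.iff_card.mp P.isPGroup'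
      rw [hm]
      exact (Nat.Coprime.pow_right _ hDcop).symm
    exact (Subgroup.disjoint_of_coprime_natCard hcop).eq_bot
  -- main argument
  intro A hA g hg
  obtain ⟨h, hh, c, hc, rfl⟩ := hctl A hA g hg
  have hhN : h ∈ N := by rw [hN]; exact hh
  have hhA : A.map (MulAut.conj h).toMonoidHom ≤ (P : Subgroup G) := by
    rw [← cj_cj, cj_eq_self_of_mem_centralizer hc] at hg; exact hg
  obtain ⟨A', hA'⟩ : ∃ A' : Subgroup G, A' = A ⊔ Q := ⟨_, rfl⟩
  have hAA' : A ≤ A' := by rw [hA']; exact le_sup_left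
  have hA'P : A' ≤ (P : Subgroup G) := by rw [hA']; exact sup_le hA hQP
  obtain ⟨B, hBdef⟩ : ∃ B : Subgroup G, B = A'.map (MulAut.conj h).toMonoidHom := ⟨_, rfl⟩
  have hBP : B ≤ (P : Subgroup G) := by
    rw [hBdef, hA', Subgroup.map_sup, mem_normalizer_iff_cj_eq.mp hh]
    exact sup_le hhA hQP
  obtain ⟨R, hRdef⟩ : ∃ R : Subgroup G, R = (A' ⊔ Q₁).map (MulAut.conj h).toMonoidHom :=
    ⟨_, rfl⟩
  have hRp : IsPGroup p ↥R := by
    rw [hRdef]; exact (P.isPGroup'.to_le (sup_le hA'P hQ₁P)).map _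
  have hBR : B ≤ R := by rw [hBdef, hRdef]; exact cj_mono le_sup_left
  have hQ₁R : Q₁.map (MulAut.conj h).toMonoidHom ≤ R := by rw [hRdef]; exact cj_mono le_sup_right
  obtain ⟨P', hP'⟩ : ∃ P' : Subgroup G, P' = B ⊔ Q₁ := ⟨_, rfl⟩
  have hP'P : P' ≤ (P : Subgroup G) := by rw [hP']; exact sup_le hBP hQ₁P
  have hRle : R ≤ P' ⊔ D := by
    rw [hRdef, Subgroup.map_sup, ← hBdef]
    apply sup_le
    · rw [hP']; exact le_sup_left.trans le_sup_left
    · have h1 : Q₁.map (MulAut.conj h).toMonoidHom ≤ X := by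
        rw [← hXinv h hhN]; exact cj_mono hQ₁X
      refine h1.trans (hXle.trans (sup_le_sup_right ?_ D))
      rw [hP']; exact le_sup_right
  have hP'D : P' ≤ Subgroup.normalizer (D : Set G) := hP'P.trans (hPN.trans hND)
  obtain ⟨d, hd, hdR⟩ := exists_mem_cj_le_of_coprime (P.isPGroup'.to_le hP'P) hP'D hDcop hRp hRle
  -- `d` centralizes `B`
  have hdB : d ∈ Subgroup.centralizer (B : Set G) := by
    rw [Subgroup.mem_centralizer_iff]
    intro b hb
    have h1 : d * b * d⁻¹ ∈ (P : Subgroup G) := hP'P (hdR (cj_mem (hBR hb)))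
    have hbP : b ∈ (P : Subgroup G) := hBP hb
    have hbN : b ∈ Subgroup.normalizer (D : Set G) := hND (hPN hbP)
    have h2 : d * b * d⁻¹ * b⁻¹ ∈ D := by
      have h3 : b * d⁻¹ * b⁻¹ ∈ D := (Subgroup.mem_normalizer_iff.mp hbN d⁻¹).mp (D.inv_mem hd)
      have e : d * b * d⁻¹ * b⁻¹ = d * (b * d⁻¹ * b⁻¹) := by group
      rw [e]; exact D.mul_mem hd h3
    have h3 : d * b * d⁻¹ * b⁻¹ ∈ (P : Subgroup G) :=
      (P : Subgroup G).mul_mem h1 ((P : Subgroup G).inv_mem hbP)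
    have h4 : d * b * d⁻¹ * b⁻¹ = 1 := by
      have h5 : d * b * d⁻¹ * b⁻¹ ∈ (P : Subgroup G) ⊓ D := ⟨h3, h2⟩
      rwa [hPD, Subgroup.mem_bot] at h5
    calc b * d = (d * b * d⁻¹ * b⁻¹)⁻¹ * (d * b) := by group
      _ = d * b := by rw [h4]; simp
  -- `d h` normalizes `Q₁`
  have hdN : d ∈ N := hCN (hDC hd)
  have hn'N : d * h ∈ N := N.mul_mem hdN hhN
  have hn'Q₁ : d * h ∈ Subgroup.normalizer (Q₁ : Set G) := by
    apply mem_normalizer_of_cj_le
    have h1 : Q₁.map (MulAut.conj (d * h)).toMonoidHom ≤ P' := by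
      rw [← cj_cj]; exact (cj_mono hQ₁R).trans hdR
    have h2 : Q₁.map (MulAut.conj (d * h)).toMonoidHom ≤ X := by
      rw [← hXinv (d * h) hn'N]; exact cj_mono hQ₁X
    rw [hQ₁]
    refine le_inf ?_ ?_
    · rw [← hQ₁]; exact h1.trans hP'P
    · rw [← hQ₁]; exact h2
  refine ⟨d * h, hn'Q₁, h⁻¹ * d⁻¹ * h * c, ?_, by group⟩
  rw [Subgroup.mem_centralizer_iff]
  intro a ha
  have hb : h * a * h⁻¹ ∈ B := by rw [hBdef]; exact cj_mem (hAA' ha)
  have hw := Subgroup.mem_centralizer_iff.mp (Subgroup.inv_mem _ hdB) _ hb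
  have h2 := Subgroup.mem_centralizer_iff.mp hc a ha
  calc a * (h⁻¹ * d⁻¹ * h * c) = h⁻¹ * ((h * a * h⁻¹) * d⁻¹) * h * c := by group
    _ = h⁻¹ * (d⁻¹ * (h * a * h⁻¹)) * h * c := by rw [hw]
    _ = h⁻¹ * d⁻¹ * h * (a * c) := by group
    _ = h⁻¹ * d⁻¹ * h * (c * a) := by rw [h2]
    _ = h⁻¹ * d⁻¹ * h * c * a := by group

end Step

end Cfsg.Agent.Lib.Helper10.KS
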