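import Mathlib
import Cfsg.Agent.Lib.Helper10.KS3
import Cfsg.Agent.Lib.Helper10.KS7

set_option autoImplicit false

/-! Glauberman's theorem: in a group whose `p`-automizers are `SL₂(p)`-free there is a smallest
centric radical subgroup, and its normalizer controls strong fusion. -/

universe u

namespace Cfsg.Agent.Lib.Helper10.KS

open scoped Pointwise
open Cfsg.Agent.Lib.Helper13 Cfsg.Agent.Lib.Helper10.KF

section Conv

set_option maxHeartbeats 1600000 in
/-- The explicit form of the hypothesis implies `AutFree`. -/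
theorem autFree_of_hfree {G : Type u} [Group G] {p : ℕ}
    (hfree : ∀ Q : Subgroup G, IsPGroup p ↥Q →
      ¬ ∃ (H K : Subgroup G) (_ : (K.subgroupOf H).Normal),
        Subgroup.centralizer (Q : Set G) ≤ K ∧ K ≤ H ∧ H ≤ Subgroup.normalizer (Q : Set G) ∧
        Nonempty ((↥H ⧸ K.subgroupOf H) ≃* Matrix.SpecialLinearGroup (Fin 2) (ZMod p))) :
    AutFree p G := by
  rintro Q hQ ⟨K', R', hn, ⟨e⟩⟩
  haveI := hn
  apply hfree Q hQ
  obtain ⟨π, hπ⟩ : ∃ π : ↥(Subgroup.normalizer (Q : Set G)) →*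
      ↥(Subgroup.normalizer (Q : Set G)) ⧸ (Subgroup.centralizer (Q : Set G)).subgroupOf
        (Subgroup.normalizer (Q : Set G)),
      π = QuotientGroup.mk' _ := ⟨_, rfl⟩
  obtain ⟨H₀, hH₀⟩ : ∃ H₀ : Subgroup ↥(Subgroup.normalizer (Q : Set G)), H₀ = K'.comap π :=
    ⟨_, rfl⟩
  have hH₀mem : ∀ z : ↥H₀, π (z : ↥(Subgroup.normalizer (Q : Set G))) ∈ K' := by
    intro z
    have hle : H₀ ≤ K'.comap π := le_of_eq hH₀
    exact hle z.2
  obtain ⟨φ, hφ⟩ : ∃ φ : ↥H₀ →* ↥K', ∀ z : ↥H₀, ((φ z : ↥K') :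
      ↥(Subgroup.normalizer (Q : Set G)) ⧸ (Subgroup.centralizer (Q : Set G)).subgroupOf
        (Subgroup.normalizer (Q : Set G))) = π (z : ↥(Subgroup.normalizer (Q : Set G))) :=
    ⟨(π.comp H₀.subtype).codRestrict K' hH₀mem, fun z => rfl⟩
  have hφs : Function.Surjective φ := by
    rintro ⟨y, hy⟩
    obtain ⟨x, hx⟩ : ∃ x, π x = y := by
      rw [hπ]; exact QuotientGroup.mk'_surjective _ y
    have hxH : x ∈ H₀ := by rw [hH₀, Subgroup.mem_comap, hx]; exact hy
    refine ⟨⟨x, hxH⟩, ?_⟩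
    apply Subtype.ext
    rw [hφ]; exact hx
  obtain ⟨f₀, hf₀def⟩ : ∃ f₀ : ↥H₀ →* Matrix.SpecialLinearGroup (Fin 2) (ZMod p),
      f₀ = e.toMonoidHom.comp ((QuotientGroup.mk' (R'.subgroupOf K')).comp φ) := ⟨_, rfl⟩
  have hf₀s : Function.Surjective f₀ := by
    rw [hf₀def]
    exact e.surjective.comp ((QuotientGroup.mk'_surjective _).comp hφs)
  have hf₀C : ∀ z : ↥H₀, ((z : ↥(Subgroup.normalizer (Q : Set G))) : G) ∈
      Subgroup.centralizer (Q : Set G) → f₀ z = 1 := by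
    intro z hz
    have h1 : π (z : ↥(Subgroup.normalizer (Q : Set G))) = 1 := by
      rw [hπ, QuotientGroup.mk'_apply, QuotientGroup.eq_one_iff, Subgroup.mem_subgroupOf]
      exact hz
    have h2 : φ z = 1 := by
      apply Subtype.ext
      rw [hφ, h1]; rfl
    rw [hf₀def]
    simp only [MonoidHom.comp_apply, h2, map_one]
  obtain ⟨H, hH⟩ : ∃ H : Subgroup G, H = H₀.map (Subgroup.normalizer (Q : Set G)).subtype :=
    ⟨_, rfl⟩
  obtain ⟨ε, hε⟩ : ∃ ε : ↥H₀ ≃* ↥H, ∀ z : ↥H₀, ((ε z : ↥H) : G) =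
      ((z : ↥(Subgroup.normalizer (Q : Set G))) : G) := by
    rw [hH]
    exact ⟨H₀.equivMapOfInjective _ (Subgroup.normalizer (Q : Set G)).subtype_injective,
      fun z => rfl⟩
  obtain ⟨f, hfdef⟩ : ∃ f : ↥H →* Matrix.SpecialLinearGroup (Fin 2) (ZMod p),
      f = f₀.comp ε.symm.toMonoidHom := ⟨_, rfl⟩
  have hfs : Function.Surjective f := by
    rw [hfdef]; exact hf₀s.comp ε.symm.surjective
  have hHN : H ≤ Subgroup.normalizer (Q : Set G) := by
    rw [hH]; exact Subgroup.map_subtype_le _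
  have hfC : ∀ y : ↥H, (y : G) ∈ Subgroup.centralizer (Q : Set G) → f y = 1 := by
    intro y hy
    rw [hfdef]
    simp only [MonoidHom.comp_apply, MulEquiv.coe_toMonoidHom]
    apply hf₀C
    rw [← hε, MulEquiv.apply_symm_apply]
    exact hy
  have hCH : Subgroup.centralizer (Q : Set G) ≤ H := by
    intro x hx
    have hxN : x ∈ Subgroup.normalizer (Q : Set G) := Subgroup.centralizer_le_normalizer _ hx
    rw [hH]
    refine ⟨⟨x, hxN⟩, ?_, rfl⟩
    rw [hH₀]
    show π ⟨x, hxN⟩ ∈ K'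
    have h1 : π ⟨x, hxN⟩ = 1 := by
      rw [hπ, QuotientGroup.mk'_apply, QuotientGroup.eq_one_iff, Subgroup.mem_subgroupOf]
      exact hx
    rw [h1]; exact Subgroup.one_mem _
  have hR : (f.ker.map H.subtype).subgroupOf H = f.ker :=
    Subgroup.comap_map_eq_self_of_injective H.subtype_injective _
  have hNn : ((f.ker.map H.subtype).subgroupOf H).Normal := by rw [hR]; infer_instance
  refine ⟨H, f.ker.map H.subtype, hNn, ?_, Subgroup.map_subtype_le _, hHN,
    ⟨(QuotientGroup.quotientMulEquivOfEq hR).trans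
      (QuotientGroup.quotientKerEquivOfSurjective f hfs)⟩⟩
  intro x hx
  exact ⟨⟨x, hCH hx⟩, hfC ⟨x, hCH hx⟩ hx, rfl⟩

end Conv

section Main

variable {p : ℕ} [Fact p.Prime]

set_option maxHeartbeats 1600000 in
/-- Existence of a centric radical subgroup whose normalizer controls strong fusion. -/
theorem exists_ctl_cr (hp2 : p ≠ 2) {G : Type u} [Group G] [Finite G] (P : Sylow p G)
    (h : AutFree p G) :
    ∃ Q : Subgroup G, Q ≤ (P : Subgroup G) ∧ Ctl (P : Subgroup G) Q ∧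
      (P : Subgroup G) ⊓ Subgroup.centralizer (Q : Set G) ≤ Q ∧
      (∀ X : Subgroup G, X ≤ Subgroup.normalizer (Q : Set G) →
        (∀ n ∈ Subgroup.normalizer (Q : Set G), X.map (MulAut.conj n).toMonoidHom = X) →
        Q ⊔ Subgroup.centralizer (Q : Set G) ≤ X →
        (∃ k : ℕ, (Q ⊔ Subgroup.centralizer (Q : Set G)).relIndex X = p ^ k) →
        X = Q ⊔ Subgroup.centralizer (Q : Set G)) := by
  have hp : p.Prime := Fact.out
  obtain ⟨W, hWdef⟩ : ∃ W : Subgroup G,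
      W = Cfsg.inducedFunctor (G := G) (Kf p) (P : Subgroup G) := ⟨_, rfl⟩
  have hWctl : Ctl (P : Subgroup G) W := by
    intro A hA g hg
    rw [hWdef]
    exact controls_Kf hp2 h P A hA g hg
  have hWP : W ≤ (P : Subgroup G) := by rw [hWdef]; exact inducedFunctor_le _ _
  have hWc : (P : Subgroup G) ⊓ Subgroup.centralizer (W : Set G) ≤ W := by
    rw [hWdef]
    exact centralizer_inducedFunctor_Kf_le hp2 (P : Subgroup G) P.isPGroup'
  haveI : Nonempty {R : Subgroup G // Ctl (P : Subgroup G) R ∧ W ≤ R ∧ R ≤ (P : Subgroup G)} :=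
    ⟨⟨W, hWctl, le_rfl, hWP⟩⟩
  obtain ⟨⟨Q, hQctl, hWQ, hQP⟩, hmax⟩ := Finite.exists_max
    (fun R : {R : Subgroup G // Ctl (P : Subgroup G) R ∧ W ≤ R ∧ R ≤ (P : Subgroup G)} =>
      Nat.card ↥R.1)
  have hcent : (P : Subgroup G) ⊓ Subgroup.centralizer (Q : Set G) ≤ Q := by
    intro x hx
    exact hWQ (hWc ⟨hx.1, Subgroup.centralizer_le hWQ hx.2⟩)
  refine ⟨Q, hQP, hQctl, hcent, ?_⟩
  intro X hXN hXinv hQCX hk
  have hstep := ctl_step P hQctl hQP hcent hXN hXinv hQCX hk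
  have hQQ₁ : Q ≤ (P : Subgroup G) ⊓ X := le_inf hQP (le_sup_left.trans hQCX)
  have hcard := hmax ⟨(P : Subgroup G) ⊓ X, hstep, hWQ.trans hQQ₁, inf_le_left⟩
  have hQeq : Q = (P : Subgroup G) ⊓ X := Subgroup.eq_of_le_of_card_ge hQQ₁ hcard
  have hPN : (P : Subgroup G) ≤ Subgroup.normalizer (Q : Set G) := hQctl.le_normalizer hQP
  have hPNi : ¬ p ∣ (P : Subgroup G).relIndex (Subgroup.normalizer (Q : Set G)) := fun hd =>
    P.not_dvd_index (hd.trans (Subgroup.relIndex_dvd_index_of_le hPN))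
  have hNX : Subgroup.normalizer (Q : Set G) ≤ Subgroup.normalizer (X : Set G) := by
    intro n hn
    rw [mem_normalizer_iff_cj_eq]; exact hXinv n hn
  have hsylX : ¬ p ∣ Q.relIndex X := by
    rw [hQeq]; exact not_dvd_relIndex_inf_of_normal hXN hNX hPNi
  apply le_antisymm _ hQCX
  rw [← Subgroup.relIndex_eq_one]
  obtain ⟨k, hk⟩ := hk
  have h2 : Q.relIndex (Q ⊔ Subgroup.centralizer (Q : Set G)) *
      (Q ⊔ Subgroup.centralizer (Q : Set G)).relIndex X = Q.relIndex X :=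
    Subgroup.relIndex_mul_relIndex _ _ _ le_sup_left hQCX
  have h4 : ¬ p ∣ (Q ⊔ Subgroup.centralizer (Q : Set G)).relIndex X :=
    fun hd => hsylX (by rw [← h2]; exact hd.mul_left _)
  rcases Nat.eq_zero_or_pos k with rfl | hpos
  · simpa using hk
  · exfalso; apply h4; rw [hk]; exact dvd_pow_self p hpos.ne'

end Main

end Cfsg.Agent.Lib.Helper10.KS
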