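import Mathlib
import Cfsg.Agent.Lib.Helper10.KappaTauJ
import Cfsg.Agent.Lib.Helper13.BG14L

set_option autoImplicit false

/-! # `Nonreg1310 M` (the interface of helper13's S1430 proof) (helper10) -/

namespace Cfsg.Agent.Lib.Helper10.KappaTau

variable {G : Type*} [Group G] [Finite G]

theorem nonreg1310 (hG : Cfsg.IsMinSimpleOddOrder G) {M : Subgroup G} (hM : IsCoatom M) :
    Cfsg.Agent.Lib.Helper13.BG14.Nonreg1310 M := by
  intro E p hE hpκ hp3
  obtain ⟨h1, h2, h3, -⟩ := nonregular_structure hG hM hE hpκ hp3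
  exact ⟨h1, h2, h3⟩

end Cfsg.Agent.Lib.Helper10.KappaTau
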