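import Mathlib
import Cfsg.Prelude.Def_Local
import Cfsg.Agent.Lib.Helper10.GlaubB1

set_option autoImplicit false

/-!
# Pushing up, part 1: elementary lemmas on 2-elements
-/

namespace Cfsg.Agent.Lib.Helper10.PushUp

open Cfsg Cfsg.Agent.Lib.Helper10.GlaubA
open scoped commutatorElement

/-- an element of 2-power order and odd order is trivial -/
theorem eq_one_of_two_pow_of_coprime {A : Type*} [Group A] {a : A} {j : ℕ} (h1 : orderOf a ∣ 2 ^ j)
    (h2 : (orderOf a).Coprime 2) : a = 1 := by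
  obtain ⟨i, -, hi⟩ := (Nat.dvd_prime_pow Nat.prime_two).mp h1
  rcases Nat.eq_zero_or_pos i with h0 | h0
  · rw [h0, pow_zero] at hi
    exact orderOf_eq_one_iff.mp hi
  · exfalso
    rw [hi] at h2
    have : 2 ∣ Nat.gcd (2 ^ i) 2 := Nat.dvd_gcd (dvd_pow_self 2 h0.ne') dvd_rfl
    rw [Nat.Coprime] at h2
    rw [h2] at this
    omega

/-- (b): a 2-element of `N · O'`, `N` normal, `O'` of odd order, lies in `N`. -/
theorem two_element_mem_of_mem_sup {Y : Type*} [Group Y] [Finite Y] (Nn : Subgroup Y) [Nn.Normal]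
    (O' : Subgroup Y) (hO' : (Nat.card O').Coprime 2) (k : Y) (hk : k ∈ Nn ⊔ O') {j : ℕ}
    (hk2 : orderOf k = 2 ^ j) : k ∈ Nn := by
  have h1 : QuotientGroup.mk' Nn k ∈ (Nn ⊔ O').map (QuotientGroup.mk' Nn) := ⟨k, hk, rfl⟩
  rw [Subgroup.map_sup] at h1
  have h2 : Nn.map (QuotientGroup.mk' Nn) = ⊥ := by
    rw [Subgroup.map_eq_bot_iff, QuotientGroup.ker_mk']
  rw [h2, bot_sup_eq] at h1
  have h3 : orderOf (QuotientGroup.mk' Nn k) ∣ Nat.card O' :=
    (Subgroup.orderOf_dvd_natCard _ h1).trans (Subgroup.card_map_dvd _ _)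
  have h4 : orderOf (QuotientGroup.mk' Nn k) ∣ 2 ^ j := by
    rw [← hk2]; exact orderOf_map_dvd _ k
  have h5 := eq_one_of_two_pow_of_coprime h4 (Nat.Coprime.coprime_dvd_left h3 hO')
  rwa [← MonoidHom.mem_ker, QuotientGroup.ker_mk'] at h5

/-- (a): if `X / O(X)` is perfect, the 2-elements of `X` lie in the commutator subgroup. -/
theorem two_element_mem_commutator {X : Type*} [Group X] [Finite X]
    (hperf : Group.IsPerfect (X ⧸ Cfsg.pPrimeCore 2 X)) (k : X) {j : ℕ} (hk2 : orderOf k = 2 ^ j) :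
    k ∈ commutator X := by
  classical
  have : Fact (Nat.Prime 2) := ⟨Nat.prime_two⟩
  -- write |Ab| = 2^e * m with m odd
  obtain ⟨e, m, hm, hcard⟩ := Nat.exists_eq_two_pow_mul_odd
    (Nat.card_pos (α := Abelianization X)).ne'
  -- the m-th power map on the abelianization lands in a 2-group
  let pw : Abelianization X →* Abelianization X := powMonoidHom m
  have hrange : IsPGroup 2 pw.range := by
    rintro ⟨_, ⟨a, rfl⟩⟩
    refine ⟨e, ?_⟩
    apply Subtype.ext
    show (a ^ m) ^ 2 ^ e = 1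
    rw [← pow_mul, mul_comm, ← hcard]
    exact pow_card_eq_one'
  have h1 := hom_to_two_group_trivial hrange hperf (pw.rangeRestrict.comp Abelianization.of) k
  have h2 : (Abelianization.of k) ^ m = 1 := by
    have := congrArg Subtype.val h1
    exact this
  have h3 : orderOf (Abelianization.of k) ∣ m := orderOf_dvd_of_pow_eq_one h2
  have h4 : orderOf (Abelianization.of k) ∣ 2 ^ j := by
    rw [← hk2]; exact orderOf_map_dvd _ k
  have hmc : m.Coprime 2 := by
    rw [Nat.coprime_comm, Nat.Prime.coprime_iff_not_dvd Nat.prime_two]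
    intro h
    exact (Nat.not_even_iff_odd.mpr hm) (even_iff_two_dvd.mpr h)
  have h5 := eq_one_of_two_pow_of_coprime h4 (Nat.Coprime.coprime_dvd_left h3 hmc)
  rwa [← MonoidHom.mem_ker, Abelianization.ker_of] at h5

/-- lifting 2-elements along a surjection of finite groups -/
theorem exists_two_element_lift {A B : Type*} [Group A] [Finite A] [Group B] (φ : A →* B)
    (hφ : Function.Surjective φ) (b : B) {j : ℕ} (hb : orderOf b = 2 ^ j) :
    ∃ a : A, φ a = b ∧ ∃ i : ℕ, orderOf a = 2 ^ i := by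
  obtain ⟨a₀, ha₀⟩ := hφ b
  obtain ⟨e, m, hm, hord⟩ := Nat.exists_eq_two_pow_mul_odd (orderOf_pos a₀).ne'
  have hmc : m.Coprime (2 ^ j) := by
    apply Nat.Coprime.pow_right
    rw [Nat.coprime_comm, Nat.Prime.coprime_iff_not_dvd Nat.prime_two]
    intro h
    exact (Nat.not_even_iff_odd.mpr hm) (even_iff_two_dvd.mpr h)
  -- m is invertible modulo the order of b
  have hmc' : m.Coprime (orderOf b) := by rw [hb]; exact hmc
  obtain ⟨n, hn⟩ := exists_pow_eq_self_of_coprime hmc'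
  refine ⟨(a₀ ^ m) ^ n, ?_, ?_⟩
  · rw [map_pow, map_pow, ha₀, hn]
  · have h1 : (a₀ ^ m) ^ 2 ^ e = 1 := by
      rw [← pow_mul, mul_comm, ← hord, pow_orderOf_eq_one]
    have h2 : ((a₀ ^ m) ^ n) ^ 2 ^ e = 1 := by
      rw [← pow_mul, mul_comm n, pow_mul, h1, one_pow]
    obtain ⟨i, -, hi⟩ := (Nat.dvd_prime_pow Nat.prime_two).mp (orderOf_dvd_of_pow_eq_one h2)
    exact ⟨i, hi⟩

/-- `A / O(A)` is quasisimple when `A` maps onto a quasisimple group `B` with `O(B) = 1` with kernel of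
odd order. -/
theorem quasisimple_coreQuot_of_surjective_odd_ker {A B : Type*} [Group A] [Finite A] [Group B]
    [Finite B] (φ : A →* B) (hφ : Function.Surjective φ) (hker : (Nat.card φ.ker).Coprime 2)
    (hB : Cfsg.pPrimeCore 2 B = ⊥) (hq : Cfsg.IsQuasisimple B) :
    Cfsg.IsQuasisimple (A ⧸ Cfsg.pPrimeCore 2 A) := by
  have hAn : (Cfsg.pPrimeCore 2 A).Normal := Cfsg.Agent.Lib.Helper1.pPrimeCore_normal 2
  have heq : Cfsg.pPrimeCore 2 A = φ.ker := by
    apply le_antisymm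
    · have h1 : ((Cfsg.pPrimeCore 2 A).map φ) ≤ Cfsg.pPrimeCore 2 B := by
        apply Cfsg.Agent.Lib.Helper1.le_pPrimeCore (hAn.map φ hφ)
        exact Nat.Coprime.coprime_dvd_left (Subgroup.card_map_dvd _ _)
          (Cfsg.Agent.Lib.Helper1.pPrimeCore_card_coprime 2)
      rw [hB, le_bot_iff, Subgroup.map_eq_bot_iff] at h1
      exact h1
    · exact Cfsg.Agent.Lib.Helper1.le_pPrimeCore inferInstance hker
  exact Cfsg.Agent.Lib.Helper9.isQuasisimple_of_mulEquiv
    ((QuotientGroup.quotientMulEquivOfEq heq).trans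
      (QuotientGroup.quotientKerEquivOfSurjective φ hφ)).symm hq

/-- coprime action: a fixed point in a coset of an odd-order subgroup -/
theorem exists_mul_mem_centralizer {Y : Type*} [Group Y] [Finite Y] (P₁ : Subgroup Y)
    (hP₁ : IsPGroup 2 P₁) (O' : Subgroup Y) (hO' : (Nat.card O').Coprime 2)
    (hnorm : P₁ ≤ Subgroup.normalizer (O' : Set Y)) (w : Y)
    (hw : ∀ y ∈ P₁, w⁻¹ * (y * w * y⁻¹) ∈ O') :
    ∃ o ∈ O', w * o ∈ Subgroup.centralizer (P₁ : Set Y) := by
  classical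
  have : Fact (Nat.Prime 2) := ⟨Nat.prime_two⟩
  have hmem : ∀ (y : P₁) (o : O'), w⁻¹ * ((y : Y) * (w * o) * (y : Y)⁻¹) ∈ O' := by
    intro y o
    have e : w⁻¹ * ((y : Y) * (w * o) * (y : Y)⁻¹) =
        (w⁻¹ * ((y : Y) * w * (y : Y)⁻¹)) * ((y : Y) * o * (y : Y)⁻¹) := by group
    rw [e]
    exact O'.mul_mem (hw y y.2) ((Subgroup.mem_normalizer_iff.mp (hnorm y.2) o).mp o.2)
  letI : MulAction P₁ O' :=
    { smul := fun y o => ⟨w⁻¹ * ((y : Y) * (w * o) * (y : Y)⁻¹), hmem y o⟩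
      one_smul := fun o => by
        apply Subtype.ext
        show w⁻¹ * (((1 : P₁) : Y) * (w * o) * ((1 : P₁) : Y)⁻¹) = o
        simp
      mul_smul := fun y y' o => by
        apply Subtype.ext
        show w⁻¹ * (((y * y' : P₁) : Y) * (w * o) * ((y * y' : P₁) : Y)⁻¹) =
          w⁻¹ * ((y : Y) * (w * (w⁻¹ * ((y' : Y) * (w * o) * (y' : Y)⁻¹))) * (y : Y)⁻¹)
        rw [Subgroup.coe_mul]; group }
  have hnd : ¬ 2 ∣ Nat.card O' := by
    rw [← Nat.Prime.coprime_iff_not_dvd Nat.prime_two]; exact hO'.symm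
  obtain ⟨o, ho⟩ := hP₁.nonempty_fixed_point_of_prime_not_dvd_card O' hnd
  refine ⟨o, o.2, ?_⟩
  rw [Subgroup.mem_centralizer_iff]
  intro y hy
  have h1 := MulAction.mem_fixedPoints.mp ho ⟨y, hy⟩
  have h2 : w⁻¹ * (y * (w * o) * y⁻¹) = o := congrArg Subtype.val h1
  have h3 : y * (w * o) * y⁻¹ = w * o := by
    calc y * (w * o) * y⁻¹ = w * (w⁻¹ * (y * (w * o) * y⁻¹)) := by group
      _ = w * o := by rw [h2]
  calc y * (w * o) = (y * (w * o) * y⁻¹) * y := by group
    _ = w * o * y := by rw [h3]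

end Cfsg.Agent.Lib.Helper10.PushUp
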