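import Mathlib
import Cfsg.Prelude.Def_Local
import Cfsg.Agent.S1263
import Cfsg.Agent.Lib.Helper10.PushUp1

set_option autoImplicit false

/-!
# Pushing up, part 2: the action of an automorphism on a component of `C / O(C)`
-/

namespace Cfsg.Agent.Lib.Helper10.PushUp

open Cfsg Cfsg.Agent.Lib.Helper10.GlaubA Cfsg.Agent.Lib.Helper10 Cfsg.Agent.Lib.Helper9
open scoped commutatorElement

universe u

/-- commutators are unchanged by factors commuting with everything in sight -/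
theorem comm_mul_of_commute {A : Type*} [Group A] (a b g h : A) (hag : a * g = g * a)
    (hah : a * h = h * a) (hab : a * b = b * a) (hbg : b * g = g * b) (hbh : b * h = h * b) :
    ⁅a * g, b * h⁆ = ⁅g, h⁆ := by
  have hai : ∀ w : A, a * w = w * a → a⁻¹ * w = w * a⁻¹ := by
    intro w hw
    calc a⁻¹ * w = a⁻¹ * (w * a) * a⁻¹ := by group
      _ = a⁻¹ * (a * w) * a⁻¹ := by rw [hw]
      _ = w * a⁻¹ := by group
  have hbi : ∀ w : A, b * w = w * b → b⁻¹ * w = w * b⁻¹ := by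
    intro w hw
    calc b⁻¹ * w = b⁻¹ * (w * b) * b⁻¹ := by group
      _ = b⁻¹ * (b * w) * b⁻¹ := by rw [hw]
      _ = w * b⁻¹ := by group
  rw [commutatorElement_def, commutatorElement_def]
  have hagi : a * g⁻¹ = g⁻¹ * a := by
    calc a * g⁻¹ = g⁻¹ * (g * a) * g⁻¹ := by group
      _ = g⁻¹ * (a * g) * g⁻¹ := by rw [hag]
      _ = g⁻¹ * a := by group
  have hbgi : b * g⁻¹ = g⁻¹ * b := by
    calc b * g⁻¹ = g⁻¹ * (g * b) * g⁻¹ := by group
      _ = g⁻¹ * (b * g) * g⁻¹ := by rw [hbg]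
      _ = g⁻¹ * b := by group
  have hbhi : b * h⁻¹ = h⁻¹ * b := by
    calc b * h⁻¹ = h⁻¹ * (h * b) * h⁻¹ := by group
      _ = h⁻¹ * (b * h) * h⁻¹ := by rw [hbh]
      _ = h⁻¹ * b := by group
  calc a * g * (b * h) * (a * g)⁻¹ * (b * h)⁻¹
      = a * (g * b) * h * g⁻¹ * a⁻¹ * h⁻¹ * b⁻¹ := by group
    _ = a * (b * g) * h * g⁻¹ * a⁻¹ * h⁻¹ * b⁻¹ := by rw [hbg]
    _ = (a * b) * (g * h * g⁻¹) * (a⁻¹ * h⁻¹) * b⁻¹ := by group
    _ = (b * a) * (g * h * g⁻¹) * (h⁻¹ * a⁻¹) * b⁻¹ := by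
        rw [hab, hai h⁻¹ (by
          calc a * h⁻¹ = h⁻¹ * (h * a) * h⁻¹ := by group
            _ = h⁻¹ * (a * h) * h⁻¹ := by rw [hah]
            _ = h⁻¹ * a := by group)]
    _ = b * (a * g) * h * g⁻¹ * h⁻¹ * a⁻¹ * b⁻¹ := by group
    _ = b * (g * a) * h * g⁻¹ * h⁻¹ * a⁻¹ * b⁻¹ := by rw [hag]
    _ = b * g * (a * h) * g⁻¹ * h⁻¹ * a⁻¹ * b⁻¹ := by group
    _ = b * g * (h * a) * g⁻¹ * h⁻¹ * a⁻¹ * b⁻¹ := by rw [hah]
    _ = b * g * h * (a * g⁻¹) * h⁻¹ * a⁻¹ * b⁻¹ := by group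
    _ = b * g * h * (g⁻¹ * a) * h⁻¹ * a⁻¹ * b⁻¹ := by rw [hagi]
    _ = b * g * h * g⁻¹ * (a * h⁻¹) * a⁻¹ * b⁻¹ := by group
    _ = b * g * h * g⁻¹ * (h⁻¹ * a) * a⁻¹ * b⁻¹ := by
        rw [show a * h⁻¹ = h⁻¹ * a from by
          calc a * h⁻¹ = h⁻¹ * (h * a) * h⁻¹ := by group
            _ = h⁻¹ * (a * h) * h⁻¹ := by rw [hah]
            _ = h⁻¹ * a := by group]
    _ = (b * g) * h * g⁻¹ * h⁻¹ * b⁻¹ := by group
    _ = (g * b) * h * g⁻¹ * h⁻¹ * b⁻¹ := by rw [hbg]
    _ = g * (b * h) * g⁻¹ * h⁻¹ * b⁻¹ := by group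
    _ = g * (h * b) * g⁻¹ * h⁻¹ * b⁻¹ := by rw [hbh]
    _ = g * h * (b * g⁻¹) * h⁻¹ * b⁻¹ := by group
    _ = g * h * (g⁻¹ * b) * h⁻¹ * b⁻¹ := by rw [hbgi]
    _ = g * h * g⁻¹ * (b * h⁻¹) * b⁻¹ := by group
    _ = g * h * g⁻¹ * (h⁻¹ * b) * b⁻¹ := by rw [hbhi]
    _ = g * h * g⁻¹ * h⁻¹ := by group

variable {C : Type u} [Group C]

set_option maxHeartbeats 800000 in
/-- The action of an automorphism `a` (inducing the identity modulo the normal subgroup `D`) on the
preimage `W = X'·O(C)` of a component of `C / O(C)`: either commutators of `W` lie in `D·O(C)`, or `a`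
acts trivially on `W / O(C)`. -/
theorem aut_trichotomy [Finite C] (X' : Subgroup C) (hsn : X'.IsSubnormal)
    (hqs : IsQuasisimple (↥X' ⧸ pPrimeCore 2 ↥X')) (a : MulAut C) (D : Subgroup C) [hDn : D.Normal]
    (hD : ∀ c : C, a c * c⁻¹ ∈ D) :
    (∀ x ∈ X' ⊔ pPrimeCore 2 C, ∀ y ∈ X' ⊔ pPrimeCore 2 C, ⁅x, y⁆ ∈ D ⊔ pPrimeCore 2 C) ∨
    (∀ w ∈ X' ⊔ pPrimeCore 2 C, w⁻¹ * a w ∈ pPrimeCore 2 C) := by
  classical
  have hKn : (pPrimeCore 2 C).Normal := Cfsg.Agent.Lib.Helper1.pPrimeCore_normal 2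
  set π := QuotientGroup.mk' (pPrimeCore 2 C) with hπ
  have hπs : Function.Surjective π := QuotientGroup.mk'_surjective _
  have hker : π.ker = pPrimeCore 2 C := QuotientGroup.ker_mk' _
  have hXb : IsComponent (X'.map π) :=
    ⟨hsn.map hπs, isQuasisimple_of_mulEquiv (quotientCoreEquiv 2 hsn) hqs⟩
  set ab : MulAut (C ⧸ pPrimeCore 2 C) := autQuot (pPrimeCore 2 C) a with hab
  have habπ : ∀ c : C, ab (π c) = π (a c) := fun c => rfl
  have hXb' : IsComponent ((X'.map π).map ab.toMonoidHom) := isComponent_map_equiv ab hXb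
  have hW : ∀ w : C, w ∈ X' ⊔ pPrimeCore 2 C ↔ π w ∈ X'.map π := by
    intro w
    rw [← Subgroup.mem_comap, Subgroup.comap_map_eq, hker]
  have hDK : ∀ c : C, c ∈ D ⊔ pPrimeCore 2 C ↔ π c ∈ D.map π := by
    intro c
    rw [← Subgroup.mem_comap, Subgroup.comap_map_eq, hker]
  have hDbn : (D.map π).Normal := hDn.map π hπs
  have habD : ∀ cb : C ⧸ pPrimeCore 2 C, ab cb * cb⁻¹ ∈ D.map π := by
    intro cb
    obtain ⟨c, rfl⟩ := hπs cb
    rw [habπ, ← map_inv, ← map_mul]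
    exact ⟨_, hD c, rfl⟩
  by_cases hne : (X'.map π).map ab.toMonoidHom = X'.map π
  · -- `ab` stabilizes the component
    have hstab : ∀ xb ∈ X'.map π, ab xb ∈ X'.map π := by
      intro xb hxb
      rw [← hne]
      exact ⟨xb, hxb, rfl⟩
    -- the normal subgroup E = D̄ ∩ X̄ of X̄
    have hEn : ((D.map π).subgroupOf (X'.map π)).Normal := inferInstance
    rcases quasisimple_normal_top_or_central hXb.2 _ hEn with h | h
    · -- X̄ ≤ D̄
      left
      intro x hx y hy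
      have hxy : ⁅x, y⁆ ∈ X' ⊔ pPrimeCore 2 C := by
        rw [commutatorElement_def]
        exact Subgroup.mul_mem _ (Subgroup.mul_mem _ (Subgroup.mul_mem _ hx hy)
          (Subgroup.inv_mem _ hx)) (Subgroup.inv_mem _ hy)
      rw [hDK]
      have h1 : (⟨π ⁅x, y⁆, (hW _).mp hxy⟩ : ↥(X'.map π)) ∈
          (D.map π).subgroupOf (X'.map π) := by rw [h]; exact Subgroup.mem_top _
      exact Subgroup.mem_subgroupOf.mp h1
    · -- E is central in X̄: `ab` centralizes X̄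
      right
      have hz : ∀ xb ∈ X'.map π, ∀ yb ∈ X'.map π, (ab xb * xb⁻¹) * yb = yb * (ab xb * xb⁻¹) := by
        intro xb hxb yb hyb
        have h1 : (⟨ab xb * xb⁻¹, Subgroup.mul_mem _ (hstab xb hxb) (Subgroup.inv_mem _ hxb)⟩ :
            ↥(X'.map π)) ∈ (D.map π).subgroupOf (X'.map π) := by
          rw [Subgroup.mem_subgroupOf]; exact habD xb
        have h2 := Subgroup.mem_center_iff.mp (h h1) ⟨yb, hyb⟩
        exact (congrArg Subtype.val h2).symm
      -- the fixed points of `ab` in X̄ contain all commutators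
      have hfix : ∀ xb ∈ X'.map π, ab xb = xb := by
        have hperf : ⁅X'.map π, X'.map π⁆ = X'.map π := by
          have : Group.IsPerfect ↥(X'.map π) := hXb.2.1
          exact Subgroup.isPerfect_iff.mp this
        have hle : ⁅X'.map π, X'.map π⁆ ≤
            (X'.map π) ⊓ (MonoidHom.eqLocus ab.toMonoidHom (MonoidHom.id _)) := by
          rw [Subgroup.commutator_le]
          intro g hg k hk
          refine ⟨?_, ?_⟩
          · rw [commutatorElement_def]
            exact Subgroup.mul_mem _ (Subgroup.mul_mem _ (Subgroup.mul_mem _ hg hk)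
              (Subgroup.inv_mem _ hg)) (Subgroup.inv_mem _ hk)
          · show ab ⁅g, k⁆ = ⁅g, k⁆
            rw [map_commutatorElement]
            have eg : ab g = (ab g * g⁻¹) * g := by group
            have ek : ab k = (ab k * k⁻¹) * k := by group
            rw [eg, ek]
            have hzk_mem : ab k * k⁻¹ ∈ X'.map π :=
              Subgroup.mul_mem _ (hstab k hk) (Subgroup.inv_mem _ hk)
            exact comm_mul_of_commute _ _ _ _ (hz g hg g hg) (hz g hg k hk)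
              (hz g hg _ hzk_mem) (hz k hk g hg) (hz k hk k hk)
        intro xb hxb
        rw [← hperf] at hxb
        exact (hle hxb).2
      intro w hw
      have h1 := hfix (π w) ((hW w).mp hw)
      rw [habπ] at h1
      have h2 : π (w⁻¹ * a w) = 1 := by
        rw [map_mul, map_inv, h1, inv_mul_cancel]
      rwa [← MonoidHom.mem_ker, hker] at h2
  · -- distinct components commute
    left
    have hcomm := Cfsg.Agent.S1263.distinct_components_commute hXb hXb' (Ne.symm hne)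
    intro x hx y hy
    rw [hDK]
    have hxb := (hW x).mp hx
    have hyb := (hW y).mp hy
    have h1 : ⁅π x, ab (π y)⁆ = 1 := by
      have : ⁅π x, ab (π y)⁆ ∈ ⁅X'.map π, (X'.map π).map ab.toMonoidHom⁆ :=
        Subgroup.commutator_mem_commutator hxb ⟨π y, hyb, rfl⟩
      rw [hcomm] at this
      exact Subgroup.mem_bot.mp this
    -- modulo D̄, ab (π y) = π y
    have h2 : QuotientGroup.mk' (D.map π) (ab (π y)) = QuotientGroup.mk' (D.map π) (π y) := by
      have := habD (π y)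
      rw [← QuotientGroup.ker_mk' (D.map π), MonoidHom.mem_ker, map_mul, map_inv] at this
      exact mul_inv_eq_one.mp this
    have h3 : QuotientGroup.mk' (D.map π) ⁅π x, π y⁆ = 1 := by
      rw [map_commutatorElement, ← h2, ← map_commutatorElement, h1, map_one]
    rw [map_commutatorElement]
    rwa [← MonoidHom.mem_ker, QuotientGroup.ker_mk'] at h3

end Cfsg.Agent.Lib.Helper10.PushUp
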