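import Mathlib
import Cfsg.Prelude.Def_Local
import Cfsg.Agent.Lib.Helper10.ExtLayer
import Cfsg.Agent.Lib.Helper10.LBal7
import Cfsg.Agent.Lib.Helper10.PushUp2

set_option autoImplicit false

/-!
# Pushing up, part 3: Sylow dichotomy and transport lemmas
-/

namespace Cfsg.Agent.Lib.Helper10.PushUp

open Cfsg Cfsg.Agent.Lib.Helper10.GlaubA Cfsg.Agent.Lib.Helper10 Cfsg.Agent.Lib.Helper9
open scoped commutatorElement

universe u

variable {Y : Type u} [Group Y]

lemma relSN_inf {A H N : Subgroup Y} (hHN : H ≤ N)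
    (hA : (A.subgroupOf N).IsSubnormal) : ((A ⊓ H).subgroupOf H).IsSubnormal := by
  have h1 : ((A.subgroupOf N).subgroupOf (H.subgroupOf N)).IsSubnormal := hA.subgroupOf
  have h2 := h1.map (f := (Subgroup.subgroupOfEquivOfLe hHN).toMonoidHom)
    (Subgroup.subgroupOfEquivOfLe hHN).surjective
  convert h2 using 1
  ext x
  constructor
  · intro hx
    rw [Subgroup.mem_subgroupOf] at hx
    refine ⟨(Subgroup.subgroupOfEquivOfLe hHN).symm x, ?_, by simp⟩
    rw [SetLike.mem_coe, Subgroup.mem_subgroupOf, Subgroup.mem_subgroupOf]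
    simpa using hx.1
  · rintro ⟨y, hy, rfl⟩
    rw [SetLike.mem_coe, Subgroup.mem_subgroupOf, Subgroup.mem_subgroupOf] at hy
    rw [Subgroup.mem_subgroupOf]
    refine ⟨by simpa using hy, ?_⟩
    exact ((Subgroup.subgroupOfEquivOfLe hHN) y).2

theorem normalizer_le_normalizer_centralizer (P : Subgroup Y) :
    Subgroup.normalizer (P : Set Y) ≤
      Subgroup.normalizer ((Subgroup.centralizer (P : Set Y) : Subgroup Y) : Set Y) := by
  have key : ∀ n ∈ Subgroup.normalizer (P : Set Y), ∀ c ∈ Subgroup.centralizer (P : Set Y),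
      n * c * n⁻¹ ∈ Subgroup.centralizer (P : Set Y) := by
    intro n hn c hc
    rw [Subgroup.mem_centralizer_iff]
    intro p hp
    have hp' : n⁻¹ * p * n⁻¹⁻¹ ∈ P :=
      (Subgroup.mem_normalizer_iff.mp (Subgroup.inv_mem _ hn) p).mp hp
    have := Subgroup.mem_centralizer_iff.mp hc _ hp'
    calc p * (n * c * n⁻¹) = n * ((n⁻¹ * p * n⁻¹⁻¹) * c) * n⁻¹ := by group
      _ = n * (c * (n⁻¹ * p * n⁻¹⁻¹)) * n⁻¹ := by rw [this]
      _ = n * c * n⁻¹ * p := by group
  intro n hn
  rw [Subgroup.mem_normalizer_iff]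
  intro c
  constructor
  · exact key n hn c
  · intro h
    have := key n⁻¹ (Subgroup.inv_mem _ hn) _ h
    have e : n⁻¹ * (n * c * n⁻¹) * n⁻¹⁻¹ = c := by group
    rwa [e] at this

/-- Either `P ∩ M` is a Sylow 2-subgroup of the normal subgroup `M`, or `P` is properly contained in
a 2-subgroup `P₁ ≤ MP` normalizing `P`. -/
theorem sylow_or_bigger [Finite Y] (M : Subgroup Y) [hMn : M.Normal] (P : Subgroup Y)
    (hP : IsPGroup 2 P) :
    (¬ 2 ∣ (P ⊓ M).relIndex M) ∨ ∃ P₁ : Subgroup Y, IsPGroup 2 P₁ ∧ P < P₁ ∧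
      P₁ ≤ Subgroup.normalizer (P : Set Y) ∧ P₁ ≤ M ⊔ P := by
  classical
  have : Fact (Nat.Prime 2) := ⟨Nat.prime_two⟩
  have hPT : P ≤ M ⊔ P := le_sup_right
  have hMT : M ≤ M ⊔ P := le_sup_left
  obtain ⟨R, hR⟩ := (hP.comap_of_injective (M ⊔ P).subtype (M ⊔ P).subtype_injective).exists_le_sylow
  have hR' : P.subgroupOf (M ⊔ P) ≤ (R : Subgroup ↥(M ⊔ P)) := hR
  by_cases heq : P.subgroupOf (M ⊔ P) = (R : Subgroup ↥(M ⊔ P))
  · left
    have hidx : ¬ 2 ∣ (P.subgroupOf (M ⊔ P)).index := by rw [heq]; exact R.not_dvd_index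
    have hMn' : (M.subgroupOf (M ⊔ P)).Normal := inferInstance
    have h1 := not_dvd_relIndex_inf_of_isSubnormal 2 (P.subgroupOf (M ⊔ P)) hidx
      (M.subgroupOf (M ⊔ P)) hMn'.isSubnormal
    have e : P.subgroupOf (M ⊔ P) ⊓ M.subgroupOf (M ⊔ P) = (P ⊓ M).subgroupOf (M ⊔ P) := by
      ext x; simp [Subgroup.mem_subgroupOf]
    rw [e, Subgroup.relIndex_subgroupOf hMT] at h1
    exact h1
  · right
    set R' : Subgroup Y := (R : Subgroup ↥(M ⊔ P)).map (M ⊔ P).subtype with hR'def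
    have hR'2 : IsPGroup 2 R' := R.2.map _
    have hPR' : P ≤ R' := by
      intro p hp
      exact ⟨⟨p, hPT hp⟩, hR' (Subgroup.mem_subgroupOf.mpr hp), rfl⟩
    have hR'T : R' ≤ M ⊔ P := Subgroup.map_subtype_le _
    have hne : P ≠ R' := by
      intro h
      apply heq
      apply le_antisymm hR'
      intro x hx
      rw [Subgroup.mem_subgroupOf]
      have hge : R' ≤ P := h.ge
      exact hge ⟨x, hx, rfl⟩
    have hnil : Group.IsNilpotent ↥R' := hR'2.isNilpotent
    have hlt : P.subgroupOf R' < ⊤ := by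
      rw [lt_top_iff_ne_top]
      intro h
      apply hne
      apply le_antisymm hPR'
      intro x hx
      have : (⟨x, hx⟩ : ↥R') ∈ P.subgroupOf R' := by rw [h]; exact Subgroup.mem_top _
      exact Subgroup.mem_subgroupOf.mp this
    have hnc := Group.normalizerCondition_of_isNilpotent (G := ↥R') (P.subgroupOf R') hlt
    obtain ⟨x, hxN, hxP⟩ := SetLike.exists_of_lt hnc
    refine ⟨R' ⊓ Subgroup.normalizer (P : Set Y), hR'2.to_le inf_le_left, ?_, inf_le_right,
      inf_le_left.trans hR'T⟩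
    have hxY : (x : Y) ∈ Subgroup.normalizer (P : Set Y) := by
      rw [Subgroup.mem_normalizer_iff]
      intro h
      constructor
      · intro hh
        have := (Subgroup.mem_normalizer_iff.mp hxN ⟨h, hPR' hh⟩).mp
          (Subgroup.mem_subgroupOf.mpr hh)
        exact Subgroup.mem_subgroupOf.mp this
      · intro hh
        have hhR : h ∈ R' := by
          have h1 : (x : Y)⁻¹ * ((x : Y) * h * (x : Y)⁻¹) * (x : Y) ∈ R' :=
            R'.mul_mem (R'.mul_mem (R'.inv_mem x.2) (hPR' hh)) x.2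
          have e : (x : Y)⁻¹ * ((x : Y) * h * (x : Y)⁻¹) * (x : Y) = h := by group
          rwa [e] at h1
        have := (Subgroup.mem_normalizer_iff.mp hxN ⟨h, hhR⟩).mpr
          (Subgroup.mem_subgroupOf.mpr hh)
        exact Subgroup.mem_subgroupOf.mp this
    apply lt_of_le_of_ne (le_inf hPR' Subgroup.le_normalizer)
    intro h
    apply hxP
    rw [Subgroup.mem_subgroupOf]
    have hge : R' ⊓ Subgroup.normalizer (P : Set Y) ≤ P := h.ge
    exact hge ⟨x.2, hxY⟩

end Cfsg.Agent.Lib.Helper10.PushUp
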