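import Mathlib
import Cfsg.Prelude.Def_Local
import Cfsg.Agent.Lib.Helper10.PushUp3

set_option autoImplicit false

/-!
# Pushing up, part 4: the inductive step with a bigger 2-subgroup
-/

namespace Cfsg.Agent.Lib.Helper10.PushUp

open Cfsg Cfsg.Agent.Lib.Helper10.GlaubA Cfsg.Agent.Lib.Helper10 Cfsg.Agent.Lib.Helper9
open scoped commutatorElement

universe u

variable {Y : Type u} [Group Y]

/-- The class of subnormal subgroups `X` of `C` with `X / O(X)` quasisimple. -/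
def IsW (X C : Subgroup Y) : Prop :=
  X ≤ C ∧ (X.subgroupOf C).IsSubnormal ∧ IsQuasisimple (↥X ⧸ pPrimeCore 2 ↥X)

set_option maxHeartbeats 1600000 in
theorem pu_bigger [Finite Y] (M : Subgroup Y) [hMn : M.Normal] (P : Subgroup Y)
    (P₁ : Subgroup Y) (hP₁ : IsPGroup 2 P₁) (hPP₁ : P ≤ P₁)
    (hnorm : P₁ ≤ Subgroup.normalizer (P : Set Y)) (hle : P₁ ≤ M ⊔ P)
    (IH : ∀ X₁ : Subgroup Y, IsW X₁ (Subgroup.centralizer (P₁ : Set Y)) → ∀ k ∈ X₁, ∀ j : ℕ,
      orderOf k = 2 ^ j → k ∈ M ⊔ cstar M)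
    (X : Subgroup Y) (hX : IsW X (Subgroup.centralizer (P : Set Y))) (k : Y) (hk : k ∈ X) (j : ℕ)
    (hk2 : orderOf k = 2 ^ j) : k ∈ M ⊔ cstar M := by
  classical
  obtain ⟨hXC, hsn, hqs⟩ := hX
  set C := Subgroup.centralizer (P : Set Y) with hC
  have hKn : (pPrimeCore 2 ↥C).Normal := Cfsg.Agent.Lib.Helper1.pPrimeCore_normal 2
  set π := QuotientGroup.mk' (pPrimeCore 2 ↥C) with hπ
  have hπs : Function.Surjective π := QuotientGroup.mk'_surjective _
  have hker : π.ker = pPrimeCore 2 ↥C := QuotientGroup.ker_mk' _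
  have hOodd : (Nat.card (coreOf 2 C)).Coprime 2 := coreOf_card_coprime 2 C
  have hOC : coreOf 2 C ≤ C := coreOf_le 2 C
  have hOmem : ∀ c : ↥C, c ∈ pPrimeCore 2 ↥C ↔ (c : Y) ∈ coreOf 2 C := by
    intro c
    constructor
    · intro h; exact ⟨c, h, rfl⟩
    · rintro ⟨c', hc', hcc⟩
      have : c' = c := Subtype.ext hcc
      rwa [this] at hc'
  have hqs' : IsQuasisimple (↥(X.subgroupOf C) ⧸ pPrimeCore 2 ↥(X.subgroupOf C)) :=
    isQuasisimple_coreQuot_of_equiv 2 (Subgroup.subgroupOfEquivOfLe hXC).symm hqs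
  have hperfX : Group.IsPerfect (↥X ⧸ pPrimeCore 2 ↥X) := hqs.1
  have hDn : (M.subgroupOf C).Normal := inferInstance
  -- W' and membership
  have hW' : ∀ w : ↥C, w ∈ X.subgroupOf C ⊔ pPrimeCore 2 ↥C ↔ π w ∈ (X.subgroupOf C).map π := by
    intro w
    rw [← Subgroup.mem_comap, Subgroup.comap_map_eq, hker]
  set W : Subgroup Y := (X.subgroupOf C ⊔ pPrimeCore 2 ↥C).map C.subtype with hW
  have hWC : W ≤ C := Subgroup.map_subtype_le _
  have hWmem : ∀ w : ↥C, (w : Y) ∈ W ↔ w ∈ X.subgroupOf C ⊔ pPrimeCore 2 ↥C := by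
    intro w
    constructor
    · rintro ⟨w', hw', hww⟩
      have : w' = w := Subtype.ext hww
      rwa [this] at hw'
    · intro h; exact ⟨w, h, rfl⟩
  have hXW : X ≤ W := by
    intro x hx
    exact (hWmem ⟨x, hXC hx⟩).mpr (Subgroup.mem_sup_left (Subgroup.mem_subgroupOf.mpr hx))
  have hOW : coreOf 2 C ≤ W := by
    rintro _ ⟨c, hc, rfl⟩
    exact (hWmem c).mpr (Subgroup.mem_sup_right hc)
  -- the automorphisms induced by elements of P₁ ∩ M
  have hnormC : ∀ m ∈ P₁, m ∈ Subgroup.normalizer (C : Set Y) := fun m hm =>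
    normalizer_le_normalizer_centralizer P (hnorm hm)
  have hstab : ∀ m ∈ P₁, MulAut.conj m ∈ stab C := by
    intro m hm
    rw [mem_stab]
    intro g
    exact (Subgroup.mem_normalizer_iff.mp (hnormC m hm) g).symm
  by_cases hall : ∀ m ∈ P₁ ⊓ M, ∀ w ∈ W, w⁻¹ * (m * w * m⁻¹) ∈ coreOf 2 C
  · -- all of P₁ acts trivially on W / O
    have hBall : ∀ y ∈ P₁, ∀ w ∈ W, w⁻¹ * (y * w * y⁻¹) ∈ coreOf 2 C := by
      intro y hy w hw
      have hy' : y ∈ ((M ⊔ P : Subgroup Y) : Set Y) := hle hy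
      rw [Subgroup.normal_mul] at hy'
      obtain ⟨m, hm, p, hp, rfl⟩ := Set.mem_mul.mp hy'
      have hmP₁ : m ∈ P₁ := by
        have := P₁.mul_mem hy (P₁.inv_mem (hPP₁ hp))
        rwa [mul_inv_cancel_right] at this
      have hpw : p * w * p⁻¹ = w := by
        have := Subgroup.mem_centralizer_iff.mp (hWC hw) p hp
        rw [this]; group
      have e : m * p * w * (m * p)⁻¹ = m * (p * w * p⁻¹) * m⁻¹ := by group
      rw [e, hpw]
      exact hall m ⟨hmP₁, hm⟩ w hw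
    have hnormO : P₁ ≤ Subgroup.normalizer ((coreOf 2 C : Subgroup Y) : Set Y) :=
      fun y hy => coreOf_normalizer_le 2 C (hnormC y hy)
    have hfix : ∀ w ∈ W, ∃ o ∈ coreOf 2 C, w * o ∈ Subgroup.centralizer (P₁ : Set Y) :=
      fun w hw => exists_mul_mem_centralizer P₁ hP₁ (coreOf 2 C) hOodd hnormO w
        (fun y hy => hBall y hy w hw)
    have hC₁C : Subgroup.centralizer (P₁ : Set Y) ≤ C := Subgroup.centralizer_le hPP₁
    -- X₁
    set X₁ : Subgroup Y := W ⊓ Subgroup.centralizer (P₁ : Set Y) with hX₁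
    have hX₁C : X₁ ≤ C := inf_le_left.trans hWC
    have hW'sn : (X.subgroupOf C ⊔ pPrimeCore 2 ↥C).IsSubnormal := by
      have := (hsn.map hπs).comap π
      rwa [Subgroup.comap_map_eq, hker] at this
    have hWsub : (W.subgroupOf C).IsSubnormal := by
      have e : W.subgroupOf C = X.subgroupOf C ⊔ pPrimeCore 2 ↥C :=
        Subgroup.comap_map_eq_self_of_injective C.subtype_injective _
      rw [e]; exact hW'sn
    have hX₁sn : (X₁.subgroupOf (Subgroup.centralizer (P₁ : Set Y))).IsSubnormal :=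
      relSN_inf hC₁C hWsub
    -- the surjection X₁ → X̄
    have hφmem : ∀ x : ↥X₁, (π.comp (Subgroup.inclusion hX₁C)) x ∈ (X.subgroupOf C).map π := by
      intro x
      rw [MonoidHom.comp_apply, ← hW', ← hWmem]
      exact x.2.1
    let φ : ↥X₁ →* ↥((X.subgroupOf C).map π) :=
      (π.comp (Subgroup.inclusion hX₁C)).codRestrict _ hφmem
    have hφval : ∀ x : ↥X₁, ((φ x : ↥((X.subgroupOf C).map π)) : ↥C ⧸ pPrimeCore 2 ↥C) =
        π ⟨x, hX₁C x.2⟩ := fun x => rfl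
    have hφs : Function.Surjective φ := by
      rintro ⟨_, ⟨x', hx', rfl⟩⟩
      have hx'W : (x' : Y) ∈ W := (hWmem x').mpr (Subgroup.mem_sup_left hx')
      obtain ⟨o, ho, hxo⟩ := hfix _ hx'W
      refine ⟨⟨(x' : Y) * o, W.mul_mem hx'W (hOW ho), hxo⟩, ?_⟩
      apply Subtype.ext
      rw [hφval]
      have e : (⟨(x' : Y) * o, hX₁C ⟨W.mul_mem hx'W (hOW ho), hxo⟩⟩ : ↥C) = x' * ⟨o, hOC ho⟩ :=
        Subtype.ext rfl
      rw [e, map_mul]
      have : π ⟨o, hOC ho⟩ = 1 := by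
        rw [← MonoidHom.mem_ker, hker, hOmem]; exact ho
      rw [this, mul_one]
    have hkerodd : (Nat.card φ.ker).Coprime 2 := by
      have hle' : φ.ker.map X₁.subtype ≤ coreOf 2 C := by
        rintro _ ⟨x, hx, rfl⟩
        rw [SetLike.mem_coe, MonoidHom.mem_ker] at hx
        have h1 : π ⟨x, hX₁C x.2⟩ = 1 := by
          rw [← hφval, hx]; rfl
        rw [← MonoidHom.mem_ker, hker, hOmem] at h1
        exact h1
      have h1 := Subgroup.card_dvd_of_le hle'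
      rw [Subgroup.card_map_of_injective X₁.subtype_injective] at h1
      exact Nat.Coprime.coprime_dvd_left h1 hOodd
    have hXbO : pPrimeCore 2 ↥((X.subgroupOf C).map π) = ⊥ := by
      rw [pPrimeCore_subgroupOf_eq 2 (hsn.map hπs), pPrimeCore_quotient_eq_bot 2,
        Subgroup.bot_subgroupOf]
    have hXbq : IsQuasisimple ↥((X.subgroupOf C).map π) :=
      isQuasisimple_of_mulEquiv (quotientCoreEquiv 2 hsn) hqs'
    have hX₁q := quasisimple_coreQuot_of_surjective_odd_ker φ hφs hkerodd hXbO hXbq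
    have IHX₁ := IH X₁ ⟨inf_le_right, hX₁sn, hX₁q⟩
    -- lift the image of k
    have hkb : π ⟨k, hXC hk⟩ ∈ (X.subgroupOf C).map π :=
      ⟨⟨k, hXC hk⟩, Subgroup.mem_subgroupOf.mpr hk, rfl⟩
    have hbord : orderOf (⟨π ⟨k, hXC hk⟩, hkb⟩ : ↥((X.subgroupOf C).map π)) ∣ 2 ^ j := by
      rw [Subgroup.orderOf_mk, ← hk2]
      have h1 := orderOf_map_dvd π (⟨k, hXC hk⟩ : ↥C)
      rwa [Subgroup.orderOf_mk] at h1
    obtain ⟨i, -, hi⟩ := (Nat.dvd_prime_pow Nat.prime_two).mp hbord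
    obtain ⟨x₁, hx₁, i', hi'⟩ := exists_two_element_lift φ hφs _ hi
    have hx₁N : (x₁ : Y) ∈ M ⊔ cstar M :=
      IHX₁ (x₁ : Y) x₁.2 i' (by rw [Subgroup.orderOf_coe]; exact hi')
    have hdiff : (x₁ : Y)⁻¹ * k ∈ coreOf 2 C := by
      have h1 : π ((⟨x₁, hX₁C x₁.2⟩ : ↥C)⁻¹ * ⟨k, hXC hk⟩) = 1 := by
        rw [map_mul, map_inv, ← hφval, hx₁]
        simp
      rw [← MonoidHom.mem_ker, hker, hOmem] at h1
      exact h1
    have hkN : k ∈ (M ⊔ cstar M) ⊔ coreOf 2 C := by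
      have e : k = (x₁ : Y) * ((x₁ : Y)⁻¹ * k) := by group
      rw [e]
      exact Subgroup.mul_mem _ (Subgroup.mem_sup_left hx₁N) (Subgroup.mem_sup_right hdiff)
    exact two_element_mem_of_mem_sup (M ⊔ cstar M) (coreOf 2 C) hOodd k hkN hk2
  · -- some m does not act trivially: commutators of W lie in M·O
    push Not at hall
    obtain ⟨m, hm, w₀, hw₀, hnB⟩ := hall
    have hD_m : ∀ c : ↥C, (autRes C ⟨MulAut.conj m, hstab m hm.1⟩) c * c⁻¹ ∈ M.subgroupOf C := by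
      intro c
      rw [Subgroup.mem_subgroupOf]
      show m * (c : Y) * m⁻¹ * (c : Y)⁻¹ ∈ M
      have h1 : (c : Y) * m⁻¹ * (c : Y)⁻¹ ∈ M := hMn.conj_mem _ (M.inv_mem hm.2) _
      have e : m * (c : Y) * m⁻¹ * (c : Y)⁻¹ = m * ((c : Y) * m⁻¹ * (c : Y)⁻¹) := by group
      rw [e]
      exact M.mul_mem hm.2 h1
    rcases aut_trichotomy (X.subgroupOf C) hsn hqs' (autRes C ⟨MulAut.conj m, hstab m hm.1⟩)
      (M.subgroupOf C) hD_m with hA | hB
    · apply Subgroup.mem_sup_left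
      have hcomm : ⁅X, X⁆ ≤ M ⊔ coreOf 2 C := by
        rw [Subgroup.commutator_le]
        intro x hx y hy
        have h1 := hA ⟨x, hXC hx⟩ (Subgroup.mem_sup_left (Subgroup.mem_subgroupOf.mpr hx))
          ⟨y, hXC hy⟩ (Subgroup.mem_sup_left (Subgroup.mem_subgroupOf.mpr hy))
        have h2 : (M.subgroupOf C ⊔ pPrimeCore 2 ↥C).map C.subtype ≤ M ⊔ coreOf 2 C := by
          rw [Subgroup.map_sup]
          apply sup_le_sup
          · rw [Subgroup.subgroupOf_map_subtype]; exact inf_le_left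
          · exact le_rfl
        exact h2 ⟨_, h1, rfl⟩
      have hk' : (⟨k, hk⟩ : ↥X) ∈ commutator ↥X :=
        two_element_mem_commutator hperfX _ (by rw [Subgroup.orderOf_mk]; exact hk2)
      have hk'' : k ∈ ⁅X, X⁆ := by
        rw [← Subgroup.map_subtype_commutator]
        exact ⟨⟨k, hk⟩, hk', rfl⟩
      exact two_element_mem_of_mem_sup M (coreOf 2 C) hOodd k (hcomm hk'') hk2
    · exfalso
      apply hnB
      have := hB ⟨w₀, hWC hw₀⟩ ((hWmem _).mp hw₀)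
      rw [hOmem] at this
      exact this

end Cfsg.Agent.Lib.Helper10.PushUp
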