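import Mathlib
import Cfsg.Prelude.Def_Local
import Cfsg.Agent.Lib.Helper10.PushUp4

set_option autoImplicit false

/-!
# Pushing up: the main theorem

Let `M` be a normal subgroup of the finite group `Y`, `P` a 2-subgroup of `Y` and `X` a subnormal
subgroup of `C_Y(P)` with `X / O(X)` quasisimple. Then every 2-element of `X` lies in `M · C*_Y(M)`,
where `C*_Y(M)` is the kernel of the action of `Y` on `M / O(M)`.
-/

namespace Cfsg.Agent.Lib.Helper10.PushUp

open Cfsg Cfsg.Agent.Lib.Helper10.GlaubA Cfsg.Agent.Lib.Helper10 Cfsg.Agent.Lib.Helper9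
open scoped commutatorElement

universe u

variable {Y : Type u} [Group Y]

theorem pushing_up_aux [Finite Y] (M : Subgroup Y) [hMn : M.Normal] :
    ∀ n : ℕ, ∀ P : Subgroup Y, IsPGroup 2 P → Nat.card Y - Nat.card P = n →
      ∀ X : Subgroup Y, IsW X (Subgroup.centralizer (P : Set Y)) → ∀ k ∈ X, ∀ j : ℕ,
        orderOf k = 2 ^ j → k ∈ M ⊔ cstar M := by
  intro n
  induction n using Nat.strong_induction_on with
  | _ n ih =>
    intro P hP hn X hX k hk j hk2
    rcases sylow_or_bigger M P hP with hsyl | ⟨P₁, hP₁, hlt, hnorm, hle⟩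
    · apply Subgroup.mem_sup_right
      have hXcent : X ≤ Subgroup.centralizer ((P ⊓ M : Subgroup Y) : Set Y) :=
        hX.1.trans (Subgroup.centralizer_le (by
          intro x hx; exact hx.1))
      exact two_element_mem_cstar M (P ⊓ M) inf_le_right (hP.to_le inf_le_left) hsyl X hXcent
        hX.2.2.1 k hk ⟨j, hk2⟩
    · apply pu_bigger M P P₁ hP₁ hlt.le hnorm hle _ X hX k hk j hk2
      intro X₁ hX₁ k₁ hk₁ j₁ hj₁
      have hcard : Nat.card P < Nat.card P₁ := by
        rcases (Subgroup.card_le_of_le hlt.le).lt_or_eq with h | h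
        · exact h
        · exact absurd (Subgroup.eq_of_le_of_card_ge hlt.le h.ge) hlt.ne
      have hP₁le : Nat.card P₁ ≤ Nat.card Y := Subgroup.card_le_card_group P₁
      exact ih (Nat.card Y - Nat.card P₁) (by omega) P₁ hP₁ rfl X₁ hX₁ k₁ hk₁ j₁ hj₁

/-- **Pushing up.** -/
theorem pushing_up [Finite Y] (M : Subgroup Y) [hMn : M.Normal] (P : Subgroup Y) (hP : IsPGroup 2 P)
    (X : Subgroup Y) (hX : IsW X (Subgroup.centralizer (P : Set Y))) (k : Y) (hk : k ∈ X) (j : ℕ)
    (hk2 : orderOf k = 2 ^ j) : k ∈ M ⊔ cstar M :=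
  pushing_up_aux M _ P hP rfl X hX k hk j hk2

end Cfsg.Agent.Lib.Helper10.PushUp
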