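import Mathlib
import Cfsg.Prelude.Def_Local
import Cfsg.Agent.Lib.Helper10.LBal11
import Cfsg.Agent.Lib.Helper10.PushUp5

set_option autoImplicit false

/-!
# Unconditional `L_{2'}`-balance: the core-free case

If `O(G) = 1`, `P` is a 2-subgroup and `K'` is a perfect subnormal subgroup of `N_G(P)` generated by
its 2-elements with `K' / O(K')` quasisimple, then `K' ≤ E(G)`.
-/

namespace Cfsg.Agent.Lib.Helper10

open Cfsg Cfsg.Agent.Lib.Helper9 Cfsg.Agent.Lib.Helper10.GlaubA Cfsg.Agent.Lib.Helper10.PushUp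
open scoped commutatorElement

universe u

variable {G : Type u} [Group G]

theorem cstar_layer_le_centralizer [Finite G] (hO : pPrimeCore 2 G = ⊥) :
    cstar (layer G) ≤ Subgroup.centralizer ((layer G : Subgroup G) : Set G) := by
  have hEn : (layer G).Normal := inferInstance
  have hcore : pPrimeCore 2 ↥(layer G) = ⊥ := by
    rw [pPrimeCore_subgroupOf_eq 2 hEn.isSubnormal, hO, Subgroup.bot_subgroupOf]
  intro y hy
  rw [mem_cstar] at hy
  rw [Subgroup.mem_centralizer_iff]
  intro m hm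
  have h1 := hy ⟨m, hm⟩
  rw [hcore, Subgroup.mem_bot] at h1
  have h2 := congrArg Subtype.val h1
  simp only [Subgroup.coe_mul, Subgroup.coe_inv, MulAut.conjNormal_apply, Subgroup.coe_one] at h2
  -- m⁻¹ * (y * m * y⁻¹) = 1
  have h3 : y * m * y⁻¹ = m := by
    have := inv_mul_eq_one.mp h2
    exact this.symm
  calc m * y = (y * m * y⁻¹) * y := by rw [h3]
    _ = y * m := by group

theorem two_pqs_le_layer [Finite G] (hO : pPrimeCore 2 G = ⊥)
    (P : Subgroup G) (hP : IsPGroup 2 P)
    (K' : Subgroup G) (hKN : K' ≤ Subgroup.normalizer (P : Set G))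
    (hsn : (K'.subgroupOf (Subgroup.normalizer (P : Set G))).IsSubnormal)
    (hperf : ⁅K', K'⁆ = K') (hqs : IsQuasisimple (↥K' ⧸ pPrimeCore 2 ↥K'))
    (hE : K' ≤ Subgroup.closure {k : G | k ∈ K' ∧ ∃ j : ℕ, orderOf k = 2 ^ j}) :
    K' ≤ layer G := by
  have : Fact (Nat.Prime 2) := ⟨Nat.prime_two⟩
  have hEn : (layer G).Normal := inferInstance
  have hKC : K' ≤ Subgroup.centralizer (P : Set G) := pqs_le_centralizer' 2 P hP K' hKN hsn hperf hqs
  have hW : IsW K' (Subgroup.centralizer (P : Set G)) :=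
    ⟨hKC, relSN_restrict hKC (Subgroup.centralizer_le_normalizer _) hsn, hqs⟩
  apply le_layer_of_le_sup_centralizer hperf
  · refine hE.trans ?_
    rw [Subgroup.closure_le]
    rintro k ⟨hk, j, hj⟩
    have h1 := pushing_up (layer G) P hP K' hW k hk j hj
    exact (sup_le_sup le_rfl (cstar_layer_le_centralizer hO)) h1
  · rw [Cfsg.Agent.S1327.fitting_eq_pCore 2 hO]
    exact pqs_le_centralizer_pCore 2 P hP K' hKN hsn hperf hqs

end Cfsg.Agent.Lib.Helper10
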