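import Mathlib
import Cfsg.Prelude.Def_Local
import Cfsg.Agent.Lib.Helper10.LBalTwo

set_option autoImplicit false

/-!
# 2-components are generated by their 2-elements
-/

namespace Cfsg.Agent.Lib.Helper10

open Cfsg Cfsg.Agent.Lib.Helper9
open scoped commutatorElement

variable {Y : Type*} [Group Y]

theorem isPComponent_two_le_closure [Finite Y] {K : Subgroup Y} (hK : IsPComponent 2 K) :
    K ≤ Subgroup.closure {k : Y | k ∈ K ∧ ∃ j : ℕ, orderOf k = 2 ^ j} := by
  classical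
  have : Fact (Nat.Prime 2) := ⟨Nat.prime_two⟩
  set N : Subgroup ↥K := Subgroup.closure {k : ↥K | ∃ j : ℕ, orderOf k = 2 ^ j} with hN
  have hNn : N.Normal := by
    constructor
    intro n hn g
    have hmap : N.map (MulAut.conj g).toMonoidHom ≤ N := by
      rw [hN, MonoidHom.map_closure, Subgroup.closure_le]
      rintro _ ⟨k, ⟨j, hj⟩, rfl⟩
      apply Subgroup.subset_closure
      refine ⟨j, ?_⟩
      rw [← hj]
      exact orderOf_injective (MulAut.conj g).toMonoidHom (MulAut.conj g).injective k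
    exact hmap ⟨n, hn, rfl⟩
  obtain ⟨S⟩ : Nonempty (Sylow 2 ↥K) := inferInstance
  have hSN : (S : Subgroup ↥K) ≤ N := by
    intro s hs
    apply Subgroup.subset_closure
    obtain ⟨j, hj⟩ := (IsPGroup.iff_orderOf.1 S.2) ⟨s, hs⟩
    exact ⟨j, by rw [← hj]; exact (Subgroup.orderOf_mk s hs).symm⟩
  have hidx : (N.index).Coprime 2 := by
    have h1 : N.index ∣ (S : Subgroup ↥K).index := Subgroup.index_dvd_of_le hSN
    have h2 : ((S : Subgroup ↥K).index).Coprime 2 := by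
      rw [Nat.coprime_comm, Nat.Prime.coprime_iff_not_dvd Nat.prime_two]
      exact S.not_dvd_index
    exact Nat.Coprime.coprime_dvd_left h1 h2
  have htop := isPComponent_normal_index_coprime 2 hK N hidx
  intro k hk
  have h1 : (⟨k, hk⟩ : ↥K) ∈ N := by rw [htop]; exact Subgroup.mem_top _
  have h2 : k ∈ N.map K.subtype := ⟨⟨k, hk⟩, h1, rfl⟩
  rw [hN, MonoidHom.map_closure] at h2
  refine (Subgroup.closure_mono ?_) h2
  rintro _ ⟨k', ⟨j, hj⟩, rfl⟩
  exact ⟨k'.2, j, by rw [← hj]; exact Subgroup.orderOf_coe k'⟩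

theorem map_le_closure_two_elements {Y' : Type*} [Group Y'] (f : Y →* Y') {K : Subgroup Y}
    (hK : K ≤ Subgroup.closure {k : Y | k ∈ K ∧ ∃ j : ℕ, orderOf k = 2 ^ j}) :
    K.map f ≤ Subgroup.closure {k : Y' | k ∈ K.map f ∧ ∃ j : ℕ, orderOf k = 2 ^ j} := by
  refine (Subgroup.map_mono hK).trans ?_
  rw [MonoidHom.map_closure, Subgroup.closure_le]
  rintro _ ⟨k, ⟨hk, j, hj⟩, rfl⟩
  apply Subgroup.subset_closure
  refine ⟨⟨k, hk, rfl⟩, ?_⟩
  have h1 : orderOf (f k) ∣ 2 ^ j := by rw [← hj]; exact orderOf_map_dvd f k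
  obtain ⟨i, -, hi⟩ := (Nat.dvd_prime_pow Nat.prime_two).mp h1
  exact ⟨i, hi⟩

end Cfsg.Agent.Lib.Helper10
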