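import Mathlib
import Cfsg.Agent.S0744

set_option autoImplicit false

/-! Piece P1 of project LW (S0745/S0746, Livingstone–Wagner): pointwise stabilisers of
`(k-1)`-sets are trivial. -/

namespace Cfsg.Agent.Lib.Helper10.LWP1

open MulAction
open scoped Pointwise

variable {α : Type*} [Fintype α] [DecidableEq α]

omit [Fintype α] in
/-- under `j`-homogeneity the pointwise stabilisers of the `j`-sets all have the same order -/
theorem card_fixing_const (G : Subgroup (Equiv.Perm α)) (j : ℕ)
    (hh : IsPretransitive G (Set.powersetCard α j)) (s t : Finset α) (hs : s.card = j)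
    (ht : t.card = j) :
    Nat.card (fixingSubgroup G (t : Set α)) = Nat.card (fixingSubgroup G (s : Set α)) := by
  obtain ⟨g, hg⟩ := hh.exists_smul_eq (⟨t, Set.powersetCard.mem_iff.mpr ht⟩ : Set.powersetCard α j)
    ⟨s, Set.powersetCard.mem_iff.mpr hs⟩
  have hg' : g • (t : Finset α) = s := by
    have := congrArg Subtype.val hg
    exact (Set.powersetCard.coe_smul (g := g)
      (s := (⟨t, Set.powersetCard.mem_iff.mpr ht⟩ : Set.powersetCard α j))).symm.trans this
  have hg'' : g • (t : Set α) = (s : Set α) := by
    rw [← hg', Finset.coe_smul_finset]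
  exact Nat.card_congr (SubMulAction.fixingSubgroupEquivFixingSubgroup hg'').toEquiv

theorem fix_trivial (G : Subgroup (Equiv.Perm α)) {k : ℕ} (hk : 3 ≤ k) (hkn : k ≤ Fintype.card α)
    (hnt : ¬ IsMultiplyPretransitive G α (k - 1))
    (hh1 : IsPretransitive G (Set.powersetCard α (k - 1)))
    (hh : IsPretransitive G (Set.powersetCard α k)) :
    ∀ s : Finset α, s.card = k - 1 → fixingSubgroup G (s : Set α) = ⊥ := by
  intro s hs
  obtain ⟨u, hu⟩ : ∃ u : Finset α, u.card = k := by
    obtain ⟨u, _, hu⟩ := Finset.exists_subset_card_eq (s := (Finset.univ : Finset α))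
      (n := k) (by rw [Finset.card_univ]; exact hkn)
    exact ⟨u, hu⟩
  by_contra hne
  have hl : 1 < Nat.card (fixingSubgroup G (s : Set α)) := by
    have hpos : 0 < Nat.card (fixingSubgroup G (s : Set α)) := Nat.card_pos
    have hne1 : Nat.card (fixingSubgroup G (s : Set α)) ≠ 1 := by
      intro h1
      exact hne (Subgroup.card_eq_one.mp h1)
    omega
  apply hnt
  exact Cfsg.Agent.S0744.result G (show 1 < k by omega) hkn
    (Nat.card (fixingSubgroup G (s : Set α))) (Nat.card (fixingSubgroup G (u : Set α))) hl
    (fun t ht => card_fixing_const G (k - 1) hh1 s t hs ht)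
    (fun t ht => card_fixing_const G k hh u t hu ht)

end Cfsg.Agent.Lib.Helper10.LWP1
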