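import Mathlib
import Cfsg.Agent.S0744
import Cfsg.Agent.Lib.Helper10.LWP1

set_option autoImplicit false

/-! Piece P2 of project LW (S0745/S0746, Livingstone–Wagner): the numerical invariants. -/

namespace Cfsg.Agent.Lib.Helper10.LWP2

open MulAction
open scoped Pointwise
open Cfsg.Agent.Lib.helper6 (ncard_orbit_mul_card_stabilizer dvd_ncard_of_invariant
  isMultiplyPretransitive_of_fixing)
open Cfsg.Agent.S0744 (orbit_fixing_card not_mem_of_orbit_fixing)

variable {α : Type*} [Fintype α] [DecidableEq α]

omit [Fintype α] in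
/-- if the pointwise stabilisers of the `(t+1)`-sets are trivial, every orbit of the pointwise
stabiliser of a `t`-set `S` outside `S` has as many points as the stabiliser -/
theorem orbit_ncard (G : Subgroup (Equiv.Perm α)) (t : ℕ)
    (hfix : ∀ s : Finset α, s.card = t + 1 → fixingSubgroup G (s : Set α) = ⊥)
    (S : Finset α) (hS : S.card = t) (x : α) (hx : x ∉ S) :
    (orbit (fixingSubgroup G (S : Set α)) x).ncard = Nat.card (fixingSubgroup G (S : Set α)) := by
  have h := orbit_fixing_card (G := G) (S : Set α) x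
  have h1 : fixingSubgroup G (insert x (S : Set α)) = ⊥ := by
    have := hfix (insert x S) (by rw [Finset.card_insert_of_notMem hx, hS])
    rwa [Finset.coe_insert] at this
  rw [h1] at h
  simpa using h

/-- homogeneity gives `|G| = (n choose j) * |G_s|` -/
theorem card_eq_choose_mul (G : Subgroup (Equiv.Perm α)) (j : ℕ) (hj : j ≤ Fintype.card α)
    (hh : IsPretransitive G (Set.powersetCard α j)) :
    ∃ b : ℕ, Nat.card G = (Fintype.card α).choose j * b := by
  obtain ⟨u, _, hu⟩ := Finset.exists_subset_card_eq (s := (Finset.univ : Finset α))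
    (n := j) (by rw [Finset.card_univ]; exact hj)
  let U : Set.powersetCard α j := ⟨u, Set.powersetCard.mem_iff.mpr hu⟩
  refine ⟨Nat.card (stabilizer G U), ?_⟩
  have h := ncard_orbit_mul_card_stabilizer (Q := G) U
  rw [MulAction.orbit_eq_univ, Set.ncard_univ, Set.powersetCard.card,
    Nat.card_eq_fintype_card] at h
  exact h.symm

theorem numerics (G : Subgroup (Equiv.Perm α)) (t : ℕ) (ht : 1 ≤ t) (hn : t + 2 ≤ Fintype.card α)
    (hT : IsMultiplyPretransitive G α t)
    (hnT : ¬ IsMultiplyPretransitive G α (t + 1))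
    (hfix : ∀ s : Finset α, s.card = t + 1 → fixingSubgroup G (s : Set α) = ⊥)
    (hh1 : IsPretransitive G (Set.powersetCard α (t + 1)))
    (hh2 : IsPretransitive G (Set.powersetCard α (t + 2))) :
    ∃ h c : ℕ, 1 ≤ h ∧ 2 ≤ c ∧ Fintype.card α = t + h * c ∧
      (∀ s : Finset α, s.card = t → Nat.card (fixingSubgroup G (s : Set α)) = h) ∧
      Nat.card G = (Fintype.card α).descFactorial t * h ∧
      c ∣ (t + 1).factorial ∧ c * (h * c - 1) ∣ (t + 2).factorial := by
  set n := Fintype.card α with hn_def
  obtain ⟨S₀, _, hS₀⟩ := Finset.exists_subset_card_eq (s := (Finset.univ : Finset α))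
    (n := t) (by rw [Finset.card_univ]; omega)
  set h := Nat.card (fixingSubgroup G (S₀ : Set α)) with hh_def
  have hhpos : 1 ≤ h := Nat.card_pos
  have hhomt : IsPretransitive G (Set.powersetCard α t) :=
    Set.powersetCard.isPretransitive_of_isMultiplyPretransitive G hT
  have hconst : ∀ s : Finset α, s.card = t → Nat.card (fixingSubgroup G (s : Set α)) = h :=
    fun s hs => Cfsg.Agent.Lib.Helper10.LWP1.card_fixing_const G t hhomt S₀ s hS₀ hs
  -- the order of `G`
  have hcardG : Nat.card G = n.descFactorial t * h := by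
    have hnc : ((S₀ : Set α)).ncard = t := by rw [Set.ncard_coe_finset, hS₀]
    have hidx := IsMultiplyPretransitive.index_of_fixingSubgroup_eq (G := G) (S₀ : Set α)
      (by rw [hnc]; exact hT)
    rw [hnc, Nat.card_eq_fintype_card] at hidx
    rw [← Subgroup.index_mul_card (fixingSubgroup G (S₀ : Set α)), hidx,
      Nat.descFactorial_eq_factorial_mul_choose, mul_comm (t.factorial)]
  -- the orbits outside a `t`-set
  have horb : ∀ S : Finset α, S.card = t → ∀ x, x ∉ S →
      (orbit (fixingSubgroup G (S : Set α)) x).ncard = h := by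
    intro S hS x hx
    rw [orbit_ncard G t hfix S hS x hx, hconst S hS]
  have hcompl : ∀ S : Finset α, S.card = t → ((S : Set α)ᶜ).ncard = n - t := by
    intro S hS
    rw [Set.ncard_compl, Nat.card_eq_fintype_card, Set.ncard_coe_finset, hS]
  have hdvd : h ∣ n - t := by
    refine dvd_ncard_of_invariant (Q := fixingSubgroup G (S₀ : Set α)) h (n - t) ((S₀ : Set α)ᶜ)
      (Set.toFinite _) (hcompl S₀ hS₀) ?_ ?_
    · intro q x hx
      exact not_mem_of_orbit_fixing (S₀ : Set α) x (q • x) hx ⟨q, rfl⟩
    · intro x hx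
      exact horb S₀ hS₀ x (by simpa using hx)
  obtain ⟨c, hc⟩ := hdvd
  have hnt : n = t + h * c := by omega
  have hc0 : c ≠ 0 := by
    rintro rfl
    omega
  have hc1 : c ≠ 1 := by
    rintro rfl
    rw [mul_one] at hc
    apply hnT
    apply isMultiplyPretransitive_of_fixing
    intro Z hZ a b haZ hbZ
    by_cases hab : a = b
    · exact ⟨1, G.one_mem, fun _ _ => rfl, by rw [hab]; rfl⟩
    have hsub : Z ⊆ Finset.univ \ {a, b} := by
      intro z hz
      rw [Finset.mem_sdiff, Finset.mem_insert, Finset.mem_singleton]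
      refine ⟨Finset.mem_univ _, ?_⟩
      rintro (rfl | rfl)
      · exact haZ hz
      · exact hbZ hz
    have hcard2 : (Finset.univ \ ({a, b} : Finset α)).card = n - 2 := by
      rw [Finset.card_sdiff_of_subset (Finset.subset_univ _), Finset.card_univ, Finset.card_pair hab]
    obtain ⟨Y, hZY, hYsub, hYcard⟩ := Finset.exists_subsuperset_card_eq hsub
      (show Z.card ≤ t by omega) (show t ≤ (Finset.univ \ ({a, b} : Finset α)).card by omega)
    have haY : a ∉ Y := by
      intro h'
      have := hYsub h'
      simp at this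
    have hbY : b ∉ Y := by
      intro h'
      have := hYsub h'
      simp at this
    -- the orbit of `a` is the whole complement of `Y`
    have hsubset : orbit (fixingSubgroup G (Y : Set α)) a ⊆ (Y : Set α)ᶜ := by
      intro x hx
      exact not_mem_of_orbit_fixing (Y : Set α) a x (by simpa using haY) hx
    have heq : orbit (fixingSubgroup G (Y : Set α)) a = (Y : Set α)ᶜ := by
      apply Set.eq_of_subset_of_ncard_le hsubset _ (Set.toFinite _)
      rw [hcompl Y hYcard, horb Y hYcard a haY, hc]
    have hb : b ∈ orbit (fixingSubgroup G (Y : Set α)) a := by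
      rw [heq]; simpa using hbY
    obtain ⟨κ, hκ⟩ := hb
    refine ⟨κ.1.1, κ.1.2, ?_, hκ⟩
    intro z hz
    exact (mem_fixingSubgroup_iff G).mp κ.2 z (by exact_mod_cast hZY hz)
  have hc2 : 2 ≤ c := by omega
  refine ⟨h, c, hhpos, hc2, hnt, hconst, hcardG, ?_, ?_⟩
  · -- `c ∣ (t+1)!`
    obtain ⟨b1, hb1⟩ := card_eq_choose_mul G (t + 1) (by omega) hh1
    refine ⟨b1, ?_⟩
    have hD : 0 < n.descFactorial t :=
      Nat.pos_of_ne_zero (by rw [Ne, Nat.descFactorial_eq_zero_iff_lt]; omega)
    have e1 : n.descFactorial (t + 1) = (n - t) * n.descFactorial t := Nat.descFactorial_succ n t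
    have e2 : n.descFactorial (t + 1) = (t + 1).factorial * n.choose (t + 1) :=
      Nat.descFactorial_eq_factorial_mul_choose n (t + 1)
    have key : n.descFactorial t * h * (t + 1).factorial = n.descFactorial t * h * (c * b1) := by
      calc n.descFactorial t * h * (t + 1).factorial
          = Nat.card G * (t + 1).factorial := by rw [hcardG]
        _ = ((t + 1).factorial * n.choose (t + 1)) * b1 := by rw [hb1]; ring
        _ = (n - t) * n.descFactorial t * b1 := by rw [← e2, e1]
        _ = n.descFactorial t * h * (c * b1) := by rw [hc]; ring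
    exact Nat.eq_of_mul_eq_mul_left (Nat.mul_pos hD hhpos) key
  · -- `c (hc - 1) ∣ (t+2)!`
    obtain ⟨b2, hb2⟩ := card_eq_choose_mul G (t + 2) hn hh2
    refine ⟨b2, ?_⟩
    have hD : 0 < n.descFactorial t :=
      Nat.pos_of_ne_zero (by rw [Ne, Nat.descFactorial_eq_zero_iff_lt]; omega)
    have e0 : n.descFactorial (t + 1) = (n - t) * n.descFactorial t := Nat.descFactorial_succ n t
    have e1 : n.descFactorial (t + 2) = (n - (t + 1)) * n.descFactorial (t + 1) :=
      Nat.descFactorial_succ n (t + 1)
    have e2 : n.descFactorial (t + 2) = (t + 2).factorial * n.choose (t + 2) :=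
      Nat.descFactorial_eq_factorial_mul_choose n (t + 2)
    have e3 : n - (t + 1) = h * c - 1 := by omega
    have key : n.descFactorial t * h * (t + 2).factorial =
        n.descFactorial t * h * (c * (h * c - 1) * b2) := by
      calc n.descFactorial t * h * (t + 2).factorial
          = Nat.card G * (t + 2).factorial := by rw [hcardG]
        _ = ((t + 2).factorial * n.choose (t + 2)) * b2 := by rw [hb2]; ring
        _ = (n - (t + 1)) * ((n - t) * n.descFactorial t) * b2 := by rw [← e2, e1, e0]
        _ = n.descFactorial t * h * (c * (h * c - 1) * b2) := by rw [e3, hc]; ring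
    exact Nat.eq_of_mul_eq_mul_left (Nat.mul_pos hD hhpos) key

end Cfsg.Agent.Lib.Helper10.LWP2
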