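import Mathlib

set_option autoImplicit false

namespace Cfsg.Agent.Lib.Helper10.LargeXS

variable {G : Type*} [Group G]

structure XS (Qz : Subgroup G) (z : G) : Prop where
  z_ne : z ≠ 1
  z_sq : z * z = 1
  z_mem : z ∈ Qz
  z_comm : ∀ x ∈ Qz, x * z = z * x
  center : ∀ x ∈ Qz, (∀ y ∈ Qz, x * y = y * x) → x = 1 ∨ x = z
  comm : ∀ x ∈ Qz, ∀ y ∈ Qz, x * y = y * x ∨ x * y = z * (y * x)
  sq : ∀ x ∈ Qz, x * x = 1 ∨ x * x = z

variable {Qz : Subgroup G} {z : G}

theorem XS.z_inv (h : XS Qz z) : z⁻¹ = z := by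
  rw [inv_eq_iff_mul_eq_one]
  exact h.z_sq

theorem XS.swap (h : XS Qz z) {q u : G} (hqu : q * u = z * (u * q)) :
    u * q = z * (q * u) := by
  rw [hqu, ← mul_assoc, h.z_sq, one_mul]

theorem XS.inv_mul_comm (h : XS Qz z) {q u y : G} (hq : q ∈ Qz)
    (hqu : q * u = z * (u * q)) (hyu : y * u = z * (u * y)) :
    (q⁻¹ * y) * u = u * (q⁻¹ * y) := by
  have h1 : u * q⁻¹ = z * (q⁻¹ * u) := by
    have hzq : q⁻¹ * z = z * q⁻¹ := h.z_comm _ (Qz.inv_mem hq)
    have : q⁻¹ * (q * u) * q⁻¹ = q⁻¹ * (z * (u * q)) * q⁻¹ := by rw [hqu]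
    rw [inv_mul_cancel_left] at this
    rw [this, ← mul_assoc, hzq, mul_assoc, mul_assoc, mul_assoc, mul_inv_cancel, mul_one]
  have h2 : q⁻¹ * u = z * (u * q⁻¹) := by
    rw [h1, ← mul_assoc, h.z_sq, one_mul]
  calc (q⁻¹ * y) * u = q⁻¹ * (y * u) := by rw [mul_assoc]
    _ = q⁻¹ * (z * (u * y)) := by rw [hyu]
    _ = z * (q⁻¹ * u * y) := by
        rw [← mul_assoc, h.z_comm _ (Qz.inv_mem hq), mul_assoc, mul_assoc]
    _ = z * (z * (u * q⁻¹) * y) := by rw [h2]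
    _ = u * (q⁻¹ * y) := by
        rw [mul_assoc z, ← mul_assoc z z, h.z_sq, one_mul, mul_assoc]

theorem XS.comm_all (h : XS Qz z) {q u x : G} (hq : q ∈ Qz) (hu : u ∈ Qz)
    (hqu : q * u = z * (u * q))
    (hxR : ∀ r ∈ Qz, r * u = u * r → x * r = r * x) (hxq : x * q = q * x) :
    ∀ y ∈ Qz, x * y = y * x := by
  intro y hy
  rcases h.comm y hy u hu with hyu | hyu
  · exact hxR y hy hyu
  · have hq1 : q⁻¹ * y ∈ Qz := Qz.mul_mem (Qz.inv_mem hq) hy
    have h1 := hxR (q⁻¹ * y) hq1 (h.inv_mul_comm hq hqu hyu)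
    calc x * y = x * (q * (q⁻¹ * y)) := by rw [mul_inv_cancel_left]
      _ = q * (x * (q⁻¹ * y)) := by rw [← mul_assoc, hxq, mul_assoc]
      _ = q * (q⁻¹ * y * x) := by rw [h1]
      _ = y * x := by rw [← mul_assoc, mul_inv_cancel_left]

theorem XS.double_centralizer (h : XS Qz z) {q u x : G} (hq : q ∈ Qz) (hu : u ∈ Qz)
    (hx : x ∈ Qz) (hqu : q * u = z * (u * q))
    (hxR : ∀ r ∈ Qz, r * u = u * r → x * r = r * x) :
    x = 1 ∨ x = z ∨ x * u = 1 ∨ x * u = z := by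
  rcases h.comm x hx q hq with hxq | hxq
  · rcases h.center x hx (h.comm_all hq hu hqu hxR hxq) with h1 | h1
    · exact Or.inl h1
    · exact Or.inr (Or.inl h1)
  · have huq : u * q = z * (q * u) := h.swap hqu
    have hxu : x * u = u * x := hxR u hu rfl
    have hwq : (x * u) * q = q * (x * u) := by
      calc (x * u) * q = x * (u * q) := by rw [mul_assoc]
        _ = x * (z * (q * u)) := by rw [huq]
        _ = z * (x * q * u) := by
            rw [← mul_assoc, h.z_comm x hx, mul_assoc, mul_assoc]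
        _ = z * (z * (q * x) * u) := by rw [hxq]
        _ = q * (x * u) := by
            rw [mul_assoc z, ← mul_assoc z z, h.z_sq, one_mul, mul_assoc]
    have hwR : ∀ r ∈ Qz, r * u = u * r → (x * u) * r = r * (x * u) := by
      intro r hr hru
      rw [mul_assoc, ← hru, ← mul_assoc, hxR r hr hru, mul_assoc]
    rcases h.center (x * u) (Qz.mul_mem hx hu) (h.comm_all hq hu hqu hwR hwq) with h1 | h1
    · exact Or.inr (Or.inr (Or.inl h1))
    · exact Or.inr (Or.inr (Or.inr h1))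

end Cfsg.Agent.Lib.Helper10.LargeXS
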