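import Mathlib
import Cfsg.Agent.Lib.Helper10.LargeXS1

set_option autoImplicit false

namespace Cfsg.Agent.Lib.Helper10.LargeXS

variable {G : Type*} [Group G] {Qz : Subgroup G} {z : G}

theorem XS.eq_of_mul_eq_one (h : XS Qz z) {x u : G} (hu2 : u * u = 1) (hxu : x * u = 1) : x = u := by
  have : x = u⁻¹ := eq_inv_of_mul_eq_one_left hxu
  rw [this, inv_eq_iff_mul_eq_one]
  exact hu2

theorem XS.eq_of_mul_eq_z (h : XS Qz z) {x u : G} (hu2 : u * u = 1) (hxu : x * u = z) :
    x = z * u := by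
  calc x = x * (u * u) := by rw [hu2, mul_one]
    _ = z * u := by rw [← mul_assoc, hxu]

theorem XS.sq_mul (h : XS Qz z) {q u : G} (hq : q ∈ Qz) (hu2 : u * u = 1)
    (hqu : q * u = z * (u * q)) : (q * u) * (q * u) = z * (q * q) := by
  have huq : u * q = z * (q * u) := h.swap hqu
  calc (q * u) * (q * u) = q * (u * q) * u := by simp only [mul_assoc]
    _ = q * (z * (q * u)) * u := by rw [huq]
    _ = z * (q * q * (u * u)) := by
        rw [← mul_assoc q z, h.z_comm q hq]
        simp only [mul_assoc]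
    _ = z * (q * q) := by rw [hu2, mul_one]

theorem XS.centralizer_R (h : XS Qz z) {q u hh : G} (hq : q ∈ Qz) (hu : u ∈ Qz)
    (hu2 : u * u = 1) (hqu : q * u = z * (u * q))
    (hhz : hh * z = z * hh)
    (hnorm : ∀ k ∈ Qz, hh * k * hh⁻¹ ∈ Qz)
    (hcent : ∀ c : G, (∀ k ∈ Qz, c * k = k * c) → c ∈ Qz)
    (hR : ∀ r ∈ Qz, r * u = u * r → hh * r = r * hh) :
    hh = 1 ∨ hh = z ∨ hh = u ∨ hh = z * u := by
  have hfin : hh ∈ Qz → (hh = 1 ∨ hh = z ∨ hh = u ∨ hh = z * u) := by
    intro hhQ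
    rcases h.double_centralizer hq hu hhQ hqu hR with h1 | h1 | h1 | h1
    · exact Or.inl h1
    · exact Or.inr (Or.inl h1)
    · exact Or.inr (Or.inr (Or.inl (h.eq_of_mul_eq_one hu2 h1)))
    · exact Or.inr (Or.inr (Or.inr (h.eq_of_mul_eq_z hu2 h1)))
  have hq'Q : hh * q * hh⁻¹ ∈ Qz := hnorm q hq
  have hrQ : q⁻¹ * (hh * q * hh⁻¹) ∈ Qz := Qz.mul_mem (Qz.inv_mem hq) hq'Q
  have hq'hh : (hh * q * hh⁻¹) * hh = hh * q := by rw [inv_mul_cancel_right]
  have hzne : z ≠ 1 := h.z_ne
  have hru : (q⁻¹ * (hh * q * hh⁻¹)) * u = u * (q⁻¹ * (hh * q * hh⁻¹)) := by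
    rcases h.comm _ hq'Q u hu with h1 | h1
    · exfalso
      have h2 := hR _ hq'Q h1
      rw [hq'hh] at h2
      have h3 : hh * q * hh⁻¹ = q := mul_left_cancel h2
      rw [h3] at h1
      rw [h1] at hqu
      have : z = 1 := by
        have h4 : 1 * (u * q) = z * (u * q) := by rw [one_mul]; exact hqu
        exact (mul_right_cancel h4).symm
      exact hzne this
    · exact h.inv_mul_comm hq hqu h1
  have hrs : ∀ s ∈ Qz, s * u = u * s →
      (q⁻¹ * (hh * q * hh⁻¹)) * s = s * (q⁻¹ * (hh * q * hh⁻¹)) := by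
    intro s hs hsu
    have hhs : hh * s = s * hh := hR s hs hsu
    have hhs' : hh * s * hh⁻¹ = s := by rw [hhs, mul_inv_cancel_right]
    have hhz' : hh * z * hh⁻¹ = z := by rw [hhz, mul_inv_cancel_right]
    have hconj : hh * (q * s * q⁻¹) * hh⁻¹ = q * s * q⁻¹ := by
      rcases h.comm q hq s hs with h1 | h1
      · have : q * s * q⁻¹ = s := by rw [h1, mul_inv_cancel_right]
        rw [this, hhs']
      · have : q * s * q⁻¹ = z * s := by
          rw [h1, mul_assoc, mul_assoc, mul_inv_cancel, mul_one]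
        rw [this]
        calc hh * (z * s) * hh⁻¹ = (hh * z * hh⁻¹) * (hh * s * hh⁻¹) := by group
          _ = z * s := by rw [hhz', hhs']
    have hconj2 : hh * (q * s * q⁻¹) * hh⁻¹ =
        (hh * q * hh⁻¹) * (hh * s * hh⁻¹) * (hh * q * hh⁻¹)⁻¹ := by group
    rw [hhs', hconj] at hconj2
    calc (q⁻¹ * (hh * q * hh⁻¹)) * s
        = q⁻¹ * ((hh * q * hh⁻¹) * s * (hh * q * hh⁻¹)⁻¹) * (hh * q * hh⁻¹) := by group
      _ = q⁻¹ * (q * s * q⁻¹) * (hh * q * hh⁻¹) := by rw [← hconj2]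
      _ = s * (q⁻¹ * (hh * q * hh⁻¹)) := by group
  have hsq : (hh * q * hh⁻¹) * (hh * q * hh⁻¹) = q * q := by
    have h1 : (hh * q * hh⁻¹) * (hh * q * hh⁻¹) = hh * (q * q) * hh⁻¹ := by group
    rw [h1]
    rcases h.sq q hq with h2 | h2
    · rw [h2, mul_one, mul_inv_cancel]
    · rw [h2, hhz, mul_inv_cancel_right]
  have hq'eq : hh * q * hh⁻¹ = q * (q⁻¹ * (hh * q * hh⁻¹)) := by rw [mul_inv_cancel_left]
  have hbad : (q * u) * (q * u) ≠ q * q := by
    rw [h.sq_mul hq hu2 hqu]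
    intro h1
    have h4 : z * (q * q) = 1 * (q * q) := by rw [one_mul]; exact h1
    exact hzne (mul_right_cancel h4)
  rcases h.double_centralizer hq hu hrQ hqu hrs with h1 | h1 | h1 | h1
  · rw [h1, mul_one] at hq'eq
    have hhq : hh * q = q * hh := by rw [← hq'hh, hq'eq]
    exact hfin (hcent hh (h.comm_all hq hu hqu hR hhq))
  · rw [h1] at hq'eq
    have hhq : hh * q = q * z * hh := by rw [← hq'hh, hq'eq]
    have huq : u * q = z * (q * u) := h.swap hqu
    have hxq : (hh * u) * q = q * (hh * u) := by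
      calc (hh * u) * q = hh * (u * q) := by rw [mul_assoc]
        _ = hh * (z * (q * u)) := by rw [huq]
        _ = z * (hh * q * u) := by rw [← mul_assoc, hhz, mul_assoc, mul_assoc]
        _ = z * (q * z * hh * u) := by rw [hhq]
        _ = q * (hh * u) := by
            rw [h.z_comm q hq, ← mul_assoc, ← mul_assoc, ← mul_assoc, h.z_sq, one_mul, mul_assoc]
    have hxR : ∀ r ∈ Qz, r * u = u * r → (hh * u) * r = r * (hh * u) := by
      intro r hr hru
      rw [mul_assoc, ← hru, ← mul_assoc, hR r hr hru, mul_assoc]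
    have hmem : hh * u ∈ Qz := hcent _ (h.comm_all hq hu hqu hxR hxq)
    have : hh ∈ Qz := by
      have h5 : hh = (hh * u) * u⁻¹ := by rw [mul_inv_cancel_right]
      rw [h5]
      exact Qz.mul_mem hmem (Qz.inv_mem hu)
    exact hfin this
  · exfalso
    have h2 := h.eq_of_mul_eq_one hu2 h1
    rw [h2] at hq'eq
    rw [hq'eq] at hsq
    exact hbad hsq
  · exfalso
    have h2 := h.eq_of_mul_eq_z hu2 h1
    rw [h2] at hq'eq
    rw [hq'eq] at hsq
    apply hbad
    rw [← hsq]
    have hzq : q * z = z * q := h.z_comm q hq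
    have hzu : u * z = z * u := h.z_comm u hu
    calc (q * u) * (q * u) = (z * z) * ((q * u) * (q * u)) := by rw [h.z_sq, one_mul]
      _ = (q * (z * u)) * (q * (z * u)) := by
          rw [← mul_assoc q z u, hzq]
          have hzqu : (q * u) * z = z * (q * u) := by rw [mul_assoc, hzu, ← mul_assoc, hzq, mul_assoc]
          calc z * z * (q * u * (q * u)) = z * (z * (q * u)) * (q * u) := by simp only [mul_assoc]
            _ = z * ((q * u) * z) * (q * u) := by rw [hzqu]
            _ = z * q * u * (z * q * u) := by simp only [mul_assoc]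

end Cfsg.Agent.Lib.Helper10.LargeXS
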