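import Mathlib
import Cfsg.Prelude.Def_Solvable
import Cfsg.Prelude.Def_Transfer
import Cfsg.Agent.Lib.Helper10.LargeXS2
import Cfsg.Agent.Lib.Helper27.PCoreOf
import Cfsg.Agent.Lib.Helper1.Extraspecial
import Cfsg.Agent.Lib.Lead.Coprime

set_option autoImplicit false

namespace Cfsg.Agent.Lib.Helper10.LargeXS

open scoped commutatorElement

variable {G : Type*} [Group G]

def O2C (x : G) : Subgroup G :=
  (Cfsg.pCore 2 ↥(Subgroup.centralizer ({x} : Set G))).map (Subgroup.centralizer ({x} : Set G)).subtype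

theorem O2C_le (x : G) : O2C x ≤ Subgroup.centralizer ({x} : Set G) :=
  Cfsg.Agent.Lib.Helper27.pCoreMap_le 2 _

theorem O2C_comm {x k : G} (hk : k ∈ O2C x) : k * x = x * k := by
  have := O2C_le x hk
  rw [Subgroup.mem_centralizer_singleton_iff] at this
  exact this

theorem O2C_conj_mem {x a k : G} (ha : a * x = x * a) (hk : k ∈ O2C x) : a * k * a⁻¹ ∈ O2C x := by
  apply Cfsg.Agent.Lib.Helper27.pCoreMap_conj_mem 2 _ _ hk
  rw [Subgroup.mem_centralizer_singleton_iff]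
  exact ha

theorem O2C_isPGroup (x : G) : IsPGroup 2 ↥(O2C x) :=
  Cfsg.Agent.Lib.Helper27.pCoreMap_isPGroup 2 _

theorem le_O2C {x : G} {K : Subgroup G} (hK : ∀ k ∈ K, k * x = x * k)
    (hn : ∀ a : G, a * x = x * a → ∀ k ∈ K, a * k * a⁻¹ ∈ K) (hp : IsPGroup 2 ↥K) :
    K ≤ O2C x := by
  apply Cfsg.Agent.Lib.Helper27.le_pCoreMap
  · intro k hk
    rw [Subgroup.mem_centralizer_singleton_iff]
    exact hK k hk
  · intro a ha k hk
    rw [Subgroup.mem_centralizer_singleton_iff] at ha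
    exact hn a ha k hk
  · exact hp

theorem conj_mem_O2C (g x y : G) (hy : y ∈ O2C x) : g * y * g⁻¹ ∈ O2C (g * x * g⁻¹) := by
  have hle : (O2C x).map (MulAut.conj g).toMonoidHom ≤ O2C (g * x * g⁻¹) := by
    apply le_O2C
    · rintro _ ⟨k, hk, rfl⟩
      have h1 := O2C_comm hk
      show g * k * g⁻¹ * (g * x * g⁻¹) = g * x * g⁻¹ * (g * k * g⁻¹)
      calc g * k * g⁻¹ * (g * x * g⁻¹) = g * (k * x) * g⁻¹ := by group
        _ = g * (x * k) * g⁻¹ := by rw [h1]
        _ = g * x * g⁻¹ * (g * k * g⁻¹) := by group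
    · rintro a ha _ ⟨k, hk, rfl⟩
      have ha' : (g⁻¹ * a * g) * x = x * (g⁻¹ * a * g) := by
        calc (g⁻¹ * a * g) * x = g⁻¹ * (a * (g * x * g⁻¹)) * g := by group
          _ = g⁻¹ * ((g * x * g⁻¹) * a) * g := by rw [ha]
          _ = x * (g⁻¹ * a * g) := by group
      refine ⟨(g⁻¹ * a * g) * k * (g⁻¹ * a * g)⁻¹, O2C_conj_mem ha' hk, ?_⟩
      show g * ((g⁻¹ * a * g) * k * (g⁻¹ * a * g)⁻¹) * g⁻¹ = a * (g * k * g⁻¹) * a⁻¹
      group
    · exact (O2C_isPGroup x).map _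
  exact hle ⟨y, hy, rfl⟩

theorem mem_O2C_self {x : G} (hx : x * x = 1) : x ∈ O2C x := by
  apply Cfsg.Agent.Lib.Helper27.mem_pCoreMap_of_zpowers (k := 1)
  · rw [Subgroup.mem_centralizer_singleton_iff]
  · intro a ha
    rw [Subgroup.mem_centralizer_singleton_iff] at ha
    rw [ha, mul_inv_cancel_right]
    exact Subgroup.mem_zpowers x
  · rw [pow_one, pow_two]
    exact hx

theorem xs_of_extraspecial [Finite G] {Qz : Subgroup G} {z : G} (hE : Cfsg.IsExtraspecial 2 ↥Qz)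
    (hz1 : z ≠ 1) (hz2 : z * z = 1) (hzQ : z ∈ Qz) (hcomm : ∀ x ∈ Qz, x * z = z * x) :
    XS Qz z := by
  obtain ⟨hs, hcard⟩ := hE
  have hzc : (⟨z, hzQ⟩ : ↥Qz) ∈ Subgroup.center ↥Qz := by
    rw [Subgroup.mem_center_iff]
    intro y
    apply Subtype.ext
    exact hcomm y.1 y.2
  have hZ : ∀ c : ↥Qz, c ∈ Subgroup.center ↥Qz → c = 1 ∨ c = ⟨z, hzQ⟩ := by
    intro c hc
    by_contra hne
    rw [not_or] at hne
    have h2 := (Nat.card_eq_two_iff' (1 : ↥(Subgroup.center ↥Qz))).mp hcard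
    obtain ⟨w, -, hw⟩ := h2
    have e1 : (⟨c, hc⟩ : ↥(Subgroup.center ↥Qz)) = w :=
      hw _ (fun h => hne.1 (congrArg Subtype.val h))
    have e2 : (⟨⟨z, hzQ⟩, hzc⟩ : ↥(Subgroup.center ↥Qz)) = w :=
      hw _ (fun h => hz1 (congrArg (fun t => ((t : ↥(Subgroup.center ↥Qz)) : ↥Qz).1) h))
    have e3 := e1.trans e2.symm
    exact hne.2 (congrArg Subtype.val e3)
  refine ⟨hz1, hz2, hzQ, hcomm, ?_, ?_, ?_⟩
  · intro x hx hxy
    have hxc : (⟨x, hx⟩ : ↥Qz) ∈ Subgroup.center ↥Qz := by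
      rw [Subgroup.mem_center_iff]
      intro y
      apply Subtype.ext
      exact (hxy y.1 y.2).symm
    rcases hZ _ hxc with h1 | h1
    · exact Or.inl (congrArg Subtype.val h1)
    · exact Or.inr (congrArg Subtype.val h1)
  · intro x hx y hy
    have hc : ⁅(⟨x, hx⟩ : ↥Qz), ⟨y, hy⟩⁆ ∈ Subgroup.center ↥Qz := by
      rw [← hs.2.2]
      exact Subgroup.commutator_mem_commutator (Subgroup.mem_top _) (Subgroup.mem_top _)
    rcases hZ _ hc with h1 | h1
    · left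
      have h2 : x * y * x⁻¹ * y⁻¹ = 1 := congrArg Subtype.val h1
      calc x * y = (x * y * x⁻¹ * y⁻¹) * (y * x) := by group
        _ = y * x := by rw [h2, one_mul]
    · right
      have h2 : x * y * x⁻¹ * y⁻¹ = z := congrArg Subtype.val h1
      calc x * y = (x * y * x⁻¹ * y⁻¹) * (y * x) := by group
        _ = z * (y * x) := by rw [h2]
  · intro x hx
    have hc : (⟨x, hx⟩ : ↥Qz) ^ 2 ∈ Subgroup.center ↥Qz :=
      Cfsg.Agent.Lib.Helper1.special_pow_mem_center hs _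
    rcases hZ _ hc with h1 | h1
    · left
      have h2 : x ^ 2 = 1 := congrArg Subtype.val h1
      rw [← pow_two]; exact h2
    · right
      have h2 : x ^ 2 = z := congrArg Subtype.val h1
      rw [← pow_two]; exact h2

end Cfsg.Agent.Lib.Helper10.LargeXS
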