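import Mathlib
import Cfsg.Prelude.Def_MonsterType
import Cfsg.Agent.Lib.Helper10.LargeXS3

set_option autoImplicit false

namespace Cfsg.Agent.Lib.Helper10.LXS

open Cfsg.Agent.Lib.Helper10.LargeXS

variable {G : Type*} [Group G]

structure LX (Q : Subgroup G) (z : G) : Prop where
  xs : XS Q z
  two : IsPGroup 2 ↥Q
  cent : ∀ c : G, (∀ k ∈ Q, c * k = k * c) → c = 1 ∨ c = z
  norm : ∀ h : G, h * z = z * h → ∀ k ∈ Q, h * k * h⁻¹ ∈ Q
  odd : ∀ K : Subgroup G, Odd (Nat.card ↥K) → Q ≤ Subgroup.normalizer (K : Set G) → K = ⊥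

theorem mem_zpowers_two {z x : G} (hz : z * z = 1) (hx : x ∈ Subgroup.zpowers z) :
    x = 1 ∨ x = z := by
  rw [Subgroup.mem_zpowers_iff] at hx
  obtain ⟨k, rfl⟩ := hx
  have hz2 : z ^ (2 : ℤ) = 1 := by
    rw [zpow_ofNat, pow_two]; exact hz
  rcases Int.even_or_odd' k with ⟨m, hm | hm⟩
  · left
    rw [hm, zpow_mul, hz2, one_zpow]
  · right
    rw [hm, zpow_add, zpow_mul, hz2, one_zpow, one_mul, zpow_one]

theorem lx_of_large [Finite G] (Q : Subgroup G) (hQ : Cfsg.IsLargeExtraspecial Q) (z : G)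
    (hz : ((Subgroup.center ↥Q).map Q.subtype) = Subgroup.zpowers z) : LX Q z := by
  obtain ⟨hE, hC, hN, hL⟩ := hQ
  have hcard : Nat.card ↥(Subgroup.center ↥Q) = 2 := hE.2
  have hcard2 : Nat.card ↥(Subgroup.zpowers z) = 2 := by
    rw [← hz]
    rw [Nat.card_congr ((Subgroup.center ↥Q).equivMapOfInjective Q.subtype
      Q.subtype_injective).symm.toEquiv]
    exact hcard
  have hord : orderOf z = 2 := by
    rw [← Nat.card_zpowers]; exact hcard2
  have hz1 : z ≠ 1 := by
    intro h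
    rw [h, orderOf_one] at hord
    exact absurd hord (by norm_num)
  have hzz : z * z = 1 := by
    rw [← pow_two, ← hord]; exact pow_orderOf_eq_one z
  have hzmem : z ∈ (Subgroup.center ↥Q).map Q.subtype := by
    rw [hz]; exact Subgroup.mem_zpowers z
  obtain ⟨y, hy, hyz⟩ := hzmem
  have hzQ : z ∈ Q := by
    rw [← hyz]; exact y.2
  have hcomm : ∀ x ∈ Q, x * z = z * x := by
    intro x hx
    have h1 := Subgroup.mem_center_iff.1 hy ⟨x, hx⟩
    have h2 := congrArg Subtype.val h1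
    rw [← hyz]
    exact h2
  refine ⟨xs_of_extraspecial hE hz1 hzz hzQ hcomm, hE.1.1, ?_, ?_, hL⟩
  · intro c hc
    have hcC : c ∈ Subgroup.centralizer (Q : Set G) := by
      rw [Subgroup.mem_centralizer_iff]
      intro k hk
      exact (hc k hk).symm
    rw [hC, hz] at hcC
    exact mem_zpowers_two hzz hcC
  · intro h hh k hk
    have hhC : h ∈ Subgroup.centralizer
        (((Subgroup.center ↥Q).map Q.subtype : Subgroup G) : Set G) := by
      rw [hz, Subgroup.mem_centralizer_iff]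
      intro w hw
      rcases mem_zpowers_two hzz hw with h1 | h1
      · rw [h1, one_mul, mul_one]
      · rw [h1]; exact hh.symm
    have := hN hhC
    rw [Subgroup.mem_normalizer_iff] at this
    exact (this k).mp hk

theorem LX.z_mem_of_inv [Finite G] {Q : Subgroup G} {z : G} (h : LX Q z) (N : Subgroup G)
    (hN : N ≠ ⊥) (hQN : Q ≤ Subgroup.normalizer (N : Set G)) : z ∈ N := by
  have hf2 : Fact (Nat.Prime 2) := ⟨Nat.prime_two⟩
  have heven : 2 ∣ Nat.card ↥N := by
    by_contra hnd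
    apply hN
    apply h.odd N _ hQN
    rw [← Nat.not_even_iff_odd, even_iff_two_dvd]
    exact hnd
  have hnorm : ∀ q ∈ Q, ∀ x ∈ N, q * x * q⁻¹ ∈ N := by
    intro q hq x hx
    exact (Subgroup.mem_normalizer_iff.1 (hQN hq) x).1 hx
  let _ : MulAction ↥Q ↥N :=
    { smul := fun p v => ⟨(p : G) * v * (p : G)⁻¹, hnorm p p.2 v v.2⟩
      one_smul := by
        intro v
        apply Subtype.ext
        show ((1 : ↥Q) : G) * v * ((1 : ↥Q) : G)⁻¹ = v
        rw [Subgroup.coe_one, one_mul, inv_one, mul_one]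
      mul_smul := by
        intro p p' v
        apply Subtype.ext
        show ((p * p' : ↥Q) : G) * v * ((p * p' : ↥Q) : G)⁻¹
          = (p : G) * ((p' : G) * v * (p' : G)⁻¹) * (p : G)⁻¹
        rw [Subgroup.coe_mul]
        group }
  have hsmul : ∀ (p : ↥Q) (v : ↥N), ((p • v : ↥N) : G) = (p : G) * v * (p : G)⁻¹ := fun p v => rfl
  have h1fix : (1 : ↥N) ∈ MulAction.fixedPoints ↥Q ↥N := by
    intro p
    apply Subtype.ext
    rw [hsmul, Subgroup.coe_one, mul_one, mul_inv_cancel]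
  obtain ⟨b, hb, hb1⟩ := h.two.exists_fixed_point_of_prime_dvd_card_of_fixed_point ↥N heven h1fix
  have hbc : ∀ k ∈ Q, (b : G) * k = k * (b : G) := by
    intro k hk
    have h1 := hb ⟨k, hk⟩
    have h2 := congrArg Subtype.val h1
    rw [hsmul] at h2
    have h3 : k * (b : G) * k⁻¹ = (b : G) := h2
    calc (b : G) * k = (k * (b : G) * k⁻¹) * k := by rw [h3]
      _ = k * (b : G) := by group
  rcases h.cent _ hbc with h2 | h2
  · exfalso
    apply hb1
    apply Subtype.ext
    rw [h2, Subgroup.coe_one]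
  · rw [← h2]; exact b.2

end Cfsg.Agent.Lib.Helper10.LXS
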