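import Mathlib
import Cfsg.Agent.Lib.Helper10.LXS1
import Cfsg.Agent.Lib.Helper10.Components
import Cfsg.Agent.Lib.Helper1.Fitting
import Cfsg.Agent.Lib.Helper1.Cores
import Cfsg.Agent.S1262

set_option autoImplicit false

namespace Cfsg.Agent.Lib.Helper10.LXS

open Cfsg.Agent.Lib.Helper10.LargeXS

variable {G : Type*} [Group G]

theorem LX.not_le_centralizer_z [Finite G] {Q : Subgroup G} {z : G} (h : LX Q z)
    {K : Subgroup G} (hK : Cfsg.IsComponent K) :
    ¬ K ≤ Subgroup.centralizer ({z} : Set G) := by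
  intro hle
  have hKN : K ≤ Subgroup.normalizer (Q : Set G) := by
    intro k hk
    rw [Subgroup.mem_normalizer_iff]
    have hkz : k * z = z * k := by
      have := hle hk
      rwa [Subgroup.mem_centralizer_singleton_iff] at this
    have hkz' : k⁻¹ * z = z * k⁻¹ := by
      have := hle (K.inv_mem hk)
      rwa [Subgroup.mem_centralizer_singleton_iff] at this
    intro x
    constructor
    · intro hx
      exact h.norm k hkz x hx
    · intro hx
      have := h.norm k⁻¹ hkz' _ hx
      rw [inv_inv] at this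
      have e : k⁻¹ * (k * x * k⁻¹) * k = x := by group
      rwa [e] at this
  have hsolv : Group.IsSolvable ↥Q := by
    have : Fact (Nat.Prime 2) := ⟨Nat.prime_two⟩
    have := h.two.isNilpotent
    infer_instance
  have hc := Cfsg.Agent.S1262.result K Q hK hsolv hKN
  rw [Subgroup.commutator_eq_bot_iff_le_centralizer] at hc
  have hall : ∀ k ∈ K, k = 1 ∨ k = z := by
    intro k hk
    apply h.cent
    intro q hq
    have := hc hk
    rw [Subgroup.mem_centralizer_iff] at this
    exact (this q hq).symm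
  apply Cfsg.Agent.Lib.Helper10.isComponent_not_isSolvable hK
  have hcomm : ∀ a b : ↥K, a * b = b * a := by
    intro a b
    apply Subtype.ext
    rw [Subgroup.coe_mul, Subgroup.coe_mul]
    rcases hall a.1 a.2 with ha | ha <;> rcases hall b.1 b.2 with hb | hb <;> rw [ha, hb]
    · rw [one_mul, mul_one]
    · rw [one_mul, mul_one]
  let _ : CommGroup ↥K := { (inferInstance : Group ↥K) with mul_comm := hcomm }
  infer_instance

theorem LX.pCore_odd_eq_bot [Finite G] {Q : Subgroup G} {z : G} (h : LX Q z)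
    (q : ℕ) [Fact q.Prime] (hq : q ≠ 2) : Cfsg.pCore q G = ⊥ := by
  have hn : (Cfsg.pCore q G).Normal := Cfsg.Agent.Lib.Helper1.pCore_normal q
  have hp : IsPGroup q ↥(Cfsg.pCore q G) := Cfsg.Agent.Lib.Helper1.pCore_isPGroup q
  apply h.odd
  · obtain ⟨k, hk⟩ := IsPGroup.iff_card.1 hp
    rw [hk]
    apply Odd.pow
    exact (Fact.out : q.Prime).odd_of_ne_two hq
  · intro x _
    rw [Subgroup.normalizer_eq_top]
    exact Subgroup.mem_top x

theorem LX.fitting_eq [Finite G] {Q : Subgroup G} {z : G} (h : LX Q z) :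
    Cfsg.fittingSubgroup G = Cfsg.pCore 2 G := by
  rw [Cfsg.Agent.Lib.Helper1.fittingSubgroup_eq_iSup_pCore]
  apply le_antisymm
  · apply iSup_le
    intro p
    have : Fact (p : ℕ).Prime := ⟨p.2⟩
    by_cases hp : (p : ℕ) = 2
    · rw [hp]
    · rw [h.pCore_odd_eq_bot p hp]
      exact bot_le
  · exact le_iSup (fun q : Nat.Primes => Cfsg.pCore (q : ℕ) G) ⟨2, Nat.prime_two⟩

theorem LX.case_two [Finite G] {Q : Subgroup G} {z : G} (h : LX Q z)
    (hT : Cfsg.pCore 2 G ≠ ⊥) (M : Subgroup G)
    (hM : M = Subgroup.normalClosure ({z} : Set G)) :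
    IsMulCommutative ↥M ∧ Cfsg.generalizedFittingSubgroup G = Cfsg.pCore 2 G := by
  have hf2 : Fact (Nat.Prime 2) := ⟨Nat.prime_two⟩
  obtain ⟨T, hTdef⟩ : ∃ T : Subgroup G, T = Cfsg.pCore 2 G := ⟨_, rfl⟩
  rw [← hTdef] at hT ⊢
  have hTn : T.Normal := by rw [hTdef]; exact Cfsg.Agent.Lib.Helper1.pCore_normal 2
  have hTp : IsPGroup 2 ↥T := by rw [hTdef]; exact Cfsg.Agent.Lib.Helper1.pCore_isPGroup 2
  have hQT : Q ≤ Subgroup.normalizer (T : Set G) := by
    intro x _
    rw [Subgroup.normalizer_eq_top]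
    exact Subgroup.mem_top x
  have hzT : z ∈ T := h.z_mem_of_inv T hT hQT
  obtain ⟨A, hAdef⟩ : ∃ A : Subgroup G, A = T ⊓ Subgroup.centralizer (T : Set G) := ⟨_, rfl⟩
  have hAn : A.Normal := by rw [hAdef]; infer_instance
  have hAne : A ≠ ⊥ := by
    have hnt : Nontrivial ↥T := by
      refine ⟨⟨⟨z, hzT⟩, 1, fun hh => h.xs.z_ne (congrArg Subtype.val hh)⟩⟩
    have hcn := hTp.center_nontrivial
    obtain ⟨c, hc⟩ := exists_ne (1 : ↥(Subgroup.center ↥T))
    intro hbot
    apply hc
    have hcA : ((c : ↥T) : G) ∈ A := by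
      rw [hAdef, Subgroup.mem_inf]
      refine ⟨(c : ↥T).2, ?_⟩
      rw [Subgroup.mem_centralizer_iff]
      intro t ht
      have h1 := Subgroup.mem_center_iff.1 c.2 ⟨t, ht⟩
      exact congrArg Subtype.val h1
    rw [hbot, Subgroup.mem_bot] at hcA
    apply Subtype.ext
    apply Subtype.ext
    exact hcA
  have hQA : Q ≤ Subgroup.normalizer (A : Set G) := by
    intro x _
    rw [Subgroup.normalizer_eq_top]
    exact Subgroup.mem_top x
  have hzA : z ∈ A := h.z_mem_of_inv A hAne hQA
  have hMA : M ≤ A := by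
    rw [hM]
    apply Subgroup.normalClosure_le_normal
    intro x hx
    rw [Set.mem_singleton_iff] at hx
    rw [hx]; exact hzA
  refine ⟨⟨⟨fun a b => ?_⟩⟩, ?_⟩
  · apply Subtype.ext
    rw [Subgroup.coe_mul, Subgroup.coe_mul]
    have ha := hMA a.2
    have hb := hMA b.2
    rw [hAdef, Subgroup.mem_inf] at ha hb
    have := hb.2
    rw [Subgroup.mem_centralizer_iff] at this
    exact this _ ha.1
  · have hlayer : Cfsg.layer G = ⊥ := by
      unfold Cfsg.layer
      rw [eq_bot_iff]
      apply sSup_le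
      intro K hK
      exfalso
      apply h.not_le_centralizer_z hK
      have hsolv : Group.IsSolvable ↥T := by
        have := hTp.isNilpotent
        infer_instance
      have hKT : K ≤ Subgroup.normalizer (T : Set G) := by
        intro x _
        rw [Subgroup.normalizer_eq_top]
        exact Subgroup.mem_top x
      have hc := Cfsg.Agent.S1262.result K T hK hsolv hKT
      rw [Subgroup.commutator_eq_bot_iff_le_centralizer] at hc
      intro k hk
      rw [Subgroup.mem_centralizer_singleton_iff]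
      have := hc hk
      rw [Subgroup.mem_centralizer_iff] at this
      exact (this z hzT).symm
    unfold Cfsg.generalizedFittingSubgroup
    rw [hlayer, bot_sup_eq, h.fitting_eq, hTdef]

end Cfsg.Agent.Lib.Helper10.LXS
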