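import Mathlib
import Cfsg.Agent.Lib.Helper10.LXS1

set_option autoImplicit false

namespace Cfsg.Agent.Lib.Helper10.LXS

open Cfsg.Agent.Lib.Helper10.LargeXS

variable {G : Type*} [Group G]

structure Coord (K : Subgroup G) (z z₁ z' : G) : Prop where
  z₁_mem : z₁ ∈ K
  z'_cent : z' ∈ Subgroup.centralizer (K : Set G)
  z_eq : z = z₁ * z'
  triv : ∀ x ∈ K, x ∈ Subgroup.centralizer (K : Set G) → x = 1

theorem Coord.uniq {K : Subgroup G} {z z₁ z' : G} (c : Coord K z z₁ z') {k k' a a' : G}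
    (hk : k ∈ K) (hk' : k' ∈ K) (ha : a ∈ Subgroup.centralizer (K : Set G))
    (ha' : a' ∈ Subgroup.centralizer (K : Set G)) (he : k * a = k' * a') : k = k' ∧ a = a' := by
  have h1 : k'⁻¹ * k = a' * a⁻¹ := by
    calc k'⁻¹ * k = k'⁻¹ * (k * a) * a⁻¹ := by group
      _ = k'⁻¹ * (k' * a') * a⁻¹ := by rw [he]
      _ = a' * a⁻¹ := by group
  have h2 : k'⁻¹ * k = 1 := by
    apply c.triv _ (K.mul_mem (K.inv_mem hk') hk)
    rw [h1]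
    exact Subgroup.mul_mem _ ha' (Subgroup.inv_mem _ ha)
  have hkk : k = k' := by
    calc k = k' * (k'⁻¹ * k) := by group
      _ = k' := by rw [h2, mul_one]
  refine ⟨hkk, ?_⟩
  rw [hkk] at he
  exact mul_left_cancel he

theorem Coord.comm_cent {K : Subgroup G} {k a : G} (hk : k ∈ K)
    (ha : a ∈ Subgroup.centralizer (K : Set G)) : a * k = k * a := by
  rw [Subgroup.mem_centralizer_iff] at ha
  exact (ha k hk).symm

theorem Coord.comm_z {K : Subgroup G} {z z₁ z' : G} (c : Coord K z z₁ z') {x : G} (hx : x ∈ K)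
    (hxz : x * z₁ = z₁ * x) : x * z = z * x := by
  rw [c.z_eq]
  calc x * (z₁ * z') = (x * z₁) * z' := by group
    _ = (z₁ * x) * z' := by rw [hxz]
    _ = z₁ * (x * z') := by group
    _ = z₁ * (z' * x) := by rw [Coord.comm_cent hx c.z'_cent]
    _ = z₁ * z' * x := by group

theorem Coord.comm_z₁ {K : Subgroup G} {z z₁ z' : G} (c : Coord K z z₁ z') {x : G} (hx : x ∈ K)
    (hxz : x * z = z * x) : x * z₁ = z₁ * x := by
  rw [c.z_eq] at hxz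
  have h1 : x * z₁ * z' = z₁ * x * z' := by
    calc x * z₁ * z' = x * (z₁ * z') := by group
      _ = z₁ * z' * x := hxz
      _ = z₁ * (z' * x) := by group
      _ = z₁ * (x * z') := by rw [Coord.comm_cent hx c.z'_cent]
      _ = z₁ * x * z' := by group
  exact mul_right_cancel h1

theorem Coord.q_mem {Q K : Subgroup G} {z z₁ z' : G} (h : LX Q z) (c : Coord K z z₁ z')
    {u x : G} (hu : u ∈ Q) (hx : x ∈ K) (hxz : x * z₁ = z₁ * x) :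
    x * (u * x⁻¹ * u⁻¹) ∈ Q := by
  have h1 : x * u * x⁻¹ ∈ Q := h.norm x (c.comm_z hx hxz) u hu
  have h2 : x * (u * x⁻¹ * u⁻¹) = (x * u * x⁻¹) * u⁻¹ := by group
  rw [h2]
  exact Q.mul_mem h1 (Q.inv_mem hu)

theorem Coord.claimB {Q K : Subgroup G} {z z₁ z' : G} (h : LX Q z) (c : Coord K z z₁ z')
    {u : G} (hu : u ∈ Q)
    (hKu : ∀ k ∈ K, u * k * u⁻¹ ∈ Subgroup.centralizer (K : Set G))
    {x y : G} (hx : x ∈ K) (hy : y ∈ K) (hxz : x * z₁ = z₁ * x) (hyz : y * z₁ = z₁ * y) :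
    x * y = y * x ∨ x * y = z₁ * (y * x) := by
  have ha : u * x⁻¹ * u⁻¹ ∈ Subgroup.centralizer (K : Set G) := hKu _ (K.inv_mem hx)
  have hb : u * y⁻¹ * u⁻¹ ∈ Subgroup.centralizer (K : Set G) := hKu _ (K.inv_mem hy)
  have hqx := c.q_mem h hu hx hxz
  have hqy := c.q_mem h hu hy hyz
  have e1 : x * (u * x⁻¹ * u⁻¹) * (y * (u * y⁻¹ * u⁻¹))
      = (x * y) * ((u * x⁻¹ * u⁻¹) * (u * y⁻¹ * u⁻¹)) := by
    calc x * (u * x⁻¹ * u⁻¹) * (y * (u * y⁻¹ * u⁻¹))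
        = x * ((u * x⁻¹ * u⁻¹) * y) * (u * y⁻¹ * u⁻¹) := by group
      _ = x * (y * (u * x⁻¹ * u⁻¹)) * (u * y⁻¹ * u⁻¹) := by rw [Coord.comm_cent hy ha]
      _ = (x * y) * ((u * x⁻¹ * u⁻¹) * (u * y⁻¹ * u⁻¹)) := by group
  have e2 : y * (u * y⁻¹ * u⁻¹) * (x * (u * x⁻¹ * u⁻¹))
      = (y * x) * ((u * y⁻¹ * u⁻¹) * (u * x⁻¹ * u⁻¹)) := by
    calc y * (u * y⁻¹ * u⁻¹) * (x * (u * x⁻¹ * u⁻¹))
        = y * ((u * y⁻¹ * u⁻¹) * x) * (u * x⁻¹ * u⁻¹) := by group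
      _ = y * (x * (u * y⁻¹ * u⁻¹)) * (u * x⁻¹ * u⁻¹) := by rw [Coord.comm_cent hx hb]
      _ = (y * x) * ((u * y⁻¹ * u⁻¹) * (u * x⁻¹ * u⁻¹)) := by group
  rcases h.xs.comm _ hqx _ hqy with h1 | h1
  · left
    rw [e1, e2] at h1
    exact (c.uniq (K.mul_mem hx hy) (K.mul_mem hy hx) (Subgroup.mul_mem _ ha hb)
      (Subgroup.mul_mem _ hb ha) h1).1
  · right
    rw [e1, e2, c.z_eq] at h1
    have e3 : z₁ * z' * ((y * x) * ((u * y⁻¹ * u⁻¹) * (u * x⁻¹ * u⁻¹)))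
        = (z₁ * (y * x)) * (z' * ((u * y⁻¹ * u⁻¹) * (u * x⁻¹ * u⁻¹))) := by
      calc z₁ * z' * ((y * x) * ((u * y⁻¹ * u⁻¹) * (u * x⁻¹ * u⁻¹)))
          = z₁ * (z' * (y * x)) * ((u * y⁻¹ * u⁻¹) * (u * x⁻¹ * u⁻¹)) := by group
        _ = z₁ * ((y * x) * z') * ((u * y⁻¹ * u⁻¹) * (u * x⁻¹ * u⁻¹)) := by
            rw [Coord.comm_cent (K.mul_mem hy hx) c.z'_cent]
        _ = (z₁ * (y * x)) * (z' * ((u * y⁻¹ * u⁻¹) * (u * x⁻¹ * u⁻¹))) := by group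
    rw [e3] at h1
    exact (c.uniq (K.mul_mem hx hy) (K.mul_mem c.z₁_mem (K.mul_mem hy hx))
      (Subgroup.mul_mem _ ha hb)
      (Subgroup.mul_mem _ c.z'_cent (Subgroup.mul_mem _ hb ha)) h1).1

theorem Coord.claimB_sq {Q K : Subgroup G} {z z₁ z' : G} (h : LX Q z) (c : Coord K z z₁ z')
    {u : G} (hu : u ∈ Q)
    (hKu : ∀ k ∈ K, u * k * u⁻¹ ∈ Subgroup.centralizer (K : Set G))
    {x : G} (hx : x ∈ K) (hxz : x * z₁ = z₁ * x) :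
    x * x = 1 ∨ x * x = z₁ := by
  have ha : u * x⁻¹ * u⁻¹ ∈ Subgroup.centralizer (K : Set G) := hKu _ (K.inv_mem hx)
  have hqx := c.q_mem h hu hx hxz
  have e1 : x * (u * x⁻¹ * u⁻¹) * (x * (u * x⁻¹ * u⁻¹))
      = (x * x) * ((u * x⁻¹ * u⁻¹) * (u * x⁻¹ * u⁻¹)) := by
    calc x * (u * x⁻¹ * u⁻¹) * (x * (u * x⁻¹ * u⁻¹))
        = x * ((u * x⁻¹ * u⁻¹) * x) * (u * x⁻¹ * u⁻¹) := by group
      _ = x * (x * (u * x⁻¹ * u⁻¹)) * (u * x⁻¹ * u⁻¹) := by rw [Coord.comm_cent hx ha]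
      _ = (x * x) * ((u * x⁻¹ * u⁻¹) * (u * x⁻¹ * u⁻¹)) := by group
  rcases h.xs.sq _ hqx with h1 | h1
  · left
    rw [e1] at h1
    have h2 : (x * x) * ((u * x⁻¹ * u⁻¹) * (u * x⁻¹ * u⁻¹)) = 1 * 1 := by rw [h1, one_mul]
    exact (c.uniq (K.mul_mem hx hx) K.one_mem (Subgroup.mul_mem _ ha ha)
      (Subgroup.one_mem _) h2).1
  · right
    rw [e1, c.z_eq] at h1
    exact (c.uniq (K.mul_mem hx hx) c.z₁_mem (Subgroup.mul_mem _ ha ha) c.z'_cent h1).1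

theorem Coord.claimG {Q K : Subgroup G} {z z₁ z' : G} (h : LX Q z) (c : Coord K z z₁ z')
    {u : G} (hu : u ∈ Q)
    (hKu : ∀ k ∈ K, u * k * u⁻¹ ∈ Subgroup.centralizer (K : Set G))
    {x : G} (hx : x ∈ K) (hxQ : x ∈ Q) : x = 1 ∨ x = z₁ := by
  have ha : u * x⁻¹ * u⁻¹ ∈ Subgroup.centralizer (K : Set G) := hKu _ (K.inv_mem hx)
  rcases h.xs.comm x hxQ u hu with h1 | h1
  · left
    have h2 : x * (u * x⁻¹ * u⁻¹) = 1 * 1 := by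
      calc x * (u * x⁻¹ * u⁻¹) = (x * u) * x⁻¹ * u⁻¹ := by group
        _ = (u * x) * x⁻¹ * u⁻¹ := by rw [h1]
        _ = 1 * 1 := by group
    exact (c.uniq hx K.one_mem ha (Subgroup.one_mem _) h2).1
  · right
    have h2 : x * (u * x⁻¹ * u⁻¹) = z₁ * z' := by
      calc x * (u * x⁻¹ * u⁻¹) = (x * u) * x⁻¹ * u⁻¹ := by group
        _ = (z * (u * x)) * x⁻¹ * u⁻¹ := by rw [h1]
        _ = z := by group
        _ = z₁ * z' := c.z_eq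
    exact (c.uniq hx c.z₁_mem ha c.z'_cent h2).1

theorem Coord.claimD {Q K : Subgroup G} {z z₁ z' : G} (h : LX Q z) (c : Coord K z z₁ z')
    {u v : G} (hu : u ∈ Q) (hv : v ∈ Q)
    (hKu : ∀ k ∈ K, u * k * u⁻¹ ∈ Subgroup.centralizer (K : Set G))
    (hKv : ∀ k ∈ K, v * k * v⁻¹ ∈ Subgroup.centralizer (K : Set G))
    (hKvu : ∀ k ∈ K, (v * u) * k * (v * u)⁻¹ ∈ Subgroup.centralizer (K : Set G))
    {x : G} (hx : x ∈ K) (hxz : x * z₁ = z₁ * x) : x = 1 ∨ x = z₁ := by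
  have ha : u * x⁻¹ * u⁻¹ ∈ Subgroup.centralizer (K : Set G) := hKu _ (K.inv_mem hx)
  have hb : v * x⁻¹ * v⁻¹ ∈ Subgroup.centralizer (K : Set G) := hKv _ (K.inv_mem hx)
  have hd : (v * u) * x * (v * u)⁻¹ ∈ Subgroup.centralizer (K : Set G) := hKvu _ hx
  have hq := c.q_mem h hu hx hxz
  have hcc : (u * x⁻¹ * u⁻¹) * ((v * u) * x * (v * u)⁻¹) * (v * x⁻¹ * v⁻¹)
      ∈ Subgroup.centralizer (K : Set G) :=
    Subgroup.mul_mem _ (Subgroup.mul_mem _ ha hd) hb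
  have e0 : ∀ q : G, q = x * (u * x⁻¹ * u⁻¹) → q * v * q⁻¹ * v⁻¹
      = x * ((u * x⁻¹ * u⁻¹) * ((v * u) * x * (v * u)⁻¹) * (v * x⁻¹ * v⁻¹)) := by
    intro q hq
    rw [hq]; group
  rcases h.xs.comm _ hq v hv with h1 | h1
  · left
    have h2 : x * ((u * x⁻¹ * u⁻¹) * ((v * u) * x * (v * u)⁻¹) * (v * x⁻¹ * v⁻¹)) = 1 * 1 := by
      rw [← e0 _ rfl, h1]; group
    exact (c.uniq hx K.one_mem hcc (Subgroup.one_mem _) h2).1
  · right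
    have h2 : x * ((u * x⁻¹ * u⁻¹) * ((v * u) * x * (v * u)⁻¹) * (v * x⁻¹ * v⁻¹)) = z₁ * z' := by
      rw [← e0 _ rfl, h1, ← c.z_eq]; group
    exact (c.uniq hx c.z₁_mem hcc c.z'_cent h2).1

end Cfsg.Agent.Lib.Helper10.LXS
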