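import Mathlib

set_option autoImplicit false

namespace Cfsg.Agent.Lib.Helper10.LXS

theorem no_small_centralizer {K : Type*} [Group K] [Finite K] [IsSimpleGroup K]
    (hK : ¬ IsMulCommutative K) (t : K) (ht1 : t ≠ 1) (ht2 : t * t = 1)
    (hC : ∀ x : K, x * t = t * x → x = 1 ∨ x = t) : False := by
  have : Fact (Nat.Prime 2) := ⟨Nat.prime_two⟩
  have hord : orderOf t = 2 := orderOf_eq_prime (by rw [pow_two]; exact ht2) ht1
  have h2dvd : 2 ∣ Nat.card K := by rw [← hord]; exact orderOf_dvd_natCard t
  have hZcard : Nat.card ↥(Subgroup.zpowers t) = 2 := by rw [Nat.card_zpowers, hord]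
  have hZp : IsPGroup 2 ↥(Subgroup.zpowers t) := by
    apply IsPGroup.of_card (n := 1)
    rw [hZcard, pow_one]
  obtain ⟨P, hP⟩ := hZp.exists_le_sylow
  have htP : t ∈ (P : Subgroup K) := hP (Subgroup.mem_zpowers t)
  have hPle : (P : Subgroup K) ≤ Subgroup.zpowers t := by
    have hnt : Nontrivial ↥(P : Subgroup K) :=
      ⟨⟨⟨t, htP⟩, 1, fun hh => ht1 (congrArg Subtype.val hh)⟩⟩
    have hcn := P.2.center_nontrivial
    obtain ⟨c, hc⟩ := exists_ne (1 : ↥(Subgroup.center ↥(P : Subgroup K)))
    have hcc : ∀ p ∈ (P : Subgroup K), ((c : ↥(P : Subgroup K)) : K) * p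
        = p * ((c : ↥(P : Subgroup K)) : K) := by
      intro p hp
      have h1 := Subgroup.mem_center_iff.1 c.2 ⟨p, hp⟩
      exact (congrArg Subtype.val h1).symm
    have hct : ((c : ↥(P : Subgroup K)) : K) = t := by
      rcases hC _ (hcc t htP) with h | h
      · exfalso
        apply hc
        apply Subtype.ext
        apply Subtype.ext
        exact h
      · exact h
    intro p hp
    have h1 := hcc p hp
    rw [hct] at h1
    rcases hC p h1.symm with h | h
    · rw [h]; exact Subgroup.one_mem _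
    · rw [h]; exact Subgroup.mem_zpowers t
  have hPeq : (P : Subgroup K) = Subgroup.zpowers t := le_antisymm hPle hP
  have hPcard : Nat.card ↥(P : Subgroup K) = 2 := by rw [hPeq]; exact hZcard
  have hcyc : IsCyclic ↥P := isCyclic_of_prime_card (p := 2) hPcard
  have hmin : (Nat.card K).minFac = 2 := (Nat.minFac_eq_two_iff _).2 h2dvd
  have hcomp := IsCyclic.isComplement' hmin hcyc
  obtain ⟨N, hNdef⟩ : ∃ N : Subgroup K, N = (MonoidHom.transferSylow P
    (hcyc.normalizer_le_centralizer hmin)).ker := ⟨_, rfl⟩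
  rw [← hNdef] at hcomp
  have hNn : N.Normal := by rw [hNdef]; infer_instance
  have hcard := hcomp.card_mul_card
  rw [hPcard] at hcard
  rcases hNn.eq_bot_or_eq_top with hb | hb
  · rw [hb, Subgroup.card_bot, one_mul] at hcard
    apply hK
    have hcycK : IsCyclic K := isCyclic_of_prime_card (p := 2) hcard.symm
    exact IsCyclic.isMulCommutative
  · rw [hb, Subgroup.card_top] at hcard
    have hpos : 0 < Nat.card K := Nat.card_pos
    omega

end Cfsg.Agent.Lib.Helper10.LXS
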