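import Mathlib
import Cfsg.Agent.Lib.Helper10.LXS2
import Cfsg.Agent.Lib.Helper10.LXS3
import Cfsg.Agent.Lib.Helper9.Components
import Cfsg.Agent.Lib.Helper12.Local
import Cfsg.Agent.S3747

set_option autoImplicit false

namespace Cfsg.Agent.Lib.Helper10.LXS

open Cfsg.Agent.Lib.Helper10.LargeXS

variable {G : Type*} [Group G]

theorem comp_commute_of_ne [Finite G] {K₁ K₂ : Subgroup G} (h₁ : Cfsg.IsComponent K₁)
    (h₂ : Cfsg.IsComponent K₂) (hne : K₁ ≠ K₂) :
    K₂ ≤ Subgroup.centralizer (K₁ : Set G) := by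
  have hc : ⁅K₂, K₁⁆ = ⊥ := by
    rcases Cfsg.Agent.Lib.Helper9.component_le_or_commute K₁ K₂ h₁ h₂.1 with h | h
    · rcases Cfsg.Agent.Lib.Helper9.component_le_or_commute K₂ K₁ h₂ h₁.1 with h' | h'
      · exact absurd (le_antisymm h h') hne
      · exact h'
    · rwa [Subgroup.commutator_comm]
  rwa [Subgroup.commutator_eq_bot_iff_le_centralizer] at hc

theorem LX.layer_eq [Finite G] {Q : Subgroup G} {z : G} (h : LX Q z)
    (hT : Cfsg.pCore 2 G = ⊥) :
    Cfsg.layer G = Subgroup.normalClosure ({z} : Set G) ∧ Cfsg.fittingSubgroup G = ⊥ := by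
  have hfit : Cfsg.fittingSubgroup G = ⊥ := by rw [h.fitting_eq, hT]
  refine ⟨?_, hfit⟩
  obtain ⟨M, hM⟩ : ∃ M : Subgroup G, M = Subgroup.normalClosure ({z} : Set G) := ⟨_, rfl⟩
  rw [← hM]
  have hMn : M.Normal := by rw [hM]; exact Subgroup.normalClosure_normal
  have hzM : z ∈ M := by
    rw [hM]; exact Subgroup.subset_normalClosure (Set.mem_singleton z)
  have hMne : M ≠ ⊥ := by
    intro hb
    rw [hb, Subgroup.mem_bot] at hzM
    exact h.xs.z_ne hzM
  have hle : ∀ N : Subgroup G, N.Normal → N ≠ ⊥ → M ≤ N := by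
    intro N hN hNne
    have hzN : z ∈ N := by
      apply h.z_mem_of_inv N hNne
      intro x _
      rw [Subgroup.normalizer_eq_top]
      exact Subgroup.mem_top x
    rw [hM]
    apply Subgroup.normalClosure_le_normal
    intro x hx
    rw [Set.mem_singleton_iff] at hx
    rw [hx]; exact hzN
  have hset : {N : Subgroup G | N ≠ ⊥ ∧ N.Normal ∧ ∀ N' : Subgroup G, N'.Normal → N' ≤ N →
      N' = ⊥ ∨ N' = N} = {M} := by
    ext N
    rw [Set.mem_ofPred_eq, Set.mem_singleton_iff]
    constructor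
    · rintro ⟨hNne, hNn, hNmin⟩
      rcases hNmin M hMn (hle N hNn hNne) with h1 | h1
      · exact absurd h1 hMne
      · exact h1.symm
    · intro hNM
      rw [hNM]
      refine ⟨hMne, hMn, ?_⟩
      intro N' hN' hN'M
      by_cases hb : N' = ⊥
      · exact Or.inl hb
      · exact Or.inr (le_antisymm hN'M (hle N' hN' hb))
  have h2 := (Cfsg.Agent.S3747.result (G := G)).2 hfit
  rw [hset, sSup_singleton] at h2
  exact h2.symm

theorem LX.layer_center [Finite G] {Q : Subgroup G} {z : G} (h : LX Q z)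
    (hT : Cfsg.pCore 2 G = ⊥) :
    Cfsg.layer G ⊓ Subgroup.centralizer (Cfsg.layer G : Set G) = ⊥ := by
  have hfit := (h.layer_eq hT).2
  have hn : (Cfsg.layer G).Normal := by
    have := Cfsg.Agent.Lib.Helper12.layer_characteristic G
    infer_instance
  obtain ⟨Z, hZ⟩ : ∃ Z : Subgroup G,
      Z = Cfsg.layer G ⊓ Subgroup.centralizer (Cfsg.layer G : Set G) := ⟨_, rfl⟩
  rw [← hZ]
  have hZn : Z.Normal := by rw [hZ]; infer_instance
  have hcomm : ∀ a b : ↥Z, a * b = b * a := by
    intro a b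
    apply Subtype.ext
    rw [Subgroup.coe_mul, Subgroup.coe_mul]
    have ha : (a : G) ∈ Cfsg.layer G ⊓ Subgroup.centralizer (Cfsg.layer G : Set G) := by
      rw [← hZ]; exact a.2
    have hb : (b : G) ∈ Cfsg.layer G ⊓ Subgroup.centralizer (Cfsg.layer G : Set G) := by
      rw [← hZ]; exact b.2
    rw [Subgroup.mem_inf] at ha hb
    have := hb.2
    rw [Subgroup.mem_centralizer_iff] at this
    exact this _ ha.1
  let _ : CommGroup ↥Z := { (inferInstance : Group ↥Z) with mul_comm := hcomm }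
  have hnil : Group.IsNilpotent ↥Z := inferInstance
  have := Cfsg.Agent.Lib.Helper12.le_fittingSubgroup hZn hnil
  rw [hfit] at this
  exact le_antisymm this bot_le

theorem LX.comp_triv [Finite G] {Q : Subgroup G} {z : G} (h : LX Q z)
    (hT : Cfsg.pCore 2 G = ⊥) {K : Subgroup G} (hK : Cfsg.IsComponent K) :
    ∀ x ∈ K, x ∈ Subgroup.centralizer (K : Set G) → x = 1 := by
  intro x hxK hxC
  have hZ := h.layer_center hT
  have hx : x ∈ Cfsg.layer G ⊓ Subgroup.centralizer (Cfsg.layer G : Set G) := by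
    rw [Subgroup.mem_inf]
    refine ⟨Cfsg.Agent.Lib.Helper10.component_le_layer hK hxK, ?_⟩
    have hle : Cfsg.layer G ≤ Subgroup.centralizer ({x} : Set G) := by
      unfold Cfsg.layer
      apply sSup_le
      intro K' hK'
      by_cases hKK : K' = K
      · rw [hKK]
        intro y hy
        rw [Subgroup.mem_centralizer_singleton_iff]
        rw [Subgroup.mem_centralizer_iff] at hxC
        exact hxC y hy
      · have := comp_commute_of_ne hK' hK hKK
        intro y hy
        rw [Subgroup.mem_centralizer_singleton_iff]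
        have h1 := this hxK
        rw [Subgroup.mem_centralizer_iff] at h1
        exact h1 y hy
    rw [Subgroup.mem_centralizer_iff]
    intro y hy
    have := hle hy
    rw [Subgroup.mem_centralizer_singleton_iff] at this
    exact this
  rw [hZ, Subgroup.mem_bot] at hx
  exact hx

theorem LX.comp_simple [Finite G] {Q : Subgroup G} {z : G} (h : LX Q z)
    (hT : Cfsg.pCore 2 G = ⊥) {K : Subgroup G} (hK : Cfsg.IsComponent K) :
    IsSimpleGroup ↥K ∧ ¬ IsMulCommutative ↥K := by
  have htriv := h.comp_triv hT hK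
  have hcen : Subgroup.center ↥K = ⊥ := by
    rw [Subgroup.eq_bot_iff_forall]
    intro x hx
    apply Subtype.ext
    rw [Subgroup.coe_one]
    apply htriv x.1 x.2
    rw [Subgroup.mem_centralizer_iff]
    intro y hy
    have h1 := Subgroup.mem_center_iff.1 hx ⟨y, hy⟩
    exact congrArg Subtype.val h1
  have hnt : Nontrivial ↥K := Cfsg.Agent.Lib.Helper10.isQuasisimple_nontrivial hK.2
  constructor
  · have hs : IsSimpleGroup (↥K ⧸ Subgroup.center ↥K) := hK.2.2
    have e : (↥K ⧸ Subgroup.center ↥K) ≃* ↥K :=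
      (QuotientGroup.quotientMulEquivOfEq hcen).trans QuotientGroup.quotientBot
    exact IsSimpleGroup.isSimpleGroup_of_surjective e.toMonoidHom e.surjective
  · intro hc
    apply Cfsg.Agent.Lib.Helper10.isComponent_not_isSolvable hK
    let _ : CommGroup ↥K := { (inferInstance : Group ↥K) with mul_comm := hc.is_comm.comm }
    infer_instance

theorem LX.layer_le_sup [Finite G] {K : Subgroup G} (hK : Cfsg.IsComponent K) :
    Cfsg.layer G ≤ K ⊔ Subgroup.centralizer (K : Set G) := by
  unfold Cfsg.layer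
  apply sSup_le
  intro K' hK'
  by_cases hKK : K' = K
  · rw [hKK]; exact le_sup_left
  · exact (comp_commute_of_ne hK hK' (Ne.symm hKK)).trans le_sup_right

theorem mem_sup_centralizer {K : Subgroup G} {m : G}
    (hm : m ∈ K ⊔ Subgroup.centralizer (K : Set G)) :
    ∃ k ∈ K, ∃ c ∈ Subgroup.centralizer (K : Set G), m = k * c := by
  have hKn : K ≤ Subgroup.normalizer ((Subgroup.centralizer (K : Set G) : Subgroup G) : Set G) := by
    have h1 : K ≤ Subgroup.centralizer ((Subgroup.centralizer (K : Set G) : Subgroup G) : Set G) :=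
      Subgroup.le_centralizer_iff.mp le_rfl
    exact h1.trans (Subgroup.centralizer_le_normalizer _)
  have hcoe := Subgroup.coe_mul_of_left_le_normalizer_right K
    (Subgroup.centralizer (K : Set G)) hKn
  have hm' : m ∈ ((K ⊔ Subgroup.centralizer (K : Set G) : Subgroup G) : Set G) := hm
  rw [hcoe] at hm'
  obtain ⟨a, ha, b, hb, hab⟩ := Set.mem_mul.mp hm'
  exact ⟨a, ha, b, hb, hab.symm⟩

theorem LX.exists_coord [Finite G] {Q : Subgroup G} {z : G} (h : LX Q z)
    (hT : Cfsg.pCore 2 G = ⊥) {K : Subgroup G} (hK : Cfsg.IsComponent K) :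
    ∃ z₁ z' : G, Coord K z z₁ z' ∧ z₁ ≠ 1 ∧ z₁ * z₁ = 1 := by
  have hzl : z ∈ Cfsg.layer G := by
    rw [(h.layer_eq hT).1]
    exact Subgroup.subset_normalClosure (Set.mem_singleton z)
  obtain ⟨z₁, hz₁, z', hz', hzz⟩ := mem_sup_centralizer (LX.layer_le_sup hK hzl)
  have c : Coord K z z₁ z' := ⟨hz₁, hz', hzz, h.comp_triv hT hK⟩
  refine ⟨z₁, z', c, ?_, ?_⟩
  · intro h1
    apply h.not_le_centralizer_z hK
    intro k hk
    rw [Subgroup.mem_centralizer_singleton_iff, hzz, h1, one_mul]
    exact (Coord.comm_cent hk hz').symm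
  · have h1 : (z₁ * z₁) * (z' * z') = 1 * 1 := by
      calc (z₁ * z₁) * (z' * z') = z₁ * (z₁ * z') * z' := by group
        _ = z₁ * (z' * z₁) * z' := by rw [Coord.comm_cent hz₁ hz']
        _ = (z₁ * z') * (z₁ * z') := by group
        _ = z * z := by rw [← hzz]
        _ = 1 * 1 := by rw [h.xs.z_sq, one_mul]
    exact (c.uniq (K.mul_mem hz₁ hz₁) K.one_mem (Subgroup.mul_mem _ hz' hz')
      (Subgroup.one_mem _) h1).1

end Cfsg.Agent.Lib.Helper10.LXS
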