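import Mathlib
import Cfsg.Agent.Lib.Helper10.LXS4
import Cfsg.Agent.Lib.Helper10.LXS5
import Cfsg.Agent.Lib.Helper18.SylowIn

set_option autoImplicit false

namespace Cfsg.Agent.Lib.Helper10.LXS

open Cfsg.Agent.Lib.Helper10.LargeXS
open Cfsg.Agent.Lib.Helper18

variable {G : Type*} [Group G]

theorem small_false [Finite G] (K : Subgroup G) (hs : IsSimpleGroup ↥K)
    (hn : ¬ IsMulCommutative ↥K) (z₁ : G) (hz₁ : z₁ ∈ K) (hne : z₁ ≠ 1) (hsq : z₁ * z₁ = 1)
    (hall : ∀ x ∈ K, x * z₁ = z₁ * x → x = 1 ∨ x = z₁) : False := by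
  apply no_small_centralizer hn (⟨z₁, hz₁⟩ : ↥K)
  · intro h1
    exact hne (congrArg Subtype.val h1)
  · apply Subtype.ext
    exact hsq
  · intro x hx
    have h1 : (x : G) * z₁ = z₁ * (x : G) := congrArg Subtype.val hx
    rcases hall x.1 x.2 h1 with h2 | h2
    · left; exact Subtype.ext h2
    · right; exact Subtype.ext h2

theorem conj_comp {K : Subgroup G} (hK : Cfsg.IsComponent K) (u : G) :
    Cfsg.IsComponent (conjSub u K) :=
  Cfsg.Agent.Lib.Helper10.isComponent_map_equiv (MulAut.conj u) hK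

theorem conj_le_cent [Finite G] {K : Subgroup G} (hK : Cfsg.IsComponent K) {u : G}
    (hne : conjSub u K ≠ K) : ∀ k ∈ K, u * k * u⁻¹ ∈ Subgroup.centralizer (K : Set G) := by
  intro k hk
  exact comp_commute_of_ne hK (conj_comp hK u) (Ne.symm hne) (conj_mem_conjSub hk)

theorem conj_inv_ne {K : Subgroup G} {u : G} (hne : conjSub u K ≠ K) : conjSub u⁻¹ K ≠ K := by
  intro h
  apply hne
  calc conjSub u K = conjSub u (conjSub u⁻¹ K) := by rw [h]
    _ = conjSub (u * u⁻¹) K := conjSub_mul _ _ _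
    _ = K := by rw [mul_inv_cancel, conjSub_one]

theorem le_normalizer_closure {Q : Subgroup G} {S : Set G}
    (hS : ∀ q ∈ Q, ∀ s ∈ S, q * s * q⁻¹ ∈ S) :
    Q ≤ Subgroup.normalizer ((Subgroup.closure S : Subgroup G) : Set G) := by
  have hfwd : ∀ q ∈ Q, ∀ x ∈ Subgroup.closure S, q * x * q⁻¹ ∈ Subgroup.closure S := by
    intro q hq x hx
    have hle : Subgroup.closure S ≤ (Subgroup.closure S).comap (MulAut.conj q).toMonoidHom := by
      rw [Subgroup.closure_le]
      intro s hs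
      rw [SetLike.mem_coe, Subgroup.mem_comap]
      exact Subgroup.subset_closure (hS q hq s hs)
    exact hle hx
  intro q hq
  rw [Subgroup.mem_normalizer_iff]
  intro x
  constructor
  · exact hfwd q hq x
  · intro hx
    have := hfwd q⁻¹ (Q.inv_mem hq) _ hx
    rw [inv_inv] at this
    have e : q⁻¹ * (q * x * q⁻¹) * q = x := by group
    rwa [e] at this

theorem LX.transitive [Finite G] {Q : Subgroup G} {z : G} (h : LX Q z)
    {K K' : Subgroup G} (hK : Cfsg.IsComponent K) (hK' : Cfsg.IsComponent K') :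
    ∃ u ∈ Q, K' = conjSub u K := by
  by_contra hcon
  push Not at hcon
  obtain ⟨S, hS⟩ : ∃ S : Set G, S = {x : G | ∃ u ∈ Q, ∃ k ∈ K, x = u * k * u⁻¹} := ⟨_, rfl⟩
  have hinv : ∀ q ∈ Q, ∀ s ∈ S, q * s * q⁻¹ ∈ S := by
    intro q hq s hs
    rw [hS] at hs ⊢
    obtain ⟨u, hu, k, hk, rfl⟩ := hs
    exact ⟨q * u, Q.mul_mem hq hu, k, hk, by group⟩
  have hQN := le_normalizer_closure hinv
  have hne : Subgroup.closure S ≠ ⊥ := by
    intro hb
    apply Cfsg.Agent.Lib.Helper10.isComponent_ne_bot hK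
    rw [eq_bot_iff, ← hb]
    intro k hk
    apply Subgroup.subset_closure
    rw [hS]
    exact ⟨1, Q.one_mem, k, hk, by group⟩
  have hz := h.z_mem_of_inv _ hne hQN
  have hle : Subgroup.closure S ≤ Subgroup.centralizer (K' : Set G) := by
    rw [Subgroup.closure_le]
    intro s hs
    rw [hS] at hs
    obtain ⟨u, hu, k, hk, rfl⟩ := hs
    exact comp_commute_of_ne hK' (conj_comp hK u) (hcon u hu) (conj_mem_conjSub hk)
  apply h.not_le_centralizer_z hK'
  intro k hk
  rw [Subgroup.mem_centralizer_singleton_iff]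
  have := hle hz
  rw [Subgroup.mem_centralizer_iff] at this
  exact this k hk

theorem LX.two_orbit [Finite G] {Q : Subgroup G} {z : G} (h : LX Q z)
    (hT : Cfsg.pCore 2 G = ⊥) {K : Subgroup G} (hK : Cfsg.IsComponent K) {u : G} (hu : u ∈ Q)
    (hne : conjSub u K ≠ K) {v : G} (hv : v ∈ Q) :
    conjSub v K = K ∨ conjSub v K = conjSub u K := by
  by_cases hvK : conjSub v K = K
  · exact Or.inl hvK
  right
  have huv : conjSub (u⁻¹ * v) K = K := by
    by_contra huv
    obtain ⟨z₁, z', c, hz1, hzsq⟩ := h.exists_coord hT hK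
    obtain ⟨hs, hn⟩ := h.comp_simple hT hK
    apply small_false K hs hn z₁ c.z₁_mem hz1 hzsq
    intro x hx hxz
    exact c.claimD h hv (Q.inv_mem hu) (conj_le_cent hK hvK) (conj_le_cent hK (conj_inv_ne hne))
      (conj_le_cent hK huv) hx hxz
  calc conjSub v K = conjSub (u * (u⁻¹ * v)) K := by rw [mul_inv_cancel_left]
    _ = conjSub u (conjSub (u⁻¹ * v) K) := (conjSub_mul _ _ _).symm
    _ = conjSub u K := by rw [huv]

end Cfsg.Agent.Lib.Helper10.LXS
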