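import Mathlib
import Cfsg.Agent.Lib.Helper10.LXS6
import Cfsg.Agent.Lib.Helper1.Frat

set_option autoImplicit false

namespace Cfsg.Agent.Lib.Helper10.LXS

open Cfsg.Agent.Lib.Helper10.LargeXS
open Cfsg.Agent.Lib.Helper18
open scoped commutatorElement

variable {G : Type*} [Group G]

theorem layer_le_normalizer_comp [Finite G] {K : Subgroup G} (hK : Cfsg.IsComponent K) :
    Cfsg.layer G ≤ Subgroup.normalizer (K : Set G) := by
  unfold Cfsg.layer
  apply sSup_le
  intro K' hK'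
  by_cases hKK : K' = K
  · rw [hKK]; exact Subgroup.le_normalizer
  · exact (comp_commute_of_ne hK hK' (Ne.symm hKK)).trans (Subgroup.centralizer_le_normalizer _)

theorem LX.sylow_X1 [Finite G] {Q : Subgroup G} {z : G} (h : LX Q z)
    {K : Subgroup G} (hK : Cfsg.IsComponent K) {z₁ z' : G} (c : Coord K z z₁ z')
    (hzsq : z₁ * z₁ = 1) {u : G} (hu : u ∈ Q) (hne : conjSub u K ≠ K) :
    IsSylowIn 2 (Subgroup.centralizer ({z₁} : Set G) ⊓ K) K := by
  have hf2 : Fact (Nat.Prime 2) := ⟨Nat.prime_two⟩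
  have hKu := conj_le_cent hK hne
  have hX2 : IsPGroup 2 ↥(Subgroup.centralizer ({z₁} : Set G) ⊓ K) := by
    intro g
    refine ⟨2, Subtype.ext ?_⟩
    have hg := g.2
    rw [Subgroup.mem_inf, Subgroup.mem_centralizer_singleton_iff] at hg
    have e : ((g ^ 2 ^ 2 : ↥(Subgroup.centralizer ({z₁} : Set G) ⊓ K)) : G)
        = ((g : G) * (g : G)) * ((g : G) * (g : G)) := by
      rw [Subgroup.coe_pow, pow_two 2, pow_mul, pow_two, pow_two]
    rw [e, Subgroup.coe_one]
    rcases c.claimB_sq h hu hKu hg.2 hg.1 with h1 | h1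
    · rw [h1, one_mul]
    · rw [h1, hzsq]
  obtain ⟨S, hS⟩ := h.two.exists_le_sylow
  have hzS : z ∈ (S : Subgroup G) := hS h.xs.z_mem
  have hzcen : ∀ p ∈ (S : Subgroup G), p * z = z * p := by
    have hnt : Nontrivial ↥(S : Subgroup G) :=
      ⟨⟨⟨z, hzS⟩, 1, fun hh => h.xs.z_ne (congrArg Subtype.val hh)⟩⟩
    have hcn := S.2.center_nontrivial
    obtain ⟨d, hd⟩ := exists_ne (1 : ↥(Subgroup.center ↥(S : Subgroup G)))
    have hcc : ∀ p ∈ (S : Subgroup G), ((d : ↥(S : Subgroup G)) : G) * p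
        = p * ((d : ↥(S : Subgroup G)) : G) := by
      intro p hp
      have h1 := Subgroup.mem_center_iff.1 d.2 ⟨p, hp⟩
      exact (congrArg Subtype.val h1).symm
    rcases h.cent _ (fun k hk => hcc k (hS hk)) with h1 | h1
    · exfalso
      apply hd
      apply Subtype.ext
      apply Subtype.ext
      exact h1
    · intro p hp
      rw [← h1]
      exact (hcc p hp).symm
  have hS0 : IsSylowIn 2 (S : Subgroup G) ⊤ := isSylowIn_top_of_sylow S
  have hln : (Cfsg.layer G).Normal := by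
    have := Cfsg.Agent.Lib.Helper12.layer_characteristic G
    infer_instance
  have hS1 : IsSylowIn 2 ((S : Subgroup G) ⊓ Cfsg.layer G) (Cfsg.layer G) := by
    apply hS0.inf_of_normal le_top
    rw [Subgroup.normalizer_eq_top]
  have hS2 : IsSylowIn 2 ((S : Subgroup G) ⊓ Cfsg.layer G ⊓ K) K :=
    hS1.inf_of_normal (Cfsg.Agent.Lib.Helper10.component_le_layer hK)
      (layer_le_normalizer_comp hK)
  have hle : (S : Subgroup G) ⊓ Cfsg.layer G ⊓ K ≤ Subgroup.centralizer ({z₁} : Set G) ⊓ K := by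
    intro x hx
    rw [Subgroup.mem_inf, Subgroup.mem_inf] at hx
    rw [Subgroup.mem_inf, Subgroup.mem_centralizer_singleton_iff]
    exact ⟨c.comm_z₁ hx.2 (hzcen x hx.1.1), hx.2⟩
  refine ⟨inf_le_right, hX2, fun hd => hS2.not_dvd ?_⟩
  rw [← Subgroup.relIndex_mul_relIndex _ _ K hle inf_le_right]
  exact Dvd.dvd.mul_left hd _

theorem LX.frattini_X1 [Finite G] {Q : Subgroup G} {z : G} (h : LX Q z)
    {K : Subgroup G} {z₁ z' : G} (c : Coord K z z₁ z')
    {u : G} (hu : u ∈ Q) (hKu : ∀ k ∈ K, u * k * u⁻¹ ∈ Subgroup.centralizer (K : Set G))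
    (R : Sylow 2 ↥K)
    (hR : (R : Subgroup ↥K) = (Subgroup.centralizer ({z₁} : Set G)).subgroupOf K) :
    (frattini ↥(R : Subgroup ↥K)).map ((K.subtype).comp (R : Subgroup ↥K).subtype)
      ≤ Subgroup.zpowers z₁ := by
  have hf2 : Fact (Nat.Prime 2) := ⟨Nat.prime_two⟩
  have hRz : ∀ g : ↥(R : Subgroup ↥K), ((g : ↥K) : G) * z₁ = z₁ * ((g : ↥K) : G) := by
    intro g
    have hg : (g : ↥K) ∈ (Subgroup.centralizer ({z₁} : Set G)).subgroupOf K := by
      rw [← hR]; exact g.2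
    rw [Subgroup.mem_subgroupOf, Subgroup.mem_centralizer_singleton_iff] at hg
    exact hg
  have h1mem : (1 : G) ∈ Subgroup.zpowers z₁ := Subgroup.one_mem _
  have hzmem : z₁ ∈ Subgroup.zpowers z₁ := Subgroup.mem_zpowers z₁
  obtain ⟨N, hN⟩ : ∃ N : Subgroup ↥(R : Subgroup ↥K),
      N = (Subgroup.zpowers z₁).comap ((K.subtype).comp (R : Subgroup ↥K).subtype) := ⟨_, rfl⟩
  have hmemN : ∀ x : ↥(R : Subgroup ↥K), x ∈ N ↔ ((x : ↥K) : G) ∈ Subgroup.zpowers z₁ := by
    intro x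
    rw [hN, Subgroup.mem_comap]
    rfl
  have hNn : N.Normal := by
    refine ⟨fun n hn g => ?_⟩
    rw [hmemN] at hn ⊢
    have e : (((g * n * g⁻¹ : ↥(R : Subgroup ↥K)) : ↥K) : G) = ((n : ↥K) : G) := by
      have hc : ((g : ↥K) : G) * ((n : ↥K) : G) = ((n : ↥K) : G) * ((g : ↥K) : G) := by
        rw [Subgroup.mem_zpowers_iff] at hn
        obtain ⟨k, hk⟩ := hn
        rw [← hk]
        have := hRz g
        exact (Commute.zpow_right this k)
      push_cast
      rw [hc]; group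
    rw [e]; exact hn
  have hcomm : commutator ↥(R : Subgroup ↥K) ≤ N := by
    rw [commutator_def, Subgroup.commutator_le]
    intro a _ b _
    rw [hmemN]
    have e : (((⁅a, b⁆ : ↥(R : Subgroup ↥K)) : ↥K) : G)
        = ((a : ↥K) : G) * ((b : ↥K) : G) * ((a : ↥K) : G)⁻¹ * ((b : ↥K) : G)⁻¹ := by
      rw [commutatorElement_def]; push_cast; rfl
    rw [e]
    rcases c.claimB h hu hKu (a : ↥K).2 (b : ↥K).2 (hRz a) (hRz b) with h1 | h1
    · rw [h1]
      have : ((b : ↥K) : G) * ((a : ↥K) : G) * ((a : ↥K) : G)⁻¹ * ((b : ↥K) : G)⁻¹ = 1 := by group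
      rw [this]; exact h1mem
    · rw [h1]
      have : z₁ * (((b : ↥K) : G) * ((a : ↥K) : G)) * ((a : ↥K) : G)⁻¹ * ((b : ↥K) : G)⁻¹
          = z₁ := by group
      rw [this]; exact hzmem
  have hpow : ∀ x : ↥(R : Subgroup ↥K), x ^ 2 ∈ N := by
    intro x
    rw [hmemN]
    have e : (((x ^ 2 : ↥(R : Subgroup ↥K)) : ↥K) : G) = ((x : ↥K) : G) * ((x : ↥K) : G) := by
      push_cast; rw [pow_two]
    rw [e]
    rcases c.claimB_sq h hu hKu (x : ↥K).2 (hRz x) with h1 | h1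
    · rw [h1]; exact h1mem
    · rw [h1]; exact hzmem
  have hfr := Cfsg.Agent.Lib.Helper1.frattini_le_of_elementary_quotient N hcomm hpow
  rw [Subgroup.map_le_iff_le_comap, ← hN]
  exact hfr

end Cfsg.Agent.Lib.Helper10.LXS
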