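import Mathlib
import Cfsg.Agent.Lib.Helper10.LXS7

set_option autoImplicit false

namespace Cfsg.Agent.Lib.Helper10.LXS

open Cfsg.Agent.Lib.Helper10.LargeXS
open Cfsg.Agent.Lib.Helper18

variable {G : Type*} [Group G]

theorem mem_sup_of_le_centralizer {K N : Subgroup G}
    (hN : N ≤ Subgroup.centralizer (K : Set G)) {m : G} (hm : m ∈ K ⊔ N) :
    ∃ k ∈ K, ∃ n ∈ N, m = k * n := by
  have hKn : K ≤ Subgroup.normalizer (N : Set G) := by
    have h1 : K ≤ Subgroup.centralizer (N : Set G) := Subgroup.le_centralizer_iff.mp hN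
    exact h1.trans (Subgroup.centralizer_le_normalizer _)
  have hcoe := Subgroup.coe_mul_of_left_le_normalizer_right K N hKn
  have hm' : m ∈ ((K ⊔ N : Subgroup G) : Set G) := hm
  rw [hcoe] at hm'
  obtain ⟨a, ha, b, hb, hab⟩ := Set.mem_mul.mp hm'
  exact ⟨a, ha, b, hb, hab.symm⟩

theorem LX.layer_two [Finite G] {Q : Subgroup G} {z : G} (h : LX Q z)
    (hT : Cfsg.pCore 2 G = ⊥) {K : Subgroup G} (hK : Cfsg.IsComponent K) {u : G} (hu : u ∈ Q)
    (hne : conjSub u K ≠ K) : Cfsg.layer G = K ⊔ conjSub u K := by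
  apply le_antisymm
  · unfold Cfsg.layer
    apply sSup_le
    intro K' hK'
    obtain ⟨v, hv, rfl⟩ := h.transitive hK hK'
    rcases h.two_orbit hT hK hu hne hv with h1 | h1
    · rw [h1]; exact le_sup_left
    · rw [h1]; exact le_sup_right
  · exact sup_le (Cfsg.Agent.Lib.Helper10.component_le_layer hK)
      (Cfsg.Agent.Lib.Helper10.component_le_layer (conj_comp hK u))

theorem LX.z'_eq [Finite G] {Q : Subgroup G} {z : G} (h : LX Q z)
    (hT : Cfsg.pCore 2 G = ⊥) {K : Subgroup G} (hK : Cfsg.IsComponent K) {u : G} (hu : u ∈ Q)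
    (hne : conjSub u K ≠ K) {z₁ z' : G} (c : Coord K z z₁ z') : z' = u * z₁ * u⁻¹ := by
  have hKu := conj_le_cent hK hne
  have hKuC : conjSub u K ≤ Subgroup.centralizer (K : Set G) :=
    comp_commute_of_ne hK (conj_comp hK u) (Ne.symm hne)
  have hzl : z ∈ K ⊔ conjSub u K := by
    rw [← h.layer_two hT hK hu hne, (h.layer_eq hT).1]
    exact Subgroup.subset_normalClosure (Set.mem_singleton z)
  obtain ⟨a, ha, b, hb, hab⟩ := mem_sup_of_le_centralizer hKuC hzl
  have h1 := c.uniq c.z₁_mem ha c.z'_cent (hKuC hb) (c.z_eq.symm.trans hab)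
  have hz'b : z' ∈ conjSub u K := by rw [h1.2]; exact hb
  rw [mem_conjSub] at hz'b
  have huu : u * u ∈ Subgroup.normalizer (K : Set G) := by
    apply layer_le_normalizer_comp hK
    rcases h.xs.sq u hu with h2 | h2
    · rw [h2]; exact Subgroup.one_mem _
    · rw [h2, (h.layer_eq hT).1]
      exact Subgroup.subset_normalClosure (Set.mem_singleton z)
  have hk : u * z' * u⁻¹ ∈ K := by
    have := (Subgroup.mem_normalizer_iff.1 huu (u⁻¹ * z' * u)).1 hz'b
    have e : u * u * (u⁻¹ * z' * u) * (u * u)⁻¹ = u * z' * u⁻¹ := by group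
    rwa [e] at this
  have hz1c : u * z₁ * u⁻¹ ∈ Subgroup.centralizer (K : Set G) := hKu _ c.z₁_mem
  have huz : u * z = z * u := h.xs.z_comm u hu
  have e2 : (u * z' * u⁻¹) * (u * z₁ * u⁻¹) = z₁ * z' := by
    calc (u * z' * u⁻¹) * (u * z₁ * u⁻¹) = u * (z' * z₁) * u⁻¹ := by group
      _ = u * (z₁ * z') * u⁻¹ := by rw [Coord.comm_cent c.z₁_mem c.z'_cent]
      _ = (u * z) * u⁻¹ := by rw [← c.z_eq]
      _ = (z * u) * u⁻¹ := by rw [huz]
      _ = z := by group
      _ = z₁ * z' := c.z_eq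
  exact ((c.uniq hk c.z₁_mem hz1c c.z'_cent e2).2).symm

theorem LX.fourth_pow [Finite G] {Q : Subgroup G} {z : G} (h : LX Q z)
    (hT : Cfsg.pCore 2 G = ⊥) {K : Subgroup G} (hK : Cfsg.IsComponent K) {u : G} (hu : u ∈ Q)
    (hne : conjSub u K ≠ K) {z₁ z' : G} (c : Coord K z z₁ z') (hzsq : z₁ * z₁ = 1)
    {m : G} (hm : m ∈ Cfsg.layer G) (hmz : m * z = z * m) : m ^ 2 ^ 2 = 1 := by
  have hKu := conj_le_cent hK hne
  have hKuC : conjSub u K ≤ Subgroup.centralizer (K : Set G) :=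
    comp_commute_of_ne hK (conj_comp hK u) (Ne.symm hne)
  have hz' := h.z'_eq hT hK hu hne c
  rw [h.layer_two hT hK hu hne] at hm
  obtain ⟨a, ha, b, hb, hab⟩ := mem_sup_of_le_centralizer hKuC hm
  have hbC := hKuC hb
  have hab' : Commute a b := (Coord.comm_cent ha hbC).symm
  have e1 : (a * z₁ * a⁻¹) * (b * z' * b⁻¹) = z₁ * z' := by
    have hbz : b * z₁ = z₁ * b := Coord.comm_cent c.z₁_mem hbC
    have haz' : z' * a = a * z' := Coord.comm_cent ha c.z'_cent
    have hba : b * a = a * b := Coord.comm_cent ha hbC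
    calc (a * z₁ * a⁻¹) * (b * z' * b⁻¹) = a * z₁ * (a⁻¹ * b) * z' * b⁻¹ := by group
      _ = a * z₁ * (b * a⁻¹) * z' * b⁻¹ := by
          have : a⁻¹ * b = b * a⁻¹ := by
            calc a⁻¹ * b = a⁻¹ * (b * a) * a⁻¹ := by group
              _ = a⁻¹ * (a * b) * a⁻¹ := by rw [hba]
              _ = b * a⁻¹ := by group
          rw [this]
      _ = a * (z₁ * b) * (a⁻¹ * z') * b⁻¹ := by group
      _ = a * (b * z₁) * (z' * a⁻¹) * b⁻¹ := by
          have : a⁻¹ * z' = z' * a⁻¹ := by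
            calc a⁻¹ * z' = a⁻¹ * (z' * a) * a⁻¹ := by group
              _ = a⁻¹ * (a * z') * a⁻¹ := by rw [haz']
              _ = z' * a⁻¹ := by group
          rw [this, hbz]
      _ = (a * b) * (z₁ * z') * (a * b)⁻¹ := by
          have : (a * b)⁻¹ = a⁻¹ * b⁻¹ := by rw [← hba, mul_inv_rev]
          rw [this]; group
      _ = m * z * m⁻¹ := by rw [← c.z_eq, ← hab]
      _ = z * m * m⁻¹ := by rw [hmz]
      _ = z := by group
      _ = z₁ * z' := c.z_eq
  have hconjK : a * z₁ * a⁻¹ ∈ K := K.mul_mem (K.mul_mem ha c.z₁_mem) (K.inv_mem ha)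
  have hconjC : b * z' * b⁻¹ ∈ Subgroup.centralizer (K : Set G) :=
    Subgroup.mul_mem _ (Subgroup.mul_mem _ hbC c.z'_cent) (Subgroup.inv_mem _ hbC)
  have h2 := c.uniq hconjK c.z₁_mem hconjC c.z'_cent e1
  have haz : a * z₁ = z₁ * a := by
    calc a * z₁ = (a * z₁ * a⁻¹) * a := by group
      _ = z₁ * a := by rw [h2.1]
  have hbz' : b * z' = z' * b := by
    calc b * z' = (b * z' * b⁻¹) * b := by group
      _ = z' * b := by rw [h2.2]
  have hb0 : u⁻¹ * b * u ∈ K := by rwa [mem_conjSub] at hb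
  have hb0z : (u⁻¹ * b * u) * z₁ = z₁ * (u⁻¹ * b * u) := by
    rw [hz'] at hbz'
    calc (u⁻¹ * b * u) * z₁ = u⁻¹ * (b * (u * z₁ * u⁻¹)) * u := by group
      _ = u⁻¹ * ((u * z₁ * u⁻¹) * b) * u := by rw [hbz']
      _ = z₁ * (u⁻¹ * b * u) := by group
  have h4 : ∀ x ∈ K, x * z₁ = z₁ * x → x ^ 2 ^ 2 = 1 := by
    intro x hx hxz
    have e : x ^ 2 ^ 2 = (x * x) * (x * x) := by
      rw [pow_two 2, pow_mul, pow_two, pow_two]
    rw [e]
    rcases c.claimB_sq h hu hKu hx hxz with h1 | h1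
    · rw [h1, one_mul]
    · rw [h1, hzsq]
  have ha4 := h4 a ha haz
  have hb4 : b ^ 2 ^ 2 = 1 := by
    have h5 := h4 _ hb0 hb0z
    have e : b = u * (u⁻¹ * b * u) * u⁻¹ := by group
    rw [e, conj_pow, h5]; group
  rw [hab, hab'.mul_pow, ha4, hb4, one_mul]

end Cfsg.Agent.Lib.Helper10.LXS
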