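import Mathlib
import Cfsg.Agent.Lib.Helper10.LargeXS2
import Cfsg.Agent.Lib.Lead.Coprime

set_option autoImplicit false

namespace Cfsg.Agent.Lib.Helper10.LargeXS

variable {G : Type*} [Group G]

theorem symm_core [Finite G] {Q Qu : Subgroup G} {z u : G} (hxs : XS Q z)
    (hNz : ∀ h : G, h * z = z * h → ∀ k ∈ Q, h * k * h⁻¹ ∈ Q)
    (hCz : ∀ c : G, (∀ k ∈ Q, c * k = k * c) → c ∈ Q)
    (hx : u ∈ Q) (hu2 : u * u = 1) (hu1 : u ≠ 1) (huz : u ≠ z)
    (huu : u ∈ Qu) (hQule : ∀ k ∈ Qu, k * u = u * k)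
    (hNu : ∀ h : G, h * u = u * h → ∀ k ∈ Qu, h * k * h⁻¹ ∈ Qu)
    (hCu : ∀ c : G, (∀ k ∈ Qu, c * k = k * c) → c ∈ Qu)
    (h2Q : IsPGroup 2 ↥Q) (h2u : IsPGroup 2 ↥Qu)
    (hkeyN : ∀ n : G, n * z * n⁻¹ = u → n * u * n⁻¹ ∈ Qu) : z ∈ Qu := by
  have hz2 : z * z = 1 := hxs.z_sq
  have hz1 : z ≠ 1 := hxs.z_ne
  have hzQ : z ∈ Q := hxs.z_mem
  have hQC : ∀ x ∈ Q, x * z = z * x := hxs.z_comm
  have huzc : u * z = z * u := hQC u hx
  obtain ⟨q, hq, hqu⟩ : ∃ q ∈ Q, q * u = z * (u * q) := by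
    by_contra hne
    have hall : ∀ y ∈ Q, u * y = y * u := by
      intro y hy
      rcases hxs.comm y hy u hx with h1 | h1
      · exact h1.symm
      · exact absurd ⟨y, hy, h1⟩ hne
    rcases hxs.center u hx hall with h1 | h1
    · exact hu1 h1
    · exact huz h1
  have hkey : ∀ n : G, n * z * n⁻¹ = u → n * u * n⁻¹ = z * u → z ∈ Qu := by
    intro n hn1 hn2
    have h1 := hkeyN n hn1
    rw [hn2] at h1
    have h3 : z = (z * u) * u⁻¹ := by rw [mul_inv_cancel_right]
    rw [h3]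
    exact Qu.mul_mem h1 (Qu.inv_mem huu)
  obtain ⟨R, hR⟩ : ∃ R : Subgroup G, R = Q ⊓ Subgroup.centralizer ({u} : Set G) := ⟨_, rfl⟩
  have hRmem : ∀ r, r ∈ R ↔ r ∈ Q ∧ r * u = u * r := by
    intro r
    rw [hR, Subgroup.mem_inf, Subgroup.mem_centralizer_singleton_iff]
  have hRP : IsPGroup 2 ↥R := h2Q.to_le (by rw [hR]; exact inf_le_left)
  have hRN : R ≤ Subgroup.normalizer ((Qu : Subgroup G) : Set G) := by
    intro r hr
    have hru := ((hRmem r).1 hr).2
    rw [Subgroup.mem_normalizer_iff]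
    intro k
    constructor
    · intro hk
      exact hNu r hru k hk
    · intro hk
      have hru' : r⁻¹ * u = u * r⁻¹ := by
        calc r⁻¹ * u = r⁻¹ * (u * r) * r⁻¹ := by group
          _ = r⁻¹ * (r * u) * r⁻¹ := by rw [hru]
          _ = u * r⁻¹ := by group
      have := hNu r⁻¹ hru' _ hk
      have h5 : r⁻¹ * (r * k * r⁻¹) * r⁻¹⁻¹ = k := by group
      rw [h5] at this
      exact this
  obtain ⟨Su, hSu⟩ : ∃ Su : Subgroup G, Su = R ⊔ Qu := ⟨_, rfl⟩
  have hSuP : IsPGroup 2 ↥Su := by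
    rw [hSu]
    exact IsPGroup.to_sup_of_normal_right' hRP h2u hRN
  have hSule : ∀ s ∈ Su, s * u = u * s := by
    have : Su ≤ Subgroup.centralizer ({u} : Set G) := by
      rw [hSu]
      apply sup_le
      · rw [hR]; exact inf_le_right
      · intro k hk
        rw [Subgroup.mem_centralizer_singleton_iff]
        exact hQule k hk
    intro s hs
    have h1 := this hs
    rw [Subgroup.mem_centralizer_singleton_iff] at h1
    exact h1
  by_cases hSz : Su ≤ Subgroup.centralizer ({z} : Set G)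
  · apply hCu
    intro k hk
    have h1 : k ∈ Su := by rw [hSu]; exact Subgroup.mem_sup_right hk
    have h2 := hSz h1
    rw [Subgroup.mem_centralizer_singleton_iff] at h2
    exact h2.symm
  · have hlt : Su ⊓ Subgroup.centralizer ({z} : Set G) < Su := by
      apply lt_of_le_of_ne inf_le_left
      intro h
      apply hSz
      rw [← h]
      exact inf_le_right
    have hf2 : Fact (Nat.Prime 2) := ⟨Nat.prime_two⟩
    obtain ⟨x, hxSu, hxN, hxS0⟩ :=
      Cfsg.Agent.Lib.Lead.exists_mem_normalizer_not_mem _ _ hlt hSuP.isNilpotent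
    have hxu : x * u = u * x := hSule x hxSu
    have hxz : ¬ (x * z = z * x) := by
      intro h
      apply hxS0
      rw [Subgroup.mem_inf, Subgroup.mem_centralizer_singleton_iff]
      exact ⟨hxSu, h⟩
    have hRSu : R ≤ Su := by rw [hSu]; exact le_sup_left
    have hzR : z ∈ R := (hRmem z).2 ⟨hzQ, huzc.symm⟩
    have hzS0 : z ∈ Su ⊓ Subgroup.centralizer ({z} : Set G) := by
      rw [Subgroup.mem_inf, Subgroup.mem_centralizer_singleton_iff]
      exact ⟨hRSu hzR, rfl⟩
    have hz'S0 : x * z * x⁻¹ ∈ Su ⊓ Subgroup.centralizer ({z} : Set G) :=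
      (Subgroup.mem_normalizer_iff.1 hxN z).1 hzS0
    have hz'z : (x * z * x⁻¹) * z = z * (x * z * x⁻¹) := by
      have := (Subgroup.mem_inf.1 hz'S0).2
      rw [Subgroup.mem_centralizer_singleton_iff] at this
      exact this
    have hz'R : ∀ r ∈ Q, r * u = u * r → (x * z * x⁻¹) * r = r * (x * z * x⁻¹) := by
      intro r hr hru
      have hrR : r ∈ R := (hRmem r).2 ⟨hr, hru⟩
      have hrS0 : r ∈ Su ⊓ Subgroup.centralizer ({z} : Set G) := by
        rw [Subgroup.mem_inf, Subgroup.mem_centralizer_singleton_iff]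
        exact ⟨hRSu hrR, hQC r hr⟩
      have hxinvN : x⁻¹ ∈ Subgroup.normalizer
          ((Su ⊓ Subgroup.centralizer ({z} : Set G) : Subgroup G) : Set G) :=
        Subgroup.inv_mem _ hxN
      have h1 := (Subgroup.mem_normalizer_iff.1 hxinvN r).1 hrS0
      have h2 := (Subgroup.mem_inf.1 h1).2
      rw [Subgroup.mem_centralizer_singleton_iff, inv_inv] at h2
      calc (x * z * x⁻¹) * r = x * (z * (x⁻¹ * r * x)) * x⁻¹ := by group
        _ = x * ((x⁻¹ * r * x) * z) * x⁻¹ := by rw [h2]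
        _ = r * (x * z * x⁻¹) := by group
    have hnorm : ∀ k ∈ Q, (x * z * x⁻¹) * k * (x * z * x⁻¹)⁻¹ ∈ Q :=
      fun k hk => hNz _ hz'z k hk
    rcases hxs.centralizer_R hq hx hu2 hqu hz'z hnorm hCz hz'R with h1 | h1 | h1 | h1
    · exfalso
      apply hz1
      have : z = x⁻¹ * (x * z * x⁻¹) * x := by group
      rw [this, h1]
      group
    · exfalso
      apply hxz
      calc x * z = (x * z * x⁻¹) * x := by group
        _ = z * x := by rw [h1]
    · exfalso
      apply huz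
      have : z = x⁻¹ * (x * z * x⁻¹) * x := by group
      rw [this, h1]
      calc u = x⁻¹ * (x * u) := by group
        _ = x⁻¹ * u * x := by rw [hxu, mul_assoc]
    · apply hkey (q * x)
      · have hquq : q * u * q⁻¹ = z * u := by
          rw [hqu, mul_assoc, mul_assoc, mul_inv_cancel, mul_one]
        calc q * x * z * (q * x)⁻¹ = q * (x * z * x⁻¹) * q⁻¹ := by group
          _ = q * (z * u) * q⁻¹ := by rw [h1]
          _ = (q * z) * u * q⁻¹ := by group
          _ = (z * q) * u * q⁻¹ := by rw [hQC q hq]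
          _ = z * (q * u * q⁻¹) := by group
          _ = z * (z * u) := by rw [hquq]
          _ = u := by rw [← mul_assoc, hz2, one_mul]
      · have hquq : q * u * q⁻¹ = z * u := by
          rw [hqu, mul_assoc, mul_assoc, mul_inv_cancel, mul_one]
        calc q * x * u * (q * x)⁻¹ = q * ((x * u) * x⁻¹) * q⁻¹ := by group
          _ = q * ((u * x) * x⁻¹) * q⁻¹ := by rw [hxu]
          _ = q * u * q⁻¹ := by group
          _ = z * u := hquq

theorem symm_conj [Finite G] {Q : Subgroup G} {z : G} (hxs : XS Q z) (h2Q : IsPGroup 2 ↥Q)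
    (hNz : ∀ h : G, h * z = z * h → ∀ k ∈ Q, h * k * h⁻¹ ∈ Q)
    (hCz : ∀ c : G, (∀ k ∈ Q, c * k = k * c) → c ∈ Q) (g : G)
    (hx : g * z * g⁻¹ ∈ Q) : g⁻¹ * z * g ∈ Q := by
  obtain ⟨u, hu⟩ : ∃ u, u = g * z * g⁻¹ := ⟨_, rfl⟩
  rw [← hu] at hx
  have hu2 : u * u = 1 := by
    rw [hu]
    calc g * z * g⁻¹ * (g * z * g⁻¹) = g * (z * z) * g⁻¹ := by group
      _ = 1 := by rw [hxs.z_sq, mul_one, mul_inv_cancel]
  by_cases huz : u = z
  · have hgz : g * z = z * g := by
      calc g * z = (g * z * g⁻¹) * g := by group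
        _ = z * g := by rw [← hu, huz]
    have : g⁻¹ * z * g = z := by
      calc g⁻¹ * z * g = g⁻¹ * (z * g) := by group
        _ = g⁻¹ * (g * z) := by rw [hgz]
        _ = z := by group
    rw [this]; exact hxs.z_mem
  have hu1 : u ≠ 1 := by
    intro h
    rw [h] at hu
    apply hxs.z_ne
    have : z = g⁻¹ * (g * z * g⁻¹) * g := by group
    rw [this, ← hu]
    group
  obtain ⟨Qu, hQu⟩ : ∃ Qu : Subgroup G, Qu = Q.map (MulAut.conj g).toMonoidHom := ⟨_, rfl⟩
  have hQumem : ∀ k, k ∈ Qu ↔ g⁻¹ * k * g ∈ Q := by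
    intro k
    rw [hQu]
    constructor
    · rintro ⟨y, hy, rfl⟩
      have : g⁻¹ * ((MulAut.conj g).toMonoidHom y) * g = y := by
        show g⁻¹ * (g * y * g⁻¹) * g = y
        group
      rw [this]; exact hy
    · intro hk
      refine ⟨g⁻¹ * k * g, hk, ?_⟩
      show g * (g⁻¹ * k * g) * g⁻¹ = k
      group
  have hcz : ∀ a : G, a * u = u * a → (g⁻¹ * a * g) * z = z * (g⁻¹ * a * g) := by
    intro a ha
    calc (g⁻¹ * a * g) * z = g⁻¹ * (a * (g * z * g⁻¹)) * g := by group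
      _ = g⁻¹ * ((g * z * g⁻¹) * a) * g := by rw [← hu, ha]
      _ = z * (g⁻¹ * a * g) := by group
  have h := symm_core (Qu := Qu) (u := u) hxs hNz hCz hx hu2 hu1 huz
    (by
      rw [hQumem, hu]
      have : g⁻¹ * (g * z * g⁻¹) * g = z := by group
      rw [this]; exact hxs.z_mem)
    (by
      intro k hk
      have h1 := hxs.z_comm _ ((hQumem k).1 hk)
      rw [hu]
      calc k * (g * z * g⁻¹) = g * ((g⁻¹ * k * g) * z) * g⁻¹ := by group
        _ = g * (z * (g⁻¹ * k * g)) * g⁻¹ := by rw [h1]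
        _ = g * z * g⁻¹ * k := by group)
    (by
      intro a ha k hk
      rw [hQumem]
      have h1 := hNz _ (hcz a ha) _ ((hQumem k).1 hk)
      have : g⁻¹ * (a * k * a⁻¹) * g = (g⁻¹ * a * g) * (g⁻¹ * k * g) * (g⁻¹ * a * g)⁻¹ := by group
      rw [this]; exact h1)
    (by
      intro c hc
      rw [hQumem]
      apply hCz
      intro k hk
      have h2 : g * k * g⁻¹ ∈ Qu := by
        rw [hQumem]
        have : g⁻¹ * (g * k * g⁻¹) * g = k := by group
        rw [this]; exact hk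
      have h3 := hc _ h2
      calc g⁻¹ * c * g * k = g⁻¹ * (c * (g * k * g⁻¹)) * g := by group
        _ = g⁻¹ * ((g * k * g⁻¹) * c) * g := by rw [h3]
        _ = k * (g⁻¹ * c * g) := by group)
    h2Q
    (by rw [hQu]; exact h2Q.map _)
    (by
      intro n hn
      rw [hQumem]
      have hgn : (g⁻¹ * n) * z = z * (g⁻¹ * n) := by
        calc (g⁻¹ * n) * z = g⁻¹ * (n * z * n⁻¹) * n := by group
          _ = g⁻¹ * (g * z * g⁻¹) * n := by rw [hn, hu]
          _ = z * (g⁻¹ * n) := by group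
      have h1 := hNz _ hgn u hx
      have : g⁻¹ * (n * u * n⁻¹) * g = (g⁻¹ * n) * u * (g⁻¹ * n)⁻¹ := by group
      rw [this]; exact h1)
  exact (hQumem z).1 h

end Cfsg.Agent.Lib.Helper10.LargeXS
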