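import Mathlib
import Cfsg.Agent.Lib.Helper10.LargeXS3

set_option autoImplicit false

namespace Cfsg.Agent.Lib.Helper10.LargeXS

variable {G : Type*} [Group G]

theorem exists_xs [Finite G] {Q : Subgroup G} (hE : Cfsg.IsExtraspecial 2 ↥Q) :
    ∃ z : G, XS Q z ∧ ∀ x : G, x ∈ (Subgroup.center ↥Q).map Q.subtype ↔ (x = 1 ∨ x = z) := by
  have hcard2 : Nat.card (Subgroup.center ↥Q) = 2 := hE.2
  obtain ⟨c, hcne⟩ : ∃ c : ↥(Subgroup.center ↥Q), c ≠ 1 := by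
    by_contra hne
    have hall : ∀ c : ↥(Subgroup.center ↥Q), c = 1 := by
      intro c
      by_contra hc
      exact hne ⟨c, hc⟩
    have : Nat.card (Subgroup.center ↥Q) = 1 := by
      rw [Nat.card_eq_one_iff_unique]
      exact ⟨⟨fun a b => (hall a).trans (hall b).symm⟩, ⟨1⟩⟩
    omega
  obtain ⟨z, hzdef⟩ : ∃ z : G, z = ((c : ↥Q) : G) := ⟨_, rfl⟩
  have hzQ : z ∈ Q := by rw [hzdef]; exact (c : ↥Q).2
  have hz1 : z ≠ 1 := by
    intro h
    apply hcne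
    apply Subtype.ext
    apply Subtype.ext
    rw [← hzdef, h]
    rfl
  have hz2 : z * z = 1 := by
    have h1 : c ^ 2 = 1 := by
      rw [← hcard2]
      exact pow_card_eq_one'
    have h2 : (((c ^ 2 : ↥(Subgroup.center ↥Q)) : ↥Q) : G) = 1 := by rw [h1]; rfl
    rw [← pow_two, hzdef]
    exact h2
  have hzcomm : ∀ x ∈ Q, x * z = z * x := by
    intro x hx
    have h1 := Subgroup.mem_center_iff.1 c.2 ⟨x, hx⟩
    have h2 := congrArg Subtype.val h1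
    rw [hzdef]
    exact h2
  have hxs : XS Q z := xs_of_extraspecial hE hz1 hz2 hzQ hzcomm
  refine ⟨z, hxs, ?_⟩
  intro x
  constructor
  · rintro ⟨y, hy, rfl⟩
    apply hxs.center y.1 y.2
    intro w hw
    have h1 := Subgroup.mem_center_iff.1 hy ⟨w, hw⟩
    exact (congrArg Subtype.val h1).symm
  · rintro (h1 | h1)
    · rw [h1]; exact Subgroup.one_mem _
    · rw [h1]
      exact ⟨(c : ↥Q), c.2, hzdef.symm⟩

theorem inverts_of_fpf [Finite G] (K : Subgroup G) (t : G) (ht : t * t = 1)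
    (hN : ∀ x ∈ K, t * x * t⁻¹ ∈ K) (hfpf : ∀ x ∈ K, t * x = x * t → x = 1) :
    ∀ x ∈ K, t * x * t⁻¹ = x⁻¹ := by
  have htinv : t⁻¹ = t := by
    rw [inv_eq_iff_mul_eq_one]; exact ht
  obtain ⟨f, hf⟩ : ∃ f : ↥K → ↥K, ∀ x : ↥K, ((f x : ↥K) : G) = (x : G)⁻¹ * (t * x * t⁻¹) :=
    ⟨fun x => ⟨(x : G)⁻¹ * (t * x * t⁻¹), K.mul_mem (K.inv_mem x.2) (hN x x.2)⟩, fun x => rfl⟩
  have hinj : Function.Injective f := by
    intro x y hxy
    have h1 : (x : G)⁻¹ * (t * x * t⁻¹) = (y : G)⁻¹ * (t * y * t⁻¹) := by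
      rw [← hf x, ← hf y, hxy]
    have h2 : t * ((y : G) * (x : G)⁻¹) = ((y : G) * (x : G)⁻¹) * t := by
      have h3 : (y : G) * (x : G)⁻¹ = (t * y * t⁻¹) * (t * x * t⁻¹)⁻¹ := by
        calc (y : G) * (x : G)⁻¹ = y * ((x : G)⁻¹ * (t * x * t⁻¹)) * (t * x * t⁻¹)⁻¹ := by group
          _ = y * ((y : G)⁻¹ * (t * y * t⁻¹)) * (t * x * t⁻¹)⁻¹ := by rw [h1]
          _ = (t * y * t⁻¹) * (t * x * t⁻¹)⁻¹ := by group
      have h4 : (t * y * t⁻¹) * (t * x * t⁻¹)⁻¹ = t * ((y : G) * (x : G)⁻¹) * t⁻¹ := by group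
      rw [h4] at h3
      calc t * ((y : G) * (x : G)⁻¹) = (t * ((y : G) * (x : G)⁻¹) * t⁻¹) * t := by group
        _ = ((y : G) * (x : G)⁻¹) * t := by rw [← h3]
    have h5 := hfpf _ (K.mul_mem y.2 (K.inv_mem x.2)) h2
    apply Subtype.ext
    have : (y : G) = x := by
      calc (y : G) = ((y : G) * (x : G)⁻¹) * x := by group
        _ = x := by rw [h5, one_mul]
    exact this.symm
  have hsurj : Function.Surjective f := Finite.injective_iff_surjective.1 hinj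
  intro x hx
  obtain ⟨y, hy⟩ := hsurj ⟨x, hx⟩
  have h1 : x = (y : G)⁻¹ * (t * y * t⁻¹) := by
    rw [← hf y, hy]
  rw [h1]
  calc t * ((y : G)⁻¹ * (t * y * t⁻¹)) * t⁻¹ = (t * (y : G)⁻¹ * t⁻¹) * ((t * t) * y * (t⁻¹ * t⁻¹)) := by group
    _ = (t * (y : G)⁻¹ * t⁻¹) * y := by rw [htinv, ht, one_mul, mul_one]
    _ = ((y : G)⁻¹ * (t * y * t⁻¹))⁻¹ := by group

theorem eq_one_of_odd_of_conj_mem [Finite G] {K Q : Subgroup G} (hK : Odd (Nat.card ↥K))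
    (h2Q : IsPGroup 2 ↥Q) (a c : G) (ha : a ∈ K) (hc : c * a * c⁻¹ ∈ Q) : a = 1 := by
  obtain ⟨k, hk⟩ := h2Q ⟨c * a * c⁻¹, hc⟩
  have h1 : (c * a * c⁻¹) ^ (2 ^ k) = 1 := by
    have := congrArg Subtype.val hk
    exact this
  rw [conj_pow] at h1
  have h2 : a ^ (2 ^ k) = 1 := by
    calc a ^ (2 ^ k) = c⁻¹ * (c * a ^ (2 ^ k) * c⁻¹) * c := by group
      _ = 1 := by rw [h1]; group
  have h3 : orderOf a ∣ 2 ^ k := orderOf_dvd_of_pow_eq_one h2
  have h4 : orderOf a ∣ Nat.card ↥K := by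
    have h5 : orderOf (⟨a, ha⟩ : ↥K) ∣ Nat.card ↥K := orderOf_dvd_natCard _
    have h6 : orderOf (⟨a, ha⟩ : ↥K) = orderOf a := by
      rw [← Subgroup.orderOf_coe]
    rw [h6] at h5
    exact h5
  have hcop : (Nat.card ↥K).Coprime (2 ^ k) := by
    apply Nat.Coprime.pow_right
    exact (Nat.coprime_two_right).2 hK
  have h7 : orderOf a = 1 := Nat.eq_one_of_dvd_coprimes hcop h4 h3
  exact orderOf_eq_one_iff.1 h7

theorem eq_one_of_odd_of_sq [Finite G] {K : Subgroup G} (hK : Odd (Nat.card ↥K))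
    (a : G) (ha : a ∈ K) (ha2 : a * a = 1) : a = 1 := by
  obtain ⟨m, hm⟩ := hK
  have h1 : (⟨a, ha⟩ : ↥K) ^ (Nat.card ↥K) = 1 := pow_card_eq_one'
  have h2 : a ^ (Nat.card ↥K) = 1 := by
    have := congrArg Subtype.val h1
    exact this
  rw [hm, pow_succ, pow_mul, pow_two, ha2, one_pow, one_mul] at h2
  exact h2

end Cfsg.Agent.Lib.Helper10.LargeXS
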