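import Mathlib
import Cfsg.Agent.Lib.Helper10.LargeXS10
import Cfsg.Agent.Lib.Helper10.LargeXS11

set_option autoImplicit false

namespace Cfsg.Agent.Lib.Helper10.LargeXS

variable {G : Type*} [Group G]

theorem odd_normalized_eq_bot [Finite G] {Q : Subgroup G} {z : G} (hxs : XS Q z)
    (h2Q : IsPGroup 2 ↥Q)
    (hNz : ∀ h : G, h * z = z * h → ∀ k ∈ Q, h * k * h⁻¹ ∈ Q)
    (hCz : ∀ c : G, (∀ k ∈ Q, c * k = k * c) → c ∈ Q)
    (g : G) (hu : g * z * g⁻¹ ∈ Q) (huz : g * z * g⁻¹ ≠ z)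
    (K : Subgroup G) (hK : Odd (Nat.card ↥K)) (hQK : Q ≤ Subgroup.normalizer (K : Set G)) :
    K = ⊥ := by
  have hz2 : z * z = 1 := hxs.z_sq
  have hzinv : z⁻¹ = z := hxs.z_inv
  have hnorm : ∀ k ∈ Q, ∀ x ∈ K, k * x * k⁻¹ ∈ K := by
    intro k hk x hx
    exact (Subgroup.mem_normalizer_iff.1 (hQK hk) x).1 hx
  have hA : ∀ x ∈ K, z * x = x * z → x = 1 := by
    intro x hx hxz
    have hxQ : x ∈ Q := by
      apply hCz
      intro k hk
      have h1 : x * k * x⁻¹ * k⁻¹ ∈ Q := Q.mul_mem (hNz x hxz.symm k hk) (Q.inv_mem hk)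
      have h2 : x * k * x⁻¹ * k⁻¹ ∈ K := by
        have h3 : x * k * x⁻¹ * k⁻¹ = x * (k * x⁻¹ * k⁻¹) := by group
        rw [h3]
        exact K.mul_mem hx (hnorm k hk _ (K.inv_mem hx))
      have h4 := eq_one_of_odd_of_conj_mem hK h2Q _ 1 h2 (by rw [one_mul, inv_one, mul_one]; exact h1)
      calc x * k = (x * k * x⁻¹ * k⁻¹) * (k * x) := by group
        _ = k * x := by rw [h4, one_mul]
    exact eq_one_of_odd_of_conj_mem hK h2Q x 1 hx (by rw [one_mul, inv_one, mul_one]; exact hxQ)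
  have hzinvK : ∀ x ∈ K, z * x * z⁻¹ = x⁻¹ :=
    inverts_of_fpf K z hz2 (hnorm z hxs.z_mem) hA
  have hfix : ∀ g' : G, g' * z * g'⁻¹ ∈ Q → ∀ x ∈ K,
      (g' * z * g'⁻¹) * x = x * (g' * z * g'⁻¹) → x = 1 := by
    intro g' hg' x hx hxu
    have hw : g'⁻¹ * z * g' ∈ Q := symm_conj hxs h2Q hNz hCz g' hg'
    have hyz : (g'⁻¹ * x⁻¹ * g') * z = z * (g'⁻¹ * x⁻¹ * g') := by
      have hxu' : x⁻¹ * (g' * z * g'⁻¹) = (g' * z * g'⁻¹) * x⁻¹ := by
        calc x⁻¹ * (g' * z * g'⁻¹) = x⁻¹ * ((g' * z * g'⁻¹) * x) * x⁻¹ := by group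
          _ = x⁻¹ * (x * (g' * z * g'⁻¹)) * x⁻¹ := by rw [hxu]
          _ = (g' * z * g'⁻¹) * x⁻¹ := by group
      calc (g'⁻¹ * x⁻¹ * g') * z = g'⁻¹ * (x⁻¹ * (g' * z * g'⁻¹)) * g' := by group
        _ = g'⁻¹ * ((g' * z * g'⁻¹) * x⁻¹) * g' := by rw [hxu']
        _ = z * (g'⁻¹ * x⁻¹ * g') := by group
    have h1 := hNz _ hyz _ hw
    have h2 : (g'⁻¹ * z * g')⁻¹ * ((g'⁻¹ * x⁻¹ * g') * (g'⁻¹ * z * g') * (g'⁻¹ * x⁻¹ * g')⁻¹) ∈ Q :=
      Q.mul_mem (Q.inv_mem hw) h1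
    have h3 : (g'⁻¹ * z * g')⁻¹ * ((g'⁻¹ * x⁻¹ * g') * (g'⁻¹ * z * g') * (g'⁻¹ * x⁻¹ * g')⁻¹)
        = g'⁻¹ * (x * x) * g'⁻¹⁻¹ := by
      have h4 : z⁻¹ * x⁻¹ * z = x := by
        have h5 := hzinvK x⁻¹ (K.inv_mem hx)
        rw [inv_inv] at h5
        rw [hzinv]
        calc z * x⁻¹ * z = z * x⁻¹ * z⁻¹ := by rw [hzinv]
          _ = x := h5
      calc (g'⁻¹ * z * g')⁻¹ * ((g'⁻¹ * x⁻¹ * g') * (g'⁻¹ * z * g') * (g'⁻¹ * x⁻¹ * g')⁻¹)
          = g'⁻¹ * ((z⁻¹ * x⁻¹ * z) * x) * g'⁻¹⁻¹ := by group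
        _ = g'⁻¹ * (x * x) * g'⁻¹⁻¹ := by rw [h4]
    rw [h3] at h2
    have h6 : x * x = 1 := eq_one_of_odd_of_conj_mem hK h2Q (x * x) g'⁻¹ (K.mul_mem hx hx) h2
    exact eq_one_of_odd_of_sq hK x hx h6
  obtain ⟨u, hudef⟩ : ∃ u, u = g * z * g⁻¹ := ⟨_, rfl⟩
  have hu2 : u * u = 1 := by
    rw [hudef]
    calc g * z * g⁻¹ * (g * z * g⁻¹) = g * (z * z) * g⁻¹ := by group
      _ = 1 := by rw [hz2, mul_one, mul_inv_cancel]
  have hu1 : u ≠ 1 := by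
    intro h
    rw [h] at hudef
    apply hxs.z_ne
    have : z = g⁻¹ * (g * z * g⁻¹) * g := by group
    rw [this, ← hudef]
    group
  have huQ : u ∈ Q := by rw [hudef]; exact hu
  have huz' : u ≠ z := by rw [hudef]; exact huz
  have hB : ∀ x ∈ K, u * x = x * u → x = 1 := by
    intro x hx hxu
    rw [hudef] at hxu
    exact hfix g hu x hx hxu
  have huinvK : ∀ x ∈ K, u * x * u⁻¹ = x⁻¹ :=
    inverts_of_fpf K u hu2 (hnorm u huQ) hB
  obtain ⟨q, hq, hqu⟩ : ∃ q ∈ Q, q * u = z * (u * q) := by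
    by_contra hne
    have hall : ∀ y ∈ Q, u * y = y * u := by
      intro y hy
      rcases hxs.comm y hy u huQ with h1 | h1
      · exact h1.symm
      · exact absurd ⟨y, hy, h1⟩ hne
    rcases hxs.center u huQ hall with h1 | h1
    · exact hu1 h1
    · exact huz' h1
  have hquq : q * u * q⁻¹ = z * u := by
    rw [hqu, mul_assoc, mul_assoc, mul_inv_cancel, mul_one]
  have hzu : (q * g) * z * (q * g)⁻¹ = z * u := by
    calc (q * g) * z * (q * g)⁻¹ = q * (g * z * g⁻¹) * q⁻¹ := by group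
      _ = z * u := by rw [← hudef, hquq]
  have hzuQ : (q * g) * z * (q * g)⁻¹ ∈ Q := by
    rw [hzu]; exact Q.mul_mem hxs.z_mem huQ
  rw [Subgroup.eq_bot_iff_forall]
  intro x hx
  apply hfix (q * g) hzuQ x hx
  rw [hzu]
  have h1 := hzinvK x hx
  have h2 := huinvK x⁻¹ (K.inv_mem hx)
  rw [inv_inv] at h2
  have h3 : z * (u * x⁻¹ * u⁻¹) * z⁻¹ = x⁻¹ := by rw [h2]; exact h1
  have h4 : (z * u) * x⁻¹ * (z * u)⁻¹ = x⁻¹ := by
    calc (z * u) * x⁻¹ * (z * u)⁻¹ = z * (u * x⁻¹ * u⁻¹) * z⁻¹ := by group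
      _ = x⁻¹ := h3
  have h5 : (z * u) * x⁻¹ = x⁻¹ * (z * u) := by
    calc (z * u) * x⁻¹ = ((z * u) * x⁻¹ * (z * u)⁻¹) * (z * u) := by group
      _ = x⁻¹ * (z * u) := by rw [h4]
  calc z * u * x = x * (x⁻¹ * (z * u)) * x := by group
    _ = x * ((z * u) * x⁻¹) * x := by rw [h5]
    _ = x * (z * u) := by group

theorem mem_normalizer_of_conj_mem [Finite G] {K : Subgroup G} {g : G}
    (h : ∀ x ∈ K, g * x * g⁻¹ ∈ K) : g ∈ Subgroup.normalizer (K : Set G) := by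
  have hle : K.map (MulAut.conj g).toMonoidHom ≤ K := by
    rintro _ ⟨x, hx, rfl⟩
    exact h x hx
  have heq : K.map (MulAut.conj g).toMonoidHom = K :=
    Subgroup.eq_of_le_of_card_ge hle
      (by rw [Subgroup.card_map_of_injective (MulAut.conj g).injective])
  exact Subgroup.mem_normalizer_iff_map_conj_eq.mpr heq

theorem relIndex_centralizer_eq_ncard (N : Subgroup G) (x : G) :
    (N ⊓ Subgroup.centralizer ({x} : Set G)).relIndex N
      = {y : G | ∃ n ∈ N, n * x * n⁻¹ = y}.ncard := by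
  let _ : MulAction ↥N G := MulAction.compHom G ((MulAut.conj : G →* MulAut G).comp N.subtype)
  have hsmul : ∀ (n : ↥N) (y : G), n • y = (n : G) * y * (n : G)⁻¹ := fun n y => rfl
  have h := MulAction.index_stabilizer ↥N x
  have h1 : MulAction.stabilizer ↥N x = (N ⊓ Subgroup.centralizer ({x} : Set G)).subgroupOf N := by
    ext n
    rw [MulAction.mem_stabilizer_iff, hsmul, Subgroup.mem_subgroupOf, Subgroup.mem_inf,
      Subgroup.mem_centralizer_singleton_iff]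
    constructor
    · intro h2
      refine ⟨n.2, ?_⟩
      calc (n : G) * x = ((n : G) * x * (n : G)⁻¹) * n := by group
        _ = x * n := by rw [h2]
    · intro h2
      rw [h2.2, mul_inv_cancel_right]
  have h2 : MulAction.orbit ↥N x = {y : G | ∃ n ∈ N, n * x * n⁻¹ = y} := by
    ext y
    rw [MulAction.mem_orbit_iff]
    show _ ↔ ∃ n ∈ N, n * x * n⁻¹ = y
    constructor
    · rintro ⟨n, hn⟩
      exact ⟨n, n.2, by rw [← hn, hsmul]⟩
    · rintro ⟨n, hn, hy⟩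
      exact ⟨⟨n, hn⟩, by rw [hsmul]; exact hy⟩
  rw [h1, h2] at h
  exact h

end Cfsg.Agent.Lib.Helper10.LargeXS
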