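import Mathlib
import Cfsg.Agent.Lib.Helper10.LargeXS12

set_option autoImplicit false

namespace Cfsg.Agent.Lib.Helper10.LargeXS

variable {G : Type*} [Group G]

theorem four_mem_of_closure {z u : G} (hz2 : z * z = 1) (hu2 : u * u = 1) (hcomm : z * u = u * z)
    {x : G} (hx : x ∈ Subgroup.closure ({z, u} : Set G)) :
    x = 1 ∨ x = z ∨ x = u ∨ x = z * u := by
  have hzinv : z⁻¹ = z := by rw [inv_eq_iff_mul_eq_one]; exact hz2
  have huinv : u⁻¹ = u := by rw [inv_eq_iff_mul_eq_one]; exact hu2
  have key : ∀ a ∈ ({z, u} : Set G), ∀ y : G, (y = 1 ∨ y = z ∨ y = u ∨ y = z * u) →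
      (a * y = 1 ∨ a * y = z ∨ a * y = u ∨ a * y = z * u) := by
    intro a ha y hy
    rcases ha with rfl | ha
    · rcases hy with rfl | rfl | rfl | rfl
      · right; left; rw [mul_one]
      · left; exact hz2
      · right; right; right; rfl
      · right; right; left; rw [← mul_assoc, hz2, one_mul]
    · rw [Set.mem_singleton_iff] at ha
      subst ha
      rcases hy with rfl | rfl | rfl | rfl
      · right; right; left; rw [mul_one]
      · right; right; right; exact hcomm.symm
      · left; exact hu2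
      · right; left; rw [hcomm, ← mul_assoc, hu2, one_mul]
  refine Subgroup.closure_induction_left (p := fun y _ => y = 1 ∨ y = z ∨ y = u ∨ y = z * u)
    (Or.inl rfl) ?_ ?_ hx
  · intro a ha y _ hy
    exact key a ha y hy
  · intro a ha y _ hy
    have : a⁻¹ = a := by
      rcases ha with rfl | ha
      · exact hzinv
      · rw [Set.mem_singleton_iff] at ha
        rw [ha]; exact huinv
    rw [this]
    exact key a ha y hy

theorem four_group_relIndex [Finite G] (V : Subgroup G) (z u q q' : G) (hz1 : z ≠ 1) (hu1 : u ≠ 1)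
    (hzu : z ≠ u) (hz2 : z * z = 1) (hu2 : u * u = 1) (hcomm : z * u = u * z)
    (hV : ∀ x, x ∈ V ↔ x = 1 ∨ x = z ∨ x = u ∨ x = z * u)
    (hqz : q * z * q⁻¹ = z) (hqu : q * u * q⁻¹ = z * u)
    (hq'u : q' * u * q'⁻¹ = u) (hq'z : q' * z * q'⁻¹ = z * u) :
    (Subgroup.centralizer (V : Set G)).relIndex (Subgroup.normalizer (V : Set G)) = 6 := by
  have hzV : z ∈ V := (hV z).2 (Or.inr (Or.inl rfl))
  have huV : u ∈ V := (hV u).2 (Or.inr (Or.inr (Or.inl rfl)))
  have hzuV : z * u ∈ V := (hV _).2 (Or.inr (Or.inr (Or.inr rfl)))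
  have hconj_mul : ∀ n a b : G, n * (a * b) * n⁻¹ = (n * a * n⁻¹) * (n * b * n⁻¹) := by
    intro n a b; group
  have hqN : q ∈ Subgroup.normalizer (V : Set G) := by
    apply mem_normalizer_of_conj_mem
    intro x hx
    rcases (hV x).1 hx with rfl | rfl | rfl | rfl
    · rw [mul_one, mul_inv_cancel]; exact V.one_mem
    · rw [hqz]; exact hzV
    · rw [hqu]; exact hzuV
    · rw [hconj_mul, hqz, hqu, ← mul_assoc, hz2, one_mul]; exact huV
  have hq'N : q' ∈ Subgroup.normalizer (V : Set G) := by
    apply mem_normalizer_of_conj_mem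
    intro x hx
    rcases (hV x).1 hx with rfl | rfl | rfl | rfl
    · rw [mul_one, mul_inv_cancel]; exact V.one_mem
    · rw [hq'z]; exact hzuV
    · rw [hq'u]; exact huV
    · rw [hconj_mul, hq'z, hq'u, mul_assoc, hu2, mul_one]; exact hzV
  obtain ⟨S, hS⟩ : ∃ S : Subgroup G,
      S = Subgroup.normalizer (V : Set G) ⊓ Subgroup.centralizer ({z} : Set G) := ⟨_, rfl⟩
  have hSmem : ∀ s, s ∈ S ↔ s ∈ Subgroup.normalizer (V : Set G) ∧ s * z = z * s := by
    intro s
    rw [hS, Subgroup.mem_inf, Subgroup.mem_centralizer_singleton_iff]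
  have hCmem : ∀ c, c ∈ Subgroup.centralizer (V : Set G) ↔ (c * z = z * c ∧ c * u = u * c) := by
    intro c
    rw [Subgroup.mem_centralizer_iff]
    constructor
    · intro h
      exact ⟨(h z hzV).symm, (h u huV).symm⟩
    · rintro ⟨h1, h2⟩ x hx
      rcases (hV x).1 hx with rfl | rfl | rfl | rfl
      · rw [one_mul, mul_one]
      · exact h1.symm
      · exact h2.symm
      · rw [mul_assoc, ← h2, ← mul_assoc, ← h1, mul_assoc]
  have hCS : Subgroup.centralizer (V : Set G) ≤ S := by
    intro c hc
    rw [hSmem]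
    exact ⟨Subgroup.centralizer_le_normalizer _ hc, ((hCmem c).1 hc).1⟩
  have hSN : S ≤ Subgroup.normalizer (V : Set G) := by
    rw [hS]; exact inf_le_left
  have hidx2 : (Subgroup.centralizer (V : Set G)).relIndex S = 2 := by
    rw [Subgroup.relIndex_eq_two_iff_exists_notMem_and]
    have hqzc : q * z = z * q := by
      calc q * z = (q * z * q⁻¹) * q := by group
        _ = z * q := by rw [hqz]
    refine ⟨q, (hSmem q).2 ⟨hqN, hqzc⟩, ?_, ?_⟩
    · intro hqC
      have h1 := ((hCmem q).1 hqC).2
      have h2 : q * u * q⁻¹ = u := by rw [h1, mul_inv_cancel_right]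
      rw [hqu] at h2
      apply hz1
      calc z = (z * u) * u⁻¹ := by group
        _ = 1 := by rw [h2, mul_inv_cancel]
    · intro b hb
      obtain ⟨hbN, hbz⟩ := (hSmem b).1 hb
      have hbzc : b * z * b⁻¹ = z := by rw [hbz, mul_inv_cancel_right]
      have hbu : b * u * b⁻¹ ∈ V := (Subgroup.mem_normalizer_iff.1 hbN u).1 huV
      rcases (hV _).1 hbu with h1 | h1 | h1 | h1
      · exfalso
        apply hu1
        calc u = b⁻¹ * (b * u * b⁻¹) * b := by group
          _ = 1 := by rw [h1]; group
      · exfalso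
        apply hzu
        have : b * u * b⁻¹ = b * z * b⁻¹ := by rw [h1, hbzc]
        calc z = b⁻¹ * (b * z * b⁻¹) * b := by group
          _ = b⁻¹ * (b * u * b⁻¹) * b := by rw [this]
          _ = u := by group
      · right
        rw [hCmem]
        refine ⟨hbz, ?_⟩
        calc b * u = (b * u * b⁻¹) * b := by group
          _ = u * b := by rw [h1]
      · left
        rw [hCmem]
        constructor
        · rw [mul_assoc, hqzc, ← mul_assoc, hbz, mul_assoc]
        · have h2 : (b * q) * u * (b * q)⁻¹ = u := by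
            calc (b * q) * u * (b * q)⁻¹ = b * (q * u * q⁻¹) * b⁻¹ := by group
              _ = b * (z * u) * b⁻¹ := by rw [hqu]
              _ = (b * z * b⁻¹) * (b * u * b⁻¹) := by group
              _ = z * (z * u) := by rw [hbzc, h1]
              _ = u := by rw [← mul_assoc, hz2, one_mul]
          calc b * q * u = ((b * q) * u * (b * q)⁻¹) * (b * q) := by group
            _ = u * (b * q) := by rw [h2]
  have hidx3 : S.relIndex (Subgroup.normalizer (V : Set G)) = 3 := by
    rw [hS, relIndex_centralizer_eq_ncard, Set.ncard_eq_three]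
    refine ⟨z, u, z * u, hzu, ?_, ?_, ?_⟩
    · intro h
      apply hu1
      calc u = z⁻¹ * (z * u) := by group
        _ = 1 := by rw [← h, inv_mul_cancel]
    · intro h
      apply hz1
      calc z = (z * u) * u⁻¹ := by group
        _ = 1 := by rw [← h, mul_inv_cancel]
    · ext y
      constructor
      · rintro ⟨n, hn, rfl⟩
        have h1 : n * z * n⁻¹ ∈ V := (Subgroup.mem_normalizer_iff.1 hn z).1 hzV
        rcases (hV _).1 h1 with h2 | h2 | h2 | h2
        · exfalso
          apply hz1
          calc z = n⁻¹ * (n * z * n⁻¹) * n := by group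
            _ = 1 := by rw [h2]; group
        · rw [h2]; exact Or.inl rfl
        · rw [h2]; exact Or.inr (Or.inl rfl)
        · rw [h2]; exact Or.inr (Or.inr rfl)
      · rintro (rfl | rfl | rfl)
        · exact ⟨1, Subgroup.one_mem _, by group⟩
        · refine ⟨q * q', Subgroup.mul_mem _ hqN hq'N, ?_⟩
          calc q * q' * z * (q * q')⁻¹ = q * (q' * z * q'⁻¹) * q⁻¹ := by group
            _ = q * (z * y) * q⁻¹ := by rw [hq'z]
            _ = (q * z * q⁻¹) * (q * y * q⁻¹) := by group
            _ = z * (z * y) := by rw [hqz, hqu]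
            _ = y := by rw [← mul_assoc, hz2, one_mul]
        · exact ⟨q', hq'N, hq'z⟩
  have h := Subgroup.relIndex_mul_relIndex _ _ _ hCS hSN
  rw [hidx2, hidx3] at h
  exact h.symm

end Cfsg.Agent.Lib.Helper10.LargeXS
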