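import Mathlib
import Cfsg.Agent.Lib.Helper10.LargeXS1

set_option autoImplicit false

namespace Cfsg.Agent.Lib.Helper10.LargeXS

variable {G : Type*} [Group G]

theorem mem_map_conj_iff (Q : Subgroup G) (g x : G) :
    x ∈ Q.map (MulAut.conj g).toMonoidHom ↔ g⁻¹ * x * g ∈ Q := by
  constructor
  · rintro ⟨y, hy, rfl⟩
    have : g⁻¹ * ((MulAut.conj g).toMonoidHom y) * g = y := by
      show g⁻¹ * (g * y * g⁻¹) * g = y
      group
    rw [this]; exact hy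
  · intro hk
    refine ⟨g⁻¹ * x * g, hk, ?_⟩
    show g * (g⁻¹ * x * g) * g⁻¹ = x
    group

theorem conj_mem_map_conj {Q : Subgroup G} (g : G) {y : G} (hy : y ∈ Q) :
    g * y * g⁻¹ ∈ Q.map (MulAut.conj g).toMonoidHom :=
  ⟨y, hy, rfl⟩

theorem XS.map_conj {Q : Subgroup G} {z : G} (h : XS Q z) (g : G) :
    XS (Q.map (MulAut.conj g).toMonoidHom) (g * z * g⁻¹) := by
  have hback : ∀ x : G, g * (g⁻¹ * x * g) * g⁻¹ = x := fun x => by group
  have hz2 : g * z * g⁻¹ * (g * z * g⁻¹) = 1 := by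
    calc g * z * g⁻¹ * (g * z * g⁻¹) = g * (z * z) * g⁻¹ := by group
      _ = 1 := by rw [h.z_sq, mul_one, mul_inv_cancel]
  refine ⟨?_, hz2, conj_mem_map_conj g h.z_mem, ?_, ?_, ?_, ?_⟩
  · intro h1
    apply h.z_ne
    have : z = g⁻¹ * (g * z * g⁻¹) * g := by group
    rw [this, h1]
    group
  · intro x hx
    have hx' := (mem_map_conj_iff Q g x).1 hx
    have h1 := h.z_comm _ hx'
    calc x * (g * z * g⁻¹) = g * ((g⁻¹ * x * g) * z) * g⁻¹ := by group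
      _ = g * (z * (g⁻¹ * x * g)) * g⁻¹ := by rw [h1]
      _ = g * z * g⁻¹ * x := by group
  · intro x hx hxy
    have hx' := (mem_map_conj_iff Q g x).1 hx
    have hall : ∀ y ∈ Q, (g⁻¹ * x * g) * y = y * (g⁻¹ * x * g) := by
      intro y hy
      have hy' : g * y * g⁻¹ ∈ Q.map (MulAut.conj g).toMonoidHom := conj_mem_map_conj g hy
      have h1 := hxy _ hy'
      calc (g⁻¹ * x * g) * y = g⁻¹ * (x * (g * y * g⁻¹)) * g := by group
        _ = g⁻¹ * ((g * y * g⁻¹) * x) * g := by rw [h1]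
        _ = y * (g⁻¹ * x * g) := by group
    rcases h.center _ hx' hall with h1 | h1
    · left
      rw [← hback x, h1]
      group
    · right
      rw [← hback x, h1]
  · intro x hx y hy
    have hx' := (mem_map_conj_iff Q g x).1 hx
    have hy' := (mem_map_conj_iff Q g y).1 hy
    rcases h.comm _ hx' _ hy' with h1 | h1
    · left
      calc x * y = g * ((g⁻¹ * x * g) * (g⁻¹ * y * g)) * g⁻¹ := by group
        _ = g * ((g⁻¹ * y * g) * (g⁻¹ * x * g)) * g⁻¹ := by rw [h1]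
        _ = y * x := by group
    · right
      calc x * y = g * ((g⁻¹ * x * g) * (g⁻¹ * y * g)) * g⁻¹ := by group
        _ = g * (z * ((g⁻¹ * y * g) * (g⁻¹ * x * g))) * g⁻¹ := by rw [h1]
        _ = g * z * g⁻¹ * (y * x) := by group
  · intro x hx
    have hx' := (mem_map_conj_iff Q g x).1 hx
    rcases h.sq _ hx' with h1 | h1
    · left
      calc x * x = g * ((g⁻¹ * x * g) * (g⁻¹ * x * g)) * g⁻¹ := by group
        _ = 1 := by rw [h1, mul_one, mul_inv_cancel]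
    · right
      calc x * x = g * ((g⁻¹ * x * g) * (g⁻¹ * x * g)) * g⁻¹ := by group
        _ = g * z * g⁻¹ := by rw [h1]

theorem XS.comm_mem {Q : Subgroup G} {z : G} (h : XS Q z) {E : Subgroup G} (hzE : z ∈ E)
    {x y : G} (hx : x ∈ Q) (hy : y ∈ Q) : x * y * x⁻¹ * y⁻¹ ∈ E := by
  rcases h.comm x hx y hy with h1 | h1
  · have : x * y * x⁻¹ * y⁻¹ = 1 := by rw [h1]; group
    rw [this]; exact E.one_mem
  · have : x * y * x⁻¹ * y⁻¹ = z := by rw [h1]; group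
    rw [this]; exact hzE

theorem XS.sq_mem {Q : Subgroup G} {z : G} (h : XS Q z) {E : Subgroup G} (hzE : z ∈ E)
    {x : G} (hx : x ∈ Q) : x * x ∈ E := by
  rcases h.sq x hx with h1 | h1
  · rw [h1]; exact E.one_mem
  · rw [h1]; exact hzE

theorem comm_mem_of_mem_closure {V E : Subgroup G} {S : Set G}
    (hN : ∀ s ∈ S, s ∈ Subgroup.normalizer (V : Set G))
    (hc : ∀ s ∈ S, ∀ e ∈ E, s * e * s⁻¹ * e⁻¹ ∈ V) :
    ∀ x ∈ Subgroup.closure S, ∀ e ∈ E, x * e * x⁻¹ * e⁻¹ ∈ V := by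
  have hle : Subgroup.closure S ≤ Subgroup.normalizer (V : Set G) := by
    rw [Subgroup.closure_le]
    exact hN
  intro x hx
  refine Subgroup.closure_induction (p := fun x _ => ∀ e ∈ E, x * e * x⁻¹ * e⁻¹ ∈ V)
    hc ?_ ?_ ?_ hx
  · intro e _
    have : (1 : G) * e * 1⁻¹ * e⁻¹ = 1 := by group
    rw [this]; exact V.one_mem
  · intro a b ha _ iha ihb e he
    have h1 : a * (b * e * b⁻¹ * e⁻¹) * a⁻¹ ∈ V :=
      (Subgroup.mem_normalizer_iff.1 (hle ha) _).1 (ihb e he)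
    have h2 : a * b * e * (a * b)⁻¹ * e⁻¹ = (a * (b * e * b⁻¹ * e⁻¹) * a⁻¹) * (a * e * a⁻¹ * e⁻¹) := by
      group
    rw [h2]
    exact V.mul_mem h1 (iha e he)
  · intro a ha iha e he
    have hainv : a⁻¹ ∈ Subgroup.normalizer (V : Set G) := Subgroup.inv_mem _ (hle ha)
    have h1 : a⁻¹ * (a * e * a⁻¹ * e⁻¹)⁻¹ * a⁻¹⁻¹ ∈ V :=
      (Subgroup.mem_normalizer_iff.1 hainv _).1 (V.inv_mem (iha e he))
    have h2 : a⁻¹ * e * a⁻¹⁻¹ * e⁻¹ = a⁻¹ * (a * e * a⁻¹ * e⁻¹)⁻¹ * a⁻¹⁻¹ := by group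
    rw [h2]
    exact h1

theorem comm_sq_mem_of_closure {E : Subgroup G} {S : Set G}
    (hN : ∀ s ∈ S, s ∈ Subgroup.normalizer (E : Set G))
    (hc : ∀ s ∈ S, ∀ t ∈ S, s * t * s⁻¹ * t⁻¹ ∈ E) (hsq : ∀ s ∈ S, s * s ∈ E) :
    ∀ x ∈ Subgroup.closure S, ∀ y ∈ Subgroup.closure S,
      x * y * x⁻¹ * y⁻¹ ∈ E ∧ x * x ∈ E := by
  have hle : Subgroup.closure S ≤ Subgroup.normalizer (E : Set G) := by
    rw [Subgroup.closure_le]
    exact hN
  have hconj : ∀ a ∈ Subgroup.closure S, ∀ e ∈ E, a * e * a⁻¹ ∈ E := by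
    intro a ha e he
    exact (Subgroup.mem_normalizer_iff.1 (hle ha) e).1 he
  have hconj' : ∀ a ∈ Subgroup.closure S, ∀ e ∈ E, a⁻¹ * e * a ∈ E := by
    intro a ha e he
    have := hconj a⁻¹ (Subgroup.inv_mem _ ha) e he
    rw [inv_inv] at this
    exact this
  have stage1 : ∀ t ∈ S, ∀ x ∈ Subgroup.closure S, x * t * x⁻¹ * t⁻¹ ∈ E := by
    intro t ht x hx
    refine Subgroup.closure_induction (p := fun x _ => x * t * x⁻¹ * t⁻¹ ∈ E)
      (fun s hs => hc s hs t ht) ?_ ?_ ?_ hx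
    · have : (1 : G) * t * 1⁻¹ * t⁻¹ = 1 := by group
      rw [this]; exact E.one_mem
    · intro a b ha _ iha ihb
      have h1 := hconj a ha _ ihb
      have h2 : a * b * t * (a * b)⁻¹ * t⁻¹ = (a * (b * t * b⁻¹ * t⁻¹) * a⁻¹) * (a * t * a⁻¹ * t⁻¹) := by
        group
      rw [h2]
      exact E.mul_mem h1 iha
    · intro a ha iha
      have h1 := hconj' a ha _ (E.inv_mem iha)
      have h2 : a⁻¹ * t * a⁻¹⁻¹ * t⁻¹ = a⁻¹ * (a * t * a⁻¹ * t⁻¹)⁻¹ * a := by group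
      rw [h2]
      exact h1
  have stage2 : ∀ x ∈ Subgroup.closure S, ∀ y ∈ Subgroup.closure S, x * y * x⁻¹ * y⁻¹ ∈ E := by
    intro x hx y hy
    refine Subgroup.closure_induction (p := fun y _ => x * y * x⁻¹ * y⁻¹ ∈ E)
      (fun s hs => stage1 s hs x hx) ?_ ?_ ?_ hy
    · have : x * 1 * x⁻¹ * 1⁻¹ = 1 := by group
      rw [this]; exact E.one_mem
    · intro a b ha _ iha ihb
      have h1 := hconj a ha _ ihb
      have h2 : x * (a * b) * x⁻¹ * (a * b)⁻¹ = (x * a * x⁻¹ * a⁻¹) * (a * (x * b * x⁻¹ * b⁻¹) * a⁻¹) := by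
        group
      rw [h2]
      exact E.mul_mem iha h1
    · intro a ha iha
      have h1 := hconj' a ha _ (E.inv_mem iha)
      have h2 : x * a⁻¹ * x⁻¹ * a⁻¹⁻¹ = a⁻¹ * (x * a * x⁻¹ * a⁻¹)⁻¹ * a := by group
      rw [h2]
      exact h1
  have stage3 : ∀ x ∈ Subgroup.closure S, x * x ∈ E := by
    intro x hx
    refine Subgroup.closure_induction (p := fun x _ => x * x ∈ E) hsq ?_ ?_ ?_ hx
    · rw [one_mul]; exact E.one_mem
    · intro a b ha hb iha ihb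
      have h1 := stage2 a⁻¹ (Subgroup.inv_mem _ ha) b hb
      rw [inv_inv] at h1
      have h2 : a * b * (a * b) = (a * a) * (a⁻¹ * b * a * b⁻¹) * (b * b) := by group
      rw [h2]
      exact E.mul_mem (E.mul_mem iha h1) ihb
    · intro a _ iha
      have h2 : a⁻¹ * a⁻¹ = (a * a)⁻¹ := by group
      rw [h2]
      exact E.inv_mem iha
  intro x hx y hy
  exact ⟨stage2 x hx y hy, stage3 x hx⟩

end Cfsg.Agent.Lib.Helper10.LargeXS
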