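import Mathlib
import Cfsg.Agent.S0444

set_option autoImplicit false

namespace Cfsg.Agent.Lib.Helper10.LargeXS

open DihedralGroup

theorem quotient_equiv_perm3 {X : Type*} [Group X] (N : Subgroup X) [N.Normal] (d e : X)
    (hd : d * d ∈ N) (he : e * e ∈ N) (h3 : e * d⁻¹ * e⁻¹ * d * e * d⁻¹ ∈ N)
    (hne : d * e * d⁻¹ * e⁻¹ ∉ N)
    (hgen : Subgroup.closure ({d, e} : Set X) ⊔ N = ⊤) :
    Nonempty (X ⧸ N ≃* Equiv.Perm (Fin 3)) ∧
    ∀ x : X, (x ∈ N ∨ (d * e)⁻¹ * x ∈ N ∨ ((d * e) ^ 2)⁻¹ * x ∈ N ∨ d⁻¹ * x ∈ N ∨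
      (d * (d * e))⁻¹ * x ∈ N ∨ (d * (d * e) ^ 2)⁻¹ * x ∈ N) := by
  obtain ⟨D, hD⟩ : ∃ D : X ⧸ N, D = QuotientGroup.mk' N d := ⟨_, rfl⟩
  obtain ⟨E, hE⟩ : ∃ E : X ⧸ N, E = QuotientGroup.mk' N e := ⟨_, rfl⟩
  have hone : ∀ x : X, x ∈ N → QuotientGroup.mk' N x = 1 := by
    intro x hx
    exact (QuotientGroup.eq_one_iff x).2 hx
  have hDD : D * D = 1 := by
    rw [hD, ← map_mul]; exact hone _ hd
  have hEE : E * E = 1 := by
    rw [hE, ← map_mul]; exact hone _ he
  have hDinv : D⁻¹ = D := by rw [inv_eq_iff_mul_eq_one]; exact hDD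
  have hEinv : E⁻¹ = E := by rw [inv_eq_iff_mul_eq_one]; exact hEE
  have hDE3 : (D * E) ^ 3 = 1 := by
    have h4 : E * D⁻¹ * E⁻¹ * D * E * D⁻¹ = 1 := by
      have := hone _ h3
      rw [map_mul, map_mul, map_mul, map_mul, map_mul, map_inv, map_inv, ← hD, ← hE] at this
      exact this
    rw [hDinv, hEinv] at h4
    have h5 : D * E * D * E * D = E := by
      calc D * E * D * E * D = (E * E) * (D * E * D * E * D) := by rw [hEE, one_mul]
        _ = E * (E * D * E * D * E * D) := by simp only [mul_assoc]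
        _ = E := by rw [h4, mul_one]
    calc (D * E) ^ 3 = (D * E * D * E * D) * E := by
          rw [pow_succ, pow_two]; simp only [mul_assoc]
      _ = 1 := by rw [h5, hEE]
  have hDEne : ¬ Commute D E := by
    intro hc
    apply hne
    have h1 : QuotientGroup.mk' N (d * e * d⁻¹ * e⁻¹) = 1 := by
      rw [map_mul, map_mul, map_mul, map_inv, map_inv, ← hD, ← hE, hc.eq]
      group
    exact (QuotientGroup.eq_one_iff _).1 h1
  have hcl : Subgroup.closure ({D, E} : Set (X ⧸ N)) = ⊤ := by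
    have h1 : (Subgroup.closure ({d, e} : Set X) ⊔ N).map (QuotientGroup.mk' N) = ⊤ := by
      rw [hgen]
      exact Subgroup.map_top_of_surjective _ (QuotientGroup.mk'_surjective N)
    rw [Subgroup.map_sup, MonoidHom.map_closure, Set.image_pair, QuotientGroup.map_mk'_self,
      sup_bot_eq, ← hD, ← hE] at h1
    exact h1
  have hinj := Cfsg.Agent.S0444.hom_injective hDD hEE hDE3 hDEne
  have hrange := Cfsg.Agent.S0444.hom_range hDD hEE hDE3
  constructor
  · obtain ⟨φ⟩ := Cfsg.Agent.S0444.equivPerm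
    have e1 := MonoidHom.ofInjective hinj
    have e2 : (Cfsg.Agent.S0444.hom hDD hEE hDE3).range ≃* (⊤ : Subgroup (X ⧸ N)) :=
      MulEquiv.subgroupCongr (hrange.trans hcl)
    exact ⟨(Subgroup.topEquiv.symm.trans (e2.symm.trans e1.symm)).trans φ⟩
  · intro x
    have hx : QuotientGroup.mk' N x ∈ (Cfsg.Agent.S0444.hom hDD hEE hDE3).range := by
      rw [hrange, hcl]; exact Subgroup.mem_top _
    obtain ⟨a, ha⟩ := hx
    have ha' : Cfsg.Agent.S0444.fn D E a = QuotientGroup.mk' N x := ha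
    have hmem : ∀ w : X, QuotientGroup.mk' N w = QuotientGroup.mk' N x → w⁻¹ * x ∈ N := by
      intro w hw
      exact QuotientGroup.eq.1 hw
    rcases a with i | i
    · have hk := ZMod.val_lt i
      obtain h0 | h1 | h2 : i.val = 0 ∨ i.val = 1 ∨ i.val = 2 := by omega
      · left
        have h4 : Cfsg.Agent.S0444.fn D E (r i) = 1 := by
          show (D * E) ^ i.val = 1
          rw [h0, pow_zero]
        rw [h4] at ha'
        exact (QuotientGroup.eq_one_iff x).1 ha'.symm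
      · right; left
        apply hmem
        rw [← ha']
        show _ = (D * E) ^ i.val
        rw [h1, pow_one, map_mul, hD, hE]
      · right; right; left
        apply hmem
        rw [← ha']
        show _ = (D * E) ^ i.val
        rw [h2, map_pow, map_mul, hD, hE]
    · have hk := ZMod.val_lt i
      obtain h0 | h1 | h2 : i.val = 0 ∨ i.val = 1 ∨ i.val = 2 := by omega
      · right; right; right; left
        apply hmem
        rw [← ha']
        show _ = D * (D * E) ^ i.val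
        rw [h0, pow_zero, mul_one, hD]
      · right; right; right; right; left
        apply hmem
        rw [← ha']
        show _ = D * (D * E) ^ i.val
        rw [h1, pow_one, map_mul, map_mul, hD, hE]
      · right; right; right; right; right
        apply hmem
        rw [← ha']
        show _ = D * (D * E) ^ i.val
        rw [h2, map_mul, map_pow, map_mul, hD, hE]

theorem centralizes_of_fixed_point {G : Type*} [Group G] [Finite G] {P : Subgroup G}
    (hP2 : IsPGroup 2 ↥P) {z u a : G}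
    (hzu : z ≠ u) (hz1 : z ≠ 1) (hu1 : u ≠ 1)
    (hPT : ∀ p ∈ P, ∀ v ∈ ({z, u, z * u} : Set G), p * v * p⁻¹ ∈ ({z, u, z * u} : Set G))
    (haP : ∀ p ∈ P, a⁻¹ * p * a ∈ P)
    (haz : a * z * a⁻¹ = u) (hau : a * u * a⁻¹ = z * u) (hazu : a * (z * u) * a⁻¹ = z) :
    ∀ p ∈ P, p * z = z * p ∧ p * u = u * p := by
  have hf2 : Fact (Nat.Prime 2) := ⟨Nat.prime_two⟩
  obtain ⟨T, hT⟩ : ∃ T : Set G, T = ({z, u, z * u} : Set G) := ⟨_, rfl⟩
  rw [← hT] at hPT
  have hcard : Nat.card ↥T = 3 := by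
    rw [Nat.card_coe_set_eq, hT, Set.ncard_eq_three]
    refine ⟨z, u, z * u, hzu, ?_, ?_, rfl⟩
    · intro h
      apply hu1
      calc u = z⁻¹ * (z * u) := by group
        _ = 1 := by rw [← h, inv_mul_cancel]
    · intro h
      apply hz1
      calc z = (z * u) * u⁻¹ := by group
        _ = 1 := by rw [← h, mul_inv_cancel]
  let _ : MulAction ↥P ↥T :=
    { smul := fun p v => ⟨(p : G) * v * (p : G)⁻¹, hPT p p.2 v v.2⟩
      one_smul := by
        intro v
        apply Subtype.ext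
        show ((1 : ↥P) : G) * v * ((1 : ↥P) : G)⁻¹ = v
        rw [Subgroup.coe_one, one_mul, inv_one, mul_one]
      mul_smul := by
        intro p p' v
        apply Subtype.ext
        show ((p * p' : ↥P) : G) * v * ((p * p' : ↥P) : G)⁻¹
          = (p : G) * ((p' : G) * v * (p' : G)⁻¹) * (p : G)⁻¹
        rw [Subgroup.coe_mul]
        group }
  have hsmul : ∀ (p : ↥P) (v : ↥T), ((p • v : ↥T) : G) = (p : G) * v * (p : G)⁻¹ := fun p v => rfl
  have hnd : ¬ 2 ∣ Nat.card ↥T := by rw [hcard]; decide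
  obtain ⟨v0, hv0⟩ := hP2.nonempty_fixed_point_of_prime_not_dvd_card ↥T hnd
  have hfix0 : ∀ p ∈ P, p * (v0 : G) * p⁻¹ = v0 := by
    intro p hp
    have h1 := hv0 ⟨p, hp⟩
    have h2 := congrArg Subtype.val h1
    rw [hsmul] at h2
    exact h2
  have hF : ∀ v : G, (∀ p ∈ P, p * v * p⁻¹ = v) → (∀ p ∈ P, p * (a * v * a⁻¹) * p⁻¹ = a * v * a⁻¹) := by
    intro v hv p hp
    have h1 := hv _ (haP p hp)
    calc p * (a * v * a⁻¹) * p⁻¹ = a * ((a⁻¹ * p * a) * v * (a⁻¹ * p * a)⁻¹) * a⁻¹ := by group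
      _ = a * v * a⁻¹ := by rw [h1]
  have hcomm : ∀ v : G, (∀ p ∈ P, p * v * p⁻¹ = v) → ∀ p ∈ P, p * v = v * p := by
    intro v hv p hp
    calc p * v = (p * v * p⁻¹) * p := by group
      _ = v * p := by rw [hv p hp]
  have hv0T : (v0 : G) ∈ ({z, u, z * u} : Set G) := by rw [← hT]; exact v0.2
  have hall : (∀ p ∈ P, p * z * p⁻¹ = z) ∧ (∀ p ∈ P, p * u * p⁻¹ = u) := by
    rcases hv0T with h | h | h
    · rw [h] at hfix0
      have h1 := hF z hfix0
      rw [haz] at h1
      exact ⟨hfix0, h1⟩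
    · rw [h] at hfix0
      have h1 := hF u hfix0
      rw [hau] at h1
      have h2 := hF _ h1
      rw [hazu] at h2
      exact ⟨h2, hfix0⟩
    · rw [Set.mem_singleton_iff] at h
      rw [h] at hfix0
      have h1 := hF _ hfix0
      rw [hazu] at h1
      have h2 := hF _ h1
      rw [haz] at h2
      exact ⟨h1, h2⟩
  intro p hp
  exact ⟨hcomm z hall.1 p hp, hcomm u hall.2 p hp⟩

end Cfsg.Agent.Lib.Helper10.LargeXS
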