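import Mathlib
import Cfsg.Agent.Lib.Helper10.LargeXS13
import Cfsg.Agent.Lib.Helper10.LargeXS14

set_option autoImplicit false

namespace Cfsg.Agent.Lib.Helper10.LargeXS

variable {G : Type*} [Group G]

structure Config (Q Qg : Subgroup G) (z u : G) : Prop where
  xs : XS Q z
  xsg : XS Qg u
  uQ : u ∈ Q
  zQg : z ∈ Qg
  huz : u ≠ z
  Nz : ∀ h : G, h * z = z * h → ∀ k ∈ Q, h * k * h⁻¹ ∈ Q
  Nu : ∀ h : G, h * u = u * h → ∀ k ∈ Qg, h * k * h⁻¹ ∈ Qg
  czu : ∀ a : G, a * z * a⁻¹ = u → ∀ k ∈ Q, a * k * a⁻¹ ∈ Qg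
  cuz : ∀ a : G, a * u * a⁻¹ = z → ∀ k ∈ Qg, a * k * a⁻¹ ∈ Q
  pQ : IsPGroup 2 ↥Q
  pQg : IsPGroup 2 ↥Qg

def cR1 (Q : Subgroup G) (u : G) : Subgroup G := Q ⊓ Subgroup.centralizer ({u} : Set G)

def cR (Q Qg : Subgroup G) (z u : G) : Subgroup G := cR1 Qg z ⊔ cR1 Q u

theorem mem_cR1 {Q : Subgroup G} {u r : G} : r ∈ cR1 Q u ↔ r ∈ Q ∧ r * u = u * r := by
  unfold cR1
  rw [Subgroup.mem_inf, Subgroup.mem_centralizer_singleton_iff]

theorem cR_symm (Q Qg : Subgroup G) (z u : G) : cR Qg Q u z = cR Q Qg z u := by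
  unfold cR
  exact sup_comm _ _

variable {Q Qg : Subgroup G} {z u : G}

theorem Config.symm (c : Config Q Qg z u) : Config Qg Q u z :=
  ⟨c.xsg, c.xs, c.zQg, c.uQ, c.huz.symm, c.Nu, c.Nz, c.cuz, c.czu, c.pQg, c.pQ⟩

theorem Config.zu_comm (c : Config Q Qg z u) : z * u = u * z := (c.xs.z_comm u c.uQ).symm

theorem XS.conj_eq_or (h : XS Q z) {k v : G} (hk : k ∈ Q) (hv : v ∈ Q) :
    k * v * k⁻¹ = v ∨ k * v * k⁻¹ = z * v := by
  rcases h.comm k hk v hv with h1 | h1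
  · left; rw [h1, mul_inv_cancel_right]
  · right; rw [h1]; group

theorem XS.conj_z (h : XS Q z) {k : G} (hk : k ∈ Q) : k * z * k⁻¹ = z := by
  rw [h.z_comm k hk, mul_inv_cancel_right]

theorem conj_inv_of_conj {k a b : G} (h : k * a * k⁻¹ = b) : k⁻¹ * b * k = a := by
  rw [← h]; group

theorem comm_of_conj {k a : G} (h : k * a * k⁻¹ = a) : k * a = a * k := by
  calc k * a = (k * a * k⁻¹) * k := by group
    _ = a * k := by rw [h]

theorem conj_of_comm {k a : G} (h : k * a = a * k) : k * a * k⁻¹ = a := by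
  rw [h, mul_inv_cancel_right]

theorem inv_comm_of_comm {k a : G} (h : k * a = a * k) : k⁻¹ * a = a * k⁻¹ := by
  calc k⁻¹ * a = k⁻¹ * (a * k) * k⁻¹ := by group
    _ = k⁻¹ * (k * a) * k⁻¹ := by rw [h]
    _ = a * k⁻¹ := by group

theorem Config.comm_mem (c : Config Q Qg z u) {k x : G} (hk : k ∈ Q) (hxz : x * z = z * x)
    (hxu : x * u = u * x) : k * x * k⁻¹ * x⁻¹ ∈ cR1 Q u := by
  rw [mem_cR1]
  have hz2 := c.xs.z_sq
  have h1 : x * k⁻¹ * x⁻¹ ∈ Q := c.Nz x hxz _ (Q.inv_mem hk)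
  have h2 : k * x * k⁻¹ * x⁻¹ = k * (x * k⁻¹ * x⁻¹) := by group
  refine ⟨by rw [h2]; exact Q.mul_mem hk h1, ?_⟩
  apply comm_of_conj
  have hxu' : x * u * x⁻¹ = u := conj_of_comm hxu
  have hxz' : x * z * x⁻¹ = z := conj_of_comm hxz
  have hxu'' : x⁻¹ * u * x = u := conj_inv_of_conj hxu'
  rcases c.xs.conj_eq_or hk c.uQ with h3 | h3
  · have h4 : k⁻¹ * u * k = u := conj_inv_of_conj h3
    calc k * x * k⁻¹ * x⁻¹ * u * (k * x * k⁻¹ * x⁻¹)⁻¹
        = k * (x * (k⁻¹ * (x⁻¹ * u * x) * k) * x⁻¹) * k⁻¹ := by group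
      _ = u := by rw [hxu'', h4, hxu', h3]
  · have hkz : k * z * k⁻¹ = z := c.xs.conj_z hk
    have h5 : k * (z * u) * k⁻¹ = u := by
      calc k * (z * u) * k⁻¹ = (k * z * k⁻¹) * (k * u * k⁻¹) := by group
        _ = u := by rw [hkz, h3, ← mul_assoc, hz2, one_mul]
    have h4 : k⁻¹ * u * k = z * u := conj_inv_of_conj h5
    have h6 : x * (z * u) * x⁻¹ = z * u := by
      calc x * (z * u) * x⁻¹ = (x * z * x⁻¹) * (x * u * x⁻¹) := by group
        _ = z * u := by rw [hxz', hxu']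
    calc k * x * k⁻¹ * x⁻¹ * u * (k * x * k⁻¹ * x⁻¹)⁻¹
        = k * (x * (k⁻¹ * (x⁻¹ * u * x) * k) * x⁻¹) * k⁻¹ := by group
      _ = u := by rw [hxu'', h4, h6, h5]

theorem Config.R_comm (c : Config Q Qg z u) : ∀ r ∈ cR Q Qg z u, r * z = z * r ∧ r * u = u * r := by
  have hle : cR Q Qg z u ≤ Subgroup.centralizer ({z} : Set G) ⊓ Subgroup.centralizer ({u} : Set G) := by
    unfold cR
    apply sup_le
    · intro r hr
      obtain ⟨h1, h2⟩ := mem_cR1.1 hr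
      rw [Subgroup.mem_inf, Subgroup.mem_centralizer_singleton_iff,
        Subgroup.mem_centralizer_singleton_iff]
      exact ⟨h2, c.xsg.z_comm r h1⟩
    · intro r hr
      obtain ⟨h1, h2⟩ := mem_cR1.1 hr
      rw [Subgroup.mem_inf, Subgroup.mem_centralizer_singleton_iff,
        Subgroup.mem_centralizer_singleton_iff]
      exact ⟨c.xs.z_comm r h1, h2⟩
  intro r hr
  have := hle hr
  rw [Subgroup.mem_inf, Subgroup.mem_centralizer_singleton_iff,
    Subgroup.mem_centralizer_singleton_iff] at this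
  exact this

theorem Config.comm_mem_R (c : Config Q Qg z u) {k x : G} (hk : k ∈ (Q : Set G) ∪ (Qg : Set G))
    (hxz : x * z = z * x) (hxu : x * u = u * x) : k * x * k⁻¹ * x⁻¹ ∈ cR Q Qg z u := by
  rcases hk with hk | hk
  · exact (le_sup_right : cR1 Q u ≤ cR Q Qg z u) (c.comm_mem hk hxz hxu)
  · exact (le_sup_left : cR1 Qg z ≤ cR Q Qg z u) (c.symm.comm_mem hk hxu hxz)

theorem Config.mem_normalizer_R [Finite G] (c : Config Q Qg z u) {k : G}
    (hk : k ∈ (Q : Set G) ∪ (Qg : Set G)) :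
    k ∈ Subgroup.normalizer ((cR Q Qg z u : Subgroup G) : Set G) := by
  apply mem_normalizer_of_conj_mem
  intro r hr
  obtain ⟨h1, h2⟩ := c.R_comm r hr
  have h3 := c.comm_mem_R hk h1 h2
  have h4 : k * r * k⁻¹ = (k * r * k⁻¹ * r⁻¹) * r := by group
  rw [h4]
  exact Subgroup.mul_mem _ h3 hr

theorem Config.X_normalizes_R [Finite G] (c : Config Q Qg z u) :
    Q ⊔ Qg ≤ Subgroup.normalizer ((cR Q Qg z u : Subgroup G) : Set G) := by
  apply sup_le
  · intro k hk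
    exact c.mem_normalizer_R (Or.inl hk)
  · intro k hk
    exact c.mem_normalizer_R (Or.inr hk)

theorem Config.X_comm_mem_R [Finite G] (c : Config Q Qg z u) :
    ∀ x ∈ Q ⊔ Qg, ∀ y ∈ Subgroup.centralizer ({z} : Set G) ⊓ Subgroup.centralizer ({u} : Set G),
      x * y * x⁻¹ * y⁻¹ ∈ cR Q Qg z u := by
  have hXcl : Q ⊔ Qg = Subgroup.closure ((Q : Set G) ∪ (Qg : Set G)) := by
    rw [Subgroup.closure_union, Subgroup.closure_eq, Subgroup.closure_eq]
  rw [hXcl]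
  apply comm_mem_of_mem_closure
  · intro s hs
    exact c.mem_normalizer_R hs
  · intro s hs y hy
    rw [Subgroup.mem_inf, Subgroup.mem_centralizer_singleton_iff,
      Subgroup.mem_centralizer_singleton_iff] at hy
    exact c.comm_mem_R hs hy.1 hy.2

end Cfsg.Agent.Lib.Helper10.LargeXS
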