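import Mathlib
import Cfsg.Agent.Lib.Helper10.LargeXS15
import Cfsg.Agent.Lib.Helper10.LargeXS16

set_option autoImplicit false

namespace Cfsg.Agent.Lib.Helper10.LargeXS

variable {G : Type*} [Group G]

structure Elts (Q Qg : Subgroup G) (z u q q' : G) : Prop where
  hq : q ∈ Q
  hq' : q' ∈ Qg
  qz : q * z * q⁻¹ = z
  qu : q * u * q⁻¹ = z * u
  q'u : q' * u * q'⁻¹ = u
  q'z : q' * z * q'⁻¹ = z * u

variable {Q Qg : Subgroup G} {z u q q' : G}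

theorem Config.exists_elts (c : Config Q Qg z u) : ∃ q q' : G, Elts Q Qg z u q q' := by
  obtain ⟨q, hq, hqu⟩ : ∃ q ∈ Q, q * u = z * (u * q) := by
    by_contra hne
    have hall : ∀ y ∈ Q, u * y = y * u := by
      intro y hy
      rcases c.xs.comm y hy u c.uQ with h1 | h1
      · exact h1.symm
      · exact absurd ⟨y, hy, h1⟩ hne
    rcases c.xs.center u c.uQ hall with h1 | h1
    · exact c.xsg.z_ne h1
    · exact c.huz h1
  obtain ⟨q', hq', hq'z⟩ : ∃ q' ∈ Qg, q' * z = u * (z * q') := by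
    by_contra hne
    have hall : ∀ y ∈ Qg, z * y = y * z := by
      intro y hy
      rcases c.xsg.comm y hy z c.zQg with h1 | h1
      · exact h1.symm
      · exact absurd ⟨y, hy, h1⟩ hne
    rcases c.xsg.center z c.zQg hall with h1 | h1
    · exact c.xs.z_ne h1
    · exact c.huz h1.symm
  refine ⟨q, q', hq, hq', c.xs.conj_z hq, ?_, c.xsg.conj_z hq', ?_⟩
  · rw [hqu]; group
  · rw [hq'z, c.zu_comm]; group

theorem Elts.q_zu (e : Elts Q Qg z u q q') (hz2 : z * z = 1) : q * (z * u) * q⁻¹ = u := by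
  calc q * (z * u) * q⁻¹ = (q * z * q⁻¹) * (q * u * q⁻¹) := by group
    _ = u := by rw [e.qz, e.qu, ← mul_assoc, hz2, one_mul]

theorem Elts.q'_zu (e : Elts Q Qg z u q q') (hu2 : u * u = 1) : q' * (z * u) * q'⁻¹ = z := by
  calc q' * (z * u) * q'⁻¹ = (q' * z * q'⁻¹) * (q' * u * q'⁻¹) := by group
    _ = z := by rw [e.q'z, e.q'u, mul_assoc, hu2, mul_one]

theorem mul_left_comm_of {w x v : G} (hx : x * v = v * x) (hwx : (w⁻¹ * x) * v = v * (w⁻¹ * x)) :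
    w * v = v * w := by
  have h1 : (w⁻¹ * x)⁻¹ * v = v * (w⁻¹ * x)⁻¹ := inv_comm_of_comm hwx
  calc w * v = x * ((w⁻¹ * x)⁻¹ * v) := by group
    _ = x * (v * (w⁻¹ * x)⁻¹) := by rw [h1]
    _ = (x * v) * (w⁻¹ * x)⁻¹ := by group
    _ = (v * x) * (w⁻¹ * x)⁻¹ := by rw [hx]
    _ = v * w := by group

theorem Config.braid [Finite G] (c : Config Q Qg z u) (e : Elts Q Qg z u q q') :
    q' * q⁻¹ * q'⁻¹ * q * q' * q⁻¹ ∈ cR Q Qg z u := by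
  have hz2 := c.xs.z_sq
  have hu2 := c.xsg.z_sq
  have h_qinv_z : q⁻¹ * z * q = z := conj_inv_of_conj e.qz
  have h_qinv_u : q⁻¹ * u * q = z * u := conj_inv_of_conj (e.q_zu hz2)
  have h_qinv_zu : q⁻¹ * (z * u) * q = u := conj_inv_of_conj e.qu
  have h_q'inv_u : q'⁻¹ * u * q' = u := conj_inv_of_conj e.q'u
  obtain ⟨n, hn⟩ : ∃ n, n = q⁻¹ * q' * q⁻¹ * q'⁻¹ * q * q' := ⟨_, rfl⟩
  have hnQg : n ∈ Qg := by
    have ht : (q⁻¹ * q') * z * (q⁻¹ * q')⁻¹ = u := by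
      calc (q⁻¹ * q') * z * (q⁻¹ * q')⁻¹ = q⁻¹ * (q' * z * q'⁻¹) * q := by group
        _ = u := by rw [e.q'z, h_qinv_zu]
    have h1 := c.czu _ ht q e.hq
    have h2 : n = ((q⁻¹ * q') * q * (q⁻¹ * q')⁻¹)⁻¹ * q' := by rw [hn]; group
    rw [h2]
    exact Qg.mul_mem (Qg.inv_mem h1) e.hq'
  have hnz : n * z = z * n := by
    apply comm_of_conj
    calc n * z * n⁻¹
        = q⁻¹ * (q' * (q⁻¹ * (q'⁻¹ * (q * (q' * z * q'⁻¹) * q⁻¹) * q') * q) * q'⁻¹) * q := by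
          rw [hn]; group
      _ = z := by rw [e.q'z, e.q_zu hz2, h_q'inv_u, h_qinv_u, e.q'_zu hu2, h_qinv_z]
  have hnR : n ∈ cR Q Qg z u :=
    (le_sup_left : cR1 Qg z ≤ cR Q Qg z u) (mem_cR1.2 ⟨hnQg, hnz⟩)
  have hqN := c.mem_normalizer_R (Or.inl e.hq : q ∈ (Q : Set G) ∪ (Qg : Set G))
  have h3 := (Subgroup.mem_normalizer_iff.1 hqN n).1 hnR
  have h4 : q * n * q⁻¹ = q' * q⁻¹ * q'⁻¹ * q * q' * q⁻¹ := by rw [hn]; group
  rw [h4] at h3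
  exact h3

theorem Config.not_comm (c : Config Q Qg z u) (e : Elts Q Qg z u q q') :
    q * q' * q⁻¹ * q'⁻¹ ∉ cR Q Qg z u := by
  intro h
  have hz2 := c.xs.z_sq
  have hu2 := c.xsg.z_sq
  have h1 := (c.R_comm _ h).2
  have h2 : (q * q' * q⁻¹ * q'⁻¹) * u * (q * q' * q⁻¹ * q'⁻¹)⁻¹ = u := conj_of_comm h1
  have h_qinv_u : q⁻¹ * u * q = z * u := conj_inv_of_conj (e.q_zu hz2)
  have h_q'inv_u : q'⁻¹ * u * q' = u := conj_inv_of_conj e.q'u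
  have h3 : (q * q' * q⁻¹ * q'⁻¹) * u * (q * q' * q⁻¹ * q'⁻¹)⁻¹ = z := by
    calc (q * q' * q⁻¹ * q'⁻¹) * u * (q * q' * q⁻¹ * q'⁻¹)⁻¹
        = q * (q' * (q⁻¹ * (q'⁻¹ * u * q') * q) * q'⁻¹) * q⁻¹ := by group
      _ = z := by rw [h_q'inv_u, h_qinv_u, e.q'_zu hu2, e.qz]
  rw [h3] at h2
  exact c.huz h2.symm

theorem Config.mem_or_of_mem_Q (c : Config Q Qg z u) (e : Elts Q Qg z u q q') {k : G} (hk : k ∈ Q) :
    k ∈ cR1 Q u ∨ q⁻¹ * k ∈ cR1 Q u := by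
  have hqu : q * u = z * (u * q) := by
    calc q * u = (q * u * q⁻¹) * q := by group
      _ = z * (u * q) := by rw [e.qu, mul_assoc]
  rcases c.xs.comm k hk u c.uQ with h1 | h1
  · left; exact mem_cR1.2 ⟨hk, h1⟩
  · right
    exact mem_cR1.2 ⟨Q.mul_mem (Q.inv_mem e.hq) hk, c.xs.inv_mul_comm e.hq hqu h1⟩

theorem Elts.symm (c : Config Q Qg z u) (e : Elts Q Qg z u q q') : Elts Qg Q u z q' q :=
  ⟨e.hq', e.hq, e.q'u, by rw [e.q'z, c.zu_comm], e.qz, by rw [e.qu, c.zu_comm]⟩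

end Cfsg.Agent.Lib.Helper10.LargeXS
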