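import Mathlib
import Cfsg.Agent.Lib.Helper10.LargeXS17

set_option autoImplicit false

namespace Cfsg.Agent.Lib.Helper10.LargeXS

variable {G : Type*} [Group G] {Q Qg : Subgroup G} {z u : G}

theorem Config.R_le_X (c : Config Q Qg z u) : cR Q Qg z u ≤ Q ⊔ Qg := by
  unfold cR cR1
  apply sup_le
  · exact inf_le_left.trans le_sup_right
  · exact inf_le_left.trans le_sup_left

theorem Config.z_mem_R (c : Config Q Qg z u) : z ∈ cR Q Qg z u :=
  (le_sup_right : cR1 Q u ≤ cR Q Qg z u) (mem_cR1.2 ⟨c.xs.z_mem, c.zu_comm⟩)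

theorem Config.u_mem_R (c : Config Q Qg z u) : u ∈ cR Q Qg z u :=
  (le_sup_left : cR1 Qg z ≤ cR Q Qg z u) (mem_cR1.2 ⟨c.xsg.z_mem, c.zu_comm.symm⟩)

theorem Config.quotient [Finite G] (c : Config Q Qg z u) (X R : Subgroup G) (hX : X = Q ⊔ Qg)
    (hR : R = cR Q Qg z u) :
    ∃ _ : (R.subgroupOf X).Normal, Nonempty (↥X ⧸ R.subgroupOf X ≃* Equiv.Perm (Fin 3)) ∧
      ∀ x ∈ X, x * z = z * x → x * u = u * x → x ∈ R := by
  obtain ⟨q, q', e⟩ := c.exists_elts
  have hz2 := c.xs.z_sq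
  have hu2 := c.xsg.z_sq
  have hRX : R ≤ X := by rw [hR, hX]; exact c.R_le_X
  have hXN : X ≤ Subgroup.normalizer ((R : Subgroup G) : Set G) := by
    rw [hR, hX]; exact c.X_normalizes_R
  have hN : (R.subgroupOf X).Normal := by
    refine ⟨fun r hr x => ?_⟩
    rw [Subgroup.mem_subgroupOf] at hr ⊢
    exact (Subgroup.mem_normalizer_iff.1 (hXN x.2) r.1).1 hr
  have hqX : q ∈ X := by rw [hX]; exact Subgroup.mem_sup_left e.hq
  have hq'X : q' ∈ X := by rw [hX]; exact Subgroup.mem_sup_right e.hq'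
  refine ⟨hN, ?_⟩
  obtain ⟨d, hd⟩ : ∃ d : ↥X, d = ⟨q, hqX⟩ := ⟨_, rfl⟩
  obtain ⟨e', he'⟩ : ∃ e' : ↥X, e' = ⟨q', hq'X⟩ := ⟨_, rfl⟩
  have hdv : (d : G) = q := by rw [hd]
  have hev : (e' : G) = q' := by rw [he']
  have h1 : d * d ∈ R.subgroupOf X := by
    rw [Subgroup.mem_subgroupOf, Subgroup.coe_mul, hdv, hR]
    exact c.xs.sq_mem c.z_mem_R e.hq
  have h2 : e' * e' ∈ R.subgroupOf X := by
    rw [Subgroup.mem_subgroupOf, Subgroup.coe_mul, hev, hR]
    exact c.xsg.sq_mem c.u_mem_R e.hq'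
  have h3 : e' * d⁻¹ * e'⁻¹ * d * e' * d⁻¹ ∈ R.subgroupOf X := by
    rw [Subgroup.mem_subgroupOf]
    have : ((e' * d⁻¹ * e'⁻¹ * d * e' * d⁻¹ : ↥X) : G) = q' * q⁻¹ * q'⁻¹ * q * q' * q⁻¹ := by
      simp only [Subgroup.coe_mul, Subgroup.coe_inv, hdv, hev]
    rw [this, hR]
    exact c.braid e
  have h4 : d * e' * d⁻¹ * e'⁻¹ ∉ R.subgroupOf X := by
    rw [Subgroup.mem_subgroupOf]
    have : ((d * e' * d⁻¹ * e'⁻¹ : ↥X) : G) = q * q' * q⁻¹ * q'⁻¹ := by
      simp only [Subgroup.coe_mul, Subgroup.coe_inv, hdv, hev]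
    rw [this, hR]
    exact c.not_comm e
  have h5 : Subgroup.closure ({d, e'} : Set ↥X) ⊔ R.subgroupOf X = ⊤ := by
    obtain ⟨M, hM⟩ : ∃ M : Subgroup ↥X, M = Subgroup.closure ({d, e'} : Set ↥X) ⊔ R.subgroupOf X :=
      ⟨_, rfl⟩
    rw [← hM]
    have hdM : d ∈ M := by
      rw [hM]; exact Subgroup.mem_sup_left (Subgroup.subset_closure (Set.mem_insert _ _))
    have heM : e' ∈ M := by
      rw [hM]
      exact Subgroup.mem_sup_left (Subgroup.subset_closure (Set.mem_insert_of_mem _ rfl))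
    have hRM : ∀ r (hr : r ∈ X), r ∈ R → (⟨r, hr⟩ : ↥X) ∈ M := by
      intro r hr hrR
      rw [hM]
      apply Subgroup.mem_sup_right
      rw [Subgroup.mem_subgroupOf]
      exact hrR
    have hR1R : cR1 Q u ≤ R := by rw [hR]; exact le_sup_right
    have hR2R : cR1 Qg z ≤ R := by rw [hR]; exact le_sup_left
    have hQM : ∀ k ∈ Q, ∀ hk : k ∈ X, (⟨k, hk⟩ : ↥X) ∈ M := by
      intro k hkQ hk
      rcases c.mem_or_of_mem_Q e hkQ with h6 | h6
      · exact hRM k hk (hR1R h6)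
      · have h7 : (⟨k, hk⟩ : ↥X) = d * ⟨q⁻¹ * k, X.mul_mem (X.inv_mem hqX) hk⟩ := by
          apply Subtype.ext
          rw [Subgroup.coe_mul, hdv]
          show k = q * (q⁻¹ * k)
          group
        rw [h7]
        exact M.mul_mem hdM (hRM _ _ (hR1R h6))
    have hQgM : ∀ k ∈ Qg, ∀ hk : k ∈ X, (⟨k, hk⟩ : ↥X) ∈ M := by
      intro k hkQ hk
      rcases c.symm.mem_or_of_mem_Q (e.symm c) hkQ with h6 | h6
      · exact hRM k hk (hR2R h6)
      · have h7 : (⟨k, hk⟩ : ↥X) = e' * ⟨q'⁻¹ * k, X.mul_mem (X.inv_mem hq'X) hk⟩ := by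
          apply Subtype.ext
          rw [Subgroup.coe_mul, hev]
          show k = q' * (q'⁻¹ * k)
          group
        rw [h7]
        exact M.mul_mem heM (hRM _ _ (hR2R h6))
    have hle : X ≤ M.map X.subtype := by
      have hQX : Q ≤ X := by rw [hX]; exact le_sup_left
      have hQgX : Qg ≤ X := by rw [hX]; exact le_sup_right
      nth_rewrite 1 [hX]
      apply sup_le
      · intro k hk
        exact ⟨⟨k, hQX hk⟩, hQM k hk _, rfl⟩
      · intro k hk
        exact ⟨⟨k, hQgX hk⟩, hQgM k hk _, rfl⟩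
    rw [eq_top_iff]
    intro x _
    obtain ⟨m, hm, hmx⟩ := hle x.2
    have : m = x := Subtype.ext hmx
    rw [← this]; exact hm
  obtain ⟨hiso, hnf⟩ := @quotient_equiv_perm3 ↥X _ (R.subgroupOf X) hN d e' h1 h2 h3 h4 h5
  refine ⟨hiso, ?_⟩
  intro x hx hxz hxu
  have hkey : ∀ w : ↥X, w⁻¹ * ⟨x, hx⟩ ∈ R.subgroupOf X →
      (w : G) * z = z * w ∧ (w : G) * u = u * w := by
    intro w hw
    rw [Subgroup.mem_subgroupOf, hR] at hw
    have h6 := c.R_comm _ hw
    have h7 : ((w⁻¹ * ⟨x, hx⟩ : ↥X) : G) = (w : G)⁻¹ * x := by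
      simp only [Subgroup.coe_mul, Subgroup.coe_inv]
    rw [h7] at h6
    exact ⟨mul_left_comm_of hxz h6.1, mul_left_comm_of hxu h6.2⟩
  have hzu1 : z * u ≠ z := by
    intro h
    apply c.xsg.z_ne
    calc u = z⁻¹ * (z * u) := by group
      _ = 1 := by rw [h, inv_mul_cancel]
  have hzu2 : z * u ≠ u := by
    intro h
    apply c.xs.z_ne
    calc z = (z * u) * u⁻¹ := by group
      _ = 1 := by rw [h, mul_inv_cancel]
  have ha_z : (q * q') * z * (q * q')⁻¹ = u := by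
    calc (q * q') * z * (q * q')⁻¹ = q * (q' * z * q'⁻¹) * q⁻¹ := by group
      _ = u := by rw [e.q'z, e.q_zu hz2]
  have ha_u : (q * q') * u * (q * q')⁻¹ = z * u := by
    calc (q * q') * u * (q * q')⁻¹ = q * (q' * u * q'⁻¹) * q⁻¹ := by group
      _ = z * u := by rw [e.q'u, e.qu]
  rcases hnf ⟨x, hx⟩ with h6 | h6 | h6 | h6 | h6 | h6
  · rw [Subgroup.mem_subgroupOf] at h6
    exact h6
  · exfalso
    have h7 := (hkey _ h6).1
    have h8 : ((d * e' : ↥X) : G) = q * q' := by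
      simp only [Subgroup.coe_mul, hdv, hev]
    rw [h8] at h7
    have h9 := conj_of_comm h7
    rw [ha_z] at h9
    exact c.huz h9
  · exfalso
    have h7 := (hkey _ h6).1
    have h8 : (((d * e') ^ 2 : ↥X) : G) = (q * q') * (q * q') := by
      rw [pow_two]
      simp only [Subgroup.coe_mul, hdv, hev]
    rw [h8] at h7
    have h9 := conj_of_comm h7
    have h10 : (q * q') * (q * q') * z * ((q * q') * (q * q'))⁻¹ = z * u := by
      calc (q * q') * (q * q') * z * ((q * q') * (q * q'))⁻¹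
          = (q * q') * ((q * q') * z * (q * q')⁻¹) * (q * q')⁻¹ := by group
        _ = z * u := by rw [ha_z, ha_u]
    rw [h10] at h9
    exact hzu1 h9
  · exfalso
    have h7 := (hkey _ h6).2
    rw [hdv] at h7
    have h9 := conj_of_comm h7
    rw [e.qu] at h9
    exact hzu2 h9
  · exfalso
    have h7 := (hkey _ h6).1
    have h8 : ((d * (d * e') : ↥X) : G) = q * (q * q') := by
      simp only [Subgroup.coe_mul, hdv, hev]
    rw [h8] at h7
    have h9 := conj_of_comm h7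
    have h10 : q * (q * q') * z * (q * (q * q'))⁻¹ = z * u := by
      calc q * (q * q') * z * (q * (q * q'))⁻¹
          = q * ((q * q') * z * (q * q')⁻¹) * q⁻¹ := by group
        _ = z * u := by rw [ha_z, e.qu]
    rw [h10] at h9
    exact hzu1 h9
  · exfalso
    have h7 := (hkey _ h6).1
    have h8 : ((d * (d * e') ^ 2 : ↥X) : G) = q * ((q * q') * (q * q')) := by
      rw [pow_two]
      simp only [Subgroup.coe_mul, hdv, hev]
    rw [h8] at h7
    have h9 := conj_of_comm h7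
    have h10 : q * ((q * q') * (q * q')) * z * (q * ((q * q') * (q * q')))⁻¹ = u := by
      calc q * ((q * q') * (q * q')) * z * (q * ((q * q') * (q * q')))⁻¹
          = q * ((q * q') * ((q * q') * z * (q * q')⁻¹) * (q * q')⁻¹) * q⁻¹ := by group
        _ = u := by rw [ha_z, ha_u, e.q_zu hz2]
    rw [h10] at h9
    exact c.huz h9

end Cfsg.Agent.Lib.Helper10.LargeXS
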