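import Mathlib
import Cfsg.Agent.Lib.Helper10.LargeXS18
import Cfsg.Agent.Lib.Helper10.LargeXS10
import Cfsg.Agent.Lib.Helper10.LargeXS3
import Cfsg.Prelude.Def_MonsterType

set_option autoImplicit false

namespace Cfsg.Agent.Lib.Helper10.LargeXS

variable {G : Type*} [Group G] {Q Qg : Subgroup G} {z u : G}

theorem config_of_hyp [Finite G] (Q : Subgroup G) (hQ : Cfsg.IsLargeExtraspecial Q) (z : G)
    (hz : ((Subgroup.center ↥Q).map Q.subtype) = Subgroup.zpowers z) (hz2 : orderOf z = 2)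
    (g : G) (hgH : g ∉ Subgroup.centralizer ({z} : Set G)) (hgQ : g * z * g⁻¹ ∈ Q) :
    Config Q (Q.map (MulAut.conj g).toMonoidHom) z (g * z * g⁻¹) := by
  obtain ⟨hE1, hCQ, hL3, -⟩ := hQ
  have hzz : z * z = 1 := by rw [← pow_two, ← hz2, pow_orderOf_eq_one]
  have hz1 : z ≠ 1 := by
    intro h
    rw [h, orderOf_one] at hz2
    omega
  have hzZ : z ∈ (Subgroup.center ↥Q).map Q.subtype := by
    rw [hz]; exact Subgroup.mem_zpowers z
  obtain ⟨c, hc, hcz⟩ := hzZ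
  have hzQ : z ∈ Q := by rw [← hcz]; exact c.2
  have hzcomm : ∀ x ∈ Q, x * z = z * x := by
    intro x hx
    have h1 := Subgroup.mem_center_iff.1 hc ⟨x, hx⟩
    have h2 := congrArg Subtype.val h1
    rw [← hcz]; exact h2
  have hxs : XS Q z := xs_of_extraspecial hE1 hz1 hzz hzQ hzcomm
  have h2Q : IsPGroup 2 ↥Q := hE1.1.1
  have hNz : ∀ h : G, h * z = z * h → ∀ k ∈ Q, h * k * h⁻¹ ∈ Q := by
    intro h hh k hk
    have h1 : h ∈ Subgroup.centralizer (((Subgroup.center ↥Q).map Q.subtype : Subgroup G) : Set G) := by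
      rw [hz, Subgroup.mem_centralizer_iff]
      intro x hx
      obtain ⟨n, rfl⟩ := Subgroup.mem_zpowers_iff.1 hx
      exact (Commute.zpow_left (show Commute z h from hh.symm) n).eq
    exact (Subgroup.mem_normalizer_iff.1 (hL3 h1) k).1 hk
  have hCz : ∀ c : G, (∀ k ∈ Q, c * k = k * c) → c ∈ Q := by
    intro c hc
    have h1 : c ∈ Subgroup.centralizer (Q : Set G) := by
      rw [Subgroup.mem_centralizer_iff]
      intro k hk
      exact (hc k hk).symm
    rw [hCQ, hz] at h1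
    exact (Subgroup.zpowers_le.2 hzQ) h1
  obtain ⟨u, hudef⟩ : ∃ u, u = g * z * g⁻¹ := ⟨_, rfl⟩
  obtain ⟨Qg, hQgdef⟩ : ∃ Qg : Subgroup G, Qg = Q.map (MulAut.conj g).toMonoidHom := ⟨_, rfl⟩
  rw [← hudef] at hgQ
  rw [← hudef, ← hQgdef]
  have hQgmem : ∀ x, x ∈ Qg ↔ g⁻¹ * x * g ∈ Q := by
    intro x; rw [hQgdef]; exact mem_map_conj_iff Q g x
  have hxsg : XS Qg u := by
    rw [hQgdef, hudef]; exact hxs.map_conj g
  have huz : u ≠ z := by
    intro h
    apply hgH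
    rw [Subgroup.mem_centralizer_singleton_iff]
    calc g * z = (g * z * g⁻¹) * g := by group
      _ = z * g := by rw [← hudef, h]
  have hzQg : z ∈ Qg := by
    rw [hQgmem]
    exact symm_conj hxs h2Q hNz hCz g (by rw [← hudef]; exact hgQ)
  have hNu : ∀ h : G, h * u = u * h → ∀ k ∈ Qg, h * k * h⁻¹ ∈ Qg := by
    intro h hh k hk
    rw [hQgmem]
    have hcz : (g⁻¹ * h * g) * z = z * (g⁻¹ * h * g) := by
      calc (g⁻¹ * h * g) * z = g⁻¹ * (h * (g * z * g⁻¹)) * g := by group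
        _ = g⁻¹ * ((g * z * g⁻¹) * h) * g := by rw [← hudef, hh]
        _ = z * (g⁻¹ * h * g) := by group
    have h1 := hNz _ hcz _ ((hQgmem k).1 hk)
    have : g⁻¹ * (h * k * h⁻¹) * g = (g⁻¹ * h * g) * (g⁻¹ * k * g) * (g⁻¹ * h * g)⁻¹ := by group
    rw [this]; exact h1
  refine ⟨hxs, hxsg, hgQ, hzQg, huz, hNz, hNu, ?_, ?_, h2Q, ?_⟩
  · intro a ha k hk
    rw [hQgmem]
    have h1 : (g⁻¹ * a) * z = z * (g⁻¹ * a) := by
      calc (g⁻¹ * a) * z = g⁻¹ * (a * z * a⁻¹) * a := by group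
        _ = g⁻¹ * (g * z * g⁻¹) * a := by rw [ha, hudef]
        _ = z * (g⁻¹ * a) := by group
    have h2 := hNz _ h1 k hk
    have : g⁻¹ * (a * k * a⁻¹) * g = (g⁻¹ * a) * k * (g⁻¹ * a)⁻¹ := by group
    rw [this]; exact h2
  · intro a ha k hk
    have h1 : (a * g) * z = z * (a * g) := by
      calc (a * g) * z = a * (g * z * g⁻¹) * a⁻¹ * (a * g) := by group
        _ = z * (a * g) := by rw [← hudef, ha]
    have h2 := hNz _ h1 _ ((hQgmem k).1 hk)
    have : (a * g) * (g⁻¹ * k * g) * (a * g)⁻¹ = a * k * a⁻¹ := by group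
    rw [this] at h2; exact h2
  · rw [hQgdef]; exact h2Q.map _

theorem Config.conj_mem_sup (c : Config Q Qg z u) {q q' : G} (e : Elts Q Qg z u q q') (a : G)
    (ha : a * z * a⁻¹ = z ∨ a * z * a⁻¹ = u ∨ a * z * a⁻¹ = z * u) :
    ∀ k ∈ Q, a * k * a⁻¹ ∈ Q ⊔ Qg := by
  intro k hk
  rcases ha with ha | ha | ha
  · exact Subgroup.mem_sup_left (c.Nz a (comm_of_conj ha) k hk)
  · exact Subgroup.mem_sup_right (c.czu a ha k hk)
  · have ht : (q⁻¹ * a) * z * (q⁻¹ * a)⁻¹ = u := by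
      calc (q⁻¹ * a) * z * (q⁻¹ * a)⁻¹ = q⁻¹ * (a * z * a⁻¹) * q := by group
        _ = u := by rw [ha]; exact conj_inv_of_conj e.qu
    have h1 := c.czu _ ht k hk
    have h2 : a * k * a⁻¹ = q * ((q⁻¹ * a) * k * (q⁻¹ * a)⁻¹) * q⁻¹ := by group
    rw [h2]
    exact Subgroup.mul_mem _ (Subgroup.mul_mem _ (Subgroup.mem_sup_left e.hq)
      (Subgroup.mem_sup_right h1)) (Subgroup.inv_mem _ (Subgroup.mem_sup_left e.hq))

theorem Config.R_isPGroup (c : Config Q Qg z u) : IsPGroup 2 ↥(cR Q Qg z u) := by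
  have h1 : IsPGroup 2 ↥(cR1 Q u) := c.pQ.to_le inf_le_left
  have h2 : IsPGroup 2 ↥(cR1 Qg z) := c.pQg.to_le inf_le_left
  have h3 : cR1 Q u ≤ Subgroup.normalizer ((cR1 Qg z : Subgroup G) : Set G) := by
    intro r hr
    obtain ⟨hrQ, hru⟩ := mem_cR1.1 hr
    have hrz : r * z = z * r := c.xs.z_comm r hrQ
    have key : ∀ s : G, s * z = z * s → s * u = u * s → ∀ k ∈ cR1 Qg z, s * k * s⁻¹ ∈ cR1 Qg z := by
      intro s hsz hsu k hk
      obtain ⟨hk1, hk2⟩ := mem_cR1.1 hk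
      rw [mem_cR1]
      refine ⟨c.Nu s hsu k hk1, ?_⟩
      have hsz' := inv_comm_of_comm hsz
      calc s * k * s⁻¹ * z = s * (k * (s⁻¹ * z)) := by group
        _ = s * (k * (z * s⁻¹)) := by rw [hsz']
        _ = s * ((k * z) * s⁻¹) := by group
        _ = s * ((z * k) * s⁻¹) := by rw [hk2]
        _ = (s * z) * k * s⁻¹ := by group
        _ = (z * s) * k * s⁻¹ := by rw [hsz]
        _ = z * (s * k * s⁻¹) := by group
    rw [Subgroup.mem_normalizer_iff]
    intro k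
    constructor
    · exact key r hrz hru k
    · intro hk
      have := key r⁻¹ (inv_comm_of_comm hrz) (inv_comm_of_comm hru) _ hk
      have h5 : r⁻¹ * (r * k * r⁻¹) * r⁻¹⁻¹ = k := by group
      rw [h5] at this
      exact this
  have h4 := IsPGroup.to_sup_of_normal_right' h1 h2 h3
  have h5 : cR Q Qg z u = cR1 Q u ⊔ cR1 Qg z := by
    unfold cR; exact sup_comm _ _
  rw [h5]; exact h4

end Cfsg.Agent.Lib.Helper10.LargeXS
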