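import Mathlib
import Cfsg.Agent.Lib.Helper10.LargeXS19

set_option autoImplicit false

namespace Cfsg.Agent.Lib.Helper10.LargeXS

variable {G : Type*} [Group G] {Q Qg : Subgroup G} {z u : G}

theorem Config.mem_V (c : Config Q Qg z u) {V : Subgroup G}
    (hV : V = Subgroup.closure ({z, u} : Set G)) :
    ∀ x, x ∈ V ↔ x = 1 ∨ x = z ∨ x = u ∨ x = z * u := by
  intro x
  constructor
  · intro hx
    rw [hV] at hx
    exact four_mem_of_closure c.xs.z_sq c.xsg.z_sq c.zu_comm hx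
  · have hzV : z ∈ V := by rw [hV]; exact Subgroup.subset_closure (Set.mem_insert _ _)
    have huV : u ∈ V := by
      rw [hV]; exact Subgroup.subset_closure (Set.mem_insert_of_mem _ rfl)
    rintro (rfl | rfl | rfl | rfl)
    · exact V.one_mem
    · exact hzV
    · exact huV
    · exact V.mul_mem hzV huV

theorem Config.mem_centralizer_V (c : Config Q Qg z u) {V : Subgroup G}
    (hV : V = Subgroup.closure ({z, u} : Set G)) (y : G) :
    y ∈ Subgroup.centralizer (V : Set G) ↔ (y * z = z * y ∧ y * u = u * y) := by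
  have hVm := c.mem_V hV
  rw [Subgroup.mem_centralizer_iff]
  constructor
  · intro h
    exact ⟨(h z ((hVm z).2 (Or.inr (Or.inl rfl)))).symm,
      (h u ((hVm u).2 (Or.inr (Or.inr (Or.inl rfl))))).symm⟩
  · rintro ⟨h1, h2⟩ x hx
    rcases (hVm x).1 hx with rfl | rfl | rfl | rfl
    · rw [one_mul, mul_one]
    · exact h1.symm
    · exact h2.symm
    · rw [mul_assoc, ← h2, ← mul_assoc, ← h1, mul_assoc]

theorem Config.Q_le_normalizer_V [Finite G] (c : Config Q Qg z u) {V : Subgroup G}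
    (hV : V = Subgroup.closure ({z, u} : Set G)) : Q ≤ Subgroup.normalizer (V : Set G) := by
  have hVm := c.mem_V hV
  have hzV : z ∈ V := (hVm z).2 (Or.inr (Or.inl rfl))
  have huV : u ∈ V := (hVm u).2 (Or.inr (Or.inr (Or.inl rfl)))
  intro s hs
  apply mem_normalizer_of_conj_mem
  have h1 : s * z * s⁻¹ = z := c.xs.conj_z hs
  have h2 : s * u * s⁻¹ ∈ V := by
    rcases c.xs.conj_eq_or hs c.uQ with h3 | h3
    · rw [h3]; exact huV
    · rw [h3]; exact V.mul_mem hzV huV
  intro x hx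
  rcases (hVm x).1 hx with rfl | rfl | rfl | rfl
  · rw [mul_one, mul_inv_cancel]; exact V.one_mem
  · rw [h1]; exact hzV
  · exact h2
  · have : s * (z * u) * s⁻¹ = (s * z * s⁻¹) * (s * u * s⁻¹) := by group
    rw [this, h1]; exact V.mul_mem hzV h2

theorem Config.X_le_normalizer_V [Finite G] (c : Config Q Qg z u) {V : Subgroup G}
    (hV : V = Subgroup.closure ({z, u} : Set G)) : Q ⊔ Qg ≤ Subgroup.normalizer (V : Set G) := by
  apply sup_le
  · exact c.Q_le_normalizer_V hV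
  · have hV' : V = Subgroup.closure ({u, z} : Set G) := by rw [hV, Set.pair_comm]
    exact c.symm.Q_le_normalizer_V hV'

theorem Config.conj_mem_three [Finite G] (c : Config Q Qg z u) {V : Subgroup G}
    (hV : V = Subgroup.closure ({z, u} : Set G)) {y v : G}
    (hy : y ∈ Subgroup.normalizer (V : Set G)) (hv : v = z ∨ v = u ∨ v = z * u) :
    y * v * y⁻¹ = z ∨ y * v * y⁻¹ = u ∨ y * v * y⁻¹ = z * u := by
  have hVm := c.mem_V hV
  have hvV : v ∈ V := by
    rw [hVm]
    rcases hv with h | h | h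
    · exact Or.inr (Or.inl h)
    · exact Or.inr (Or.inr (Or.inl h))
    · exact Or.inr (Or.inr (Or.inr h))
  have hv1 : v ≠ 1 := by
    rcases hv with h | h | h
    · rw [h]; exact c.xs.z_ne
    · rw [h]; exact c.xsg.z_ne
    · rw [h]
      intro h1
      apply c.huz
      have hz2 := c.xs.z_sq
      calc u = (z * z) * u := by rw [hz2, one_mul]
        _ = z * (z * u) := by rw [mul_assoc]
        _ = z := by rw [h1, mul_one]
  have h1 : y * v * y⁻¹ ∈ V := (Subgroup.mem_normalizer_iff.1 hy v).1 hvV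
  rcases (hVm _).1 h1 with h2 | h2 | h2 | h2
  · exfalso
    apply hv1
    calc v = y⁻¹ * (y * v * y⁻¹) * y := by group
      _ = 1 := by rw [h2]; group
  · exact Or.inl h2
  · exact Or.inr (Or.inl h2)
  · exact Or.inr (Or.inr h2)

theorem Config.normalizer_conj_X [Finite G] (c : Config Q Qg z u) {V : Subgroup G}
    (hV : V = Subgroup.closure ({z, u} : Set G)) :
    ∀ y ∈ Subgroup.normalizer (V : Set G), ∀ x ∈ Q ⊔ Qg, y * x * y⁻¹ ∈ Q ⊔ Qg := by
  obtain ⟨q, q', e⟩ := c.exists_elts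
  intro y hy x hx
  have hle : (Q ⊔ Qg).map (MulAut.conj y).toMonoidHom ≤ Q ⊔ Qg := by
    rw [Subgroup.map_sup]
    apply sup_le
    · rintro _ ⟨k, hk, rfl⟩
      exact c.conj_mem_sup e y (c.conj_mem_three hV hy (Or.inl rfl)) k hk
    · rintro _ ⟨k, hk, rfl⟩
      have h1 := c.conj_mem_three hV hy (Or.inr (Or.inl rfl) : u = z ∨ u = u ∨ u = z * u)
      have h2 : y * u * y⁻¹ = u ∨ y * u * y⁻¹ = z ∨ y * u * y⁻¹ = u * z := by
        rcases h1 with h | h | h
        · exact Or.inr (Or.inl h)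
        · exact Or.inl h
        · right; right; rw [h, c.zu_comm]
      have h3 := c.symm.conj_mem_sup (e.symm c) y h2 k hk
      rw [sup_comm] at h3
      exact h3
  exact hle ⟨x, hx, rfl⟩

theorem Config.normalizer_le [Finite G] (c : Config Q Qg z u) {V : Subgroup G}
    (hV : V = Subgroup.closure ({z, u} : Set G)) :
    Subgroup.normalizer (V : Set G) ≤
      (Q ⊔ Qg) ⊔ (Subgroup.centralizer ({z} : Set G) ⊓ Subgroup.centralizer (V : Set G)) := by
  obtain ⟨q, q', e⟩ := c.exists_elts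
  have hz2 := c.xs.z_sq
  have hu2 := c.xsg.z_sq
  have hXN := c.X_le_normalizer_V hV
  have hqX : q ∈ Q ⊔ Qg := Subgroup.mem_sup_left e.hq
  have hq'X : q' ∈ Q ⊔ Qg := Subgroup.mem_sup_right e.hq'
  have hCmem : ∀ y : G, y * z = z * y → y * u = u * y →
      y ∈ Subgroup.centralizer ({z} : Set G) ⊓ Subgroup.centralizer (V : Set G) := by
    intro y h1 h2
    rw [Subgroup.mem_inf, Subgroup.mem_centralizer_singleton_iff, c.mem_centralizer_V hV]
    exact ⟨h1, h1, h2⟩
  have step2 : ∀ y ∈ Subgroup.normalizer (V : Set G), y * z * y⁻¹ = z →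
      y ∈ (Q ⊔ Qg) ⊔ (Subgroup.centralizer ({z} : Set G) ⊓ Subgroup.centralizer (V : Set G)) := by
    intro y hy hyz
    rcases c.conj_mem_three hV hy (Or.inr (Or.inl rfl) : u = z ∨ u = u ∨ u = z * u) with h | h | h
    · exfalso
      apply c.huz
      have : y * u * y⁻¹ = y * z * y⁻¹ := by rw [h, hyz]
      calc u = y⁻¹ * (y * u * y⁻¹) * y := by group
        _ = y⁻¹ * (y * z * y⁻¹) * y := by rw [this]
        _ = z := by group
    · exact Subgroup.mem_sup_right (hCmem y (comm_of_conj hyz) (comm_of_conj h))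
    · have h1 : (q⁻¹ * y) * z * (q⁻¹ * y)⁻¹ = z := by
        calc (q⁻¹ * y) * z * (q⁻¹ * y)⁻¹ = q⁻¹ * (y * z * y⁻¹) * q := by group
          _ = z := by rw [hyz]; exact conj_inv_of_conj e.qz
      have h2 : (q⁻¹ * y) * u * (q⁻¹ * y)⁻¹ = u := by
        calc (q⁻¹ * y) * u * (q⁻¹ * y)⁻¹ = q⁻¹ * (y * u * y⁻¹) * q := by group
          _ = u := by rw [h]; exact conj_inv_of_conj e.qu
      have h3 : y = q * (q⁻¹ * y) := by group
      rw [h3]
      exact Subgroup.mul_mem _ (Subgroup.mem_sup_left hqX)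
        (Subgroup.mem_sup_right (hCmem _ (comm_of_conj h1) (comm_of_conj h2)))
  intro y hy
  rcases c.conj_mem_three hV hy (Or.inl rfl : z = z ∨ z = u ∨ z = z * u) with h | h | h
  · exact step2 y hy h
  · have haX : q * q' ∈ Q ⊔ Qg := Subgroup.mul_mem _ hqX hq'X
    have ha_z : (q * q') * z * (q * q')⁻¹ = u := by
      calc (q * q') * z * (q * q')⁻¹ = q * (q' * z * q'⁻¹) * q⁻¹ := by group
        _ = u := by rw [e.q'z, e.q_zu hz2]
    have h1 : ((q * q')⁻¹ * y) * z * ((q * q')⁻¹ * y)⁻¹ = z := by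
      calc ((q * q')⁻¹ * y) * z * ((q * q')⁻¹ * y)⁻¹ = (q * q')⁻¹ * (y * z * y⁻¹) * (q * q') := by group
        _ = z := by rw [h]; exact conj_inv_of_conj ha_z
    have h2 : (q * q')⁻¹ * y ∈ Subgroup.normalizer (V : Set G) :=
      Subgroup.mul_mem _ (Subgroup.inv_mem _ (hXN haX)) hy
    have h3 : y = (q * q') * ((q * q')⁻¹ * y) := by group
    rw [h3]
    exact Subgroup.mul_mem _ (Subgroup.mem_sup_left haX) (step2 _ h2 h1)
  · have h1 : (q'⁻¹ * y) * z * (q'⁻¹ * y)⁻¹ = z := by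
      calc (q'⁻¹ * y) * z * (q'⁻¹ * y)⁻¹ = q'⁻¹ * (y * z * y⁻¹) * q' := by group
        _ = z := by rw [h]; exact conj_inv_of_conj e.q'z
    have h2 : q'⁻¹ * y ∈ Subgroup.normalizer (V : Set G) :=
      Subgroup.mul_mem _ (Subgroup.inv_mem _ (hXN hq'X)) hy
    have h3 : y = q' * (q'⁻¹ * y) := by group
    rw [h3]
    exact Subgroup.mul_mem _ (Subgroup.mem_sup_left hq'X) (step2 _ h2 h1)

end Cfsg.Agent.Lib.Helper10.LargeXS
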