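import Mathlib
import Cfsg.Agent.Lib.Helper10.LargeXS20
import Cfsg.Agent.Lib.Helper27.PCoreOf

set_option autoImplicit false

namespace Cfsg.Agent.Lib.Helper10.LargeXS

variable {G : Type*} [Group G] {Q Qg : Subgroup G} {z u : G}

theorem Config.main [Finite G] (c : Config Q Qg z u) (V X R : Subgroup G)
    (hV : V = Subgroup.closure ({z, u} : Set G)) (hX : X = Q ⊔ Qg)
    (hR : R = (Qg ⊓ Subgroup.centralizer ({z} : Set G)) ⊔ (Q ⊓ Subgroup.centralizer ({u} : Set G))) :
    R = X ⊓ Subgroup.centralizer (V : Set G) ∧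
    R = (Cfsg.pCore 2 ↥X).map X.subtype ∧
    (∃ _ : (R.subgroupOf X).Normal, Nonempty (↥X ⧸ R.subgroupOf X ≃* Equiv.Perm (Fin 3))) ∧
    Subgroup.normalizer (V : Set G) =
      X ⊔ (Subgroup.centralizer ({z} : Set G) ⊓ Subgroup.centralizer (V : Set G)) ∧
    (∀ y ∈ Subgroup.normalizer (V : Set G), ∀ x ∈ X, y * x * y⁻¹ ∈ X) ∧
    R ≤ Subgroup.centralizer ({z} : Set G) ⊓ Subgroup.centralizer (V : Set G) ∧
    (∀ x ∈ X, ∀ y ∈ Subgroup.centralizer ({z} : Set G) ⊓ Subgroup.centralizer (V : Set G),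
      x * y * x⁻¹ * y⁻¹ ∈ R) ∧
    X ⊓ (Subgroup.centralizer ({z} : Set G) ⊓ Subgroup.centralizer (V : Set G)) = R := by
  have hR' : R = cR Q Qg z u := hR
  obtain ⟨hN, hiso, hnf⟩ := c.quotient X R hX hR'
  have hRX : R ≤ X := by rw [hR', hX]; exact c.R_le_X
  have hCV := c.mem_centralizer_V hV
  have hRC : ∀ r ∈ R, r * z = z * r ∧ r * u = u * r := by
    rw [hR']; exact c.R_comm
  have hRle : R ≤ Subgroup.centralizer ({z} : Set G) ⊓ Subgroup.centralizer (V : Set G) := by
    intro r hr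
    obtain ⟨h1, h2⟩ := hRC r hr
    rw [Subgroup.mem_inf, Subgroup.mem_centralizer_singleton_iff, hCV]
    exact ⟨h1, h1, h2⟩
  have hXN : X ≤ Subgroup.normalizer (V : Set G) := by
    rw [hX]; exact c.X_le_normalizer_V hV
  have hXNR : X ≤ Subgroup.normalizer ((R : Subgroup G) : Set G) := by
    rw [hR', hX]; exact c.X_normalizes_R
  have hf2 : Fact (Nat.Prime 2) := ⟨Nat.prime_two⟩
  refine ⟨?_, ?_, ⟨hN, hiso⟩, ?_, ?_, hRle, ?_, ?_⟩
  · apply le_antisymm
    · exact le_inf hRX (hRle.trans inf_le_right)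
    · intro x hx
      obtain ⟨h1, h2⟩ := Subgroup.mem_inf.1 hx
      obtain ⟨h3, h4⟩ := (hCV x).1 h2
      exact hnf x h1 h3 h4
  · apply le_antisymm
    · apply Cfsg.Agent.Lib.Helper27.le_pCoreMap hRX
      · intro a ha k hk
        exact (Subgroup.mem_normalizer_iff.1 (hXNR ha) k).1 hk
      · rw [hR']; exact c.R_isPGroup
    · obtain ⟨P, hP⟩ : ∃ P : Subgroup G, P = (Cfsg.pCore 2 ↥X).map X.subtype := ⟨_, rfl⟩
      rw [← hP]
      have hPX : P ≤ X := by rw [hP]; exact Cfsg.Agent.Lib.Helper27.pCoreMap_le 2 X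
      have hP2 : IsPGroup 2 ↥P := by rw [hP]; exact Cfsg.Agent.Lib.Helper27.pCoreMap_isPGroup 2 X
      obtain ⟨q, q', e⟩ := c.exists_elts
      have hz2 := c.xs.z_sq
      have hu2 := c.xsg.z_sq
      have hqX : q ∈ X := by rw [hX]; exact Subgroup.mem_sup_left e.hq
      have hq'X : q' ∈ X := by rw [hX]; exact Subgroup.mem_sup_right e.hq'
      have ha_z : (q * q') * z * (q * q')⁻¹ = u := by
        calc (q * q') * z * (q * q')⁻¹ = q * (q' * z * q'⁻¹) * q⁻¹ := by group
          _ = u := by rw [e.q'z, e.q_zu hz2]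
      have ha_u : (q * q') * u * (q * q')⁻¹ = z * u := by
        calc (q * q') * u * (q * q')⁻¹ = q * (q' * u * q'⁻¹) * q⁻¹ := by group
          _ = z * u := by rw [e.q'u, e.qu]
      have ha_zu : (q * q') * (z * u) * (q * q')⁻¹ = z := by
        calc (q * q') * (z * u) * (q * q')⁻¹ = q * (q' * (z * u) * q'⁻¹) * q⁻¹ := by group
          _ = z := by rw [e.q'_zu hu2, e.qz]
      have hcent := centralizes_of_fixed_point hP2 (z := z) (u := u) (a := q * q')
        c.huz.symm c.xs.z_ne c.xsg.z_ne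
        (by
          intro p hp v hv
          have hpN := hXN (hPX hp)
          have hv' : v = z ∨ v = u ∨ v = z * u := by
            rcases hv with h | h | h
            · exact Or.inl h
            · exact Or.inr (Or.inl h)
            · exact Or.inr (Or.inr h)
          rcases c.conj_mem_three hV hpN hv' with h | h | h
          · rw [h]; exact Or.inl rfl
          · rw [h]; exact Or.inr (Or.inl rfl)
          · rw [h]; exact Or.inr (Or.inr rfl))
        (by
          intro p hp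
          have h1 : (q * q')⁻¹ ∈ X := X.inv_mem (X.mul_mem hqX hq'X)
          rw [hP] at hp ⊢
          have h2 := Cfsg.Agent.Lib.Helper27.pCoreMap_conj_mem 2 X h1 hp
          rw [inv_inv] at h2
          exact h2)
        ha_z ha_u ha_zu
      intro p hp
      obtain ⟨h1, h2⟩ := hcent p hp
      exact hnf p (hPX hp) h1 h2
  · apply le_antisymm
    · rw [hX]; exact c.normalizer_le hV
    · apply sup_le hXN
      exact inf_le_right.trans (Subgroup.centralizer_le_normalizer _)
  · rw [hX]; exact c.normalizer_conj_X hV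
  · intro x hx y hy
    rw [hX] at hx
    rw [hR']
    apply c.X_comm_mem_R x hx y
    obtain ⟨h1, h2⟩ := Subgroup.mem_inf.1 hy
    obtain ⟨h3, h4⟩ := (hCV y).1 h2
    rw [Subgroup.mem_inf, Subgroup.mem_centralizer_singleton_iff,
      Subgroup.mem_centralizer_singleton_iff]
    exact ⟨h3, h4⟩
  · apply le_antisymm
    · intro x hx
      obtain ⟨h1, h2⟩ := Subgroup.mem_inf.1 hx
      obtain ⟨h3, h4⟩ := (hCV x).1 (Subgroup.mem_inf.1 h2).2
      exact hnf x h1 h3 h4
    · exact le_inf hRX hRle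

end Cfsg.Agent.Lib.Helper10.LargeXS
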