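import Mathlib
import Cfsg.Agent.Lib.Helper10.LargeXS3

set_option autoImplicit false

namespace Cfsg.Agent.Lib.Helper10.LargeXS

variable {G : Type*} [Group G]

theorem symm_mem [Finite G] (z : G) (hz : orderOf z = 2)
    (hE : Cfsg.IsExtraspecial 2 ↥(O2C z))
    (hC : Subgroup.centralizer ((O2C z : Subgroup G) : Set G) ≤ O2C z) (g : G)
    (hx : g * z * g⁻¹ ∈ O2C z) : z ∈ O2C (g * z * g⁻¹) := by
  have hz2 : z * z = 1 := by rw [← pow_two, ← hz, pow_orderOf_eq_one]
  have hz1 : z ≠ 1 := by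
    intro h
    rw [h, orderOf_one] at hz
    omega
  have hzQ : z ∈ O2C z := mem_O2C_self hz2
  have hQC : ∀ x ∈ O2C z, x * z = z * x := fun x hx => O2C_comm hx
  have hxs : XS (O2C z) z := xs_of_extraspecial hE hz1 hz2 hzQ hQC
  obtain ⟨u, hu⟩ : ∃ u, u = g * z * g⁻¹ := ⟨_, rfl⟩
  rw [← hu] at hx ⊢
  have hu2 : u * u = 1 := by
    rw [hu]
    calc g * z * g⁻¹ * (g * z * g⁻¹) = g * (z * z) * g⁻¹ := by group
      _ = 1 := by rw [hz2, mul_one, mul_inv_cancel]
  have huu : u ∈ O2C u := mem_O2C_self hu2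
  by_cases huz : u = z
  · rw [huz]; exact hzQ
  have hu1 : u ≠ 1 := by
    intro h
    rw [h] at hu
    apply hz1
    have : z = g⁻¹ * (g * z * g⁻¹) * g := by group
    rw [this, ← hu]
    group
  have huzc : u * z = z * u := hQC u hx
  obtain ⟨q, hq, hqu⟩ : ∃ q ∈ O2C z, q * u = z * (u * q) := by
    by_contra hne
    have hall : ∀ y ∈ O2C z, u * y = y * u := by
      intro y hy
      rcases hxs.comm y hy u hx with h1 | h1
      · exact h1.symm
      · exact absurd ⟨y, hy, h1⟩ hne
    rcases hxs.center u hx hall with h1 | h1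
    · exact hu1 h1
    · exact huz h1
  have hkey : ∀ n : G, n * z * n⁻¹ = u → n * u * n⁻¹ = z * u → z ∈ O2C u := by
    intro n hn1 hn2
    have h1 := conj_mem_O2C n z u hx
    rw [hn1, hn2] at h1
    have h3 : z = (z * u) * u⁻¹ := by rw [mul_inv_cancel_right]
    rw [h3]
    exact (O2C u).mul_mem h1 ((O2C u).inv_mem huu)
  have hCz : ∀ c : G, (∀ k ∈ O2C z, c * k = k * c) → c ∈ O2C z := by
    intro c hc
    apply hC
    rw [Subgroup.mem_centralizer_iff]
    intro k hk
    exact (hc k hk).symm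
  have hCu : ∀ c : G, (∀ k ∈ O2C u, c * k = k * c) → c ∈ O2C u := by
    intro c hc
    have h1 : g⁻¹ * c * g ∈ O2C z := by
      apply hCz
      intro k hk
      have h2 : g * k * g⁻¹ ∈ O2C u := by
        rw [hu]
        exact conj_mem_O2C g z k hk
      have h3 := hc _ h2
      calc g⁻¹ * c * g * k = g⁻¹ * (c * (g * k * g⁻¹)) * g := by group
        _ = g⁻¹ * ((g * k * g⁻¹) * c) * g := by rw [h3]
        _ = k * (g⁻¹ * c * g) := by group
    have h4 := conj_mem_O2C g z _ h1
    rw [← hu] at h4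
    have h5 : g * (g⁻¹ * c * g) * g⁻¹ = c := by group
    rw [h5] at h4
    exact h4
  obtain ⟨R, hR⟩ : ∃ R : Subgroup G, R = O2C z ⊓ Subgroup.centralizer ({u} : Set G) := ⟨_, rfl⟩
  have hRmem : ∀ r, r ∈ R ↔ r ∈ O2C z ∧ r * u = u * r := by
    intro r
    rw [hR, Subgroup.mem_inf, Subgroup.mem_centralizer_singleton_iff]
  have hRP : IsPGroup 2 ↥R := (O2C_isPGroup z).to_le (by rw [hR]; exact inf_le_left)
  have hRN : R ≤ Subgroup.normalizer ((O2C u : Subgroup G) : Set G) := by
    intro r hr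
    have hru := ((hRmem r).1 hr).2
    rw [Subgroup.mem_normalizer_iff]
    intro k
    constructor
    · intro hk
      exact O2C_conj_mem hru hk
    · intro hk
      have hru' : r⁻¹ * u = u * r⁻¹ := by
        calc r⁻¹ * u = r⁻¹ * (u * r) * r⁻¹ := by group
          _ = r⁻¹ * (r * u) * r⁻¹ := by rw [hru]
          _ = u * r⁻¹ := by group
      have := O2C_conj_mem hru' hk
      have h5 : r⁻¹ * (r * k * r⁻¹) * r⁻¹⁻¹ = k := by group
      rw [h5] at this
      exact this
  obtain ⟨Su, hSu⟩ : ∃ Su : Subgroup G, Su = R ⊔ O2C u := ⟨_, rfl⟩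
  have hSuP : IsPGroup 2 ↥Su := by
    rw [hSu]
    exact IsPGroup.to_sup_of_normal_right' hRP (O2C_isPGroup u) hRN
  have hSule : ∀ s ∈ Su, s * u = u * s := by
    have : Su ≤ Subgroup.centralizer ({u} : Set G) := by
      rw [hSu]
      apply sup_le
      · rw [hR]; exact inf_le_right
      · exact O2C_le u
    intro s hs
    have h1 := this hs
    rw [Subgroup.mem_centralizer_singleton_iff] at h1
    exact h1
  by_cases hSz : Su ≤ Subgroup.centralizer ({z} : Set G)
  · apply hCu
    intro k hk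
    have h1 : k ∈ Su := by rw [hSu]; exact Subgroup.mem_sup_right hk
    have h2 := hSz h1
    rw [Subgroup.mem_centralizer_singleton_iff] at h2
    exact h2.symm
  · have hlt : Su ⊓ Subgroup.centralizer ({z} : Set G) < Su := by
      apply lt_of_le_of_ne inf_le_left
      intro h
      apply hSz
      rw [← h]
      exact inf_le_right
    haveI : Fact (Nat.Prime 2) := ⟨Nat.prime_two⟩
    obtain ⟨x, hxSu, hxN, hxS0⟩ :=
      Cfsg.Agent.Lib.Lead.exists_mem_normalizer_not_mem _ _ hlt hSuP.isNilpotent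
    have hxu : x * u = u * x := hSule x hxSu
    have hxz : ¬ (x * z = z * x) := by
      intro h
      apply hxS0
      rw [Subgroup.mem_inf, Subgroup.mem_centralizer_singleton_iff]
      exact ⟨hxSu, h⟩
    have hRSu : R ≤ Su := by rw [hSu]; exact le_sup_left
    have hzR : z ∈ R := (hRmem z).2 ⟨hzQ, huzc.symm⟩
    have hzS0 : z ∈ Su ⊓ Subgroup.centralizer ({z} : Set G) := by
      rw [Subgroup.mem_inf, Subgroup.mem_centralizer_singleton_iff]
      exact ⟨hRSu hzR, rfl⟩
    have hz'S0 : x * z * x⁻¹ ∈ Su ⊓ Subgroup.centralizer ({z} : Set G) :=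
      (Subgroup.mem_normalizer_iff.1 hxN z).1 hzS0
    have hz'z : (x * z * x⁻¹) * z = z * (x * z * x⁻¹) := by
      have := (Subgroup.mem_inf.1 hz'S0).2
      rw [Subgroup.mem_centralizer_singleton_iff] at this
      exact this
    have hz'R : ∀ r ∈ O2C z, r * u = u * r → (x * z * x⁻¹) * r = r * (x * z * x⁻¹) := by
      intro r hr hru
      have hrR : r ∈ R := (hRmem r).2 ⟨hr, hru⟩
      have hrS0 : r ∈ Su ⊓ Subgroup.centralizer ({z} : Set G) := by
        rw [Subgroup.mem_inf, Subgroup.mem_centralizer_singleton_iff]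
        exact ⟨hRSu hrR, hQC r hr⟩
      have hxinvN : x⁻¹ ∈ Subgroup.normalizer
          ((Su ⊓ Subgroup.centralizer ({z} : Set G) : Subgroup G) : Set G) :=
        Subgroup.inv_mem _ hxN
      have h1 := (Subgroup.mem_normalizer_iff.1 hxinvN r).1 hrS0
      have h2 := (Subgroup.mem_inf.1 h1).2
      rw [Subgroup.mem_centralizer_singleton_iff, inv_inv] at h2
      calc (x * z * x⁻¹) * r = x * (z * (x⁻¹ * r * x)) * x⁻¹ := by group
        _ = x * ((x⁻¹ * r * x) * z) * x⁻¹ := by rw [h2]
        _ = r * (x * z * x⁻¹) := by group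
    have hnorm : ∀ k ∈ O2C z, (x * z * x⁻¹) * k * (x * z * x⁻¹)⁻¹ ∈ O2C z :=
      fun k hk => O2C_conj_mem hz'z hk
    rcases hxs.centralizer_R hq hx hu2 hqu hz'z hnorm hCz hz'R with h1 | h1 | h1 | h1
    · exfalso
      apply hz1
      have : z = x⁻¹ * (x * z * x⁻¹) * x := by group
      rw [this, h1]
      group
    · exfalso
      apply hxz
      calc x * z = (x * z * x⁻¹) * x := by group
        _ = z * x := by rw [h1]
    · exfalso
      apply huz
      have : z = x⁻¹ * (x * z * x⁻¹) * x := by group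
      rw [this, h1]
      calc u = x⁻¹ * (x * u) := by group
        _ = x⁻¹ * u * x := by rw [hxu, mul_assoc]
    · apply hkey (q * x)
      · have hquq : q * u * q⁻¹ = z * u := by
          rw [hqu, mul_assoc, mul_assoc, mul_inv_cancel, mul_one]
        calc q * x * z * (q * x)⁻¹ = q * (x * z * x⁻¹) * q⁻¹ := by group
          _ = q * (z * u) * q⁻¹ := by rw [h1]
          _ = (q * z) * u * q⁻¹ := by group
          _ = (z * q) * u * q⁻¹ := by rw [hQC q hq]
          _ = z * (q * u * q⁻¹) := by group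
          _ = z * (z * u) := by rw [hquq]
          _ = u := by rw [← mul_assoc, hz2, one_mul]
      · have hquq : q * u * q⁻¹ = z * u := by
          rw [hqu, mul_assoc, mul_assoc, mul_inv_cancel, mul_one]
        calc q * x * u * (q * x)⁻¹ = q * ((x * u) * x⁻¹) * q⁻¹ := by group
          _ = q * ((u * x) * x⁻¹) * q⁻¹ := by rw [hxu]
          _ = q * u * q⁻¹ := by group
          _ = z * u := hquq

end Cfsg.Agent.Lib.Helper10.LargeXS
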