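import Mathlib
import Cfsg.Agent.Lib.Helper10.LargeXS4

set_option autoImplicit false

namespace Cfsg.Agent.Lib.Helper10.LargeXS

variable {G : Type*} [Group G]

theorem mem_O2C_conj_iff (g z x : G) : x ∈ O2C (g * z * g⁻¹) ↔ g⁻¹ * x * g ∈ O2C z := by
  constructor
  · intro hx
    have h1 := conj_mem_O2C g⁻¹ (g * z * g⁻¹) x hx
    have h2 : g⁻¹ * (g * z * g⁻¹) * g⁻¹⁻¹ = z := by group
    rw [h2, inv_inv] at h1
    exact h1
  · intro hx
    have h1 := conj_mem_O2C g z _ hx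
    have h2 : g * (g⁻¹ * x * g) * g⁻¹ = x := by group
    rw [h2] at h1
    exact h1

theorem XS.conj {z : G} (h : XS (O2C z) z) (g : G) : XS (O2C (g * z * g⁻¹)) (g * z * g⁻¹) := by
  have hback : ∀ x : G, g * (g⁻¹ * x * g) * g⁻¹ = x := fun x => by group
  have hz2 : g * z * g⁻¹ * (g * z * g⁻¹) = 1 := by
    calc g * z * g⁻¹ * (g * z * g⁻¹) = g * (z * z) * g⁻¹ := by group
      _ = 1 := by rw [h.z_sq, mul_one, mul_inv_cancel]
  refine ⟨?_, hz2, mem_O2C_self hz2, fun x hx => O2C_comm hx, ?_, ?_, ?_⟩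
  · intro h1
    apply h.z_ne
    have : z = g⁻¹ * (g * z * g⁻¹) * g := by group
    rw [this, h1]
    group
  · intro x hx hxy
    have hx' := (mem_O2C_conj_iff g z x).1 hx
    have hall : ∀ y ∈ O2C z, (g⁻¹ * x * g) * y = y * (g⁻¹ * x * g) := by
      intro y hy
      have hy' : g * y * g⁻¹ ∈ O2C (g * z * g⁻¹) := conj_mem_O2C g z y hy
      have h1 := hxy _ hy'
      calc (g⁻¹ * x * g) * y = g⁻¹ * (x * (g * y * g⁻¹)) * g := by group
        _ = g⁻¹ * ((g * y * g⁻¹) * x) * g := by rw [h1]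
        _ = y * (g⁻¹ * x * g) := by group
    rcases h.center _ hx' hall with h1 | h1
    · left
      rw [← hback x, h1]
      group
    · right
      rw [← hback x, h1]
  · intro x hx y hy
    have hx' := (mem_O2C_conj_iff g z x).1 hx
    have hy' := (mem_O2C_conj_iff g z y).1 hy
    rcases h.comm _ hx' _ hy' with h1 | h1
    · left
      calc x * y = g * ((g⁻¹ * x * g) * (g⁻¹ * y * g)) * g⁻¹ := by group
        _ = g * ((g⁻¹ * y * g) * (g⁻¹ * x * g)) * g⁻¹ := by rw [h1]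
        _ = y * x := by group
    · right
      calc x * y = g * ((g⁻¹ * x * g) * (g⁻¹ * y * g)) * g⁻¹ := by group
        _ = g * (z * ((g⁻¹ * y * g) * (g⁻¹ * x * g))) * g⁻¹ := by rw [h1]
        _ = g * z * g⁻¹ * (y * x) := by group
  · intro x hx
    have hx' := (mem_O2C_conj_iff g z x).1 hx
    rcases h.sq _ hx' with h1 | h1
    · left
      calc x * x = g * ((g⁻¹ * x * g) * (g⁻¹ * x * g)) * g⁻¹ := by group
        _ = 1 := by rw [h1, mul_one, mul_inv_cancel]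
    · right
      calc x * x = g * ((g⁻¹ * x * g) * (g⁻¹ * x * g)) * g⁻¹ := by group
        _ = g * z * g⁻¹ := by rw [h1]

theorem cent_conj {z : G} (hCz : ∀ c : G, (∀ k ∈ O2C z, c * k = k * c) → c ∈ O2C z) (g : G) :
    ∀ c : G, (∀ k ∈ O2C (g * z * g⁻¹), c * k = k * c) → c ∈ O2C (g * z * g⁻¹) := by
  intro c hc
  rw [mem_O2C_conj_iff]
  apply hCz
  intro k hk
  have h2 : g * k * g⁻¹ ∈ O2C (g * z * g⁻¹) := conj_mem_O2C g z k hk
  have h3 := hc _ h2
  calc g⁻¹ * c * g * k = g⁻¹ * (c * (g * k * g⁻¹)) * g := by group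
    _ = g⁻¹ * ((g * k * g⁻¹) * c) * g := by rw [h3]
    _ = k * (g⁻¹ * c * g) := by group

theorem xs_of_hyp [Finite G] (z : G) (hz : orderOf z = 2)
    (hE : Cfsg.IsExtraspecial 2 ↥(O2C z)) : XS (O2C z) z := by
  have hz2 : z * z = 1 := by rw [← pow_two, ← hz, pow_orderOf_eq_one]
  have hz1 : z ≠ 1 := by
    intro h
    rw [h, orderOf_one] at hz
    omega
  exact xs_of_extraspecial hE hz1 hz2 (mem_O2C_self hz2) (fun x hx => O2C_comm hx)

theorem XS.exists_noncomm {Qa : Subgroup G} {a : G} (h : XS Qa a) {b : G} (hb : b ∈ Qa)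
    (hb1 : b ≠ 1) (hba : b ≠ a) : ∃ q ∈ Qa, q * b = a * (b * q) := by
  by_contra hne
  have hall : ∀ y ∈ Qa, b * y = y * b := by
    intro y hy
    rcases h.comm y hy b hb with h1 | h1
    · exact h1.symm
    · exact absurd ⟨y, hy, h1⟩ hne
  rcases h.center b hb hall with h1 | h1
  · exact hb1 h1
  · exact hba h1

theorem inf_le_O2C_mul {a b : G} (ha : XS (O2C a) a) (hb : b ∈ O2C a) (hb1 : b ≠ 1)
    (hba : b ≠ a) (hab : a ∈ O2C (a * b)) : O2C a ⊓ O2C b ≤ O2C (a * b) := by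
  obtain ⟨q, hq, hqb⟩ := ha.exists_noncomm hb hb1 hba
  have hqbq : q * b * q⁻¹ = a * b := by
    rw [hqb, mul_assoc, mul_assoc, mul_inv_cancel, mul_one]
  intro x hx
  obtain ⟨hxa, hxb⟩ := Subgroup.mem_inf.1 hx
  have h1 : q * x * q⁻¹ ∈ O2C (a * b) := by
    have := conj_mem_O2C q b x hxb
    rw [hqbq] at this
    exact this
  rcases ha.comm q hq x hxa with h2 | h2
  · have : q * x * q⁻¹ = x := by rw [h2, mul_inv_cancel_right]
    rw [this] at h1
    exact h1
  · have h3 : q * x * q⁻¹ = a * x := by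
      rw [h2, mul_assoc, mul_assoc, mul_inv_cancel, mul_one]
    rw [h3] at h1
    have h4 : x = a⁻¹ * (a * x) := by rw [inv_mul_cancel_left]
    rw [h4]
    exact (O2C (a * b)).mul_mem ((O2C (a * b)).inv_mem hab) h1

end Cfsg.Agent.Lib.Helper10.LargeXS
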