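import Mathlib
import Cfsg.Agent.Lib.Helper10.LargeXS12
import Cfsg.Agent.Lib.Helper10.LargeXS5

set_option autoImplicit false

namespace Cfsg.Agent.Lib.Helper10.LargeXS

variable {G : Type*} [Group G]

theorem odd_normalized_eq_bot_gen [Finite G] {Q : Subgroup G} {z : G} (hxs : XS Q z)
    (h2Q : IsPGroup 2 ↥Q)
    (hNz : ∀ h : G, h * z = z * h → ∀ k ∈ Q, h * k * h⁻¹ ∈ Q)
    (hCz : ∀ c : G, (∀ k ∈ Q, c * k = k * c) → c ∈ Q)
    (u : G) (huQ : u ∈ Q) (hu2 : u * u = 1)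
    (hP : ∀ v : G, (v = u ∨ v = z * u) → ∃ P2 : Subgroup G, IsPGroup 2 ↥P2 ∧ z ∈ P2 ∧
      ∀ x : G, x * v = v * x → ∀ k ∈ P2, x * k * x⁻¹ ∈ P2)
    (K : Subgroup G) (hK : Odd (Nat.card ↥K)) (hQK : Q ≤ Subgroup.normalizer (K : Set G)) :
    K = ⊥ := by
  have hz2 : z * z = 1 := hxs.z_sq
  have hzinv : z⁻¹ = z := hxs.z_inv
  have hnorm : ∀ k ∈ Q, ∀ x ∈ K, k * x * k⁻¹ ∈ K := by
    intro k hk x hx
    exact (Subgroup.mem_normalizer_iff.1 (hQK hk) x).1 hx
  have hA : ∀ x ∈ K, z * x = x * z → x = 1 := by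
    intro x hx hxz
    have hxQ : x ∈ Q := by
      apply hCz
      intro k hk
      have h1 : x * k * x⁻¹ * k⁻¹ ∈ Q := Q.mul_mem (hNz x hxz.symm k hk) (Q.inv_mem hk)
      have h2 : x * k * x⁻¹ * k⁻¹ ∈ K := by
        have h3 : x * k * x⁻¹ * k⁻¹ = x * (k * x⁻¹ * k⁻¹) := by group
        rw [h3]
        exact K.mul_mem hx (hnorm k hk _ (K.inv_mem hx))
      have h4 := eq_one_of_odd_of_conj_mem hK h2Q _ 1 h2 (by rw [one_mul, inv_one, mul_one]; exact h1)
      calc x * k = (x * k * x⁻¹ * k⁻¹) * (k * x) := by group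
        _ = k * x := by rw [h4, one_mul]
    exact eq_one_of_odd_of_conj_mem hK h2Q x 1 hx (by rw [one_mul, inv_one, mul_one]; exact hxQ)
  have hzinvK : ∀ x ∈ K, z * x * z⁻¹ = x⁻¹ :=
    inverts_of_fpf K z hz2 (hnorm z hxs.z_mem) hA
  have hfix : ∀ v : G, (v = u ∨ v = z * u) → ∀ x ∈ K, v * x = x * v → x = 1 := by
    intro v hv x hx hxv
    obtain ⟨P2, hP2, hzP2, hnP2⟩ := hP v hv
    have hxv' : x⁻¹ * v = v * x⁻¹ := by
      calc x⁻¹ * v = x⁻¹ * (v * x) * x⁻¹ := by group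
        _ = x⁻¹ * (x * v) * x⁻¹ := by rw [hxv]
        _ = v * x⁻¹ := by group
    have h1 := hnP2 x⁻¹ hxv' z hzP2
    rw [inv_inv] at h1
    have h2 : z⁻¹ * (x⁻¹ * z * x) ∈ P2 := P2.mul_mem (P2.inv_mem hzP2) h1
    have h4 : z⁻¹ * x⁻¹ * z = x := by
      have h5 := hzinvK x⁻¹ (K.inv_mem hx)
      rw [inv_inv] at h5
      rw [hzinv]
      calc z * x⁻¹ * z = z * x⁻¹ * z⁻¹ := by rw [hzinv]
        _ = x := h5
    have h3 : z⁻¹ * (x⁻¹ * z * x) = x * x := by
      calc z⁻¹ * (x⁻¹ * z * x) = (z⁻¹ * x⁻¹ * z) * x := by group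
        _ = x * x := by rw [h4]
    rw [h3] at h2
    have h6 : x * x = 1 := eq_one_of_odd_of_conj_mem hK hP2 (x * x) 1 (K.mul_mem hx hx)
      (by rw [one_mul, inv_one, mul_one]; exact h2)
    exact eq_one_of_odd_of_sq hK x hx h6
  have huinvK : ∀ x ∈ K, u * x * u⁻¹ = x⁻¹ :=
    inverts_of_fpf K u hu2 (hnorm u huQ) (hfix u (Or.inl rfl))
  rw [Subgroup.eq_bot_iff_forall]
  intro x hx
  apply hfix (z * u) (Or.inr rfl) x hx
  have h1 := hzinvK x hx
  have h2 := huinvK x⁻¹ (K.inv_mem hx)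
  rw [inv_inv] at h2
  have h3 : z * (u * x⁻¹ * u⁻¹) * z⁻¹ = x⁻¹ := by rw [h2]; exact h1
  have h4 : (z * u) * x⁻¹ * (z * u)⁻¹ = x⁻¹ := by
    calc (z * u) * x⁻¹ * (z * u)⁻¹ = z * (u * x⁻¹ * u⁻¹) * z⁻¹ := by group
      _ = x⁻¹ := h3
  have h5 : (z * u) * x⁻¹ = x⁻¹ * (z * u) := by
    calc (z * u) * x⁻¹ = ((z * u) * x⁻¹ * (z * u)⁻¹) * (z * u) := by group
      _ = x⁻¹ * (z * u) := by rw [h4]
  calc z * u * x = x * (x⁻¹ * (z * u)) * x := by group
    _ = x * ((z * u) * x⁻¹) * x := by rw [h5]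
    _ = x * (z * u) := by group

theorem simple_of_large [Finite G] {Q : Subgroup G} {z : G} (hxs : XS Q z)
    (h2Q : IsPGroup 2 ↥Q)
    (hNz : ∀ h : G, h * z = z * h → ∀ k ∈ Q, h * k * h⁻¹ ∈ Q)
    (hCz : ∀ c : G, (∀ k ∈ Q, c * k = k * c) → c = 1 ∨ c = z)
    (hL4 : ∀ K : Subgroup G, Odd (Nat.card ↥K) → Q ≤ Subgroup.normalizer (K : Set G) → K = ⊥)
    (hgenC : ∀ N : Subgroup G, N.Normal → z ∈ N → Subgroup.centralizer ({z} : Set G) ≤ N) :
    IsSimpleGroup G := by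
  have hf2 : Fact (Nat.Prime 2) := ⟨Nat.prime_two⟩
  have hz2 : z * z = 1 := hxs.z_sq
  have hz1 : z ≠ 1 := hxs.z_ne
  have hCzQ : ∀ c : G, (∀ k ∈ Q, c * k = k * c) → c ∈ Q := by
    intro c hc
    rcases hCz c hc with h | h
    · rw [h]; exact Q.one_mem
    · rw [h]; exact hxs.z_mem
  have hnt : Nontrivial G := ⟨⟨z, 1, hz1⟩⟩
  refine { exists_pair_ne := hnt.exists_pair_ne, eq_bot_or_eq_top_of_normal := ?_ }
  intro N hN
  by_cases hzN : z ∈ N
  · right
    have hCN : Subgroup.centralizer ({z} : Set G) ≤ N := hgenC N hN hzN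
    have hQN : Q ≤ N := by
      intro k hk
      apply hCN
      rw [Subgroup.mem_centralizer_singleton_iff]
      exact hxs.z_comm k hk
    have hQN2 : IsPGroup 2 ↥(Q.subgroupOf N) := h2Q.comap_subtype
    obtain ⟨P, hP⟩ := hQN2.exists_le_sylow
    obtain ⟨P', hP'⟩ : ∃ P' : Subgroup G, P' = (P : Subgroup ↥N).map N.subtype := ⟨_, rfl⟩
    have hP'2 : IsPGroup 2 ↥P' := by rw [hP']; exact P.2.map _
    have hQP' : Q ≤ P' := by
      intro k hk
      rw [hP']
      refine ⟨⟨k, hQN hk⟩, hP ?_, rfl⟩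
      rw [Subgroup.mem_subgroupOf]
      exact hk
    have hzP' : z ∈ P' := hQP' hxs.z_mem
    have hcen : ∀ c ∈ P', (∀ p ∈ P', c * p = p * c) → c = 1 ∨ c = z := by
      intro c _ hcp
      apply hCz
      intro k hk
      exact hcp k (hQP' hk)
    have hzcen : ∀ p ∈ P', z * p = p * z := by
      have hnt' : Nontrivial ↥P' := ⟨⟨⟨z, hzP'⟩, 1, fun h => hz1 (congrArg Subtype.val h)⟩⟩
      have hcn := hP'2.center_nontrivial
      obtain ⟨c, hc⟩ := exists_ne (1 : ↥(Subgroup.center ↥P'))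
      have hcc : ∀ p ∈ P', ((c : ↥P') : G) * p = p * ((c : ↥P') : G) := by
        intro p hp
        have h1 := Subgroup.mem_center_iff.1 c.2 ⟨p, hp⟩
        exact (congrArg Subtype.val h1).symm
      rcases hcen _ (c : ↥P').2 hcc with h | h
      · exfalso
        apply hc
        apply Subtype.ext
        apply Subtype.ext
        exact h
      · rw [← h]; exact hcc
    have hNP : Subgroup.normalizer ((P' : Subgroup G) : Set G) ≤ N := by
      intro n hn
      apply hCN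
      rw [Subgroup.mem_centralizer_singleton_iff]
      have h1 : n * z * n⁻¹ ∈ P' := (Subgroup.mem_normalizer_iff.1 hn z).1 hzP'
      have hninv : n⁻¹ ∈ Subgroup.normalizer ((P' : Subgroup G) : Set G) := Subgroup.inv_mem _ hn
      have h2 : ∀ p ∈ P', (n * z * n⁻¹) * p = p * (n * z * n⁻¹) := by
        intro p hp
        have h3 : n⁻¹ * p * n⁻¹⁻¹ ∈ P' := (Subgroup.mem_normalizer_iff.1 hninv p).1 hp
        rw [inv_inv] at h3
        have h4 := hzcen _ h3
        calc (n * z * n⁻¹) * p = n * (z * (n⁻¹ * p * n)) * n⁻¹ := by group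
          _ = n * ((n⁻¹ * p * n) * z) * n⁻¹ := by rw [h4]
          _ = p * (n * z * n⁻¹) := by group
      rcases hcen _ h1 h2 with h | h
      · exfalso
        apply hz1
        calc z = n⁻¹ * (n * z * n⁻¹) * n := by group
          _ = 1 := by rw [h]; group
      · calc n * z = (n * z * n⁻¹) * n := by group
          _ = z * n := by rw [h]
    have hfr := Sylow.normalizer_sup_eq_top P
    rw [← hP'] at hfr
    rw [eq_top_iff, ← hfr]
    exact sup_le hNP le_rfl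
  · left
    have hNQ : ∀ x ∈ N, x ∈ Q → x = 1 := by
      intro x hxN hxQ
      by_contra hx1
      have hxz : x ≠ z := by
        intro h
        rw [h] at hxN
        exact hzN hxN
      obtain ⟨q, hq, hqx⟩ := hxs.exists_noncomm hxQ hx1 hxz
      apply hzN
      have h1 : z = (q * x * q⁻¹) * x⁻¹ := by rw [hqx]; group
      rw [h1]
      exact N.mul_mem (hN.conj_mem x hxN q) (N.inv_mem hxN)
    have hfpf : ∀ x ∈ N, z * x = x * z → x = 1 := by
      intro x hxN hxz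
      apply hNQ x hxN
      apply hCzQ
      intro k hk
      have h1 : x * k * x⁻¹ * k⁻¹ ∈ Q := Q.mul_mem (hNz x hxz.symm k hk) (Q.inv_mem hk)
      have h2 : x * k * x⁻¹ * k⁻¹ ∈ N := by
        have h3 : x * k * x⁻¹ * k⁻¹ = x * (k * x⁻¹ * k⁻¹) := by group
        rw [h3]
        exact N.mul_mem hxN (hN.conj_mem _ (N.inv_mem hxN) k)
      have h4 := hNQ _ h2 h1
      calc x * k = (x * k * x⁻¹ * k⁻¹) * (k * x) := by group
        _ = k * x := by rw [h4, one_mul]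
    have hinv : ∀ x ∈ N, z * x * z⁻¹ = x⁻¹ :=
      inverts_of_fpf N z hz2 (fun x hx => hN.conj_mem x hx z) hfpf
    have hodd : Odd (Nat.card ↥N) := by
      rw [← Nat.not_even_iff_odd]
      intro heven
      obtain ⟨t, ht⟩ := exists_prime_orderOf_dvd_card' (G := ↥N) 2 heven.two_dvd
      have ht2 : (t : G) * t = 1 := by
        have h1 : t ^ 2 = 1 := by rw [← ht]; exact pow_orderOf_eq_one t
        have h2 := congrArg Subtype.val h1
        rw [← pow_two]
        exact h2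
      have ht1 : (t : G) ≠ 1 := by
        intro h
        have : t = 1 := Subtype.ext h
        rw [this, orderOf_one] at ht
        omega
      have h3 := hinv t t.2
      have h4 : (t : G)⁻¹ = t := by rw [inv_eq_iff_mul_eq_one]; exact ht2
      rw [h4] at h3
      apply ht1
      apply hfpf t t.2
      calc z * t = (z * t * z⁻¹) * z := by group
        _ = t * z := by rw [h3]
    apply hL4 N hodd
    rw [Subgroup.normalizer_eq_top]
    exact le_top

end Cfsg.Agent.Lib.Helper10.LargeXS
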