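import Mathlib
import Cfsg.Agent.Lib.Helper10.LargeXS1

set_option autoImplicit false

namespace Cfsg.Agent.Lib.Helper10.LargeXS

theorem XS.map_injective {H G : Type*} [Group H] [Group G] {Q : Subgroup H} {z : H} (h : XS Q z)
    (f : H →* G) (hf : Function.Injective f) : XS (Q.map f) (f z) := by
  refine ⟨?_, ?_, ⟨z, h.z_mem, rfl⟩, ?_, ?_, ?_, ?_⟩
  · intro h1
    apply h.z_ne
    apply hf
    rw [h1, map_one]
  · rw [← map_mul, h.z_sq, map_one]
  · rintro _ ⟨x, hx, rfl⟩
    rw [← map_mul, ← map_mul, h.z_comm x hx]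
  · rintro _ ⟨x, hx, rfl⟩ hall
    have hall' : ∀ y ∈ Q, x * y = y * x := by
      intro y hy
      apply hf
      rw [map_mul, map_mul]
      exact hall (f y) ⟨y, hy, rfl⟩
    rcases h.center x hx hall' with h1 | h1
    · left; rw [h1, map_one]
    · right; rw [h1]
  · rintro _ ⟨x, hx, rfl⟩ _ ⟨y, hy, rfl⟩
    rcases h.comm x hx y hy with h1 | h1
    · left; rw [← map_mul, ← map_mul, h1]
    · right; rw [← map_mul, ← map_mul, ← map_mul, h1]
  · rintro _ ⟨x, hx, rfl⟩
    rcases h.sq x hx with h1 | h1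
    · left; rw [← map_mul, h1, map_one]
    · right; rw [← map_mul, h1]

end Cfsg.Agent.Lib.Helper10.LargeXS
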