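import Mathlib
import Cfsg.Agent.Lib.Helper10.LargeXS5

set_option autoImplicit false

namespace Cfsg.Agent.Lib.Helper10.LargeXS

variable {G : Type*} [Group G] {Qz : Subgroup G} {z : G}

theorem XS.comm_all' (h : XS Qz z) (C' : Subgroup G) (hC' : C' ≤ Qz) {c0 w x : G}
    (hc0 : c0 ∈ C') (hw : w ∈ Qz) (hc0w : c0 * w = z * (w * c0))
    (hxC : ∀ r ∈ C', r * w = w * r → x * r = r * x) (hxc0 : x * c0 = c0 * x) :
    ∀ y ∈ C', x * y = y * x := by
  intro y hy
  rcases h.comm y (hC' hy) w hw with hyw | hyw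
  · exact hxC y hy hyw
  · have hq1 : c0⁻¹ * y ∈ C' := C'.mul_mem (C'.inv_mem hc0) hy
    have h1 := hxC (c0⁻¹ * y) hq1 (h.inv_mul_comm (hC' hc0) hc0w hyw)
    calc x * y = x * (c0 * (c0⁻¹ * y)) := by rw [mul_inv_cancel_left]
      _ = c0 * (x * (c0⁻¹ * y)) := by rw [← mul_assoc, hxc0, mul_assoc]
      _ = c0 * (c0⁻¹ * y * x) := by rw [h1]
      _ = y * x := by rw [← mul_assoc, mul_inv_cancel_left]

theorem XS.double_centralizer_finset [DecidableEq G] (h : XS Qz z) (S : Finset G) :
    (∀ s ∈ S, s ∈ Qz) → ∀ x ∈ Qz,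
      (∀ c ∈ Qz, (∀ s ∈ S, c * s = s * c) → x * c = c * x) →
      x ∈ Subgroup.closure (insert z (S : Set G)) := by
  induction S using Finset.induction_on with
  | empty =>
    intro _ x hx hxc
    have hall : ∀ y ∈ Qz, x * y = y * x := fun y hy => hxc y hy (fun s hs => absurd hs (Finset.notMem_empty s))
    rcases h.center x hx hall with h1 | h1
    · rw [h1]; exact Subgroup.one_mem _
    · rw [h1]; exact Subgroup.subset_closure (Set.mem_insert _ _)
  | insert w S' hwS' ih =>
    intro hS x hx hxc
    have hS' : ∀ s ∈ S', s ∈ Qz := fun s hs => hS s (Finset.mem_insert_of_mem hs)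
    have hw : w ∈ Qz := hS w (Finset.mem_insert_self _ _)
    have hmono : Subgroup.closure (insert z ((S' : Finset G) : Set G)) ≤
        Subgroup.closure (insert z ((insert w S' : Finset G) : Set G)) := by
      apply Subgroup.closure_mono
      apply Set.insert_subset_insert
      intro s hs
      exact Finset.mem_coe.2 (Finset.mem_insert_of_mem (Finset.mem_coe.1 hs))
    have hwcl : w ∈ Subgroup.closure (insert z ((insert w S' : Finset G) : Set G)) := by
      apply Subgroup.subset_closure
      apply Set.mem_insert_of_mem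
      exact Finset.mem_coe.2 (Finset.mem_insert_self _ _)
    obtain ⟨C', hC'def⟩ : ∃ C' : Subgroup G, C' = Qz ⊓ Subgroup.centralizer ((S' : Finset G) : Set G) :=
      ⟨_, rfl⟩
    have hC'mem : ∀ c, c ∈ C' ↔ c ∈ Qz ∧ ∀ s ∈ S', c * s = s * c := by
      intro c
      rw [hC'def, Subgroup.mem_inf, Subgroup.mem_centralizer_iff]
      constructor
      · rintro ⟨h1, h2⟩
        exact ⟨h1, fun s hs => (h2 s (Finset.mem_coe.2 hs)).symm⟩
      · rintro ⟨h1, h2⟩
        exact ⟨h1, fun s hs => (h2 s (Finset.mem_coe.1 hs)).symm⟩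
    have hC'le : C' ≤ Qz := by rw [hC'def]; exact inf_le_left
    have hxC : ∀ r ∈ C', r * w = w * r → x * r = r * x := by
      intro r hr hrw
      obtain ⟨hrQ, hrS⟩ := (hC'mem r).1 hr
      apply hxc r hrQ
      intro s hs
      rcases Finset.mem_insert.1 hs with h1 | h1
      · rw [h1]; exact hrw
      · exact hrS s h1
    by_cases hcase : ∀ c ∈ C', c * w = w * c
    · apply hmono
      apply ih hS' x hx
      intro c hc hcS
      have hcC' : c ∈ C' := (hC'mem c).2 ⟨hc, hcS⟩
      exact hxC c hcC' (hcase c hcC')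
    · rw [not_forall] at hcase
      obtain ⟨c0, hc0⟩ := hcase
      rw [Classical.not_imp] at hc0
      obtain ⟨hc0C', hc0w⟩ := hc0
      have hc0w' : c0 * w = z * (w * c0) := by
        rcases h.comm c0 (hC'le hc0C') w hw with h1 | h1
        · exact absurd h1 hc0w
        · exact h1
      rcases h.comm x hx c0 (hC'le hc0C') with hxc0 | hxc0
      · apply hmono
        apply ih hS' x hx
        intro c hc hcS
        exact h.comm_all' C' hC'le hc0C' hw hc0w' hxC hxc0 c ((hC'mem c).2 ⟨hc, hcS⟩)
      · have hwc0 : w * c0 = z * (c0 * w) := h.swap hc0w'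
        have hyc0 : (x * w) * c0 = c0 * (x * w) := by
          calc (x * w) * c0 = x * (w * c0) := by rw [mul_assoc]
            _ = x * (z * (c0 * w)) := by rw [hwc0]
            _ = z * (x * c0 * w) := by
                rw [← mul_assoc, h.z_comm x hx, mul_assoc, mul_assoc]
            _ = z * (z * (c0 * x) * w) := by rw [hxc0]
            _ = c0 * (x * w) := by
                rw [mul_assoc z, ← mul_assoc z z, h.z_sq, one_mul, mul_assoc]
        have hyC : ∀ r ∈ C', r * w = w * r → (x * w) * r = r * (x * w) := by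
          intro r hr hrw
          rw [mul_assoc, ← hrw, ← mul_assoc, hxC r hr hrw, mul_assoc]
        have hall := h.comm_all' C' hC'le hc0C' hw hc0w' hyC hyc0
        have h1 : x * w ∈ Subgroup.closure (insert z ((S' : Finset G) : Set G)) := by
          apply ih hS' (x * w) (Qz.mul_mem hx hw)
          intro c hc hcS
          exact hall c ((hC'mem c).2 ⟨hc, hcS⟩)
        have h2 : x = (x * w) * w⁻¹ := by rw [mul_inv_cancel_right]
        rw [h2]
        exact Subgroup.mul_mem _ (hmono h1) (Subgroup.inv_mem _ hwcl)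

theorem XS.double_centralizer_subgroup [Finite G] (h : XS Qz z) (W : Subgroup G) (hW : W ≤ Qz)
    (hzW : z ∈ W) {x : G} (hx : x ∈ Qz)
    (hxc : ∀ c ∈ Qz, (∀ w ∈ W, c * w = w * c) → x * c = c * x) : x ∈ W := by
  classical
  have hfin : ((W : Set G)).Finite := Set.toFinite _
  have h1 := h.double_centralizer_finset hfin.toFinset
    (fun s hs => hW ((Set.Finite.mem_toFinset hfin).1 hs)) x hx
    (fun c hc hcS => hxc c hc (fun w hw => hcS w ((Set.Finite.mem_toFinset hfin).2 hw)))
  have h2 : Subgroup.closure (insert z ((hfin.toFinset : Finset G) : Set G)) ≤ W := by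
    rw [Subgroup.closure_le]
    intro y hy
    rcases Set.mem_insert_iff.1 hy with h3 | h3
    · rw [h3]; exact hzW
    · exact (Set.Finite.mem_toFinset hfin).1 (Finset.mem_coe.1 h3)
  exact h2 h1

end Cfsg.Agent.Lib.Helper10.LargeXS
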