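import Mathlib
import Cfsg.Agent.Lib.Helper10.LargeXS6

set_option autoImplicit false

namespace Cfsg.Agent.Lib.Helper10.LargeXS

variable {G : Type*} [Group G] {Q : Subgroup G} {z : G}

theorem mem_zpowers_of_sq {z : G} (hz2 : z * z = 1) (x : G) :
    x ∈ Subgroup.zpowers z ↔ (x = 1 ∨ x = z) := by
  constructor
  · intro hx
    have hle : Subgroup.zpowers z ≤ Subgroup.closure ({z} : Set G) := by
      rw [Subgroup.zpowers_eq_closure]
    have hx' := hle hx
    have hzinv : z⁻¹ = z := by rw [inv_eq_iff_mul_eq_one]; exact hz2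
    refine Subgroup.closure_induction_left (p := fun y _ => y = 1 ∨ y = z) (Or.inl rfl) ?_ ?_ hx'
    · intro a ha y _ hy
      rw [Set.mem_singleton_iff] at ha
      rcases hy with rfl | rfl
      · right; rw [ha, mul_one]
      · left; rw [ha]; exact hz2
    · intro a ha y _ hy
      rw [Set.mem_singleton_iff] at ha
      rcases hy with rfl | rfl
      · right; rw [ha, mul_one, hzinv]
      · left; rw [ha, hzinv]; exact hz2
  · rintro (rfl | rfl)
    · exact Subgroup.one_mem _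
    · exact Subgroup.mem_zpowers _

theorem XS.anti_iff (h : XS Q z) {x y : G} (hx : x ∈ Q) (hy : y ∈ Q) :
    x * y = z * (y * x) ↔ ¬ (x * y = y * x) := by
  constructor
  · intro h1 h2
    rw [h2] at h1
    apply h.z_ne
    have h3 : 1 * (y * x) = z * (y * x) := by rw [one_mul]; exact h1
    exact (mul_right_cancel h3).symm
  · intro h1
    rcases h.comm x hx y hy with h2 | h2
    · exact absurd h2 h1
    · exact h2

theorem XS.comm_mul_iff (h : XS Q z) {x y₁ y₂ : G} (hx : x ∈ Q) (hy₁ : y₁ ∈ Q) (hy₂ : y₂ ∈ Q) :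
    x * (y₁ * y₂) = (y₁ * y₂) * x ↔ (x * y₁ = y₁ * x ↔ x * y₂ = y₂ * x) := by
  by_cases hc : x * y₁ = y₁ * x
  · have h1 : x * (y₁ * y₂) = (y₁ * y₂) * x ↔ x * y₂ = y₂ * x := by
      constructor
      · intro h2
        have h3 : y₁ * (x * y₂) = y₁ * (y₂ * x) := by
          calc y₁ * (x * y₂) = (y₁ * x) * y₂ := by rw [mul_assoc]
            _ = (x * y₁) * y₂ := by rw [hc]
            _ = x * (y₁ * y₂) := by rw [mul_assoc]
            _ = (y₁ * y₂) * x := h2
            _ = y₁ * (y₂ * x) := by rw [mul_assoc]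
        exact mul_left_cancel h3
      · intro h2
        calc x * (y₁ * y₂) = (x * y₁) * y₂ := by rw [mul_assoc]
          _ = (y₁ * x) * y₂ := by rw [hc]
          _ = y₁ * (x * y₂) := by rw [mul_assoc]
          _ = y₁ * (y₂ * x) := by rw [h2]
          _ = (y₁ * y₂) * x := by rw [mul_assoc]
    rw [h1]
    constructor
    · intro h2; exact ⟨fun _ => h2, fun _ => hc⟩
    · intro h2; exact h2.1 hc
  · have ha : x * y₁ = z * (y₁ * x) := (h.anti_iff hx hy₁).2 hc
    have hzy : y₁ * z = z * y₁ := h.z_comm y₁ hy₁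
    have h1 : x * (y₁ * y₂) = (y₁ * y₂) * x ↔ x * y₂ = z * (y₂ * x) := by
      constructor
      · intro h2
        have h3 : y₁ * (z * (x * y₂)) = y₁ * (y₂ * x) := by
          calc y₁ * (z * (x * y₂)) = (y₁ * z) * (x * y₂) := by rw [mul_assoc]
            _ = (z * y₁) * (x * y₂) := by rw [hzy]
            _ = (z * (y₁ * x)) * y₂ := by simp only [mul_assoc]
            _ = (x * y₁) * y₂ := by rw [ha]
            _ = x * (y₁ * y₂) := by rw [mul_assoc]
            _ = (y₁ * y₂) * x := h2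
            _ = y₁ * (y₂ * x) := by rw [mul_assoc]
        have h4 := mul_left_cancel h3
        calc x * y₂ = (z * z) * (x * y₂) := by rw [h.z_sq, one_mul]
          _ = z * (z * (x * y₂)) := by rw [mul_assoc]
          _ = z * (y₂ * x) := by rw [h4]
      · intro h2
        calc x * (y₁ * y₂) = (x * y₁) * y₂ := by rw [mul_assoc]
          _ = (z * (y₁ * x)) * y₂ := by rw [ha]
          _ = (z * y₁) * (x * y₂) := by simp only [mul_assoc]
          _ = (y₁ * z) * (x * y₂) := by rw [hzy]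
          _ = (y₁ * z) * (z * (y₂ * x)) := by rw [h2]
          _ = y₁ * ((z * z) * (y₂ * x)) := by simp only [mul_assoc]
          _ = (y₁ * y₂) * x := by rw [h.z_sq, one_mul, mul_assoc]
    rw [h1, h.anti_iff hx hy₂]
    constructor
    · intro h2; exact ⟨fun h3 => absurd h3 hc, fun h3 => absurd h3 h2⟩
    · intro h2 h3; exact hc (h2.2 h3)

theorem comm_inv_iff {x y : G} : x * y⁻¹ = y⁻¹ * x ↔ x * y = y * x := by
  constructor
  · intro h
    calc x * y = y * (y⁻¹ * x) * y := by group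
      _ = y * (x * y⁻¹) * y := by rw [h]
      _ = y * x := by group
  · intro h
    calc x * y⁻¹ = y⁻¹ * (y * x) * y⁻¹ := by group
      _ = y⁻¹ * (x * y) * y⁻¹ := by rw [h]
      _ = y⁻¹ * x := by group

theorem comm_conj_iff {a x y : G} :
    (a * x * a⁻¹) * y = y * (a * x * a⁻¹) ↔ x * (a⁻¹ * y * a) = (a⁻¹ * y * a) * x := by
  constructor
  · intro h
    calc x * (a⁻¹ * y * a) = a⁻¹ * ((a * x * a⁻¹) * y) * a := by group
      _ = a⁻¹ * (y * (a * x * a⁻¹)) * a := by rw [h]
      _ = (a⁻¹ * y * a) * x := by group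
  · intro h
    calc (a * x * a⁻¹) * y = a * (x * (a⁻¹ * y * a)) * a⁻¹ := by group
      _ = a * ((a⁻¹ * y * a) * x) * a⁻¹ := by rw [h]
      _ = y * (a * x * a⁻¹) := by group

theorem XS.comm_commutator_iff (h : XS Q z) {a : G} (ha2 : a * a = 1)
    (haQ : ∀ k ∈ Q, a * k * a⁻¹ ∈ Q) {q x : G} (hq : q ∈ Q) (hx : x ∈ Q) :
    q * (a * x * a⁻¹ * x⁻¹) = (a * x * a⁻¹ * x⁻¹) * q ↔
      (a * q * a⁻¹ * q⁻¹) * x = x * (a * q * a⁻¹ * q⁻¹) := by
  have hainv : a⁻¹ = a := by rw [inv_eq_iff_mul_eq_one]; exact ha2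
  have h1 := h.comm_mul_iff hq (haQ x hx) (Q.inv_mem hx)
  have h2 := h.comm_mul_iff hx (haQ q hq) (Q.inv_mem hq)
  have h3 : q * (a * x * a⁻¹) = (a * x * a⁻¹) * q ↔ x * (a * q * a⁻¹) = (a * q * a⁻¹) * x := by
    have h4 := comm_conj_iff (a := a) (x := x) (y := q)
    rw [hainv] at h4
    rw [hainv]
    constructor
    · intro h5; exact h4.1 h5.symm
    · intro h5; exact (h4.2 h5).symm
  have h5 : q * (a * x * a⁻¹ * x⁻¹) = (a * x * a⁻¹ * x⁻¹) * q ↔
      (x * (a * q * a⁻¹) = (a * q * a⁻¹) * x ↔ x * q = q * x) := by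
    rw [h1, h3, comm_inv_iff]
    constructor
    · intro h6; exact ⟨fun h7 => (h6.1 h7).symm, fun h7 => h6.2 h7.symm⟩
    · intro h6; exact ⟨fun h7 => (h6.1 h7).symm, fun h7 => h6.2 h7.symm⟩
  rw [h5, ← comm_inv_iff (x := x) (y := q), ← h2]
  constructor
  · intro h6; exact h6.symm
  · intro h6; exact h6.symm

end Cfsg.Agent.Lib.Helper10.LargeXS
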