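import Mathlib
import Cfsg.Prelude.Def_Transfer
import Cfsg.Agent.Lib.Helper10.LargeXS1
import Cfsg.Agent.Lib.Helper1.Frat

set_option autoImplicit false

namespace Cfsg.Agent.Lib.Helper10.LargeXS

open scoped commutatorElement

variable {G : Type*} [Group G]

theorem XS.extraspecial_of_sub [Finite G] {Q : Subgroup G} {z : G} (h : XS Q z) (P : Subgroup G)
    (hPQ : P ≤ Q) (hzP : z ∈ P)
    (hcen : ∀ x ∈ P, (∀ y ∈ P, x * y = y * x) → x = 1 ∨ x = z)
    (hnab : ∃ x ∈ P, ∃ y ∈ P, x * y ≠ y * x) (h2 : IsPGroup 2 ↥P) :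
    Cfsg.IsExtraspecial 2 ↥P := by
  haveI : Fact (Nat.Prime 2) := ⟨Nat.prime_two⟩
  have hzc : (⟨z, hzP⟩ : ↥P) ∈ Subgroup.center ↥P := by
    rw [Subgroup.mem_center_iff]
    intro y
    apply Subtype.ext
    exact h.z_comm y.1 (hPQ y.2)
  have hz1 : (⟨z, hzP⟩ : ↥P) ≠ 1 := fun hh => h.z_ne (congrArg Subtype.val hh)
  have hcenter : ∀ c : ↥P, c ∈ Subgroup.center ↥P ↔ (c = 1 ∨ c = ⟨z, hzP⟩) := by
    intro c
    constructor
    · intro hc
      rw [Subgroup.mem_center_iff] at hc
      have hall : ∀ y ∈ P, c.1 * y = y * c.1 := by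
        intro y hy
        exact (congrArg Subtype.val (hc ⟨y, hy⟩)).symm
      rcases hcen c.1 c.2 hall with h1 | h1
      · left; exact Subtype.ext h1
      · right; exact Subtype.ext h1
    · rintro (h1 | h1)
      · rw [h1]; exact Subgroup.one_mem _
      · rw [h1]; exact hzc
  have hcomm_le : commutator ↥P ≤ Subgroup.center ↥P := by
    rw [commutator_eq_closure, Subgroup.closure_le]
    rintro _ ⟨a, b, rfl⟩
    rw [SetLike.mem_coe, hcenter]
    rcases h.comm a.1 (hPQ a.2) b.1 (hPQ b.2) with h1 | h1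
    · left
      apply Subtype.ext
      show a.1 * b.1 * a.1⁻¹ * b.1⁻¹ = 1
      rw [h1, mul_inv_cancel_right, mul_inv_cancel]
    · right
      apply Subtype.ext
      show a.1 * b.1 * a.1⁻¹ * b.1⁻¹ = z
      rw [h1]
      group
  have hcomm_ge : Subgroup.center ↥P ≤ commutator ↥P := by
    intro c hc
    rcases (hcenter c).1 hc with h1 | h1
    · rw [h1]; exact Subgroup.one_mem _
    · obtain ⟨x, hx, y, hy, hxy⟩ := hnab
      have h3 : x * y = z * (y * x) := by
        rcases h.comm x (hPQ hx) y (hPQ hy) with h4 | h4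
        · exact absurd h4 hxy
        · exact h4
      have h5 : c = ⁅(⟨x, hx⟩ : ↥P), ⟨y, hy⟩⁆ := by
        rw [h1]
        apply Subtype.ext
        show z = x * y * x⁻¹ * y⁻¹
        rw [h3]
        group
      rw [h5]
      exact Subgroup.commutator_mem_commutator (Subgroup.mem_top _) (Subgroup.mem_top _)
  have hcomm_eq : commutator ↥P = Subgroup.center ↥P := le_antisymm hcomm_le hcomm_ge
  have hfr_ge : Subgroup.center ↥P ≤ frattini ↥P := by
    rw [← hcomm_eq]
    exact Cfsg.Agent.Lib.Helper1.pgroup_commutator_le_frattini h2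
  have hfr_le : frattini ↥P ≤ Subgroup.center ↥P := by
    apply Cfsg.Agent.Lib.Helper1.frattini_le_of_elementary_quotient (p := 2) (Subgroup.center ↥P) hcomm_le
    intro x
    rw [hcenter]
    rcases h.sq x.1 (hPQ x.2) with h1 | h1
    · left
      apply Subtype.ext
      show x.1 ^ 2 = 1
      rw [pow_two]; exact h1
    · right
      apply Subtype.ext
      show x.1 ^ 2 = z
      rw [pow_two]; exact h1
  refine ⟨⟨h2, le_antisymm hfr_le hfr_ge, hcomm_eq⟩, ?_⟩
  rw [Nat.card_eq_two_iff]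
  refine ⟨⟨1, Subgroup.one_mem _⟩, ⟨⟨z, hzP⟩, hzc⟩, ?_, ?_⟩
  · intro hh
    apply hz1
    exact (congrArg Subtype.val hh).symm
  · ext c
    simp only [Set.mem_insert_iff, Set.mem_singleton_iff, Set.mem_univ, iff_true]
    rcases (hcenter c.1).1 c.2 with h1 | h1
    · left; exact Subtype.ext h1
    · right; exact Subtype.ext h1

end Cfsg.Agent.Lib.Helper10.LargeXS
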