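import Mathlib
import Cfsg.Prelude.Def_MonsterType
import Cfsg.Agent.Lib.Helper10.LargeXS9
import Cfsg.Agent.Lib.Helper10.LargeXS12

set_option autoImplicit false

namespace Cfsg.Agent.Lib.Helper10.LargeXS

variable {G : Type*} [Group G]

theorem eq_one_of_odd_of_pow_two [Finite G] {K : Subgroup G} (hK : Odd (Nat.card ↥K))
    (a : G) (ha : a ∈ K) (k : ℕ) (h : a ^ (2 ^ k) = 1) : a = 1 := by
  have h3 : orderOf a ∣ 2 ^ k := orderOf_dvd_of_pow_eq_one h
  have h4 : orderOf a ∣ Nat.card ↥K := by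
    have h5 : orderOf (⟨a, ha⟩ : ↥K) ∣ Nat.card ↥K := orderOf_dvd_natCard _
    have h6 : orderOf (⟨a, ha⟩ : ↥K) = orderOf a := by
      rw [← Subgroup.orderOf_coe]
    rw [h6] at h5
    exact h5
  have hcop : (Nat.card ↥K).Coprime (2 ^ k) := by
    apply Nat.Coprime.pow_right
    exact (Nat.coprime_two_right).2 hK
  have h7 : orderOf a = 1 := Nat.eq_one_of_dvd_coprimes hcop h4 h3
  exact orderOf_eq_one_iff.1 h7

theorem eq_bot_of_three_fpf [Finite G] (K : Subgroup G) (z u : G) (hz2 : z * z = 1)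
    (hu2 : u * u = 1)
    (hzN : ∀ x ∈ K, z * x * z⁻¹ ∈ K) (huN : ∀ x ∈ K, u * x * u⁻¹ ∈ K)
    (hfz : ∀ x ∈ K, z * x = x * z → x = 1) (hfu : ∀ x ∈ K, u * x = x * u → x = 1)
    (hfzu : ∀ x ∈ K, (z * u) * x = x * (z * u) → x = 1) : K = ⊥ := by
  have hzinvK := inverts_of_fpf K z hz2 hzN hfz
  have huinvK := inverts_of_fpf K u hu2 huN hfu
  rw [Subgroup.eq_bot_iff_forall]
  intro x hx
  apply hfzu x hx
  have h1 := hzinvK x hx
  have h2 := huinvK x⁻¹ (K.inv_mem hx)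
  rw [inv_inv] at h2
  have h3 : z * (u * x⁻¹ * u⁻¹) * z⁻¹ = x⁻¹ := by rw [h2]; exact h1
  have h4 : (z * u) * x⁻¹ * (z * u)⁻¹ = x⁻¹ := by
    calc (z * u) * x⁻¹ * (z * u)⁻¹ = z * (u * x⁻¹ * u⁻¹) * z⁻¹ := by group
      _ = x⁻¹ := h3
  have h5 : (z * u) * x⁻¹ = x⁻¹ * (z * u) := by
    calc (z * u) * x⁻¹ = ((z * u) * x⁻¹ * (z * u)⁻¹) * (z * u) := by group
      _ = x⁻¹ * (z * u) := by rw [h4]
  calc z * u * x = x * (x⁻¹ * (z * u)) * x := by group
    _ = x * ((z * u) * x⁻¹) * x := by rw [h5]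
    _ = x * (z * u) := by group

theorem large_of_xs [Finite G] {P : Subgroup G} {z : G} (hxs : XS P z) (h2 : IsPGroup 2 ↥P)
    (hnab : ∃ x ∈ P, ∃ y ∈ P, x * y ≠ y * x)
    (hC : ∀ c : G, (∀ x ∈ P, c * x = x * c) → c ∈ P)
    (hN : ∀ c : G, c * z = z * c → ∀ x ∈ P, c * x * c⁻¹ ∈ P)
    (hL4 : ∀ K : Subgroup G, Odd (Nat.card ↥K) → P ≤ Subgroup.normalizer (K : Set G) → K = ⊥) :
    Cfsg.IsLargeExtraspecial P := by
  have hE : Cfsg.IsExtraspecial 2 ↥P :=
    hxs.extraspecial_of_sub P le_rfl hxs.z_mem hxs.center hnab h2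
  have hZmap : ∀ x : G, x ∈ (Subgroup.center ↥P).map P.subtype ↔ (x = 1 ∨ x = z) := by
    intro x
    constructor
    · rintro ⟨y, hy, rfl⟩
      apply hxs.center y.1 y.2
      intro w' hw'
      have h1 := Subgroup.mem_center_iff.1 hy ⟨w', hw'⟩
      exact (congrArg Subtype.val h1).symm
    · rintro (h1 | h1)
      · rw [h1]; exact Subgroup.one_mem _
      · rw [h1]
        refine ⟨⟨z, hxs.z_mem⟩, ?_, rfl⟩
        rw [SetLike.mem_coe, Subgroup.mem_center_iff]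
        intro y
        apply Subtype.ext
        exact hxs.z_comm y.1 y.2
  refine ⟨hE, ?_, ?_, hL4⟩
  · ext c
    rw [hZmap, Subgroup.mem_centralizer_iff]
    constructor
    · intro h
      have h1 : ∀ x ∈ P, c * x = x * c := fun k hk => (h k hk).symm
      exact hxs.center c (hC c h1) h1
    · rintro (rfl | rfl) k hk
      · rw [one_mul, mul_one]
      · exact hxs.z_comm k hk
  · intro h hh
    rw [Subgroup.mem_centralizer_iff] at hh
    have hhz : h * z = z * h := (hh z ((hZmap z).2 (Or.inr rfl))).symm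
    exact mem_normalizer_of_conj_mem (hN h hhz)

end Cfsg.Agent.Lib.Helper10.LargeXS
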