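import Mathlib
import Cfsg.Agent.Lib.Helper10.LargeXS24

set_option autoImplicit false

namespace Cfsg.Agent.Lib.Helper10.LargeXS

variable {G : Type*} [Group G]

theorem mk_eq_iff {t : G} (ht2 : t * t = 1) (Ct : Subgroup G)
    [hn : ((Subgroup.zpowers t).subgroupOf Ct).Normal] (a b : ↥Ct) :
    QuotientGroup.mk' ((Subgroup.zpowers t).subgroupOf Ct) a =
      QuotientGroup.mk' ((Subgroup.zpowers t).subgroupOf Ct) b ↔
      ((b : G) = a ∨ (b : G) = a * t) := by
  rw [QuotientGroup.mk'_apply, QuotientGroup.mk'_apply, QuotientGroup.eq, Subgroup.mem_subgroupOf,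
    mem_zpowers_of_sq ht2]
  have hc : ((a⁻¹ * b : ↥Ct) : G) = (a : G)⁻¹ * b := rfl
  rw [hc]
  constructor
  · rintro (h | h)
    · left
      calc (b : G) = a * ((a : G)⁻¹ * b) := by group
        _ = a := by rw [h, mul_one]
    · right
      calc (b : G) = a * ((a : G)⁻¹ * b) := by group
        _ = a * t := by rw [h]
  · rintro (h | h)
    · left; rw [h]; group
    · right; rw [h]; group

theorem mk_eq_one_iff {t : G} (ht2 : t * t = 1) (Ct : Subgroup G)
    [hn : ((Subgroup.zpowers t).subgroupOf Ct).Normal] (a : ↥Ct) :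
    QuotientGroup.mk' ((Subgroup.zpowers t).subgroupOf Ct) a = 1 ↔
      ((a : G) = 1 ∨ (a : G) = t) := by
  have h := mk_eq_iff ht2 Ct 1 a
  rw [map_one] at h
  rw [eq_comm, h, Subgroup.coe_one, one_mul]

end Cfsg.Agent.Lib.Helper10.LargeXS
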