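import Mathlib
import Cfsg.Prelude.Def_CaseTheorems
import Cfsg.Agent.Lib.Helper10.LargeXS25
import Cfsg.Agent.S0026

set_option autoImplicit false

namespace Cfsg.Agent.Lib.Helper10.LargeXS

theorem two_odd_decomp {D : Type*} [Group D] [Finite D] (z : D) (hz : orderOf z = 2)
    (h4 : ¬ 4 ∣ Nat.card D) : ∀ d : D, d ∈ Cfsg.oddCore D ∨ d * z ∈ Cfsg.oddCore D := by
  have : Fact (Nat.Prime 2) := ⟨Nat.prime_two⟩
  have hzz : z * z = 1 := by rw [← pow_two, ← hz, pow_orderOf_eq_one]
  have h2dvd : 2 ∣ Nat.card D := by rw [← hz]; exact orderOf_dvd_natCard z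
  have hZcard : Nat.card ↥(Subgroup.zpowers z) = 2 := by rw [Nat.card_zpowers, hz]
  have hZp : IsPGroup 2 ↥(Subgroup.zpowers z) := by
    apply IsPGroup.of_card (n := 1)
    rw [hZcard, pow_one]
  obtain ⟨P, hP⟩ := hZp.exists_le_sylow
  have hPcard : Nat.card ↥P = 2 := by
    obtain ⟨k, hk⟩ := (IsPGroup.iff_card (p := 2)).1 P.2
    have h1 : Nat.card ↥(P : Subgroup D) ∣ Nat.card D := Subgroup.card_subgroup_dvd_card _
    have h2 : Nat.card ↥(Subgroup.zpowers z) ∣ Nat.card ↥(P : Subgroup D) :=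
      Subgroup.card_dvd_of_le hP
    rw [hZcard] at h2
    have hk' : Nat.card ↥(P : Subgroup D) = 2 ^ k := hk
    rw [hk'] at h1 h2
    have hk1 : k ≤ 1 := by
      by_contra hlt
      rw [not_le] at hlt
      apply h4
      have : (4 : ℕ) = 2 ^ 2 := by norm_num
      rw [this]
      exact (pow_dvd_pow 2 hlt).trans h1
    have hk0 : k ≠ 0 := by
      intro h0
      rw [h0, pow_zero] at h2
      omega
    have : k = 1 := by omega
    show Nat.card ↥(P : Subgroup D) = 2
    rw [hk', this, pow_one]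
  have hPeq : (P : Subgroup D) = Subgroup.zpowers z := by
    symm
    apply Subgroup.eq_of_le_of_card_ge hP
    rw [hZcard]
    exact hPcard.le
  have hcyc : IsCyclic ↥P := by
    exact isCyclic_of_prime_card (p := 2) hPcard
  have hmin : (Nat.card D).minFac = 2 := (Nat.minFac_eq_two_iff _).2 h2dvd
  have hcomp := IsCyclic.isComplement' hmin hcyc
  obtain ⟨K, hKdef⟩ : ∃ K : Subgroup D, K = (MonoidHom.transferSylow P
    (hcyc.normalizer_le_centralizer hmin)).ker := ⟨_, rfl⟩
  rw [← hKdef] at hcomp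
  have hKn : K.Normal := by rw [hKdef]; infer_instance
  have hcard := hcomp.card_mul_card
  have hPcard' : Nat.card ↥(P : Subgroup D) = 2 := hPcard
  rw [hPcard'] at hcard
  have hKodd : (Nat.card ↥K).Coprime 2 := by
    rw [Nat.coprime_two_right]
    by_contra hne
    rw [Nat.not_odd_iff_even] at hne
    obtain ⟨m, hm⟩ := hne
    apply h4
    rw [← hcard, hm]
    exact ⟨m, by ring⟩
  have hKle : K ≤ Cfsg.oddCore D := by
    apply le_sSup
    exact ⟨hKn, hKodd⟩
  intro d
  obtain ⟨⟨k, p⟩, hkp⟩ := hcomp.2 d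
  simp only at hkp
  have hp : (p : D) ∈ Subgroup.zpowers z := by rw [← hPeq]; exact p.2
  rw [Subgroup.mem_zpowers_iff] at hp
  obtain ⟨n, hn⟩ := hp
  rcases Int.even_or_odd n with ⟨m, hm⟩ | ⟨m, hm⟩
  · left
    have : (p : D) = 1 := by
      rw [← hn, hm, ← two_mul, zpow_mul, zpow_two, hzz, one_zpow]
    rw [← hkp, this, mul_one]
    exact hKle k.2
  · right
    have : (p : D) = z := by
      rw [← hn, hm, zpow_add, zpow_mul, zpow_two, hzz, one_zpow, one_mul, zpow_one]
    rw [← hkp, this, mul_assoc, hzz, mul_one]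
    exact hKle k.2

theorem eq_one_of_two_mul_odd {G : Type*} [Group G] [Finite G] {A : Subgroup G}
    (hA : Odd (Nat.card ↥A)) (r a : G) (ha : a ∈ A) (hra : r * a = a * r) (k : ℕ)
    (hr : r ^ (2 ^ k) = 1) (hrak : (r * a) ^ (2 ^ k) = 1) : a = 1 := by
  apply eq_one_of_odd_of_pow_two hA a ha k
  have h1 : Commute r a := hra
  rw [h1.mul_pow, hr, one_mul] at hrak
  exact hrak

variable {G : Type*} [Group G]

theorem XS.of_le {Q R : Subgroup G} {z : G} (h : XS Q z) (hRQ : R ≤ Q) (hz : z ∈ R)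
    (hc : ∀ x ∈ R, (∀ y ∈ R, x * y = y * x) → x = 1 ∨ x = z) : XS R z :=
  ⟨h.z_ne, h.z_sq, hz, fun x hx => h.z_comm x (hRQ hx), hc,
    fun x hx y hy => h.comm x (hRQ hx) y (hRQ hy), fun x hx => h.sq x (hRQ hx)⟩

theorem XS.subgroupOf {R M : Subgroup G} {z : G} (h : XS R z) (hRM : R ≤ M) :
    XS (R.subgroupOf M) (⟨z, hRM h.z_mem⟩ : ↥M) := by
  refine ⟨?_, ?_, ?_, ?_, ?_, ?_, ?_⟩
  · intro h1
    exact h.z_ne (congrArg Subtype.val h1)
  · exact Subtype.ext h.z_sq
  · rw [Subgroup.mem_subgroupOf]; exact h.z_mem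
  · intro x hx
    rw [Subgroup.mem_subgroupOf] at hx
    exact Subtype.ext (h.z_comm x.1 hx)
  · intro x hx hall
    rw [Subgroup.mem_subgroupOf] at hx
    have h1 : ∀ y ∈ R, (x : G) * y = y * x := by
      intro y hy
      have := hall ⟨y, hRM hy⟩ (by rw [Subgroup.mem_subgroupOf]; exact hy)
      exact congrArg Subtype.val this
    rcases h.center x.1 hx h1 with h2 | h2
    · left; exact Subtype.ext h2
    · right; exact Subtype.ext h2
  · intro x hx y hy
    rw [Subgroup.mem_subgroupOf] at hx hy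
    rcases h.comm x.1 hx y.1 hy with h2 | h2
    · left; exact Subtype.ext h2
    · right; exact Subtype.ext h2
  · intro x hx
    rw [Subgroup.mem_subgroupOf] at hx
    rcases h.sq x.1 hx with h2 | h2
    · left; exact Subtype.ext h2
    · right; exact Subtype.ext h2

theorem XS.map_injOn {H K : Type*} [Group H] [Group K] {Q : Subgroup H} {z : H} (h : XS Q z)
    (f : H →* K) (hf : ∀ x ∈ Q, f x = 1 → x = 1) : XS (Q.map f) (f z) := by
  have hinj : ∀ x ∈ Q, ∀ y ∈ Q, f x = f y → x = y := by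
    intro x hx y hy hxy
    have h1 : f (x⁻¹ * y) = 1 := by rw [map_mul, map_inv, hxy, inv_mul_cancel]
    have h2 := hf _ (Q.mul_mem (Q.inv_mem hx) hy) h1
    exact inv_mul_eq_one.1 h2
  refine ⟨?_, ?_, ⟨z, h.z_mem, rfl⟩, ?_, ?_, ?_, ?_⟩
  · intro h1
    exact h.z_ne (hf z h.z_mem h1)
  · rw [← map_mul, h.z_sq, map_one]
  · rintro _ ⟨x, hx, rfl⟩
    rw [← map_mul, ← map_mul, h.z_comm x hx]
  · rintro _ ⟨x, hx, rfl⟩ hall
    have hall' : ∀ y ∈ Q, x * y = y * x := by
      intro y hy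
      apply hinj _ (Q.mul_mem hx hy) _ (Q.mul_mem hy hx)
      rw [map_mul, map_mul]
      exact hall (f y) ⟨y, hy, rfl⟩
    rcases h.center x hx hall' with h1 | h1
    · left; rw [h1, map_one]
    · right; rw [h1]
  · rintro _ ⟨x, hx, rfl⟩ _ ⟨y, hy, rfl⟩
    rcases h.comm x hx y hy with h1 | h1
    · left; rw [← map_mul, ← map_mul, h1]
    · right; rw [← map_mul, ← map_mul, ← map_mul, h1]
  · rintro _ ⟨x, hx, rfl⟩
    rcases h.sq x hx with h1 | h1
    · left; rw [← map_mul, h1, map_one]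
    · right; rw [← map_mul, h1]

theorem fpf_of_large [Finite G] {P : Subgroup G} {z : G} (h2 : IsPGroup 2 ↥P)
    (hC : ∀ c : G, (∀ x ∈ P, c * x = x * c) → c ∈ P)
    (hN : ∀ c : G, c * z = z * c → ∀ x ∈ P, c * x * c⁻¹ ∈ P)
    (K : Subgroup G) (hK : Odd (Nat.card ↥K)) (hPK : P ≤ Subgroup.normalizer (K : Set G)) :
    ∀ x ∈ K, z * x = x * z → x = 1 := by
  have hKP : ∀ y ∈ K, y ∈ P → y = 1 := by
    intro y hyK hyP
    exact eq_one_of_odd_of_conj_mem hK h2 y 1 hyK
      (by rw [one_mul, inv_one, mul_one]; exact hyP)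
  intro x hx hxz
  have hnorm := hN x hxz.symm
  have hcent : ∀ k ∈ P, x * k = k * x := by
    intro k hk
    have h1 : x * k * x⁻¹ * k⁻¹ ∈ P := P.mul_mem (hnorm k hk) (P.inv_mem hk)
    have h2' : x * k * x⁻¹ * k⁻¹ ∈ K := by
      have h3 : k * x⁻¹ * k⁻¹ ∈ K :=
        (Subgroup.mem_normalizer_iff.1 (hPK hk) x⁻¹).1 (K.inv_mem hx)
      have h4 : x * k * x⁻¹ * k⁻¹ = x * (k * x⁻¹ * k⁻¹) := by group
      rw [h4]
      exact K.mul_mem hx h3
    have h5 := hKP _ h2' h1
    calc x * k = (x * k * x⁻¹ * k⁻¹) * (k * x) := by group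
      _ = k * x := by rw [h5, one_mul]
  exact hKP x hx (hC x hcent)

open scoped commutatorElement in
theorem cQA_center [Finite G] {Q : Subgroup G} {z : G} (hxs : XS Q z) (h2Q : IsPGroup 2 ↥Q)
    (A : Subgroup G) (hA : A ≤ Subgroup.normalizer (Q : Set G)) (hAodd : Odd (Nat.card ↥A)) :
    ∀ x ∈ Q ⊓ Subgroup.centralizer (A : Set G),
      (∀ y ∈ Q ⊓ Subgroup.centralizer (A : Set G), x * y = y * x) → x = 1 ∨ x = z := by
  have hAz : ∀ a ∈ A, a * z * a⁻¹ = z := by
    intro a ha
    have haN := hA ha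
    have h1 : a * z * a⁻¹ ∈ Q := (Subgroup.mem_normalizer_iff.1 haN z).1 hxs.z_mem
    have haN' : a⁻¹ ∈ Subgroup.normalizer (Q : Set G) := Subgroup.inv_mem _ haN
    have hall : ∀ y ∈ Q, (a * z * a⁻¹) * y = y * (a * z * a⁻¹) := by
      intro y hy
      have h2 : a⁻¹ * y * a⁻¹⁻¹ ∈ Q := (Subgroup.mem_normalizer_iff.1 haN' y).1 hy
      rw [inv_inv] at h2
      have h3 := hxs.z_comm _ h2
      calc (a * z * a⁻¹) * y = a * (z * (a⁻¹ * y * a)) * a⁻¹ := by group
        _ = a * ((a⁻¹ * y * a) * z) * a⁻¹ := by rw [h3]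
        _ = y * (a * z * a⁻¹) := by group
    rcases hxs.center _ h1 hall with h4 | h4
    · exfalso
      apply hxs.z_ne
      have : z = a⁻¹ * (a * z * a⁻¹) * a := by group
      rw [this, h4]
      group
    · exact h4
  have hcop : (Nat.card ↥A).Coprime (Nat.card ↥Q) := by
    obtain ⟨k, hk⟩ := (IsPGroup.iff_card (p := 2)).1 h2Q
    rw [hk]
    apply Nat.Coprime.pow_right
    exact (Nat.coprime_two_right).2 hAodd
  have hsolv : Group.IsSolvable ↥A ∨ Group.IsSolvable ↥Q := by
    right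
    have : Fact (Nat.Prime 2) := ⟨Nat.prime_two⟩
    have := h2Q.isNilpotent
    infer_instance
  have hdecomp := Cfsg.Agent.S0026.result A Q hA hcop hsolv
  have hcommCP : ∀ x ∈ Q ⊓ Subgroup.centralizer (A : Set G), ∀ y ∈ ⁅Q, A⁆, x * y = y * x := by
    have h3 : ⁅⁅Q, A⁆, Q ⊓ Subgroup.centralizer (A : Set G)⁆ = ⊥ := by
      apply Subgroup.commutator_commutator_eq_bot_of_rotate
      · have h1 : ⁅A, Q ⊓ Subgroup.centralizer (A : Set G)⁆ = ⊥ := by
          rw [Subgroup.commutator_eq_bot_iff_le_centralizer]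
          intro a ha
          rw [Subgroup.mem_centralizer_iff]
          intro x hx
          have := (Subgroup.mem_inf.1 hx).2
          rw [Subgroup.mem_centralizer_iff] at this
          exact (this a ha).symm
        rw [h1, Subgroup.commutator_bot_left]
      · rw [Subgroup.commutator_eq_bot_iff_le_centralizer]
        have h1 : ⁅Q ⊓ Subgroup.centralizer (A : Set G), Q⁆ ≤ Subgroup.zpowers z := by
          rw [Subgroup.commutator_le]
          intro x hx y hy
          have hxQ := (Subgroup.mem_inf.1 hx).1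
          rcases hxs.comm x hxQ y hy with h4 | h4
          · have : ⁅x, y⁆ = 1 := by
              rw [commutatorElement_def, h4, mul_inv_cancel_right, mul_inv_cancel]
            rw [this]; exact Subgroup.one_mem _
          · have : ⁅x, y⁆ = z := by
              rw [commutatorElement_def, h4]
              group
            rw [this]; exact Subgroup.mem_zpowers z
        refine h1.trans ?_
        rw [Subgroup.zpowers_le, Subgroup.mem_centralizer_iff]
        intro a ha
        have h5 := hAz a ha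
        calc a * z = (a * z * a⁻¹) * a := by group
          _ = z * a := by rw [h5]
    intro x hx y hy
    rw [Subgroup.commutator_eq_bot_iff_le_centralizer] at h3
    have h4 := h3 hy
    rw [Subgroup.mem_centralizer_iff] at h4
    exact h4 x hx
  intro x hx hall
  apply hxs.center x (Subgroup.mem_inf.1 hx).1
  intro y hy
  have hle : Q ≤ Subgroup.centralizer ({x} : Set G) := by
    rw [← hdecomp]
    apply sup_le
    · intro w hw
      rw [Subgroup.mem_centralizer_singleton_iff]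
      exact (hcommCP x hx w hw).symm
    · intro w hw
      rw [Subgroup.mem_centralizer_singleton_iff]
      exact (hall w hw).symm
  have := hle hy
  rw [Subgroup.mem_centralizer_singleton_iff] at this
  exact this.symm

end Cfsg.Agent.Lib.Helper10.LargeXS
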