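import Mathlib

set_option autoImplicit false

namespace Cfsg.Agent.Lib.Helper10.LargeXS

variable {G : Type*} [Group G]

def agreeSubgroup (U : Subgroup G) (φ : ↥U ≃* ↥U) (g : G) : Subgroup G where
  carrier := {v | ∃ h : v ∈ U, g * v * g⁻¹ = ((φ ⟨v, h⟩ : ↥U) : G)}
  mul_mem' := by
    rintro a b ⟨ha, ha'⟩ ⟨hb, hb'⟩
    refine ⟨U.mul_mem ha hb, ?_⟩
    have h1 : (⟨a * b, U.mul_mem ha hb⟩ : ↥U) = ⟨a, ha⟩ * ⟨b, hb⟩ := rfl
    rw [h1, map_mul, Subgroup.coe_mul, ← ha', ← hb']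
    group
  one_mem' := by
    refine ⟨U.one_mem, ?_⟩
    have h1 : (⟨1, U.one_mem⟩ : ↥U) = 1 := rfl
    rw [h1, map_one, Subgroup.coe_one]
    group
  inv_mem' := by
    rintro a ⟨ha, ha'⟩
    refine ⟨U.inv_mem ha, ?_⟩
    have h1 : (⟨a⁻¹, U.inv_mem ha⟩ : ↥U) = (⟨a, ha⟩ : ↥U)⁻¹ := rfl
    rw [h1, map_inv, Subgroup.coe_inv, ← ha']
    group

theorem mem_agreeSubgroup (U : Subgroup G) (φ : ↥U ≃* ↥U) (g v : G) :
    v ∈ agreeSubgroup U φ g ↔ ∃ h : v ∈ U, g * v * g⁻¹ = ((φ ⟨v, h⟩ : ↥U) : G) := Iff.rfl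

theorem exists_induce_aut [Finite G] (U LU : Subgroup G)
    (hN : LU ≤ Subgroup.normalizer (U : Set G))
    (hT : ∀ W : Subgroup G, W ≤ U → ∀ w ∈ U, ∀ w' ∈ U, w ∉ W → w' ∉ W → w ≠ w' →
      ∃ g ∈ LU, (∀ v ∈ W, g * v * g⁻¹ = v) ∧ g * w * g⁻¹ = w')
    (φ : ↥U ≃* ↥U) : ∃ g ∈ LU, ∀ u : ↥U, g * (u : G) * g⁻¹ = ((φ u : ↥U) : G) := by
  classical
  have key : ∀ S : Finset G, (∀ s ∈ S, s ∈ U) →
      ∃ g ∈ LU, Subgroup.closure (S : Set G) ≤ agreeSubgroup U φ g := by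
    intro S
    induction S using Finset.induction_on with
    | empty =>
      intro _
      refine ⟨1, LU.one_mem, ?_⟩
      rw [Finset.coe_empty, Subgroup.closure_empty]
      exact bot_le
    | insert w S' hwS' ih =>
      intro hS
      have hS' : ∀ s ∈ S', s ∈ U := fun s hs => hS s (Finset.mem_insert_of_mem hs)
      have hw : w ∈ U := hS w (Finset.mem_insert_self _ _)
      obtain ⟨g0, hg0, hle0⟩ := ih hS'
      have hWU : Subgroup.closure ((S' : Finset G) : Set G) ≤ U := by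
        rw [Subgroup.closure_le]
        intro s hs
        exact hS' s (Finset.mem_coe.1 hs)
      have hins : ∀ (g : G), Subgroup.closure ((S' : Finset G) : Set G) ≤ agreeSubgroup U φ g →
          w ∈ agreeSubgroup U φ g →
          Subgroup.closure (((insert w S' : Finset G)) : Set G) ≤ agreeSubgroup U φ g := by
        intro g h1 h2
        rw [Subgroup.closure_le]
        intro s hs
        rcases Finset.mem_insert.1 (Finset.mem_coe.1 hs) with h3 | h3
        · rw [h3]; exact h2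
        · exact h1 (Subgroup.subset_closure (Finset.mem_coe.2 h3))
      by_cases hwW : w ∈ Subgroup.closure ((S' : Finset G) : Set G)
      · exact ⟨g0, hg0, hins g0 hle0 (hle0 hwW)⟩
      · have hg0N : g0⁻¹ ∈ Subgroup.normalizer (U : Set G) := Subgroup.inv_mem _ (hN hg0)
        have hw'U : g0⁻¹ * ((φ ⟨w, hw⟩ : ↥U) : G) * g0⁻¹⁻¹ ∈ U :=
          (Subgroup.mem_normalizer_iff.1 hg0N _).1 (φ ⟨w, hw⟩).2
        obtain ⟨w', hw'def⟩ : ∃ w' : G, w' = g0⁻¹ * ((φ ⟨w, hw⟩ : ↥U) : G) * g0⁻¹⁻¹ := ⟨_, rfl⟩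
        rw [← hw'def] at hw'U
        have hg0w' : g0 * w' * g0⁻¹ = ((φ ⟨w, hw⟩ : ↥U) : G) := by
          rw [hw'def]; group
        have hw'W : w' ∉ Subgroup.closure ((S' : Finset G) : Set G) := by
          intro hmem
          obtain ⟨h1, h2⟩ := (mem_agreeSubgroup U φ g0 w').1 (hle0 hmem)
          rw [hg0w'] at h2
          have h3 : φ ⟨w, hw⟩ = φ ⟨w', h1⟩ := Subtype.ext h2
          have h4 := φ.injective h3
          have h5 : w = w' := congrArg Subtype.val h4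
          apply hwW
          rw [h5]; exact hmem
        by_cases hww' : w = w'
        · refine ⟨g0, hg0, hins g0 hle0 ?_⟩
          rw [mem_agreeSubgroup]
          refine ⟨hw, ?_⟩
          rw [← hg0w', ← hww']
        · obtain ⟨g1, hg1, hg1W, hg1w⟩ := hT _ hWU w hw w' hw'U hwW hw'W hww'
          refine ⟨g0 * g1, LU.mul_mem hg0 hg1, hins _ ?_ ?_⟩
          · intro v hv
            obtain ⟨h1, h2⟩ := (mem_agreeSubgroup U φ g0 v).1 (hle0 hv)
            rw [mem_agreeSubgroup]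
            refine ⟨h1, ?_⟩
            rw [← h2]
            calc g0 * g1 * v * (g0 * g1)⁻¹ = g0 * (g1 * v * g1⁻¹) * g0⁻¹ := by group
              _ = g0 * v * g0⁻¹ := by rw [hg1W v hv]
          · rw [mem_agreeSubgroup]
            refine ⟨hw, ?_⟩
            rw [← hg0w', ← hg1w]
            group
  have hfin : ((U : Set G)).Finite := Set.toFinite _
  obtain ⟨g, hg, hle⟩ := key hfin.toFinset (fun s hs => (Set.Finite.mem_toFinset hfin).1 hs)
  refine ⟨g, hg, fun u => ?_⟩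
  have h1 : (u : G) ∈ Subgroup.closure ((hfin.toFinset : Finset G) : Set G) :=
    Subgroup.subset_closure (Finset.mem_coe.2 ((Set.Finite.mem_toFinset hfin).2 u.2))
  obtain ⟨h2, h3⟩ := (mem_agreeSubgroup U φ g u).1 (hle h1)
  exact h3

end Cfsg.Agent.Lib.Helper10.LargeXS
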