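import Mathlib
import Cfsg.Agent.Lib.Helper10.LargeXS6
import Cfsg.Agent.Lib.Helper10.LargeXS7

set_option autoImplicit false

namespace Cfsg.Agent.Lib.Helper10.LargeXS

variable {G : Type*} [Group G]

theorem mem_or_mul_mem_of_mem_closure_insert {W : Subgroup G} {a : G} (ha2 : a * a = 1)
    (hcomm : ∀ v ∈ W, a * v = v * a) {x : G}
    (hx : x ∈ Subgroup.closure (insert a (W : Set G))) : x ∈ W ∨ a * x ∈ W := by
  have hainv : a⁻¹ = a := by rw [inv_eq_iff_mul_eq_one]; exact ha2
  have hc : ∀ y : G, a * y ∈ W → a * y = y * a := by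
    intro y hy
    have h1 := hcomm _ hy
    calc a * y = (a * y * a) * a := by rw [mul_assoc (a * y), ha2, mul_one]
      _ = (a * (a * y)) * a := by rw [h1]
      _ = y * a := by rw [← mul_assoc, ha2, one_mul]
  induction hx using Subgroup.closure_induction with
  | mem y hy =>
    rcases Set.mem_insert_iff.1 hy with h1 | h1
    · right; rw [h1, ha2]; exact W.one_mem
    · left; exact h1
  | one => left; exact W.one_mem
  | mul y1 y2 _ _ ih1 ih2 =>
    rcases ih1 with h1 | h1 <;> rcases ih2 with h2 | h2
    · left; exact W.mul_mem h1 h2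
    · right
      have : a * (y1 * y2) = y1 * (a * y2) := by
        rw [← mul_assoc, hcomm y1 h1, mul_assoc]
      rw [this]; exact W.mul_mem h1 h2
    · right
      rw [← mul_assoc]; exact W.mul_mem h1 h2
    · left
      have : y1 * y2 = (a * y1) * (a * y2) := by
        rw [hc y1 h1, mul_assoc, ← mul_assoc a a, ha2, one_mul]
      rw [this]; exact W.mul_mem h1 h2
  | inv y _ ih =>
    rcases ih with h1 | h1
    · left; exact W.inv_mem h1
    · right
      have : a * y⁻¹ = (a * y)⁻¹ := by
        rw [hc y h1, mul_inv_rev, hainv]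
      rw [this]; exact W.inv_mem h1

theorem XS.exists_transvection [Finite G] {Qa : Subgroup G} {a : G} (h : XS Qa a)
    (W : Subgroup G) (hW : W ≤ Qa) {w : G} (hw : w ∈ Qa) (hwW : w ∉ W) (hawW : a * w ∉ W) :
    ∃ c ∈ Qa, (∀ v ∈ W, c * v * c⁻¹ = v) ∧ c * w * c⁻¹ = a * w := by
  classical
  have hfin : ((W : Set G)).Finite := Set.toFinite _
  by_contra hne
  have h1 := h.double_centralizer_finset hfin.toFinset
    (fun s hs => hW ((Set.Finite.mem_toFinset hfin).1 hs)) w hw
    (by
      intro c hc hcS
      by_contra hwc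
      apply hne
      refine ⟨c, hc, ?_, ?_⟩
      · intro v hv
        rw [hcS v ((Set.Finite.mem_toFinset hfin).2 hv), mul_inv_cancel_right]
      · rcases h.comm c hc w hw with h2 | h2
        · exact absurd h2.symm hwc
        · rw [h2, mul_assoc, mul_assoc, mul_inv_cancel, mul_one])
  have h2 : Subgroup.closure (insert a ((hfin.toFinset : Finset G) : Set G)) =
      Subgroup.closure (insert a (W : Set G)) := by
    congr 2
    ext y
    rw [Finset.mem_coe, Set.Finite.mem_toFinset]
  rw [h2] at h1
  rcases mem_or_mul_mem_of_mem_closure_insert h.z_sq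
    (fun v hv => (h.z_comm v (hW hv)).symm) h1 with h3 | h3
  · exact hwW h3
  · exact hawW h3

end Cfsg.Agent.Lib.Helper10.LargeXS
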