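import Mathlib
import Cfsg.Agent.Lib.Helper18.PRL.Defs
import Cfsg.Agent.Lib.Helper20.PolySeq
import Cfsg.Agent.Lib.helper23.PRLCH3
import Cfsg.Agent.Lib.Helper20.PRLSR1
import Cfsg.Agent.Lib.Helper21.MaxClassP
import Cfsg.Agent.Lib.Helper10.MCPPOW
import Cfsg.Agent.Lib.Helper29.MCPCLS
import Cfsg.Agent.Lib.Helper29.MCPGEN
import Cfsg.Agent.Lib.Helper19.MCPAGE

/-!
# Project MCP (S5238), piece SEC : every subgroup is generated by at most `p` elements
-/

set_option autoImplicit false

namespace Cfsg.Agent.Lib.helper4.MCP

open Cfsg.Agent.Lib.Helper18.PRL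
open Cfsg.Agent.Lib.Helper20.PolySeq
open scoped commutatorElement

universe u

/-- the centralizer of a conjugate has the same order -/
theorem mcpsec_card_centralizer_conj {G : Type u} [Group G] (g s : G) :
    Nat.card (Subgroup.centralizer ({g * s * g⁻¹} : Set G)) =
      Nat.card (Subgroup.centralizer ({s} : Set G)) := by
  have e : Subgroup.centralizer ({g * s * g⁻¹} : Set G) =
      (Subgroup.centralizer ({s} : Set G)).map (MulAut.conj g).toMonoidHom := by
    ext x
    simp only [Subgroup.mem_centralizer_iff, Set.mem_singleton_iff, forall_eq, Subgroup.mem_map,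
      MulEquiv.coe_toMonoidHom, MulAut.conj_apply]
    constructor
    · intro hx
      refine ⟨g⁻¹ * x * g, ?_, by group⟩
      have h1 : s * (g⁻¹ * x * g) = g⁻¹ * (g * s * g⁻¹ * x) * g := by group
      have h2 : g⁻¹ * x * g * s = g⁻¹ * (x * (g * s * g⁻¹)) * g := by group
      rw [h1, h2, hx]
    · rintro ⟨y, hy, rfl⟩
      have h1 : g * s * g⁻¹ * (g * y * g⁻¹) = g * (s * y) * g⁻¹ := by group
      have h2 : g * y * g⁻¹ * (g * s * g⁻¹) = g * (y * s) * g⁻¹ := by group
      rw [h1, h2, hy]
  rw [e]
  exact Subgroup.card_map_of_injective (MulAut.conj g).injective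

section mc
variable {p : ℕ} [Fact p.Prime] {G : Type u} [Group G] [Finite G] {n : ℕ}

/-- MCP-SEC -/
theorem sectional_rank_le (h : MC p G n) (hn : 4 ≤ n) (s : G)
    (hs : Nat.card (Subgroup.centralizer ({s} : Set G)) ≤ p ^ 2) (H : Subgroup G) :
    ∃ T : Finset G, T.card ≤ p ∧ Subgroup.closure (T : Set G) = H := by
  classical
  have hpp := (Fact.out : p.Prime)
  have hp2 := hpp.two_le
  have hP : IsPGroup p G := IsPGroup.of_card h.1
  by_cases hconj : ∃ u ∈ H, ∃ g : G, g * s * g⁻¹ = u
  · obtain ⟨u, hu, g, rfl⟩ := hconj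
    obtain ⟨T, hT, hcl⟩ := Cfsg.Agent.Lib.Helper18.PRL.two_gen_of_card_centralizer hP (g * s * g⁻¹)
      (by rw [mcpsec_card_centralizer_conj]; exact hs) H hu
    exact ⟨T, le_trans hT hp2, hcl⟩
  · push Not at hconj
    set D : Subgroup G := commutator G with hD
    have : D.Normal := by rw [hD]; infer_instance
    obtain ⟨hDidx, -⟩ := Cfsg.Agent.Lib.Helper21.mc_p_index p n G (by omega) h.1 h.2
    -- `H ⊔ D` is proper
    have hne : H ⊔ D ≠ ⊤ := by
      intro htop
      have hsm : s ∈ H ⊔ D := by rw [htop]; trivial
      rw [Subgroup.mem_sup_of_normal_right] at hsm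
      obtain ⟨x, hx, c, hc, hxc⟩ := hsm
      obtain ⟨g, hg⟩ := conj_of_mem_commutator h (by omega) s hs c⁻¹ (inv_mem hc)
      apply hconj x hx g
      rw [hg, ← hxc]
      group
    -- the index of `H ⊓ D` in `H`
    have hrel : D.relIndex H = 1 ∨ D.relIndex H = p := by
      have h1 : D.relIndex (H ⊔ D) = D.relIndex H := Subgroup.relIndex_sup_right H D
      have h2 : D.relIndex (H ⊔ D) * (H ⊔ D).index = p ^ 2 := by
        rw [Subgroup.relIndex_mul_index le_sup_right, hDidx]
      have h3 : (H ⊔ D).index ≠ 1 := by
        intro h4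
        exact hne (Subgroup.index_eq_one.mp h4)
      rw [h1] at h2
      have h5 : D.relIndex H ∣ p ^ 2 := Dvd.intro _ h2
      obtain ⟨k, hk, hk2⟩ := (Nat.dvd_prime_pow hpp).mp h5
      have hk3 : k ≠ 2 := by
        rintro rfl
        rw [hk2] at h2
        have : (H ⊔ D).index = 1 := by
          have hpos : 0 < p ^ 2 := by positivity
          exact Nat.eq_of_mul_eq_mul_left hpos (by rw [h2, mul_one])
        exact h3 this
      interval_cases k
      · left; simpa using hk2
      · right; simpa using hk2
      · exact absurd rfl hk3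
    -- `H ⊓ D` is generated by `p - 1` elements
    have hpow := fun i (hi : i ≤ n - 2) => power_structure h hn s hs i hi
    have hage := card_le_agemo h (by omega)
      (fun i hi => (hpow i hi).1) (fun i hpi hi => (hpow i hi).2 hpi) (H ⊓ D) inf_le_right
    obtain ⟨T₀, hT₀, hcl₀⟩ := gen_of_card_le_agemo hP (H ⊓ D) (p - 1) hage
    rcases hrel with h1 | h1
    · -- `H ≤ D`
      have hle : H ≤ D := Subgroup.relIndex_eq_one.mp h1
      refine ⟨T₀, by omega, ?_⟩
      rw [hcl₀]
      exact inf_eq_left.mpr hle
    · -- index `p`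
      have hnle : ¬ H ≤ D := by
        intro hle
        have := Subgroup.relIndex_eq_one.mpr hle
        rw [h1] at this
        omega
      obtain ⟨x, hxH, hxD⟩ := SetLike.not_le_iff_exists.mp hnle
      refine ⟨insert x T₀, ?_, ?_⟩
      · have := Finset.card_insert_le x T₀
        omega
      · set L : Subgroup G := Subgroup.closure ((insert x T₀ : Finset G) : Set G) with hL
        have hKL : H ⊓ D ≤ L := by
          rw [← hcl₀, hL]
          apply Subgroup.closure_mono
          intro t ht
          simp only [Finset.coe_insert, Set.mem_insert_iff, Finset.mem_coe]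
          exact Or.inr ht
        have hxL : x ∈ L := by
          rw [hL]
          apply Subgroup.subset_closure
          simp
        have hLH : L ≤ H := by
          rw [hL, Subgroup.closure_le]
          intro t ht
          simp only [Finset.coe_insert, Set.mem_insert_iff, Finset.mem_coe] at ht
          rcases ht with rfl | ht
          · exact hxH
          · have : t ∈ Subgroup.closure (T₀ : Set G) := Subgroup.subset_closure ht
            rw [hcl₀] at this
            exact this.1
        have hmul := Subgroup.relIndex_mul_relIndex (H ⊓ D) L H hKL hLH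
        rw [Subgroup.inf_relIndex_left, h1] at hmul
        have hKLne : (H ⊓ D).relIndex L ≠ 1 := by
          intro h4
          have := Subgroup.relIndex_eq_one.mp h4
          exact hxD (this hxL).2
        have hdvd : (H ⊓ D).relIndex L ∣ p := Dvd.intro _ hmul
        have heqp : (H ⊓ D).relIndex L = p := by
          rcases (Nat.dvd_prime hpp).mp hdvd with h5 | h5
          · exact absurd h5 hKLne
          · exact h5
        rw [heqp] at hmul
        have h6 : L.relIndex H = 1 := by
          have hpos : 0 < p := hpp.pos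
          exact Nat.eq_of_mul_eq_mul_left hpos (by rw [hmul, mul_one])
        exact le_antisymm hLH (Subgroup.relIndex_eq_one.mp h6)

end mc

end Cfsg.Agent.Lib.helper4.MCP
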