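import Mathlib

set_option autoImplicit false

/-!
# Project MI (S2140), piece MI-F: a Fisher-type lemma

If `G` acts 2-transitively on a finite set `Δ` and `H ≤ G` has index `0 ≠ |G:H| < |Δ|`, then
`H` is transitive on `Δ`.
-/

namespace Cfsg.Agent.Lib.Helper10.MI

open Matrix
open scoped Pointwise

section
variable {G Δ : Type*} [Group G] [MulAction G Δ]

/-- the number of members of the family `S` containing `δ` and `ε` -/
noncomputable def cnt (S : Set (Set Δ)) [Fintype ↥S] (δ ε : Δ) : ℕ := by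
  classical
  exact Fintype.card {B : ↥S // δ ∈ B.1 ∧ ε ∈ B.1}

theorem cnt_smul (Γ : Set Δ) [Fintype ↥(MulAction.orbit G Γ)] (g : G) (δ ε : Δ) :
    cnt (MulAction.orbit G Γ) (g • δ) (g • ε) = cnt (MulAction.orbit G Γ) δ ε := by
  classical
  unfold cnt
  refine Fintype.card_congr ?_
  refine Equiv.subtypeEquiv (MulAction.toPerm (g⁻¹ : G)) ?_
  intro B
  show g • δ ∈ B.1 ∧ g • ε ∈ B.1 ↔ δ ∈ ((g⁻¹ • B : ↥(MulAction.orbit G Γ)) : Set Δ) ∧
    ε ∈ ((g⁻¹ • B : ↥(MulAction.orbit G Γ)) : Set Δ)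
  rw [MulAction.orbit.coe_smul, Set.mem_inv_smul_set_iff, Set.mem_inv_smul_set_iff]

end

theorem fisher {G Δ : Type*} [Group G] [MulAction G Δ] [Finite Δ]
    (h2 : MulAction.IsMultiplyPretransitive G Δ 2) (H : Subgroup G)
    (h0 : H.index ≠ 0) (hlt : H.index < Nat.card Δ) :
    ∀ x y : Δ, ∃ h ∈ H, h • x = y := by
  classical
  by_contra hcon
  push Not at hcon
  obtain ⟨x, y, hxy⟩ := hcon
  haveI : Fintype Δ := Fintype.ofFinite Δ
  rw [MulAction.is_two_pretransitive_iff] at h2
  -- the `H`-orbit of `x`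
  set Γ : Set Δ := {z | ∃ h ∈ H, h • x = z} with hΓ
  have hxΓ : x ∈ Γ := ⟨1, H.one_mem, one_smul _ _⟩
  have hyΓ : y ∉ Γ := fun ⟨h, hh, e⟩ => hxy h hh e
  have hxne : x ≠ y := fun e => hyΓ (e ▸ hxΓ)
  have hHΓ : ∀ h ∈ H, h • Γ = Γ := by
    intro h hh
    ext z
    rw [Set.mem_smul_set_iff_inv_smul_mem]
    constructor
    · rintro ⟨k, hk, e⟩
      refine ⟨h * k, H.mul_mem hh hk, ?_⟩
      rw [mul_smul, e, smul_inv_smul]
    · rintro ⟨k, hk, e⟩
      refine ⟨h⁻¹ * k, H.mul_mem (H.inv_mem hh) hk, ?_⟩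
      rw [mul_smul, e]
  -- the family of translates
  set S : Set (Set Δ) := MulAction.orbit G Γ with hS
  haveI : Fintype ↥S := Fintype.ofFinite _
  have hΓS : Γ ∈ S := MulAction.mem_orbit_self Γ
  -- |S| ≤ index of H
  have hScard : Fintype.card ↥S ≤ H.index := by
    have h1 : H ≤ MulAction.stabilizer G Γ := fun h hh => by
      rw [MulAction.mem_stabilizer_iff]; exact hHΓ h hh
    have h2' : (MulAction.stabilizer G Γ).index ∣ H.index := Subgroup.index_dvd_of_le h1
    have h3 : (MulAction.stabilizer G Γ).index = Fintype.card ↥S := by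
      rw [MulAction.index_stabilizer, ← Nat.card_coe_set_eq, Nat.card_eq_fintype_card]
    rw [← h3]
    exact Nat.le_of_dvd (Nat.pos_of_ne_zero h0) h2'
  -- the counts
  set r : ℕ := cnt S x x with hr
  set l : ℕ := cnt S x y with hl
  have hcnt_diag : ∀ δ : Δ, cnt S δ δ = r := by
    intro δ
    by_cases hδ : δ = x
    · rw [hδ]
    · obtain ⟨g, hg1, _⟩ := h2 (Ne.symm hδ) hδ
      -- g • x = δ
      rw [← hg1]
      exact cnt_smul Γ g x x
  have hcnt_off : ∀ δ ε : Δ, δ ≠ ε → cnt S δ ε = l := by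
    intro δ ε hne
    obtain ⟨g, hg1, hg2⟩ := h2 hxne hne
    rw [← hg1, ← hg2]
    exact cnt_smul Γ g x y
  have hlr : l < r := by
    rw [hl, hr]
    unfold cnt
    -- injection which misses Γ
    let f : {B : ↥S // x ∈ B.1 ∧ y ∈ B.1} → {B : ↥S // x ∈ B.1 ∧ x ∈ B.1} :=
      fun B => ⟨B.1, B.2.1, B.2.1⟩
    have hf : Function.Injective f := by
      intro B B' e
      apply Subtype.ext
      exact congrArg (fun z : {B : ↥S // x ∈ B.1 ∧ x ∈ B.1} => z.1) e
    have hns : ¬ Function.Surjective f := by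
      intro hs
      obtain ⟨B, hB⟩ := hs ⟨⟨Γ, hΓS⟩, hxΓ, hxΓ⟩
      have : B.1 = ⟨Γ, hΓS⟩ := congrArg (fun z : {B : ↥S // x ∈ B.1 ∧ x ∈ B.1} => z.1) hB
      have hy := B.2.2
      rw [this] at hy
      exact hyΓ hy
    exact Fintype.card_lt_of_injective_not_surjective f hf hns
  have hr1 : 1 ≤ r := by omega
  -- the incidence matrix
  let M : Matrix ↥S Δ ℚ := fun B δ => if δ ∈ B.1 then 1 else 0
  have hMinj : Function.Injective (Matrix.mulVecLin M) := by
    rw [injective_iff_map_eq_zero]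
    intro f hf
    have hf' : ∀ B : ↥S, ∑ δ, M B δ * f δ = 0 := by
      intro B
      have := congrFun hf B
      simpa [Matrix.mulVecLin_apply, Matrix.mulVec, dotProduct] using this
    -- key double counting identity
    have key : ∀ δ₀ : Δ, ∑ ε, (cnt S δ₀ ε : ℚ) * f ε = 0 := by
      intro δ₀
      have h1 : ∑ B : ↥S, M B δ₀ * ∑ ε, M B ε * f ε = 0 := by
        apply Finset.sum_eq_zero
        intro B _
        rw [hf' B, mul_zero]
      have h2 : ∑ B : ↥S, M B δ₀ * ∑ ε, M B ε * f ε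
          = ∑ ε, (∑ B : ↥S, M B δ₀ * M B ε) * f ε := by
        simp_rw [Finset.mul_sum, Finset.sum_mul]
        rw [Finset.sum_comm]
        refine Finset.sum_congr rfl (fun ε _ => Finset.sum_congr rfl (fun B _ => ?_))
        ring
      have h3 : ∀ ε, ∑ B : ↥S, M B δ₀ * M B ε = (cnt S δ₀ ε : ℚ) := by
        intro ε
        unfold cnt
        rw [Fintype.card_subtype, Finset.card_filter]
        push_cast
        refine Finset.sum_congr rfl (fun B _ => ?_)
        simp only [M]
        by_cases ha : δ₀ ∈ B.1 <;> by_cases hb : ε ∈ B.1 <;> simp [ha, hb]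
      rw [h2] at h1
      simpa [h3] using h1
    -- total sum is zero
    have hsum : ∑ ε, f ε = 0 := by
      have h1 : ∑ B : ↥S, ∑ ε, M B ε * f ε = 0 := by
        apply Finset.sum_eq_zero
        intro B _
        exact hf' B
      rw [Finset.sum_comm] at h1
      have h2 : ∀ ε, ∑ B : ↥S, M B ε * f ε = (r : ℚ) * f ε := by
        intro ε
        rw [← Finset.sum_mul]
        congr 1
        rw [← hcnt_diag ε]
        unfold cnt
        rw [Fintype.card_subtype, Finset.card_filter]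
        push_cast
        refine Finset.sum_congr rfl (fun B _ => ?_)
        simp only [M]
        by_cases ha : ε ∈ B.1 <;> simp [ha]
      simp_rw [h2] at h1
      rw [← Finset.mul_sum] at h1
      have hr0 : (r : ℚ) ≠ 0 := by
        have : (1 : ℚ) ≤ r := by exact_mod_cast hr1
        linarith
      exact (mul_eq_zero.mp h1).resolve_left hr0
    funext δ₀
    have h1 := key δ₀
    have h2 : ∑ ε, (cnt S δ₀ ε : ℚ) * f ε = ((r : ℚ) - l) * f δ₀ + l * ∑ ε, f ε := by
      rw [Finset.mul_sum, ← Finset.add_sum_erase Finset.univ _ (Finset.mem_univ δ₀),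
        ← Finset.add_sum_erase Finset.univ (fun ε => (l : ℚ) * f ε) (Finset.mem_univ δ₀),
        hcnt_diag δ₀]
      have : ∑ ε ∈ Finset.univ.erase δ₀, (cnt S δ₀ ε : ℚ) * f ε
          = ∑ ε ∈ Finset.univ.erase δ₀, (l : ℚ) * f ε := by
        refine Finset.sum_congr rfl (fun ε hε => ?_)
        rw [hcnt_off δ₀ ε (Finset.ne_of_mem_erase hε).symm]
      rw [this]
      ring
    rw [h2, hsum, mul_zero, add_zero] at h1
    have hne : (r : ℚ) - l ≠ 0 := by
      have : (l : ℚ) < r := by exact_mod_cast hlr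
      linarith
    exact (mul_eq_zero.mp h1).resolve_left hne
  have hfin := LinearMap.finrank_le_finrank_of_injective hMinj
  rw [Module.finrank_fintype_fun_eq_card, Module.finrank_fintype_fun_eq_card] at hfin
  rw [Nat.card_eq_fintype_card] at hlt
  omega

end Cfsg.Agent.Lib.Helper10.MI
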