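import Mathlib
import Cfsg.Prelude.Def_Local
import Cfsg.Agent.Lib.Helper10.PComp4
import Cfsg.Agent.Lib.Helper10.Components
import Cfsg.Agent.Lib.Helper10.SubgroupBasic
import Cfsg.Agent.Lib.Helper10.PushUp3

set_option autoImplicit false

/-!
# Maximal components, part 1: a component of `C_X(a)` inside `N C_X(N)`
-/

namespace Cfsg.Agent.Lib.Helper10.MaxComp

open Cfsg Cfsg.Agent.Lib.Helper10 Cfsg.Agent.Lib.Helper9
open scoped commutatorElement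

universe u

/-- commutator of products of commuting pairs -/
theorem comm_mul_mul {A : Type*} [Group A] (n₁ n₂ c₁ c₂ : A)
    (h11 : c₁ * n₁ = n₁ * c₁) (h12 : c₁ * n₂ = n₂ * c₁)
    (h21 : c₂ * n₁ = n₁ * c₂) (h22 : c₂ * n₂ = n₂ * c₂) :
    ⁅n₁ * c₁, n₂ * c₂⁆ = ⁅n₁, n₂⁆ * ⁅c₁, c₂⁆ := by
  have hc : ∀ c n : A, c * n = n * c → Commute c n := fun c n h => h
  have C11 := hc _ _ h11
  have C12 := hc _ _ h12
  have C21 := hc _ _ h21
  have C22 := hc _ _ h22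
  rw [commutatorElement_def, commutatorElement_def, commutatorElement_def]
  have e1 : (n₁ * c₁)⁻¹ = n₁⁻¹ * c₁⁻¹ := by
    rw [mul_inv_rev]; exact (C11.inv_inv).eq
  have e2 : (n₂ * c₂)⁻¹ = n₂⁻¹ * c₂⁻¹ := by
    rw [mul_inv_rev]; exact (C22.inv_inv).eq
  rw [e1, e2]
  -- n₁ c₁ n₂ c₂ n₁⁻¹ c₁⁻¹ n₂⁻¹ c₂⁻¹
  have s1 : n₁ * c₁ * (n₂ * c₂) = n₁ * n₂ * (c₁ * c₂) := by
    calc n₁ * c₁ * (n₂ * c₂) = n₁ * (c₁ * n₂) * c₂ := by group
      _ = n₁ * (n₂ * c₁) * c₂ := by rw [h12]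
      _ = n₁ * n₂ * (c₁ * c₂) := by group
  have C3 : Commute (c₁ * c₂) n₁⁻¹ := (C11.mul_left C21).inv_right
  have C4 : Commute (c₁ * c₂ * c₁⁻¹) n₂⁻¹ :=
    ((C12.mul_left C22).mul_left C12.inv_left).inv_right
  calc n₁ * c₁ * (n₂ * c₂) * (n₁⁻¹ * c₁⁻¹) * (n₂⁻¹ * c₂⁻¹)
      = n₁ * n₂ * (c₁ * c₂) * (n₁⁻¹ * c₁⁻¹) * (n₂⁻¹ * c₂⁻¹) := by rw [s1]
    _ = n₁ * n₂ * ((c₁ * c₂) * n₁⁻¹) * c₁⁻¹ * (n₂⁻¹ * c₂⁻¹) := by group
    _ = n₁ * n₂ * (n₁⁻¹ * (c₁ * c₂)) * c₁⁻¹ * (n₂⁻¹ * c₂⁻¹) := by rw [C3.eq]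
    _ = n₁ * n₂ * n₁⁻¹ * ((c₁ * c₂ * c₁⁻¹) * n₂⁻¹) * c₂⁻¹ := by group
    _ = n₁ * n₂ * n₁⁻¹ * (n₂⁻¹ * (c₁ * c₂ * c₁⁻¹)) * c₂⁻¹ := by rw [C4.eq]
    _ = n₁ * n₂ * n₁⁻¹ * n₂⁻¹ * (c₁ * c₂ * c₁⁻¹ * c₂⁻¹) := by group

variable {X : Type u} [Group X]

/-- a nonabelian perfect subgroup of the layer fails to centralize some component -/
theorem exists_component_not_commute {K : Subgroup X} (hKL : K ≤ layer X)
    (hperf : ⁅K, K⁆ = K) (hne : K ≠ ⊥) : ∃ J : Subgroup X, IsComponent J ∧ ⁅K, J⁆ ≠ ⊥ := by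
  by_contra hcon
  push_neg at hcon
  apply hne
  have h1 : layer X ≤ Subgroup.centralizer (K : Set X) := by
    apply sSup_le
    intro J hJ
    have h2 := hcon J hJ
    rw [Subgroup.commutator_comm, Subgroup.commutator_eq_bot_iff_le_centralizer] at h2
    exact h2
  have h3 : ⁅K, K⁆ = ⊥ := by
    rw [Subgroup.commutator_eq_bot_iff_le_centralizer]
    exact hKL.trans h1
  rw [← hperf, h3]

theorem isComponent_conj {J : Subgroup X} (hJ : IsComponent J) (g : X) :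
    IsComponent (J.map (MulAut.conj g).toMonoidHom) :=
  isComponent_map_equiv (MulAut.conj g) hJ

/-- the layer lies in `N C(N)` for `N = J J^a` -/
theorem layer_le_sup_centralizer [Finite X] {J : Subgroup X} (hJ : IsComponent J) (a : X) :
    layer X ≤ (J ⊔ J.map (MulAut.conj a).toMonoidHom) ⊔
      Subgroup.centralizer ((J ⊔ J.map (MulAut.conj a).toMonoidHom : Subgroup X) : Set X) := by
  apply sSup_le
  intro J' hJ'
  have hJa := isComponent_conj hJ a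
  by_cases h1 : J' = J
  · rw [h1]; exact le_sup_left.trans le_sup_left
  by_cases h2 : J' = J.map (MulAut.conj a).toMonoidHom
  · rw [h2]; exact le_sup_right.trans le_sup_left
  refine le_trans ?_ le_sup_right
  rw [Subgroup.le_centralizer_iff]
  apply sup_le
  · have := Cfsg.Agent.S1263.distinct_components_commute hJ hJ' (Ne.symm h1)
    rwa [Subgroup.commutator_eq_bot_iff_le_centralizer] at this
  · have := Cfsg.Agent.S1263.distinct_components_commute hJa hJ' (Ne.symm h2)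
    rwa [Subgroup.commutator_eq_bot_iff_le_centralizer] at this

/-- Lemma A: a component of `C_X(a)` lying in `N C_X(N)` and not centralizing the `a`-invariant
subnormal subgroup `N` lies in `N`. -/
theorem le_of_le_sup_centralizer [Finite X] (a : X) {N K : Subgroup X}
    (hNa : a ∈ Subgroup.normalizer (N : Set X)) (hN : N.IsSubnormal)
    (hKa : K ≤ Subgroup.centralizer ({a} : Set X))
    (hK : IsComponent (K.subgroupOf (Subgroup.centralizer ({a} : Set X))))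
    (hKN : K ≤ N ⊔ Subgroup.centralizer (N : Set X))
    (hne : ⁅K, N⁆ ≠ ⊥) : K ≤ N := by
  have hC'n : Subgroup.centralizer (N : Set X) ≤ Subgroup.normalizer (N : Set X) :=
    Subgroup.centralizer_le_normalizer _
  have haC' : a ∈ Subgroup.normalizer ((Subgroup.centralizer (N : Set X) : Subgroup X) : Set X) :=
    Cfsg.Agent.Lib.Helper10.PushUp.normalizer_le_normalizer_centralizer N hNa
  have hperf : ⁅K, K⁆ = K := by
    have h1 := isComponent_commutator_self hK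
    have h2 := congrArg (Subgroup.map (Subgroup.centralizer ({a} : Set X)).subtype) h1
    rwa [Subgroup.map_commutator, Subgroup.map_subgroupOf_eq_of_le hKa] at h2
  have hcomm : ∀ k ∈ K, a * k = k * a := by
    intro k hk
    have := hKa hk
    rw [Subgroup.mem_centralizer_iff] at this
    exact this a rfl
  have key : ∀ k ∈ K, ∃ n ∈ N, ∃ c ∈ Subgroup.centralizer (N : Set X), k = n * c ∧
      n⁻¹ * (a * n * a⁻¹) ∈ Subgroup.centralizer (N : Set X) := by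
    intro k hk
    obtain ⟨n, hn, c, hc, rfl⟩ := exists_mul_of_mem_sup N _ hC'n k (hKN hk)
    refine ⟨n, hn, c, hc, rfl, ?_⟩
    have h1 : a * c * a⁻¹ ∈ Subgroup.centralizer (N : Set X) :=
      (Subgroup.mem_normalizer_iff.1 haC' c).1 hc
    have h2 : n⁻¹ * (a * n * a⁻¹) = c * (a * c * a⁻¹)⁻¹ := by
      have h3 := hcomm _ hk
      have h4 : a * n * a⁻¹ * (a * c * a⁻¹) = n * c := by
        calc a * n * a⁻¹ * (a * c * a⁻¹) = a * (n * c) * a⁻¹ := by group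
          _ = n * c * a * a⁻¹ := by rw [h3]
          _ = n * c := by group
      calc n⁻¹ * (a * n * a⁻¹) = n⁻¹ * (a * n * a⁻¹ * (a * c * a⁻¹)) * (a * c * a⁻¹)⁻¹ := by group
        _ = n⁻¹ * (n * c) * (a * c * a⁻¹)⁻¹ := by rw [h4]
        _ = c * (a * c * a⁻¹)⁻¹ := by group
    rw [h2]
    exact Subgroup.mul_mem _ hc (Subgroup.inv_mem _ h1)
  have hcz : ∀ z ∈ Subgroup.centralizer (N : Set X), ∀ n ∈ N, z * n = n * z := by
    intro z hz n hn
    rw [Subgroup.mem_centralizer_iff] at hz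
    exact (hz n hn).symm
  -- K ≤ C_N(a) C(N)
  have hKD : K ≤ (N ⊓ Subgroup.centralizer ({a} : Set X)) ⊔ Subgroup.centralizer (N : Set X) := by
    conv_lhs => rw [← hperf]
    rw [Subgroup.commutator_le]
    intro k₁ hk₁ k₂ hk₂
    obtain ⟨n₁, hn₁, c₁, hc₁, rfl, hz₁⟩ := key k₁ hk₁
    obtain ⟨n₂, hn₂, c₂, hc₂, rfl, hz₂⟩ := key k₂ hk₂
    rw [comm_mul_mul n₁ n₂ c₁ c₂ (hcz c₁ hc₁ n₁ hn₁) (hcz c₁ hc₁ n₂ hn₂) (hcz c₂ hc₂ n₁ hn₁)
      (hcz c₂ hc₂ n₂ hn₂)]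
    apply Subgroup.mul_mem_sup
    · refine ⟨?_, ?_⟩
      · rw [commutatorElement_def]
        exact N.mul_mem (N.mul_mem (N.mul_mem hn₁ hn₂) (N.inv_mem hn₁)) (N.inv_mem hn₂)
      · show ⁅n₁, n₂⁆ ∈ Subgroup.centralizer ({a} : Set X)
        rw [Subgroup.mem_centralizer_iff]
        intro h hh
        rw [Set.mem_singleton_iff] at hh
        subst hh
        have hn₁' : h * n₁ * h⁻¹ ∈ N := (Subgroup.mem_normalizer_iff.1 hNa n₁).1 hn₁
        have hn₂' : h * n₂ * h⁻¹ ∈ N := (Subgroup.mem_normalizer_iff.1 hNa n₂).1 hn₂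
        have hzN₁ : n₁⁻¹ * (h * n₁ * h⁻¹) ∈ N := N.mul_mem (N.inv_mem hn₁) hn₁'
        have hzN₂ : n₂⁻¹ * (h * n₂ * h⁻¹) ∈ N := N.mul_mem (N.inv_mem hn₂) hn₂'
        have e1 : h * ⁅n₁, n₂⁆ * h⁻¹ = ⁅n₁ * (n₁⁻¹ * (h * n₁ * h⁻¹)), n₂ * (n₂⁻¹ * (h * n₂ * h⁻¹))⁆ := by
          rw [commutatorElement_def, commutatorElement_def]; group
        rw [comm_mul_mul n₁ n₂ _ _ (hcz _ hz₁ n₁ hn₁) (hcz _ hz₁ n₂ hn₂) (hcz _ hz₂ n₁ hn₁)
          (hcz _ hz₂ n₂ hn₂)] at e1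
        have e2 : ⁅n₁⁻¹ * (h * n₁ * h⁻¹), n₂⁻¹ * (h * n₂ * h⁻¹)⁆ = 1 := by
          rw [commutatorElement_eq_one_iff_commute]
          exact hcz _ hz₁ _ hzN₂
        rw [e2, mul_one] at e1
        calc h * ⁅n₁, n₂⁆ = h * ⁅n₁, n₂⁆ * h⁻¹ * h := by group
          _ = ⁅n₁, n₂⁆ * h := by rw [e1]
    · rw [commutatorElement_def]
      exact Subgroup.mul_mem _ (Subgroup.mul_mem _ (Subgroup.mul_mem _ hc₁ hc₂)
        (Subgroup.inv_mem _ hc₁)) (Subgroup.inv_mem _ hc₂)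
  -- dichotomy
  have hDsn : ((N ⊓ Subgroup.centralizer ({a} : Set X)).subgroupOf
      (Subgroup.centralizer ({a} : Set X))).IsSubnormal := by
    rw [Subgroup.inf_subgroupOf_right]
    exact hN.subgroupOf
  rcases component_le_or_commutator_eq_bot _ _ hK hDsn with h | h
  · intro k hk
    have h1 : (⟨k, hKa hk⟩ : ↥(Subgroup.centralizer ({a} : Set X))) ∈
        K.subgroupOf (Subgroup.centralizer ({a} : Set X)) := by
      rw [Subgroup.mem_subgroupOf]; exact hk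
    have h2 := h h1
    rw [Subgroup.mem_subgroupOf] at h2
    exact h2.1
  · exfalso
    have h1 : ⁅K, N ⊓ Subgroup.centralizer ({a} : Set X)⁆ = ⊥ :=
      commutator_eq_bot_of_subgroupOf hKa inf_le_right h
    rw [Subgroup.commutator_eq_bot_iff_le_centralizer] at h1
    apply hne
    rw [Subgroup.commutator_eq_bot_iff_le_centralizer]
    conv_lhs => rw [← hperf]
    rw [Subgroup.commutator_le]
    intro k₁ hk₁ k₂ hk₂
    have hCD : Subgroup.centralizer (N : Set X) ≤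
        Subgroup.normalizer ((N ⊓ Subgroup.centralizer ({a} : Set X) : Subgroup X) : Set X) := by
      refine le_trans ?_ (Subgroup.centralizer_le_normalizer _)
      exact Subgroup.centralizer_le (by exact_mod_cast (inf_le_left : N ⊓ _ ≤ N))
    obtain ⟨d₁, hd₁, c₁, hc₁, e₁⟩ := exists_mul_of_mem_sup _ _ hCD k₁ (hKD hk₁)
    obtain ⟨d₂, hd₂, c₂, hc₂, e₂⟩ := exists_mul_of_mem_sup _ _ hCD k₂ (hKD hk₂)
    have hk₁' := h1 hk₁
    rw [Subgroup.mem_centralizer_iff] at hk₁'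
    have h3 : d₂ * k₁ = k₁ * d₂ := hk₁' d₂ hd₂
    have h4 : d₂ * d₁ = d₁ * d₂ := by
      rw [e₁] at h3
      have h5 := hcz c₁ hc₁ d₂ hd₂.1
      have : d₂ * d₁ * c₁ = d₁ * d₂ * c₁ := by
        calc d₂ * d₁ * c₁ = d₂ * (d₁ * c₁) := by group
          _ = d₁ * c₁ * d₂ := h3
          _ = d₁ * (c₁ * d₂) := by group
          _ = d₁ * (d₂ * c₁) := by rw [h5]
          _ = d₁ * d₂ * c₁ := by group
      exact mul_right_cancel this
    rw [e₁, e₂, comm_mul_mul d₁ d₂ c₁ c₂ (hcz c₁ hc₁ d₁ hd₁.1) (hcz c₁ hc₁ d₂ hd₂.1)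
      (hcz c₂ hc₂ d₁ hd₁.1) (hcz c₂ hc₂ d₂ hd₂.1)]
    have h6 : ⁅d₁, d₂⁆ = 1 := by
      rw [commutatorElement_eq_one_iff_commute]; exact h4.symm
    rw [h6, one_mul, commutatorElement_def]
    exact Subgroup.mul_mem _ (Subgroup.mul_mem _ (Subgroup.mul_mem _ hc₁ hc₂)
      (Subgroup.inv_mem _ hc₁)) (Subgroup.inv_mem _ hc₂)

end Cfsg.Agent.Lib.Helper10.MaxComp
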