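import Mathlib
import Cfsg.Prelude.Def_Local
import Cfsg.Agent.Lib.Helper10.MaxComp1

set_option autoImplicit false

/-!
# Maximal components, part 2: the diagonal case
-/

namespace Cfsg.Agent.Lib.Helper10.MaxComp

open Cfsg Cfsg.Agent.Lib.Helper10 Cfsg.Agent.Lib.Helper9
open scoped commutatorElement

universe u

variable {X : Type u} [Group X]

/-- the diagonal map `x ↦ x * (a x a⁻¹)` on `J`, when `J` and `J^a` commute -/
def diag (a : X) (J : Subgroup X)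
    (hc : ∀ x ∈ J, ∀ y ∈ J, x * (a * y * a⁻¹) = (a * y * a⁻¹) * x) : ↥J →* X where
  toFun x := (x : X) * (a * (x : X) * a⁻¹)
  map_one' := by simp
  map_mul' x y := by
    have h := hc y y.2 x x.2
    show ((x * y : ↥J) : X) * (a * ((x * y : ↥J) : X) * a⁻¹) =
      (x : X) * (a * (x : X) * a⁻¹) * ((y : X) * (a * (y : X) * a⁻¹))
    rw [Subgroup.coe_mul]
    calc (x : X) * (y : X) * (a * ((x : X) * (y : X)) * a⁻¹)
        = (x : X) * ((y : X) * (a * (x : X) * a⁻¹)) * (a * (y : X) * a⁻¹) := by group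
      _ = (x : X) * ((a * (x : X) * a⁻¹) * (y : X)) * (a * (y : X) * a⁻¹) := by rw [h]
      _ = (x : X) * (a * (x : X) * a⁻¹) * ((y : X) * (a * (y : X) * a⁻¹)) := by group

theorem diag_apply (a : X) (J : Subgroup X)
    (hc : ∀ x ∈ J, ∀ y ∈ J, x * (a * y * a⁻¹) = (a * y * a⁻¹) * x) (x : ↥J) :
    diag a J hc x = (x : X) * (a * (x : X) * a⁻¹) := rfl

theorem commute_of_commutator_eq_bot {a : X} {J : Subgroup X}
    (h : ⁅J, J.map (MulAut.conj a).toMonoidHom⁆ = ⊥) :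
    ∀ x ∈ J, ∀ y ∈ J, x * (a * y * a⁻¹) = (a * y * a⁻¹) * x := by
  intro x hx y hy
  rw [Subgroup.commutator_eq_bot_iff_le_centralizer] at h
  have h1 := h hx
  rw [Subgroup.mem_centralizer_iff] at h1
  exact (h1 (a * y * a⁻¹) ⟨y, hy, by simp [MulAut.conj_apply]⟩).symm

theorem inv_eq_self_of_mul_self {a : X} (ha : a * a = 1) : a⁻¹ = a :=
  inv_eq_of_mul_eq_one_left ha

/-- decomposition of a fixed point of `a` in `J J^a` -/
theorem exists_diag_mul {a : X} (ha : a * a = 1) {J : Subgroup X}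
    (hc : ∀ x ∈ J, ∀ y ∈ J, x * (a * y * a⁻¹) = (a * y * a⁻¹) * x)
    {k : X} (hk : k ∈ J ⊔ J.map (MulAut.conj a).toMonoidHom) (hak : a * k = k * a) :
    ∃ x : ↥J, ∃ w ∈ J, k = diag a J hc x * w ∧ (∀ j ∈ J, w * j = j * w) ∧
      (∀ j ∈ J, w * (a * j * a⁻¹) = (a * j * a⁻¹) * w) := by
  have hai := inv_eq_self_of_mul_self ha
  have hn : J.map (MulAut.conj a).toMonoidHom ≤ Subgroup.normalizer (J : Set X) := by
    refine le_trans ?_ (Subgroup.centralizer_le_normalizer _)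
    rintro _ ⟨y, hy, rfl⟩
    rw [Subgroup.mem_centralizer_iff]
    intro h hh
    have := hc h hh y hy
    simpa [MulAut.conj_apply] using this
  obtain ⟨x, hx, y', hy', rfl⟩ := exists_mul_of_mem_sup J _ hn k hk
  obtain ⟨x₂, hx₂, rfl⟩ := hy'
  have e0 : (MulAut.conj a).toMonoidHom x₂ = a * x₂ * a⁻¹ := by simp [MulAut.conj_apply]
  rw [e0] at hak ⊢
  -- a k a⁻¹ = k
  have h1 : a * x * a⁻¹ * x₂ = x * (a * x₂ * a⁻¹) := by
    have h2 : a * (x * (a * x₂ * a⁻¹)) * a⁻¹ = x * (a * x₂ * a⁻¹) := by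
      rw [hak]; group
    have h3 : a * (x * (a * x₂ * a⁻¹)) * a⁻¹ = a * x * a⁻¹ * ((a * a) * x₂ * (a * a)⁻¹) := by group
    rw [h3, ha] at h2
    simpa using h2
  have h4 : x₂ * (a * x * a⁻¹) = x * (a * x₂ * a⁻¹) := by
    rw [hc x₂ hx₂ x hx]; exact h1
  -- z = x⁻¹ x₂ = a (x₂ x⁻¹) a⁻¹
  have hz : x⁻¹ * x₂ = a * (x₂ * x⁻¹) * a⁻¹ := by
    calc x⁻¹ * x₂ = x⁻¹ * (x₂ * (a * x * a⁻¹)) * (a * x * a⁻¹)⁻¹ := by group
      _ = x⁻¹ * (x * (a * x₂ * a⁻¹)) * (a * x * a⁻¹)⁻¹ := by rw [h4]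
      _ = a * (x₂ * x⁻¹) * a⁻¹ := by group
  -- w = a z a⁻¹ = x₂ x⁻¹
  have hw : a * (x⁻¹ * x₂) * a⁻¹ = x₂ * x⁻¹ := by
    rw [hz]
    calc a * (a * (x₂ * x⁻¹) * a⁻¹) * a⁻¹ = (a * a) * (x₂ * x⁻¹) * (a * a)⁻¹ := by group
      _ = x₂ * x⁻¹ := by rw [ha]; group
  have hzJ : x⁻¹ * x₂ ∈ J := J.mul_mem (J.inv_mem hx) hx₂
  have hwJ : x₂ * x⁻¹ ∈ J := J.mul_mem hx₂ (J.inv_mem hx)
  refine ⟨⟨x, hx⟩, x₂ * x⁻¹, hwJ, ?_, ?_, ?_⟩
  · rw [diag_apply, ← hw]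
    show x * (a * x₂ * a⁻¹) = x * (a * x * a⁻¹) * (a * (x⁻¹ * x₂) * a⁻¹)
    group
  · intro j hj
    rw [← hw]
    exact (hc j hj _ hzJ).symm
  · intro j hj
    exact hc _ hwJ j hj

/-- a perfect group of fixed points of `a` inside `J J^a` lies in the diagonal -/
theorem le_range_diag {a : X} (ha : a * a = 1) {J K : Subgroup X}
    (hc : ∀ x ∈ J, ∀ y ∈ J, x * (a * y * a⁻¹) = (a * y * a⁻¹) * x)
    (hKJ : K ≤ J ⊔ J.map (MulAut.conj a).toMonoidHom)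
    (hKa : K ≤ Subgroup.centralizer ({a} : Set X)) (hperf : ⁅K, K⁆ = K) :
    K ≤ (diag a J hc).range := by
  have hcomm : ∀ k ∈ K, a * k = k * a := by
    intro k hk
    have := hKa hk
    rw [Subgroup.mem_centralizer_iff] at this
    exact this a rfl
  conv_lhs => rw [← hperf]
  rw [Subgroup.commutator_le]
  intro k₁ hk₁ k₂ hk₂
  obtain ⟨x₁, w₁, hw₁J, e₁, hw₁a, hw₁b⟩ := exists_diag_mul ha hc (hKJ hk₁) (hcomm _ hk₁)
  obtain ⟨x₂, w₂, hw₂J, e₂, hw₂a, hw₂b⟩ := exists_diag_mul ha hc (hKJ hk₂) (hcomm _ hk₂)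
  have hwd : ∀ w : X, (∀ j ∈ J, w * j = j * w) → (∀ j ∈ J, w * (a * j * a⁻¹) = (a * j * a⁻¹) * w) →
      ∀ x : ↥J, w * diag a J hc x = diag a J hc x * w := by
    intro w h1 h2 x
    rw [diag_apply]
    calc w * ((x : X) * (a * (x : X) * a⁻¹)) = (w * (x : X)) * (a * (x : X) * a⁻¹) := by group
      _ = ((x : X) * w) * (a * (x : X) * a⁻¹) := by rw [h1 _ x.2]
      _ = (x : X) * (w * (a * (x : X) * a⁻¹)) := by group
      _ = (x : X) * ((a * (x : X) * a⁻¹) * w) := by rw [h2 _ x.2]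
      _ = (x : X) * (a * (x : X) * a⁻¹) * w := by group
  rw [e₁, e₂, comm_mul_mul _ _ w₁ w₂ (hwd w₁ hw₁a hw₁b x₁) (hwd w₁ hw₁a hw₁b x₂)
    (hwd w₂ hw₂a hw₂b x₁) (hwd w₂ hw₂a hw₂b x₂)]
  have h6 : ⁅w₁, w₂⁆ = 1 := by
    rw [commutatorElement_eq_one_iff_commute]; exact hw₁a w₂ hw₂J
  rw [h6, mul_one, ← map_commutatorElement]
  exact ⟨_, rfl⟩

/-- if moreover `|J| ≤ |K|` then the diagonal map is injective with image `K` -/
theorem diag_bijective [Finite X] {a : X} {J K : Subgroup X}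
    (hc : ∀ x ∈ J, ∀ y ∈ J, x * (a * y * a⁻¹) = (a * y * a⁻¹) * x)
    (hK : K ≤ (diag a J hc).range) (hcard : Nat.card J ≤ Nat.card K) :
    K = (diag a J hc).range ∧ Function.Injective (diag a J hc) := by
  have h1 : Nat.card (diag a J hc).range ≤ Nat.card J :=
    Nat.le_of_dvd Nat.card_pos (Subgroup.card_range_dvd _)
  have h2 : Nat.card K ≤ Nat.card (diag a J hc).range := Subgroup.card_le_of_le hK
  refine ⟨Subgroup.eq_of_le_of_card_ge hK (h1.trans hcard), ?_⟩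
  have h3 : Function.Bijective (diag a J hc).rangeRestrict := by
    rw [Nat.bijective_iff_surjective_and_card]
    exact ⟨MonoidHom.rangeRestrict_surjective _, by omega⟩
  intro x y hxy
  apply h3.1
  exact Subtype.ext hxy

end Cfsg.Agent.Lib.Helper10.MaxComp
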