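import Mathlib
import Cfsg.Prelude.Def_Local
import Cfsg.Agent.Lib.Helper10.MaxComp2

set_option autoImplicit false

/-!
# Maximal components, part 3: the elementary abelian subgroup in the diagonal case
-/

namespace Cfsg.Agent.Lib.Helper10.MaxComp

open Cfsg Cfsg.Agent.Lib.Helper10 Cfsg.Agent.Lib.Helper9
open scoped commutatorElement

universe u

variable {X : Type u} [Group X]

theorem map_conj_one' (S : Subgroup X) : S.map (MulAut.conj (1 : X)).toMonoidHom = S := by
  have : (MulAut.conj (1 : X)).toMonoidHom = MonoidHom.id X := by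
    ext x; simp
  rw [this, Subgroup.map_id]

/-- an element commuting with `a` and centralizing `K ≤ J J^a` permutes `{J, J^a}` -/
theorem conj_eq_or_eq [Finite X] {a β : X} (ha : a * a = 1) (hβa : β * a = a * β)
    {J K : Subgroup X} (hJ : IsComponent J)
    (hKJ : K ≤ J ⊔ J.map (MulAut.conj a).toMonoidHom)
    (hβK : β ∈ Subgroup.centralizer (K : Set X)) (hperf : ⁅K, K⁆ = K) (hne : K ≠ ⊥) :
    J.map (MulAut.conj β).toMonoidHom = J ∨
      J.map (MulAut.conj β).toMonoidHom = J.map (MulAut.conj a).toMonoidHom := by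
  by_contra hcon
  rw [not_or] at hcon
  obtain ⟨h1, h2⟩ := hcon
  have hmm : (J.map (MulAut.conj a).toMonoidHom).map (MulAut.conj β).toMonoidHom =
      (J.map (MulAut.conj β).toMonoidHom).map (MulAut.conj a).toMonoidHom := by
    rw [← map_conj_mul, ← map_conj_mul, hβa]
  have h3 : (J.map (MulAut.conj β).toMonoidHom).map (MulAut.conj a).toMonoidHom ≠
      J.map (MulAut.conj a).toMonoidHom := by
    intro h
    exact h1 (Subgroup.map_injective (MulAut.conj a).injective h)
  have h4 : (J.map (MulAut.conj β).toMonoidHom).map (MulAut.conj a).toMonoidHom ≠ J := by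
    intro h
    apply h2
    have h5 := congrArg (Subgroup.map (MulAut.conj a).toMonoidHom) h
    rwa [← map_conj_mul, ha, map_conj_one'] at h5
  have hJa := isComponent_conj hJ a
  have hJβ := isComponent_conj hJ β
  have hJβa := isComponent_conj hJβ a
  have c1 := Cfsg.Agent.S1263.distinct_components_commute hJβ hJ h1
  have c2 := Cfsg.Agent.S1263.distinct_components_commute hJβ hJa h2
  have c3 := Cfsg.Agent.S1263.distinct_components_commute hJβa hJ h4
  have c4 := Cfsg.Agent.S1263.distinct_components_commute hJβa hJa h3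
  rw [Subgroup.commutator_eq_bot_iff_le_centralizer] at c1 c2 c3 c4
  have hK1 : K ≤ J.map (MulAut.conj β).toMonoidHom ⊔
      (J.map (MulAut.conj β).toMonoidHom).map (MulAut.conj a).toMonoidHom := by
    rw [← hmm, ← Subgroup.map_sup]
    intro k hk
    refine ⟨k, hKJ hk, ?_⟩
    rw [Subgroup.mem_centralizer_iff] at hβK
    have := hβK k hk
    show β * k * β⁻¹ = k
    rw [← this]; group
  have hK2 : J.map (MulAut.conj β).toMonoidHom ⊔
      (J.map (MulAut.conj β).toMonoidHom).map (MulAut.conj a).toMonoidHom ≤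
      Subgroup.centralizer ((J ⊔ J.map (MulAut.conj a).toMonoidHom : Subgroup X) : Set X) := by
    apply sup_le
    · rw [Subgroup.le_centralizer_iff]
      exact sup_le (Subgroup.le_centralizer_iff.1 c1) (Subgroup.le_centralizer_iff.1 c2)
    · rw [Subgroup.le_centralizer_iff]
      exact sup_le (Subgroup.le_centralizer_iff.1 c3) (Subgroup.le_centralizer_iff.1 c4)
  have hK3 : K ≤ Subgroup.centralizer (K : Set X) :=
    (hK1.trans hK2).trans (Subgroup.centralizer_le (by exact_mod_cast hKJ))
  apply hne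
  rw [← hperf, Subgroup.commutator_eq_bot_iff_le_centralizer]
  exact hK3

/-- index at most two from a two-valued invariant -/
theorem card_le_two_mul_of_coset {B B₀ : Subgroup X} [Finite B] (hle : B₀ ≤ B)
    (h : ∀ β ∈ B, ∀ γ ∈ B, β ∉ B₀ → γ ∉ B₀ → γ⁻¹ * β ∈ B₀) :
    Nat.card B ≤ 2 * Nat.card B₀ := by
  have h1 := Subgroup.card_mul_index (B₀.subgroupOf B)
  have h2 : Nat.card (B₀.subgroupOf B) = Nat.card B₀ :=
    Nat.card_congr (Subgroup.subgroupOfEquivOfLe hle).toEquiv
  have h3 : (B₀.subgroupOf B).index ≤ 2 := by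
    by_cases hall : ∀ β ∈ B, β ∈ B₀
    · have : B₀.subgroupOf B = ⊤ := by
        rw [Subgroup.subgroupOf_eq_top]; exact hall
      rw [this, Subgroup.index_top]; norm_num
    · push_neg at hall
      obtain ⟨γ, hγB, hγ⟩ := hall
      let f : Fin 2 → ↥B ⧸ (B₀.subgroupOf B) := ![((1 : ↥B) : ↥B ⧸ (B₀.subgroupOf B)), ((⟨γ, hγB⟩ : ↥B) : ↥B ⧸ (B₀.subgroupOf B))]
      have hf : Function.Surjective f := by
        intro q
        induction q using QuotientGroup.induction_on with
        | H β =>
          by_cases hβ : (β : X) ∈ B₀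
          · refine ⟨0, ?_⟩
            show ((1 : ↥B) : ↥B ⧸ (B₀.subgroupOf B)) = _
            rw [QuotientGroup.eq, Subgroup.mem_subgroupOf]
            simpa using hβ
          · refine ⟨1, ?_⟩
            show ((⟨γ, hγB⟩ : ↥B) : ↥B ⧸ (B₀.subgroupOf B)) = _
            rw [QuotientGroup.eq, Subgroup.mem_subgroupOf]
            exact h β β.2 γ hγB hβ hγ
      have := Nat.card_le_card_of_surjective f hf
      rw [Nat.card_fin] at this
      exact this
  rw [← h1, h2, mul_comm]
  exact Nat.mul_le_mul_right _ h3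

end Cfsg.Agent.Lib.Helper10.MaxComp
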