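import Mathlib
import Cfsg.Prelude.Def_Local
import Cfsg.Agent.Lib.Helper10.MaxComp3

set_option autoImplicit false

/-!
# Maximal components, part 4: the elementary abelian subgroup in the diagonal case
-/

namespace Cfsg.Agent.Lib.Helper10.MaxComp

open Cfsg Cfsg.Agent.Lib.Helper10 Cfsg.Agent.Lib.Helper9
open scoped commutatorElement

universe u

variable {X : Type u} [Group X]

theorem exists_big_elementary [Finite X] {a : X} (ha : a * a = 1) {J K : Subgroup X}
    (hJ : IsComponent J)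
    (hc : ∀ x ∈ J, ∀ y ∈ J, x * (a * y * a⁻¹) = (a * y * a⁻¹) * x)
    (hKr : K = (diag a J hc).range) (hinj : Function.Injective (diag a J hc))
    (hperf : ⁅K, K⁆ = K) (hne : K ≠ ⊥)
    (B A : Subgroup X) (hBa : B ≤ Subgroup.centralizer ({a} : Set X))
    (hBK : B ≤ Subgroup.centralizer (K : Set X))
    (hB2 : ∀ x ∈ B, x * x = 1)
    (hAK : A ≤ K) (hAc : ∀ x ∈ A, ∀ y ∈ A, x * y = y * x) (hA2 : ∀ x ∈ A, x * x = 1)
    (hBc : ∀ x ∈ B, ∀ y ∈ B, x * y = y * x) :
    ∃ E : Subgroup X, E ≤ Subgroup.centralizer (J : Set X) ∧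
      (∀ x ∈ E, ∀ y ∈ E, x * y = y * x) ∧
      (∀ x ∈ E, x * x = 1) ∧ Nat.card A * Nat.card B ≤ 2 * Nat.card E := by
  have hai := inv_eq_self_of_mul_self ha
  have hKJ : K ≤ J ⊔ J.map (MulAut.conj a).toMonoidHom := by
    rw [hKr]
    rintro _ ⟨x, rfl⟩
    rw [diag_apply]
    exact Subgroup.mul_mem_sup x.2 ⟨x, x.2, by simp [MulAut.conj_apply]⟩
  have hBa' : ∀ β ∈ B, a * β = β * a := by
    intro β hβ
    have := hBa hβ
    rw [Subgroup.mem_centralizer_iff] at this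
    exact this a rfl
  -- the subgroups
  let B₀ : Subgroup X := B ⊓ Subgroup.normalizer (J : Set X)
  let θ : ↥J →* X := (MulAut.conj a).toMonoidHom.comp J.subtype
  have hθ : ∀ x : ↥J, θ x = a * (x : X) * a⁻¹ := fun x => by simp [θ, MulAut.conj_apply]
  have hθinj : Function.Injective θ := by
    intro x y hxy
    rw [hθ, hθ] at hxy
    apply Subtype.ext
    have : a⁻¹ * (a * (x : X) * a⁻¹) * a = a⁻¹ * (a * (y : X) * a⁻¹) * a := by rw [hxy]
    simpa [mul_assoc] using this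
  let A₂ : Subgroup X := (A.comap (diag a J hc)).map θ
  -- B₀ centralizes J
  have f1 : ∀ β ∈ B₀, ∀ x ∈ J, β * x * β⁻¹ = x := by
    intro β hβ x hx
    have hx' : β * x * β⁻¹ ∈ J := (Subgroup.mem_normalizer_iff.1 hβ.2 x).1 hx
    have h1 : diag a J hc ⟨β * x * β⁻¹, hx'⟩ = diag a J hc ⟨x, hx⟩ := by
      rw [diag_apply, diag_apply]
      show β * x * β⁻¹ * (a * (β * x * β⁻¹) * a⁻¹) = x * (a * x * a⁻¹)
      have h2 : x * (a * x * a⁻¹) ∈ K := by
        rw [hKr]; exact ⟨⟨x, hx⟩, rfl⟩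
      have h3 := hBK hβ.1
      rw [Subgroup.mem_centralizer_iff] at h3
      have h4 := h3 _ h2
      have h5 := hBa' β hβ.1
      calc β * x * β⁻¹ * (a * (β * x * β⁻¹) * a⁻¹)
          = β * x * β⁻¹ * ((a * β) * x * (a * β)⁻¹) := by group
        _ = β * x * β⁻¹ * ((β * a) * x * (β * a)⁻¹) := by rw [h5]
        _ = β * (x * (a * x * a⁻¹)) * β⁻¹ := by group
        _ = (x * (a * x * a⁻¹)) * β * β⁻¹ := by rw [h4]
        _ = x * (a * x * a⁻¹) := by group
    have := hinj h1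
    exact congrArg Subtype.val this
  have f2 : B₀ ≤ Subgroup.centralizer (J : Set X) := by
    intro β hβ
    rw [Subgroup.mem_centralizer_iff]
    intro x hx
    have := f1 β hβ x hx
    calc x * β = (β * x * β⁻¹) * β := by rw [this]
      _ = β * x := by group
  have f2' : B₀ ≤ Subgroup.centralizer ((J.map (MulAut.conj a).toMonoidHom : Subgroup X) : Set X) := by
    intro β hβ
    rw [Subgroup.mem_centralizer_iff]
    rintro _ ⟨x, hx, rfl⟩
    have h1 := f1 β hβ x hx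
    have h5 := hBa' β hβ.1
    show a * x * a⁻¹ * β = β * (a * x * a⁻¹)
    calc a * x * a⁻¹ * β = a * (β * x * β⁻¹) * a⁻¹ * β := by rw [h1]
      _ = (a * β) * x * (a * β)⁻¹ * β := by group
      _ = (β * a) * x * (β * a)⁻¹ * β := by rw [h5]
      _ = β * (a * x * a⁻¹) := by group
  have f3 : A₂ ≤ J.map (MulAut.conj a).toMonoidHom := by
    rintro _ ⟨x, -, rfl⟩
    exact ⟨x, x.2, rfl⟩
  have f3' : J.map (MulAut.conj a).toMonoidHom ≤ Subgroup.centralizer (J : Set X) := by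
    rintro _ ⟨y, hy, rfl⟩
    rw [Subgroup.mem_centralizer_iff]
    intro x hx
    exact hc x hx y hy
  -- A₂ is elementary abelian
  have f4 : ∀ s ∈ A₂, ∀ t ∈ A₂, s * t = t * s := by
    rintro _ ⟨x, hx, rfl⟩ _ ⟨y, hy, rfl⟩
    rw [SetLike.mem_coe, Subgroup.mem_comap] at hx hy
    have h1 : x * y = y * x := by
      apply hinj
      rw [map_mul, map_mul]
      exact hAc _ hx _ hy
    rw [← map_mul, ← map_mul, h1]
  have f4' : ∀ s ∈ A₂, s * s = 1 := by
    rintro _ ⟨x, hx, rfl⟩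
    rw [SetLike.mem_coe, Subgroup.mem_comap] at hx
    have h1 : x * x = 1 := by
      apply hinj
      rw [map_mul, map_one]
      exact hA2 _ hx
    rw [← map_mul, h1, map_one]
  have f5 : ∀ s ∈ A₂, ∀ β ∈ B₀, β * s = s * β := by
    intro s hs β hβ
    have := f2' hβ
    rw [Subgroup.mem_centralizer_iff] at this
    exact (this s (f3 hs)).symm
  have hB₀n : B₀ ≤ Subgroup.normalizer (A₂ : Set X) := by
    refine le_trans ?_ (Subgroup.centralizer_le_normalizer _)
    exact f2'.trans (Subgroup.centralizer_le (by exact_mod_cast f3))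
  -- trivial intersection
  have f6 : A₂ ⊓ B₀ = ⊥ := by
    rw [eq_bot_iff]
    rintro t ⟨⟨x, hx, rfl⟩, ht⟩
    rw [Subgroup.mem_bot]
    rw [hθ] at ht ⊢
    have h1 := hBa' _ ht.1
    have h2 : (x : X) = a * (x : X) * a⁻¹ := by
      have h3 : a * (a * (x : X) * a⁻¹) * a⁻¹ = a * (x : X) * a⁻¹ := by
        rw [h1]; group
      have h4 : a * (a * (x : X) * a⁻¹) * a⁻¹ = (a * a) * (x : X) * (a * a)⁻¹ := by group
      rw [h4, ha] at h3
      simpa using h3
    have h5 : diag a J hc x = 1 := by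
      rw [diag_apply, ← h2]
      have := hB2 _ ht.1
      rw [← h2] at this
      exact this
    have h6 : x = 1 := by
      apply hinj
      rw [h5, map_one]
    rw [h6]; simp
  -- cardinalities
  have f7 : Nat.card A₂ = Nat.card A := by
    have h1 : Nat.card A₂ = Nat.card (A.comap (diag a J hc)) :=
      Subgroup.card_map_of_injective hθinj
    have h2 : (A.comap (diag a J hc)).map (diag a J hc) = A :=
      Subgroup.map_comap_eq_self (by rw [← hKr]; exact hAK)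
    have h3 : Nat.card ((A.comap (diag a J hc)).map (diag a J hc)) =
        Nat.card (A.comap (diag a J hc)) := Subgroup.card_map_of_injective hinj
    rw [h1, ← h3, h2]
  have f8 : Nat.card B ≤ 2 * Nat.card B₀ := by
    apply card_le_two_mul_of_coset inf_le_left
    intro β hβ γ hγ hβ0 hγ0
    have hcase : ∀ δ ∈ B, δ ∉ B₀ → J.map (MulAut.conj δ).toMonoidHom =
        J.map (MulAut.conj a).toMonoidHom := by
      intro δ hδ hδ0
      rcases conj_eq_or_eq ha (hBa' δ hδ).symm hJ hKJ (hBK hδ) hperf hne with h | h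
      · exfalso
        apply hδ0
        refine ⟨hδ, ?_⟩
        exact Cfsg.Agent.Lib.Helper9.mem_normalizer_of_map_conj_eq h
      · exact h
    have h1 := hcase β hβ hβ0
    have h2 := hcase γ hγ hγ0
    refine ⟨B.mul_mem (B.inv_mem hγ) hβ, ?_⟩
    apply Cfsg.Agent.Lib.Helper9.mem_normalizer_of_map_conj_eq
    rw [map_conj_mul, h1, ← h2, ← map_conj_mul, inv_mul_cancel, map_conj_one']
  refine ⟨A₂ ⊔ B₀, sup_le (f3.trans f3') f2, ?_, ?_, ?_⟩
  · intro e₁ he₁ e₂ he₂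
    obtain ⟨s₁, hs₁, β₁, hβ₁, rfl⟩ := exists_mul_of_mem_sup A₂ B₀ hB₀n e₁ he₁
    obtain ⟨s₂, hs₂, β₂, hβ₂, rfl⟩ := exists_mul_of_mem_sup A₂ B₀ hB₀n e₂ he₂
    have h1 := f5 s₂ hs₂ β₁ hβ₁
    have h2 := f5 s₁ hs₁ β₂ hβ₂
    have h3 := f4 s₁ hs₁ s₂ hs₂
    have h4 := hBc β₁ hβ₁.1 β₂ hβ₂.1
    calc s₁ * β₁ * (s₂ * β₂) = s₁ * (β₁ * s₂) * β₂ := by group
      _ = s₁ * (s₂ * β₁) * β₂ := by rw [h1]
      _ = (s₁ * s₂) * (β₁ * β₂) := by group
      _ = (s₂ * s₁) * (β₂ * β₁) := by rw [h3, h4]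
      _ = s₂ * (s₁ * β₂) * β₁ := by group
      _ = s₂ * (β₂ * s₁) * β₁ := by rw [h2]
      _ = s₂ * β₂ * (s₁ * β₁) := by group
  · intro e he
    obtain ⟨s, hs, β, hβ, rfl⟩ := exists_mul_of_mem_sup A₂ B₀ hB₀n e he
    have h1 := f5 s hs β hβ
    calc s * β * (s * β) = s * (β * s) * β := by group
      _ = s * (s * β) * β := by rw [h1]
      _ = (s * s) * (β * β) := by group
      _ = 1 := by rw [f4' s hs, hB2 β hβ.1, mul_one]
  · rw [card_sup_of_inf_eq_bot A₂ B₀ hB₀n f6, f7]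
    calc Nat.card A * Nat.card B ≤ Nat.card A * (2 * Nat.card B₀) := Nat.mul_le_mul_left _ f8
      _ = 2 * (Nat.card A * Nat.card B₀) := by ring

end Cfsg.Agent.Lib.Helper10.MaxComp
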