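import Mathlib
import Cfsg.Prelude.Def_Local
import Cfsg.Agent.Lib.Helper10.MaxComp4

set_option autoImplicit false

/-!
# Maximal components, part 5: the abstract dichotomy
-/

namespace Cfsg.Agent.Lib.Helper10.MaxComp

open Cfsg Cfsg.Agent.Lib.Helper10 Cfsg.Agent.Lib.Helper9
open scoped commutatorElement

universe u

variable {X : Type u} [Group X]

theorem layer_le_normalizer_component [Finite X] {J : Subgroup X} (hJ : IsComponent J) :
    layer X ≤ Subgroup.normalizer (J : Set X) :=
  sSup_le (fun _ hJ' => isComponent_le_normalizer hJ hJ')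

theorem maxcomp_abstract [Finite X] {a : X} (ha : a * a = 1) {K : Subgroup X}
    (hKa : K ≤ Subgroup.centralizer ({a} : Set X))
    (hK : IsComponent (K.subgroupOf (Subgroup.centralizer ({a} : Set X))))
    (hKL : K ≤ layer X)
    (hmax : ∀ J : Subgroup X, IsComponent J → Nat.card J ≤ Nat.card K) :
    IsComponent K ∨ ∃ J : Subgroup X, IsComponent J ∧ Nat.card J = Nat.card K ∧
      ∀ B A : Subgroup X, B ≤ Subgroup.centralizer ({a} : Set X) →
        B ≤ Subgroup.centralizer (K : Set X) → (∀ x ∈ B, x * x = 1) → A ≤ K →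
        (∀ x ∈ A, ∀ y ∈ A, x * y = y * x) → (∀ x ∈ A, x * x = 1) →
        (∀ x ∈ B, ∀ y ∈ B, x * y = y * x) →
        ∃ E : Subgroup X, E ≤ Subgroup.centralizer (J : Set X) ∧
          (∀ x ∈ E, ∀ y ∈ E, x * y = y * x) ∧
          (∀ x ∈ E, x * x = 1) ∧ Nat.card A * Nat.card B ≤ 2 * Nat.card E := by
  have hperf : ⁅K, K⁆ = K := by
    have h1 := isComponent_commutator_self hK
    have h2 := congrArg (Subgroup.map (Subgroup.centralizer ({a} : Set X)).subtype) h1
    rwa [Subgroup.map_commutator, Subgroup.map_subgroupOf_eq_of_le hKa] at h2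
  have hne : K ≠ ⊥ := by
    intro h
    apply isComponent_ne_bot hK
    rw [h]
    exact Subgroup.bot_subgroupOf _
  obtain ⟨J, hJ, hKJne⟩ := exists_component_not_commute hKL hperf hne
  have hJa := isComponent_conj hJ a
  have hNmap : (J ⊔ J.map (MulAut.conj a).toMonoidHom).map (MulAut.conj a).toMonoidHom =
      J ⊔ J.map (MulAut.conj a).toMonoidHom := by
    rw [Subgroup.map_sup, ← map_conj_mul, ha, map_conj_one', sup_comm]
  have hNa : a ∈ Subgroup.normalizer ((J ⊔ J.map (MulAut.conj a).toMonoidHom : Subgroup X) : Set X) :=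
    mem_normalizer_of_map_conj_eq hNmap
  have hNle : J ⊔ J.map (MulAut.conj a).toMonoidHom ≤ layer X :=
    sup_le (component_le_layer hJ) (component_le_layer hJa)
  have hLn : layer X ≤
      Subgroup.normalizer ((J ⊔ J.map (MulAut.conj a).toMonoidHom : Subgroup X) : Set X) := by
    intro g hg
    apply mem_normalizer_of_map_conj_eq
    rw [Subgroup.map_sup,
      map_conj_eq_of_mem_normalizer (layer_le_normalizer_component hJ hg),
      map_conj_eq_of_mem_normalizer (layer_le_normalizer_component hJa hg)]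
  have hN : (J ⊔ J.map (MulAut.conj a).toMonoidHom).IsSubnormal := by
    refine Subgroup.IsSubnormal.step _ (layer X) hNle ?_ ?_
    · exact (inferInstance : (layer X).Normal).isSubnormal
    · exact (Subgroup.normal_subgroupOf_iff_le_normalizer hNle).2 hLn
  have hKN := hKL.trans (layer_le_sup_centralizer hJ a)
  have hne' : ⁅K, J ⊔ J.map (MulAut.conj a).toMonoidHom⁆ ≠ ⊥ := by
    intro h
    apply hKJne
    rw [eq_bot_iff, ← h]
    exact Subgroup.commutator_mono le_rfl le_sup_left
  have hKleN := le_of_le_sup_centralizer a hNa hN hKa hK hKN hne'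
  by_cases hcase : J.map (MulAut.conj a).toMonoidHom = J
  · left
    rw [hcase, sup_idem] at hKleN
    have : K = J := Subgroup.eq_of_le_of_card_ge hKleN (hmax J hJ)
    rw [this]; exact hJ
  · right
    have hcomm := Cfsg.Agent.S1263.distinct_components_commute hJ hJa (Ne.symm hcase)
    have hc := commute_of_commutator_eq_bot hcomm
    have hKr := le_range_diag ha hc hKleN hKa hperf
    obtain ⟨hKeq, hinj⟩ := diag_bijective hc hKr (hmax J hJ)
    refine ⟨J, hJ, ?_, ?_⟩
    · rw [hKeq]
      exact (Nat.card_congr (MonoidHom.ofInjective hinj).toEquiv)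
    · intro B A hBa hBK hB2 hAK hAc hA2 hBc
      exact exists_big_elementary ha hJ hc hKeq hinj hperf hne B A hBa hBK hB2 hAK hAc hA2 hBc

end Cfsg.Agent.Lib.Helper10.MaxComp
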