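import Mathlib
import Cfsg.Prelude.Def_Local
import Cfsg.Agent.Lib.Helper10.MaxComp5
import Cfsg.Agent.Lib.Helper10.PComp2
import Cfsg.Agent.Lib.Helper10.LBal6
import Cfsg.Agent.S1887
import Cfsg.Agent.S1276

set_option autoImplicit false

/-!
# Maximal components, part 6: components of even order are 2-components; transport
-/

namespace Cfsg.Agent.Lib.Helper10.MaxComp

open Cfsg Cfsg.Agent.Lib.Helper10 Cfsg.Agent.Lib.Helper9
open scoped commutatorElement

universe u

theorem sylow_two_not_central_of_perfect {Y : Type*} [Group Y] [Finite Y]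
    (hp : Group.IsPerfect Y) (heven : Even (Nat.card Y)) (S : Sylow 2 Y) :
    ¬ (S : Subgroup Y) ≤ Subgroup.center Y := by
  intro hS
  have : Fact (Nat.Prime 2) := ⟨Nat.prime_two⟩
  have h2 : 2 ∣ Nat.card Y := even_iff_two_dvd.mp heven
  have hP : Subgroup.normalizer ((S : Subgroup Y) : Set Y) ≤ Subgroup.centralizer (S : Set Y) := by
    intro x _
    rw [Subgroup.mem_centralizer_iff]
    intro s hs
    have := hS hs
    rw [Subgroup.mem_center_iff] at this
    exact (this x).symm
  have hcomp := MonoidHom.ker_transferSylow_isComplement' S hP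
  have hker : (MonoidHom.transferSylow S hP).ker = ⊤ := by
    rw [eq_top_iff, ← hp.commutator_eq_top]
    letI : CommGroup ↥(S : Subgroup Y) :=
      { (inferInstance : Group ↥(S : Subgroup Y)) with
        mul_comm := fun a b => Subtype.ext (hP (Subgroup.le_normalizer b.2) a a.2) }
    exact Abelianization.commutator_subset_ker _
  rw [hker] at hcomp
  have hS1 : (S : Subgroup Y) = ⊥ := by
    have := hcomp.card_mul_card
    have h1 : Nat.card (⊤ : Subgroup Y) = Nat.card Y := Subgroup.card_top
    rw [h1] at this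
    have hpos : 0 < Nat.card Y := Nat.card_pos
    have : Nat.card ↥(S : Subgroup Y) = 1 := by
      nlinarith [Nat.eq_of_mul_eq_mul_left hpos (by rw [this, mul_one] : Nat.card Y * Nat.card ↥(S : Subgroup Y) = Nat.card Y * 1)]
    exact Subgroup.card_eq_one.mp this
  exact S.ne_bot_of_dvd_card h2 hS1

/-- a Sylow `p`-subgroup lies in every normal subgroup of index prime to `p` -/
theorem sylow_le_of_normal_index_coprime {Y : Type*} [Group Y] [Finite Y] {p : ℕ} [Fact p.Prime]
    (S : Sylow p Y) (N : Subgroup Y) [N.Normal] (hN : N.index.Coprime p) :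
    (S : Subgroup Y) ≤ N := by
  have h1 : IsPGroup p ((S : Subgroup Y).map (QuotientGroup.mk' N)) := S.2.map _
  obtain ⟨n, hn⟩ := IsPGroup.iff_card.1 h1
  have h2 : Nat.card ((S : Subgroup Y).map (QuotientGroup.mk' N)) ∣ N.index := by
    rw [Subgroup.index_eq_card]
    exact Subgroup.card_subgroup_dvd_card _
  have h3 : Nat.card ((S : Subgroup Y).map (QuotientGroup.mk' N)) = 1 := by
    have h4 : (p ^ n).Coprime (Nat.card ((S : Subgroup Y).map (QuotientGroup.mk' N))) :=
      (Nat.Coprime.pow_left n (Nat.Coprime.coprime_dvd_left h2 hN).symm)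
    rw [hn] at h4
    rw [hn]
    exact (Nat.coprime_self _).1 h4
  have h5 := Subgroup.card_eq_one.mp h3
  rw [Subgroup.map_eq_bot_iff, QuotientGroup.ker_mk'] at h5
  exact h5

/-- a component of even order is a 2-component -/
theorem isPComponent_two_of_isComponent {Y : Type*} [Group Y] [Finite Y] {Kc : Subgroup Y}
    (hK : IsComponent Kc) (heven : Even (Nat.card Kc)) : IsPComponent 2 Kc := by
  have hp2 : Fact (Nat.Prime 2) := ⟨Nat.prime_two⟩
  haveI : (pPrimeCore 2 ↥Kc).Normal := Cfsg.Agent.Lib.Helper1.pPrimeCore_normal 2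
  apply (Cfsg.Agent.S1887.result (X := Y) (p := 2)).2 Kc hK.1
  · refine ⟨hK.1.map (QuotientGroup.mk'_surjective _), ?_⟩
    apply isQuasisimple_of_mulEquiv (quotientCoreEquiv 2 hK.1)
    apply isQuasisimple_quotient hK.2
    intro htop
    have h1 : (Nat.card (pPrimeCore 2 ↥Kc)).Coprime 2 :=
      Cfsg.Agent.Lib.Helper1.pPrimeCore_card_coprime 2
    rw [htop, Subgroup.card_top] at h1
    have h2 : 2 ∣ Nat.card Kc := even_iff_two_dvd.mp heven
    have := Nat.Coprime.eq_one_of_dvd h1.symm h2
    omega
  · intro N hN hidx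
    haveI := hN
    rcases quasisimple_normal_top_or_central hK.2 N hN with h | h
    · exact h
    · exfalso
      obtain ⟨S⟩ : Nonempty (Sylow 2 ↥Kc) := inferInstance
      exact sylow_two_not_central_of_perfect hK.2.1 heven S
        ((sylow_le_of_normal_index_coprime S N hidx).trans h)

/-- if the 2-layer centralizes the core then it lies in the layer -/
theorem pLayer_le_layer_of_commutator_core {Y : Type*} [Group Y] [Finite Y]
    (h : ⁅pLayer 2 Y, oddCore Y⁆ = ⊥) : pLayer 2 Y ≤ layer Y := by
  apply sSup_le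
  intro J hJ
  apply component_le_layer
  refine ⟨hJ.1, ?_⟩
  rw [Cfsg.Agent.S1276.result J hJ, eq_bot_iff, ← h]
  apply Subgroup.commutator_mono (le_sSup hJ)
  rw [show oddCore ↥J = pPrimeCore 2 ↥J from rfl, pPrimeCore_subgroupOf_eq 2 hJ.1]
  rintro _ ⟨x, hx, rfl⟩
  exact hx

section Transport

variable {G : Type u} [Group G]

theorem relComp_restrict {A M N : Subgroup G} (hAM : A ≤ M) (hMN : M ≤ N)
    (h : IsComponent (A.subgroupOf N)) : IsComponent (A.subgroupOf M) :=
  ⟨relSN_restrict hAM hMN h.1,
    isQuasisimple_of_mulEquiv ((Subgroup.subgroupOfEquivOfLe (hAM.trans hMN)).trans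
      (Subgroup.subgroupOfEquivOfLe hAM).symm) h.2⟩

theorem relComp_transport {Hs : Subgroup G} {C : Subgroup ↥Hs} {M K : Subgroup G}
    (hKC : K ≤ C.map Hs.subtype) (hCM : C.map Hs.subtype ≤ M)
    (h : IsComponent (K.subgroupOf M)) : IsComponent ((K.subgroupOf Hs).subgroupOf C) := by
  have h1 := relComp_restrict hKC hCM h
  have h2 := isComponent_map_equiv (C.equivMapOfInjective Hs.subtype Hs.subtype_injective).symm h1
  convert h2 using 1
  ext x
  rw [MulEquiv.toMonoidHom_eq_coe, Subgroup.map_equiv_eq_comap_symm, Subgroup.mem_comap,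
    Subgroup.mem_subgroupOf, Subgroup.mem_subgroupOf, Subgroup.mem_subgroupOf]
  rfl

end Transport

end Cfsg.Agent.Lib.Helper10.MaxComp
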