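import Mathlib
import Cfsg.Prelude.Def_Local
import Cfsg.Agent.Lib.Helper10.MaxComp6
import Cfsg.Agent.S1301

set_option autoImplicit false

/-!
# Maximal components, part 7: the main lemma inside a subgroup `H`
-/

namespace Cfsg.Agent.Lib.Helper10.MaxComp

open Cfsg Cfsg.Agent.Lib.Helper10 Cfsg.Agent.Lib.Helper9
open scoped commutatorElement

universe u

theorem even_card_of_not_pRankLE {K : Type*} [Group K] [Finite K] (h : ¬ PRankLE 2 1 K) :
    Even (Nat.card K) := by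
  by_contra hodd
  apply h
  intro A _ hA2
  have hA : A = ⊥ := by
    rw [eq_bot_iff]
    intro x hx
    rw [Subgroup.mem_bot]
    have h1 : orderOf x ∣ 2 := orderOf_dvd_of_pow_eq_one (hA2 x hx)
    have h2 : orderOf x ∣ Nat.card K := _root_.orderOf_dvd_natCard x
    have h3 : Nat.Coprime 2 (Nat.card K) := by
      rw [Nat.coprime_two_left]; exact Nat.not_even_iff_odd.mp hodd
    exact orderOf_eq_one_iff.mp (Nat.eq_one_of_dvd_coprimes h3 h1 h2)
  rw [hA]
  simp

variable {G : Type u} [Group G]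

theorem comm_of_isMulCommutative {A : Subgroup G} (h : IsMulCommutative ↥A) :
    ∀ x ∈ A, ∀ y ∈ A, x * y = y * x :=
  fun x hx y hy => congrArg Subtype.val ((IsMulCommutative.is_comm (M := ↥A)).comm ⟨x, hx⟩ ⟨y, hy⟩)

theorem isMulCommutative_of_comm {A : Subgroup G} (h : ∀ x ∈ A, ∀ y ∈ A, x * y = y * x) :
    IsMulCommutative ↥A :=
  ⟨⟨fun x y => Subtype.ext (h x x.2 y y.2)⟩⟩

theorem elem_map_subtype (M : Subgroup G) (E : Subgroup ↥M)
    (hc : ∀ x ∈ E, ∀ y ∈ E, x * y = y * x) (h2 : ∀ x ∈ E, x * x = 1) :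
    (∀ x ∈ E.map M.subtype, ∀ y ∈ E.map M.subtype, x * y = y * x) ∧
    (∀ x ∈ E.map M.subtype, x * x = 1) ∧ Nat.card (E.map M.subtype) = Nat.card E := by
  refine ⟨?_, ?_, Subgroup.card_map_of_injective M.subtype_injective⟩
  · rintro _ ⟨x, hx, rfl⟩ _ ⟨y, hy, rfl⟩
    rw [← map_mul, ← map_mul, hc x hx y hy]
  · rintro _ ⟨x, hx, rfl⟩
    rw [← map_mul, h2 x hx, map_one]

theorem elem_subgroupOf {E M : Subgroup G} (hEM : E ≤ M)
    (hc : ∀ x ∈ E, ∀ y ∈ E, x * y = y * x) (h2 : ∀ x ∈ E, x * x = 1) :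
    (∀ x ∈ E.subgroupOf M, ∀ y ∈ E.subgroupOf M, x * y = y * x) ∧
    (∀ x ∈ E.subgroupOf M, x * x = 1) ∧ Nat.card (E.subgroupOf M) = Nat.card E := by
  refine ⟨?_, ?_, Nat.card_congr (Subgroup.subgroupOfEquivOfLe hEM).toEquiv⟩
  · intro x hx y hy
    rw [Subgroup.mem_subgroupOf] at hx hy
    exact Subtype.ext (hc _ hx _ hy)
  · intro x hx
    rw [Subgroup.mem_subgroupOf] at hx
    exact Subtype.ext (h2 _ hx)

theorem maxcomp_main [Finite G] (H : Subgroup G) (a : G) (ha : orderOf a = 2) (haH : a ∈ H)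
    (K : Subgroup G) (hKH : K ≤ H) (hKa : K ≤ Subgroup.centralizer ({a} : Set G))
    (hK : IsComponent (K.subgroupOf (Subgroup.centralizer ({a} : Set G))))
    (hBH : ⁅pLayer 2 ↥H, oddCore ↥H⁆ = ⊥)
    (hmaxH : ∀ J : Subgroup G, J ≤ H → IsComponent (J.subgroupOf H) →
      Nat.card J ≤ Nat.card K ∧ (Nat.card J = Nat.card K → ∀ k : ℕ,
        PRankLE 2 k ↥(Subgroup.centralizer ({a} : Set G) ⊓ Subgroup.centralizer (K : Set G)) →
        PRankLE 2 k ↥(H ⊓ Subgroup.centralizer (J : Set G))))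
    (hrk : ¬ PRankLE 2 1 ↥K) (B : Subgroup G) (hBH' : B ≤ H)
    (hBle : B ≤ Subgroup.centralizer ({a} : Set G) ⊓ Subgroup.centralizer (K : Set G))
    (hBel : IsElementaryAbelian 2 B)
    (hBmax : ∀ B' : Subgroup G,
      B' ≤ Subgroup.centralizer ({a} : Set G) ⊓ Subgroup.centralizer (K : Set G) →
      IsElementaryAbelian 2 B' → Nat.card B' ≤ Nat.card B) :
    IsComponent (K.subgroupOf H) := by
  have hp2 : Fact (Nat.Prime 2) := ⟨Nat.prime_two⟩
  have haa : a * a = 1 := by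
    have := pow_orderOf_eq_one a
    rwa [ha, pow_two] at this
  have hKcomm : ∀ k ∈ K, a * k = k * a := by
    intro k hk
    have := hKa hk
    rw [Subgroup.mem_centralizer_iff] at this
    exact this a rfl
  -- the 2-group T = ⟨a⟩ inside H
  have hT : IsPGroup 2 ↥(Subgroup.zpowers (⟨a, haH⟩ : ↥H)) := by
    apply IsPGroup.of_card (n := 1)
    rw [Nat.card_zpowers, Subgroup.orderOf_mk, ha, pow_one]
  have hKCT : K ≤ (Subgroup.centralizer
      ((Subgroup.zpowers (⟨a, haH⟩ : ↥H) : Subgroup ↥H) : Set ↥H)).map H.subtype := by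
    intro k hk
    refine ⟨⟨k, hKH hk⟩, ?_, rfl⟩
    rw [SetLike.mem_coe, Subgroup.mem_centralizer_iff]
    intro h hh
    rw [SetLike.mem_coe, Subgroup.mem_zpowers_iff] at hh
    obtain ⟨n, rfl⟩ := hh
    have hc : Commute (⟨k, hKH hk⟩ : ↥H) (⟨a, haH⟩ : ↥H) := Subtype.ext (hKcomm k hk).symm
    exact ((hc.zpow_right n).eq).symm
  have hCTM : (Subgroup.centralizer
      ((Subgroup.zpowers (⟨a, haH⟩ : ↥H) : Subgroup ↥H) : Set ↥H)).map H.subtype ≤
      Subgroup.centralizer ({a} : Set G) := by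
    rintro _ ⟨y, hy, rfl⟩
    rw [SetLike.mem_coe, Subgroup.mem_centralizer_iff] at hy
    have h1 := hy _ (Subgroup.mem_zpowers (⟨a, haH⟩ : ↥H))
    rw [Subgroup.mem_centralizer_iff]
    intro h hh
    rw [Set.mem_singleton_iff] at hh
    rw [hh]
    exact congrArg Subtype.val h1
  have hcompT := relComp_transport hKCT hCTM hK
  have hKHCT : K.subgroupOf H ≤ Subgroup.centralizer
      ((Subgroup.zpowers (⟨a, haH⟩ : ↥H) : Subgroup ↥H) : Set ↥H) := by
    intro x hx
    rw [Subgroup.mem_subgroupOf] at hx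
    obtain ⟨y, hy, hyx⟩ := hKCT hx
    have : y = x := Subtype.ext hyx
    rw [← this]; exact hy
  have hevenK : Even (Nat.card K) := even_card_of_not_pRankLE hrk
  have hcardKH : Nat.card (K.subgroupOf H) = Nat.card K :=
    Nat.card_congr (Subgroup.subgroupOfEquivOfLe hKH).toEquiv
  have heven : Even (Nat.card ((K.subgroupOf H).subgroupOf (Subgroup.centralizer
      ((Subgroup.zpowers (⟨a, haH⟩ : ↥H) : Subgroup ↥H) : Set ↥H)))) := by
    rw [Nat.card_congr (Subgroup.subgroupOfEquivOfLe hKHCT).toEquiv, hcardKH]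
    exact hevenK
  have hPC := isPComponent_two_of_isComponent hcompT heven
  have hle1 := isPComponent_le_pLayer 2 hPC
  have hS := Cfsg.Agent.S1301.result (X := ↥H) (Subgroup.zpowers (⟨a, haH⟩ : ↥H)) hT
  have hKHL : K.subgroupOf H ≤ layer ↥H := by
    have h1 := Subgroup.map_mono (f := (Subgroup.centralizer
      ((Subgroup.zpowers (⟨a, haH⟩ : ↥H) : Subgroup ↥H) : Set ↥H)).subtype) hle1
    rw [Subgroup.map_subgroupOf_eq_of_le hKHCT] at h1
    exact (h1.trans hS).trans (pLayer_le_layer_of_commutator_core hBH)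
  -- the centralizer of a in H
  have hKC1 : K ≤ (Subgroup.centralizer ({(⟨a, haH⟩ : ↥H)} : Set ↥H)).map H.subtype := by
    intro k hk
    refine ⟨⟨k, hKH hk⟩, ?_, rfl⟩
    rw [SetLike.mem_coe, Subgroup.mem_centralizer_iff]
    intro h hh
    rw [Set.mem_singleton_iff] at hh
    rw [hh]
    exact Subtype.ext (hKcomm k hk)
  have hC1M : (Subgroup.centralizer ({(⟨a, haH⟩ : ↥H)} : Set ↥H)).map H.subtype ≤
      Subgroup.centralizer ({a} : Set G) := by
    rintro _ ⟨y, hy, rfl⟩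
    rw [SetLike.mem_coe, Subgroup.mem_centralizer_iff] at hy
    have h1 := hy _ rfl
    rw [Subgroup.mem_centralizer_iff]
    intro h hh
    rw [Set.mem_singleton_iff] at hh
    rw [hh]
    exact congrArg Subtype.val h1
  have hcomp1 := relComp_transport hKC1 hC1M hK
  have hKa' : K.subgroupOf H ≤ Subgroup.centralizer ({(⟨a, haH⟩ : ↥H)} : Set ↥H) := by
    intro x hx
    rw [Subgroup.mem_subgroupOf] at hx
    obtain ⟨y, hy, hyx⟩ := hKC1 hx
    have : y = x := Subtype.ext hyx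
    rw [← this]; exact hy
  have ha' : (⟨a, haH⟩ : ↥H) * ⟨a, haH⟩ = 1 := Subtype.ext haa
  have hJfacts : ∀ J : Subgroup ↥H, IsComponent J →
      IsComponent ((J.map H.subtype).subgroupOf H) ∧ Nat.card (J.map H.subtype) = Nat.card J := by
    intro J hJ
    refine ⟨?_, Subgroup.card_map_of_injective H.subtype_injective⟩
    have : (J.map H.subtype).subgroupOf H = J :=
      Subgroup.comap_map_eq_self_of_injective H.subtype_injective J
    rw [this]; exact hJ
  have hmaxX : ∀ J : Subgroup ↥H, IsComponent J → Nat.card J ≤ Nat.card (K.subgroupOf H) := by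
    intro J hJ
    obtain ⟨h1, h2⟩ := hJfacts J hJ
    rw [hcardKH, ← h2]
    exact (hmaxH _ (Subgroup.map_subtype_le J) h1).1
  rcases maxcomp_abstract ha' hKa' hcomp1 hKHL hmaxX with h | ⟨J, hJ, hcard, hE⟩
  · exact h
  exfalso
  obtain ⟨hJ1, hJ2⟩ := hJfacts J hJ
  -- the order of B
  have hBc := comm_of_isMulCommutative hBel.1
  have hB2 : ∀ x ∈ B, x * x = 1 := fun x hx => by rw [← pow_two]; exact hBel.2 x hx
  have hBp : IsPGroup 2 ↥B := by
    intro x
    refine ⟨1, ?_⟩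
    rw [pow_one]
    exact Subtype.ext (hBel.2 x x.2)
  obtain ⟨k, hk⟩ := IsPGroup.iff_card.1 hBp
  have hPR : PRankLE 2 k
      ↥(Subgroup.centralizer ({a} : Set G) ⊓ Subgroup.centralizer (K : Set G)) := by
    intro A' hA'c hA'2
    have hA'c' := comm_of_isMulCommutative hA'c
    have hA'2' : ∀ x ∈ A', x * x = 1 := fun x hx => by rw [← pow_two]; exact hA'2 x hx
    obtain ⟨g1, g2, g3⟩ := elem_map_subtype _ A' hA'c' hA'2'
    rw [← g3, ← hk]
    apply hBmax _ (Subgroup.map_subtype_le A')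
    exact ⟨isMulCommutative_of_comm g1, fun x hx => by rw [pow_two]; exact g2 x hx⟩
  have hPR' := (hmaxH _ (Subgroup.map_subtype_le J) hJ1).2 (by rw [hJ2, hcard, hcardKH]) k hPR
  -- the subgroup A
  unfold PRankLE at hrk
  push_neg at hrk
  obtain ⟨A, hAc, hA2, hAcard⟩ := hrk
  have hAc' := comm_of_isMulCommutative hAc
  have hA2' : ∀ x ∈ A, x * x = 1 := fun x hx => by rw [← pow_two]; exact hA2 x hx
  obtain ⟨a1, a2, a3⟩ := elem_map_subtype K A hAc' hA2'
  have hAGK : A.map K.subtype ≤ K := Subgroup.map_subtype_le A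
  obtain ⟨a4, a5, a6⟩ := elem_subgroupOf (hAGK.trans hKH) a1 a2
  obtain ⟨b4, b5, b6⟩ := elem_subgroupOf hBH' hBc hB2
  have hBX1 : B.subgroupOf H ≤ Subgroup.centralizer ({(⟨a, haH⟩ : ↥H)} : Set ↥H) := by
    intro x hx
    rw [Subgroup.mem_subgroupOf] at hx
    have h1 : (x : G) ∈ Subgroup.centralizer ({a} : Set G) := (hBle hx).1
    rw [Subgroup.mem_centralizer_iff] at h1 ⊢
    intro h hh
    rw [Set.mem_singleton_iff] at hh
    rw [hh]
    exact Subtype.ext (h1 a rfl)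
  have hBX2 : B.subgroupOf H ≤ Subgroup.centralizer ((K.subgroupOf H : Subgroup ↥H) : Set ↥H) := by
    intro x hx
    rw [Subgroup.mem_subgroupOf] at hx
    have h1 : (x : G) ∈ Subgroup.centralizer (K : Set G) := (hBle hx).2
    rw [Subgroup.mem_centralizer_iff] at h1 ⊢
    intro h hh
    rw [SetLike.mem_coe, Subgroup.mem_subgroupOf] at hh
    exact Subtype.ext (h1 _ hh)
  have hAX : (A.map K.subtype).subgroupOf H ≤ K.subgroupOf H := by
    intro x hx
    rw [Subgroup.mem_subgroupOf] at hx ⊢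
    exact hAGK hx
  obtain ⟨E, hEJ, hEc, hE2, hEcard⟩ := hE (B.subgroupOf H) ((A.map K.subtype).subgroupOf H)
    hBX1 hBX2 b5 hAX a4 a5 b4
  obtain ⟨e1, e2, e3⟩ := elem_map_subtype H E hEc hE2
  have hEle : E.map H.subtype ≤ H ⊓ Subgroup.centralizer ((J.map H.subtype : Subgroup G) : Set G) := by
    refine le_inf (Subgroup.map_subtype_le E) ?_
    rintro _ ⟨y, hy, rfl⟩
    have h1 := hEJ hy
    rw [Subgroup.mem_centralizer_iff] at h1 ⊢
    rintro _ ⟨j, hj, rfl⟩
    exact congrArg Subtype.val (h1 j hj)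
  obtain ⟨e4, e5, e6⟩ := elem_subgroupOf hEle e1 e2
  have hfin := hPR' _ (isMulCommutative_of_comm e4) (fun x hx => by rw [pow_two]; exact e5 x hx)
  rw [e6, e3, ← hk] at hfin
  rw [a6, a3, b6] at hEcard
  have hBpos : 0 < Nat.card B := Nat.card_pos
  have : Nat.card A * Nat.card B ≤ 2 * Nat.card B := hEcard.trans (Nat.mul_le_mul_left 2 hfin)
  have h3 : Nat.card A ≤ 2 := Nat.le_of_mul_le_mul_right this hBpos
  rw [pow_one] at hAcard
  omega

end Cfsg.Agent.Lib.Helper10.MaxComp
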