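import Mathlib
import Cfsg.Agent.Lib.Helper10.Carter1

set_option autoImplicit false

namespace Cfsg.Agent.Lib.Helper10.MinSub

open scoped Pointwise
open Cfsg.Agent.Lib.Helper10.Carter

variable {F : Type*} [Group F]

theorem le_of_normal {H : Subgroup F}
    (hmin : ∀ R : Subgroup F, R ≠ ⊥ → H ≤ Subgroup.normalizer (R : Set F) → H ≤ R)
    (M : Subgroup F) [hM : M.Normal] (hMne : M ≠ ⊥) : H ≤ M := by
  apply hmin M hMne
  rw [Subgroup.normalizer_eq_top_iff.2 hM]
  exact le_top

theorem closure_props {H : Subgroup F} (hH : H ≠ ⊥)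
    (hmin : ∀ R : Subgroup F, R ≠ ⊥ → H ≤ Subgroup.normalizer (R : Set F) → H ≤ R) :
    (Subgroup.normalClosure (H : Set F)) ≠ ⊥ ∧
      ∀ M : Subgroup F, M.Normal → M ≠ ⊥ → Subgroup.normalClosure (H : Set F) ≤ M := by
  refine ⟨?_, ?_⟩
  · intro h
    apply hH
    rw [eq_bot_iff, ← h]
    exact Subgroup.le_normalClosure
  · intro M hM hMne
    exact Subgroup.normalClosure_le_normal (le_of_normal hmin M hMne)

theorem simple_closure [Finite F] {H : Subgroup F} (hH : H ≠ ⊥)
    (hmin : ∀ R : Subgroup F, R ≠ ⊥ → H ≤ Subgroup.normalizer (R : Set F) → H ≤ R) :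
    IsSimpleGroup ↥(Subgroup.normalClosure (H : Set F)) := by
  obtain ⟨N, hNdef⟩ : ∃ N : Subgroup F, N = Subgroup.normalClosure (H : Set F) := ⟨_, rfl⟩
  rw [← hNdef]
  have hNn : N.Normal := by rw [hNdef]; exact Subgroup.normalClosure_normal
  obtain ⟨hNne, hNmin⟩ := closure_props hH hmin
  rw [← hNdef] at hNne hNmin
  have hHN : H ≤ N := by rw [hNdef]; exact Subgroup.le_normalClosure
  have hnt : Nontrivial N := (Subgroup.nontrivial_iff_ne_bot N).2 hNne
  refine ⟨?_⟩
  intro T hT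
  by_contra hcon
  push Not at hcon
  obtain ⟨hTbot, hTtop⟩ := hcon
  obtain ⟨T', hT'def⟩ : ∃ T' : Subgroup F, T' = T.map N.subtype := ⟨_, rfl⟩
  have hT'N : T' ≤ N := by rw [hT'def]; exact Subgroup.map_subtype_le T
  have hT'ne : T' ≠ ⊥ := by
    rw [hT'def]
    intro h
    rw [Subgroup.map_eq_bot_iff_of_injective _ N.subtype_injective] at h
    exact hTbot h
  have hNT' : N ≤ Subgroup.normalizer (T' : Set F) := by
    intro n hn
    rw [Subgroup.mem_normalizer_iff]
    intro y
    rw [hT'def]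
    constructor
    · intro hy
      obtain ⟨t, ht, rfl⟩ := Subgroup.mem_map.1 hy
      have := hT.conj_mem t ht ⟨n, hn⟩
      exact Subgroup.mem_map.2 ⟨_, this, rfl⟩
    · intro hy
      obtain ⟨t, ht, hte⟩ := Subgroup.mem_map.1 hy
      have := hT.conj_mem t ht ⟨n, hn⟩⁻¹
      refine Subgroup.mem_map.2 ⟨_, this, ?_⟩
      have e : (N.subtype (⟨n, hn⟩⁻¹ * t * (⟨n, hn⟩ : N)⁻¹⁻¹) : F) = n⁻¹ * (N.subtype t) * n := by
        simp
      rw [e, hte]; group
  have hHcore : H ≤ T'.normalCore := by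
    intro a ha b
    have h1 : MulAut.conj b⁻¹ • T' ≠ ⊥ := by
      intro h
      apply hT'ne
      have := congrArg (fun K => MulAut.conj b • K) h
      simp only [smul_smul, ← map_mul, mul_inv_cancel, map_one, one_smul, Subgroup.smul_bot] at this
      exact this
    have h2 : H ≤ Subgroup.normalizer ((MulAut.conj b⁻¹ • T' : Subgroup F) : Set F) := by
      rw [normalizer_conj_smul]
      refine hHN.trans ?_
      have : MulAut.conj b⁻¹ • N ≤ MulAut.conj b⁻¹ • Subgroup.normalizer (T' : Set F) :=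
        Subgroup.pointwise_smul_le_pointwise_smul_iff.2 hNT'
      rwa [Subgroup.Normal.conj_smul_eq_self b⁻¹ N] at this
    have h3 := hmin _ h1 h2 ha
    rw [mem_conj_smul, inv_inv] at h3
    exact h3
  have hcne : T'.normalCore ≠ ⊥ := by
    intro h
    apply hH
    rw [eq_bot_iff, ← h]
    exact hHcore
  have h4 : N ≤ T' := (hNmin _ inferInstance hcne).trans (Subgroup.normalCore_le T')
  apply hTtop
  rw [eq_top_iff]
  intro x _
  have := h4 x.2
  rw [hT'def] at this
  obtain ⟨t, ht, hte⟩ := Subgroup.mem_map.1 this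
  have : t = x := Subtype.ext hte
  rw [← this]; exact ht

end Cfsg.Agent.Lib.Helper10.MinSub
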