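import Mathlib
import Cfsg.Agent.Lib.Helper10.MinSub1

set_option autoImplicit false

namespace Cfsg.Agent.Lib.Helper10.MinSub

open scoped Pointwise

variable {F : Type*} [Group F]

theorem prime_card_of_simple_comm [Finite F] (N : Subgroup F) (hs : IsSimpleGroup N)
    (hc : ∀ x ∈ N, ∀ y ∈ N, x * y = y * x) : (Nat.card N).Prime := by
  have hnt : Nontrivial N := hs.toNontrivial
  have h1 : Nat.card N ≠ 1 := by
    intro h
    have := (Nat.card_eq_one_iff_unique.1 h).1
    exact not_subsingleton N this
  obtain ⟨p, hp, hpd⟩ := Nat.exists_prime_and_dvd h1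
  have hpf : Fact p.Prime := ⟨hp⟩
  obtain ⟨x, hx⟩ := exists_prime_orderOf_dvd_card' p hpd
  have hZn : (Subgroup.zpowers x).Normal := by
    constructor
    intro n hn g
    have : g * n * g⁻¹ = n := by
      have h2 : g * n = n * g := Subtype.ext (hc g g.2 n n.2)
      rw [h2]; group
    rw [this]; exact hn
  rcases hs.eq_bot_or_eq_top_of_normal _ hZn with h | h
  · exfalso
    rw [Subgroup.zpowers_eq_bot] at h
    rw [h, orderOf_one] at hx
    exact hp.one_lt.ne hx
  · have h2 : Nat.card (Subgroup.zpowers x) = p := by rw [Nat.card_zpowers, hx]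
    rw [h, Subgroup.card_top] at h2
    rw [h2]; exact hp

theorem quotient_props [Finite F] (N : Subgroup F) [N.Normal] {p : ℕ} (hp : p.Prime)
    (hN : Nat.card N = p) :
    (∃ g : F, Subgroup.centralizer (N : Set F) ⊔ Subgroup.zpowers g = ⊤) ∧
      (Subgroup.centralizer (N : Set F)).index ∣ p - 1 := by
  have hpf : Fact (Nat.card N).Prime := ⟨by rw [hN]; exact hp⟩
  have hcycN : IsCyclic N := isCyclic_of_prime_card rfl
  have hcycA : IsCyclic (MulAut N) :=
    isCyclic_of_surjective (IsCyclic.mulAutMulEquiv N).symm (IsCyclic.mulAutMulEquiv N).symm.surjective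
  have hker : (MulAut.conjNormal (H := N)).ker = Subgroup.centralizer (N : Set F) := by
    ext f
    rw [MonoidHom.mem_ker, Subgroup.mem_centralizer_iff]
    constructor
    · intro h n hn
      have h1 : (MulAut.conjNormal f : MulAut N) ⟨n, hn⟩ = ⟨n, hn⟩ := by rw [h]; rfl
      have h2 := congrArg Subtype.val h1
      rw [MulAut.conjNormal_apply] at h2
      calc n * f = (f * n * f⁻¹) * f := by rw [h2]
        _ = f * n := by group
    · intro h
      ext n
      rw [MulAut.conjNormal_apply, MulAut.one_apply]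
      have := h n n.2
      calc f * (n : F) * f⁻¹ = ((n : F) * f) * f⁻¹ := by rw [this]
        _ = n := by group
  refine ⟨?_, ?_⟩
  · have hcycR : IsCyclic (MulAut.conjNormal (H := N)).range := inferInstance
    obtain ⟨γ, hγ⟩ := hcycR.exists_generator
    obtain ⟨g, hg⟩ := γ.2
    refine ⟨g, ?_⟩
    rw [eq_top_iff]
    intro f _
    obtain ⟨k, hk⟩ := Subgroup.mem_zpowers_iff.1 (hγ ⟨MulAut.conjNormal f, ⟨f, rfl⟩⟩)
    have h1 : MulAut.conjNormal (H := N) (g ^ k) = MulAut.conjNormal f := by
      rw [map_zpow, hg]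
      have := congrArg Subtype.val hk
      rw [Subgroup.coe_zpow] at this
      exact this
    have h2 : f * (g ^ k)⁻¹ ∈ Subgroup.centralizer (N : Set F) := by
      rw [← hker, MonoidHom.mem_ker, map_mul, map_inv, h1, mul_inv_cancel]
    have h3 : f = (f * (g ^ k)⁻¹) * g ^ k := by group
    rw [h3]
    exact Subgroup.mul_mem _ ((le_sup_left : Subgroup.centralizer (N : Set F) ≤ _) h2)
      ((le_sup_right : Subgroup.zpowers g ≤ Subgroup.centralizer (N : Set F) ⊔ _)
        (Subgroup.zpow_mem_zpowers g k))
  · rw [← hker, Subgroup.index_ker]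
    have h1 := Subgroup.card_subgroup_dvd_card (MulAut.conjNormal (H := N)).range
    rw [IsCyclic.card_mulAut, hN, Nat.totient_prime hp] at h1
    exact h1

theorem pgroup_unique [Finite F] (N C : Subgroup F) {p : ℕ} [hpf : Fact p.Prime]
    (hN : Nat.card N = p) (hall : ∀ R : Subgroup F, R ≤ C → R ≠ ⊥ → N ≤ R) :
    IsPGroup p C ∧ ∀ H K : Subgroup C, Nat.card H = p → Nat.card K = p → H = K := by
  have hp := hpf.out
  refine ⟨?_, ?_⟩
  · have h0 : Nat.card C ≠ 0 := Nat.card_pos.ne'
    have h1 : ∀ {d : ℕ}, d.Prime → d ∣ Nat.card C → d = p := by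
      intro d hd hdd
      have hdf : Fact d.Prime := ⟨hd⟩
      obtain ⟨x, hx⟩ := exists_prime_orderOf_dvd_card' d hdd
      have hR : Subgroup.zpowers (x : F) ≤ C := by
        rw [Subgroup.zpowers_le]; exact x.2
      have hRne : Subgroup.zpowers (x : F) ≠ ⊥ := by
        intro h
        rw [Subgroup.zpowers_eq_bot] at h
        have : x = 1 := Subtype.ext h
        rw [this, orderOf_one] at hx
        exact hd.one_lt.ne hx
      have h2 := Subgroup.card_dvd_of_le (hall _ hR hRne)
      rw [hN, Nat.card_zpowers, Subgroup.orderOf_coe, hx] at h2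
      exact ((Nat.prime_dvd_prime_iff_eq hp hd).1 h2).symm
    exact IsPGroup.of_card (Nat.eq_prime_pow_of_unique_prime_dvd h0 h1)
  · have key : ∀ K : Subgroup C, Nat.card K = p → K.map C.subtype = N := by
      intro K hK
      have hle : K.map C.subtype ≤ C := Subgroup.map_subtype_le K
      have hne : K.map C.subtype ≠ ⊥ := by
        intro h
        rw [Subgroup.map_eq_bot_iff_of_injective _ C.subtype_injective] at h
        rw [h, Subgroup.card_bot] at hK
        exact hp.one_lt.ne hK
      have h1 := hall _ hle hne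
      have hc : Nat.card (K.map C.subtype) = p := by
        rw [Subgroup.card_map_of_injective C.subtype_injective, hK]
      exact (Subgroup.eq_of_le_of_card_ge h1 (by rw [hc, hN])).symm
    intro H K hH hK
    apply Subgroup.map_injective C.subtype_injective
    rw [key H hH, key K hK]

end Cfsg.Agent.Lib.Helper10.MinSub
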