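import Mathlib

/-!
# Sub-project N5400, piece CENT (core): `z` of order 3 normalising `P` (order 25) and `Q`, `|P ⊓ Q| = 5`: `z` centralises `P`
(the statement of CENTFIX as a hypothesis).
-/

set_option autoImplicit false
set_option linter.unusedVariables false
set_option linter.unusedSectionVars false

namespace Cfsg.Agent.Lib.Helper10.N5400

open Classical

universe u

variable {G : Type u} [Group G] [Finite G]

/-- CENT (core) -/
theorem n5400cent_core
    (hfix : ∀ (z : G) (hz : z ^ 3 = 1) (K : Subgroup G) (hK : ∀ x ∈ K, z * x * z⁻¹ ∈ K),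
      Nat.card ↥(K ⊓ Subgroup.centralizer ({z} : Set G)) ≡ Nat.card ↥K [MOD 3])
    (P Q : Sylow 5 G) (hP : Nat.card ↥(P : Subgroup G) = 25)
    (hD : Nat.card ↥((P : Subgroup G) ⊓ (Q : Subgroup G)) = 5) (z : G) (hz : orderOf z = 3)
    (hzP : z ∈ Subgroup.normalizer ((P : Subgroup G) : Set G)) (hzQ : z ∈ Subgroup.normalizer ((Q : Subgroup G) : Set G)) :
    z ∈ Subgroup.centralizer ((P : Subgroup G) : Set G) := by
  have hz3 : z ^ 3 = 1 := by rw [← hz]; exact pow_orderOf_eq_one z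
  have hPn : ∀ x ∈ (P : Subgroup G), z * x * z⁻¹ ∈ (P : Subgroup G) := fun x hx =>
    (Subgroup.mem_normalizer_iff.mp hzP x).mp hx
  have hQn : ∀ x ∈ (Q : Subgroup G), z * x * z⁻¹ ∈ (Q : Subgroup G) := fun x hx =>
    (Subgroup.mem_normalizer_iff.mp hzQ x).mp hx
  -- `D = P ⊓ Q ≤ C(z)`
  have hDn : ∀ x ∈ (P : Subgroup G) ⊓ (Q : Subgroup G),
      z * x * z⁻¹ ∈ (P : Subgroup G) ⊓ (Q : Subgroup G) := fun x hx => ⟨hPn x hx.1, hQn x hx.2⟩
  have h1 := hfix z hz3 _ hDn
  rw [hD] at h1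
  have hdvd1 : Nat.card ↥(((P : Subgroup G) ⊓ (Q : Subgroup G)) ⊓ Subgroup.centralizer ({z} : Set G)) ∣ 5 := by
    have := Subgroup.card_dvd_of_le (inf_le_left :
      ((P : Subgroup G) ⊓ (Q : Subgroup G)) ⊓ Subgroup.centralizer ({z} : Set G) ≤ (P : Subgroup G) ⊓ (Q : Subgroup G))
    rwa [hD] at this
  have hc1 : Nat.card ↥(((P : Subgroup G) ⊓ (Q : Subgroup G)) ⊓ Subgroup.centralizer ({z} : Set G)) = 5 := by
    rcases (Nat.dvd_prime (by norm_num : Nat.Prime 5)).1 hdvd1 with h | h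
    · rw [h] at h1; exact absurd h1 (by decide)
    · exact h
  have hDle : (P : Subgroup G) ⊓ (Q : Subgroup G) ≤ Subgroup.centralizer ({z} : Set G) := by
    have : ((P : Subgroup G) ⊓ (Q : Subgroup G)) ⊓ Subgroup.centralizer ({z} : Set G) =
        (P : Subgroup G) ⊓ (Q : Subgroup G) :=
      Subgroup.eq_of_le_of_card_ge inf_le_left (by rw [hc1, hD])
    rw [← this]; exact inf_le_right
  -- `P ≤ C(z)`
  have h2 := hfix z hz3 _ hPn
  rw [hP] at h2
  have hdvd2 : Nat.card ↥((P : Subgroup G) ⊓ Subgroup.centralizer ({z} : Set G)) ∣ 25 := by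
    have := Subgroup.card_dvd_of_le (inf_le_left :
      (P : Subgroup G) ⊓ Subgroup.centralizer ({z} : Set G) ≤ (P : Subgroup G))
    rwa [hP] at this
  have hge : 5 ∣ Nat.card ↥((P : Subgroup G) ⊓ Subgroup.centralizer ({z} : Set G)) := by
    have := Subgroup.card_dvd_of_le (le_inf inf_le_left hDle :
      (P : Subgroup G) ⊓ (Q : Subgroup G) ≤ (P : Subgroup G) ⊓ Subgroup.centralizer ({z} : Set G))
    rwa [hD] at this
  have hc2 : Nat.card ↥((P : Subgroup G) ⊓ Subgroup.centralizer ({z} : Set G)) = 25 := by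
    have hle : Nat.card ↥((P : Subgroup G) ⊓ Subgroup.centralizer ({z} : Set G)) ≤ 25 :=
      Nat.le_of_dvd (by norm_num) hdvd2
    obtain ⟨c, hc⟩ := hge
    have hc5 : c ≤ 5 := by omega
    rw [hc] at h2 hdvd2 ⊢
    interval_cases c
    · exact absurd h2 (by decide)
    · exact absurd h2 (by decide)
    · exact absurd hdvd2 (by decide)
    · exact absurd hdvd2 (by decide)
    · exact absurd hdvd2 (by decide)
    · rfl
  have hPle : (P : Subgroup G) ≤ Subgroup.centralizer ({z} : Set G) := by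
    have : (P : Subgroup G) ⊓ Subgroup.centralizer ({z} : Set G) = (P : Subgroup G) :=
      Subgroup.eq_of_le_of_card_ge inf_le_left (by rw [hc2, hP])
    rw [← this]; exact inf_le_right
  rw [Subgroup.mem_centralizer_iff]
  intro x hx
  have := Subgroup.mem_centralizer_iff.mp (hPle hx) z (Set.mem_singleton z)
  exact this.symm

end Cfsg.Agent.Lib.Helper10.N5400
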