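import Mathlib
import Cfsg.Agent.Lib.Helper1.N5400SETUP
import Cfsg.Agent.Lib.Helper28.N5400CENTFIX
import Cfsg.Agent.Lib.Helper10.N5400CENTcore
import Cfsg.Agent.Lib.helper15.N5400KILL3

/-!
# Sub-project N5400, piece MAIN (core): no simple group of order 5400, with the statement of FIND as a hypothesis.
-/

set_option autoImplicit false
set_option linter.unusedVariables false
set_option linter.unusedSectionVars false

namespace Cfsg.Agent.Lib.Helper10.N5400

open Classical

universe u

variable {G : Type u} [Group G] [Finite G]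

/-- MAIN (core): assembly, FIND as a hypothesis. -/
theorem n5400main_core [IsSimpleGroup G] (hG : Nat.card G = 5400)
    (hfind : ∀ (P : Sylow 5 G), Nat.card ↥(P : Subgroup G) = 25 → Nat.card (Sylow 5 G) = 36 →
      Nat.card ↥(Subgroup.normalizer ((P : Subgroup G) : Set G)) = 150 →
      ∃ (Q : Sylow 5 G) (z : G), Q ≠ P ∧ Nat.card ↥((P : Subgroup G) ⊓ (Q : Subgroup G)) = 5 ∧ orderOf z = 3 ∧
        z ∈ Subgroup.normalizer ((P : Subgroup G) : Set G) ∧ z ∈ Subgroup.normalizer ((Q : Subgroup G) : Set G)) :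
    False := by
  obtain ⟨P⟩ : Nonempty (Sylow 5 G) := inferInstance
  obtain ⟨hP, hn, hN⟩ := setup hG P
  obtain ⟨Q, z, hQP, hD, hz, hzP, hzQ⟩ := hfind P hP hn hN
  exact kill3 hG P hP hN z hz
    (n5400cent_core (fun z hz K hK => cent_fix z hz K hK) P Q hP hD z hz hzP hzQ)

end Cfsg.Agent.Lib.Helper10.N5400
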