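import Mathlib
import Cfsg.Agent.Lib.Helper10.PPairA
import Cfsg.Agent.Lib.Helper11.LemLA
import Cfsg.Agent.S1417
import Cfsg.Agent.S1432

set_option autoImplicit false

/-! # B & G, Corollary 15.4: nilpotent Hall subgroups (helper10)

A nilpotent Hall subgroup `H ≠ 1` of `G` lies in `M_σ` for every maximal subgroup `M` containing the
normalizer of a nontrivial Sylow subgroup of `H`. -/

namespace Cfsg.Agent.Lib.Helper10.NilHall

open Cfsg Cfsg.Agent.Lib.Helper18 Cfsg.Agent.Lib.Helper28.BGt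

variable {G : Type*} [Group G] [Finite G]

/-- the Sylow `p`-subgroup of a nilpotent Hall subgroup `H` of `G`, as a subgroup of `G` -/
theorem exists_sylow_of_nilpotent_hall {H : Subgroup G} (hHn : Group.IsNilpotent H)
    (hHall : (Nat.card H).Coprime H.index) (p : ℕ) [hp : Fact p.Prime] (hpH : p ∣ Nat.card H) :
    ∃ S : Subgroup G, IsSylowIn p S H ∧ IsSylowIn p S ⊤ ∧ S ≠ ⊥ ∧
      H ≤ Subgroup.normalizer (S : Set G) := by
  obtain ⟨S₀⟩ : Nonempty (Sylow p ↥H) := inferInstance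
  haveI : (S₀ : Subgroup ↥H).Normal :=
    Sylow.normal_of_normalizerCondition Group.normalizerCondition_of_isNilpotent S₀
  have hS := isSylowIn_of_sylow S₀
  refine ⟨_, hS, ⟨le_top, hS.isPGroup, ?_⟩, ?_,
    Cfsg.Agent.Lib.Helper1.BG12.map_normal_le_normalizer H (S₀ : Subgroup ↥H)⟩
  · rw [Subgroup.relIndex_top_right, ← Subgroup.relIndex_mul_index hS.le]
    intro hd
    rcases (Nat.Prime.dvd_mul hp.out).mp hd with h | h
    · exact hS.not_dvd h
    · exact (Nat.Prime.coprime_iff_not_dvd hp.out).mp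
        (Nat.Coprime.coprime_dvd_left hpH hHall) h
  · intro h
    have h1 : Nat.card ((S₀ : Subgroup ↥H).map H.subtype) = 1 := by
      rw [h, Subgroup.card_bot]
    have h2 : Nat.card ((S₀ : Subgroup ↥H).map H.subtype) = Nat.card (S₀ : Subgroup ↥H) :=
      Nat.card_congr ((S₀ : Subgroup ↥H).equivMapOfInjective _ H.subtype_injective).symm.toEquiv
    rw [h2] at h1
    have h3 := S₀.card_eq_multiplicity
    rw [h1] at h3
    have h4 : (Nat.card ↥H).factorization p = 0 := by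
      by_contra hne
      have : 1 < p ^ (Nat.card ↥H).factorization p :=
        Nat.one_lt_pow hne hp.out.one_lt
      omega
    rcases (Nat.factorization_eq_zero_iff _ _).mp h4 with h5 | h5 | h5
    · exact h5 hp.out
    · exact h5 hpH
    · exact Nat.card_pos.ne' h5

/-- **the reduction**: `H ≤ M_σ` -/
theorem le_sigmaCore (hG : Cfsg.IsMinSimpleOddOrder G) {H : Subgroup G}
    (hHn : Group.IsNilpotent H) (hHall : (Nat.card H).Coprime H.index) (hH1 : H ≠ ⊥) :
    ∃ M : Subgroup G, IsCoatom M ∧ Subgroup.normalizer (H : Set G) ≤ M ∧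
      H ≤ Cfsg.sigmaCore M := by
  haveI : IsSimpleGroup G := hG.2.1
  have hc1 : Nat.card H ≠ 1 := fun h => hH1 (Subgroup.card_eq_one.mp h)
  obtain ⟨p, hp, hpH⟩ := Nat.exists_prime_and_dvd hc1
  haveI : Fact p.Prime := ⟨hp⟩
  obtain ⟨S, hSH, hSG, hS1, hHS⟩ := exists_sylow_of_nilpotent_hall hHn hHall p hpH
  have hStop : S ≠ ⊤ := Cfsg.Agent.Lib.Helper11.MaxSubD.pgroup_ne_top hG p S hSG.isPGroup
  obtain ⟨M, hM, hNS⟩ := Cfsg.Agent.Lib.Helper11.BenderE.exists_coatom_ge _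
    (Cfsg.Agent.Lib.Helper11.normalizer_ne_top_of_simple hS1 hStop)
  have hHM : H ≤ M := hHS.trans hNS
  have hSM : S ≤ M := hSH.le.trans hHM
  have hpσ : p ∈ Cfsg.sigma M :=
    Cfsg.Agent.Lib.Helper1.BG12.sigma_of_good M p S ⟨hSG.of_le hSM le_top, hNS, hSG⟩ hS1
  have hSσ : S ≤ Cfsg.sigmaCore M := by
    apply Cfsg.Agent.Lib.Helper13.BG14.bg14_le_sigmaCore_of_sigma_group hG hM hSM
    intro r hr hrd
    obtain ⟨k, hk⟩ := IsPGroup.iff_card.mp hSG.isPGroup
    rw [hk] at hrd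
    rw [(Nat.prime_dvd_prime_iff_eq hr hp).mp (hr.dvd_of_dvd_pow hrd)]
    exact hpσ
  refine ⟨M, hM, ?_, ?_⟩
  · -- `N_G(H) ≤ N_G(S)` since `S` is characteristic in `H` (the unique Sylow `p`-subgroup)
    intro n hn
    apply hNS
    have hconj : conjSub n S ≤ H := by
      intro y hy
      rw [mem_conjSub] at hy
      have h1 : n⁻¹ * y * n ∈ H := hSH.le hy
      have h2 := (Subgroup.mem_normalizer_iff.mp hn (n⁻¹ * y * n)).mp h1
      have e : n * (n⁻¹ * y * n) * n⁻¹ = y := by group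
      rwa [e] at h2
    -- `conjSub n S` is a `p`-subgroup of `H`, hence inside the normal Sylow `S`
    obtain ⟨h, hh, hle⟩ := hSH.exists_conj_le hconj (conjSub_isPGroup hSG.isPGroup)
    have hhn : h ∈ Subgroup.normalizer (S : Set G) := hHS hh
    have h3 : conjSub n S ≤ S := by
      have h4 : conjSub h⁻¹ (conjSub h (conjSub n S)) ≤ conjSub h⁻¹ S := conjSub_mono hle
      rw [conjSub_mul, inv_mul_cancel, conjSub_one] at h4
      rw [conjSub_eq_of_mem_normalizer (Subgroup.inv_mem _ hhn)] at h4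
      exact h4
    exact mem_normalizer_of_conjSub_le h3
  · apply Cfsg.Agent.Lib.Helper13.BG14.bg14_le_sigmaCore_of_sigma_group hG hM hHM
    intro q hq hqH
    by_contra hqσ
    haveI : Fact q.Prime := ⟨hq⟩
    have hqp : q ≠ p := fun h => hqσ (h ▸ hpσ)
    obtain ⟨Q, hQH, hQG, hQ1, hHQ⟩ := exists_sylow_of_nilpotent_hall hHn hHall q hqH
    have hQM : Q ≤ M := hQH.le.trans hHM
    -- `Q` and `S` commute
    have hQS : Q ⊓ S = ⊥ := by
      apply Cfsg.Agent.Lib.Helper1.BG15.eq_bot_of_forall_prime_not_dvd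
      intro r hr hrd
      obtain ⟨k, hk⟩ := IsPGroup.iff_card.mp hQG.isPGroup
      obtain ⟨l, hl⟩ := IsPGroup.iff_card.mp hSG.isPGroup
      have h1 := hrd.trans (Subgroup.card_dvd_of_le (inf_le_left : Q ⊓ S ≤ Q))
      have h2 := hrd.trans (Subgroup.card_dvd_of_le (inf_le_right : Q ⊓ S ≤ S))
      rw [hk] at h1
      rw [hl] at h2
      have e1 := (Nat.prime_dvd_prime_iff_eq hr hq).mp (hr.dvd_of_dvd_pow h1)
      have e2 := (Nat.prime_dvd_prime_iff_eq hr hp).mp (hr.dvd_of_dvd_pow h2)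
      exact hqp (e1.symm.trans e2)
    have hcomm : ∀ a ∈ Q, ∀ b ∈ S, a * b = b * a := fun a ha b hb =>
      Cfsg.Agent.Lib.Helper1.BG14.commute_of_normalize_disjoint hQS ha hb
        (hHS (hQH.le ha)) (hHQ (hSH.le hb))
    obtain ⟨x, hxS, hx1⟩ := exists_ne_one_of_ne_bot' hS1
    obtain ⟨x', hx'Q, hx'1⟩ := exists_ne_one_of_ne_bot' hQ1
    have hx'C : x' ∈ M ⊓ Subgroup.centralizer ({x} : Set G) := by
      refine ⟨hQM hx'Q, ?_⟩
      show x' ∈ Subgroup.centralizer ({x} : Set G)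
      rw [Subgroup.mem_centralizer_iff]
      intro y hy
      rw [Set.mem_singleton_iff] at hy
      rw [hy]
      exact (hcomm x' hx'Q x hxS).symm
    have hprimes : ∀ r : ℕ, r.Prime → r ∣ orderOf x' → r = q := by
      intro r hr hrd
      obtain ⟨k, hk⟩ := IsPGroup.iff_card.mp hQG.isPGroup
      have h1 : orderOf x' ∣ Nat.card Q := Subgroup.orderOf_dvd_natCard Q hx'Q
      rw [hk] at h1
      exact (Nat.prime_dvd_prime_iff_eq hr hq).mp (hr.dvd_of_dvd_pow (hrd.trans h1))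
    have hqx' : q ∣ orderOf x' := by
      obtain ⟨r, hr, hrd⟩ := Nat.exists_prime_and_dvd
        (show orderOf x' ≠ 1 from fun h => hx'1 (orderOf_eq_one_iff.mp h))
      rw [← hprimes r hr hrd]; exact hrd
    -- `S` is centralized by `Q`
    have hSC : S ≤ Subgroup.centralizer (Q : Set G) := by
      intro b hb
      rw [Subgroup.mem_centralizer_iff]
      intro a ha
      exact hcomm a ha b hb
    rcases Cfsg.Agent.S1432.result hG M hM x (hSσ hxS) hx1 x' hx'C hx'1
      (fun r hr hrd => by rw [hprimes r hr hrd]; exact hqσ) with ⟨hκ, -⟩ | ⟨hτ, -, -⟩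
    · -- `q ∈ κ(M)`
      have hqκ : q ∈ Cfsg.kappa M := hκ q hq hqx'
      haveI : Group.IsSolvable ↥M := hG.2.2.2 M hM.1
      obtain ⟨K, hK, hQK⟩ := Cfsg.Agent.Lib.Helper11.LemLA.exists_piHallOf_ge (Cfsg.kappa M) M hQM
        (by
          intro r hr hrd
          obtain ⟨k, hk⟩ := IsPGroup.iff_card.mp hQG.isPGroup
          rw [hk] at hrd
          rw [(Nat.prime_dvd_prime_iff_eq hr hq).mp (hr.dvd_of_dvd_pow hrd)]
          exact hqκ)
      have hK1 : K ≠ ⊥ := by
        intro h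
        apply hQ1
        rw [eq_bot_iff, ← h]
        exact hQK
      have hpa := (Cfsg.Agent.S1430.result hG M hM K hK hK1).1 x' (hQK hx'Q) hx'1
      have hSK : S ≤ Cfsg.sigmaCore M ⊓ Subgroup.centralizer (K : Set G) := by
        rw [← hpa]
        refine le_inf hSσ ?_
        intro b hb
        rw [Subgroup.mem_centralizer_iff]
        intro y hy
        rw [Set.mem_singleton_iff] at hy
        rw [hy]
        exact hcomm x' hx'Q b hb
      have hpd : p ∣ Nat.card ↥(Cfsg.sigmaCore M ⊓ Subgroup.centralizer (K : Set G)) := by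
        obtain ⟨k, hk⟩ := IsPGroup.iff_card.mp hSG.isPGroup
        have hk0 : k ≠ 0 := by
          rintro rfl
          rw [pow_zero] at hk
          exact hS1 (Subgroup.card_eq_one.mp hk)
        have h1 : p ∣ Nat.card S := by rw [hk]; exact dvd_pow_self p hk0
        exact h1.trans (Subgroup.card_dvd_of_le hSK)
      obtain ⟨S₁, hS₁⟩ := (hSG.of_le hSσ le_top).exists_sylow
      have h3 := ((Cfsg.Agent.S1431.result hG M hM K hK hK1).2.2.1 p hp hpd S₁).2.2
      apply h3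
      rw [hS₁, Subgroup.map_subgroupOf_eq_of_le hSσ]
      exact hSK
    · -- `q ∈ τ₂(M)`
      have hqτ : q ∈ Cfsg.tau2 M := hτ q hq hqx'
      obtain ⟨B₀, hB₀M, hB₀e, hB₀c⟩ :=
        Cfsg.Agent.Lib.Helper1.BG10.exists_elemAb_sq_of_not_pRankLE_one q M hqτ.2.2.2
      obtain ⟨m, -, hle⟩ := (hQG.of_le hQM le_top).exists_conj_le hB₀M (IsPGroup.of_card hB₀c)
      have hAe : Cfsg.IsElementaryAbelian q (conjSub m B₀) :=
        Cfsg.Agent.Lib.Helper11.BenderF.elemAb_conjSub q m hB₀e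
      have hAc : Nat.card (conjSub m B₀) = q ^ 2 := by rw [card_conjSub, hB₀c]
      have hbot := (Cfsg.Agent.S1417.result hG M hM q hqτ (conjSub m B₀)
        ⟨hle.trans hQM, hAe, hAc⟩).2.2.2.1
      apply hS1
      rw [eq_bot_iff, ← hbot]
      exact le_inf hSσ (hSC.trans (Subgroup.centralizer_le (by exact_mod_cast hle)))

/-- **B & G 15.4** from the fusion clause of B & G 15.3 -/
theorem fusion_of_hall_sigma (hG : Cfsg.IsMinSimpleOddOrder G)
    (h38 : ∀ M : Subgroup G, IsCoatom M → ∀ H : Subgroup G, H ≤ Cfsg.sigmaCore M → H ≠ ⊥ →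
      (Nat.card H).Coprime (H.relIndex (Cfsg.sigmaCore M)) →
      ∀ x ∈ H, ∀ g : G, g * x * g⁻¹ ∈ H →
        ∃ n ∈ M ⊓ Subgroup.normalizer (H : Set G), n * x * n⁻¹ = g * x * g⁻¹)
    {H : Subgroup G} (hHn : Group.IsNilpotent H) (hHall : (Nat.card H).Coprime H.index) :
    ∀ x ∈ H, ∀ g : G, g * x * g⁻¹ ∈ H →
      ∃ n ∈ Subgroup.normalizer (H : Set G), n * x * n⁻¹ = g * x * g⁻¹ := by
  intro x hx g hg
  by_cases hH1 : H = ⊥
  · rw [hH1, Subgroup.mem_bot] at hx
    refine ⟨1, Subgroup.one_mem _, ?_⟩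
    rw [hx]; group
  obtain ⟨M, hM, -, hHσ⟩ := le_sigmaCore hG hHn hHall hH1
  obtain ⟨n, hn, hnx⟩ := h38 M hM H hHσ hH1
    (Nat.Coprime.coprime_dvd_right (Subgroup.relIndex_dvd_index_of_le hHσ) hHall) x hx g hg
  exact ⟨n, hn.2, hnx⟩

end Cfsg.Agent.Lib.Helper10.NilHall
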