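import Mathlib
import Cfsg.Agent.Lib.Helper10.O4320.Defs
import Cfsg.Agent.Lib.Helper16.BRSET2
import Cfsg.Agent.Lib.Helper1.BRSET3
import Cfsg.Agent.Lib.helper23.BRCLS
import Cfsg.Agent.S1001
import Cfsg.Agent.Lib.helper3.O4320SETUP
import Cfsg.Agent.Lib.helper3.O4320RAT
import Cfsg.Agent.Lib.Helper18.O4320FUSE
import Cfsg.Agent.Lib.Helper25.O4320TOP5core
import Cfsg.Agent.Lib.helper8.O4320TVAL
import Cfsg.Agent.Lib.helper17.O4320CLEQ
import Cfsg.Agent.Lib.Helper16.O4320ARITHB
import Cfsg.Agent.Lib.Helper22.O4320KILLBcore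

/-!
# Project O4320 (S0977), piece MAIN: there is no simple group of order 4320.

`setup`; S1001 (`4320 = 5 * 3^3 * 2^5`) at a generator `x` of a Sylow 5-subgroup `P` gives `C_G(P) = P`;
`order_formula`: `4320 = 5 q (1 + 5 n)`, `q ∣ 4`, `q ≠ 1` (`relIndex_ne_one`): `q = 4`
(`q = 2` would give `1 + 5 n = 432`); then `kill_b` (here through the cores of TOP5 and KILLB).
-/

set_option autoImplicit false
set_option linter.unusedVariables false
set_option linter.unusedSectionVars false

namespace Cfsg.Agent.Lib.Helper10.O4320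

open Classical
open scoped ComplexConjugate
open Cfsg.Agent.Lib.helper7.BR Cfsg.Agent.Lib.Helper25 Cfsg.Agent.Lib.Helper29

universe u

variable {G : Type u} [Group G] [Fintype G]

/-- `C_G(P) = P` has order 5 (S1001 at a generator of `P`). -/
theorem o4320main_cen_card [IsSimpleGroup G] (hG : Nat.card G = 4320) (P : Sylow 5 G)
    (hP : Nat.card ↥(P : Subgroup G) = 5) : Nat.card ↥(cen P) = 5 := by
  have hne : ∃ x : ↥(P : Subgroup G), x ≠ 1 := by
    by_contra hcon
    push Not at hcon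
    have hsub : Subsingleton ↥(P : Subgroup G) := ⟨fun u v => by rw [hcon u, hcon v]⟩
    have : Nat.card ↥(P : Subgroup G) ≤ 1 := Finite.card_le_one_iff_subsingleton.mpr hsub
    omega
  obtain ⟨⟨x, hxP⟩, hx1⟩ := hne
  have hx1' : x ≠ 1 := fun h => hx1 (Subtype.ext h)
  have hord : orderOf x = 5 := by
    have hdvd : orderOf (⟨x, hxP⟩ : ↥(P : Subgroup G)) ∣ 5 := by
      have h0 := orderOf_dvd_natCard (⟨x, hxP⟩ : ↥(P : Subgroup G))
      rwa [hP] at h0
    have hsub : orderOf (⟨x, hxP⟩ : ↥(P : Subgroup G)) = orderOf x := Subgroup.orderOf_mk x hxP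
    rw [hsub] at hdvd
    rcases (Nat.dvd_prime (by norm_num : Nat.Prime 5)).1 hdvd with h | h
    · exact absurd (orderOf_eq_one_iff.1 h) hx1'
    · exact h
  have h1 : Subgroup.centralizer ({x} : Set G) = Subgroup.zpowers x :=
    Cfsg.Agent.S1001.result 5 3 5 (by norm_num) (by rw [hG]; norm_num) x hord
  have h2 : Subgroup.centralizer ({x} : Set G) = cen P := centralizer_eq_cen P hP x hxP hx1'
  rw [← h2, h1, Nat.card_zpowers, hord]

/-- MAIN: assembly. -/
theorem no_simple_4320 [IsSimpleGroup G] : Nat.card G ≠ 4320 := by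
  intro hG
  obtain ⟨hperf, hsyl⟩ := setup (G := G) hG
  obtain ⟨P⟩ : Nonempty (Sylow 5 G) := inferInstance
  obtain ⟨hP, hPn⟩ := hsyl P
  obtain ⟨q, w, n, hq4, hq1, hw1, hn1, hrel, hcen, hnrm, hidx, hcidx, hcard⟩ :=
    order_formula P hP hPn
  rw [hG] at hcard
  have hq4' : q ∣ 4 := by simpa using hq4
  have hqne : q ≠ 1 := by
    intro h
    exact relIndex_ne_one hperf P hP (hrel.trans h)
  have hqle : q ≤ 4 := Nat.le_of_dvd (by norm_num) hq4'
  have hc5 : Nat.card ↥(cen P) = 5 := o4320main_cen_card hG P hP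
  have hw : w = 1 := by
    rw [hc5] at hcen
    omega
  subst hw
  have hq : q = 4 := by
    interval_cases q <;> first | rfl | (exfalso; omega)
  subst hq
  have hcenP : cen P = (P : Subgroup G) := by
    symm
    have : IsCyclic ↥(P : Subgroup G) := isCyclic_of_prime_card hP
    have : IsMulCommutative ↥(P : Subgroup G) := IsCyclic.isMulCommutative
    apply Subgroup.eq_of_le_of_card_ge (Subgroup.le_centralizer (P : Subgroup G))
    rw [hc5, hP]
  have htop := o4320top5_core P hP hcenP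
    (fun x y hx hx1 hy hy1 => fuse_top P hP hrel x y hx hx1 hy hy1)
    (fun χ hχ d hd c hc => rat_vals P hP χ hχ d hd c hc)
  exact o4320killb_core hperf hG P hP hcenP hrel htop
    (fun t ht1 ht2 hinv χ hχ d hd v hv => tval (by norm_num) P hP t ht1 ht2 hinv χ hχ d hd v hv)
    (fun t ht1 ht2 hinv x hx hx1 => class_eq (by norm_num) P hP hcenP t ht1 ht2 hinv x hx hx1)
    arith_b

end Cfsg.Agent.Lib.Helper10.O4320
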