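import Mathlib
import Cfsg.Agent.Lib.Helper10.O4320.Defs
import Cfsg.Agent.Lib.Helper11.O5040EASY
import Cfsg.Agent.Lib.helper8.O4320TOPP
import Cfsg.Agent.Lib.helper8.O4320TVAL
import Cfsg.Agent.Lib.helper17.O4320CLEQ
import Cfsg.Agent.Lib.Helper22.O4320MOD4
import Cfsg.Agent.Lib.Helper22.O4320COL
import Cfsg.Agent.Lib.helper4.BTINV
import Cfsg.Agent.Lib.helper23.BRPERF
import Cfsg.Agent.Lib.helper23.BRSQ
import Cfsg.Agent.Lib.helper2.CharInt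
import Cfsg.Agent.Lib.helper2.CharNat

/-!
# Project O5040 (S0978), piece HARD (core): the case `C_G(P) = P`, `|N_G(P) : C_G(P)| = 6`, `|P| = 7`.

`o5040hard_data`: from the set `B` of the characters which do not vanish on `P ∖ 1` (`helper8.O4320TOPP`), an involution `t`
inverting `P` (`exists_inverting`), TVAL, MOD4, CLEQ, COL: the arithmetic data, indexed by `Fin n`, `n = |B| - 1`.
`o5040hard_core`: the contradiction, with the two arithmetic statements (`n = 6`, all values `± 1`; `n = 3`, one value `± 2`) as hypotheses.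
-/

set_option autoImplicit false
set_option linter.unusedVariables false
set_option linter.unusedSectionVars false

namespace Cfsg.Agent.Lib.Helper10.O5040

open Classical
open scoped ComplexConjugate
open Cfsg.Agent.Lib.helper7.BR Cfsg.Agent.Lib.Helper25 Cfsg.Agent.Lib.Helper29
open Cfsg.Agent.Lib.Helper10.O4320

universe u

variable {G : Type u} [Group G] [Fintype G]

/-- HARD (data): the arithmetic data of the case `C_G(P) = P`, `|N_G(P)| = 42`. -/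
theorem o5040hard_data (hperf : commutator G = ⊤) (hG : Nat.card G = 5040) (P : Sylow 7 G)
    (hP : Nat.card ↥(P : Subgroup G) = 7) (hcen : cen P = (P : Subgroup G))
    (hrel : (cen P).relIndex (nrm P) = 6)
    (B : Finset (Cfsg.IrrCharacter G)) (v : Cfsg.IrrCharacter G → ℤ) (n : ℕ) (hBcard : B.card = n + 1)
    (htrivB : trivIrr G ∈ B) (hvtriv : v (trivIrr G) = 1)
    (hBv : ∀ χ ∈ B, (7 : ℤ) ∣ (leoDeg χ : ℤ) - v χ)
    (hBval : ∀ χ ∈ B, ∀ x ∈ (P : Subgroup G), x ≠ 1 → (χ : G → ℂ) x = (v χ : ℂ))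
    (hBout : ∀ χ : Cfsg.IrrCharacter G, χ ∉ B → ∀ x ∈ (P : Subgroup G), x ≠ 1 → (χ : G → ℂ) x = 0)
    (hBsum : ∑ χ ∈ B, v χ * (leoDeg χ : ℤ) = 0) :
    ∃ (e : Fin n → Cfsg.IrrCharacter G) (k : Fin n → ℤ) (c : ℕ),
      (∀ i, e i ∈ B ∧ e i ≠ trivIrr G) ∧
      (∀ i, 2 ≤ leoDeg (e i)) ∧ (∀ i, leoDeg (e i) ∣ 5040) ∧
      (∀ i, (7 : ℤ) ∣ (leoDeg (e i) : ℤ) - v (e i)) ∧
      1 + ∑ i, v (e i) * (leoDeg (e i) : ℤ) = 0 ∧
      1 + ∑ i, (leoDeg (e i)) ^ 2 ≤ 5040 ∧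
      (∀ i, ∃ m₀ m₁ : ℕ, (leoDeg (e i) : ℤ) + 6 * v (e i) + 7 * k i = 14 * (m₀ : ℤ) ∧
        (leoDeg (e i) : ℤ) + 6 * v (e i) - 7 * k i = 14 * (m₁ : ℤ)) ∧
      (∀ i, (4 : ℤ) ∣ (leoDeg (e i) : ℤ) - k i) ∧
      1 + ∑ i, (k i) ^ 2 ≤ (c : ℤ) ∧
      (7 : ℚ) * (c : ℚ) ^ 2 =
        5040 * (1 + ∑ i, (v (e i) : ℚ) * (k i : ℚ) ^ 2 / (leoDeg (e i) : ℚ)) ∧
      ∑ χ ∈ B, (v χ) ^ 2 = 1 + ∑ i, (v (e i)) ^ 2 := by
  have hFI : Fintype (Cfsg.IrrCharacter G) := Fintype.ofFinite _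
  obtain ⟨t, ht1, ht2, hinv⟩ := Cfsg.Agent.Lib.Helper13.BT.exists_inverting (p := 7) (by norm_num)
    P hP hcen (by rw [hrel]; exact ⟨3, rfl⟩)
  -- a non-trivial element of `P`
  obtain ⟨x, hx, hx1⟩ : ∃ x : G, x ∈ (P : Subgroup G) ∧ x ≠ 1 := by
    have : Nontrivial ↥(P : Subgroup G) :=
      (Finite.one_lt_card_iff_nontrivial).1 (by rw [hP]; norm_num)
    obtain ⟨z, hz⟩ := exists_ne (1 : ↥(P : Subgroup G))
    exact ⟨z.1, z.2, fun h => hz (Subtype.ext h)⟩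
  -- the values at `t`
  have hkex : ∀ χ : Cfsg.IrrCharacter G, χ ∈ B → ∃ (k : ℤ) (m₀ m₁ : ℕ), (χ : G → ℂ) t = (k : ℂ) ∧
      (leoDeg χ : ℤ) + (((7 : ℕ) : ℤ) - 1) * v χ + ((7 : ℕ) : ℤ) * k = 2 * ((7 : ℕ) : ℤ) * (m₀ : ℤ) ∧
      (leoDeg χ : ℤ) + (((7 : ℕ) : ℤ) - 1) * v χ - ((7 : ℕ) : ℤ) * k = 2 * ((7 : ℕ) : ℤ) * (m₁ : ℤ) :=
    fun χ hχ => tval (p := 7) (by norm_num) P hP t ht1 ht2 hinv (χ : G → ℂ)
      (Cfsg.Agent.Lib.helper2.isCharacter_of_irr χ) (leoDeg χ) (leoDeg_spec χ) (v χ) (hBval χ hχ)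
  obtain ⟨k, hkdef⟩ : ∃ k : Cfsg.IrrCharacter G → ℤ,
      k = fun χ => if h : χ ∈ B then Classical.choose (hkex χ h) else 0 := ⟨_, rfl⟩
  have hkspec : ∀ χ : Cfsg.IrrCharacter G, χ ∈ B → ∃ (m₀ m₁ : ℕ), (χ : G → ℂ) t = (k χ : ℂ) ∧
      (leoDeg χ : ℤ) + 6 * v χ + 7 * k χ = 14 * (m₀ : ℤ) ∧
      (leoDeg χ : ℤ) + 6 * v χ - 7 * k χ = 14 * (m₁ : ℤ) := by
    intro χ hχ
    obtain ⟨m₀, m₁, h1, h2, h3⟩ := Classical.choose_spec (hkex χ hχ)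
    have hk' : k χ = Classical.choose (hkex χ hχ) := by rw [hkdef]; simp only [hχ, dif_pos]
    rw [← hk'] at h1 h2 h3
    refine ⟨m₀, m₁, h1, ?_, ?_⟩
    · push_cast at h2; linarith
    · push_cast at h3; linarith
  have hkt : ∀ χ ∈ B, (χ : G → ℂ) t = (k χ : ℂ) := fun χ hχ => by
    obtain ⟨_, _, h1, _⟩ := hkspec χ hχ; exact h1
  have hktriv : k (trivIrr G) = 1 := by
    have h1 := hkt _ htrivB
    rw [trivIrr_apply] at h1
    exact_mod_cast h1.symm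
  have hDtriv : leoDeg (trivIrr G) = 1 := by
    have h1 := leoDeg_spec (trivIrr G)
    rw [trivIrr_apply] at h1
    exact_mod_cast h1.symm
  -- MOD4
  have hm4 : ∀ χ ∈ B, (4 : ℤ) ∣ (leoDeg χ : ℤ) - k χ := fun χ hχ =>
    mod_four hperf (χ : G → ℂ) (Cfsg.Agent.Lib.helper2.isCharacter_of_irr χ) t ht2
      (leoDeg χ : ℤ) (k χ) (by rw [leoDeg_spec]; push_cast; rfl) (hkt χ hχ)
  -- COL
  have hcol := col_ge t B k hkt
  obtain ⟨c, hcdef⟩ : ∃ c : ℕ, c = Nat.card ↥(Subgroup.centralizer ({t} : Set G)) := ⟨_, rfl⟩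
  rw [← hcdef] at hcol
  -- CLEQ
  have hcl := class_eq (p := 7) (by norm_num) P hP hcen t ht1 ht2 hinv x hx hx1
  rw [← hcdef, hG, finsum_eq_sum_of_fintype] at hcl
  have hterm : ∀ χ ∈ B, (χ : G → ℂ) t * (χ : G → ℂ) t * conj ((χ : G → ℂ) x) / (χ : G → ℂ) 1 =
      (((v χ : ℚ) * (k χ : ℚ) ^ 2 / (leoDeg χ : ℚ) : ℚ) : ℂ) := by
    intro χ hχ
    rw [hkt χ hχ, hBval χ hχ x hx hx1, leoDeg_spec]
    have : conj ((v χ : ℤ) : ℂ) = ((v χ : ℤ) : ℂ) := by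
      rw [show ((v χ : ℤ) : ℂ) = (((v χ : ℤ) : ℝ) : ℂ) by norm_cast, Complex.conj_ofReal]
    rw [this]
    push_cast
    ring
  have hsub : ∑ χ : Cfsg.IrrCharacter G,
      (χ : G → ℂ) t * (χ : G → ℂ) t * conj ((χ : G → ℂ) x) / (χ : G → ℂ) 1 =
      ∑ χ ∈ B, (χ : G → ℂ) t * (χ : G → ℂ) t * conj ((χ : G → ℂ) x) / (χ : G → ℂ) 1 := by
    symm
    apply Finset.sum_subset (Finset.subset_univ B)
    intro χ _ hχ
    rw [hBout χ hχ x hx hx1, map_zero, mul_zero, zero_div]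
  rw [hsub, Finset.sum_congr rfl hterm] at hcl
  have hclQ : (7 : ℚ) * (c : ℚ) ^ 2 =
      5040 * ∑ χ ∈ B, (v χ : ℚ) * (k χ : ℚ) ^ 2 / (leoDeg χ : ℚ) := by
    apply Rat.cast_injective (α := ℂ)
    push_cast
    push_cast at hcl
    exact hcl
  -- enumerate `B.erase (trivIrr G)`
  have hB'card : (B.erase (trivIrr G)).card = n := by
    rw [Finset.card_erase_of_mem htrivB, hBcard]; rfl
  obtain ⟨e, -⟩ : ∃ e : Fin n ≃ ↥(B.erase (trivIrr G)), True :=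
    ⟨((B.erase (trivIrr G)).equivFinOfCardEq hB'card).symm, trivial⟩
  have hsplit : ∀ {M : Type} [AddCommMonoid M] (f : Cfsg.IrrCharacter G → M),
      ∑ χ ∈ B, f χ = f (trivIrr G) + ∑ i : Fin n, f (e i).1 := by
    intro M _ f
    rw [← Finset.add_sum_erase B f htrivB, ← Finset.sum_coe_sort (B.erase (trivIrr G)) f,
      ← Equiv.sum_comp e (fun j : ↥(B.erase (trivIrr G)) => f j.1)]
  have hmem : ∀ i : Fin n, (e i).1 ∈ B := fun i => Finset.mem_of_mem_erase (e i).2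
  have hne : ∀ i : Fin n, (e i).1 ≠ trivIrr G := fun i => Finset.ne_of_mem_erase (e i).2
  refine ⟨fun i => (e i).1, fun i => k (e i).1, c, fun i => ⟨hmem i, hne i⟩, ?_, ?_, ?_, ?_, ?_, ?_,
    ?_, ?_, ?_, ?_⟩
  · intro i
    obtain ⟨d, hd2, hd⟩ := deg_ge_two hperf (e i).1 (hne i)
    rw [leoDeg_spec] at hd
    have : leoDeg (e i).1 = d := by exact_mod_cast hd
    rw [this]; exact hd2
  · intro i
    obtain ⟨m, _, hm, hdvd⟩ := Cfsg.Agent.Lib.helper2.irr_degree_dvd_card (e i).1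
    rw [leoDeg_spec] at hm
    have : leoDeg (e i).1 = m := by exact_mod_cast hm
    rw [this, ← hG]; exact hdvd
  · intro i; exact hBv _ (hmem i)
  · have := hsplit (fun χ => v χ * (leoDeg χ : ℤ))
    rw [hBsum, hvtriv, hDtriv] at this
    simp only [Nat.cast_one, mul_one] at this
    exact this.symm
  · have h1 := sum_sq_le B leoDeg (fun χ _ => leoDeg_spec χ)
    rw [hsplit (fun χ => (leoDeg χ) ^ 2), hDtriv, hG] at h1
    simpa using h1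
  · intro i
    obtain ⟨m₀, m₁, _, h2, h3⟩ := hkspec _ (hmem i)
    exact ⟨m₀, m₁, h2, h3⟩
  · intro i; exact hm4 _ (hmem i)
  · rw [hsplit (fun χ => (k χ) ^ 2), hktriv] at hcol
    simpa using hcol
  · rw [hsplit (fun χ => (v χ : ℚ) * (k χ : ℚ) ^ 2 / (leoDeg χ : ℚ)), hvtriv, hktriv, hDtriv] at hclQ
    simpa using hclQ
  · rw [hsplit (fun χ => (v χ) ^ 2), hvtriv]
    simp

end Cfsg.Agent.Lib.Helper10.O5040
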