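import Mathlib
import Cfsg.Agent.Lib.Helper10.O5040HARDcore
import Cfsg.Agent.Lib.Helper24.O5040ARITH

/-!
# Project O5040 (S0978), piece HARD: the case `C_G(P) = P`, `|N_G(P) : C_G(P)| = 6`, `|P| = 7` is impossible.
(`helper8.O4320TOPP` (the characters which do not vanish on `P ∖ 1`: seven with values `± 1`, or four, one of them with value `± 2`),
`o5040hard_data`, and helper24's arithmetic `o5040arith_six`, `o5040arith_three`.)
-/

set_option autoImplicit false
set_option linter.unusedVariables false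
set_option linter.unusedSectionVars false

namespace Cfsg.Agent.Lib.Helper10.O5040

open Classical
open scoped ComplexConjugate
open Cfsg.Agent.Lib.helper7.BR Cfsg.Agent.Lib.Helper25 Cfsg.Agent.Lib.Helper29
open Cfsg.Agent.Lib.Helper10.O4320 Cfsg.Agent.Lib.Helper24.O5040A

universe u

variable {G : Type u} [Group G] [Fintype G]

/-- HARD: `C_G(P) = P`, `|N_G(P)| = 42` is impossible in a perfect group of order 5040. -/
theorem kill_seven (hperf : commutator G = ⊤) (hG : Nat.card G = 5040) (P : Sylow 7 G)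
    (hP : Nat.card ↥(P : Subgroup G) = 7) (hcen : cen P = (P : Subgroup G))
    (hrel : (cen P).relIndex (nrm P) = 6) : False := by
  obtain ⟨B, v, htrivB, hvtriv, hsq, hBv, hBval, hBout, hBsum⟩ :=
    o4320topp_generic (p := 7) P hP hcen (by rw [hrel])
  have hsq7 : ∑ χ ∈ B, (v χ) ^ 2 = 7 := by exact_mod_cast hsq
  rcases o4320topp_seven_cases B v (fun χ hχ => (hBv χ hχ).1) hsq7 with
    ⟨hcard, hpm⟩ | ⟨χ0, hχ0, hv0, hcard3, hpm⟩
  · obtain ⟨e, k, c, he, hD2, hDdvd, hDc, hrel', hsq', hk, hm4, hcol, hcl, _⟩ :=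
      o5040hard_data hperf hG P hP hcen hrel B v 6 hcard htrivB hvtriv
        (fun χ hχ => (hBv χ hχ).2) hBval hBout hBsum
    exact o5040arith_six (fun i => leoDeg (e i)) (fun i => v (e i)) k c
      (fun i => hpm _ (he i).1) hD2 hDdvd hDc hrel' hsq' hk hm4 hcl
  · have hcard : B.card = 3 + 1 := by
      have h3 := hcard3
      rw [@Finset.card_erase_of_mem _ B χ0 (fun a b => propDecidable (a = b)) hχ0] at h3
      have : 0 < B.card := Finset.card_pos.mpr ⟨χ0, hχ0⟩
      omega
    obtain ⟨e, k, c, he, hD2, hDdvd, hDc, hrel', hsq', hk, hm4, hcol, hcl, _⟩ :=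
      o5040hard_data hperf hG P hP hcen hrel B v 3 hcard htrivB hvtriv
        (fun χ hχ => (hBv χ hχ).2) hBval hBout hBsum
    refine o5040arith_three (fun i => leoDeg (e i)) (fun i => v (e i)) k c
      (fun i => ?_) hD2 hDdvd hDc hrel' hsq' hk hm4 hcl
    by_cases h : e i = χ0
    · rw [h]
      rcases hv0 with h2 | h2
      · exact Or.inr (Or.inr (Or.inl h2))
      · exact Or.inr (Or.inr (Or.inr h2))
    · rcases hpm (e i) ((@Finset.mem_erase _ (fun a b => propDecidable (a = b)) (e i) χ0 B).mpr ⟨h, (he i).1⟩) with h1 | h1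
      · exact Or.inl h1
      · exact Or.inr (Or.inl h1)

end Cfsg.Agent.Lib.Helper10.O5040
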