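import Mathlib
import Cfsg.Agent.Lib.Helper11.O5040SETUP
import Cfsg.Agent.Lib.Helper11.O5040C21
import Cfsg.Agent.Lib.Helper20.O5040C70
import Cfsg.Agent.Lib.Helper10.O5040HARD

/-!
# Project O5040 (S0978), piece MAIN (core): there is no simple group of order 5040,
with the statement of the case `n_7 = 120`, `|N_G(P) : C_G(P)| = 3`, `|C_G(P)| = 14` as a hypothesis.

(`o5040e_setup`, `o5040e_config` (helper11: `n_7 = 8, 15` are dead, four configurations remain);
`(36, 2, 70)`: `o5040c70_false` (helper20); `(120, 2, 21)`: `o5040_c21` (helper11); `(120, 6, 7)`: `kill_seven`.)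
-/

set_option autoImplicit false
set_option linter.unusedVariables false
set_option linter.unusedSectionVars false

namespace Cfsg.Agent.Lib.Helper10.O5040

open Classical
open Cfsg.Agent.Lib.helper7.BR Cfsg.Agent.Lib.Helper11.O5040E Cfsg.Agent.Lib.Helper20.O5040C

universe u

variable {G : Type u} [Group G] [Fintype G]

/-- MAIN (core): assembly, the case `|C_G(P)| = 14` as a hypothesis. -/
theorem o5040main_core [IsSimpleGroup G]
    (h14 : Nat.card G = 5040 → ∀ P : Sylow 7 G, (nrm P).index = 120 → (cen P).relIndex (nrm P) = 3 →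
      Nat.card ↥(cen P) = 14 → False) : Nat.card G ≠ 5040 := by
  intro hG
  obtain ⟨hperf, _, _, hS⟩ := o5040e_setup (G := G) hG
  obtain ⟨P⟩ : Nonempty (Sylow 7 G) := inferInstance
  obtain ⟨hP, hPn⟩ := hS P
  rcases o5040e_config hG P with ⟨hidx, hq, hC⟩ | ⟨hidx, hq, hC⟩ | ⟨hidx, hq, hC⟩ | ⟨hidx, hq, hC⟩
  · exact o5040c70_false hG P hidx hq hC
  · exact o5040_c21 hG P hidx hq hC
  · exact h14 hG P hidx hq hC
  · have hcenP : cen P = (P : Subgroup G) := by
      symm
      have : IsCyclic ↥(P : Subgroup G) := isCyclic_of_prime_card hP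
      have : IsMulCommutative ↥(P : Subgroup G) := IsCyclic.isMulCommutative
      apply Subgroup.eq_of_le_of_card_ge (Subgroup.le_centralizer (P : Subgroup G))
      rw [hC, hP]
    exact kill_seven hperf hG P hP hcenP hq

end Cfsg.Agent.Lib.Helper10.O5040
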