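import Mathlib
import Cfsg.Agent.Lib.Helper13.O5760.Defs

/-!
# Project O5760 (S0980), piece ARITH : the degree equation of the principal 5-block (pure arithmetic)
-/

set_option autoImplicit false
set_option linter.unusedVariables false
set_option linter.unusedSectionVars false
open scoped ComplexConjugate
open Classical

namespace Cfsg.Agent.Lib.Helper13.O5760

open Cfsg.Agent.Lib.helper7 Cfsg.Agent.Lib.helper7.BR Cfsg.Agent.Lib.helper2 Cfsg.Agent.Lib.Helper25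
  Cfsg.Agent.Lib.Helper29 Cfsg.Agent.Lib.helper15.BH Cfsg.Agent.Lib.helper15.PSL

universe u

variable {G : Type u} [Group G] [Fintype G]

/-- the divisors of `1152 = 2^7 * 3^2` -/
theorem o5760arith_divisors (d : ℕ) (hd : d ∣ 1152) :
    d = 1 ∨ d = 2 ∨ d = 3 ∨ d = 4 ∨ d = 6 ∨ d = 8 ∨ d = 9 ∨ d = 12 ∨ d = 16 ∨ d = 18 ∨ d = 24 ∨
      d = 32 ∨ d = 36 ∨ d = 48 ∨ d = 64 ∨ d = 72 ∨ d = 96 ∨ d = 128 ∨ d = 144 ∨ d = 192 ∨ d = 288 ∨
      d = 384 ∨ d = 576 ∨ d = 1152 := by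
  have h : d ∈ Nat.divisors 1152 := Nat.mem_divisors.mpr ⟨hd, by norm_num⟩
  have h2 : Nat.divisors 1152 = {1, 2, 3, 4, 6, 8, 9, 12, 16, 18, 24, 32, 36, 48, 64, 72, 96, 128,
      144, 192, 288, 384, 576, 1152} := by decide +kernel
  rw [h2] at h
  simpa using h

/-- ARITH [A] : the degree equation -/
theorem arith (d z : ℕ) (a ε : ℤ) (ha : a = 1 ∨ a = -1) (hε : ε = 1 ∨ ε = -1) (hd : d ∣ 1152)
    (hz : z ∣ 1152) (hdc : (5 : ℤ) ∣ (d : ℤ) - a) (hzc : (5 : ℤ) ∣ (z : ℤ) - ε * 2) (hd2 : 2 ≤ d)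
    (hrel : ε * (z : ℤ) = 1 + a * (d : ℤ)) :
    a = -1 ∧ ε = -1 ∧ d = z + 1 ∧ (z = 3 ∨ z = 8) := by
  have hD := o5760arith_divisors d hd
  have hZ := o5760arith_divisors z hz
  rcases ha with rfl | rfl <;> rcases hε with rfl | rfl <;>
    rcases hD with rfl | rfl | rfl | rfl | rfl | rfl | rfl | rfl | rfl | rfl | rfl | rfl | rfl | rfl |
      rfl | rfl | rfl | rfl | rfl | rfl | rfl | rfl | rfl | rfl <;>
    omega

end Cfsg.Agent.Lib.Helper13.O5760
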