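import Mathlib
import Cfsg.Agent.Lib.Helper13.O5760.Defs
import Cfsg.Agent.Lib.Helper22.BTKEYcore
import Cfsg.Agent.Lib.Helper18.ConjCount
import Cfsg.Agent.Lib.Helper25.CharBound
import Cfsg.Agent.Lib.helper4.O5760COUNT

/-!
# Project O5760 (S0980), piece BOUND (core) : `|C_G(t)| ≤ 64` for an involution `t` inverting `P`
(`total` is taken as a hypothesis; `count_ge` is `helper4.O5760COUNT`).

`5 ≤ #pairs = |cl t|² / |G| · R`, `R = |8 - η₀(t)|² / 72 ≤ 256 / 72`, `|cl t| |C_G(t)| = |G| = 5760`: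
`5 c² ≤ 5760 · 256 / 72 = 20480`, `c ≤ 64`.
-/

set_option autoImplicit false
set_option linter.unusedVariables false
set_option linter.unusedSectionVars false
set_option linter.style.haveILetI false
open scoped ComplexConjugate
open Classical

namespace Cfsg.Agent.Lib.Helper13.O5760

open Cfsg.Agent.Lib.helper7 Cfsg.Agent.Lib.helper7.BR Cfsg.Agent.Lib.helper2 Cfsg.Agent.Lib.Helper25
  Cfsg.Agent.Lib.Helper29 Cfsg.Agent.Lib.helper15.BH Cfsg.Agent.Lib.helper15.PSL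

universe u

variable {G : Type u} [Group G] [Fintype G]

/-- pure arithmetic: `5 ≤ (n n / 5760) R`, `n c = 5760`, `R ≤ 256 / 72` ⟹ `c ≤ 64` -/
theorem o5760bound_arith (n c : ℕ) (R : ℝ) (hnc : n * c = 5760) (hR : R ≤ 256 / 72)
    (h5 : (5 : ℝ) ≤ (n : ℝ) * (n : ℝ) / 5760 * R) : c ≤ 64 := by
  by_contra hc0
  have hc : 64 < c := not_le.mp hc0
  have hc65 : (65 : ℝ) ≤ (c : ℝ) := by exact_mod_cast hc
  have hncR : (n : ℝ) * (c : ℝ) = 5760 := by exact_mod_cast hnc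
  have hn0 : (0 : ℝ) ≤ (n : ℝ) := Nat.cast_nonneg n
  have hcpos : (0 : ℝ) < (c : ℝ) := by linarith
  -- `n ≤ 5760 / 65`
  have hn : (n : ℝ) * 65 ≤ 5760 := by
    calc (n : ℝ) * 65 ≤ (n : ℝ) * (c : ℝ) := mul_le_mul_of_nonneg_left hc65 hn0
      _ = 5760 := hncR
  have hnn : (n : ℝ) * (n : ℝ) ≤ (5760 / 65) * (5760 / 65) := by
    have h1 : (n : ℝ) ≤ 5760 / 65 := by
      rw [le_div_iff₀ (by norm_num)]
      exact hn
    exact mul_le_mul h1 h1 hn0 (by norm_num)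
  have hnn0 : (0 : ℝ) ≤ (n : ℝ) * (n : ℝ) / 5760 := by positivity
  have h6 : (n : ℝ) * (n : ℝ) / 5760 * R ≤ (n : ℝ) * (n : ℝ) / 5760 * (256 / 72) :=
    mul_le_mul_of_nonneg_left hR hnn0
  have h7 : (n : ℝ) * (n : ℝ) / 5760 * (256 / 72) ≤ (5760 / 65) * (5760 / 65) / 5760 * (256 / 72) := by
    apply mul_le_mul_of_nonneg_right _ (by norm_num)
    exact div_le_div_of_nonneg_right hnn (by norm_num)
  have h8 : (5760 / 65 : ℝ) * (5760 / 65) / 5760 * (256 / 72) < 5 := by norm_num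
  linarith

/-- BOUND (core) : with the statement of `total` (for this `hK`, at `s = t`) as a hypothesis -/
theorem o5760bound_core [Fintype (Cfsg.IrrCharacter G)] (hG : Nat.card G = 5760) {P : Sylow 5 G}
    {X Y : Finset (Cfsg.IrrCharacter G)} {a : Cfsg.IrrCharacter G → ℤ} {χ : Cfsg.IrrCharacter G}
    (hK : Blk P X Y a χ 9 8) (t : G) (ht2 : t ^ 2 = 1)
    (hinv : ∀ x ∈ (P : Subgroup G), t * x * t⁻¹ = x⁻¹)
    (htotal : ∀ (η₀ : Cfsg.IrrCharacter G), η₀ ∈ Y → ∀ (x : G), x ∈ (P : Subgroup G) → x ≠ 1 →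
      ∑ ξ : Cfsg.IrrCharacter G, term t t x ξ =
        ((Complex.normSq (((8 : ℕ) : ℂ) - (η₀ : G → ℂ) t) / (((9 : ℕ) : ℝ) * ((8 : ℕ) : ℝ)) : ℝ) : ℂ)) :
    Nat.card ↥(Subgroup.centralizer ({t} : Set G)) ≤ 64 := by
  have hL := hK.loc
  -- an element of `P ∖ 1`
  have hPcard : Nat.card ↥(P : Subgroup G) = 5 := hL.cardP
  obtain ⟨x0, hx0⟩ : ∃ x0 : ↥(P : Subgroup G), x0 ≠ 1 := by
    haveI : Nontrivial ↥(P : Subgroup G) := by
      rw [← Finite.one_lt_card_iff_nontrivial, hPcard]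
      norm_num
    exact exists_ne 1
  have hx : (x0 : G) ∈ (P : Subgroup G) := x0.2
  have hx1 : (x0 : G) ≠ 1 := fun h => hx0 (Subtype.ext h)
  -- a member of `Y`
  obtain ⟨η₀, hη₀⟩ : Y.Nonempty := by
    rw [← Finset.card_pos, hK.pb.cardY]
    norm_num
  have hT := htotal η₀ hη₀ (x0 : G) hx hx1
  set R : ℝ := Complex.normSq (((8 : ℕ) : ℂ) - (η₀ : G → ℂ) t) / (((9 : ℕ) : ℝ) * ((8 : ℕ) : ℝ))
    with hRdef
  have hcount := Cfsg.Agent.Lib.Helper22.btkey_count t (x0 : G) R hT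
  have hge := count_ge hL t ht2 hinv (x0 : G) hx
  have hcl := Cfsg.Agent.Lib.Helper18.card_isConj_mul_card_centralizer t
  rw [hG] at hcl hcount
  -- the bound on `R`
  have hnorm : ‖(η₀ : G → ℂ) t‖ ≤ 8 := by
    have h1 := irr_norm_le η₀ t
    rw [hK.degY η₀ hη₀] at h1
    simpa using h1
  have hR : R ≤ 256 / 72 := by
    rw [hRdef]
    have h2 : Complex.normSq (((8 : ℕ) : ℂ) - (η₀ : G → ℂ) t) ≤ 256 := by
      rw [Complex.normSq_eq_norm_sq]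
      have h3 : ‖((8 : ℕ) : ℂ) - (η₀ : G → ℂ) t‖ ≤ 16 := by
        calc ‖((8 : ℕ) : ℂ) - (η₀ : G → ℂ) t‖ ≤ ‖((8 : ℕ) : ℂ)‖ + ‖(η₀ : G → ℂ) t‖ := norm_sub_le _ _
          _ ≤ 8 + 8 := by
            apply add_le_add _ hnorm
            simp
          _ = 16 := by norm_num
      have h4 : (0 : ℝ) ≤ ‖((8 : ℕ) : ℂ) - (η₀ : G → ℂ) t‖ := norm_nonneg _
      nlinarith
    have : (((9 : ℕ) : ℝ) * ((8 : ℕ) : ℝ)) = 72 := by norm_num
    rw [this]
    exact div_le_div_of_nonneg_right h2 (by norm_num)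
  have h5 : (5 : ℝ) ≤ (Nat.card {y : G // IsConj t y} : ℝ) * (Nat.card {y : G // IsConj t y} : ℝ) /
      5760 * R := by
    have h6 : ((5 : ℕ) : ℝ) ≤
        (Nat.card {pr : G × G // IsConj t pr.1 ∧ IsConj t pr.2 ∧ pr.1 * pr.2 = (x0 : G)} : ℝ) := by
      exact_mod_cast hge
    rw [hcount] at h6
    simpa using h6
  exact o5760bound_arith _ _ R hcl hR h5

end Cfsg.Agent.Lib.Helper13.O5760
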