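import Mathlib
import Cfsg.Agent.Lib.Helper10.O5760BOUNDcore
import Cfsg.Agent.Lib.helper2.O5760TOTAL

set_option autoImplicit false
set_option linter.unusedVariables false
set_option linter.unusedSectionVars false
open scoped ComplexConjugate
open Classical

namespace Cfsg.Agent.Lib.Helper13.O5760

open Cfsg.Agent.Lib.helper7 Cfsg.Agent.Lib.helper7.BR Cfsg.Agent.Lib.helper2 Cfsg.Agent.Lib.Helper25
  Cfsg.Agent.Lib.Helper29 Cfsg.Agent.Lib.helper15.BH Cfsg.Agent.Lib.helper15.PSL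

universe u

variable {G : Type u} [Group G] [Fintype G]

/-- BOUND [F2] : the centralizer of an involution inverting `P` is small -/
theorem cent_le [Fintype (Cfsg.IrrCharacter G)] (hG : Nat.card G = 5760) {P : Sylow 5 G}
    {X Y : Finset (Cfsg.IrrCharacter G)} {a : Cfsg.IrrCharacter G → ℤ} {χ : Cfsg.IrrCharacter G}
    (hK : Blk P X Y a χ 9 8) (t : G) (ht2 : t ^ 2 = 1)
    (hinv : ∀ x ∈ (P : Subgroup G), t * x * t⁻¹ = x⁻¹) :
    Nat.card ↥(Subgroup.centralizer ({t} : Set G)) ≤ 64 := by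
  have htinv : t⁻¹ = t := inv_eq_of_mul_eq_one_right (by rw [← pow_two]; exact ht2)
  have h5 : ¬ 5 ∣ orderOf t := by
    intro h
    have h2 : orderOf t ∣ 2 := orderOf_dvd_of_pow_eq_one ht2
    have := Nat.le_of_dvd (by norm_num) (h.trans h2)
    omega
  exact o5760bound_core hG hK t ht2 hinv
    (fun η₀ hη₀ x hx hx1 => total hK η₀ hη₀ t htinv h5 x hx hx1)

end Cfsg.Agent.Lib.Helper13.O5760
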