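import Mathlib
import Cfsg.Agent.Lib.Helper13.O5760.Defs
import Cfsg.Agent.Lib.Helper22.BTKEYcore
import Cfsg.Agent.Lib.Helper18.ConjCount

/-!
# Project O5760 (S0980), piece C128 : if all involutions are conjugate to `t`, then `128 ∣ |C_G(t)|`
(a Sylow 2-subgroup `S` has order `128` and a central involution `z`; `S ≤ C_G(z)`, `|C_G(t)| = |C_G(z)|`).
-/

set_option autoImplicit false
set_option linter.unusedVariables false
set_option linter.unusedSectionVars false
set_option linter.style.haveILetI false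
open scoped ComplexConjugate
open Classical

namespace Cfsg.Agent.Lib.Helper13.O5760

open Cfsg.Agent.Lib.helper7 Cfsg.Agent.Lib.helper7.BR Cfsg.Agent.Lib.helper2 Cfsg.Agent.Lib.Helper25
  Cfsg.Agent.Lib.Helper29 Cfsg.Agent.Lib.helper15.BH Cfsg.Agent.Lib.helper15.PSL

universe u

variable {G : Type u} [Group G] [Fintype G]

/-- a Sylow 2-subgroup of a group of order `5760` has order `128` -/
theorem o5760c128_card (hG : Nat.card G = 5760) (S : Sylow 2 G) :
    Nat.card ↥(S : Subgroup G) = 128 := by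
  haveI : Fact (Nat.Prime 2) := ⟨Nat.prime_two⟩
  obtain ⟨k, hk⟩ := IsPGroup.iff_card.mp S.isPGroup'
  have hdvd : Nat.card ↥(S : Subgroup G) ∣ 5760 := by
    rw [← hG]
    exact Subgroup.card_subgroup_dvd_card _
  have h128 : 2 ^ 7 ∣ Nat.card ↥(S : Subgroup G) :=
    S.pow_dvd_card_of_pow_dvd_card (by rw [hG]; norm_num)
  rw [hk] at h128 hdvd ⊢
  have h7 : 7 ≤ k := (Nat.pow_dvd_pow_iff_le_right (by norm_num)).mp h128
  rcases Nat.lt_or_ge k 8 with h8 | h8
  · have : k = 7 := by omega
    rw [this]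
    norm_num
  · exfalso
    have h256 : 2 ^ 8 ∣ 5760 := (pow_dvd_pow 2 h8).trans hdvd
    norm_num at h256

/-- C128 [E] : the centralizer of an involution, when all involutions are conjugate -/
theorem cent128 (hG : Nat.card G = 5760) (t : G)
    (hall : ∀ s : G, s ^ 2 = 1 → s ≠ 1 → IsConj t s) :
    128 ∣ Nat.card ↥(Subgroup.centralizer ({t} : Set G)) := by
  haveI : Fact (Nat.Prime 2) := ⟨Nat.prime_two⟩
  obtain ⟨S⟩ : Nonempty (Sylow 2 G) := inferInstance
  have hS := o5760c128_card hG S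
  have hne : (S : Subgroup G) ≠ ⊥ := by
    intro h
    rw [h, Subgroup.card_bot] at hS
    omega
  obtain ⟨z, hzS, hzc, hz2, hz1⟩ :=
    Cfsg.Agent.Lib.Helper22.btkey_central_invol (S : Subgroup G) S.isPGroup' hne
  have hle : (S : Subgroup G) ≤ Subgroup.centralizer ({z} : Set G) := by
    intro y hy
    rw [Subgroup.mem_centralizer_iff]
    intro w hw
    rw [Set.mem_singleton_iff] at hw
    subst hw
    exact (hzc y hy).symm
  have hd : Nat.card ↥(S : Subgroup G) ∣ Nat.card ↥(Subgroup.centralizer ({z} : Set G)) :=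
    Subgroup.card_dvd_of_le hle
  rw [hS] at hd
  rw [Cfsg.Agent.Lib.Helper18.card_centralizer_eq_of_isConj (hall z hz2 hz1)]
  exact hd

end Cfsg.Agent.Lib.Helper13.O5760
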