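import Cfsg.Agent.Lib.Helper16.O5F.Defs

/-!
# Project O5F (S5320 part A), piece C: the centralizer of `E0` in `O₅`
-/

set_option autoImplicit false

namespace Cfsg.Agent.Lib.Helper10.O5F

open Cfsg.Agent.Lib.Helper16.O5F Equiv Matrix Cfsg.Agent.Lib.Helper5.OSyl

variable (F : Type*) [Field F]

/-- the matrix of a diagonal signed permutation. -/
theorem monMat_dg_apply (ε : Fin 5 → ℤˣ) (i j : Fin 5) :
    monMat F (dg ε) i j = if i = j then (((ε i : ℤˣ) : ℤ) : F) else 0 := by
  rw [monMat_apply]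
  rfl

theorem prod_eps2 {i j : Fin 5} (hij : i ≠ j) : ∏ k, eps2 i j k = 1 := by
  revert i j
  decide

theorem dg_eps2_mem_E0' {i j : Fin 5} (hij : i ≠ j) : dg (eps2 i j) ∈ E0' := by
  rw [mem_E0']
  exact ⟨rfl, prod_eps2 hij⟩

theorem exists_ne2 (a b : Fin 5) : ∃ c : Fin 5, c ≠ a ∧ c ≠ b := by
  revert a b
  decide

/-- the integer units as elements of `F`. -/
theorem intUnit_cast_cases (u : ℤˣ) : (((u : ℤˣ) : ℤ) : F) = 1 ∨ (((u : ℤˣ) : ℤ) : F) = -1 := by
  rcases Int.units_eq_one_or u with h | h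
  · left; rw [h]; simp
  · right; rw [h]; simp

theorem cent_E0 (h2 : (2 : F) ≠ 0) (g : Matrix.GeneralLinearGroup (Fin 5) F) (hg : g ∈ O5 F)
    (hc : ∀ b ∈ E0 F, g * b = b * g) : ∃ ε : Fin 5 → ℤˣ, g = rho F (dg ε) := by
  have horth := orth_of_mem_iso h2 g hg
  -- off-diagonal entries vanish
  have hoff : ∀ i j : Fin 5, i ≠ j → (g : Matrix (Fin 5) (Fin 5) F) i j = 0 := by
    intro i j hij
    obtain ⟨l, hli, hlj⟩ := exists_ne2 i j
    have hb : rho F (dg (eps2 i l)) ∈ E0 F :=
      Subgroup.mem_map_of_mem _ (dg_eps2_mem_E0' (Ne.symm hli))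
    have h1 := congrArg (fun m : Matrix.GeneralLinearGroup (Fin 5) F =>
      (m : Matrix (Fin 5) (Fin 5) F) i j) (hc _ hb)
    simp only [Units.val_mul, rho_coe, Matrix.mul_apply, monMat_dg_apply] at h1
    simp only [mul_ite, mul_zero, ite_mul, zero_mul, Finset.sum_ite_eq, Finset.sum_ite_eq',
      Finset.mem_univ, if_true] at h1
    have e1 : eps2 i l j = 1 := by
      unfold eps2
      rw [if_neg]
      rintro (h | h)
      · exact hij h.symm
      · exact hlj h.symm
    have e2 : eps2 i l i = -1 := by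
      unfold eps2
      rw [if_pos (Or.inl rfl)]
    rw [e1, e2] at h1
    simp only [Units.val_one, Int.cast_one, mul_one, Units.val_neg, Int.cast_neg, neg_mul,
      one_mul] at h1
    have h3 : (2 : F) * (g : Matrix (Fin 5) (Fin 5) F) i j = 0 := by
      linear_combination h1
    rcases mul_eq_zero.mp h3 with h | h
    · exact absurd h h2
    · exact h
  -- diagonal entries are ±1
  have hdiag : ∀ i : Fin 5, (g : Matrix (Fin 5) (Fin 5) F) i i = 1
      ∨ (g : Matrix (Fin 5) (Fin 5) F) i i = -1 := by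
    intro i
    have h1 := congrFun (congrFun horth i) i
    rw [Matrix.mul_apply, Matrix.one_apply_eq, Finset.sum_eq_single i] at h1
    · rw [Matrix.transpose_apply] at h1
      exact mul_self_eq_one_iff.mp h1
    · intro m _ hm
      rw [hoff m i hm, mul_zero]
    · intro h; exact absurd (Finset.mem_univ i) h
  classical
  refine ⟨fun i => if (g : Matrix (Fin 5) (Fin 5) F) i i = 1 then 1 else -1, ?_⟩
  apply Units.ext
  ext i j
  rw [rho_coe, monMat_dg_apply]
  by_cases hij : i = j
  · subst hij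
    rw [if_pos rfl]
    by_cases h1 : (g : Matrix (Fin 5) (Fin 5) F) i i = 1
    · rw [if_pos h1, h1]; simp
    · rw [if_neg h1]
      rcases hdiag i with h | h
      · exact absurd h h1
      · rw [h]; simp
  · rw [if_neg hij, hoff i j hij]

end Cfsg.Agent.Lib.Helper10.O5F
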