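import Cfsg.Agent.Lib.Helper10.O5FC

/-!
# Project O5F (S5320 part A), piece N: conjugates of `E0` inside the monomial group
-/

set_option autoImplicit false

namespace Cfsg.Agent.Lib.Helper10.O5F

open Cfsg.Agent.Lib.Helper16.O5F Equiv Matrix Cfsg.Agent.Lib.Helper5.OSyl

/-- the sign vector with `1` at `k` and `-1` elsewhere. -/
def sk (k : Fin 5) : Fin 5 → ℤˣ := fun i => if i = k then 1 else -1

theorem prod_sk (k : Fin 5) : ∏ i, sk k i = 1 := by
  revert k
  decide

theorem dg_sk_mem_E0' (k : Fin 5) : dg (sk k) ∈ E0' := by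
  rw [mem_E0']
  exact ⟨rfl, prod_sk k⟩

variable (F : Type*) [Field F]

theorem sk_cast (k m : Fin 5) :
    (((sk k m : ℤˣ) : ℤ) : F) = 2 * (if m = k then 1 else 0) - 1 := by
  unfold sk
  by_cases h : m = k
  · rw [if_pos h, if_pos h]
    simp
    norm_num
  · rw [if_neg h, if_neg h]
    simp

theorem monMat_dg_eq_diagonal (ε : Fin 5 → ℤˣ) :
    monMat F (dg ε) = Matrix.diagonal (fun i => (((ε i : ℤˣ) : ℤ) : F)) := by
  ext i j
  rw [monMat_dg_apply, Matrix.diagonal_apply]

/-- the inverse of an orthogonal matrix is its transpose. -/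
theorem inv_val_of_orth (g : Matrix.GeneralLinearGroup (Fin 5) F)
    (h : (g : Matrix (Fin 5) (Fin 5) F)ᵀ * (g : Matrix (Fin 5) (Fin 5) F) = 1) :
    ((g⁻¹ : Matrix.GeneralLinearGroup (Fin 5) F) : Matrix (Fin 5) (Fin 5) F)
      = (g : Matrix (Fin 5) (Fin 5) F)ᵀ := by
  rw [Matrix.coe_units_inv]
  exact Matrix.inv_eq_left_inv h

/-- `g s_k gᵀ = 2 w wᵀ - 1`, `w` the `k`-th column of `g`. -/
theorem conj_sk_apply (g : Matrix (Fin 5) (Fin 5) F) (h : g * gᵀ = 1) (k i j : Fin 5) :
    (g * monMat F (dg (sk k)) * gᵀ) i j = 2 * g i k * g j k - (if i = j then 1 else 0) := by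
  have h1 := congrFun (congrFun h i) j
  rw [Matrix.mul_apply, Matrix.one_apply] at h1
  rw [monMat_dg_eq_diagonal, Matrix.mul_apply]
  simp only [Matrix.mul_diagonal, Matrix.transpose_apply, sk_cast] at h1 ⊢
  rw [← h1]
  have h3 : ∀ m, g i m * (2 * (if m = k then 1 else 0) - 1) * g j m
      = (if m = k then 2 * g i k * g j k else 0) - g i m * g j m := by
    intro m
    by_cases hm : m = k
    · subst hm
      rw [if_pos rfl, if_pos rfl]
      ring
    · rw [if_neg hm, if_neg hm]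
      ring
  rw [Finset.sum_congr rfl (fun m _ => h3 m), Finset.sum_sub_distrib,
    Finset.sum_ite_eq' Finset.univ k, if_pos (Finset.mem_univ k)]

/-- the conjugate `g s_k g⁻¹` as a matrix. -/
theorem conj_sk_val (h2 : (2 : F) ≠ 0) (g : Matrix.GeneralLinearGroup (Fin 5) F) (hg : g ∈ O5 F)
    (k i j : Fin 5) :
    ((g * rho F (dg (sk k)) * g⁻¹ : Matrix.GeneralLinearGroup (Fin 5) F) :
        Matrix (Fin 5) (Fin 5) F) i j
      = 2 * (g : Matrix (Fin 5) (Fin 5) F) i k * (g : Matrix (Fin 5) (Fin 5) F) j k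
        - (if i = j then 1 else 0) := by
  rw [Units.val_mul, Units.val_mul, rho_coe, inv_val_of_orth F g (orth_of_mem_iso h2 g hg),
    conj_sk_apply F _ (orth_of_mem_iso' h2 g hg)]

/-- if all `g s_k g⁻¹` are diagonal then `g` is monomial. -/
theorem mono_of_conj_sk_diag (h2 : (2 : F) ≠ 0) (g : Matrix.GeneralLinearGroup (Fin 5) F)
    (hg : g ∈ O5 F)
    (hd : ∀ k i j : Fin 5, i ≠ j →
      ((g * rho F (dg (sk k)) * g⁻¹ : Matrix.GeneralLinearGroup (Fin 5) F) :
        Matrix (Fin 5) (Fin 5) F) i j = 0) :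
    ∃ x : SP, g = rho F x := by
  classical
  have horth := orth_of_mem_iso h2 g hg
  have hcol : ∀ k i j : Fin 5, i ≠ j →
      (g : Matrix (Fin 5) (Fin 5) F) i k * (g : Matrix (Fin 5) (Fin 5) F) j k = 0 := by
    intro k i j hij
    have h1 := hd k i j hij
    rw [conj_sk_val F h2 g hg, if_neg hij, sub_zero, mul_assoc] at h1
    rcases mul_eq_zero.mp h1 with h | h
    · exact absurd h h2
    · exact h
  have hnorm : ∀ k : Fin 5, ∑ i, (g : Matrix (Fin 5) (Fin 5) F) i k
      * (g : Matrix (Fin 5) (Fin 5) F) i k = 1 := by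
    intro k
    have h1 := congrFun (congrFun horth k) k
    rw [Matrix.mul_apply, Matrix.one_apply_eq] at h1
    simpa only [Matrix.transpose_apply] using h1
  have hex : ∀ k : Fin 5, ∃ i, (g : Matrix (Fin 5) (Fin 5) F) i k ≠ 0 := by
    intro k
    by_contra hcon
    push Not at hcon
    have h1 := hnorm k
    rw [Finset.sum_eq_zero (fun i _ => by rw [hcon i, mul_zero])] at h1
    exact zero_ne_one h1
  choose σ hσ using hex
  have hsupp : ∀ k i : Fin 5, i ≠ σ k → (g : Matrix (Fin 5) (Fin 5) F) i k = 0 := by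
    intro k i hi
    rcases mul_eq_zero.mp (hcol k i (σ k) hi) with h | h
    · exact h
    · exact absurd h (hσ k)
  have hsq : ∀ k : Fin 5, (g : Matrix (Fin 5) (Fin 5) F) (σ k) k
      * (g : Matrix (Fin 5) (Fin 5) F) (σ k) k = 1 := by
    intro k
    have h1 := hnorm k
    rw [Finset.sum_eq_single (σ k) (fun i _ hi => by rw [hsupp k i hi, mul_zero])
      (fun h => absurd (Finset.mem_univ _) h)] at h1
    exact h1
  have hinj : Function.Injective σ := by
    intro k l hkl
    by_contra hne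
    have h1 := congrFun (congrFun horth k) l
    rw [Matrix.mul_apply, Matrix.one_apply_ne hne,
      Finset.sum_eq_single (σ k) (fun i _ hi => by
        rw [Matrix.transpose_apply, hsupp k i hi, zero_mul])
      (fun h => absurd (Finset.mem_univ _) h), Matrix.transpose_apply] at h1
    rcases mul_eq_zero.mp h1 with h | h
    · exact hσ k h
    · rw [hkl] at h
      exact hσ l h
  have hbij : Function.Bijective σ := Finite.injective_iff_bijective.mp hinj
  let τ : Perm (Fin 5) := Equiv.ofBijective σ hbij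
  have hτ : ∀ j, τ j = σ j := fun j => rfl
  let ε : Fin 5 → ℤˣ := fun i =>
    if (g : Matrix (Fin 5) (Fin 5) F) i (τ.symm i) = 1 then 1 else -1
  refine ⟨⟨ε, τ⟩, ?_⟩
  apply Units.ext
  ext i j
  rw [rho_coe, monMat_apply]
  show _ = if i = τ j then (((ε i : ℤˣ) : ℤ) : F) else 0
  by_cases hij : i = τ j
  · subst hij
    rw [if_pos rfl]
    show _ = (((if (g : Matrix (Fin 5) (Fin 5) F) (τ j) (τ.symm (τ j)) = 1 then (1 : ℤˣ) else -1 : ℤˣ) : ℤ) : F)
    rw [Equiv.symm_apply_apply]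
    by_cases h1 : (g : Matrix (Fin 5) (Fin 5) F) (τ j) j = 1
    · rw [if_pos h1, h1]; simp
    · rw [if_neg h1]
      rcases mul_self_eq_one_iff.mp (hsq j) with h | h
      · exact absurd h h1
      · rw [hτ, h]; simp
  · rw [if_neg hij]
    exact hsupp j i hij

/-- if `g s_k g⁻¹` is a monomial matrix with even permutation part, it is diagonal. -/
theorem right_eq_one_of_conj_sk (h2 : (2 : F) ≠ 0) (g : Matrix.GeneralLinearGroup (Fin 5) F)
    (hg : g ∈ O5 F) (k : Fin 5) (x : SP) (hx : x ∈ N0')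
    (hxe : rho F x = g * rho F (dg (sk k)) * g⁻¹) : x.right = 1 := by
  have hM : ∀ i j : Fin 5, (if i = x.right j then (((x.left i : ℤˣ) : ℤ) : F) else 0)
      = 2 * (g : Matrix (Fin 5) (Fin 5) F) i k * (g : Matrix (Fin 5) (Fin 5) F) j k
        - (if i = j then 1 else 0) := by
    intro i j
    rw [← conj_sk_val F h2 g hg, ← hxe, rho_coe, monMat_apply]
  by_contra hne
  have hmoved : ∀ m : Fin 5, x.right m ≠ m → (g : Matrix (Fin 5) (Fin 5) F) m k ≠ 0 := by
    intro m hm h0
    have h1 := hM m m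
    rw [if_neg (Ne.symm hm), if_pos rfl, h0, mul_zero, zero_sub] at h1
    have : (1 : F) = 0 := by linear_combination h1
    exact one_ne_zero this
  have hpair : ∀ i j : Fin 5, i ≠ j → (g : Matrix (Fin 5) (Fin 5) F) i k ≠ 0 →
      (g : Matrix (Fin 5) (Fin 5) F) j k ≠ 0 → i = x.right j := by
    intro i j hij hi hj
    by_contra hcon
    have h1 := hM i j
    rw [if_neg hcon, if_neg hij, sub_zero] at h1
    exact mul_ne_zero (mul_ne_zero h2 hi) hj h1.symm
  obtain ⟨j, hj⟩ : ∃ j, x.right j ≠ j := by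
    by_contra hcon
    push Not at hcon
    exact hne (Equiv.ext hcon)
  have hj' : x.right (x.right j) ≠ x.right j := fun h => hj (x.right.injective h)
  have hjj : j = x.right (x.right j) :=
    hpair j (x.right j) (Ne.symm hj) (hmoved j hj) (hmoved _ hj')
  have hfix : ∀ m : Fin 5, m ≠ j → m ≠ x.right j → x.right m = m := by
    intro m hmj hmj'
    by_contra hm
    exact hmj' (hpair m j hmj (hmoved m hm) (hmoved j hj))
  have hswap : x.right = Equiv.swap j (x.right j) := by
    ext m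
    by_cases hmj : m = j
    · subst hmj
      rw [Equiv.swap_apply_left]
    · by_cases hmj' : m = x.right j
      · rw [hmj', Equiv.swap_apply_right, ← hjj]
      · rw [Equiv.swap_apply_of_ne_of_ne hmj hmj', hfix m hmj hmj']
  have hsign := ((mem_N0' x).mp hx).1
  rw [hswap, Equiv.Perm.sign_swap (Ne.symm hj)] at hsign
  exact absurd hsign (by decide)

/-- if `g E0 g⁻¹` lies in `N0 = 2^6 : A_7` then it is `E0` -/
theorem conj_E0_diag (h2 : (2 : F) ≠ 0) (g : Matrix.GeneralLinearGroup (Fin 5) F) (hg : g ∈ O5 F)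
    (hc : ∀ b ∈ E0 F, g * b * g⁻¹ ∈ N0 F) : ∀ b ∈ E0 F, g * b * g⁻¹ ∈ E0 F := by
  have hd : ∀ k i j : Fin 5, i ≠ j →
      ((g * rho F (dg (sk k)) * g⁻¹ : Matrix.GeneralLinearGroup (Fin 5) F) :
        Matrix (Fin 5) (Fin 5) F) i j = 0 := by
    intro k i j hij
    obtain ⟨x, hx, hxe⟩ := Subgroup.mem_map.mp
      (hc _ (Subgroup.mem_map_of_mem _ (dg_sk_mem_E0' k)))
    have h1 := right_eq_one_of_conj_sk F h2 g hg k x hx hxe
    rw [← hxe, rho_coe, monMat_apply, h1, Equiv.Perm.one_apply, if_neg hij]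
  obtain ⟨x₀, hx₀⟩ := mono_of_conj_sk_diag F h2 g hg hd
  intro b hb
  obtain ⟨y, hy, rfl⟩ := Subgroup.mem_map.mp hb
  rw [hx₀, ← map_inv, ← map_mul, ← map_mul]
  apply Subgroup.mem_map_of_mem
  rw [mem_E0'] at hy ⊢
  constructor
  · rw [SP_mul_right, SP_mul_right, hy.1, mul_one, SemidirectProduct.inv_right, mul_inv_cancel]
  · have h1 : prodHom (x₀ * y * x₀⁻¹) = prodHom y := by
      rw [map_mul, map_mul, map_inv, mul_comm, ← mul_assoc, inv_mul_cancel, one_mul]
    rw [← prodHom_apply, h1, prodHom_apply]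
    exact hy.2

/-- the normalizer of `E0` in `O₅` consists of monomial matrices -/
theorem norm_E0_mon (h2 : (2 : F) ≠ 0) (g : Matrix.GeneralLinearGroup (Fin 5) F) (hg : g ∈ O5 F)
    (hn : ∀ b ∈ E0 F, g * b * g⁻¹ ∈ E0 F) : ∃ x : SP, g = rho F x := by
  apply mono_of_conj_sk_diag F h2 g hg
  intro k i j hij
  obtain ⟨y, hy, hye⟩ := Subgroup.mem_map.mp
    (hn _ (Subgroup.mem_map_of_mem _ (dg_sk_mem_E0' k)))
  rw [← hye, rho_coe, monMat_apply, ((mem_E0' y).mp hy).1, Equiv.Perm.one_apply, if_neg hij]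

end Cfsg.Agent.Lib.Helper10.O5F
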