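import Mathlib
import Cfsg.Prelude.Def_GeometricClasses
import Cfsg.Agent.Lib.Helper27.ASC.Defs
import Cfsg.Agent.Lib.helper23.ASCO.Defs
import Cfsg.Agent.Lib.Lead.Reindex
import Cfsg.Agent.Lib.Helper25.O9.Defs
import Cfsg.Agent.Lib.Helper28.OGenQ
import Cfsg.Agent.Lib.Helper28.OFrame

set_option autoImplicit false
set_option linter.unusedVariables false
set_option linter.unusedSectionVars false

/-!
# Project O9, piece D3Q3 : `dec3_q3`

Over `F_3` the stabiliser of three orthogonal isometric blocks of dimension 3 stabilises a frame of nine lines: block `0` has an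
orthogonal basis `x y z` with `Q x = Q y = Q z = c ≠ 0` (`Helper28.OFrame.orth3_normal`), the only vectors of the block with `Q = c`
are `± x, ± y, ± z` (`orth3_P`); transport to the other blocks by the isometries.
-/

namespace Cfsg.Agent.Lib.Helper25.O9

open Cfsg Cfsg.Geo Cfsg.Agent.Lib.Helper27.ASC Cfsg.Agent.Lib.helper23.ASCO
open scoped MatrixGroups Matrix

variable {n : ℕ} {F : Type*} [Field F] [Fintype F]

omit [Fintype F] in
/-- `n` pairwise orthogonal vectors of the same non-zero norm span an orthogonal decomposition into isometric lines -/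
theorem o9d3q3_lines (hn2 : 2 ≤ n) (h2 : (2 : F) ≠ 0) (Q : QuadraticForm F (Fin n → F))
    (w : Fin n → (Fin n → F)) (κ : F) (hκ : κ ≠ 0)
    (hpol_same : ∀ m, QuadraticMap.polar (⇑Q) (w m) (w m) = κ)
    (hpol_ne : ∀ m m', m ≠ m' → QuadraticMap.polar (⇑Q) (w m) (w m') = 0) :
    IsOrthogonalMDecomposition (⇑Q) 1 (fun m => Submodule.span F {w m}) := by
  classical
  obtain ⟨B, hB⟩ : ∃ B : LinearMap.BilinMap F (Fin n → F) F, B = QuadraticMap.polarBilin Q := ⟨_, rfl⟩
  have hBp : ∀ a b, B a b = QuadraticMap.polar (⇑Q) a b := fun a b => by rw [hB]; rfl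
  have hw0 : ∀ m, w m ≠ 0 := by
    intro m h0
    have := hpol_same m
    rw [h0, ← hBp, map_zero] at this
    exact hκ this.symm
  have hli : LinearIndependent F w := by
    rw [linearIndependent_iff']
    intro s g hg m hm
    have h1 : B (∑ i ∈ s, g i • w i) (w m) = 0 := by rw [hg, map_zero, LinearMap.zero_apply]
    rw [map_sum, LinearMap.sum_apply] at h1
    simp only [map_smul, LinearMap.smul_apply, smul_eq_mul] at h1
    rw [Finset.sum_eq_single m] at h1
    · rw [hBp, hpol_same] at h1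
      exact (mul_eq_zero.mp h1).resolve_right hκ
    · intro i _ him
      rw [hBp, hpol_ne i m him, mul_zero]
    · intro h
      exact absurd hm h
  have hspan : Submodule.span F (Set.range w) = ⊤ := by
    apply hli.span_eq_top_of_card_eq_finrank'
    rw [Fintype.card_fin, Module.finrank_fin_fun]
  obtain ⟨D, hD⟩ : ∃ D : Fin n → Submodule F (Fin n → F), ∀ m, D m = Submodule.span F {w m} :=
    ⟨_, fun _ => rfl⟩
  have hDfun : D = fun m => Submodule.span F {w m} := funext hD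
  rw [← hDfun]
  have hwmem : ∀ m, w m ∈ D m := fun m => by rw [hD]; exact Submodule.mem_span_singleton_self _
  have hrepr : ∀ m, ∀ x ∈ D m, ∃ a : F, x = a • w m := by
    intro m x hx
    rw [hD, Submodule.mem_span_singleton] at hx
    obtain ⟨a, ha⟩ := hx
    exact ⟨a, ha.symm⟩
  have hQw : ∀ m, Q (w m) = 2⁻¹ * κ := by
    intro m
    have h1 := QuadraticMap.polar_self Q (w m)
    rw [hpol_same] at h1
    rw [h1]
    simp only [nsmul_eq_mul, Nat.cast_ofNat]
    field_simp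
  refine ⟨⟨⟨hn2, Nat.one_pos, ?_, ?_, ?_⟩, ?_, ?_⟩, ?_⟩
  · intro m
    rw [hD]
    exact finrank_span_singleton (hw0 m)
  · rw [hDfun]
    exact hli.iSupIndep_span_singleton
  · rw [hDfun, ← Submodule.span_range_eq_iSup]
    exact hspan
  · intro m x hx hx0
    obtain ⟨a, rfl⟩ := hrepr m x hx
    have ha : a ≠ 0 := by
      intro h; apply hx0; rw [h, zero_smul]
    refine ⟨⟨w m, hwmem m, ?_⟩, ⟨w m, hwmem m, ?_⟩⟩
    · rw [← hBp, map_smul, smul_eq_mul, hBp, hpol_same]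
      exact mul_ne_zero ha hκ
    · rw [← hBp, map_smul, LinearMap.smul_apply, smul_eq_mul, hBp, hpol_same]
      exact mul_ne_zero ha hκ
  · intro i j hij u hu v hv
    obtain ⟨a, rfl⟩ := hrepr i u hu
    obtain ⟨b, rfl⟩ := hrepr j v hv
    rw [← hBp, map_smul, map_smul, LinearMap.smul_apply, hBp, hpol_ne i j hij, smul_zero, smul_zero]
  · intro i j
    have hDi : D i = Submodule.span F {w i} := hD i
    have hDj : D j = Submodule.span F {w j} := hD j
    refine ⟨(LinearEquiv.ofEq _ _ hDi).trans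
      (((LinearEquiv.toSpanNonzeroSingleton F (Fin n → F) (w i) (hw0 i)).symm.trans
        (LinearEquiv.toSpanNonzeroSingleton F (Fin n → F) (w j) (hw0 j))).trans
        (LinearEquiv.ofEq _ _ hDj.symm)), fun x => ?_⟩
    obtain ⟨a, ha⟩ : ∃ a : F, a = (LinearEquiv.toSpanNonzeroSingleton F (Fin n → F) (w i) (hw0 i)).symm
        (LinearEquiv.ofEq _ _ hDi x) := ⟨_, rfl⟩
    have hx : (x : Fin n → F) = a • w i := by
      have := LinearEquiv.toSpanNonzeroSingleton_symm_apply_smul F (Fin n → F) (w i) (hw0 i)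
        (LinearEquiv.ofEq _ _ hDi x)
      rw [← ha] at this
      rw [this]
      rfl
    have hex : ((((LinearEquiv.ofEq _ _ hDi).trans
      (((LinearEquiv.toSpanNonzeroSingleton F (Fin n → F) (w i) (hw0 i)).symm.trans
        (LinearEquiv.toSpanNonzeroSingleton F (Fin n → F) (w j) (hw0 j))).trans
        (LinearEquiv.ofEq _ _ hDj.symm))) x : D j) : Fin n → F) = a • w j := by
      simp only [LinearEquiv.trans_apply, LinearEquiv.coe_ofEq_apply, ← ha,
        LinearEquiv.toSpanNonzeroSingleton_apply]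
    rw [hex, hx, QuadraticMap.map_smul, QuadraticMap.map_smul, hQw, hQw]

omit [Fintype F] in
/-- a matrix permuting the vectors `w m` up to non-zero scalars stabilises the frame of the lines `span {w m}` -/
theorem o9d3q3_stab (w : Fin n → (Fin n → F)) (g : GL (Fin n) F) (σ : Equiv.Perm (Fin n)) (s : Fin n → F)
    (hs : ∀ m, s m ≠ 0) (hg : ∀ m, (g : Matrix (Fin n) (Fin n) F) *ᵥ w m = s m • w (σ m)) :
    g ∈ decompositionStabilizer (fun m => Submodule.span F {w m}) := by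
  refine ⟨σ, fun m => ?_⟩
  rw [Submodule.map_span, Set.image_singleton, Matrix.toLin'_apply, hg]
  exact Submodule.span_singleton_smul_eq (IsUnit.mk0 _ (hs m)) _

/-- D3Q3 : over `F_3` the stabiliser of three orthogonal isometric blocks of dimension 3 stabilises a frame. -/
theorem dec3_q3 (h2 : (2 : F) ≠ 0) (Q : QuadraticForm F (Fin 9 → F))
    (hQ : (QuadraticMap.polarBilin Q).Nondegenerate) (hq : Fintype.card F = 3)
    (D : Fin 3 → Submodule F (Fin 9 → F)) (hD : IsOrthogonalMDecomposition (⇑Q) 3 D) :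
    ∃ D' : Fin 9 → Submodule F (Fin 9 → F), IsOrthogonalMDecomposition (⇑Q) 1 D' ∧
      decompositionStabilizer D ⊓ isometryGroup F (⇑Q) ≤ decompositionStabilizer D' := by
  classical
  have hqf := Cfsg.Agent.Lib.Helper28.OGenQ.qf_of_quad Q hQ
  have hsym := hqf.sym
  have hpf : ∀ a b, Cfsg.Agent.S0795.pf Q a b = QuadraticMap.polar (⇑Q) a b := fun _ _ => rfl
  -- block `0` splits off
  have sp0 : Cfsg.Agent.Lib.Helper28.ONd.Split (Cfsg.Agent.S0795.pf Q) (D 0) (D 1 ⊔ D 2) := by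
    constructor
    · intro a ha o ho
      obtain ⟨o1, ho1, o2, ho2, rfl⟩ := Submodule.mem_sup.mp ho
      rw [Cfsg.Agent.Lib.Helper28.HForm.f_add_right hsym, hpf, hpf,
        hD.decomp.orthogonal 0 1 (by decide) a ha o1 ho1, hD.decomp.orthogonal 0 2 (by decide) a ha o2 ho2, add_zero]
    · rw [eq_top_iff, ← hD.decomp.decomp.iSup_eq_top]
      apply iSup_le
      intro i
      fin_cases i
      · exact le_sup_left
      · exact le_trans le_sup_left le_sup_right
      · exact le_trans le_sup_right le_sup_right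
  obtain ⟨x, y, z, h, hy, hz⟩ := Cfsg.Agent.Lib.Helper28.OFrame.orth3_normal hqf hq sp0
    (hD.decomp.decomp.finrank_eq 0)
  obtain ⟨c, hc⟩ : ∃ c : F, c = Q x := ⟨_, rfl⟩
  have hc0 : c ≠ 0 := by rw [hc]; exact h.qx
  -- the isometries
  have hiso := fun i => hD.isometric 0 i
  choose E hE using hiso
  have hEpf : ∀ i (a b : D 0), Cfsg.Agent.S0795.pf Q (E i a : Fin 9 → F) (E i b : Fin 9 → F) =
      Cfsg.Agent.S0795.pf Q (a : Fin 9 → F) (b : Fin 9 → F) := by
    intro i a b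
    have h1 : ((E i a : D i) : Fin 9 → F) + ((E i b : D i) : Fin 9 → F) = ((E i (a + b) : D i) : Fin 9 → F) := by
      rw [map_add]; rfl
    have h3 : ((a + b : D 0) : Fin 9 → F) = (a : Fin 9 → F) + (b : Fin 9 → F) := rfl
    rw [hpf, hpf]
    unfold QuadraticMap.polar
    rw [h1, hE, hE, hE, h3]
  obtain ⟨X, hX⟩ : ∃ X : Fin 3 → D 0, X = ![⟨x, h.hx⟩, ⟨y, h.hy⟩, ⟨z, h.hz⟩] := ⟨_, rfl⟩
  have hX0 : ((X 0 : D 0) : Fin 9 → F) = x := by rw [hX]; rfl
  have hX1 : ((X 1 : D 0) : Fin 9 → F) = y := by rw [hX]; rfl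
  have hX2 : ((X 2 : D 0) : Fin 9 → F) = z := by rw [hX]; rfl
  have hQX : ∀ j, Q ((X j : D 0) : Fin 9 → F) = c := by
    intro j
    fin_cases j
    · show Q ((X 0 : D 0) : Fin 9 → F) = c
      rw [hX0, hc]
    · show Q ((X 1 : D 0) : Fin 9 → F) = c
      rw [hX1, hc, hy]
    · show Q ((X 2 : D 0) : Fin 9 → F) = c
      rw [hX2, hc, hz]
  have hyx : Cfsg.Agent.S0795.pf Q y x = 0 := by rw [Cfsg.Agent.Lib.Helper28.OGen.s_symm hsym, h.xy]
  have hzx : Cfsg.Agent.S0795.pf Q z x = 0 := by rw [Cfsg.Agent.Lib.Helper28.OGen.s_symm hsym, h.xz]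
  have hzy : Cfsg.Agent.S0795.pf Q z y = 0 := by rw [Cfsg.Agent.Lib.Helper28.OGen.s_symm hsym, h.yz]
  have hXo : ∀ j j', j ≠ j' → Cfsg.Agent.S0795.pf Q ((X j : D 0) : Fin 9 → F) ((X j' : D 0) : Fin 9 → F) = 0 := by
    intro j j' hjj
    fin_cases j <;> fin_cases j'
    · exact absurd rfl hjj
    · show Cfsg.Agent.S0795.pf Q ((X 0 : D 0) : Fin 9 → F) ((X 1 : D 0) : Fin 9 → F) = 0
      rw [hX0, hX1, h.xy]
    · show Cfsg.Agent.S0795.pf Q ((X 0 : D 0) : Fin 9 → F) ((X 2 : D 0) : Fin 9 → F) = 0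
      rw [hX0, hX2, h.xz]
    · show Cfsg.Agent.S0795.pf Q ((X 1 : D 0) : Fin 9 → F) ((X 0 : D 0) : Fin 9 → F) = 0
      rw [hX0, hX1, hyx]
    · exact absurd rfl hjj
    · show Cfsg.Agent.S0795.pf Q ((X 1 : D 0) : Fin 9 → F) ((X 2 : D 0) : Fin 9 → F) = 0
      rw [hX1, hX2, h.yz]
    · show Cfsg.Agent.S0795.pf Q ((X 2 : D 0) : Fin 9 → F) ((X 0 : D 0) : Fin 9 → F) = 0
      rw [hX0, hX2, hzx]
    · show Cfsg.Agent.S0795.pf Q ((X 2 : D 0) : Fin 9 → F) ((X 1 : D 0) : Fin 9 → F) = 0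
      rw [hX1, hX2, hzy]
    · exact absurd rfl hjj
  -- every vector of norm `c` in block `0` is `± X j`
  have hP0 : ∀ v : D 0, Q (v : Fin 9 → F) = c → ∃ j, v = X j ∨ v = -X j := by
    intro v hv
    have := Cfsg.Agent.Lib.Helper28.OFrame.orth3_P hqf hq h hy hz (v : Fin 9 → F) v.2 (by rw [hv, hc])
    rcases this with h1 | h1 | h1 | h1 | h1 | h1
    · exact ⟨0, Or.inl (Subtype.ext (by rw [hX0]; exact h1))⟩
    · exact ⟨0, Or.inr (Subtype.ext (by rw [Submodule.coe_neg, hX0]; exact h1))⟩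
    · exact ⟨1, Or.inl (Subtype.ext (by rw [hX1]; exact h1))⟩
    · exact ⟨1, Or.inr (Subtype.ext (by rw [Submodule.coe_neg, hX1]; exact h1))⟩
    · exact ⟨2, Or.inl (Subtype.ext (by rw [hX2]; exact h1))⟩
    · exact ⟨2, Or.inr (Subtype.ext (by rw [Submodule.coe_neg, hX2]; exact h1))⟩
  -- the nine vectors
  obtain ⟨e⟩ : Nonempty (Fin 9 ≃ Fin 3 × Fin 3) := ⟨(finProdFinEquiv : Fin 3 × Fin 3 ≃ Fin 9).symm⟩
  obtain ⟨w, hw⟩ : ∃ w : Fin 9 → (Fin 9 → F), ∀ m, w m = ((E (e m).1 (X (e m).2) : D (e m).1) : Fin 9 → F) :=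
    ⟨_, fun _ => rfl⟩
  have hwD : ∀ m, w m ∈ D (e m).1 := fun m => by rw [hw]; exact Subtype.property _
  have hQw : ∀ m, Q (w m) = c := fun m => by rw [hw, hE, hQX]
  obtain ⟨κ, hκdef⟩ : ∃ κ : F, κ = 2 * c := ⟨_, rfl⟩
  have hκ : κ ≠ 0 := by rw [hκdef]; exact mul_ne_zero h2 hc0
  have hpol_same : ∀ m, QuadraticMap.polar (⇑Q) (w m) (w m) = κ := by
    intro m
    rw [← hpf, Cfsg.Agent.Lib.Helper28.OQ.f_self hqf, hQw, hκdef]
  have hpol_ne : ∀ m m', m ≠ m' → QuadraticMap.polar (⇑Q) (w m) (w m') = 0 := by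
    intro m m' hmm
    by_cases h1 : (e m).1 = (e m').1
    · have h2' : (e m).2 ≠ (e m').2 := by
        intro h2'
        exact hmm (e.injective (Prod.ext h1 h2'))
      have key : ∀ (i i' : Fin 3) (hi : i = i') (a b : D 0),
          Cfsg.Agent.S0795.pf Q ((E i a : D i) : Fin 9 → F) ((E i' b : D i') : Fin 9 → F) =
            Cfsg.Agent.S0795.pf Q (a : Fin 9 → F) (b : Fin 9 → F) := by
        intro i i' hi a b
        subst hi
        exact hEpf i a b
      rw [← hpf, hw, hw, key _ _ h1, hXo _ _ h2']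
    · exact hD.decomp.orthogonal _ _ h1 _ (hwD m) _ (hwD m')
  -- every vector of norm `c` in block `i` is `± w (i, j)`
  have hP : ∀ i, ∀ v ∈ D i, Q v = c → ∃ j, v = w (e.symm (i, j)) ∨ v = -w (e.symm (i, j)) := by
    intro i v hv hvQ
    obtain ⟨v', hv'⟩ : ∃ v' : D 0, E i v' = ⟨v, hv⟩ := ⟨(E i).symm ⟨v, hv⟩, LinearEquiv.apply_symm_apply _ _⟩
    have h1 : Q (v' : Fin 9 → F) = c := by
      rw [← hE i v', hv']
      exact hvQ
    have hwij : ∀ j, w (e.symm (i, j)) = ((E i (X j) : D i) : Fin 9 → F) := by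
      intro j
      rw [hw]
      have h3 : e (e.symm (i, j)) = (i, j) := e.apply_symm_apply _
      have key : ∀ (p : Fin 3 × Fin 3), p = (i, j) →
          ((E p.1 (X p.2) : D p.1) : Fin 9 → F) = ((E i (X j) : D i) : Fin 9 → F) := by
        intro p hp
        subst hp
        rfl
      exact key _ h3
    obtain ⟨j, hj | hj⟩ := hP0 v' h1
    · refine ⟨j, Or.inl ?_⟩
      rw [hwij, ← hj, hv']
    · refine ⟨j, Or.inr ?_⟩
      rw [hwij]
      have : ((E i v' : D i) : Fin 9 → F) = -((E i (X j) : D i) : Fin 9 → F) := by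
        rw [hj, map_neg]
        rfl
      rw [← this, hv']
  refine ⟨fun m => Submodule.span F {w m}, o9d3q3_lines (by norm_num) h2 Q w κ hκ hpol_same hpol_ne, ?_⟩
  -- the stabiliser
  intro g hg
  obtain ⟨⟨σ, hσ⟩, hgI⟩ := Subgroup.mem_inf.mp hg
  have hgQ : ∀ v : Fin 9 → F, Q ((g : Matrix (Fin 9) (Fin 9) F) *ᵥ v) = Q v := fun v => hgI v v
  have hgpol : ∀ u v, QuadraticMap.polar (⇑Q) ((g : Matrix (Fin 9) (Fin 9) F) *ᵥ u)
      ((g : Matrix (Fin 9) (Fin 9) F) *ᵥ v) = QuadraticMap.polar (⇑Q) u v := by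
    intro u v
    unfold QuadraticMap.polar
    rw [← Matrix.mulVec_add, hgQ, hgQ, hgQ]
  have hex : ∀ m, ∃ (m' : Fin 9) (s : F), s ≠ 0 ∧ (g : Matrix (Fin 9) (Fin 9) F) *ᵥ w m = s • w m' := by
    intro m
    have h1 : (g : Matrix (Fin 9) (Fin 9) F) *ᵥ w m ∈ D (σ (e m).1) := by
      rw [← hσ]
      exact ⟨w m, hwD m, by rw [Matrix.toLin'_apply]⟩
    obtain ⟨j, hj | hj⟩ := hP _ _ h1 (by rw [hgQ, hQw])
    · exact ⟨_, 1, one_ne_zero, by rw [hj, one_smul]⟩
    · exact ⟨_, -1, neg_ne_zero.mpr one_ne_zero, by rw [hj, neg_one_smul]⟩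
  choose φ s hs hφ using hex
  have hinj : Function.Injective φ := by
    intro m m' hmm
    by_contra hne
    have h1 := hgpol (w m) (w m')
    obtain ⟨B, hB⟩ : ∃ B : LinearMap.BilinMap F (Fin 9 → F) F, B = QuadraticMap.polarBilin Q := ⟨_, rfl⟩
    have hBp : ∀ a b, B a b = QuadraticMap.polar (⇑Q) a b := fun a b => by rw [hB]; rfl
    rw [hpol_ne m m' hne, hφ m, hφ m', hmm, ← hBp, map_smul, map_smul, LinearMap.smul_apply, hBp, hpol_same,
      smul_eq_mul, smul_eq_mul] at h1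
    exact mul_ne_zero (hs m') (mul_ne_zero (hs m) hκ) h1
  exact o9d3q3_stab w g (Equiv.ofBijective φ (Finite.injective_iff_bijective.1 hinj)) s hs hφ

end Cfsg.Agent.Lib.Helper25.O9
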