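import Mathlib
import Cfsg.Prelude.Def_GeometricClasses
import Cfsg.Agent.Lib.Helper27.ASC.Defs
import Cfsg.Agent.Lib.helper23.ASCO.Defs
import Cfsg.Agent.Lib.Lead.Reindex
import Cfsg.Agent.Lib.Helper25.O9.Defs
import Cfsg.Agent.Lib.Helper28.OGenQ
import Cfsg.Agent.Lib.Helper11.ASCOPRA

set_option autoImplicit false
set_option linter.unusedVariables false
set_option linter.unusedSectionVars false

/-!
# Project O9, piece DEC : `omega_not_le_dec`

`Ω` stabilises no decomposition: a Siegel element `g` has `g (g x) + x = 2 • g x`; if it permutes the blocks by `σ` and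
`σ i ≠ i`, then for `w ∈ D i` the vector `2 • g w` lies in `D (σ i) ⊓ ⨆ j ≠ σ i, D j = ⊥`, so `D i = ⊥`.  Hence every Siegel
element maps every block onto itself, so does `Ω`, contradicting the irreducibility of `Ω`.
-/

namespace Cfsg.Agent.Lib.Helper25.O9

open Cfsg Cfsg.Geo Cfsg.Agent.Lib.Helper27.ASC Cfsg.Agent.Lib.helper23.ASCO
open scoped MatrixGroups Matrix

variable {n : ℕ} {F : Type*} [Field F] [Fintype F]

/-- a matrix `T` with `T² + 1 = 2 T` (`2 ≠ 0`) permuting the blocks of a decomposition maps every block onto itself -/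
theorem o9dec_unipotent_blocks (h2 : (2 : F) ≠ 0) (g : GL (Fin n) F)
    (hTT : ∀ x, (g : Matrix (Fin n) (Fin n) F) *ᵥ ((g : Matrix (Fin n) (Fin n) F) *ᵥ x) + x =
      (2 : F) • ((g : Matrix (Fin n) (Fin n) F) *ᵥ x))
    {t k : ℕ} (D : Fin t → Submodule F (Fin n → F)) (hD : IsMDecomposition k D)
    (hg : g ∈ decompositionStabilizer D) (i : Fin t) :
    (D i).map (Matrix.toLin' (g : Matrix (Fin n) (Fin n) F)) = D i := by
  classical
  obtain ⟨σ, hσ⟩ := hg
  set T : Matrix (Fin n) (Fin n) F := (g : Matrix (Fin n) (Fin n) F) with hT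
  have hmap : ∀ i, ∀ w ∈ D i, T *ᵥ w ∈ D (σ i) := by
    intro i w hw
    rw [← hσ i]
    exact ⟨w, hw, by rw [Matrix.toLin'_apply]⟩
  have hTinj : ∀ w, T *ᵥ w = 0 → w = 0 := by
    intro w hw
    have h1 : ((g⁻¹ : GL (Fin n) F) : Matrix (Fin n) (Fin n) F) *ᵥ (T *ᵥ w) = w := by
      rw [Matrix.mulVec_mulVec, hT, ← Units.val_mul, inv_mul_cancel, Units.val_one, Matrix.one_mulVec]
    rw [hw, Matrix.mulVec_zero] at h1
    exact h1.symm
  have hσ1 : σ i = i := by
    by_contra hne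
    have hbot : D i ≠ ⊥ := by
      intro h
      have h1 := hD.finrank_eq i
      rw [h, finrank_bot] at h1
      have := hD.pos
      omega
    obtain ⟨w₀, hw₀, hw₀0⟩ := (Submodule.ne_bot_iff _).mp hbot
    have h1 : T *ᵥ w₀ ∈ D (σ i) := hmap i w₀ hw₀
    have h2' : T *ᵥ (T *ᵥ w₀) ∈ D (σ (σ i)) := hmap (σ i) _ h1
    have hne2 : σ (σ i) ≠ σ i := fun h => hne (σ.injective h)
    have h3 : (2 : F) • (T *ᵥ w₀) ∈ ⨆ (j) (_ : j ≠ σ i), D j := by
      rw [← hTT w₀]
      apply Submodule.add_mem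
      · exact (le_iSup₂_of_le (σ (σ i)) hne2 le_rfl : D (σ (σ i)) ≤ _) h2'
      · exact (le_iSup₂_of_le i (fun h => hne h.symm) le_rfl : D i ≤ _) hw₀
    have h4 : (2 : F) • (T *ᵥ w₀) ∈ D (σ i) := Submodule.smul_mem _ _ h1
    have h5 := Submodule.disjoint_def.mp (hD.indep (σ i)) _ h4 h3
    rcases smul_eq_zero.mp h5 with h | h
    · exact h2 h
    · exact hw₀0 (hTinj w₀ h)
  have := hσ i
  rw [hσ1] at this
  exact this

/-- a Siegel element satisfies `(g - 1)² = 0` -/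
theorem o9dec_siegel_sq (Q : QuadraticForm F (Fin n → F)) (hQ : (QuadraticMap.polarBilin Q).Nondegenerate)
    (g : GL (Fin n) F) (u v : Fin n → F) (c : F)
    (hu : Q u = 0) (hv : Q v = 0) (huv : Cfsg.Agent.S0795.pf Q u v = 0)
    (hg : Cfsg.Agent.Lib.Helper28.OMax.IsSg (Cfsg.Agent.S0795.pf Q) g u v c) :
    ∀ x, (g : Matrix (Fin n) (Fin n) F) *ᵥ ((g : Matrix (Fin n) (Fin n) F) *ᵥ x) + x =
      (2 : F) • ((g : Matrix (Fin n) (Fin n) F) *ᵥ x) := by
  have hq := Cfsg.Agent.Lib.Helper28.OGenQ.qf_of_quad Q hQ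
  have hsym := hq.sym
  have hTx : ∀ x, (g : Matrix (Fin n) (Fin n) F) *ᵥ x =
      x + c • (Cfsg.Agent.S0795.pf Q u x • v - Cfsg.Agent.S0795.pf Q v x • u) := by
    intro x
    have := hg x
    unfold Cfsg.Agent.Lib.Helper28.OMax.Tv at this
    exact this
  have huu : Cfsg.Agent.S0795.pf Q u u = 0 := Cfsg.Agent.Lib.Helper28.OQ.f_sing hq hu
  have hvv : Cfsg.Agent.S0795.pf Q v v = 0 := Cfsg.Agent.Lib.Helper28.OQ.f_sing hq hv
  have hvu : Cfsg.Agent.S0795.pf Q v u = 0 := by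
    rw [Cfsg.Agent.Lib.Helper28.OGen.s_symm hsym]
    exact huv
  intro x
  have h1 : (g : Matrix (Fin n) (Fin n) F) *ᵥ
      (c • (Cfsg.Agent.S0795.pf Q u x • v - Cfsg.Agent.S0795.pf Q v x • u)) =
      c • (Cfsg.Agent.S0795.pf Q u x • v - Cfsg.Agent.S0795.pf Q v x • u) := by
    rw [hTx]
    rw [Cfsg.Agent.Lib.Helper28.OGen.s_smul_right hsym, Cfsg.Agent.Lib.Helper28.OGen.s_smul_right hsym,
      Cfsg.Agent.Lib.Helper28.HForm.f_sub_right hsym, Cfsg.Agent.Lib.Helper28.HForm.f_sub_right hsym,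
      Cfsg.Agent.Lib.Helper28.OGen.s_smul_right hsym, Cfsg.Agent.Lib.Helper28.OGen.s_smul_right hsym,
      Cfsg.Agent.Lib.Helper28.OGen.s_smul_right hsym, Cfsg.Agent.Lib.Helper28.OGen.s_smul_right hsym,
      huv, huu, hvv, hvu]
    simp
  rw [hTx x, Matrix.mulVec_add, h1, hTx x, two_smul]
  abel

/-- DEC : `Ω` stabilises no decomposition. -/
theorem omega_not_le_dec (hn : 7 ≤ n) (h2 : (2 : F) ≠ 0) (Q : QuadraticForm F (Fin n → F))
    (hQ : (QuadraticMap.polarBilin Q).Nondegenerate) {t k : ℕ} (D : Fin t → Submodule F (Fin n → F))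
    (hD : IsMDecomposition k D) : ¬ omegaGL (⇑Q) ≤ decompositionStabilizer D := by
  classical
  intro hle
  have sg := Cfsg.Agent.Lib.Helper28.OGenQ.sgGroupQ_quad hn Q hQ
  have ht := hD.two_le
  let i₀ : Fin t := ⟨0, by omega⟩
  let i₁ : Fin t := ⟨1, by omega⟩
  have h01 : i₁ ≠ i₀ := by
    intro h
    have := congrArg Fin.val h
    simp [i₀, i₁] at this
  have hbot : ∀ i, D i ≠ ⊥ := by
    intro i h
    have h1 := hD.finrank_eq i
    rw [h, finrank_bot] at h1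
    have := hD.pos
    omega
  have htop : D i₀ ≠ ⊤ := by
    intro h
    have h1 := hD.indep i₁
    have h3 : D i₁ ≤ ⨆ (j) (_ : j ≠ i₁), D j := by
      refine le_trans ?_ (le_iSup₂_of_le i₀ (fun h => h01 h.symm) le_rfl)
      rw [h]
      exact le_top
    have := h1 le_rfl h3
    exact hbot i₁ (le_bot_iff.mp this)
  refine omega_not_le_stab hn h2 Q hQ (D i₀) (hbot i₀) htop ?_
  apply sg.gen
  intro g u v c hu hv huv hg
  have hgΩ := sg.sg g u v c hu hv huv hg
  have hTT := o9dec_siegel_sq Q hQ g u v c hu hv huv hg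
  have hblk := o9dec_unipotent_blocks h2 g hTT D hD (hle hgΩ) i₀
  have hTinj : ∀ w, (g : Matrix (Fin n) (Fin n) F) *ᵥ w = 0 → w = 0 := by
    intro w hw
    have h1 : ((g⁻¹ : GL (Fin n) F) : Matrix (Fin n) (Fin n) F) *ᵥ ((g : Matrix (Fin n) (Fin n) F) *ᵥ w) = w := by
      rw [Matrix.mulVec_mulVec, ← Units.val_mul, inv_mul_cancel, Units.val_one, Matrix.one_mulVec]
    rw [hw, Matrix.mulVec_zero] at h1
    exact h1.symm
  intro x
  change x ∈ D i₀ ↔ (g : Matrix (Fin n) (Fin n) F) *ᵥ x ∈ D i₀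
  constructor
  · intro hx
    rw [← hblk]
    exact ⟨x, hx, by rw [Matrix.toLin'_apply]⟩
  · intro hx
    rw [← hblk] at hx
    obtain ⟨w, hw, hwx⟩ := hx
    rw [Matrix.toLin'_apply] at hwx
    have : w - x = 0 := hTinj _ (by rw [Matrix.mulVec_sub, hwx, sub_self])
    rw [sub_eq_zero] at this
    rw [← this]
    exact hw

end Cfsg.Agent.Lib.Helper25.O9
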