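import Mathlib
import Cfsg.Agent.Lib.helper8.OCT.Defs

/-!
# Project OCT, piece PAR: `B ∪ B s_J B` is a subgroup
(with private copies `octpar_*` of the cell calculus, so that the file depends on `Defs` only)
-/

set_option autoImplicit false

namespace Cfsg.Agent.Lib.helper8.OCT

variable {G : Type*} [Group G] {B U : Subgroup G} {Uj : ℕ → Subgroup G} {n : ℕ → G}

theorem octpar_cell_mul_left {k : ℕ} {x b : G} (hb : b ∈ B) (hx : x ∈ cell B n k) :
    b * x ∈ cell B n k := by
  obtain ⟨c, hc, c', hc', rfl⟩ := hx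
  exact ⟨b * c, B.mul_mem hb hc, c', hc', by group⟩

theorem octpar_cell_mul_right {k : ℕ} {x b : G} (hb : b ∈ B) (hx : x ∈ cell B n k) :
    x * b ∈ cell B n k := by
  obtain ⟨c, hc, c', hc', rfl⟩ := hx
  exact ⟨c, hc, c' * b, B.mul_mem hc' hb, by group⟩

theorem octpar_cell_zero (S : OctSys B U Uj n) : cell B n 0 = (B : Set G) := by
  ext x
  constructor
  · rintro ⟨c, hc, c', hc', rfl⟩
    rw [S.n0, mul_one]
    exact B.mul_mem hc hc'
  · intro hx
    exact ⟨x, hx, 1, B.one_mem, by rw [S.n0]; group⟩

theorem octpar_cell_inv (S : OctSys B U Uj n) {k : ℕ} (hk : k < 16) {x : G}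
    (hx : x ∈ cell B n k) : x⁻¹ ∈ cell B n (oInv k) := by
  obtain ⟨c, hc, c', hc', rfl⟩ := hx
  have h1 : (c * n k * c')⁻¹ = c'⁻¹ * ((n k)⁻¹ * c⁻¹) := by group
  rw [h1]
  exact octpar_cell_mul_left (B.inv_mem hc') (octpar_cell_mul_right (B.inv_mem hc) (S.inv k hk))

theorem octpar_gen_mul (S : OctSys B U Uj n) {j k : ℕ} (hj : j < 2) (hk : k < 16) {y x : G}
    (hy : y ∈ cell B n (j + 1)) (hx : x ∈ cell B n k) :
    y * x ∈ cell B n (oMt j k) ∪ cell B n k := by
  obtain ⟨c, hc, c', hc', rfl⟩ := hy
  obtain ⟨d, hd, d', hd', rfl⟩ := hx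
  have h1 : c * n (j + 1) * c' * (d * n k * d') = c * (n (j + 1) * (c' * d) * n k) * d' := by
    group
  rw [h1]
  rcases S.mul j hj k hk (c' * d) (B.mul_mem hc' hd) with h | h
  · exact Or.inl (octpar_cell_mul_right hd' (octpar_cell_mul_left hc h))
  · exact Or.inr (octpar_cell_mul_right hd' (octpar_cell_mul_left hc h))

/-- PAR : `B ∪ B s_J B` is a subgroup (`J = 0`: `B`) -/
theorem par_subgroup (S : OctSys B U Uj n) {J : ℕ} (hJ : J < 3) :
    ∃ Q : Subgroup G, (Q : Set G) = cell B n 0 ∪ cell B n J := by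
  rcases Nat.eq_zero_or_pos J with h0 | hpos
  · subst h0
    refine ⟨B, ?_⟩
    rw [octpar_cell_zero S, Set.union_self]
  · obtain ⟨j, rfl⟩ : ∃ j, J = j + 1 := ⟨J - 1, by omega⟩
    have hj : j < 2 := by omega
    have hk : j + 1 < 16 := by omega
    have hmt : oMt j (j + 1) = 0 := by interval_cases j <;> decide
    have hinv : oInv (j + 1) = j + 1 := by interval_cases j <;> decide
    have h0 : cell B n 0 = (B : Set G) := octpar_cell_zero S
    refine ⟨{ carrier := cell B n 0 ∪ cell B n (j + 1)
              mul_mem' := ?_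
              one_mem' := ?_
              inv_mem' := ?_ }, rfl⟩
    · intro x y hx hy
      rcases hx with hx | hx
      · rw [h0] at hx
        rcases hy with hy | hy
        · exact Or.inl (octpar_cell_mul_left hx hy)
        · exact Or.inr (octpar_cell_mul_left hx hy)
      · rcases hy with hy | hy
        · rw [h0] at hy
          exact Or.inr (octpar_cell_mul_right hy hx)
        · have := octpar_gen_mul S hj hk hx hy
          rw [hmt] at this
          exact this
    · left
      rw [h0]
      exact B.one_mem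
    · intro x hx
      rcases hx with hx | hx
      · left
        rw [h0] at hx ⊢
        exact B.inv_mem hx
      · right
        have := octpar_cell_inv S hk hx
        rwa [hinv] at this

end Cfsg.Agent.Lib.helper8.OCT
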