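import Mathlib
import Cfsg.Agent.Lib.helper8.OCT.Defs
import Cfsg.Agent.Lib.Helper10.OCTPAR

/-!
# Project OCT, piece ECC (core): the eccentricity drops in the interior of a geodesic.
The FIX and GEO statements enter as hypotheses; the cell calculus is taken from `OCTPAR`
(`octpar_*`) plus `octecc_gen_mulL` below.
-/

set_option autoImplicit false

namespace Cfsg.Agent.Lib.helper8.OCT

variable {G : Type*} [Group G] {B U : Subgroup G} {Uj : ℕ → Subgroup G} {n : ℕ → G}

theorem octecc_gen_mulL (S : OctSys B U Uj n) {j k : ℕ} (hj : j < 2) (hk : k < 16)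
    (hl : oLen (oMt j k) = oLen k + 1) {y x : G}
    (hy : y ∈ cell B n (j + 1)) (hx : x ∈ cell B n k) : y * x ∈ cell B n (oMt j k) := by
  obtain ⟨c, hc, c', hc', rfl⟩ := hy
  obtain ⟨d, hd, d', hd', rfl⟩ := hx
  have h1 : c * n (j + 1) * c' * (d * n k * d') = c * (n (j + 1) * (c' * d) * n k) * d' := by
    group
  rw [h1]
  exact octpar_cell_mul_right hd' (octpar_cell_mul_left hc
    (S.mulL j hj k hk hl (c' * d) (B.mul_mem hc' hd)))

theorem octecc_n_mem (k : ℕ) : n k ∈ cell B n k :=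
  ⟨1, B.one_mem, 1, B.one_mem, by group⟩

/-! table facts -/

theorem octecc_t1 : ∀ k < 16, 1 ≤ k → oLen (oPar k) + 1 = oLen k := by decide
theorem octecc_t2 : ∀ k < 16, 1 ≤ k → oMt (oFl k) (oPar k) = k := by decide
theorem octecc_t3a : ∀ k < 16, oPar k < 16 := by decide
theorem octecc_t3b : ∀ k < 16, oFl k < 2 := by decide
theorem octecc_t3c : ∀ k < 16, oInv k < 16 := by decide
theorem octecc_t3d : ∀ j < 2, ∀ k < 16, oMt j k < 16 := by decide
theorem octecc_t4a : ∀ k < 16, oInv (oInv k) = k := by decide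
theorem octecc_t4b : ∀ k < 16, oLen (oInv k) = oLen k := by decide
theorem octecc_t5 : ∀ k < 16, 1 ≤ k → oPar k = 0 ∨ oFl (oPar k) ≠ oFl k := by decide
theorem octecc_t6 : ∀ j < 2, ∀ k < 15, (k = 0 ∨ oFl k ≠ j) → oLen (oMt j k) = oLen k + 1 := by
  decide
theorem octecc_t7a : ∀ j < 2, oInv (j + 1) = j + 1 := by decide
theorem octecc_t7b : ∀ j < 2, oMt j (j + 1) = 0 := by decide

/-- ECC, core version -/
theorem octecc_core (S : OctSys B U Uj n) {a : G}
    (hmr : ∀ {g b : G}, g ∈ fixX U a → b ∈ B → g * b ∈ fixX U a)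
    (hno : ∀ {g h : G}, g ∈ fixX U a → h ∈ fixX U a → g⁻¹ * h ∉ cell B n 15)
    (hpan : ∀ {g h b b' : G}, g ∈ fixX U a → h ∈ fixX U a → b ∈ B → b' ∈ B → ∀ {k : ℕ},
      k < 16 → 1 ≤ k → g⁻¹ * h = b * n k * b' →
      ∀ {y : G}, y ∈ cell B n 0 ∪ cell B n (oFl k + 1) → g * b * y ∈ fixX U a)
    (hgeo : ∀ v < 16, ∀ w < 16, ∀ h ∈ fixX U a, ∀ p ∈ fixX U a, ∀ x ∈ fixX U a,
      h⁻¹ * p ∈ cell B n w → p⁻¹ * x ∈ cell B n v → (v = 0 ∨ w = 0 ∨ oFl (oInv w) ≠ oFl v) →
      ∃ z < 16, h⁻¹ * x ∈ cell B n z ∧ oLen z = oLen w + oLen v)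
    (e : ℕ) {g h : G}
    (hg : g ∈ fixX U a) (hh : h ∈ fixX U a) {k : ℕ} (hk : k < 16) (hgh : g⁻¹ * h ∈ cell B n k)
    (hk2 : 2 ≤ oLen k)
    (hge : ∀ x ∈ fixX U a, ∀ z < 16, g⁻¹ * x ∈ cell B n z → oLen z ≤ e)
    (hhe : ∀ x ∈ fixX U a, ∀ z < 16, h⁻¹ * x ∈ cell B n z → oLen z ≤ e) :
    ∃ g1 ∈ fixX U a, ∀ x ∈ fixX U a, ∀ z < 16, g1⁻¹ * x ∈ cell B n z → oLen z + 1 ≤ e := by
  obtain ⟨b, hb, b', hb', hgh'⟩ := hgh
  have hk1 : 1 ≤ k := by
    rcases Nat.eq_zero_or_pos k with h0 | h0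
    · subst h0
      have : oLen 0 = 0 := by decide
      omega
    · exact h0
  set j := oFl k with hj
  set k' := oPar k with hk'
  have hj2 : j < 2 := octecc_t3b k hk
  have hk'16 : k' < 16 := octecc_t3a k hk
  have hstep : n k = n (j + 1) * n k' := S.step k hk hk1
  have hkmt : oMt j k' = k := octecc_t2 k hk hk1
  have hklen : oLen k' + 1 = oLen k := octecc_t1 k hk hk1
  have hs : n (j + 1) ∈ cell B n (j + 1) := octecc_n_mem (j + 1)
  have hsinv : (n (j + 1))⁻¹ ∈ cell B n (j + 1) := by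
    have := S.inv (j + 1) (by omega)
    rwa [octecc_t7a j hj2] at this
  have hgb : g * b ∈ fixX U a := hmr hg hb
  refine ⟨g * b * n (j + 1), hpan hg hh hb hb' hk hk1 hgh' (Or.inr hs), ?_⟩
  intro x hx z hz hxz
  -- the cell of t = (g b)⁻¹ x
  obtain ⟨kx, hkx, htx⟩ := S.cov ((g * b)⁻¹ * x)
  have hkx15 : kx ≠ 15 := by
    intro h15
    rw [h15] at htx
    exact hno hgb hx htx
  have hgx : g⁻¹ * x ∈ cell B n kx := by
    have : g⁻¹ * x = b * ((g * b)⁻¹ * x) := by group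
    rw [this]
    exact octpar_cell_mul_left hb htx
  have hkxe : oLen kx ≤ e := hge x hx kx hkx hgx
  -- h⁻¹ (g b) ∈ cell (oInv k)
  have hhgb : h⁻¹ * (g * b) ∈ cell B n (oInv k) := by
    have h1 : h⁻¹ * (g * b) = b'⁻¹ * (n k)⁻¹ := by
      have : h = g * (b * n k * b') := by rw [← hgh']; group
      rw [this]; group
    rw [h1]
    exact octpar_cell_mul_left (B.inv_mem hb') (S.inv k hk)
  have hinvk16 : oInv k < 16 := octecc_t3c k hk
  have hg1x : (g * b * n (j + 1))⁻¹ * x = (n (j + 1))⁻¹ * ((g * b)⁻¹ * x) := by group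
  by_cases hA : 1 ≤ kx ∧ oFl kx = j
  · -- case (A)
    obtain ⟨hkx1, hflx⟩ := hA
    obtain ⟨b₁, hb₁, b₂, hb₂, ht⟩ := htx
    set k'' := oPar kx with hk''
    have hk''16 : k'' < 16 := octecc_t3a kx hkx
    have hstepx : n kx = n (j + 1) * n k'' := by
      have := S.step kx hkx hkx1
      rwa [hflx] at this
    have hkxmt : oMt j k'' = kx := by
      have := octecc_t2 kx hkx hkx1
      rwa [hflx] at this
    have hkxlen : oLen k'' + 1 = oLen kx := octecc_t1 kx hkx hkx1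
    -- y₀
    have hy0 : (n (j + 1))⁻¹ * b₁ * n (j + 1) ∈ cell B n 0 ∪ cell B n (j + 1) := by
      have h1 : (n (j + 1))⁻¹ * b₁ ∈ cell B n (j + 1) := octpar_cell_mul_right hb₁ hsinv
      have := octpar_gen_mul S hj2 (by omega : j + 1 < 16) h1 hs
      rwa [octecc_t7b j hj2] at this
    have hg1x' : (g * b * n (j + 1))⁻¹ * x =
        ((n (j + 1))⁻¹ * b₁ * n (j + 1)) * (n k'' * b₂) := by
      rw [hg1x, ht, hstepx]; group
    have hnk'' : n k'' * b₂ ∈ cell B n k'' := octpar_cell_mul_right hb₂ (octecc_n_mem k'')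
    rcases hy0 with hy0 | hy0
    · -- (A-i)
      rw [octpar_cell_zero S] at hy0
      have hmem : (g * b * n (j + 1))⁻¹ * x ∈ cell B n k'' := by
        rw [hg1x']
        exact octpar_cell_mul_left hy0 hnk''
      have hzk : z = k'' := S.dis z hz k'' hk''16 _ hxz hmem
      rw [hzk]
      omega
    · -- (A-ii)
      have hmem : (g * b * n (j + 1))⁻¹ * x ∈ cell B n kx := by
        rw [hg1x', ← hkxmt]
        exact octecc_gen_mulL S hj2 hk''16 (by rw [hkxmt]; omega) hy0 hnk''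
      have hzk : z = kx := S.dis z hz kx hkx _ hxz hmem
      rw [hzk]
      -- p = g b b₁ s_j
      have hp : g * b * b₁ * n (j + 1) ∈ fixX U a := by
        have := hpan hgb hx hb₁ hb₂ hkx hkx1 ht (y := n (j + 1))
          (Or.inr (by rw [hflx]; exact hs))
        exact this
      have hpx : (g * b * b₁ * n (j + 1))⁻¹ * x ∈ cell B n k'' := by
        have h1 : (g * b * b₁ * n (j + 1))⁻¹ * x =
            (n (j + 1))⁻¹ * b₁⁻¹ * ((g * b)⁻¹ * x) := by group
        rw [h1, ht, hstepx]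
        have h2 : (n (j + 1))⁻¹ * b₁⁻¹ * (b₁ * (n (j + 1) * n k'') * b₂) = n k'' * b₂ := by group
        rw [h2]
        exact hnk''
      have hph : (g * b * b₁ * n (j + 1))⁻¹ * h ∈ cell B n k := by
        have h1 : (g * b * b₁ * n (j + 1))⁻¹ * h =
            ((n (j + 1))⁻¹ * b₁ * n (j + 1))⁻¹ * (n k' * b') := by
          have : h = g * (b * n k * b') := by rw [← hgh']; group
          rw [this, hstep]; group
        rw [h1, ← hkmt]
        have hy0inv : ((n (j + 1))⁻¹ * b₁ * n (j + 1))⁻¹ ∈ cell B n (j + 1) := by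
          have := octpar_cell_inv S (by omega : j + 1 < 16) hy0
          rwa [octecc_t7a j hj2] at this
        exact octecc_gen_mulL S hj2 hk'16 (by rw [hkmt]; omega) hy0inv
          (octpar_cell_mul_right hb' (octecc_n_mem k'))
      have hhp : h⁻¹ * (g * b * b₁ * n (j + 1)) ∈ cell B n (oInv k) := by
        have := octpar_cell_inv S hk hph
        have h1 : ((g * b * b₁ * n (j + 1))⁻¹ * h)⁻¹ = h⁻¹ * (g * b * b₁ * n (j + 1)) := by group
        rwa [h1] at this
      have hcond : k'' = 0 ∨ oInv k = 0 ∨ oFl (oInv (oInv k)) ≠ oFl k'' := by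
        rcases octecc_t5 kx hkx hkx1 with h0 | h0
        · exact Or.inl h0
        · right; right
          rw [octecc_t4a k hk, ← hj, ← hflx]
          exact fun h => h0 h.symm
      obtain ⟨z', hz', hz'mem, hz'len⟩ := hgeo k'' hk''16 (oInv k) hinvk16 h hh _ hp x hx hhp hpx hcond
      have := hhe x hx z' hz' hz'mem
      rw [octecc_t4b k hk] at hz'len
      omega
  · -- case (B)
    have hB : kx = 0 ∨ oFl kx ≠ j := by
      by_contra hcon
      rw [not_or] at hcon
      apply hA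
      refine ⟨?_, not_not.mp hcon.2⟩
      have := hcon.1
      omega
    have hkx15' : kx < 15 := by omega
    have hlen : oLen (oMt j kx) = oLen kx + 1 := octecc_t6 j hj2 kx hkx15' hB
    have hmem : (g * b * n (j + 1))⁻¹ * x ∈ cell B n (oMt j kx) := by
      rw [hg1x]
      exact octecc_gen_mulL S hj2 hkx hlen hsinv htx
    have hzk : z = oMt j kx := S.dis z hz _ (octecc_t3d j hj2 kx hkx) _ hxz hmem
    rw [hzk, hlen]
    have hcond : kx = 0 ∨ oInv k = 0 ∨ oFl (oInv (oInv k)) ≠ oFl kx := by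
      rcases hB with h0 | h0
      · exact Or.inl h0
      · right; right
        rw [octecc_t4a k hk, ← hj]
        exact fun h => h0 h.symm
    obtain ⟨z', hz', hz'mem, hz'len⟩ := hgeo kx hkx (oInv k) hinvk16 h hh _ hgb x hx hhgb htx hcond
    have := hhe x hx z' hz' hz'mem
    rw [octecc_t4b k hk] at hz'len
    omega

end Cfsg.Agent.Lib.helper8.OCT
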