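import Mathlib
import Cfsg.Agent.Lib.helper8.OCT.Defs
import Cfsg.Agent.Lib.Helper10.OCTECCcore
import Cfsg.Agent.Lib.Helper20.OCTFIX
import Cfsg.Agent.Lib.Helper19.OCTGEO

/-!
# Project OCT, piece ECC (verbatim wrapper of `octecc_core`)
-/

set_option autoImplicit false

namespace Cfsg.Agent.Lib.helper8.OCT

variable {G : Type*} [Group G] {B U : Subgroup G} {Uj : ℕ → Subgroup G} {n : ℕ → G}

/-- ECC -/
theorem fixX_ecc (S : OctSys B U Uj n) {a : G} (ha : a ≠ 1) (e : ℕ) {g h : G}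
    (hg : g ∈ fixX U a) (hh : h ∈ fixX U a) {k : ℕ} (hk : k < 16) (hgh : g⁻¹ * h ∈ cell B n k)
    (hk2 : 2 ≤ oLen k)
    (hge : ∀ x ∈ fixX U a, ∀ z < 16, g⁻¹ * x ∈ cell B n z → oLen z ≤ e)
    (hhe : ∀ x ∈ fixX U a, ∀ z < 16, h⁻¹ * x ∈ cell B n z → oLen z ≤ e) :
    ∃ g1 ∈ fixX U a, ∀ x ∈ fixX U a, ∀ z < 16, g1⁻¹ * x ∈ cell B n z → oLen z + 1 ≤ e :=
  octecc_core S (fun hg hb => fixX_mul_right S hg hb) (fun hg hh => fixX_no_opp S ha hg hh)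
    (fun hg hh hb hb' _ hk hk1 e _ hy => fixX_panel S hg hh hb hb' hk hk1 e hy) (fixX_geo S ha)
    e hg hh hk hgh hk2 hge hhe

end Cfsg.Agent.Lib.helper8.OCT
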