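import Mathlib
import Cfsg.Agent.Lib.Helper9.OPH.Defs
import Cfsg.Agent.Lib.Helper16.SpinG

set_option autoImplicit false
set_option linter.unusedVariables false
set_option linter.unusedSectionVars false

/-! Project OPH (S5996), row COMPL, second copy by helper10 (`ophcompl_h10_compl`, exact statement of `oph_compl`):
a non-degenerate `x`-invariant subspace has an `x`-invariant complement (its orthogonal). -/

namespace Cfsg.Agent.Lib.Helper9.OPH

open Module Cfsg.Agent.Lib.helper14.JTa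

variable {F : Type*} [Field F]

theorem ophcompl_h10_compl (d : ℕ) (x : Matrix (Fin d ⊕ Fin d) (Fin d ⊕ Fin d) F) (hdet : IsUnit x)
    (hx : ∀ v, Cfsg.quadFormPlus d F (x.mulVec v) = Cfsg.quadFormPlus d F v)
    (W : Submodule F (Fin d ⊕ Fin d → F))
    (hW : Cfsg.Geo.IsNondegenerateOn (QuadraticMap.polar (Cfsg.quadFormPlus d F)) W)
    (hxW : W.map (Matrix.toLin' x) ≤ W) :
    ∃ W' : Submodule F (Fin d ⊕ Fin d → F), IsCompl W W' ∧ ∀ v ∈ W', Matrix.toLin' x v ∈ W' := by
  classical
  let B : LinearMap.BilinForm F (Fin d ⊕ Fin d → F) :=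
    QuadraticMap.polarBilin (Cfsg.Agent.Lib.Helper16.qfPlus d F)
  have hB : ∀ u v, B u v = QuadraticMap.polar (Cfsg.quadFormPlus d F) u v := fun u v => rfl
  have hsymm : ∀ u v, B u v = B v u := by
    intro u v
    rw [hB, hB, QuadraticMap.polar_comm]
  have hrefl : B.IsRefl := by
    intro u v h
    rw [hsymm]; exact h
  have hinv : ∀ u v, B (x.mulVec u) (x.mulVec v) = B u v := by
    intro u v
    rw [hB, hB]
    unfold QuadraticMap.polar
    rw [← Matrix.mulVec_add, hx, hx, hx]
  have hnd : (B.restrict W).Nondegenerate := by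
    constructor
    · intro u hu
      by_contra hne
      have hne' : (u : Fin d ⊕ Fin d → F) ≠ 0 := fun h => hne (Subtype.ext h)
      obtain ⟨-, w, hwW, hw⟩ := hW u u.2 hne'
      exact hw (hu ⟨w, hwW⟩)
    · intro u hu
      by_contra hne
      have hne' : (u : Fin d ⊕ Fin d → F) ≠ 0 := fun h => hne (Subtype.ext h)
      obtain ⟨⟨w, hwW, hw⟩, -⟩ := hW u u.2 hne'
      exact hw (hu ⟨w, hwW⟩)
  refine ⟨B.orthogonal W, LinearMap.BilinForm.isCompl_orthogonal_of_restrict_nondegenerate hrefl hnd, ?_⟩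
  -- `x W = W`
  have hinj : Function.Injective (Matrix.toLin' x) := by
    obtain ⟨u, hu⟩ := hdet
    intro a b hab
    have h1 : (u⁻¹ : (Matrix (Fin d ⊕ Fin d) (Fin d ⊕ Fin d) F)ˣ).val.mulVec (x.mulVec a)
        = (u⁻¹ : (Matrix (Fin d ⊕ Fin d) (Fin d ⊕ Fin d) F)ˣ).val.mulVec (x.mulVec b) := by
      have : x.mulVec a = x.mulVec b := by simpa [Matrix.toLin'_apply] using hab
      rw [this]
    rw [Matrix.mulVec_mulVec, Matrix.mulVec_mulVec, ← hu, Units.inv_mul, Matrix.one_mulVec,
      Matrix.one_mulVec] at h1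
    exact h1
  have hmapeq : W.map (Matrix.toLin' x) = W := by
    apply Submodule.eq_of_le_of_finrank_eq hxW
    exact (LinearEquiv.finrank_eq (Submodule.equivMapOfInjective _ hinj W)).symm
  intro v hv
  rw [LinearMap.BilinForm.mem_orthogonal_iff] at hv ⊢
  intro w hw
  rw [← hmapeq] at hw
  obtain ⟨w', hw', rfl⟩ := (Submodule.mem_map).mp hw
  show B (Matrix.toLin' x w') (Matrix.toLin' x v) = 0
  rw [Matrix.toLin'_apply, Matrix.toLin'_apply, hinv]
  exact hv w' hw'

end Cfsg.Agent.Lib.Helper9.OPH
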