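import Mathlib
import Cfsg.Agent.Lib.helper7.Om.Basic

set_option autoImplicit false

/-!
# Project Om (S1082), piece Om-E4: the last stage of the elimination
-/

namespace Cfsg.Agent.Lib.Helper10.Om

open Matrix Cfsg.Agent.Lib.Lead Cfsg.Agent.Lib.Helper26 Cfsg.Agent.Lib.helper7.Om

variable {F : Type*} [Field F]

/-- a position of index `3` is `inl 3` or `inr 3` -/
theorem pos_cases (c : P8) : ix c < 3 ∨ c = Sum.inl 3 ∨ c = Sum.inr 3 := by
  rcases c with i | i <;> fin_cases i <;> simp [ix]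

theorem quad_of_sup3 (v : P8 → F) (hv : Sup 3 v) :
    Cfsg.quadFormPlus 4 F v = v (Sum.inl 3) * v (Sum.inr 3) := by
  unfold Cfsg.quadFormPlus
  rw [Fin.sum_univ_four]
  have h0 : v (Sum.inl 0) = 0 := hv _ (by simp [ix])
  have h1 : v (Sum.inl 1) = 0 := hv _ (by simp [ix])
  have h2 : v (Sum.inl 2) = 0 := hv _ (by simp [ix])
  rw [h0, h1, h2]
  ring

theorem polar_of_sup3 (v w : P8 → F) (hv : Sup 3 v) (_hw : Sup 3 w) :
    polarP F 4 v w = v (Sum.inl 3) * w (Sum.inr 3) + v (Sum.inr 3) * w (Sum.inl 3) := by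
  rw [polarP_apply, Fin.sum_univ_four]
  have h0 : v (Sum.inl 0) = 0 := hv _ (by simp [ix])
  have h1 : v (Sum.inl 1) = 0 := hv _ (by simp [ix])
  have h2 : v (Sum.inl 2) = 0 := hv _ (by simp [ix])
  have k0 : v (Sum.inr 0) = 0 := hv _ (by simp [ix])
  have k1 : v (Sum.inr 1) = 0 := hv _ (by simp [ix])
  have k2 : v (Sum.inr 2) = 0 := hv _ (by simp [ix])
  rw [h0, h1, h2, k0, k1, k2]
  ring

/-- equality of elements of `ogG` from equality on the basis vectors -/
theorem og_ext_single {g h : ↥(ogG F 4)}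
    (H : ∀ c : P8, g.1.1 *ᵥ (Pi.single c (1 : F) : P8 → F) = h.1.1 *ᵥ (Pi.single c (1 : F) : P8 → F)) :
    g = h := by
  apply Subtype.ext
  apply Units.ext
  exact Matrix.ext_of_mulVec_single H

theorem dT_single (u : Fˣ) (c : P8) :
    (dT u : ↥(ogG F 4)).1.1 *ᵥ (Pi.single c (1 : F) : P8 → F) = dV u c • (Pi.single c (1 : F) : P8 → F) := by
  rw [dT_mulVec]
  funext m
  by_cases h : m = c
  · subst h; simp
  · simp [Pi.single_eq_of_ne h]

theorem tS_single (c : P8) :
    (tS : ↥(ogG F 4)).1.1 *ᵥ (Pi.single c (1 : F) : P8 → F) = Pi.single (sw4 c) 1 := by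
  rw [tS_mulVec]
  funext m
  have hinv : ∀ m : P8, sw4 (sw4 m) = m := by
    intro m; unfold sw4; exact Equiv.swap_apply_self _ _ _
  by_cases h : m = sw4 c
  · subst h
    rw [hinv c]; simp
  · have h' : sw4 m ≠ c := by
      intro e
      apply h
      rw [← e, hinv m]
    rw [Pi.single_eq_of_ne h', Pi.single_eq_of_ne h]

theorem vec_of_sup3 (v : P8 → F) (hv : Sup 3 v) :
    v = v (Sum.inl 3) • (Pi.single (Sum.inl 3) (1 : F) : P8 → F) +
      v (Sum.inr 3) • (Pi.single (Sum.inr 3) (1 : F) : P8 → F) := by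
  funext m
  rcases pos_cases m with h | h | h
  · rw [hv m h]
    have h1 : m ≠ Sum.inl 3 := by rintro rfl; simp [ix] at h
    have h2 : m ≠ Sum.inr 3 := by rintro rfl; simp [ix] at h
    simp [Pi.single_eq_of_ne h1, Pi.single_eq_of_ne h2]
  · subst h; simp
  · subst h; simp

theorem fix3 : Fix3Stmt F := by
  intro g hg
  set v : P8 → F := g.1.1 *ᵥ (Pi.single (Sum.inl 3) (1 : F) : P8 → F) with hv
  set w : P8 → F := g.1.1 *ᵥ (Pi.single (Sum.inr 3) (1 : F) : P8 → F) with hw
  have hvs : Sup 3 v := sup_of_fix hg (Sum.inl 3) (by simp [ix])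
  have hws : Sup 3 w := sup_of_fix hg (Sum.inr 3) (by simp [ix])
  have hQv : v (Sum.inl 3) * v (Sum.inr 3) = 0 := by
    rw [← quad_of_sup3 v hvs, hv, og_quad, quadP_single]
  have hQw : w (Sum.inl 3) * w (Sum.inr 3) = 0 := by
    rw [← quad_of_sup3 w hws, hw, og_quad, quadP_single]
  have hB : v (Sum.inl 3) * w (Sum.inr 3) + v (Sum.inr 3) * w (Sum.inl 3) = 1 := by
    rw [← polar_of_sup3 v w hvs hws, hv, hw, og_form, ob_single_single]
    simp
  have hvv := vec_of_sup3 v hvs
  have hww := vec_of_sup3 w hws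
  by_cases ha : v (Sum.inl 3) = 0
  · -- second case: g = tS * dT u with u = v (inr 3)
    rw [ha, zero_mul, zero_add] at hB
    have hb : v (Sum.inr 3) ≠ 0 := left_ne_zero_of_mul_eq_one hB
    have ha' : w (Sum.inl 3) ≠ 0 := right_ne_zero_of_mul_eq_one hB
    have hb' : w (Sum.inr 3) = 0 := (mul_eq_zero.mp hQw).resolve_left ha'
    obtain ⟨u, hu⟩ : ∃ u : Fˣ, (u : F) = v (Sum.inr 3) := ⟨Units.mk0 _ hb, rfl⟩
    refine ⟨u, Or.inr ?_⟩
    have hwinv : w (Sum.inl 3) = ((u⁻¹ : Fˣ) : F) := by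
      rw [Units.val_inv_eq_inv_val, hu]
      exact eq_inv_of_mul_eq_one_right hB
    apply og_ext_single
    intro c
    rw [og_mul_mulVec, dT_single, Matrix.mulVec_smul, tS_single]
    rcases pos_cases c with h | h | h
    · rw [hg c h]
      have h1 : c ≠ Sum.inl 3 := by rintro rfl; simp [ix] at h
      have h2 : c ≠ Sum.inr 3 := by rintro rfl; simp [ix] at h
      have : sw4 c = c := by unfold sw4; exact Equiv.swap_apply_of_ne_of_ne h1 h2
      rw [this]
      unfold dV
      rw [if_neg h1, if_neg h2, one_smul]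
    · subst h
      rw [← hv, hvv, ha, zero_smul, zero_add, ← hu]
      have : sw4 (Sum.inl 3) = Sum.inr 3 := by unfold sw4; exact Equiv.swap_apply_left _ _
      rw [this]
      unfold dV
      simp
    · subst h
      rw [← hw, hww, hb', zero_smul, add_zero]
      have : sw4 (Sum.inr 3) = Sum.inl 3 := by unfold sw4; exact Equiv.swap_apply_right _ _
      rw [this, hwinv]
      unfold dV
      simp
  · -- first case: g = dT u with u = v (inl 3)
    have hb : v (Sum.inr 3) = 0 := (mul_eq_zero.mp hQv).resolve_left ha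
    rw [hb, zero_mul, add_zero] at hB
    have hb' : w (Sum.inr 3) ≠ 0 := right_ne_zero_of_mul_eq_one hB
    have ha' : w (Sum.inl 3) = 0 := (mul_eq_zero.mp hQw).resolve_right hb'
    obtain ⟨u, hu⟩ : ∃ u : Fˣ, (u : F) = v (Sum.inl 3) := ⟨Units.mk0 _ ha, rfl⟩
    refine ⟨u, Or.inl ?_⟩
    have hwinv : w (Sum.inr 3) = ((u⁻¹ : Fˣ) : F) := by
      rw [Units.val_inv_eq_inv_val, hu]
      exact eq_inv_of_mul_eq_one_right hB
    apply og_ext_single
    intro c
    rw [dT_single]
    rcases pos_cases c with h | h | h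
    · rw [hg c h]
      have h1 : c ≠ Sum.inl 3 := by rintro rfl; simp [ix] at h
      have h2 : c ≠ Sum.inr 3 := by rintro rfl; simp [ix] at h
      unfold dV
      rw [if_neg h1, if_neg h2, one_smul]
    · subst h
      rw [← hv, hvv, hb, zero_smul, add_zero, ← hu]
      unfold dV
      simp
    · subst h
      rw [← hw, hww, ha', zero_smul, zero_add, hwinv]
      unfold dV
      simp

end Cfsg.Agent.Lib.Helper10.Om
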