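import Mathlib
import Cfsg.Agent.Lib.Helper24.P2P.Defs
import Cfsg.Agent.Lib.Helper25.CharBasic
import Cfsg.Agent.S4502
import Cfsg.Agent.S0960

/-!
# Project P2P, piece PBMEM, core (helper10): if `C_G(P) = P`, `|N_G(P)| = 2p`, `|P| = p > 3` and
`2 k(N_G(P)) = p + 3`, every irreducible character of degree prime to `p` lies in the principal block
-/

set_option autoImplicit false
set_option linter.unusedVariables false
set_option linter.unusedSectionVars false
open scoped ComplexConjugate
open Classical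

namespace Cfsg.Agent.Lib.Helper24.P2P

universe u

/-- PBMEM, generic core -/
theorem p2ppbmem_core {G : Type u} [Group G] [Finite G] (p : ℕ) [Fact p.Prime] (P : Sylow p G)
    (hp3 : 3 < p) (hP : Nat.card (P : Subgroup G) = p)
    (hnrm : Nat.card (Subgroup.normalizer ((P : Subgroup G) : Set G)) = 2 * p)
    (hcen : Subgroup.centralizer ((P : Subgroup G) : Set G) = (P : Subgroup G))
    (hkn : 2 * Nat.card (ConjClasses ↥(Subgroup.normalizer ((P : Subgroup G) : Set G))) = p + 3)
    (M : Ideal Cfsg.AlgInt) (hM : Cfsg.IsPModular p M) (χ : Cfsg.IrrCharacter G)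
    (hχ : ¬ p ∣ Cfsg.charDegree (χ : G → ℂ)) : χ ∈ Cfsg.principalBlock M G := by
  have hp : p.Prime := Fact.out
  have hodd : p ≠ 2 := by omega
  have hpodd : p % 2 = 1 := by
    rcases hp.eq_two_or_odd with h | h
    · omega
    · exact h
  -- `p ∣ |G|`, `p² ∤ |G|`
  have hdiv : p ∣ Nat.card G := by
    have := Subgroup.card_subgroup_dvd_card (P : Subgroup G)
    rwa [hP] at this
  have hsq : ¬ p ^ 2 ∣ Nat.card G := by
    intro h2
    have := P.pow_dvd_card_of_pow_dvd_card h2
    rw [hP] at this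
    have h3 : p ^ 2 ≤ p := Nat.le_of_dvd hp.pos this
    nlinarith [hp.two_le]
  -- the set `S` of characters of degree prime to `p`
  have hS := Cfsg.Agent.S4502.result p hdiv hsq P
  -- `e = 2`
  have he : (Subgroup.centralizer ((P : Subgroup G) : Set G)).relIndex
      (Subgroup.normalizer ((P : Subgroup G) : Set G)) = 2 := by
    rw [hcen]
    have h1 := Subgroup.index_mul_card ((P : Subgroup G).subgroupOf
      (Subgroup.normalizer ((P : Subgroup G) : Set G)))
    rw [Nat.card_congr (Subgroup.subgroupOfEquivOfLe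
      (Subgroup.le_normalizer (H := (P : Subgroup G)))).toEquiv, hP, hnrm] at h1
    show ((P : Subgroup G).subgroupOf (Subgroup.normalizer ((P : Subgroup G) : Set G))).index = 2
    have hp0 : 0 < p := hp.pos
    exact Nat.eq_of_mul_eq_mul_right hp0 h1
  obtain ⟨hB, hdeg⟩ := Cfsg.Agent.S0960.result p M hM hodd P hP 2 he
  -- cardinalities agree
  have hcard : Nat.card (Cfsg.principalBlock M G) =
      Nat.card {χ : Cfsg.IrrCharacter G // ¬ p ∣ Cfsg.charDegree (χ : G → ℂ)} := by
    rw [hS, hB]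
    omega
  -- inclusion
  have hsub : Cfsg.principalBlock M G ⊆
      {χ : Cfsg.IrrCharacter G | ¬ p ∣ Cfsg.charDegree (χ : G → ℂ)} := by
    intro ψ hψ hdvd
    have hz : ((Cfsg.charDegree (ψ : G → ℂ) : ℤ)) ≡ 0 [ZMOD p] := by
      rw [Int.modEq_zero_iff_dvd]
      exact_mod_cast hdvd
    have key : ∀ c : ℤ, (c = 1 ∨ c = -1 ∨ c = 2 ∨ c = -2) →
        ¬ ((Cfsg.charDegree (ψ : G → ℂ) : ℤ) ≡ c [ZMOD p]) := by
      intro c hc hmod
      have h0 : (0 : ℤ) ≡ c [ZMOD p] := hz.symm.trans hmod
      have hd : (p : ℤ) ∣ c - 0 := h0.dvd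
      rw [sub_zero] at hd
      have hpz : (3 : ℤ) < p := by exact_mod_cast hp3
      rcases hc with rfl | rfl | rfl | rfl
      · have := Int.le_of_dvd one_pos hd; omega
      · rw [dvd_neg] at hd
        have := Int.le_of_dvd one_pos hd; omega
      · have := Int.le_of_dvd two_pos hd; omega
      · rw [dvd_neg] at hd
        have := Int.le_of_dvd two_pos hd; omega
    rcases hdeg ψ hψ with h | h | h | h
    · exact key 1 (Or.inl rfl) h
    · exact key (-1) (Or.inr (Or.inl rfl)) h
    · exact key 2 (Or.inr (Or.inr (Or.inl rfl))) (by exact_mod_cast h)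
    · exact key (-2) (Or.inr (Or.inr (Or.inr rfl))) (by exact_mod_cast h)
  have hfin : ({χ : Cfsg.IrrCharacter G | ¬ p ∣ Cfsg.charDegree (χ : G → ℂ)}).Finite :=
    Set.toFinite _
  have heq := Set.eq_of_subset_of_ncard_le hsub (by
    rw [← Nat.card_coe_set_eq, ← Nat.card_coe_set_eq]
    exact hcard.ge) hfin
  rw [heq]
  exact hχ

end Cfsg.Agent.Lib.Helper24.P2P
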