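import Mathlib
import Cfsg.Agent.Lib.Helper24.P2P.Defs
import Cfsg.Agent.Lib.Helper25.CharBasic
import Cfsg.Agent.Lib.Helper25.CharLinear
import Cfsg.Agent.Lib.helper7.BlockEval
import Cfsg.Agent.Lib.helper7.BlockDefect2
import Cfsg.Agent.Lib.helper2.PModular2
import Cfsg.Agent.S4441
import Cfsg.Agent.Lib.Helper10.P2PPBMEMcore

/-!
# Project P2P, piece EXC, core (helper10): an exceptional character `θ = χ₁ - 1` on the `p`-regular
elements
-/

set_option autoImplicit false
set_option linter.unusedVariables false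
set_option linter.unusedSectionVars false
open scoped ComplexConjugate
open Classical

namespace Cfsg.Agent.Lib.Helper24.P2P

open Cfsg.Agent.Lib.Helper25 Cfsg.Agent.Lib.helper7

universe u

/-- arithmetic: `c ≡ d (mod p)` with `|c - d| < p` forces `c = d` -/
theorem p2pexc_modeq (p : ℕ) (c d : ℤ) (h : c ≡ d [ZMOD p]) (h1 : c - d < p) (h2 : d - c < p) :
    c = d := by
  have hd : (p : ℤ) ∣ d - c := h.dvd
  obtain ⟨k, hk⟩ := hd
  have hk0 : k = 0 := by
    by_contra hne
    rcases lt_or_gt_of_ne hne with hlt | hgt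
    · have : k ≤ -1 := by omega
      have hp0 : (0 : ℤ) ≤ p := by positivity
      nlinarith
    · have : 1 ≤ k := by omega
      have hp0 : (0 : ℤ) ≤ p := by positivity
      nlinarith
  rw [hk0, mul_zero] at hk
  omega

/-- EXC, generic core: needs `C_G(P) = P`, `|N_G(P)| = 2p`, `2 k(N) = p + 3` -/
theorem p2pexc_core {G : Type u} [Group G] [Fintype G] (p : ℕ) [Fact p.Prime] (P : Sylow p G)
    (hp3 : 3 < p) (hP : Nat.card (P : Subgroup G) = p)
    (hnrm : Nat.card (Subgroup.normalizer ((P : Subgroup G) : Set G)) = 2 * p)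
    (hcen : Subgroup.centralizer ((P : Subgroup G) : Set G) = (P : Subgroup G))
    (hkn : 2 * Nat.card (ConjClasses ↥(Subgroup.normalizer ((P : Subgroup G) : Set G))) = p + 3)
    (χ₁ : Cfsg.IrrCharacter G) (hdeg : (χ₁ : G → ℂ) 1 = (p : ℂ) - 1) :
    ∃ θ : Cfsg.IrrCharacter G, ∀ g : G, ¬ p ∣ orderOf g →
      (θ : G → ℂ) g = (χ₁ : G → ℂ) g - 1 := by
  have hp : p.Prime := Fact.out
  have hodd : p ≠ 2 := by omega
  have hpz : (3 : ℤ) < p := by exact_mod_cast hp3
  obtain ⟨M, hM⟩ := Cfsg.Agent.Lib.helper2.exists_isPModular p hp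
  have hPr := hM.2.1.isPrime
  -- `e = 2`
  have he : (Subgroup.centralizer ((P : Subgroup G) : Set G)).relIndex
      (Subgroup.normalizer ((P : Subgroup G) : Set G)) = 2 := by
    rw [hcen]
    have h1 := Subgroup.index_mul_card ((P : Subgroup G).subgroupOf
      (Subgroup.normalizer ((P : Subgroup G) : Set G)))
    rw [Nat.card_congr (Subgroup.subgroupOfEquivOfLe
      (Subgroup.le_normalizer (H := (P : Subgroup G)))).toEquiv, hP, hnrm] at h1
    show ((P : Subgroup G).subgroupOf (Subgroup.normalizer ((P : Subgroup G) : Set G))).index = 2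
    exact Nat.eq_of_mul_eq_mul_right hp.pos h1
  haveI : Fintype (Cfsg.IrrCharacter G) := Fintype.ofFinite _
  obtain ⟨X, Y, hXY, hdisj, hX, hY, εX, ε, hXp, hε, hYdeg, _, hYval⟩ :=
    Cfsg.Agent.S4441.result p M hM hodd P hP 2 he
  -- degrees
  have hd1 : Cfsg.charDegree (χ₁ : G → ℂ) = p - 1 := by
    have h := (h7_charDegree_props χ₁).2.2
    rw [hdeg] at h
    have h2 : ((Cfsg.charDegree (χ₁ : G → ℂ) : ℕ) : ℂ) = ((p - 1 : ℕ) : ℂ) := by
      rw [h, Nat.cast_sub hp.one_le]; simp
    exact_mod_cast h2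
  have hdt : Cfsg.charDegree (trivIrr G : G → ℂ) = 1 := by
    have h := (h7_charDegree_props (trivIrr G)).2.2
    rw [trivIrr_apply] at h
    exact_mod_cast h
  -- membership in the principal block
  have htriv : trivIrr G ∈ Cfsg.principalBlock M G := h7_sameBlock_refl hPr _
  have hχ₁B : χ₁ ∈ Cfsg.principalBlock M G := by
    apply p2ppbmem_core p P hp3 hP hnrm hcen hkn M hM χ₁
    rw [hd1]
    intro hdvd
    have := Nat.le_of_dvd (by omega) hdvd
    omega
  -- neither lies in `Y`
  have hnotY : ∀ ψ : Cfsg.IrrCharacter G, (Cfsg.charDegree (ψ : G → ℂ) : ℤ) = 1 ∨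
      (Cfsg.charDegree (ψ : G → ℂ) : ℤ) = (p : ℤ) - 1 → ψ ∉ Y := by
    intro ψ hψ hψY
    have h := hYdeg ψ hψY
    have hd : (p : ℤ) ∣ ε * 2 - (Cfsg.charDegree (ψ : G → ℂ) : ℤ) := h.dvd
    rcases hψ with h1 | h1 <;> rcases hε with rfl | rfl <;> rw [h1] at hd
    · have := Int.le_of_dvd (by norm_num) hd; omega
    · have hd' : (p : ℤ) ∣ 3 := by
        have : (-1 : ℤ) * 2 - 1 = -3 := by norm_num
        rw [this, dvd_neg] at hd; exact hd
      have := Int.le_of_dvd (by norm_num) hd'; omega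
    · have hd' : (p : ℤ) ∣ 3 := by
        have : (1 : ℤ) * 2 - ((p : ℤ) - 1) = 3 - p := by ring
        rw [this] at hd
        have := dvd_add hd (dvd_refl (p : ℤ))
        simpa using this
      have := Int.le_of_dvd (by norm_num) hd'; omega
    · have hd' : (p : ℤ) ∣ 1 := by
        have : (-1 : ℤ) * 2 - ((p : ℤ) - 1) = -(1 + p) := by ring
        rw [this, dvd_neg] at hd
        have := dvd_sub hd (dvd_refl (p : ℤ))
        simpa using this
      have := Int.le_of_dvd (by norm_num) hd'; omega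
  have htX : trivIrr G ∈ X := by
    have : trivIrr G ∈ X ∪ Y := hXY ▸ htriv
    rcases this with h | h
    · exact h
    · exact absurd h (hnotY _ (Or.inl (by rw [hdt]; rfl)))
  have hcX : χ₁ ∈ X := by
    have : χ₁ ∈ X ∪ Y := hXY ▸ hχ₁B
    rcases this with h | h
    · exact h
    · exact absurd h (hnotY _ (Or.inr (by rw [hd1, Nat.cast_sub hp.one_le]; simp)))
  have hne : trivIrr G ≠ χ₁ := by
    intro e
    rw [← e, hdt] at hd1
    omega
  -- `X = {1, χ₁}`
  have hXeq : X = {trivIrr G, χ₁} := by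
    have hfin : X.Finite := Set.toFinite X
    have hsub : ({trivIrr G, χ₁} : Set (Cfsg.IrrCharacter G)) ⊆ X := by
      intro ψ hψ
      rcases hψ with rfl | rfl
      · exact htX
      · exact hcX
    symm
    apply Set.eq_of_subset_of_ncard_le hsub _ hfin
    rw [Set.ncard_pair hne, ← Nat.card_coe_set_eq, hX]
  -- the signs
  have hs1 : εX (trivIrr G) = 1 := by
    obtain ⟨h1, h2, _⟩ := hXp _ htX
    rw [hdt] at h2
    rcases h1 with h | h
    · exact h
    · rw [h] at h2
      have := p2pexc_modeq p _ _ h2 (by push_cast; omega) (by push_cast; omega)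
      norm_num at this
  have hs2 : εX χ₁ = -1 := by
    obtain ⟨h1, h2, _⟩ := hXp _ hcX
    rw [hd1, Nat.cast_sub hp.one_le] at h2
    rcases h1 with h | h
    · rw [h] at h2
      have h3 : ((p : ℤ) - (1 : ℕ)) ≡ -1 [ZMOD p] := by
        have : ((p : ℤ) - (1 : ℕ)) = -1 + p := by push_cast; ring
        rw [this]
        exact Int.add_modEq_right
      have h4 := h3.symm.trans h2
      have := p2pexc_modeq p _ _ h4 (by omega) (by omega)
      norm_num at this
    · exact h
  -- `Y` is nonempty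
  have hYne : Y.Nonempty := by
    rw [← Set.nonempty_coe_sort, ← Finite.card_pos_iff (α := ↥Y), hY]
    have : 2 ≤ p - 1 := by omega
    exact Nat.div_pos this (by norm_num)
  obtain ⟨θ, hθY⟩ := hYne
  have hval : ∀ g : G, ¬ p ∣ orderOf g →
      (ε : ℂ) * (θ : G → ℂ) g = 1 - (χ₁ : G → ℂ) g := by
    intro g hg
    rw [hYval θ hθY g hg, hXeq, finsum_mem_pair hne, hs1, hs2, trivIrr_apply]
    push_cast
    ring
  -- `ε = -1`
  have hreg1 : ¬ p ∣ orderOf (1 : G) := by
    rw [orderOf_one]
    intro hd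
    have := Nat.le_of_dvd one_pos hd
    omega
  have hεm : ε = -1 := by
    rcases hε with h | h
    · exfalso
      have h1 := hval 1 hreg1
      rw [h, hdeg, ← (h7_charDegree_props θ).2.2] at h1
      have hpos := (h7_charDegree_props θ).2.1
      have h2 : ((Cfsg.charDegree (θ : G → ℂ) : ℕ) : ℂ) = 2 - (p : ℂ) := by
        have := h1; push_cast at this; linear_combination this
      have h3 : ((Cfsg.charDegree (θ : G → ℂ) + p : ℕ) : ℂ) = ((2 : ℕ) : ℂ) := by
        push_cast; rw [h2]; ring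
      have h4 : Cfsg.charDegree (θ : G → ℂ) + p = 2 := by exact_mod_cast h3
      omega
    · exact h
  refine ⟨θ, fun g hg => ?_⟩
  have h1 := hval g hg
  rw [hεm] at h1
  push_cast at h1
  linear_combination -h1

end Cfsg.Agent.Lib.Helper24.P2P
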