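import Mathlib
import Cfsg.Agent.Lib.Helper24.P2P.Defs
import Cfsg.Agent.Lib.Helper22.P2PCEN
import Cfsg.Agent.Lib.Helper24.P2PKN
import Cfsg.Agent.Lib.Helper10.P2PEXCcore

/-!
# Project P2P, piece EXC (helper10): an exceptional character `θ = χ₁ - 1` on the `p`-regular
elements
-/

set_option autoImplicit false
set_option linter.unusedVariables false
set_option linter.unusedSectionVars false
set_option linter.style.haveILetI false
open scoped ComplexConjugate
open Classical

namespace Cfsg.Agent.Lib.Helper24.P2P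

open MulAction Cfsg.Agent.Lib.helper6.PermChar Cfsg.Agent.Lib.Lead.W2P Cfsg.Agent.Lib.Helper25

universe u v

variable {G : Type u} [Group G] [Fintype G] {Ω : Type v} [Fintype Ω] [DecidableEq Ω] [MulAction G Ω]
  {p : ℕ} [Fact p.Prime] {P : Sylow p G}

theorem exists_exc (h : Setting2 G Ω p P) (χ₁ : Cfsg.IrrCharacter G)
    (hdeg : (χ₁ : G → ℂ) 1 = (p : ℂ) - 1) :
    ∃ θ : Cfsg.IrrCharacter G, ∀ g : G, ¬ p ∣ orderOf g →
      (θ : G → ℂ) g = (χ₁ : G → ℂ) g - 1 :=
  p2pexc_core p P h.big h.S.cardP h.nrm (cen_eq h) (card_conjClasses_nrm h) χ₁ hdeg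

end Cfsg.Agent.Lib.Helper24.P2P
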