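import Mathlib
import Cfsg.Agent.Lib.Helper24.P2P.Defs
import Cfsg.Agent.Lib.Helper22.P2PCEN
import Cfsg.Agent.Lib.Helper24.P2PKN
import Cfsg.Agent.Lib.Helper10.P2PPBMEMcore

/-!
# Project P2P, piece PBMEM (helper10): characters of degree prime to `p` lie in the principal block
-/

set_option autoImplicit false
set_option linter.unusedVariables false
set_option linter.unusedSectionVars false
set_option linter.style.haveILetI false
open scoped ComplexConjugate
open Classical

namespace Cfsg.Agent.Lib.Helper24.P2P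

open MulAction Cfsg.Agent.Lib.helper6.PermChar Cfsg.Agent.Lib.Lead.W2P Cfsg.Agent.Lib.Helper25

universe u v

variable {G : Type u} [Group G] [Fintype G] {Ω : Type v} [Fintype Ω] [DecidableEq Ω] [MulAction G Ω]
  {p : ℕ} [Fact p.Prime] {P : Sylow p G}

theorem mem_principalBlock (h : Setting2 G Ω p P) (M : Ideal Cfsg.AlgInt)
    (hM : Cfsg.IsPModular p M) (χ : Cfsg.IrrCharacter G)
    (hχ : ¬ p ∣ Cfsg.charDegree (χ : G → ℂ)) : χ ∈ Cfsg.principalBlock M G :=
  p2ppbmem_core p P h.big h.S.cardP h.nrm (cen_eq h) (card_conjClasses_nrm h) M hM χ hχ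

end Cfsg.Agent.Lib.Helper24.P2P
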