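import Mathlib
import Cfsg.Prelude.Def_Local
import Cfsg.Agent.Lib.Helper10.LBal11
import Cfsg.Agent.Lib.Helper10.MaxComp6

set_option autoImplicit false

/-!
# Transporting p-components: isomorphic copies and images modulo p'-kernels
-/

namespace Cfsg.Agent.Lib.Helper10.PCompMap

open Cfsg Cfsg.Agent.Lib.Helper10 Cfsg.Agent.Lib.Helper9
open scoped commutatorElement

universe u

/-- no proper normal subgroup of index prime to `p` -/
def MinP (p : ℕ) (A : Type*) [Group A] : Prop :=
  ∀ N : Subgroup A, N.Normal → N.index.Coprime p → N = ⊤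

theorem minP_of_surjective {A B : Type*} [Group A] [Group B] (p : ℕ) (g : A →* B)
    (hg : Function.Surjective g) (h : MinP p A) : MinP p B := by
  intro N hN hidx
  have h1 : (N.comap g).Normal := hN.comap g
  have h2 : (N.comap g).index = N.index := Subgroup.index_comap_of_surjective N hg
  have h3 := h (N.comap g) h1 (by rw [h2]; exact hidx)
  rw [eq_top_iff]
  intro b _
  obtain ⟨a, rfl⟩ := hg b
  have : a ∈ N.comap g := by rw [h3]; trivial
  exact this

variable {Y : Type*} [Group Y] (p : ℕ)

theorem isPComponent_iff_isPQS_minP [Finite Y] [Fact p.Prime] {K : Subgroup Y} :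
    IsPComponent p K ↔ IsPQS p K ∧ MinP p ↥K := by
  constructor
  · intro hK
    refine ⟨isPQS_of_isPComponent p hK, ?_⟩
    intro N hN hidx
    haveI := hN
    exact isPComponent_normal_index_coprime p hK N hidx
  · rintro ⟨hq, hmin⟩
    exact (Cfsg.Agent.S1887.result (X := Y) (p := p)).2 K hq.1 (hq.isComponent_map p) hmin

/-- a subnormal subgroup isomorphic to a p-component of some group is a p-component -/
theorem isPComponent_of_equiv [Finite Y] [Fact p.Prime] {K : Subgroup Y} (hsn : K.IsSubnormal)
    {Z : Type*} [Group Z] [Finite Z] {K₀ : Subgroup Z} (hK₀ : IsPComponent p K₀) (e : ↥K₀ ≃* ↥K) :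
    IsPComponent p K := by
  rw [isPComponent_iff_isPQS_minP] at hK₀ ⊢
  obtain ⟨hq, hmin⟩ := hK₀
  refine ⟨⟨hsn, ?_, isQuasisimple_coreQuot_of_equiv p e hq.2.2⟩,
    minP_of_surjective p e.toMonoidHom e.surjective hmin⟩
  rw [← Subgroup.isPerfect_iff]
  haveI : Group.IsPerfect ↥K₀ := Subgroup.isPerfect_iff.2 hq.2.1
  exact Group.IsPerfect.ofSurjective (f := e.toMonoidHom) e.surjective

theorem ker_subgroupMap {A B : Type*} [Group A] [Group B] (φ : A →* B) (K : Subgroup A) :
    (φ.subgroupMap K).ker = φ.ker.subgroupOf K := by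
  ext x
  rw [MonoidHom.mem_ker, Subgroup.mem_subgroupOf, MonoidHom.mem_ker]
  constructor
  · intro h
    exact congrArg Subtype.val h
  · intro h
    exact Subtype.ext h

/-- images of p-components under surjections with p'-kernel are p-components -/
theorem isPComponent_map_of_coprime_ker {A B : Type*} [Group A] [Group B] [Finite A] [Finite B]
    [hp : Fact p.Prime] (φ : A →* B) (hφ : Function.Surjective φ)
    (hker : (Nat.card φ.ker).Coprime p) {K : Subgroup A} (hK : IsPComponent p K) :
    IsPComponent p (K.map φ) := by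
  rw [isPComponent_iff_isPQS_minP] at hK ⊢
  obtain ⟨hq, hmin⟩ := hK
  refine ⟨⟨hq.1.map hφ, ?_, ?_⟩, minP_of_surjective p _ (φ.subgroupMap_surjective K) hmin⟩
  · rw [← Subgroup.map_commutator, hq.2.1]
  · apply isQuasisimple_coreQuot_of_surjective p (φ.subgroupMap K) (φ.subgroupMap_surjective K) ?_
      hq.2.2
    rw [ker_subgroupMap]
    have hd : Nat.card (φ.ker.subgroupOf K) ∣ Nat.card φ.ker := by
      rw [← Subgroup.card_map_of_injective K.subtype_injective, Subgroup.subgroupOf_map_subtype]
      exact Subgroup.card_dvd_of_le inf_le_left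
    exact Nat.Coprime.coprime_dvd_left hd hker

/-- if the 2-layer centralizes the core, 2-components are components -/
theorem isComponent_of_isPComponent_two [Finite Y]
    (h : ⁅pLayer 2 Y, oddCore Y⁆ = ⊥) {J : Subgroup Y} (hJ : IsPComponent 2 J) : IsComponent J := by
  refine ⟨hJ.1, ?_⟩
  rw [Cfsg.Agent.S1276.result J hJ, eq_bot_iff, ← h]
  apply Subgroup.commutator_mono (le_sSup hJ)
  rw [show oddCore ↥J = pPrimeCore 2 ↥J from rfl, pPrimeCore_subgroupOf_eq 2 hJ.1]
  rintro _ ⟨x, hx, rfl⟩
  exact hx

/-- a component of even order centralizes every odd-order subgroup it normalizes -/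
theorem commutator_eq_bot_of_component_of_odd [Finite Y] {W E : Subgroup Y} (hW : IsComponent W)
    (heven : 2 ∣ Nat.card W) (hodd : Odd (Nat.card E))
    (hnorm : W ≤ Subgroup.normalizer (E : Set Y)) : ⁅W, E⁆ = ⊥ := by
  have hWY : W ≤ W ⊔ E := le_sup_left
  have hEY : E ≤ W ⊔ E := le_sup_right
  have hL := isComponent_subgroupOf hW hWY
  have hH : (E.subgroupOf (W ⊔ E)).Normal :=
    (Subgroup.normal_subgroupOf_iff_le_normalizer hEY).2 (sup_le hnorm Subgroup.le_normalizer)
  rcases component_le_or_commutator_eq_bot _ _ hL hH.isSubnormal with h | h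
  · exfalso
    have hWE : W ≤ E := by
      intro w hw
      have h1 : (⟨w, hWY hw⟩ : ↥(W ⊔ E)) ∈ W.subgroupOf (W ⊔ E) := by
        rw [Subgroup.mem_subgroupOf]; exact hw
      have h2 := h h1
      rw [Subgroup.mem_subgroupOf] at h2
      exact h2
    have h3 := Subgroup.card_dvd_of_le hWE
    have h4 : 2 ∣ Nat.card E := heven.trans h3
    exact (Nat.not_even_iff_odd.2 hodd) (even_iff_two_dvd.2 h4)
  · exact commutator_eq_bot_of_subgroupOf hWY hEY h

/-- for an involution, the normalizer of the group it generates is its centralizer -/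
theorem normalizer_zpowers_eq_centralizer (t : Y) (ht : orderOf t = 2) :
    Subgroup.normalizer ((Subgroup.zpowers t : Subgroup Y) : Set Y) =
      Subgroup.centralizer ({t} : Set Y) := by
  have ht1 : t ≠ 1 := by
    intro h
    rw [h, orderOf_one] at ht
    omega
  ext g
  rw [Subgroup.mem_normalizer_iff, Subgroup.mem_centralizer_iff]
  constructor
  · intro h s hs
    rw [Set.mem_singleton_iff] at hs
    subst hs
    have h1 := (h s).1 (Subgroup.mem_zpowers s)
    rw [Subgroup.mem_zpowers_iff] at h1
    obtain ⟨k, hk⟩ := h1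
    rw [← zpow_mod_orderOf, ht] at hk
    have h2 : k % ((2 : ℕ) : ℤ) = 0 ∨ k % ((2 : ℕ) : ℤ) = 1 := by
      have := Int.emod_two_eq_zero_or_one k
      simpa using this
    rcases h2 with h2 | h2
    · rw [h2, zpow_zero] at hk
      exfalso
      apply ht1
      have : g * s * g⁻¹ = 1 := hk.symm
      calc s = g⁻¹ * (g * s * g⁻¹) * g := by group
        _ = 1 := by rw [this]; group
    · rw [h2, zpow_one] at hk
      calc s * g = (g * s * g⁻¹) * g := by rw [← hk]
        _ = g * s := by group
  · intro h s
    have hc : Commute g t := (h t rfl).symm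
    constructor
    · intro hs
      rw [Subgroup.mem_zpowers_iff] at hs
      obtain ⟨k, rfl⟩ := hs
      have : g * t ^ k * g⁻¹ = t ^ k := by
        rw [(hc.zpow_right k).eq]; group
      rw [this]
      exact Subgroup.zpow_mem_zpowers t k
    · intro hs
      rw [Subgroup.mem_zpowers_iff] at hs
      obtain ⟨k, hk⟩ := hs
      have : s = t ^ k := by
        calc s = g⁻¹ * (g * s * g⁻¹) * g := by group
          _ = g⁻¹ * t ^ k * g := by rw [hk]
          _ = g⁻¹ * (t ^ k * g) := by group
          _ = g⁻¹ * (g * t ^ k) := by rw [(hc.zpow_right k).eq]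
          _ = t ^ k := by group
      rw [this]
      exact Subgroup.zpow_mem_zpowers t k

end Cfsg.Agent.Lib.Helper10.PCompMap
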