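import Mathlib
import Cfsg.Prelude.Def_Local
import Cfsg.Prelude.Def_Balance
import Cfsg.Agent.Lib.Helper10.PCompMap1

set_option autoImplicit false

/-!
# 2-components of `C_M(x)` map to components of `C(x̄)` in `M/O(M)` under the B-property
-/

namespace Cfsg.Agent.Lib.Helper10.PCompMap

open Cfsg Cfsg.Agent.Lib.Helper10 Cfsg.Agent.Lib.Helper9
open scoped commutatorElement

universe u

variable {G : Type u} [Group G]

theorem orderOf_mk_two [Finite G] (M : Subgroup G) (x : G) (hxM : x ∈ M) (hx : orderOf x = 2) :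
    orderOf (QuotientGroup.mk' (oddCore ↥M) ⟨x, hxM⟩) = 2 := by
  have hp2 : Fact (Nat.Prime 2) := ⟨Nat.prime_two⟩
  apply orderOf_eq_prime
  · rw [← map_pow]
    have : (⟨x, hxM⟩ : ↥M) ^ 2 = 1 := by
      apply Subtype.ext
      rw [Subgroup.coe_pow, Subgroup.coe_one, ← hx]
      exact pow_orderOf_eq_one x
    rw [this, map_one]
  · intro h
    rw [QuotientGroup.mk'_apply, QuotientGroup.eq_one_iff] at h
    have h1 : orderOf (⟨x, hxM⟩ : ↥M) = 2 := by rw [Subgroup.orderOf_mk]; exact hx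
    have h2 : orderOf (⟨⟨x, hxM⟩, h⟩ : ↥(oddCore ↥M)) = 2 := by
      rw [Subgroup.orderOf_mk]; exact h1
    have h3 : 2 ∣ Nat.card (oddCore ↥M) := by
      rw [← h2]; exact orderOf_dvd_natCard _
    have h4 : (Nat.card (pPrimeCore 2 ↥M)).Coprime 2 :=
      Cfsg.Agent.Lib.Helper1.pPrimeCore_card_coprime 2
    have := Nat.Coprime.eq_one_of_dvd h4.symm h3
    omega

/-- coprime action: the centralizer of the image of an involution -/
theorem map_centralizer_involution [Finite G] (M : Subgroup G) (x : G) (hxM : x ∈ M)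
    (hx : orderOf x = 2) :
    (Subgroup.centralizer ({(⟨x, hxM⟩ : ↥M)} : Set ↥M)).map (QuotientGroup.mk' (oddCore ↥M)) =
      Subgroup.centralizer ({QuotientGroup.mk' (oddCore ↥M) ⟨x, hxM⟩} : Set (↥M ⧸ oddCore ↥M)) := by
  have hp2 : Fact (Nat.Prime 2) := ⟨Nat.prime_two⟩
  have h1 : orderOf (⟨x, hxM⟩ : ↥M) = 2 := by rw [Subgroup.orderOf_mk]; exact hx
  have hT : IsPGroup 2 ↥(Subgroup.zpowers (⟨x, hxM⟩ : ↥M)) := by
    apply IsPGroup.of_card (n := 1)
    rw [Nat.card_zpowers, h1, pow_one]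
  have hNc : (Nat.card (pPrimeCore 2 ↥M)).Coprime 2 :=
    Cfsg.Agent.Lib.Helper1.pPrimeCore_card_coprime 2
  have h2 := map_normalizer_eq_of_coprime 2 (pPrimeCore 2 ↥M) hNc _ hT
  rw [normalizer_zpowers_eq_centralizer _ h1, MonoidHom.map_zpowers,
    normalizer_zpowers_eq_centralizer _ (orderOf_mk_two M x hxM hx)] at h2
  exact h2

theorem bprop_main [Finite G] (M : Subgroup G) (x : G) (hxM : x ∈ M) (hx : orderOf x = 2)
    (Dn : Subgroup G) (hDle : Dn ≤ M ⊓ Subgroup.centralizer ({x} : Set G))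
    (hDn : M ⊓ Subgroup.centralizer ({x} : Set G) ≤ Subgroup.normalizer (Dn : Set G))
    (J : Subgroup ↥Dn) (hJ : IsPComponent 2 J)
    (hBQ : HasBProperty (↥M ⧸ oddCore ↥M)) :
    IsComponent ((((J.map Dn.subtype).subgroupOf M).map
        (QuotientGroup.mk' (oddCore ↥M))).subgroupOf
       (Subgroup.centralizer ({QuotientGroup.mk' (oddCore ↥M) ⟨x, hxM⟩} :
         Set (↥M ⧸ oddCore ↥M)))) ∧
    ∀ E : Subgroup G, E ≤ M ⊓ Subgroup.centralizer ({x} : Set G) → Odd (Nat.card E) →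
      (∀ j ∈ J.map Dn.subtype, ∀ e ∈ E, j * e * j⁻¹ ∈ E) →
      ⁅J.map Dn.subtype, E⁆ ≤ (oddCore ↥M).map M.subtype := by
  have hp2 : Fact (Nat.Prime 2) := ⟨Nat.prime_two⟩
  have hxb := orderOf_mk_two M x hxM hx
  have hcent := map_centralizer_involution M x hxM hx
  have hJG : J.map Dn.subtype ≤ M ⊓ Subgroup.centralizer ({x} : Set G) :=
    (Subgroup.map_subtype_le J).trans hDle
  -- the homomorphism φ
  have hφmem : ∀ g : ↥(M ⊓ Subgroup.centralizer ({x} : Set G)),
      ((QuotientGroup.mk' (oddCore ↥M)).comp (Subgroup.inclusion inf_le_left)) g ∈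
        Subgroup.centralizer ({QuotientGroup.mk' (oddCore ↥M) ⟨x, hxM⟩} :
          Set (↥M ⧸ oddCore ↥M)) := by
    intro g
    rw [Subgroup.mem_centralizer_singleton_iff]
    show QuotientGroup.mk' (oddCore ↥M) (Subgroup.inclusion inf_le_left g) *
      QuotientGroup.mk' (oddCore ↥M) ⟨x, hxM⟩ = QuotientGroup.mk' (oddCore ↥M) ⟨x, hxM⟩ *
      QuotientGroup.mk' (oddCore ↥M) (Subgroup.inclusion inf_le_left g)
    rw [← map_mul, ← map_mul]
    congr 1
    apply Subtype.ext
    have : (g : G) ∈ Subgroup.centralizer ({x} : Set G) := g.2.2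
    rw [Subgroup.mem_centralizer_singleton_iff] at this
    exact this
  obtain ⟨φ, hφdef⟩ : ∃ φ : ↥(M ⊓ Subgroup.centralizer ({x} : Set G)) →*
      ↥(Subgroup.centralizer ({QuotientGroup.mk' (oddCore ↥M) ⟨x, hxM⟩} :
          Set (↥M ⧸ oddCore ↥M))),
      ∀ g, (φ g : ↥M ⧸ oddCore ↥M) =
        QuotientGroup.mk' (oddCore ↥M) ⟨(g : G), g.2.1⟩ :=
    ⟨MonoidHom.codRestrict _ _ hφmem, fun g => rfl⟩
  have hφs : Function.Surjective φ := by
    rintro ⟨c, hc⟩
    rw [← hcent] at hc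
    obtain ⟨h, hh, rfl⟩ := hc
    rw [SetLike.mem_coe, Subgroup.mem_centralizer_singleton_iff] at hh
    have hh' : (h : G) ∈ M ⊓ Subgroup.centralizer ({x} : Set G) := by
      refine ⟨h.2, ?_⟩
      show (h : G) ∈ Subgroup.centralizer ({x} : Set G)
      rw [Subgroup.mem_centralizer_singleton_iff]
      exact congrArg Subtype.val hh
    refine ⟨⟨h, hh'⟩, ?_⟩
    apply Subtype.ext
    rw [hφdef]
  have hker : (Nat.card φ.ker).Coprime 2 := by
    have h1 : φ.ker.map (Subgroup.inclusion inf_le_left) ≤ oddCore ↥M := by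
      rintro _ ⟨g, hg, rfl⟩
      rw [SetLike.mem_coe, MonoidHom.mem_ker] at hg
      have h2 := congrArg Subtype.val hg
      rw [hφdef, Subgroup.coe_one, QuotientGroup.mk'_apply, QuotientGroup.eq_one_iff] at h2
      exact h2
    have h3 := Subgroup.card_dvd_of_le h1
    rw [Subgroup.card_map_of_injective (Subgroup.inclusion_injective inf_le_left)] at h3
    exact Nat.Coprime.coprime_dvd_left h3 (Cfsg.Agent.Lib.Helper1.pPrimeCore_card_coprime 2)
  -- K₁ is a 2-component of C_M(x)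
  have hsn : ((J.map Dn.subtype).subgroupOf (M ⊓ Subgroup.centralizer ({x} : Set G))).IsSubnormal := by
    apply relSN_trans (Subgroup.map_subtype_le J) hDle ?_ (relSN_of_normal hDle hDn)
    have : (J.map Dn.subtype).subgroupOf Dn = J :=
      Subgroup.comap_map_eq_self_of_injective Dn.subtype_injective J
    rw [this]; exact hJ.1
  have hK₁ : IsPComponent 2 ((J.map Dn.subtype).subgroupOf
      (M ⊓ Subgroup.centralizer ({x} : Set G))) :=
    isPComponent_of_equiv 2 hsn hJ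
      ((J.equivMapOfInjective Dn.subtype Dn.subtype_injective).trans
        (Subgroup.subgroupOfEquivOfLe hJG).symm)
  have hK₂ := isPComponent_map_of_coprime_ker 2 φ hφs hker hK₁
  have hWeq : ((J.map Dn.subtype).subgroupOf (M ⊓ Subgroup.centralizer ({x} : Set G))).map φ =
      (((J.map Dn.subtype).subgroupOf M).map (QuotientGroup.mk' (oddCore ↥M))).subgroupOf
       (Subgroup.centralizer ({QuotientGroup.mk' (oddCore ↥M) ⟨x, hxM⟩} :
         Set (↥M ⧸ oddCore ↥M))) := by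
    ext c
    rw [Subgroup.mem_subgroupOf]
    constructor
    · rintro ⟨g, hg, rfl⟩
      rw [SetLike.mem_coe, Subgroup.mem_subgroupOf] at hg
      refine ⟨⟨(g : G), g.2.1⟩, ?_, (hφdef g).symm⟩
      rw [SetLike.mem_coe, Subgroup.mem_subgroupOf]
      exact hg
    · rintro ⟨h, hh, hhc⟩
      rw [SetLike.mem_coe, Subgroup.mem_subgroupOf] at hh
      refine ⟨⟨(h : G), hJG hh⟩, ?_, ?_⟩
      · rw [SetLike.mem_coe, Subgroup.mem_subgroupOf]; exact hh
      · apply Subtype.ext
        rw [hφdef, ← hhc]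
  -- B-property
  have hB0 : ⁅pLayer 2 ↥(Subgroup.centralizer ({QuotientGroup.mk' (oddCore ↥M) ⟨x, hxM⟩} :
         Set (↥M ⧸ oddCore ↥M))),
      oddCore ↥(Subgroup.centralizer ({QuotientGroup.mk' (oddCore ↥M) ⟨x, hxM⟩} :
         Set (↥M ⧸ oddCore ↥M)))⁆ = ⊥ := by
    have h1 := hBQ _ hxb
    rw [show oddCore (↥M ⧸ oddCore ↥M) = ⊥ from pPrimeCore_quotient_eq_bot 2, le_bot_iff] at h1
    exact (Subgroup.map_eq_bot_iff_of_injective _ (Subgroup.subtype_injective _)).1 h1
  have hW := isComponent_of_isPComponent_two hB0 hK₂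
  refine ⟨by rw [← hWeq]; exact hW, ?_⟩
  intro E hE hEodd hEnorm
  -- the image of E
  have hEb_odd : Odd (Nat.card ((E.subgroupOf (M ⊓ Subgroup.centralizer ({x} : Set G))).map φ)) := by
    apply Odd.of_dvd_nat _ (Subgroup.card_map_dvd _ φ)
    rw [Nat.card_congr (Subgroup.subgroupOfEquivOfLe hE).toEquiv]
    exact hEodd
  have hnorm1 : (J.map Dn.subtype).subgroupOf (M ⊓ Subgroup.centralizer ({x} : Set G)) ≤
      Subgroup.normalizer ((E.subgroupOf (M ⊓ Subgroup.centralizer ({x} : Set G)) :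
        Subgroup ↥(M ⊓ Subgroup.centralizer ({x} : Set G))) :
        Set ↥(M ⊓ Subgroup.centralizer ({x} : Set G))) := by
    intro g hg
    rw [Subgroup.mem_subgroupOf] at hg
    rw [Subgroup.mem_normalizer_iff]
    intro h
    rw [Subgroup.mem_subgroupOf, Subgroup.mem_subgroupOf]
    constructor
    · intro hh
      exact hEnorm _ hg _ hh
    · intro hh
      have := hEnorm _ (Subgroup.inv_mem _ hg) _ hh
      simpa [mul_assoc] using this
  have hnorm2 := (Subgroup.map_mono hnorm1).trans (Subgroup.le_normalizer_map φ)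
  have hcomm := commutator_eq_bot_of_component_of_odd hW (isPComponent_dvd_card 2 hK₂) hEb_odd hnorm2
  rw [Subgroup.commutator_le]
  intro j hj e he
  have h1 : ⁅φ ⟨j, hJG hj⟩, φ ⟨e, hE he⟩⁆ ∈
      ⁅((J.map Dn.subtype).subgroupOf (M ⊓ Subgroup.centralizer ({x} : Set G))).map φ,
        (E.subgroupOf (M ⊓ Subgroup.centralizer ({x} : Set G))).map φ⁆ := by
    apply Subgroup.commutator_mem_commutator
    · exact ⟨_, Subgroup.mem_subgroupOf.2 hj, rfl⟩
    · exact ⟨_, Subgroup.mem_subgroupOf.2 he, rfl⟩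
  rw [hcomm, Subgroup.mem_bot, ← map_commutatorElement] at h1
  have h2 := congrArg Subtype.val h1
  rw [hφdef, Subgroup.coe_one, QuotientGroup.mk'_apply, QuotientGroup.eq_one_iff] at h2
  exact ⟨_, h2, rfl⟩

end Cfsg.Agent.Lib.Helper10.PCompMap
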