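import Mathlib
import Cfsg.Agent.Lib.Helper22.PG.Defs

set_option autoImplicit false

namespace Cfsg.Agent.Lib.Helper22.PG

open Subgroup

/-- PG-FXa : an element of order `11` normalising a Sylow 11-subgroup lies in it -/
theorem mem_of_smul_eq {H : Type*} [Group H] [Finite H] (y : H) (hy : orderOf y = 11)
    (Q : Sylow 11 H) (h : y • Q = Q) : y ∈ (Q : Subgroup H) := by
  have hN : y ∈ normalizer ((Q : Subgroup H) : Set H) := Sylow.smul_eq_iff_mem_normalizer.1 h
  have hp : IsPGroup 11 (zpowers y) := by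
    apply IsPGroup.of_card (n := 1)
    rw [Nat.card_zpowers, hy, pow_one]
  have h1 : zpowers y ⊓ normalizer ((Q : Subgroup H) : Set H) = zpowers y ⊓ (Q : Subgroup H) :=
    hp.inf_normalizer_sylow Q
  have h2 : y ∈ zpowers y ⊓ normalizer ((Q : Subgroup H) : Set H) :=
    ⟨mem_zpowers y, hN⟩
  rw [h1] at h2
  exact h2.2

/-- PG-FXc : `fx` is a class function -/
theorem fx_conj {H : Type*} [Group H] (g t : H) : fx (g * t * g⁻¹) = fx t := by
  unfold fx
  symm
  refine Nat.card_congr ?_
  refine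
    { toFun := fun Q => ⟨g • (Q : Sylow 11 H), ?_⟩
      invFun := fun Q => ⟨g⁻¹ • (Q : Sylow 11 H), ?_⟩
      left_inv := ?_
      right_inv := ?_ }
  · have hQ : t • (Q : Sylow 11 H) = Q := Q.2
    show (g * t * g⁻¹) • (g • (Q : Sylow 11 H)) = g • (Q : Sylow 11 H)
    rw [← mul_smul, inv_mul_cancel_right, mul_smul, hQ]
  · have hQ : (g * t * g⁻¹) • (Q : Sylow 11 H) = Q := Q.2
    show t • (g⁻¹ • (Q : Sylow 11 H)) = g⁻¹ • (Q : Sylow 11 H)
    conv_rhs => rw [← hQ]
    rw [← mul_smul, ← mul_smul]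
    congr 1
    group
  · intro Q
    apply Subtype.ext
    show g⁻¹ • (g • (Q : Sylow 11 H)) = Q
    rw [inv_smul_smul]
  · intro Q
    apply Subtype.ext
    show g • (g⁻¹ • (Q : Sylow 11 H)) = Q
    rw [smul_inv_smul]

/-- PG-FXd : if `s` normalises exactly one Sylow 11-subgroup `Q`, its centraliser normalises `Q` -/
theorem centralizer_le_normalizer_of_fx {H : Type*} [Group H] [Finite H] (s : H)
    (Q : Sylow 11 H) (hQ : s • Q = Q) (h1 : fx s = 1) :
    centralizer ({s} : Set H) ≤ normalizer ((Q : Subgroup H) : Set H) := by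
  intro c hc
  have hcs : s * c = c * s := by
    have := mem_centralizer_iff.1 hc s (Set.mem_singleton s)
    exact this
  have hcQ : s • (c • Q) = c • Q := by
    rw [← mul_smul, hcs, mul_smul, hQ]
  unfold fx at h1
  have hsub : Subsingleton (MulAction.fixedBy (Sylow 11 H) s) := by
    have := (Nat.card_eq_one_iff_unique.1 h1).1
    exact this
  have heq : (⟨c • Q, hcQ⟩ : MulAction.fixedBy (Sylow 11 H) s) = ⟨Q, hQ⟩ := Subsingleton.elim _ _
  have heq' : c • Q = Q := congrArg Subtype.val heq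
  exact Sylow.smul_eq_iff_mem_normalizer.1 heq'

end Cfsg.Agent.Lib.Helper22.PG
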