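import Mathlib
import Cfsg.Agent.Lib.Helper22.PG.Defs
import Cfsg.Agent.Lib.Helper10.PGFXs

set_option autoImplicit false

namespace Cfsg.Agent.Lib.Helper22.PG

open Subgroup

/-- if `11² ∤ |H|`, a Sylow 11-subgroup containing an element `y` of order `11` is `zpowers y` -/
theorem h10_sylow_eq_zpowers {H : Type*} [Group H] [Finite H] (h121 : ¬ 121 ∣ Nat.card H)
    (y : H) (hy : orderOf y = 11) (Q : Sylow 11 H) (hyQ : y ∈ (Q : Subgroup H)) :
    (Q : Subgroup H) = zpowers y := by
  have hcard : Nat.card (Q : Subgroup H) = 11 ^ (Nat.card H).factorization 11 :=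
    Sylow.card_eq_multiplicity Q
  have h11 : 11 ∣ Nat.card H := by
    rw [← hy]
    exact orderOf_dvd_natCard y
  have hpos : Nat.card H ≠ 0 := Nat.card_pos.ne'
  have hf1 : 1 ≤ (Nat.card H).factorization 11 :=
    (Nat.Prime.dvd_iff_one_le_factorization (by norm_num) hpos).1 h11
  have hf2 : (Nat.card H).factorization 11 < 2 := by
    by_contra hcon
    push Not at hcon
    apply h121
    have : 11 ^ 2 ∣ Nat.card H :=
      (Nat.Prime.pow_dvd_iff_le_factorization (by norm_num) hpos).2 hcon
    simpa using this
  have hf : (Nat.card H).factorization 11 = 1 := by omega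
  rw [hf, pow_one] at hcard
  symm
  apply Subgroup.eq_of_le_of_card_ge
  · rw [zpowers_le]
    exact hyQ
  · rw [hcard, Nat.card_zpowers, hy]

/-- PG-FXb : if `t` commutes with an element of order `11` (and `11² ∤ |H|`) then the number of
Sylow 11-subgroups normalised by `t` is `≡ 1 mod 11` -/
theorem fx_modEq_one {H : Type*} [Group H] [Finite H] (h121 : ¬ 121 ∣ Nat.card H)
    (t y : H) (hy : orderOf y = 11) (hc : t * y = y * t) : fx t % 11 = 1 := by
  classical
  have hcomm : ∀ a ∈ zpowers y, t * a = a * t := by
    intro a ha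
    obtain ⟨k, rfl⟩ := mem_zpowers_iff.1 ha
    exact (Commute.zpow_right (show Commute t y from hc) k).eq
  have hp : IsPGroup 11 (zpowers y) := by
    apply IsPGroup.of_card (n := 1)
    rw [Nat.card_zpowers, hy, pow_one]
  let act : MulAction (zpowers y) (MulAction.fixedBy (Sylow 11 H) t) :=
    { smul := fun a Q => ⟨(a : H) • (Q : Sylow 11 H), by
        have hQ : t • (Q : Sylow 11 H) = Q := Q.2
        show t • ((a : H) • (Q : Sylow 11 H)) = (a : H) • (Q : Sylow 11 H)
        rw [← mul_smul, hcomm a a.2, mul_smul, hQ]⟩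
      one_smul := by
        intro Q
        apply Subtype.ext
        show ((1 : zpowers y) : H) • (Q : Sylow 11 H) = Q
        rw [Subgroup.coe_one, one_smul]
      mul_smul := by
        intro a b Q
        apply Subtype.ext
        show ((a * b : zpowers y) : H) • (Q : Sylow 11 H) = (a : H) • ((b : H) • (Q : Sylow 11 H))
        rw [Subgroup.coe_mul, mul_smul] }
  have hsmul : ∀ (a : zpowers y) (Q : MulAction.fixedBy (Sylow 11 H) t),
      ((a • Q : MulAction.fixedBy (Sylow 11 H) t) : Sylow 11 H) = (a : H) • (Q : Sylow 11 H) :=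
    fun a Q => rfl
  have key := hp.card_modEq_card_fixedPoints (MulAction.fixedBy (Sylow 11 H) t)
  have hone : Nat.card (MulAction.fixedPoints (zpowers y) (MulAction.fixedBy (Sylow 11 H) t)) = 1 := by
    rw [Nat.card_eq_one_iff_unique]
    constructor
    · constructor
      intro Q₁ Q₂
      apply Subtype.ext
      apply Subtype.ext
      have h1 : y • ((Q₁ : MulAction.fixedBy (Sylow 11 H) t) : Sylow 11 H) = Q₁ := by
        have := Q₁.2 ⟨y, mem_zpowers y⟩
        exact congrArg Subtype.val this
      have h2 : y • ((Q₂ : MulAction.fixedBy (Sylow 11 H) t) : Sylow 11 H) = Q₂ := by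
        have := Q₂.2 ⟨y, mem_zpowers y⟩
        exact congrArg Subtype.val this
      have e1 := h10_sylow_eq_zpowers h121 y hy _ (mem_of_smul_eq y hy _ h1)
      have e2 := h10_sylow_eq_zpowers h121 y hy _ (mem_of_smul_eq y hy _ h2)
      apply Sylow.ext
      rw [e1, e2]
    · obtain ⟨P₀, hP₀⟩ := hp.exists_le_sylow
      have hyP : y ∈ (P₀ : Subgroup H) := hP₀ (mem_zpowers y)
      have eP : (P₀ : Subgroup H) = zpowers y := h10_sylow_eq_zpowers h121 y hy P₀ hyP
      have htP : t • P₀ = P₀ := by
        have hgoal : t ∈ normalizer ((P₀ : Subgroup H) : Set H) := ?_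
        · exact Sylow.smul_eq_iff_mem_normalizer.2 hgoal
        rw [eP, mem_normalizer_iff]
        intro h
        constructor
        · intro hh
          have : t * h * t⁻¹ = h := by
            rw [hcomm h hh, mul_inv_cancel_right]
          rw [this]
          exact hh
        · intro hh
          have h2 := hcomm _ hh
          have : h = t * h * t⁻¹ := by
            have h3 : t * (t * h * t⁻¹) = t * h := by
              rw [h2]
              group
            exact (mul_left_cancel h3).symm
          rw [this]
          exact hh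
      refine ⟨⟨⟨P₀, htP⟩, ?_⟩⟩
      intro a
      apply Subtype.ext
      show (a : H) • P₀ = P₀
      have hgoal : (a : H) ∈ normalizer ((P₀ : Subgroup H) : Set H) := by
        apply le_normalizer
        rw [eP]
        exact a.2
      exact Sylow.smul_eq_iff_mem_normalizer.2 hgoal
  rw [hone] at key
  unfold fx
  have : Nat.card (MulAction.fixedBy (Sylow 11 H) t) % 11 = 1 % 11 := key
  simpa using this

end Cfsg.Agent.Lib.Helper22.PG
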