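import Mathlib
import Cfsg.Agent.Lib.Helper22.PG.Defs
import Cfsg.Agent.Lib.Helper10.PGFXb

set_option autoImplicit false

namespace Cfsg.Agent.Lib.Helper22.PG

open Subgroup

/-- PG-KER : the action on the Sylow 11-subgroups is faithful -/
theorem eq_one_of_smul_all {H : Type*} [Group H] [Finite H] (h121 : ¬ 121 ∣ Nat.card H)
    (hn : Nat.card (Sylow 11 H) ≠ 1) (hcore : Cfsg.pPrimeCore 11 H = ⊥) (g : H)
    (hg : ∀ Q : Sylow 11 H, g • Q = Q) : g = 1 := by
  classical
  set K₀ : Subgroup H := (MulAction.toPermHom H (Sylow 11 H)).ker with hK₀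
  have hmem : ∀ x : H, x ∈ K₀ ↔ ∀ Q : Sylow 11 H, x • Q = Q := by
    intro x
    rw [hK₀, MonoidHom.mem_ker]
    constructor
    · intro h Q
      have := congrArg (fun σ : Equiv.Perm (Sylow 11 H) => σ Q) h
      simpa using this
    · intro h
      apply Equiv.ext
      intro Q
      simpa using h Q
  have hnormal : K₀.Normal := by
    rw [hK₀]
    infer_instance
  have hgK : g ∈ K₀ := (hmem g).2 hg
  have h11 : ¬ 11 ∣ Nat.card K₀ := by
    intro hdvd
    obtain ⟨y', hy'⟩ := exists_prime_orderOf_dvd_card' (G := K₀) 11 hdvd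
    have hy : orderOf (y' : H) = 11 := by
      rw [Subgroup.orderOf_coe, hy']
    have hfix : ∀ Q : Sylow 11 H, (y' : H) • Q = Q := (hmem _).1 y'.2
    apply hn
    rw [Nat.card_eq_one_iff_unique]
    constructor
    · constructor
      intro Q₁ Q₂
      apply Sylow.ext
      rw [h10_sylow_eq_zpowers h121 _ hy Q₁ (mem_of_smul_eq _ hy Q₁ (hfix Q₁)),
        h10_sylow_eq_zpowers h121 _ hy Q₂ (mem_of_smul_eq _ hy Q₂ (hfix Q₂))]
    · infer_instance
  have hcop : (Nat.card K₀).Coprime 11 :=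
    ((Nat.Prime.coprime_iff_not_dvd (by norm_num)).2 h11).symm
  have hle : K₀ ≤ Cfsg.pPrimeCore 11 H := le_sSup ⟨hnormal, hcop⟩
  rw [hcore] at hle
  exact (Subgroup.mem_bot).1 (hle hgK)

end Cfsg.Agent.Lib.Helper22.PG
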