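import Mathlib
import Cfsg.Agent.Lib.Helper10.PGM.Defs

/-! Project PGM (S2263): rows N1–N13, pure ℕ facts. -/

set_option autoImplicit false

namespace Cfsg.Agent.Lib.Helper10.PGM

open Cfsg.Agent.Lib.helper15.UNat

/-- N1 -/
theorem Qn_le (q l : ℕ) : Qn q l ≤ q ^ l + 1 := by
  unfold Qn
  split_ifs <;> omega

/-- N10 -/
theorem Qn_pos (q l : ℕ) (hq : 2 ≤ q) (hl : 1 ≤ l) : 0 < Qn q l := by
  unfold Qn
  have h : 2 ≤ q ^ l := by
    calc 2 ≤ q := hq
      _ = q ^ 1 := (pow_one q).symm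
      _ ≤ q ^ l := Nat.pow_le_pow_right (by omega) hl
  split_ifs <;> omega

/-- N3 -/
theorem t_mul (q l : ℕ) (hq : 1 ≤ q) : Qn q l / (q + 1) * (q + 1) = Qn q l :=
  Nat.div_mul_cancel (succ_dvd_Qn q l hq)

/-- N2 -/
theorem t_le (q l : ℕ) (hq : 1 ≤ q) (hl : 1 ≤ l) : Qn q l / (q + 1) ≤ q ^ (l - 1) := by
  apply Nat.div_le_of_le_mul
  have h1 := Qn_le q l
  obtain ⟨k, rfl⟩ : ∃ k, l = k + 1 := ⟨l - 1, by omega⟩
  have h2 : q ^ (k + 1) = q * q ^ k := by rw [pow_succ]; ring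
  have h3 : 1 ≤ q ^ k := Nat.one_le_pow _ _ hq
  rw [Nat.add_sub_cancel]
  calc Qn q (k + 1) ≤ q ^ (k + 1) + 1 := h1
    _ ≤ (q + 1) * q ^ k := by rw [h2]; nlinarith

/-- N4 -/
theorem lcm_Qn_le (q a b : ℕ) (hq : 2 ≤ q) :
    Nat.lcm (Qn q a) (Qn q b) * (q + 1) ≤ Qn q a * Qn q b := by
  rcases Nat.eq_zero_or_pos (Qn q a) with ha | ha
  · rw [ha]; simp
  rcases Nat.eq_zero_or_pos (Qn q b) with hb | hb
  · rw [hb]; simp
  have hg : (q + 1) ∣ Nat.gcd (Qn q a) (Qn q b) :=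
    Nat.dvd_gcd (succ_dvd_Qn q a (by omega)) (succ_dvd_Qn q b (by omega))
  have hgpos : 0 < Nat.gcd (Qn q a) (Qn q b) := Nat.gcd_pos_of_pos_left _ ha
  have hle : q + 1 ≤ Nat.gcd (Qn q a) (Qn q b) := Nat.le_of_dvd hgpos hg
  calc Nat.lcm (Qn q a) (Qn q b) * (q + 1)
      ≤ Nat.lcm (Qn q a) (Qn q b) * Nat.gcd (Qn q a) (Qn q b) := Nat.mul_le_mul_left _ hle
    _ = Qn q a * Qn q b := by rw [mul_comm, Nat.gcd_mul_lcm]

/-- N5 -/
theorem pclog_le_mul (p m : ℕ) (hp : 2 ≤ p) (hm : 2 ≤ m) : p ^ Nat.clog p m ≤ p * (m - 1) := by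
  have h1 : (p ^ (Nat.clog p m).pred) < m := Nat.pow_pred_clog_lt_self (by omega) (by omega)
  have hpos : 0 < Nat.clog p m := Nat.clog_pos (by omega) hm
  obtain ⟨a, ha⟩ : ∃ a, Nat.clog p m = a + 1 := ⟨Nat.clog p m - 1, by omega⟩
  rw [ha] at h1 ⊢
  rw [Nat.pred_succ] at h1
  rw [pow_succ, mul_comm]
  exact Nat.mul_le_mul_left _ (by omega)

/-- N6 -/
theorem pclog_le_pow (p m : ℕ) (hp : 2 ≤ p) (hm : 1 ≤ m) : p ^ Nat.clog p m ≤ p ^ (m - 1) := by
  apply Nat.pow_le_pow_right (by omega)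
  apply Nat.clog_le_of_le_pow
  obtain ⟨k, rfl⟩ : ∃ k, m = k + 1 := ⟨m - 1, by omega⟩
  rw [Nat.add_sub_cancel]
  calc k + 1 ≤ 2 ^ k := Nat.lt_two_pow_self
    _ ≤ p ^ k := Nat.pow_le_pow_left hp k

/-- N7 -/
theorem pclog_four (p m : ℕ) (hp : 2 ≤ p) (hm : 4 ≤ m) : p ^ Nat.clog p m ≤ p ^ (m - 2) := by
  apply Nat.pow_le_pow_right (by omega)
  apply Nat.clog_le_of_le_pow
  obtain ⟨k, rfl⟩ : ∃ k, m = k + 4 := ⟨m - 4, by omega⟩
  have h2 : k + 4 - 2 = k + 2 := by omega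
  rw [h2]
  have h3 : k + 4 ≤ 2 ^ (k + 2) := by
    induction k with
    | zero => norm_num
    | succ n ih => rw [pow_succ]; omega
  exact le_trans h3 (Nat.pow_le_pow_left hp _)

/-- N8 -/
theorem Mx_ge (p f d : ℕ) (hp : 2 ≤ p) (hf : 1 ≤ f) (hd : 3 ≤ d) :
    (p ^ f) ^ (d - 1) - 1 ≤ Mx p f d := by
  unfold Mx
  split_ifs with h1 h2 h3
  · exact le_refl _
  · have hf1 : f = 1 := by omega
    subst hf1
    rw [pow_one]
    obtain ⟨k, rfl⟩ : ∃ k, d = k + 2 := ⟨d - 2, by omega⟩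
    have e1 : k + 2 - 1 = k + 1 := by omega
    have e2 : k + 2 - 2 = k := by omega
    rw [e1, e2, pow_succ]
    have h5 : p ^ k * p - 1 ≤ p ^ k * p := Nat.sub_le _ _
    have h6 : p ^ k * p ≤ (p ^ k + 1) * p := Nat.mul_le_mul_right _ (by omega)
    omega
  · omega
  · have hq : p ^ f = 2 := by
      have : 2 ≤ p ^ f := by
        calc 2 ≤ p := hp
          _ = p ^ 1 := (pow_one p).symm
          _ ≤ p ^ f := Nat.pow_le_pow_right (by omega) hf
      omega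
    rw [hq]
    obtain ⟨k, rfl⟩ : ∃ k, d = k + 3 := ⟨d - 3, by omega⟩
    have e1 : k + 3 - 1 = k + 2 := by omega
    have e2 : k + 3 - 3 = k := by omega
    rw [e1, e2, pow_succ, pow_succ]
    omega

/-- N11 -/
theorem lcmL_pos (L : List ℕ) (h : ∀ x ∈ L, 0 < x) : 0 < lcmL L := by
  induction L with
  | nil => simp [lcmL]
  | cons a L ih =>
    have h1 : 0 < a := h a (by simp)
    have h2 : 0 < lcmL L := ih (fun x hx => h x (by simp [hx]))
    show 0 < Nat.lcm a (lcmL L)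
    exact Nat.lcm_pos h1 h2

/-- N12 -/
theorem dvd_lcmL (L : List ℕ) (x : ℕ) (hx : x ∈ L) : x ∣ lcmL L := by
  induction L with
  | nil => simp at hx
  | cons a L ih =>
    show x ∣ Nat.lcm a (lcmL L)
    rcases List.mem_cons.1 hx with h | h
    · rw [h]; exact Nat.dvd_lcm_left _ _
    · exact dvd_trans (ih h) (Nat.dvd_lcm_right _ _)

/-- N13 -/
theorem le_maxm (L : List (ℕ × ℕ)) (e : ℕ × ℕ) (he : e ∈ L) : e.2 ≤ maxm L := by
  induction L with
  | nil => simp at he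
  | cons a L ih =>
    show e.2 ≤ max a.2 (maxm L)
    rcases List.mem_cons.1 he with h | h
    · rw [h]; exact le_max_left _ _
    · exact le_trans (ih h) (le_max_right _ _)

/-- N9 -/
theorem lcmL_le (q : ℕ) (hq : 2 ≤ q) (L : List ℕ) (hL : ∀ l ∈ L, 1 ≤ l) (hne : L ≠ []) :
    lcmL (L.map (Qn q)) ≤ (q + 1) * (L.map (fun l => Qn q l / (q + 1))).prod := by
  -- stronger invariant: `(q+1) ∣ lcmL` as well
  have key : ∀ L : List ℕ, (∀ l ∈ L, 1 ≤ l) → L ≠ [] →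
      (q + 1) ∣ lcmL (L.map (Qn q)) ∧
        lcmL (L.map (Qn q)) ≤ (q + 1) * (L.map (fun l => Qn q l / (q + 1))).prod := by
    intro L
    induction L with
    | nil => intro _ h; exact absurd rfl h
    | cons a L ih =>
      intro hL _
      have ha : 1 ≤ a := hL a (by simp)
      have hdiv : (q + 1) ∣ Qn q a := succ_dvd_Qn q a (by omega)
      have hta : Qn q a / (q + 1) * (q + 1) = Qn q a := t_mul q a (by omega)
      by_cases hL0 : L = []
      · subst hL0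
        simp only [List.map_cons, List.map_nil, List.prod_cons, List.prod_nil, mul_one]
        show (q + 1) ∣ Nat.lcm (Qn q a) 1 ∧ Nat.lcm (Qn q a) 1 ≤ (q + 1) * (Qn q a / (q + 1))
        rw [Nat.lcm_one_right]
        exact ⟨hdiv, by rw [mul_comm, hta]⟩
      · obtain ⟨ih1, ih2⟩ := ih (fun l hl => hL l (by simp [hl])) hL0
        simp only [List.map_cons, List.prod_cons]
        show (q + 1) ∣ Nat.lcm (Qn q a) (lcmL (L.map (Qn q))) ∧
          Nat.lcm (Qn q a) (lcmL (L.map (Qn q))) ≤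
            (q + 1) * (Qn q a / (q + 1) * (L.map (fun l => Qn q l / (q + 1))).prod)
        refine ⟨dvd_trans hdiv (Nat.dvd_lcm_left _ _), ?_⟩
        set X := lcmL (L.map (Qn q)) with hX
        have hXpos : 0 < X := by
          apply lcmL_pos
          intro x hx
          rw [List.mem_map] at hx
          obtain ⟨l, hl, rfl⟩ := hx
          exact Qn_pos q l hq (hL l (by simp [hl]))
        have hapos : 0 < Qn q a := Qn_pos q a hq ha
        have hg : (q + 1) ∣ Nat.gcd (Qn q a) X := Nat.dvd_gcd hdiv ih1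
        have hgpos : 0 < Nat.gcd (Qn q a) X := Nat.gcd_pos_of_pos_left _ hapos
        have hle : q + 1 ≤ Nat.gcd (Qn q a) X := Nat.le_of_dvd hgpos hg
        have h1 : Nat.lcm (Qn q a) X * (q + 1) ≤ Qn q a * X := by
          calc Nat.lcm (Qn q a) X * (q + 1) ≤ Nat.lcm (Qn q a) X * Nat.gcd (Qn q a) X :=
                Nat.mul_le_mul_left _ hle
            _ = Qn q a * X := by rw [mul_comm, Nat.gcd_mul_lcm]
        have h2 : Qn q a * X ≤ (Qn q a / (q + 1) * (q + 1)) *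
            ((q + 1) * (L.map (fun l => Qn q l / (q + 1))).prod) := by
          rw [hta]; exact Nat.mul_le_mul_left _ ih2
        have h3 : Nat.lcm (Qn q a) X * (q + 1) ≤
            ((q + 1) * (Qn q a / (q + 1) * (L.map (fun l => Qn q l / (q + 1))).prod)) * (q + 1) := by
          calc Nat.lcm (Qn q a) X * (q + 1) ≤ Qn q a * X := h1
            _ ≤ _ := h2
            _ = _ := by ring
        exact Nat.le_of_mul_le_mul_right h3 (by omega)
  exact (key L hL hne).2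

end Cfsg.Agent.Lib.Helper10.PGM
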