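import Mathlib
import Cfsg.Agent.Lib.Helper10.PGMNat0

set_option autoImplicit false

namespace Cfsg.Agent.Lib.Helper10.PGM

open Cfsg.Agent.Lib.helper15.UNat

theorem pgmac1h10_Qn_one (q : ℕ) : Qn q 1 = q + 1 := by
  unfold Qn
  simp

theorem pgmac1h10_two_pow (k : ℕ) : k + 4 ≤ 2 ^ (k + 2) := by
  induction k with
  | zero => norm_num
  | succ k ih => rw [pow_succ]; omega

theorem pgmac1h10_ac_one (p f d : ℕ) (hp : p.Prime) (hf : 1 ≤ f) (hd : 3 ≤ d)
    (l m : ℕ) (hl : 1 ≤ l) (hm : 1 ≤ m) (hsum : l * m = d) :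
    p ^ Nat.clog p m * (Qn (p ^ f) l / (p ^ f + 1)) ≤ Mx p f d := by
  have hp2 : 2 ≤ p := hp.two_le
  have hMx := Mx_ge p f d hp2 hf hd
  obtain ⟨q, hq⟩ : ∃ q, q = p ^ f := ⟨_, rfl⟩
  rw [← hq] at hMx ⊢
  have hpq : p ≤ q := by
    rw [hq]
    calc p = p ^ 1 := (pow_one p).symm
      _ ≤ p ^ f := Nat.pow_le_pow_right (by omega) hf
  have hq2 : 2 ≤ q := le_trans hp2 hpq
  rcases Nat.lt_or_ge m 2 with hm1 | hm2
  · -- m = 1
    have hm1' : m = 1 := by omega
    subst hm1'
    rw [Nat.clog_one_right, pow_zero, one_mul]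
    have hld : l = d := by omega
    subst hld
    refine le_trans ?_ hMx
    have h1 := t_mul q l (by omega)
    have h2 := Qn_le q l
    obtain ⟨k, rfl⟩ : ∃ k, l = k + 3 := ⟨l - 3, by omega⟩
    have h3 : q + 2 ≤ q ^ (k + 2) := by
      calc q + 2 ≤ q * q := by nlinarith
        _ = q ^ 2 := by ring
        _ ≤ q ^ (k + 2) := Nat.pow_le_pow_right (by omega) (by omega)
    have h4 : q ^ (k + 3) = q * q ^ (k + 2) := by rw [pow_succ]; ring
    have h5 : k + 3 - 1 = k + 2 := by omega
    rw [h5]
    apply Nat.le_of_mul_le_mul_right (c := q + 1) _ (by omega)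
    rw [h1]
    refine le_trans h2 ?_
    rw [h4]
    obtain ⟨X, hX⟩ : ∃ X, X = q ^ (k + 2) := ⟨_, rfl⟩
    rw [← hX] at h3 ⊢
    obtain ⟨Y, rfl⟩ : ∃ Y, X = Y + 1 := ⟨X - 1, by omega⟩
    rw [Nat.add_sub_cancel]
    nlinarith
  · rcases Nat.lt_or_ge l 2 with hl1 | hl2
    · -- l = 1, m = d
      have hl1' : l = 1 := by omega
      subst hl1'
      have hmd : m = d := by omega
      subst hmd
      rw [pgmac1h10_Qn_one, Nat.div_self (by omega), mul_one]
      by_cases hspecial : p = 2 ∧ f = 1 ∧ m = 3
      · obtain ⟨rfl, rfl, rfl⟩ := hspecial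
        have : Nat.clog 2 3 = 2 := by decide
        rw [this]
        unfold Mx
        decide
      · refine le_trans ?_ hMx
        -- strict: p ^ clog p m < q ^ (m-1)
        have hlt : p ^ Nat.clog p m < q ^ (m - 1) := by
          rcases Nat.lt_or_ge f 2 with hf1 | hf2
          · have hf1' : f = 1 := by omega
            have hqp : q = p := by rw [hq, hf1', pow_one]
            rw [hqp]
            apply Nat.pow_lt_pow_right (by omega)
            rcases Nat.lt_or_ge m 4 with hm4 | hm4
            · have hm3 : m = 3 := by omega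
              subst hm3
              have hp3 : 3 ≤ p := by
                rcases Nat.lt_or_ge p 3 with h | h
                · exfalso; exact hspecial ⟨by omega, hf1', rfl⟩
                · exact h
              have : Nat.clog p 3 ≤ 1 := Nat.clog_le_of_le_pow (by rw [pow_one]; exact hp3)
              omega
            · have : Nat.clog p m ≤ m - 2 := by
                apply Nat.clog_le_of_le_pow
                obtain ⟨k, rfl⟩ : ∃ k, m = k + 4 := ⟨m - 4, by omega⟩
                have h2 : k + 4 - 2 = k + 2 := by omega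
                rw [h2]
                calc k + 4 ≤ 2 ^ (k + 2) := pgmac1h10_two_pow k
                  _ ≤ p ^ (k + 2) := Nat.pow_le_pow_left hp2 _
              omega
          · have h1 := pclog_le_pow p m hp2 (by omega)
            have h2 : p ^ (m - 1) < q ^ (m - 1) := by
              apply Nat.pow_lt_pow_left _ (by omega)
              rw [hq]
              calc p = p ^ 1 := (pow_one p).symm
                _ < p ^ f := Nat.pow_lt_pow_right (by omega) (by omega)
            omega
        omega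
    · -- l ≥ 2, m ≥ 2
      refine le_trans ?_ hMx
      have h1 := pclog_le_pow p m hp2 (by omega)
      have h2 : p ^ (m - 1) ≤ q ^ (m - 1) := Nat.pow_le_pow_left hpq _
      have h3 := t_le q l (by omega) hl
      have h4 : p ^ Nat.clog p m * (Qn q l / (q + 1)) ≤ q ^ (m - 1) * q ^ (l - 1) :=
        Nat.mul_le_mul (le_trans h1 h2) h3
      rw [← pow_add] at h4
      have h5 : m - 1 + (l - 1) ≤ d - 2 := by
        obtain ⟨a, rfl⟩ : ∃ a, l = a + 2 := ⟨l - 2, by omega⟩
        obtain ⟨b, rfl⟩ : ∃ b, m = b + 2 := ⟨m - 2, by omega⟩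
        have : (a + 2) * (b + 2) = a * b + 2 * a + 2 * b + 4 := by ring
        rw [this] at hsum
        have : 0 ≤ a * b := Nat.zero_le _
        omega
      have h6 : q ^ (m - 1 + (l - 1)) ≤ q ^ (d - 2) := Nat.pow_le_pow_right (by omega) h5
      have h7 : q ^ (d - 1) = q * q ^ (d - 2) := by
        have : d - 1 = (d - 2) + 1 := by omega
        rw [this, pow_succ]; ring
      have h8 : 1 ≤ q ^ (d - 2) := Nat.one_le_pow _ _ (by omega)
      have h9 : q ^ (d - 2) + 1 ≤ q ^ (d - 1) := by
        rw [h7]; nlinarith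
      omega

end Cfsg.Agent.Lib.Helper10.PGM
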