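import Mathlib
import Cfsg.Agent.Lib.Helper10.PGMNat0
import Cfsg.Agent.Lib.Helper10.PGMAC1h10
import Cfsg.Agent.Lib.helper2.PGMAC2a
import Cfsg.Agent.Lib.Helper20.PGMAC2b
import Cfsg.Agent.Lib.Helper20.PGMAC2c
import Cfsg.Agent.Lib.helper15.PGMAC2d
import Cfsg.Agent.Lib.Helper11.PGMAC2e
import Cfsg.Agent.Lib.Helper26.PGMAC3

set_option autoImplicit false

namespace Cfsg.Agent.Lib.Helper10.PGM

open Matrix Cfsg.Agent.Lib.helper15.UNat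

theorem pgmac_two_wlog (p f d : ℕ) (hp : p.Prime) (hf : 1 ≤ f) (hd : 3 ≤ d)
    (l₁ m₁ l₂ m₂ : ℕ) (h1 : 1 ≤ l₁) (h2 : 1 ≤ m₁) (h3 : 1 ≤ l₂) (h4 : 1 ≤ m₂) (hm : m₂ ≤ m₁)
    (hsum : l₁ * m₁ + l₂ * m₂ = d) :
    p ^ Nat.clog p (max m₁ m₂) * Nat.lcm (Qn (p ^ f) l₁) (Qn (p ^ f) l₂) ≤ Mx p f d := by
  rw [max_eq_left hm]
  rcases Nat.lt_or_ge m₁ 2 with hm1 | hm1
  · have hm11 : m₁ = 1 := by omega
    have hm21 : m₂ = 1 := by omega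
    subst hm11; subst hm21
    have : Nat.clog p 1 = 0 := Nat.clog_one_right p
    rw [this, pow_zero, one_mul]
    exact ac_two_a p f d hp hf hd l₁ l₂ h1 h3 (by omega)
  · rcases Nat.lt_or_ge l₁ 2 with hl1 | hl1
    · have hl11 : l₁ = 1 := by omega
      subst hl11
      rcases Nat.lt_or_ge m₁ 4 with hm4 | hm4
      · rcases (by omega : m₁ = 2 ∨ m₁ = 3) with h | h
        · subst h
          exact ac_two_c p f d hp hf hd l₂ m₂ h3 h4 hm hsum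
        · subst h
          exact ac_two_d p f d hp hf hd l₂ m₂ h3 h4 hm hsum
      · exact ac_two_e p f d hp hf hd m₁ l₂ m₂ hm4 h3 h4 hm hsum
    · exact ac_two_b p f d hp hf hd l₁ m₁ l₂ m₂ hl1 hm1 h3 h4 hm hsum

theorem ac_two (p f d : ℕ) (hp : p.Prime) (hf : 1 ≤ f) (hd : 3 ≤ d)
    (l₁ m₁ l₂ m₂ : ℕ) (h1 : 1 ≤ l₁) (h2 : 1 ≤ m₁) (h3 : 1 ≤ l₂) (h4 : 1 ≤ m₂)
    (hsum : l₁ * m₁ + l₂ * m₂ = d) :
    p ^ Nat.clog p (max m₁ m₂) * Nat.lcm (Qn (p ^ f) l₁) (Qn (p ^ f) l₂) ≤ Mx p f d := by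
  rcases le_total m₂ m₁ with hm | hm
  · exact pgmac_two_wlog p f d hp hf hd l₁ m₁ l₂ m₂ h1 h2 h3 h4 hm hsum
  · rw [max_comm, Nat.lcm_comm]
    exact pgmac_two_wlog p f d hp hf hd l₂ m₂ l₁ m₁ h3 h4 h1 h2 hm (by omega)

theorem ac (p f d : ℕ) (hp : p.Prime) (hf : 1 ≤ f) (hd : 3 ≤ d)
    (L : List (ℕ × ℕ)) (hL : ∀ e ∈ L, 1 ≤ e.1 ∧ 1 ≤ e.2)
    (hsum : (L.map (fun e => e.1 * e.2)).sum = d) :
    (2 ≤ L.length →
      p ^ Nat.clog p (maxm L) * lcmL (L.map (fun e => Qn (p ^ f) e.1)) ≤ Mx p f d) ∧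
    (∀ l m : ℕ, L = [(l, m)] →
      p ^ Nat.clog p m * (Qn (p ^ f) l / (p ^ f + 1)) ≤ Mx p f d) := by
  constructor
  · intro h2
    rcases Nat.lt_or_ge L.length 3 with h3 | h3
    · have hlen : L.length = 2 := by omega
      obtain ⟨e₁, e₂, rfl⟩ := List.length_eq_two.1 hlen
      obtain ⟨l₁, m₁⟩ := e₁
      obtain ⟨l₂, m₂⟩ := e₂
      have ha := hL (l₁, m₁) (by simp)
      have hb := hL (l₂, m₂) (by simp)
      have hs : l₁ * m₁ + l₂ * m₂ = d := by simpa using hsum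
      have hmax : maxm [(l₁, m₁), (l₂, m₂)] = max m₁ m₂ := by
        simp [maxm]
      have hlcm : lcmL (List.map (fun e => Qn (p ^ f) e.1) [(l₁, m₁), (l₂, m₂)]) =
          Nat.lcm (Qn (p ^ f) l₁) (Qn (p ^ f) l₂) := by
        simp [lcmL]
      rw [hmax, hlcm]
      exact ac_two p f d hp hf hd l₁ m₁ l₂ m₂ ha.1 ha.2 hb.1 hb.2 hs
    · exact ac_three p f d hp hf hd L hL hsum h3
  · intro l m hLm
    subst hLm
    have ha := hL (l, m) (by simp)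
    have hs : l * m = d := by simpa using hsum
    exact pgmac1h10_ac_one p f d hp hf hd l m ha.1 ha.2 hs

end Cfsg.Agent.Lib.Helper10.PGM
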