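import Mathlib
import Cfsg.Agent.Lib.Helper10.PGM.Defs
import Cfsg.Agent.Lib.helper15.UTorus

set_option autoImplicit false

namespace Cfsg.Agent.Lib.Helper10.PGM

open Matrix Polynomial Cfsg.Agent.Lib.Helper16.RN Cfsg.Agent.Lib.helper15.UBase
open Cfsg.Agent.Lib.helper15.UNat Cfsg.Agent.S2495 Cfsg.Agent.Lib.helper15.PslMix
open Cfsg.Agent.Lib.helper15.UDich Cfsg.Agent.Lib.helper15.UBlk Cfsg.Agent.Lib.helper15.UTorus

/-- E3 -/
theorem odd_torus {F : Type*} [Field F] [Fintype F] (p f q k : ℕ) [Fact p.Prime] [CharP F p]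
    (hq : q = p ^ f) (hF : Fintype.card F = q ^ 2) (hk : Odd k) :
    ∃ Y : Matrix (Fin k) (Fin k) F, SelfDual q Y ∧ ∀ t : ℕ, Y ^ t = 1 ↔ (q ^ k + 1) ∣ t := by
  classical
  have hq2 := two_le_q hF
  obtain ⟨σ, hσ, hσσ⟩ := frob_data hF
  have hk1 : 1 ≤ k := by
    obtain ⟨j, hj⟩ := hk
    omega
  have hXn : 1 ≤ q ^ k := Nat.one_le_pow _ _ (by omega)
  have hQdvd : Qn q k ∣ q ^ (2 * k) - 1 := by
    rw [Qn_odd q k hk]
    have : q ^ (2 * k) = (q ^ k) ^ 2 := by rw [← pow_mul, mul_comm]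
    rw [this, Cfsg.Agent.Lib.helper15.UNat.sq_sub_one_eq _ hXn]
    exact dvd_mul_left _ _
  obtain ⟨L, instF, instFin, instAlg, hfr, hcardL, y, hy⟩ := exists_ext p hF k hk1 (Qn q k) hQdvd
  have hy1 : y ^ (q ^ k + 1) = 1 := by
    rw [← Qn_odd q k hk, ← hy]
    exact pow_orderOf_eq_one y
  have hy0 : y ≠ 0 := by
    intro h
    rw [h, zero_pow (by omega)] at hy1
    exact zero_ne_one hy1
  have hyinv : y ^ (q ^ k) = y⁻¹ := by
    rw [pow_succ] at hy1
    exact eq_inv_of_mul_eq_one_left hy1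
  let b : Module.Basis (Fin k) F L := Module.finBasisOfFinrankEq F L hfr
  have hρinj : Function.Injective (Algebra.leftMulMatrix b) := Algebra.leftMulMatrix_injective b
  obtain ⟨A₀, hA₀⟩ : ∃ A₀, A₀ = Algebra.leftMulMatrix b y := ⟨_, rfl⟩
  obtain ⟨A₁, hA₁⟩ : ∃ A₁, A₁ = Algebra.leftMulMatrix b y⁻¹ := ⟨_, rfl⟩
  have h01 : A₀ * A₁ = 1 := by rw [hA₀, hA₁, ← map_mul, mul_inv_cancel₀ hy0, map_one]
  have h10 : A₁ * A₀ = 1 := by rw [hA₀, hA₁, ← map_mul, inv_mul_cancel₀ hy0, map_one]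
  refine ⟨A₀, ?_, ?_⟩
  · -- SelfDual
    obtain ⟨g, hg⟩ : ∃ g : F[X], g = minpoly F y := ⟨_, rfl⟩
    have hyint : IsIntegral F y := Algebra.IsIntegral.isIntegral y
    have hfirr : Irreducible g := by rw [hg]; exact minpoly.irreducible hyint
    have hfy : aeval y g = 0 := by rw [hg]; exact minpoly.aeval F y
    have hX : aeval A₀ g = 0 := by
      rw [hA₀, Polynomial.aeval_algHom_apply, hfy, map_zero]
    haveI charL : CharP L p := charP_of_injective_algebraMap (algebraMap F L).injective p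
    let frobL : L →+* L := iterateFrobenius L p f
    have hfrobL : ∀ x : L, frobL x = x ^ q := by
      intro x
      rw [hq]
      exact iterateFrobenius_def p f x
    have hφK : ∀ c : F, frobL (algebraMap F L c) = algebraMap F L (σ c) := by
      intro c
      rw [hfrobL, hσ, map_pow]
    obtain ⟨j, hj⟩ := hk
    obtain ⟨β, hβ⟩ : ∃ β : L, β = y ^ (q ^ (2 * j)) := ⟨_, rfl⟩
    have hfrobβ : frobL β = y⁻¹ := by
      rw [hfrobL, hβ, ← pow_mul, ← pow_succ, ← hj, hyinv]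
    have hβroot : aeval β g = 0 := by
      have h1 : β = (FiniteField.frobeniusAlgHom F L ^ j) y := by
        rw [AlgHom.coe_pow, FiniteField.coe_frobeniusAlgHom, pow_iterate, hF, ← pow_mul, hβ]
      rw [h1, Polynomial.aeval_algHom_apply, hfy, map_zero]
    have hinvroot : aeval y⁻¹ (g.map σ) = 0 := by
      have h1 := Cfsg.Agent.Lib.Helper16.GUSemi.aeval_frob frobL σ hφK β g
      rw [hfrobβ, hβroot, map_zero] at h1
      exact h1
    have hX' : aeval ((uAdj k σ hσσ).adj A₁) g = 0 := by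
      have h1 := Cfsg.Agent.Lib.Helper16.FCR.adj_aeval σ (uAdj k σ hσσ).adj (uAdj k σ hσσ).add'
        (uAdj k σ hσσ).mul' (uAdj k σ hσσ).smul' (uAdj k σ hσσ).one' A₁ (g.map σ)
      have h2 : (g.map σ).map σ = g := by
        rw [Polynomial.map_map]
        have : σ.comp σ = RingHom.id F := RingHom.ext hσσ
        rw [this, Polynomial.map_id]
      rw [h2] at h1
      rw [← h1, hA₁, Polynomial.aeval_algHom_apply, hinvroot, map_zero, (uAdj k σ hσσ).adj_zero]
    obtain ⟨C, hC⟩ := conj_of_annihilated A₀ ((uAdj k σ hσσ).adj A₁) g hfirr hX hX'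
    refine ⟨A₁, (C : Matrix (Fin k) (Fin k) F), ((C⁻¹ : (Matrix (Fin k) (Fin k) F)ˣ) : Matrix (Fin k) (Fin k) F),
      h01, h10, ?_, ?_, ?_⟩
    · rw [← Units.val_mul, mul_inv_cancel, Units.val_one]
    · rw [← Units.val_mul, inv_mul_cancel, Units.val_one]
    · rw [map_pow_eq_adj σ hσ hσσ]
      exact hC
  · intro t
    rw [← Qn_odd q k hk, ← hy, orderOf_dvd_iff_pow_eq_one]
    constructor
    · intro h
      apply hρinj
      rw [map_pow, ← hA₀, h, map_one]
    · intro h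
      rw [hA₀, ← map_pow, h, map_one]

end Cfsg.Agent.Lib.Helper10.PGM
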