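import Mathlib
import Cfsg.Agent.Lib.Helper10.PGM.Defs
import Cfsg.Agent.Lib.helper15.UTorus

set_option autoImplicit false

namespace Cfsg.Agent.Lib.Helper10.PGM

open Matrix Polynomial Cfsg.Agent.Lib.Helper16.RN Cfsg.Agent.Lib.helper15.UBase
open Cfsg.Agent.Lib.helper15.UNat Cfsg.Agent.S2495 Cfsg.Agent.Lib.helper15.PslMix
open Cfsg.Agent.Lib.helper15.UDich Cfsg.Agent.Lib.helper15.UBlk Cfsg.Agent.Lib.helper15.UTorus

/-- E4 -/
theorem even_torus {F : Type*} [Field F] [Fintype F] (p f q m : ℕ) [Fact p.Prime] [CharP F p]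
    (hq : q = p ^ f) (hF : Fintype.card F = q ^ 2) (hm : 1 ≤ m) :
    ∃ Y : Matrix (Fin (m + m)) (Fin (m + m)) F, SelfDual q Y ∧
      ∀ t : ℕ, Y ^ t = 1 ↔ (q ^ (m + m) - 1) ∣ t := by
  classical
  have hq2 := two_le_q hF
  obtain ⟨σ, hσ, hσσ⟩ := frob_data hF
  have hQdvd : q ^ (m + m) - 1 ∣ q ^ (2 * m) - 1 := by
    rw [two_mul]
  obtain ⟨L, instF, instFin, instAlg, hfr, hcardL, y, hy⟩ :=
    exists_ext p hF m hm (q ^ (m + m) - 1) hQdvd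
  have hQpos : 0 < q ^ (m + m) - 1 := by
    have : 2 ≤ q ^ (m + m) := by
      calc 2 ≤ q := hq2
        _ = q ^ 1 := (pow_one q).symm
        _ ≤ q ^ (m + m) := Nat.pow_le_pow_right (by omega) (by omega)
    omega
  have hy0 : y ≠ 0 := by
    intro h
    have h1 : y ^ (q ^ (m + m) - 1) = 1 := by
      rw [← hy]
      exact pow_orderOf_eq_one y
    rw [h, zero_pow hQpos.ne'] at h1
    exact zero_ne_one h1
  let b : Module.Basis (Fin m) F L := Module.finBasisOfFinrankEq F L hfr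
  have hρinj : Function.Injective (Algebra.leftMulMatrix b) := Algebra.leftMulMatrix_injective b
  obtain ⟨Y₀, hY₀⟩ : ∃ Y₀, Y₀ = Algebra.leftMulMatrix b y := ⟨_, rfl⟩
  obtain ⟨Y₁, hY₁⟩ : ∃ Y₁, Y₁ = Algebra.leftMulMatrix b y⁻¹ := ⟨_, rfl⟩
  have h01 : Y₀ * Y₁ = 1 := by rw [hY₀, hY₁, ← map_mul, mul_inv_cancel₀ hy0, map_one]
  have h10 : Y₁ * Y₀ = 1 := by rw [hY₀, hY₁, ← map_mul, inv_mul_cancel₀ hy0, map_one]
  obtain ⟨Am, hAm⟩ : ∃ Am : AdjData (Fin m) F, Am = uAdj m σ hσσ := ⟨_, rfl⟩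
  obtain ⟨A₀, hA₀⟩ : ∃ A₀, A₀ = blk Y₀ (Am.adj Y₁) := ⟨_, rfl⟩
  obtain ⟨A₁, hA₁⟩ : ∃ A₁, A₁ = blk Y₁ (Am.adj Y₀) := ⟨_, rfl⟩
  have hA01 : A₀ * A₁ = 1 := by
    rw [hA₀, hA₁, blk_mul, h01, ← Am.mul', h01, Am.one', blk_one]
  have hA10 : A₁ * A₀ = 1 := by
    rw [hA₀, hA₁, blk_mul, h10, ← Am.mul', h10, Am.one', blk_one]
  refine ⟨A₀, ?_, ?_⟩
  · refine ⟨A₁, swapM F m, swapM F m, hA01, hA10, swapM_mul_swapM, swapM_mul_swapM, ?_⟩
    rw [map_pow_eq_adj σ hσ hσσ]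
    have hadjA₁ : (uAdj (m + m) σ hσσ).adj A₁ = blk (Am.adj Y₁) Y₀ := by
      rw [hA₁, blk_adj, ← hAm, Am.inv']
    rw [hadjA₁, hA₀]
    exact swapM_mul_blk _ _
  · intro t
    rw [← hy, orderOf_dvd_iff_pow_eq_one]
    constructor
    · intro h
      rw [hA₀, blk_pow, ← blk_one] at h
      have h3 := (blk_inj _ _ _ _ h).1
      apply hρinj
      rw [map_pow, ← hY₀, h3, map_one]
    · intro h
      have h1 : Y₀ ^ t = 1 := by rw [hY₀, ← map_pow, h, map_one]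
      have h2 : Y₁ ^ t = 1 := by rw [hY₁, ← map_pow, inv_pow, h, inv_one, map_one]
      rw [hA₀, blk_pow, h1, ← Am.adj_pow, h2, Am.one', blk_one]

end Cfsg.Agent.Lib.Helper10.PGM
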