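import Mathlib
import Cfsg.Agent.Lib.Helper10.PGM.Defs
import Cfsg.Agent.Lib.Helper24.PGMU3
import Cfsg.Agent.Lib.Helper29.PGME9
import Cfsg.Agent.Lib.Helper29.PGME10
import Cfsg.Agent.Lib.helper4.PGME11
import Cfsg.Agent.Lib.helper4.PGME12

set_option autoImplicit false

namespace Cfsg.Agent.Lib.Helper10.PGM

open Matrix Cfsg.Agent.Lib.helper15.UNat

universe u

theorem lower {F : Type u} [Field F] [Fintype F] (p f d : ℕ) (hp : p.Prime) (hf : 1 ≤ f) (q : ℕ)
    (hq : q = p ^ f) (hF : Fintype.card F = q ^ 2) (hd : 3 ≤ d) :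
    ∃ g : PGU d F q, orderOf g = Mx p f d := by
  haveI : Fact p.Prime := ⟨hp⟩
  haveI : CharP F p := charP_of_card p f q hp hf hq hF
  have hp2 : 2 ≤ p := hp.two_le
  have hq2 : 2 ≤ q := by
    rw [hq]
    calc 2 ≤ p := hp2
      _ = p ^ 1 := (pow_one p).symm
      _ ≤ p ^ f := Nat.pow_le_pow_right (by omega) hf
  rcases Nat.even_or_odd d with hev | hodd
  · have hnodd : ¬ Odd d := Nat.not_odd_iff_even.2 hev
    by_cases hq3 : 2 < q
    · have hM : Mx p f d = q ^ (d - 1) + 1 := by
        unfold Mx; rw [if_neg hnodd, ← hq, if_pos hq3]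
      rw [hM]
      obtain ⟨k, hk⟩ : ∃ k, d = k + 1 := ⟨d - 1, by omega⟩
      subst hk
      have hkodd : Odd k := by
        rcases Nat.even_or_odd k with h | h
        · exact absurd (h.add_one) hnodd
        · exact h
      simpa using lower_even_big p f q k hq hF hkodd
    · have hq22 : q = 2 := by omega
      have hM : Mx p f d = 4 * (2 ^ (d - 3) + 1) := by
        unfold Mx; rw [if_neg hnodd, ← hq, if_neg hq3]
      rw [hM]
      subst hq22
      have hp22 : p = 2 := by
        have h1 : p ∣ 2 := by
          rw [hq]; exact dvd_pow_self p (by omega)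
        exact (Nat.prime_dvd_prime_iff_eq hp Nat.prime_two).1 h1
      subst hp22
      have hd4 : 4 ≤ d := by
        rcases hev with ⟨r, hr⟩; omega
      obtain ⟨k, hk⟩ : ∃ k, d = k + 3 := ⟨d - 3, by omega⟩
      subst hk
      have hkodd : Odd k := by
        rcases Nat.even_or_odd k with h | h
        · exfalso; apply hnodd
          obtain ⟨r, hr⟩ := h
          exact ⟨r + 1, by omega⟩
        · exact h
      simpa using lower_even_two k hF hkodd
  · by_cases hf2 : 2 ≤ f
    · have hM : Mx p f d = q ^ (d - 1) - 1 := by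
        unfold Mx; rw [if_pos hodd, if_pos hf2, hq]
      rw [hM]
      obtain ⟨m, hm⟩ := hodd
      have hd' : d = m + m + 1 := by omega
      subst hd'
      have := lower_odd_big p f q m hq hF (by omega)
      simpa using this
    · have hf1 : f = 1 := by omega
      have hM : Mx p f d = (p ^ (d - 2) + 1) * p := by
        unfold Mx; rw [if_pos hodd, if_neg hf2]
      rw [hM]
      obtain ⟨k, hk⟩ : ∃ k, d = k + 2 := ⟨d - 2, by omega⟩
      subst hk
      have hkodd : Odd k := by
        obtain ⟨r, hr⟩ := hodd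
        exact ⟨r - 1, by omega⟩
      have hqp : q = p := by rw [hq, hf1, pow_one]
      have := lower_odd_prime p f q k hf hq hF hkodd
      subst hqp
      simpa using this

end Cfsg.Agent.Lib.Helper10.PGM
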