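import Mathlib
import Cfsg.Agent.Lib.Helper10.PGMNat0

/-! Project PGM (S2263): rows R1, R2, R3 — iterates of `psi q : x ↦ (x^q)⁻¹`. -/

set_option autoImplicit false

namespace Cfsg.Agent.Lib.Helper10.PGM

open Cfsg.Agent.Lib.helper15.UNat

/-- R1 -/
theorem psi_iterate {K : Type*} [Field K] (q j : ℕ) (x : K) :
    (psi q)^[j] x = if Even j then x ^ (q ^ j) else (x ^ (q ^ j))⁻¹ := by
  induction j with
  | zero => simp
  | succ n ih =>
    rw [Function.iterate_succ_apply', ih]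
    by_cases hn : Even n
    · have hn1 : ¬ Even (n + 1) := by
        rw [Nat.even_add_one]; exact not_not.2 hn
      rw [if_pos hn, if_neg hn1]
      unfold psi
      rw [← pow_mul, ← pow_succ]
    · have hn1 : Even (n + 1) := by
        rw [Nat.even_add_one]; exact hn
      rw [if_neg hn, if_pos hn1]
      unfold psi
      rw [inv_pow, inv_inv, ← pow_mul, ← pow_succ]

/-- R2 -/
theorem pow_Qn_of_fixed {K : Type*} [Field K] (q l : ℕ) (hl : 1 ≤ l) (x : K) (hx : x ≠ 0)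
    (h : (psi q)^[l] x = x) : x ^ Qn q l = 1 := by
  rw [psi_iterate] at h
  unfold Qn
  by_cases he : Even l
  · rw [if_pos he] at h ⊢
    rcases Nat.eq_zero_or_pos (q ^ l) with h0 | h0
    · rw [h0]; simp
    · have h1 : x ^ (q ^ l - 1) * x = 1 * x := by
        rw [← pow_succ, Nat.sub_add_cancel h0, h, one_mul]
      exact mul_right_cancel₀ hx h1
  · rw [if_neg he] at h ⊢
    have h1 : x ^ (q ^ l) ≠ 0 := pow_ne_zero _ hx
    rw [pow_succ]
    nth_rewrite 2 [← h]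
    exact mul_inv_cancel₀ h1

theorem pgmr1_succ_dvd_even (q j : ℕ) (hj : Even j) : (q + 1) ∣ q ^ j - 1 := by
  obtain ⟨r, rfl⟩ := hj
  have h1 : q ^ (r + r) = (q ^ 2) ^ r := by rw [← pow_mul, two_mul]
  rw [h1]
  have h2 : (q ^ 2 - 1) ∣ (q ^ 2) ^ r - 1 := Nat.sub_one_dvd_pow_sub_one (q ^ 2) r
  have h3 : (q + 1) ∣ q ^ 2 - 1 := by
    rcases Nat.eq_zero_or_pos q with h0 | h0
    · subst h0; simp
    · exact ⟨q - 1, by
        obtain ⟨s, rfl⟩ : ∃ s, q = s + 1 := ⟨q - 1, by omega⟩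
        have : (s + 1) ^ 2 - 1 = (s + 1 + 1) * (s + 1 - 1) := by
          rw [Nat.add_sub_cancel]
          have : (s + 1) ^ 2 = (s + 1 + 1) * s + 1 := by ring
          rw [this, Nat.add_sub_cancel]
        exact this⟩
  exact dvd_trans h3 h2

theorem pgmr1_succ_dvd_odd (q j : ℕ) (hj : Odd j) : (q + 1) ∣ q ^ j + 1 := by
  have := Odd.nat_add_dvd_pow_add_pow q 1 hj
  simpa using this

/-- R3 -/
theorem const_on_orbit {K : Type*} [Field K] (q l j : ℕ) (hq : 1 ≤ q) (hl : 1 ≤ l) (x : K)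
    (hx : x ≠ 0) (h : (psi q)^[l] x = x) :
    ((psi q)^[j] x) ^ (Qn q l / (q + 1)) = x ^ (Qn q l / (q + 1)) := by
  have hQ : x ^ Qn q l = 1 := pow_Qn_of_fixed q l hl x hx h
  obtain ⟨t, ht⟩ : ∃ t, t = Qn q l / (q + 1) := ⟨_, rfl⟩
  have htm : t * (q + 1) = Qn q l := by rw [ht]; exact t_mul q l hq
  rw [← ht, psi_iterate]
  by_cases he : Even j
  · rw [if_pos he]
    obtain ⟨k, hk⟩ := pgmr1_succ_dvd_even q j he
    have hpos : 1 ≤ q ^ j := Nat.one_le_pow _ _ hq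
    have h1 : q ^ j = (q + 1) * k + 1 := by omega
    have h2 : x ^ (t * ((q + 1) * k)) = 1 := by
      rw [← mul_assoc, htm, pow_mul, hQ, one_pow]
    rw [← pow_mul, h1, mul_comm ((q + 1) * k + 1) t, mul_add, mul_one, pow_add, h2, one_mul]
  · rw [if_neg he]
    have ho : Odd j := Nat.not_even_iff_odd.1 he
    obtain ⟨k, hk⟩ := pgmr1_succ_dvd_odd q j ho
    have h2 : x ^ (t * (q ^ j + 1)) = 1 := by
      rw [hk, ← mul_assoc, htm, pow_mul, hQ, one_pow]
    have h3 : (x ^ (q ^ j)) ^ t * x ^ t = 1 := by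
      rw [← pow_mul, ← pow_add, mul_comm (q ^ j) t, ← mul_add_one]
      exact h2
    rw [inv_pow]
    exact inv_eq_of_mul_eq_one_right h3

end Cfsg.Agent.Lib.Helper10.PGM
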