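import Mathlib
import Cfsg.Agent.Lib.Helper10.PGMR1

/-! Project PGM (S2263): row R4 — the `psi`-orbit of a point of a finite invariant set. -/

set_option autoImplicit false

namespace Cfsg.Agent.Lib.Helper10.PGM

open Cfsg.Agent.Lib.helper15.UNat

theorem pgmr4_psi_injective {K : Type*} [Field K] (q : ℕ)
    (hinj : ∀ x y : K, x ^ q = y ^ q → x = y) : Function.Injective (psi (K := K) q) := by
  intro a b h
  unfold psi at h
  exact hinj a b (inv_injective h)

theorem pgmr4_iterate_mem {K : Type*} [Field K] (q : ℕ) (R : Finset K)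
    (hR : ∀ x ∈ R, psi q x ∈ R) (x : K) (hx : x ∈ R) (n : ℕ) : (psi q)^[n] x ∈ R := by
  induction n with
  | zero => simpa using hx
  | succ n ih =>
    rw [Function.iterate_succ_apply']
    exact hR _ ih

/-- R4 -/
theorem exists_orbit {K : Type*} [Field K] [DecidableEq K] (q : ℕ)
    (hinj : ∀ x y : K, x ^ q = y ^ q → x = y) (R : Finset K) (h0 : (0 : K) ∉ R)
    (hR : ∀ x ∈ R, psi q x ∈ R) (x : K) (hx : x ∈ R) :
    ∃ (l : ℕ) (O : Finset K), 1 ≤ l ∧ O ⊆ R ∧ x ∈ O ∧ O.card = l ∧ (∀ y ∈ O, psi q y ∈ O) ∧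
      (∀ y ∈ O, ∃ j : ℕ, y = (psi q)^[j] x) ∧ (psi q)^[l] x = x := by
  have hψ := pgmr4_psi_injective q hinj
  have hmem := pgmr4_iterate_mem q R hR x hx
  -- periodicity
  have hper : x ∈ Function.periodicPts (psi q) := by
    have hninj : ¬ Function.Injective (fun n : ℕ => (⟨(psi q)^[n] x, hmem n⟩ : R)) :=
      not_injective_infinite_finite _
    rw [Function.Injective] at hninj
    push Not at hninj
    obtain ⟨i, j, hij, hne⟩ := hninj
    have hij' : (psi q)^[i] x = (psi q)^[j] x := congrArg Subtype.val hij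
    rcases Nat.lt_or_gt_of_ne hne with hlt | hlt
    · refine Function.mk_mem_periodicPts (n := j - i) (by omega) ?_
      have h1 : (psi q)^[i] ((psi q)^[j - i] x) = (psi q)^[i] x := by
        rw [← Function.iterate_add_apply, Nat.add_sub_cancel' hlt.le, hij']
      exact (hψ.iterate i) h1
    · refine Function.mk_mem_periodicPts (n := i - j) (by omega) ?_
      have h1 : (psi q)^[j] ((psi q)^[i - j] x) = (psi q)^[j] x := by
        rw [← Function.iterate_add_apply, Nat.add_sub_cancel' hlt.le, hij']
      exact (hψ.iterate j) h1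
  have hlpos : 0 < Function.minimalPeriod (psi q) x := Function.minimalPeriod_pos_of_mem_periodicPts hper
  have hlfix : (psi q)^[Function.minimalPeriod (psi q) x] x = x :=
    Function.isPeriodicPt_minimalPeriod (psi q) x
  refine ⟨Function.minimalPeriod (psi q) x,
    (Finset.range (Function.minimalPeriod (psi q) x)).image (fun j => (psi q)^[j] x),
    hlpos, ?_, ?_, ?_, ?_, ?_, hlfix⟩
  · intro y hy
    rw [Finset.mem_image] at hy
    obtain ⟨j, -, rfl⟩ := hy
    exact hmem j
  · rw [Finset.mem_image]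
    exact ⟨0, Finset.mem_range.2 hlpos, rfl⟩
  · rw [Finset.card_image_of_injOn, Finset.card_range]
    intro i hi j hj hij
    have hi' : i ∈ Set.Iio (Function.minimalPeriod (psi q) x) := by
      simpa using hi
    have hj' : j ∈ Set.Iio (Function.minimalPeriod (psi q) x) := by
      simpa using hj
    exact Function.iterate_injOn_Iio_minimalPeriod hi' hj' hij
  · intro y hy
    rw [Finset.mem_image] at hy ⊢
    obtain ⟨j, hj, rfl⟩ := hy
    rw [Finset.mem_range] at hj
    by_cases hj1 : j + 1 < Function.minimalPeriod (psi q) x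
    · exact ⟨j + 1, Finset.mem_range.2 hj1, by rw [Function.iterate_succ_apply']⟩
    · have hj2 : j + 1 = Function.minimalPeriod (psi q) x := by omega
      refine ⟨0, Finset.mem_range.2 hlpos, ?_⟩
      have h3 : psi q ((psi q)^[j] x) = (psi q)^[j + 1] x := by
        rw [Function.iterate_succ_apply']
      rw [h3, hj2, hlfix]
      rfl
  · intro y hy
    rw [Finset.mem_image] at hy
    obtain ⟨j, -, rfl⟩ := hy
    exact ⟨j, rfl⟩

end Cfsg.Agent.Lib.Helper10.PGM
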