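import Mathlib
import Cfsg.Agent.Lib.Helper10.PGMR4

/-! Project PGM (S2263): row R5 — decomposition of a finite `psi`-invariant set into orbits. -/

set_option autoImplicit false

namespace Cfsg.Agent.Lib.Helper10.PGM

open Cfsg.Agent.Lib.helper15.UNat

/-- R5 -/
theorem exists_list {K : Type*} [Field K] [DecidableEq K] (q : ℕ) (hq : 1 ≤ q)
    (hinj : ∀ x y : K, x ^ q = y ^ q → x = y) (R : Finset K) (μ : K → ℕ) (h0 : (0 : K) ∉ R)
    (hR : ∀ x ∈ R, psi q x ∈ R ∧ μ (psi q x) = μ x) (hμ : ∀ x ∈ R, 1 ≤ μ x) :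
    ∃ L : List (ℕ × ℕ), (∀ e ∈ L, 1 ≤ e.1 ∧ 1 ≤ e.2) ∧
      (L.map (fun e => e.1 * e.2)).sum = ∑ x ∈ R, μ x ∧
      (∀ x ∈ R, ∃ e ∈ L, x ^ Qn q e.1 = 1 ∧ μ x = e.2) ∧
      (∀ l m : ℕ, L = [(l, m)] → ∃ c : K, ∀ x ∈ R, x ^ (Qn q l / (q + 1)) = c) := by
  have hψ := pgmr4_psi_injective q hinj
  induction' hn : R.card using Nat.strong_induction_on with n ih generalizing R
  rcases Finset.eq_empty_or_nonempty R with hRe | ⟨x, hx⟩
  · subst hRe
    refine ⟨[], ?_, ?_, ?_, ?_⟩
    · intro e he; simp at he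
    · simp
    · intro x hx; simp at hx
    · intro l m h; simp at h
  · obtain ⟨l, O, hl, hOR, hxO, hOcard, hOcl, hOit, hfix⟩ :=
      exists_orbit q hinj R h0 (fun y hy => (hR y hy).1) x hx
    -- μ is constant on iterates
    have hμit : ∀ j : ℕ, (psi q)^[j] x ∈ R ∧ μ ((psi q)^[j] x) = μ x := by
      intro j
      induction j with
      | zero => exact ⟨by simpa using hx, rfl⟩
      | succ j ihj =>
        rw [Function.iterate_succ_apply']
        exact ⟨(hR _ ihj.1).1, by rw [(hR _ ihj.1).2, ihj.2]⟩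
    have hμO : ∀ y ∈ O, μ y = μ x := by
      intro y hy
      obtain ⟨j, rfl⟩ := hOit y hy
      exact (hμit j).2
    -- psi maps O onto O
    have himg : O.image (psi q) = O := by
      apply Finset.eq_of_subset_of_card_le
      · intro y hy
        rw [Finset.mem_image] at hy
        obtain ⟨z, hz, rfl⟩ := hy
        exact hOcl z hz
      · rw [Finset.card_image_of_injective _ hψ]
    have hR'cl : ∀ y ∈ R \ O, psi q y ∈ R \ O ∧ μ (psi q y) = μ y := by
      intro y hy
      rw [Finset.mem_sdiff] at hy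
      refine ⟨?_, (hR y hy.1).2⟩
      rw [Finset.mem_sdiff]
      refine ⟨(hR y hy.1).1, ?_⟩
      intro hyO
      rw [← himg, Finset.mem_image] at hyO
      obtain ⟨z, hz, hzy⟩ := hyO
      exact hy.2 (hψ hzy ▸ hz)
    have hcard' : (R \ O).card < n := by
      rw [← hn]
      apply Finset.card_lt_card
      rw [Finset.ssubset_iff_of_subset Finset.sdiff_subset]
      exact ⟨x, hx, fun h => (Finset.mem_sdiff.1 h).2 hxO⟩
    obtain ⟨L', hL'1, hL'sum, hL'root, -⟩ :=
      ih (R \ O).card hcard' (R \ O) (fun h => h0 (Finset.mem_sdiff.1 h).1) hR'cl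
        (fun y hy => hμ y (Finset.mem_sdiff.1 hy).1) rfl
    have hxne : ∀ y ∈ R, y ≠ 0 := fun y hy h => h0 (h ▸ hy)
    refine ⟨(l, μ x) :: L', ?_, ?_, ?_, ?_⟩
    · intro e he
      rcases List.mem_cons.1 he with h | h
      · rw [h]; exact ⟨hl, hμ x hx⟩
      · exact hL'1 e h
    · rw [List.map_cons, List.sum_cons, hL'sum, ← Finset.sum_sdiff hOR, add_comm]
      congr 1
      rw [Finset.sum_congr rfl hμO, Finset.sum_const, hOcard, smul_eq_mul]
    · intro y hy
      by_cases hyO : y ∈ O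
      · refine ⟨(l, μ x), List.mem_cons_self, ?_, hμO y hyO⟩
        obtain ⟨j, rfl⟩ := hOit y hyO
        apply pow_Qn_of_fixed q l hl _ (hxne _ hy)
        rw [← Function.iterate_add_apply, add_comm, Function.iterate_add_apply, hfix]
      · obtain ⟨e, he, h1, h2⟩ := hL'root y (Finset.mem_sdiff.2 ⟨hy, hyO⟩)
        exact ⟨e, List.mem_cons_of_mem _ he, h1, h2⟩
    · intro l' m' hLm
      rw [List.cons.injEq] at hLm
      obtain ⟨h1, h2⟩ := hLm
      rw [Prod.mk.injEq] at h1
      obtain ⟨rfl, -⟩ := h1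
      subst h2
      have hsum0 : ∑ y ∈ R \ O, μ y = 0 := by rw [← hL'sum]; simp
      have hRO : R \ O = ∅ := by
        rw [Finset.eq_empty_iff_forall_notMem]
        intro y hy
        have h3 := Finset.sum_eq_zero_iff.1 hsum0 y hy
        have h4 := hμ y (Finset.mem_sdiff.1 hy).1
        omega
      refine ⟨x ^ (Qn q l / (q + 1)), ?_⟩
      intro y hy
      have hyO : y ∈ O := by
        by_contra h
        have : y ∈ R \ O := Finset.mem_sdiff.2 ⟨hy, h⟩
        rw [hRO] at this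
        simp at this
      obtain ⟨j, rfl⟩ := hOit y hyO
      exact const_on_orbit q l j hq hl x (hxne x hx) hfix

end Cfsg.Agent.Lib.Helper10.PGM
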