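import Mathlib
import Cfsg.Agent.Lib.Helper10.PGM.Defs
import Cfsg.Agent.Lib.Helper1.AMOM3M
import Cfsg.Agent.Lib.Helper16.PU2
import Cfsg.Agent.Lib.Lead.Unitary

/-! Project PGM (S2263): row R6 — eigenvalue multiplicities of `g ∈ GU_d(q)` are `psi`-invariant. -/

set_option autoImplicit false

namespace Cfsg.Agent.Lib.Helper10.PGM

open Matrix Cfsg.Agent.Lib.helper15.UNat

universe u

/-- R6 -/
theorem gu_mult {F : Type u} [Field F] [Fintype F] (p f q d : ℕ) [Fact p.Prime] [CharP F p]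
    (hq : q = p ^ f) (hF : Fintype.card F = q ^ 2) (g : ↥(Cfsg.GU d F q))
    (ν : AlgebraicClosure F) (hν : ν ≠ 0) :
    ((g.1.1 : Matrix (Fin d) (Fin d) F).map
        (algebraMap F (AlgebraicClosure F))).charpoly.rootMultiplicity (psi q ν) =
      ((g.1.1 : Matrix (Fin d) (Fin d) F).map
        (algebraMap F (AlgebraicClosure F))).charpoly.rootMultiplicity ν := by
  classical
  obtain ⟨σ, hσ⟩ := Cfsg.Agent.Lib.Lead.exists_frob hF
  have hσσ : ∀ x, σ (σ x) = x := Cfsg.Agent.Lib.Lead.frob_frob hF σ hσ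
  have hbij : Function.Bijective σ :=
    ⟨σ.injective, Finite.surjective_of_injective σ.injective⟩
  obtain ⟨τ, hτ⟩ : ∃ τ : F ≃+* F, ∀ x, τ x = x ^ q :=
    ⟨RingEquiv.ofBijective σ hbij, fun x => by rw [RingEquiv.ofBijective_apply, hσ]⟩
  have hττ : ((τ : F →+* F).comp (τ : F →+* F)) = RingHom.id F := by
    ext x
    simp only [RingHom.comp_apply, RingHom.coe_coe, RingHom.id_apply]
    rw [hτ, hτ, ← hσ, ← hσ, hσσ]
  obtain ⟨A, hA⟩ : ∃ A : Matrix (Fin d) (Fin d) F, A = g.1.1 := ⟨_, rfl⟩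
  have hmem := (Cfsg.Agent.Lib.Helper16.PU.mem_GU_iff_mat τ hτ g.1).1 g.2
  rw [← hA] at hmem ⊢
  obtain ⟨B, hB⟩ : ∃ B : Matrix (Fin d) (Fin d) F, B = (A.map ⇑τ)ᵀ := ⟨_, rfl⟩
  have hBA : B * A = 1 := by
    rw [hB]
    have := congrArg Matrix.transpose hmem
    rw [Matrix.transpose_mul, Matrix.transpose_transpose, Matrix.transpose_one] at this
    exact this
  have hAB : A * B = 1 := mul_eq_one_comm.1 hBA
  have hc : (B.charpoly).map (τ : F →+* F) = A.charpoly := by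
    rw [hB, Matrix.charpoly_transpose]
    have h1 : (A.map ⇑τ) = A.map ⇑(τ : F →+* F) := rfl
    rw [h1, Matrix.charpoly_map, Polynomial.map_map, hττ, Polynomial.map_id]
  exact Cfsg.Agent.Lib.Helper19.AMO.mult_graph_field p f q hq τ hτ A B hAB hc ν hν

end Cfsg.Agent.Lib.Helper10.PGM
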