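import Mathlib
import Cfsg.Agent.Lib.Helper10.PGM.Defs

/-! Project PGM (S2263): row R7 — basic root data of the characteristic polynomial of an invertible
matrix over an algebraically closed extension. -/

set_option autoImplicit false

namespace Cfsg.Agent.Lib.Helper10.PGM

open Matrix Polynomial

universe u

/-- R7 -/
theorem roots_basic {F : Type u} [Field F] {K : Type*} [Field K] [Algebra F K] [IsAlgClosed K]
    [DecidableEq K] {d : ℕ} (A B : Matrix (Fin d) (Fin d) F) (hAB : A * B = 1) :
    (0 : K) ∉ (A.map (algebraMap F K)).charpoly.roots.toFinset ∧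
    (∀ x ∈ (A.map (algebraMap F K)).charpoly.roots.toFinset,
      1 ≤ (A.map (algebraMap F K)).charpoly.rootMultiplicity x) ∧
    (∀ x : K, (A.map (algebraMap F K)).charpoly.rootMultiplicity x ≠ 0 →
      x ∈ (A.map (algebraMap F K)).charpoly.roots.toFinset) ∧
    ∑ x ∈ (A.map (algebraMap F K)).charpoly.roots.toFinset,
      (A.map (algebraMap F K)).charpoly.rootMultiplicity x = d := by
  obtain ⟨χ, hχ⟩ : ∃ χ : K[X], χ = (A.map (algebraMap F K)).charpoly := ⟨_, rfl⟩
  rw [← hχ]
  have hχ0 : χ ≠ 0 := by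
    rw [hχ]
    exact (Matrix.charpoly_monic _).ne_zero
  have hmem : ∀ x : K, x ∈ χ.roots.toFinset ↔ 1 ≤ χ.rootMultiplicity x := by
    intro x
    rw [Multiset.mem_toFinset, mem_roots hχ0, ← rootMultiplicity_pos hχ0]
    exact Iff.rfl
  have hdetK : (A.map (algebraMap F K)).det * (B.map (algebraMap F K)).det = 1 := by
    rw [← Matrix.det_mul, ← Matrix.map_mul, hAB]
    simp
  refine ⟨?_, ?_, ?_, ?_⟩
  · intro h
    rw [Multiset.mem_toFinset, mem_roots hχ0, IsRoot.def, ← coeff_zero_eq_eval_zero] at h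
    have h2 := Matrix.det_eq_sign_charpoly_coeff (A.map (algebraMap F K))
    rw [← hχ, h, mul_zero] at h2
    rw [h2, zero_mul] at hdetK
    exact zero_ne_one hdetK
  · intro x hx
    exact (hmem x).1 hx
  · intro x hx
    exact (hmem x).2 (by omega)
  · have h1 : ∑ x ∈ χ.roots.toFinset, χ.rootMultiplicity x =
        ∑ x ∈ χ.roots.toFinset, χ.roots.count x :=
      Finset.sum_congr rfl fun x _ => (count_roots χ).symm
    rw [h1, Multiset.toFinset_sum_count_eq]
    have hsplit : χ.Splits := IsAlgClosed.splits _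
    rw [splits_iff_card_roots.1 hsplit, hχ, Matrix.charpoly_natDegree_eq_dim]
    simp

end Cfsg.Agent.Lib.Helper10.PGM
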