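import Mathlib
import Cfsg.Agent.Lib.Helper10.PGM.Defs
import Cfsg.Agent.Lib.Helper16.PGUr1

/-! Project PGM (S2263): row U2 — a scalar power bounds the order in `PGU`. -/

set_option autoImplicit false

namespace Cfsg.Agent.Lib.Helper10.PGM

open Matrix

/-- U2 -/
theorem order_le_of_pow_scalar {F : Type*} [Field F] (q d n : ℕ) (hn : 0 < n)
    (g : ↥(Cfsg.GU d F q)) (c : F)
    (h : (g.1.1 : Matrix (Fin d) (Fin d) F) ^ n = c • 1) :
    orderOf (QuotientGroup.mk g : PGU d F q) ≤ n := by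
  apply orderOf_le_of_pow_eq_one hn
  rw [← QuotientGroup.mk_pow, QuotientGroup.eq_one_iff]
  apply Cfsg.Agent.Lib.Helper16.PGUR.scalar_gu_center (g ^ n) c
  rw [← h]
  simp [SubgroupClass.coe_pow, Units.val_pow_eq_pow_val]

end Cfsg.Agent.Lib.Helper10.PGM
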