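import Mathlib
import Cfsg.Agent.Lib.Helper10.PGMNat0
import Cfsg.Agent.Lib.Helper10.PGMR5
import Cfsg.Agent.Lib.Helper10.PGMR6
import Cfsg.Agent.Lib.Helper10.PGMR7
import Cfsg.Agent.Lib.Helper24.PGMU1
import Cfsg.Agent.Lib.Helper25.MEOE
import Cfsg.Agent.Lib.Helper1.MEO.G1

set_option autoImplicit false

namespace Cfsg.Agent.Lib.Helper10.PGM

open Matrix Cfsg.Agent.Lib.helper15.UNat

universe u

theorem gu_orbit_list {F : Type u} [Field F] [Fintype F] (p f q d : ℕ) [Fact p.Prime] [CharP F p]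
    (hf : 1 ≤ f) (hq : q = p ^ f) (hF : Fintype.card F = q ^ 2) (g : ↥(Cfsg.GU d F q)) :
    ∃ L : List (ℕ × ℕ), (∀ e ∈ L, 1 ≤ e.1 ∧ 1 ≤ e.2) ∧
      (L.map (fun e => e.1 * e.2)).sum = d ∧
      (∀ a : ℕ, maxm L ≤ p ^ a →
        (g.1.1 : Matrix (Fin d) (Fin d) F) ^ (lcmL (L.map (fun e => Qn q e.1)) * p ^ a) = 1) ∧
      (∀ l m : ℕ, L = [(l, m)] → ∀ a : ℕ, m ≤ p ^ a →
        ∃ c : F, (g.1.1 : Matrix (Fin d) (Fin d) F) ^ (Qn q l / (q + 1) * p ^ a) = c • 1) := by
  classical
  have hp : p.Prime := Fact.out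
  have hp2 : 2 ≤ p := hp.two_le
  have hq2 : 2 ≤ q := by
    rw [hq]
    calc 2 ≤ p := hp2
      _ = p ^ 1 := (pow_one p).symm
      _ ≤ p ^ f := Nat.pow_le_pow_right (by omega) hf
  obtain ⟨A, hA⟩ : ∃ A : Matrix (Fin d) (Fin d) F, A = g.1.1 := ⟨_, rfl⟩
  obtain ⟨B, hB⟩ : ∃ B : Matrix (Fin d) (Fin d) F, B = (g⁻¹).1.1 := ⟨_, rfl⟩
  have hAB : A * B = 1 := by
    rw [hA, hB]
    have h1 : g * g⁻¹ = 1 := mul_inv_cancel g
    have h2 := congrArg (fun x : ↥(Cfsg.GU d F q) => (x.1.1 : Matrix (Fin d) (Fin d) F)) h1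
    simpa using h2
  let K := AlgebraicClosure F
  haveI : CharP K p := charP_of_injective_algebraMap (algebraMap F K).injective p
  obtain ⟨AK, hAK⟩ : ∃ AK : Matrix (Fin d) (Fin d) K, AK = A.map (algebraMap F K) := ⟨_, rfl⟩
  obtain ⟨h0, hμ1, hmem, hsum⟩ := roots_basic (K := K) A B hAB
  rw [← hAK] at h0 hμ1 hmem hsum
  have hinj : ∀ x y : K, x ^ q = y ^ q → x = y := fun x y h =>
    Cfsg.Agent.Lib.Helper1.MEO.g1_hinj p f q hq x y h
  have hmult : ∀ ν : K, ν ≠ 0 → AK.charpoly.rootMultiplicity (psi q ν) = AK.charpoly.rootMultiplicity ν := by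
    intro ν hν
    rw [hAK, hA]
    exact gu_mult p f q d hq hF g ν hν
  have hR : ∀ x ∈ AK.charpoly.roots.toFinset,
      psi q x ∈ AK.charpoly.roots.toFinset ∧
        AK.charpoly.rootMultiplicity (psi q x) = AK.charpoly.rootMultiplicity x := by
    intro x hx
    have hx0 : x ≠ 0 := fun h => h0 (h ▸ hx)
    have h1 := hmult x hx0
    refine ⟨hmem _ ?_, h1⟩
    rw [h1]
    have := hμ1 x hx
    omega
  obtain ⟨L, hL1, hLsum, hLroot, hLsingle⟩ :=
    exists_list q (by omega) hinj AK.charpoly.roots.toFinset (fun x => AK.charpoly.rootMultiplicity x)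
      h0 hR hμ1
  have hχ0 : AK.charpoly ≠ 0 := (Matrix.charpoly_monic AK).ne_zero
  have hrootmem : ∀ x : K, AK.charpoly.IsRoot x → x ∈ AK.charpoly.roots.toFinset := by
    intro x hx
    rw [Multiset.mem_toFinset, Polynomial.mem_roots hχ0]
    exact hx
  have hmapinj : Function.Injective (fun M : Matrix (Fin d) (Fin d) F => M.map (algebraMap F K)) := by
    intro M N h
    ext i j
    have := congrFun (congrFun h i) j
    simp only [Matrix.map_apply] at this
    exact (algebraMap F K).injective this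
  have hmappow : ∀ n : ℕ, (A ^ n).map (algebraMap F K) = AK ^ n := by
    intro n
    rw [hAK]
    have := map_pow (RingHom.mapMatrix (m := Fin d) (algebraMap F K)) A n
    simpa [RingHom.mapMatrix_apply] using this
  refine ⟨L, hL1, ?_, ?_, ?_⟩
  · rw [hLsum, hsum]
  · intro a ha
    have hNpos : 0 < lcmL (L.map (fun e => Qn q e.1)) := by
      apply lcmL_pos
      intro x hx
      rw [List.mem_map] at hx
      obtain ⟨e, he, rfl⟩ := hx
      exact Qn_pos q e.1 hq2 (hL1 e he).1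
    have hpow := Cfsg.Agent.Lib.Helper1.MEO.pow_eq_of_roots_mult p AK
      (lcmL (L.map (fun e => Qn q e.1))) a hNpos 1 ?_ ?_
    · rw [one_pow, one_smul] at hpow
      rw [← hA]
      apply hmapinj
      show (A ^ _).map (algebraMap F K) = (1 : Matrix (Fin d) (Fin d) F).map (algebraMap F K)
      rw [hmappow, hpow]
      simp
    · intro x hx
      obtain ⟨e, he, hxe, -⟩ := hLroot x (hrootmem x hx)
      have hdvd : Qn q e.1 ∣ lcmL (L.map (fun e => Qn q e.1)) :=
        dvd_lcmL _ _ (List.mem_map.2 ⟨e, he, rfl⟩)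
      obtain ⟨k, hk⟩ := hdvd
      rw [hk, pow_mul, hxe, one_pow]
    · intro x
      by_cases hx : AK.charpoly.rootMultiplicity x = 0
      · rw [hx]; exact Nat.zero_le _
      · obtain ⟨e, he, -, hxe⟩ := hLroot x (hmem x hx)
        have h1 : AK.charpoly.rootMultiplicity x = e.2 := hxe
        rw [h1]
        exact le_trans (le_maxm L e he) ha
  · intro l m hLm a ha
    obtain ⟨c, hc⟩ := hLsingle l m hLm
    have hlm := hL1 (l, m) (by rw [hLm]; simp)
    have htpos : 0 < Qn q l / (q + 1) := by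
      have h1 := t_mul q l (by omega)
      have h2 := Qn_pos q l hq2 hlm.1
      rcases Nat.eq_zero_or_pos (Qn q l / (q + 1)) with h0' | h0'
      · rw [h0', zero_mul] at h1; omega
      · exact h0'
    have hpow := Cfsg.Agent.Lib.Helper1.MEO.pow_eq_of_roots_mult p AK
      (Qn q l / (q + 1)) a htpos c ?_ ?_
    · have h3 : (A ^ (Qn q l / (q + 1) * p ^ a)).map (algebraMap F K) = (c ^ p ^ a) • 1 := by
        rw [hmappow, hpow]
      obtain ⟨c', hc'⟩ := descend_scalar _ _ h3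
      exact ⟨c', by rw [← hA]; exact hc'⟩
    · intro x hx
      exact hc x (hrootmem x hx)
    · intro x
      by_cases hx : AK.charpoly.rootMultiplicity x = 0
      · rw [hx]; exact Nat.zero_le _
      · obtain ⟨e, he, -, hxe⟩ := hLroot x (hmem x hx)
        have h1 : AK.charpoly.rootMultiplicity x = e.2 := hxe
        rw [hLm] at he
        simp only [List.mem_singleton] at he
        rw [h1, he]
        exact ha

end Cfsg.Agent.Lib.Helper10.PGM
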