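import Mathlib
import Cfsg.Agent.Lib.Helper10.PGMNat0
import Cfsg.Agent.Lib.Helper10.PGMAC
import Cfsg.Agent.Lib.Helper10.PGMU2
import Cfsg.Agent.Lib.Helper10.PGMU4
import Cfsg.Agent.Lib.Helper24.PGMU3

set_option autoImplicit false

namespace Cfsg.Agent.Lib.Helper10.PGM

open Matrix Cfsg.Agent.Lib.helper15.UNat

universe u

theorem upper {F : Type u} [Field F] [Fintype F] (p f d : ℕ) (hp : p.Prime) (hf : 1 ≤ f) (q : ℕ)
    (hq : q = p ^ f) (hF : Fintype.card F = q ^ 2) (hd : 3 ≤ d) (g : PGU d F q) :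
    orderOf g ≤ Mx p f d := by
  obtain ⟨g, rfl⟩ := QuotientGroup.mk_surjective g
  haveI : Fact p.Prime := ⟨hp⟩
  haveI : CharP F p := charP_of_card p f q hp hf hq hF
  obtain ⟨L, hL1, hLsum, hmulti, hsingle⟩ := gu_orbit_list p f q d hf hq hF g
  obtain ⟨hac2, hac1⟩ := ac p f d hp hf hd L hL1 hLsum
  have hp2 : 2 ≤ p := hp.two_le
  by_cases h2 : 2 ≤ L.length
  · have hle : maxm L ≤ p ^ Nat.clog p (maxm L) := Nat.le_pow_clog hp.one_lt _
    have hpow := hmulti _ hle
    have hq2' : 2 ≤ q := by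
      rw [hq]
      calc 2 ≤ p := hp2
        _ = p ^ 1 := (pow_one p).symm
        _ ≤ p ^ f := Nat.pow_le_pow_right (by omega) hf
    have hNpos : 0 < lcmL (L.map (fun e => Qn q e.1)) * p ^ Nat.clog p (maxm L) := by
      apply Nat.mul_pos
      · apply lcmL_pos
        intro x hx
        rw [List.mem_map] at hx
        obtain ⟨e, he, rfl⟩ := hx
        exact Qn_pos q e.1 hq2' (hL1 e he).1
      · exact Nat.pos_of_ne_zero (pow_ne_zero _ (by omega))
    have h1 := order_le_of_pow_scalar q d _ hNpos g 1 (by rw [hpow, one_smul])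
    have hb := hac2 h2
    rw [← hq, mul_comm] at hb
    exact le_trans h1 hb
  · -- single orbit
    have hlen : L.length = 1 := by
      rcases Nat.lt_or_ge L.length 1 with h0 | h0
      · exfalso
        have : L = [] := List.length_eq_zero_iff.1 (by omega)
        rw [this] at hLsum
        simp at hLsum
        omega
      · omega
    obtain ⟨e, rfl⟩ := List.length_eq_one_iff.1 hlen
    obtain ⟨l, m⟩ := e
    have hle : m ≤ p ^ Nat.clog p m := Nat.le_pow_clog hp.one_lt _
    obtain ⟨c, hc⟩ := hsingle l m rfl _ hle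
    have hlm := hL1 (l, m) (by simp)
    have hq2 : 2 ≤ q := by
      rw [hq]
      calc 2 ≤ p := hp2
        _ = p ^ 1 := (pow_one p).symm
        _ ≤ p ^ f := Nat.pow_le_pow_right (by omega) hf
    have htpos : 0 < Qn q l / (q + 1) := by
      have h1 := t_mul q l (by omega)
      have h2 := Qn_pos q l hq2 hlm.1
      rcases Nat.eq_zero_or_pos (Qn q l / (q + 1)) with h0 | h0
      · rw [h0, zero_mul] at h1; omega
      · exact h0
    have hNpos : 0 < Qn q l / (q + 1) * p ^ Nat.clog p m :=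
      Nat.mul_pos htpos (Nat.pos_of_ne_zero (pow_ne_zero _ (by omega)))
    have h1 := order_le_of_pow_scalar q d _ hNpos g c hc
    have hb := hac1 l m rfl
    rw [← hq, mul_comm] at hb
    exact le_trans h1 hb

end Cfsg.Agent.Lib.Helper10.PGM
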