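import Mathlib
import Cfsg.Agent.Lib.Helper16.SympTrans
import Cfsg.Agent.Lib.Helper16.PS4.Defs

set_option autoImplicit false

/-! Project PS4 (S5320 part B, helper16 leads), sub-lemma SB (helper10): a hyperbolic pair extends
to (the columns of) an element of the symplectic group. -/

namespace Cfsg.Agent.Lib.Helper10.PS4

open Module Cfsg.Agent.Lib.Helper16 Cfsg.Agent.Lib.Lead

universe u v

theorem alt_family_pair {F : Type u} [Field F] (m : ℕ) {V : Type v} [AddCommGroup V] [Module F V]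
    [FiniteDimensional F V] (hV : finrank F V = 2 * (m + 1)) (ω : LinearMap.BilinForm F V)
    (hω : ω.IsAlt) (hnd : ω.Nondegenerate) (e₀ f₀ : V) (hef : ω e₀ f₀ = 1) :
    ∃ e f : Fin (m + 1) → V, e 0 = e₀ ∧ f 0 = f₀ ∧
      (∀ i j, ω (e i) (f j) = if i = j then 1 else 0) ∧
      (∀ i j, ω (e i) (e j) = 0 ∧ ω (f i) (f j) = 0) := by
  have hfe : ω f₀ e₀ = -1 := by rw [← hω.neg_eq, hef]
  have hfr := finrank_altPerp ω hω hef
  have hnd' := altPerp_nondeg ω hω hnd hef
  have hω' : (ω.restrict (altPerp ω e₀ f₀)).IsAlt := fun x => hω (x : V)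
  obtain ⟨e', f', hef', hee'⟩ := alt_family m (by omega) (ω.restrict (altPerp ω e₀ f₀)) hω' hnd'
  have hmem : ∀ w : altPerp ω e₀ f₀, ω e₀ (w : V) = 0 ∧ ω f₀ (w : V) = 0 :=
    fun w => (mem_altPerp ω e₀ f₀ w).mp w.2
  have hmem' : ∀ w : altPerp ω e₀ f₀, ω (w : V) e₀ = 0 ∧ ω (w : V) f₀ = 0 := by
    intro w
    constructor
    · rw [← hω.neg_eq, (hmem w).1, neg_zero]
    · rw [← hω.neg_eq, (hmem w).2, neg_zero]
  refine ⟨Fin.cons e₀ (fun i => (e' i : V)), Fin.cons f₀ (fun i => (f' i : V)), rfl, rfl, ?_, ?_⟩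
  · intro i j
    refine Fin.cases ?_ (fun i => ?_) i <;> refine Fin.cases ?_ (fun j => ?_) j
    · simp only [Fin.cons_zero]
      simpa using hef
    · simp only [Fin.cons_zero, Fin.cons_succ]
      rw [(hmem (f' j)).1, if_neg (Fin.succ_ne_zero j).symm]
    · simp only [Fin.cons_zero, Fin.cons_succ]
      rw [(hmem' (e' i)).2, if_neg (Fin.succ_ne_zero i)]
    · simp only [Fin.cons_succ, Fin.succ_inj]
      exact hef' i j
  · intro i j
    refine Fin.cases ?_ (fun i => ?_) i <;> refine Fin.cases ?_ (fun j => ?_) j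
    · simp only [Fin.cons_zero]
      exact ⟨hω e₀, hω f₀⟩
    · simp only [Fin.cons_zero, Fin.cons_succ]
      exact ⟨(hmem (e' j)).1, (hmem (f' j)).2⟩
    · simp only [Fin.cons_zero, Fin.cons_succ]
      exact ⟨(hmem' (e' i)).1, (hmem' (f' i)).2⟩
    · simp only [Fin.cons_succ]
      exact hee' i j

theorem symplectic_basis_of_family' {F : Type u} [Field F] {V : Type v} [AddCommGroup V]
    [Module F V] [FiniteDimensional F V] {m : ℕ} (hV : finrank F V = 2 * m)
    (ω : LinearMap.BilinForm F V) (hω : ω.IsAlt)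
    (e f : Fin m → V) (hef : ∀ i j, ω (e i) (f j) = if i = j then 1 else 0)
    (hee : ∀ i j, ω (e i) (e j) = 0 ∧ ω (f i) (f j) = 0) :
    ∃ b : Basis (Fin m ⊕ Fin m) F V, LinearMap.BilinForm.toMatrix b ω = Matrix.J (Fin m) F ∧
      (∀ i, b (Sum.inr i) = e i) ∧ ∀ i, b (Sum.inl i) = f i := by
  have hfe : ∀ i j, ω (f i) (e j) = if i = j then -1 else 0 := by
    intro i j
    rw [← hω.neg_eq, hef j i]
    by_cases h : i = j
    · subst h; simp
    · rw [if_neg h, if_neg (fun h' => h h'.symm), neg_zero]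
  set v : Fin m ⊕ Fin m → V := Sum.elim f e with hv
  set w : Fin m ⊕ Fin m → V := Sum.elim e f with hw
  set d : Fin m ⊕ Fin m → F := Sum.elim (fun _ => -1) (fun _ => 1) with hd
  have hd0 : ∀ j, d j ≠ 0 := by
    rintro (j | j)
    · simp [hd]
    · simp [hd]
  have hdual : ∀ i j, ω (v i) (w j) = if i = j then d j else 0 := by
    intro i j
    rcases i with i | i <;> rcases j with j | j
    · simp only [hv, hw, hd, Sum.elim_inl, hfe i j, Sum.inl.injEq]
    · simp [hv, hw, (hee i j).2]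
    · simp [hv, hw, (hee i j).1]
    · simp only [hv, hw, hd, Sum.elim_inr, hef i j, Sum.inr.injEq]
  have hli := li_of_dual ω v w d hd0 hdual
  have hcard : Fintype.card (Fin m ⊕ Fin m) = finrank F V := by
    rw [hV, Fintype.card_sum, Fintype.card_fin]; ring
  refine ⟨basisOfLinearIndependentOfCardEqFinrank' v hli hcard, ?_, ?_, ?_⟩
  · ext i j
    rw [LinearMap.BilinForm.toMatrix_apply, coe_basisOfLinearIndependentOfCardEqFinrank']
    rcases i with i | i <;> rcases j with j | j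
    · simp [hv, Matrix.J, (hee i j).2]
    · simp only [hv, Sum.elim_inl, Sum.elim_inr, hfe i j, Matrix.J, Matrix.fromBlocks_apply₁₂,
        Matrix.neg_apply, Matrix.one_apply]
      by_cases h : i = j
      · simp [h]
      · simp [h]
    · simp only [hv, Sum.elim_inl, Sum.elim_inr, hef i j, Matrix.J, Matrix.fromBlocks_apply₂₁,
        Matrix.one_apply]
    · simp [hv, Matrix.J, (hee i j).1]
  · intro i
    rw [coe_basisOfLinearIndependentOfCardEqFinrank', hv]
    rfl
  · intro i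
    rw [coe_basisOfLinearIndependentOfCardEqFinrank', hv]
    rfl

open Matrix

variable {F : Type*} [Field F]

/-- **SB**: a hyperbolic pair `(e₀, f₀)` (`sympB e₀ f₀ = 1`) consists of the columns number
`inr 0` and `inl 0` of an element of the symplectic group. -/
theorem exists_sp_of_pair (m : ℕ) (e₀ f₀ : Fin (m + 1) ⊕ Fin (m + 1) → F)
    (hef : sympB F (m + 1) e₀ f₀ = 1) :
    ∃ A : Matrix.symplecticGroup (Fin (m + 1)) F,
      (A : Matrix (Fin (m + 1) ⊕ Fin (m + 1)) (Fin (m + 1) ⊕ Fin (m + 1)) F) *ᵥ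
        (Pi.single (Sum.inr 0) 1) = e₀ ∧
      (A : Matrix (Fin (m + 1) ⊕ Fin (m + 1)) (Fin (m + 1) ⊕ Fin (m + 1)) F) *ᵥ
        (Pi.single (Sum.inl 0) 1) = f₀ := by
  have hV : finrank F (Fin (m + 1) ⊕ Fin (m + 1) → F) = 2 * (m + 1) := by
    rw [Module.finrank_fintype_fun_eq_card, Fintype.card_sum, Fintype.card_fin]; ring
  obtain ⟨e, f, he0, hf0, hef', hee⟩ :=
    alt_family_pair m hV (sympB F (m + 1)) sympB_isAlt sympB_nondegenerate e₀ f₀ hef
  obtain ⟨b, hb, hbe, hbf⟩ :=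
    symplectic_basis_of_family' hV (sympB F (m + 1)) sympB_isAlt e f hef' hee
  let P : Matrix (Fin (m + 1) ⊕ Fin (m + 1)) (Fin (m + 1) ⊕ Fin (m + 1)) F :=
    Matrix.of (fun k i => b i k)
  have hP : P ∈ Matrix.symplecticGroup (Fin (m + 1)) F := by
    rw [SymplecticGroup.mem_iff']
    ext k l
    rw [Cfsg.Agent.Lib.Lead.gram_apply]
    have := congrFun (congrFun hb k) l
    rw [LinearMap.BilinForm.toMatrix_apply] at this
    exact this
  refine ⟨⟨P, hP⟩, ?_, ?_⟩
  · show P.mulVec (Pi.single (Sum.inr 0) 1) = e₀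
    rw [Matrix.mulVec_single_one]
    funext k
    show b (Sum.inr 0) k = e₀ k
    rw [hbe, he0]
  · show P.mulVec (Pi.single (Sum.inl 0) 1) = f₀
    rw [Matrix.mulVec_single_one]
    funext k
    show b (Sum.inl 0) k = f₀ k
    rw [hbf, hf0]

end Cfsg.Agent.Lib.Helper10.PS4
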