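import Mathlib
import Cfsg.Prelude.Def_Characters
import Cfsg.Prelude.Def_Blocks
import Cfsg.Prelude.Def_Local
import Cfsg.Prelude.Def_CaseTheorems
import Cfsg.Agent.Lib.helper2.SchurBound1

/-!
# Project PSB, piece MAIN (core): S4472 from GT and SUB
-/

set_option autoImplicit false

namespace Cfsg.Agent.Lib.Helper10.PSB

/-- MAIN, core version: the statements of GT and SUB (for this group) enter as hypotheses -/
theorem psbmain_core {G : Type*} [Group G] [Finite G] (χ : G → ℂ) (hχ : Cfsg.IsCharacter G χ)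
    (hfaith : ∀ g : G, χ g = χ 1 → g = 1) (n : ℕ) (hn : Cfsg.charDegree χ = n) (p : ℕ)
    (hp : p.Prime) (hsolv : Cfsg.IsPSolvable p G)
    (hgt : ∃ H P : Subgroup G, (Nat.card H).Coprime p ∧ IsPGroup p P ∧
      P ≤ Subgroup.normalizer (H : Set G) ∧
      ((Cfsg.pCore p G).index).factorization p +
        (Nat.card ↥(P ⊓ Subgroup.centralizer (H : Set G))).factorization p ≤
          (Nat.card P).factorization p)
    (hsub : ∀ (n : ℕ) (_ : χ 1 = (n : ℂ)) (H P : Subgroup G) (_ : (Nat.card H).Coprime p)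
      (_ : IsPGroup p P) (_ : P ≤ Subgroup.normalizer (H : Set G)),
      (Nat.card P).factorization p ≤
        (Nat.card ↥(P ⊓ Subgroup.centralizer (H : Set G))).factorization p +
          ∑ i ∈ Finset.range (n + 1), n / ((p - 1) * p ^ i)) :
    ((Cfsg.pCore p G).index).factorization p ≤
      ∑ i ∈ Finset.range (n + 1), n / ((p - 1) * p ^ i) := by
  obtain ⟨n', hn'⟩ := Cfsg.Agent.Lib.helper2.isCharacter_one_eq_nat hχ
  have hnn : n' = n := by
    rw [← hn]
    unfold Cfsg.charDegree
    rw [hn', Complex.natCast_re, Nat.floor_natCast]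
  subst hnn
  obtain ⟨H, P, hH, hP, hPH, hle⟩ := hgt
  have := hsub n' hn' H P hH hP hPH
  omega

end Cfsg.Agent.Lib.Helper10.PSB
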