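import Mathlib
import Cfsg.Prelude.Def_Characters
import Cfsg.Agent.Lib.Helper22.PSBCHAR
import Cfsg.Agent.Lib.Helper9.PSBPB
import Cfsg.Agent.Lib.Helper25.SylowNormalizerExtend
import Cfsg.Agent.Lib.Helper25.Gagola
import Cfsg.Agent.Lib.helper2.CharNat

/-!
# Project PSB, piece SPL: the split case `L = H P`
-/

set_option autoImplicit false

namespace Cfsg.Agent.Lib.Helper10.PSB

open Cfsg.Agent.Lib.Helper11

/-- if `Ψ g = Ψ 1` then `Ψ` takes the value `Ψ 1` on every commutator `g h g⁻¹ h⁻¹` -/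
theorem psbspl_comm_ker {L : Type*} [Group L] [Finite L] {Ψ : L → ℂ} (hΨ : Cfsg.IsCharacter L Ψ)
    (g : L) (hg : Ψ g = Ψ 1) (h : L) : Ψ (g * h * g⁻¹ * h⁻¹) = Ψ 1 := by
  classical
  haveI : Fintype L := Fintype.ofFinite L
  haveI : Fintype (Cfsg.IrrCharacter L) := Fintype.ofFinite _
  obtain ⟨m, hm, hexp⟩ := Cfsg.Agent.Lib.helper2.isCharacter_expansion hΨ
  have hval : ∀ y : L, Ψ y = ∑ ξ : Cfsg.IrrCharacter L, (m ξ : ℂ) * (ξ : L → ℂ) y := by
    intro y
    conv_lhs => rw [hexp]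
    rw [Finset.sum_apply]
    rfl
  rw [hval, hval 1]
  apply Finset.sum_congr rfl
  intro ξ _
  by_cases h0 : m ξ = 0
  · rw [h0]; simp
  · congr 1
    have hne : Cfsg.classInner Ψ (ξ : L → ℂ) ≠ 0 := by
      rw [hm ξ]
      exact_mod_cast h0
    have hξg : (ξ : L → ℂ) g = (ξ : L → ℂ) 1 :=
      Cfsg.Agent.Lib.Helper25.nc_ker_const hΨ (ξ : L → ℂ) ξ.2 hne g hg
    have hgk : g ∈ Cfsg.Agent.Lib.Helper25.irrKer ξ :=
      (Cfsg.Agent.Lib.Helper25.mem_irrKer ξ g).mpr hξg
    have hn : (Cfsg.Agent.Lib.Helper25.irrKer ξ).Normal := inferInstance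
    have hc : g * h * g⁻¹ * h⁻¹ ∈ Cfsg.Agent.Lib.Helper25.irrKer ξ := by
      have h1 : h * g⁻¹ * h⁻¹ ∈ Cfsg.Agent.Lib.Helper25.irrKer ξ :=
        hn.conj_mem g⁻¹ ((Cfsg.Agent.Lib.Helper25.irrKer ξ).inv_mem hgk) h
      have h2 : g * h * g⁻¹ * h⁻¹ = g * (h * g⁻¹ * h⁻¹) := by group
      rw [h2]
      exact (Cfsg.Agent.Lib.Helper25.irrKer ξ).mul_mem hgk h1
    exact (Cfsg.Agent.Lib.Helper25.mem_irrKer ξ _).mp hc

-- piece SPL
theorem bound_split {L : Type*} [Group L] [Finite L] (p : ℕ) [Fact p.Prime] (H : Subgroup L)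
    [H.Normal] (hH : (Nat.card H).Coprime p) (k : ℕ) (hidx : H.index = p ^ k)
    (χ : L → ℂ) (hχ : Cfsg.IsCharacter L χ) (hfaith : ∀ g : L, χ g = χ 1 → g = 1)
    (n : ℕ) (hn : χ 1 = (n : ℂ)) (P : Subgroup L) (hP : IsPGroup p P) :
    (Nat.card P).factorization p ≤
      (Nat.card ↥(P ⊓ Subgroup.centralizer (H : Set L))).factorization p +
        ∑ i ∈ Finset.range (n + 1), n / ((p - 1) * p ^ i) := by
  classical
  have hp : p.Prime := Fact.out
  obtain ⟨a, ha⟩ := IsPGroup.iff_card.mp hP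
  have hfa : (Nat.card P).factorization p = a := by
    rw [ha, Nat.Prime.factorization_pow hp]
    simp
  rw [hfa]
  rcases Nat.eq_zero_or_pos k with hk0 | hkpos
  · -- `H = ⊤`, so `P = 1`
    subst hk0
    rw [pow_zero] at hidx
    have hcardL : Nat.card L = Nat.card H := by
      rw [← Subgroup.card_mul_index H, hidx, mul_one]
    have hdvd : p ^ a ∣ Nat.card H := by
      rw [← ha, ← hcardL]
      exact Subgroup.card_subgroup_dvd_card P
    have : a = 0 := by
      by_contra h0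
      have h1 : p ∣ Nat.card H := dvd_trans (dvd_pow_self p h0) hdvd
      have h2 := Nat.Coprime.eq_one_of_dvd hH.symm h1
      exact hp.one_lt.ne' h2
    omega
  · have hcop : (Nat.card H).Coprime H.index := by
      rw [hidx]; exact Nat.Coprime.pow_right k hH
    obtain ⟨Ψ, hΨ, hres, hinv⟩ := prat_char H hcop χ hχ
    have hΨ1 : Ψ 1 = (n : ℂ) := by
      have := hres 1
      rw [Subgroup.coe_one] at this
      rw [this, hn]
    -- elements of `P` are killed by `p ^ k`
    have hxk : ∀ x : P, (x : L) ^ H.index = 1 := by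
      intro x
      have h1 : (x : L) ^ H.index ∈ H := Subgroup.pow_index_mem H (x : L)
      obtain ⟨j, hj⟩ := hP x
      have h2 : ((x : L) ^ H.index) ^ p ^ j = 1 := by
        rw [← pow_mul, mul_comm, pow_mul]
        have : (x : L) ^ p ^ j = 1 := by
          have := congrArg Subtype.val hj
          simpa using this
        rw [this, one_pow]
      have h3 : ((x : L) ^ H.index) ^ Nat.card H = 1 := by
        have e1 : (⟨(x : L) ^ H.index, h1⟩ : H) ^ Nat.card H = 1 := pow_card_eq_one'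
        have e2 := congrArg Subtype.val e1
        rw [Subgroup.coe_pow, Subgroup.coe_one] at e2
        exact e2
      have h4 : orderOf ((x : L) ^ H.index) ∣ Nat.gcd (p ^ j) (Nat.card H) :=
        Nat.dvd_gcd (orderOf_dvd_of_pow_eq_one h2) (orderOf_dvd_of_pow_eq_one h3)
      have h5 : Nat.gcd (p ^ j) (Nat.card H) = 1 := (Nat.Coprime.pow_right j hH).symm
      rw [h5, Nat.dvd_one, orderOf_eq_one_iff] at h4
      exact h4
    set ψ : P → ℂ := fun x => Ψ (x : L) with hψ
    have hψc : Cfsg.IsCharacter P ψ := Cfsg.Agent.Lib.helper2.isCharacter_restrict hΨ P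
    have hψ1 : ψ 1 = (n : ℂ) := hΨ1
    have hinvP : ∀ (x : P) (m : ℕ), m.Coprime p → ψ (x ^ m) = ψ x := by
      intro x m hm
      have := hinv (x : L) m (hxk x) (by rw [hidx]; exact Nat.Coprime.pow_right k hm)
      simpa [hψ] using this
    set K : Subgroup P := (P ⊓ Subgroup.centralizer (H : Set L)).subgroupOf P with hK
    have hKmem : ∀ x : P, ψ x = ψ 1 → x ∈ K := by
      intro x hx
      rw [hK, Subgroup.mem_subgroupOf]
      refine ⟨x.2, ?_⟩
      intro h hh
      have hg : Ψ (x : L) = Ψ 1 := hx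
      have hc := psbspl_comm_ker hΨ (x : L) hg h
      have hcH : (x : L) * h * (x : L)⁻¹ * h⁻¹ ∈ H :=
        H.mul_mem (‹H.Normal›.conj_mem h hh (x : L)) (H.inv_mem hh)
      have h1 : χ ((x : L) * h * (x : L)⁻¹ * h⁻¹) = χ 1 := by
        have h2 := hres ⟨_, hcH⟩
        have h3 := hres 1
        rw [Subgroup.coe_one] at h3
        rw [← h2, ← h3]
        exact hc
      have h4 := hfaith _ h1
      have h5 : (x : L) * h = h * (x : L) := by
        have : (x : L) * h * (x : L)⁻¹ * h⁻¹ * (h * (x : L)) = h * (x : L) := by rw [h4, one_mul]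
        rw [← this]; group
      exact h5.symm
    have hcardK : Nat.card K = Nat.card ↥(P ⊓ Subgroup.centralizer (H : Set L)) :=
      Nat.card_congr (Subgroup.subgroupOfEquivOfLe inf_le_left).toEquiv
    have := pb_bound p a ha ψ hψc n hψ1 hinvP K hKmem
    rw [hcardK] at this
    exact this

end Cfsg.Agent.Lib.Helper10.PSB
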