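import Mathlib
import Cfsg.Prelude.Def_Characters
import Cfsg.Agent.Lib.helper2.CharNat

/-!
# Project PSB, piece SUB (core, backup by helper10): transport of `bound_split` to subgroups
`H`, `P` of `G` through the group `↥(H ⊔ P)`; the SPL statement is a hypothesis.
-/

set_option autoImplicit false

namespace Cfsg.Agent.Lib.Helper10.PSB

universe u

theorem psbsub_core {G : Type u} [Group G] [Finite G] (p : ℕ) [Fact p.Prime]
    (hspl : ∀ (L : Type u) [Group L] [Finite L] (H : Subgroup L) [H.Normal],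
      (Nat.card H).Coprime p → ∀ k : ℕ, H.index = p ^ k → ∀ χ : L → ℂ, Cfsg.IsCharacter L χ →
      (∀ g : L, χ g = χ 1 → g = 1) → ∀ n : ℕ, χ 1 = (n : ℂ) → ∀ P : Subgroup L, IsPGroup p P →
      (Nat.card P).factorization p ≤
        (Nat.card ↥(P ⊓ Subgroup.centralizer (H : Set L))).factorization p +
          ∑ i ∈ Finset.range (n + 1), n / ((p - 1) * p ^ i))
    (χ : G → ℂ) (hχ : Cfsg.IsCharacter G χ) (hfaith : ∀ g : G, χ g = χ 1 → g = 1)
    (n : ℕ) (hn : χ 1 = (n : ℂ)) (H P : Subgroup G) (hH : (Nat.card H).Coprime p)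
    (hP : IsPGroup p P) (hPH : P ≤ Subgroup.normalizer (H : Set G)) :
    (Nat.card P).factorization p ≤
      (Nat.card ↥(P ⊓ Subgroup.centralizer (H : Set G))).factorization p +
        ∑ i ∈ Finset.range (n + 1), n / ((p - 1) * p ^ i) := by
  classical
  have hp : p.Prime := Fact.out
  set L : Subgroup G := H ⊔ P with hL
  have hHL : H ≤ L := le_sup_left
  have hPL : P ≤ L := le_sup_right
  have hLN : L ≤ Subgroup.normalizer (H : Set G) := sup_le Subgroup.le_normalizer hPH
  haveI hH'n : (H.subgroupOf L).Normal := (Subgroup.normal_subgroupOf_iff_le_normalizer hHL).mpr hLN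
  have hcardH' : Nat.card (H.subgroupOf L) = Nat.card H :=
    Nat.card_congr (Subgroup.subgroupOfEquivOfLe hHL).toEquiv
  have hcardP' : Nat.card (P.subgroupOf L) = Nat.card P :=
    Nat.card_congr (Subgroup.subgroupOfEquivOfLe hPL).toEquiv
  obtain ⟨k, hk⟩ := IsPGroup.iff_card.mp hP
  -- the index of `H'`
  have hcop' : (Nat.card (H.subgroupOf L)).Coprime (Nat.card (P.subgroupOf L)) := by
    rw [hcardH', hcardP', hk]
    exact Nat.Coprime.pow_right k hH
  have hidx : (H.subgroupOf L).index = p ^ k := by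
    have h1 : P.subgroupOf L ⊔ H.subgroupOf L = ⊤ := by
      rw [← Subgroup.subgroupOf_sup hPL hHL, sup_comm, ← hL, Subgroup.subgroupOf_self]
    have h2 := Subgroup.relIndex_sup_right (P.subgroupOf L) (H.subgroupOf L)
    rw [h1, Subgroup.relIndex_top_right] at h2
    rw [h2, ← Subgroup.inf_relIndex_right,
      (Subgroup.disjoint_of_coprime_natCard hcop').eq_bot, Subgroup.relIndex_bot_left, hcardP', hk]
  -- the restricted character
  set χ' : L → ℂ := fun x => χ (x : G) with hχ'
  have hχ'c : Cfsg.IsCharacter L χ' := Cfsg.Agent.Lib.helper2.isCharacter_restrict hχ L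
  have hfaith' : ∀ g : L, χ' g = χ' 1 → g = 1 := by
    intro g hg
    exact Subtype.ext (hfaith (g : G) hg)
  have hP' : IsPGroup p (P.subgroupOf L) := by
    rw [IsPGroup.iff_card]
    exact ⟨k, by rw [hcardP', hk]⟩
  have hcopH' : (Nat.card (H.subgroupOf L)).Coprime p := by rw [hcardH']; exact hH
  have key := hspl L (H.subgroupOf L) hcopH' k hidx χ' hχ'c hfaith' n hn (P.subgroupOf L) hP'
  rw [hcardP'] at key
  -- the centralizer term
  have hmap : (P.subgroupOf L ⊓ Subgroup.centralizer ((H.subgroupOf L : Subgroup L) : Set L)).map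
      L.subtype = P ⊓ Subgroup.centralizer (H : Set G) := by
    ext x
    constructor
    · rintro ⟨y, ⟨hyP, hyC⟩, rfl⟩
      refine ⟨hyP, ?_⟩
      intro h hh
      have := hyC ⟨h, hHL hh⟩ (by exact hh)
      exact congrArg Subtype.val this
    · rintro ⟨hxP, hxC⟩
      refine ⟨⟨x, hPL hxP⟩, ⟨hxP, ?_⟩, rfl⟩
      intro h hh
      apply Subtype.ext
      exact hxC (h : G) hh
  have hcardC : Nat.card ↥(P.subgroupOf L ⊓
      Subgroup.centralizer ((H.subgroupOf L : Subgroup L) : Set L)) =
      Nat.card ↥(P ⊓ Subgroup.centralizer (H : Set G)) := by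
    rw [← hmap]
    exact (Subgroup.card_map_of_injective L.subtype_injective).symm
  rw [hcardC] at key
  exact key

end Cfsg.Agent.Lib.Helper10.PSB
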