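import Mathlib
import Cfsg.Prelude.Def_Characters
import Cfsg.Agent.Lib.Helper10.PSBSUBcore
import Cfsg.Agent.Lib.Helper10.PSBSPL

/-!
# Project PSB, piece SUB (verbatim wrapper of `psbsub_core` fed with `bound_split`)
-/

set_option autoImplicit false

namespace Cfsg.Agent.Lib.Helper10.PSB

-- piece SUB
theorem bound_sub {G : Type*} [Group G] [Finite G] (p : ℕ) [Fact p.Prime]
    (χ : G → ℂ) (hχ : Cfsg.IsCharacter G χ) (hfaith : ∀ g : G, χ g = χ 1 → g = 1)
    (n : ℕ) (hn : χ 1 = (n : ℂ)) (H P : Subgroup G) (hH : (Nat.card H).Coprime p)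
    (hP : IsPGroup p P) (hPH : P ≤ Subgroup.normalizer (H : Set G)) :
    (Nat.card P).factorization p ≤
      (Nat.card ↥(P ⊓ Subgroup.centralizer (H : Set G))).factorization p +
        ∑ i ∈ Finset.range (n + 1), n / ((p - 1) * p ^ i) :=
  psbsub_core p
    (fun L _ _ H' _ hH' k hidx χ' hχ' hf' n' hn' P' hP' =>
      bound_split p H' hH' k hidx χ' hχ' hf' n' hn' P' hP')
    χ hχ hfaith n hn H P hH hP hPH

end Cfsg.Agent.Lib.Helper10.PSB
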