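import Mathlib
import Cfsg.Prelude.Def_GeometricClasses
import Cfsg.Agent.Lib.Helper27.ASC.Defs
import Cfsg.Agent.Lib.helper23.ASCO.Defs
import Cfsg.Agent.Lib.Helper10.ASCOFRSUBcore

/-!
# Orthogonal frames over a non-prime field lie in subfield groups, any dimension (helper10; rows S5847 / S5850 / S5871)

`quad_frame_subfield` : `D` an orthogonal decomposition of `(Fⁿ, Q)` into `n` pairwise isometric non-degenerate lines.  For EVERY
subfield `F₁` there are `B` and `ζ ≠ 0` with `ζ Q (B u) = ∑ u_i² ∈ F₁` on `F₁ⁿ` and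
`decompositionStabilizer D ⊓ isometryGroup F Q ≤ subfieldSubgroup F₁ B` (signed permutation matrices in the frame basis).
`quad_frame_subfield_prime` : for `|F|` not prime, the same with some `F₁` of prime index `ℓ`.
No parity hypothesis on `n` (the odd-dimensional ASCO piece FRSUB had `ζ = 1` and needed `GramPrime`).
-/

set_option autoImplicit false
set_option linter.unusedVariables false
set_option linter.unusedSectionVars false

namespace Cfsg.Agent.Lib.Helper10.QRat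

open Cfsg Cfsg.Geo Cfsg.Agent.Lib.Helper27.ASC Cfsg.Agent.Lib.helper23.ASCO
open scoped MatrixGroups Matrix

variable {n : ℕ} {F : Type*} [Field F] [Fintype F]

omit [Fintype F] in
/-- an orthogonal decomposition into non-degenerate lines forces `2 ≠ 0` -/
theorem qframe_two_ne_zero (Q : QuadraticForm F (Fin n → F)) (D : Fin n → Submodule F (Fin n → F))
    (hD : IsOrthogonalMDecomposition (⇑Q) 1 D) : (2 : F) ≠ 0 := by
  intro h2
  have hn2 : 2 ≤ n := hD.decomp.decomp.two_le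
  obtain ⟨i₀, hi₀⟩ : ∃ i₀ : Fin n, i₀ = ⟨0, by omega⟩ := ⟨_, rfl⟩
  have hfr := hD.decomp.decomp.finrank_eq i₀
  have hne : D i₀ ≠ ⊥ := by
    intro h
    rw [h, finrank_bot] at hfr
    omega
  obtain ⟨d₀, hd₀, hd₀0⟩ := Submodule.exists_mem_ne_zero_of_ne_bot hne
  obtain ⟨⟨x, hx, hxd⟩, -⟩ := hD.decomp.nondegenerate i₀ d₀ hd₀ hd₀0
  have hne' : (⟨d₀, hd₀⟩ : D i₀) ≠ 0 := fun h => hd₀0 (congrArg Subtype.val h)
  obtain ⟨a, ha⟩ := (finrank_eq_one_iff_of_nonzero' (⟨d₀, hd₀⟩ : D i₀) hne').1 hfr ⟨x, hx⟩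
  have hx' : x = a • d₀ := by
    have := congrArg Subtype.val ha
    simpa using this.symm
  apply hxd
  have e : QuadraticMap.polar (⇑Q) x d₀ = QuadraticMap.polarBilin Q x d₀ := rfl
  rw [e, hx', map_smul, LinearMap.smul_apply, QuadraticMap.polarBilin_apply_apply,
    QuadraticMap.polar_self]
  have h3 : Q d₀ + Q d₀ = 0 := by rw [← two_mul, h2, zero_mul]
  simp [two_nsmul, two_smul, h3]

omit [Fintype F] in
/-- scaling the form keeps an orthogonal isometric decomposition -/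
theorem qframe_scale (Q : QuadraticForm F (Fin n → F)) (ζ : F) (hζ : ζ ≠ 0) {t k : ℕ}
    (D : Fin t → Submodule F (Fin n → F)) (hD : IsOrthogonalMDecomposition (⇑Q) k D) :
    IsOrthogonalMDecomposition (⇑(ζ • Q)) k D := by
  have hpol : ∀ x y, QuadraticMap.polar (⇑(ζ • Q)) x y = ζ * QuadraticMap.polar (⇑Q) x y := by
    intro x y
    unfold QuadraticMap.polar
    simp only [QuadraticMap.smul_apply, smul_eq_mul]
    ring
  refine ⟨⟨hD.decomp.decomp, ?_, ?_⟩, ?_⟩
  · intro i w hw hw0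
    obtain ⟨⟨x, hx, hxw⟩, ⟨y, hy, hyw⟩⟩ := hD.decomp.nondegenerate i w hw hw0
    refine ⟨⟨x, hx, ?_⟩, ⟨y, hy, ?_⟩⟩
    · rw [hpol]
      exact mul_ne_zero hζ hxw
    · rw [hpol]
      exact mul_ne_zero hζ hyw
  · intro i j hij u hu v hv
    rw [hpol, hD.decomp.orthogonal i j hij u hu v hv, mul_zero]
  · intro i j
    obtain ⟨e, he⟩ := hD.isometric i j
    refine ⟨e, fun w => ?_⟩
    simp only [QuadraticMap.smul_apply]
    rw [he w]

/-- **frames and subfields** : the isometries stabilising an orthogonal frame of isometric lines lie in the subfield group of EVERY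
subfield `F₁`, for a structure carrying a non-zero multiple of `Q` -/
theorem quad_frame_subfield (Q : QuadraticForm F (Fin n → F)) (F₁ : Subfield F)
    (D : Fin n → Submodule F (Fin n → F)) (hD : IsOrthogonalMDecomposition (⇑Q) 1 D) :
    ∃ (B : GL (Fin n) F) (ζ : F), ζ ≠ 0 ∧
      IsQuadFormRationalStructure (fun v : Fin n → F => ζ * Q v) F₁ B ∧
      decompositionStabilizer D ⊓ isometryGroup F (⇑Q) ≤ subfieldSubgroup F₁ B := by
  have h2 := qframe_two_ne_zero Q D hD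
  obtain ⟨d, c, hc, hdD, hQd⟩ := ascofrsub_vectors h2 Q D hD
  have hc' : c⁻¹ ≠ 0 := inv_ne_zero hc
  have hD' := qframe_scale Q c⁻¹ hc' D hD
  have hQd' : ∀ i, (c⁻¹ • Q) (d i) = 1 := by
    intro i
    rw [QuadraticMap.smul_apply, hQd, smul_eq_mul, inv_mul_cancel₀ hc]
  obtain ⟨B, hB1, hB2⟩ := ascofrsub_final h2 (c⁻¹ • Q) F₁ D hD' d 1 one_ne_zero hdD hQd' 1 one_ne_zero
    (by rw [one_pow, one_mul]; exact F₁.one_mem)
  refine ⟨B, c⁻¹, hc', ?_, ?_⟩
  · intro u hu
    have := hB1 u hu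
    simpa only [QuadraticMap.smul_apply, smul_eq_mul] using this
  · rintro g ⟨hgD, hgI⟩
    apply hB2
    refine ⟨hgD, ?_⟩
    intro x y
    show (c⁻¹ • Q) ((g : Matrix (Fin n) (Fin n) F) *ᵥ x) = (c⁻¹ • Q) x
    rw [QuadraticMap.smul_apply, QuadraticMap.smul_apply]
    have := hgI x y
    exact congrArg (fun z => c⁻¹ • z) this

/-- over a non-prime field: some subfield of prime index -/
theorem quad_frame_subfield_prime (Q : QuadraticForm F (Fin n → F)) (hnp : ¬ (Fintype.card F).Prime)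
    (D : Fin n → Submodule F (Fin n → F)) (hD : IsOrthogonalMDecomposition (⇑Q) 1 D) :
    ∃ (F₁ : Subfield F) (ℓ : ℕ) (B : GL (Fin n) F) (ζ : F), ℓ.Prime ∧
      Fintype.card F = Nat.card F₁ ^ ℓ ∧ ζ ≠ 0 ∧
      IsQuadFormRationalStructure (fun v : Fin n → F => ζ * Q v) F₁ B ∧
      decompositionStabilizer D ⊓ isometryGroup F (⇑Q) ≤ subfieldSubgroup F₁ B := by
  obtain ⟨F₁, ℓ, -, hℓ, hcard⟩ := exists_prime_index_subfield (⊥ : Subfield F)
    (ascofrsub_bot_ne_top hnp)
  obtain ⟨B, ζ, hζ, h1, h2⟩ := quad_frame_subfield Q F₁ D hD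
  exact ⟨F₁, ℓ, B, ζ, hℓ, hcard, hζ, h1, h2⟩

end Cfsg.Agent.Lib.Helper10.QRat
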