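import Mathlib
import Cfsg.Prelude.Def_GeometricClasses
import Cfsg.Agent.Lib.Helper27.ASC.Defs
import Cfsg.Agent.Lib.Helper19.ASG.Defs
import Cfsg.Agent.Lib.Helper18.ASP.Defs
import Cfsg.Agent.Lib.Lead.ASCU.Defs
import Cfsg.Agent.Lib.Helper10.ASPD2SUNIQ
import Cfsg.Agent.Lib.Helper10.ASPD2SQODD
import Cfsg.Agent.Lib.Helper27.ASCOQRATcore
import Cfsg.Agent.Lib.Helper16.ASCOH90
import Cfsg.Agent.Lib.helper8.ASCUSUBFcore

set_option autoImplicit false
set_option linter.unusedVariables false
set_option linter.unusedSectionVars false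

/-!
# Quadratic forms on subfield structures, ALL characteristics (helper10; for project ASE and the orthogonal rows)

`quad_rational` : an absolutely irreducible group `P` of isometries of a non-degenerate quadratic form `Q` (any characteristic,
`n ≥ 2`) realised over a subfield `F₁` by `B`: a non-zero multiple `ζ Q` takes values in `F₁` on the `F₁`-structure `B⁻¹ F₁ⁿ`.

Proof: the polar form is rational up to `ζ` (Frobenius + Schur + Hilbert 90, `ascoqrat_descend`); with `τ` the Frobenius of `F₁` and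
`Q' u = ζ Q (B⁻¹ u)` the map `D u = Q' (τ u) - τ (Q' u)` is additive, `τ²`-semilinear and invariant under `B P B⁻¹`; hence `D = 0`
(`2 ≠ 0`: `2 D = 4 D`; `2 = 0`: the zero set of `D` is an invariant subspace, non-zero as `n ≥ 2`).
-/

namespace Cfsg.Agent.Lib.Helper10.QRat

open Cfsg Cfsg.Geo Cfsg.Agent.Lib.Helper27.ASC Cfsg.Agent.Lib.Helper19.ASG Cfsg.Agent.Lib.Lead.ASCU
open Cfsg.Agent.Lib.helper23.ASCO Cfsg.Agent.Lib.Helper18.ASP
open scoped MatrixGroups Matrix

variable {n : ℕ} {F : Type*} [Field F] [Fintype F]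

/-- QRAT : a rational structure of `P` carries a non-zero multiple of the invariant quadratic form `Q` (all characteristics). -/
theorem quad_rational (hn : 2 ≤ n) {P : Subgroup (GL (Fin n) F)} (hA : AbsIrr P) (Q : (Fin n → F) → F)
    (hQ : IsNondegenerateQuadraticForm Q) (hfix : FixesQuadForm (matrixSet P) Q)
    (F₁ : Subfield F) (ℓ : ℕ) (hcard : Fintype.card F = Nat.card F₁ ^ ℓ) (B : GL (Fin n) F)
    (hB : RealisesOver F₁ B P) :
    ∃ ζ : F, ζ ≠ 0 ∧ IsQuadFormRationalStructure (fun v : Fin n → F => ζ * Q v) F₁ B⁻¹ := by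
  classical
  obtain ⟨b, hbdef⟩ : ∃ b : (Fin n → F) → (Fin n → F) → F, b = QuadraticMap.polar Q := ⟨_, rfl⟩
  have hb : IsBilinearForm b := by rw [hbdef]; exact hQ.polar_bilinear
  have hnd : IsNondegenerateForm b := by rw [hbdef]; exact hQ.nondegenerate
  have hfixb : FixesForm (matrixSet P) b := by rw [hbdef]; exact aspd2sqodd_polar_fix _ Q hfix
  have hpolar : ∀ x y, Q (x + y) = Q x + Q y + b x y := by
    intro x y
    rw [hbdef]
    unfold QuadraticMap.polar
    ring
  obtain ⟨μ, hμ0, hμ⟩ := ascoqrat_descend (fun hS hu A A' hAu h h' => invariant_gram_unique hS hu A A' hAu h h')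
    (fun F₁ ℓ hc c hc0 hN => hilbert90_subfield F₁ ℓ hc c hc0 hN) F₁ ℓ hcard (by omega) hA
    (fun s hs => aspd2suniq_unit P s hs) B hB (ascformGram b) (aspd2suniq_gram_isUnit b hb hnd)
    (fun s hs => aspd2suniq_gram_inv b hb s (hfixb s hs))
  obtain ⟨Bm, hBm⟩ : ∃ Bm : Matrix (Fin n) (Fin n) F, Bm = (B : Matrix (Fin n) (Fin n) F) := ⟨_, rfl⟩
  obtain ⟨Bi, hBi⟩ : ∃ Bi : Matrix (Fin n) (Fin n) F,
      Bi = ((B⁻¹ : GL (Fin n) F) : Matrix (Fin n) (Fin n) F) := ⟨_, rfl⟩
  have hBB : Bm * Bi = 1 := by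
    rw [hBm, hBi, ← Units.val_mul, mul_inv_cancel]; rfl
  have hBB' : Bi * Bm = 1 := by
    rw [hBm, hBi, ← Units.val_mul, inv_mul_cancel]; rfl
  rw [← hBi] at hμ
  obtain ⟨M, hMdef⟩ : ∃ M : Matrix (Fin n) (Fin n) F, M = μ • (Biᵀ * ascformGram b * Bi) := ⟨_, rfl⟩
  have hM : ∀ i j, M i j ∈ F₁ := by
    intro i j
    rw [hMdef, Matrix.smul_apply, smul_eq_mul]
    exact hμ i j
  obtain ⟨τ, hτ, hτmem⟩ := ascusubf_tau F₁
  have hMτ : M.map τ = M := by
    ext i j
    rw [Matrix.map_apply]
    exact (hτmem _).mpr (hM i j)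
  refine ⟨μ, hμ0, ?_⟩
  obtain ⟨Q', hQ'⟩ : ∃ Q' : (Fin n → F) → F, ∀ u, Q' u = μ * Q (Bi *ᵥ u) := ⟨_, fun _ => rfl⟩
  -- the polar identity for `Q'`
  have hpol : ∀ u v, Q' (u + v) = Q' u + Q' v + u ⬝ᵥ (M *ᵥ v) := by
    intro u v
    rw [hQ', hQ', hQ', Matrix.mulVec_add, hpolar, aspd2suniq_gram b hb, aspd2suniq_transport, hMdef,
      Matrix.smul_mulVec, dotProduct_smul, smul_eq_mul]
    ring
  have hsm : ∀ (a : F) u, Q' (a • u) = a ^ 2 * Q' u := by
    intro a u
    rw [hQ', hQ', Matrix.mulVec_smul, hQ.smul]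
    ring
  -- the Frobenius on vectors
  obtain ⟨T, hT⟩ : ∃ T : (Fin n → F) → (Fin n → F), ∀ u i, T u i = τ (u i) := ⟨_, fun _ _ => rfl⟩
  have hTcomp : ∀ u : Fin n → F, (⇑τ ∘ u) = T u := by
    intro u
    ext i
    rw [hT]
    rfl
  have hTadd : ∀ u v, T (u + v) = T u + T v := by
    intro u v
    ext i
    rw [Pi.add_apply, hT, hT, hT, Pi.add_apply, map_add]
  have hTsmul : ∀ (a : F) u, T (a • u) = τ a • T u := by
    intro a u
    ext i
    rw [Pi.smul_apply, hT, hT, Pi.smul_apply, smul_eq_mul, smul_eq_mul, map_mul]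
  have hTmulVec : ∀ (N : Matrix (Fin n) (Fin n) F) u, T (N *ᵥ u) = N.map τ *ᵥ T u := by
    intro N u
    ext i
    rw [hT]
    have h1 := RingHom.map_mulVec τ N u i
    rw [h1, hTcomp]
  have hTdot : ∀ u v : Fin n → F, τ (u ⬝ᵥ v) = T u ⬝ᵥ T v := by
    intro u v
    rw [RingHom.map_dotProduct, hTcomp, hTcomp]
  have hbτ : ∀ u v, T u ⬝ᵥ (M *ᵥ T v) = τ (u ⬝ᵥ (M *ᵥ v)) := by
    intro u v
    rw [hTdot, hTmulVec, hMτ]
  obtain ⟨D, hD⟩ : ∃ D : (Fin n → F) → F, ∀ u, D u = Q' (T u) - τ (Q' u) := ⟨_, fun _ => rfl⟩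
  have hDadd : ∀ u v, D (u + v) = D u + D v := by
    intro u v
    rw [hD, hD, hD, hTadd, hpol, hpol, hbτ, map_add, map_add]
    ring
  have hDsm : ∀ (a : F) u, D (a • u) = (τ a) ^ 2 * D u := by
    intro a u
    rw [hD, hD, hTsmul, hsm, hsm, map_mul, map_pow]
    ring
  have hfixτ : ∀ x ∈ P, (Bm * (x : Matrix (Fin n) (Fin n) F) * Bi).map τ =
      Bm * (x : Matrix (Fin n) (Fin n) F) * Bi := by
    intro x hx
    ext i j
    rw [Matrix.map_apply]
    apply (hτmem _).mpr
    rw [hBm, hBi]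
    exact hB (x : Matrix (Fin n) (Fin n) F) ⟨x, hx, rfl⟩ i j
  have hQ'inv : ∀ x ∈ P, ∀ w, Q' ((Bm * (x : Matrix (Fin n) (Fin n) F) * Bi) *ᵥ w) = Q' w := by
    intro x hx w
    rw [hQ', hQ', Matrix.mulVec_mulVec]
    have e : Bi * (Bm * (x : Matrix (Fin n) (Fin n) F) * Bi) = (x : Matrix (Fin n) (Fin n) F) * Bi := by
      rw [← Matrix.mul_assoc, ← Matrix.mul_assoc, hBB', Matrix.one_mul]
    rw [e, ← Matrix.mulVec_mulVec, hfix _ ⟨x, hx, rfl⟩]
  have hDinv : ∀ x ∈ P, ∀ w, D ((Bm * (x : Matrix (Fin n) (Fin n) F) * Bi) *ᵥ w) = D w := by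
    intro x hx w
    rw [hD, hD, hTmulVec, hfixτ x hx, hQ'inv x hx, hQ'inv x hx]
  -- `D = 0`
  have hD0 : ∀ w, D w = 0 := by
    by_cases h2 : (2 : F) = 0
    · -- characteristic two
      have hadd : ∀ a : F, a + a = 0 := by
        intro a
        linear_combination a * h2
      let W : Submodule F (Fin n → F) :=
        { carrier := {v | D (Bm *ᵥ v) = 0}
          add_mem' := by
            intro a b ha hb'
            show D (Bm *ᵥ (a + b)) = 0
            have ha' : D (Bm *ᵥ a) = 0 := ha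
            have hb'' : D (Bm *ᵥ b) = 0 := hb'
            rw [Matrix.mulVec_add, hDadd, ha', hb'', add_zero]
          zero_mem' := by
            show D (Bm *ᵥ 0) = 0
            rw [Matrix.mulVec_zero]
            have := hDsm 0 0
            rw [zero_smul, map_zero] at this
            rw [this]
            ring
          smul_mem' := by
            intro a v hv
            show D (Bm *ᵥ (a • v)) = 0
            have hv' : D (Bm *ᵥ v) = 0 := hv
            rw [Matrix.mulVec_smul, hDsm, hv', mul_zero] }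
      have hWmem : ∀ v, v ∈ W ↔ D (Bm *ᵥ v) = 0 := fun v => Iff.rfl
      have hWinv : ∀ s ∈ matrixSet P, W.map (Matrix.toLin' s) ≤ W := by
        rintro _ ⟨x, hx, rfl⟩ _ ⟨v, hv, rfl⟩
        rw [hWmem, Matrix.toLin'_apply, Matrix.mulVec_mulVec]
        have e : Bm * (x : Matrix (Fin n) (Fin n) F) = (Bm * (x : Matrix (Fin n) (Fin n) F) * Bi) * Bm := by
          rw [Matrix.mul_assoc, hBB', Matrix.mul_one]
        rw [e, ← Matrix.mulVec_mulVec, hDinv x hx]
        exact (hWmem v).mp hv
      rcases hA.1 W hWinv with hW | hW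
      · exfalso
        let i0 : Fin n := ⟨0, by omega⟩
        let i1 : Fin n := ⟨1, by omega⟩
        have h01 : i0 ≠ i1 := by
          intro h
          have := congrArg Fin.val h
          simp [i0, i1] at this
        have hkey : ∃ w : Fin n → F, w ≠ 0 ∧ D w = 0 := by
          by_cases ha : D (Pi.single i0 1) = 0
          · refine ⟨Pi.single i0 1, ?_, ha⟩
            intro h
            have := congrFun h i0
            simp at this
          · obtain ⟨a, ha'⟩ : ∃ a, a = D (Pi.single i0 1) := ⟨_, rfl⟩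
            obtain ⟨c, hc'⟩ : ∃ c, c = D (Pi.single i1 1) := ⟨_, rfl⟩
            rw [← ha'] at ha
            have hinj : Function.Injective (fun r : F => (τ r) ^ 2) := by
              intro r s hrs
              have h1 : τ ((r - s) ^ 2) = 0 := by
                have h3 : (τ r) ^ 2 = (τ s) ^ 2 := hrs
                have h4 : (r - s) ^ 2 = r ^ 2 + s ^ 2 := by
                  linear_combination (-(r * s)) * h2
                rw [h4, map_add, map_pow, map_pow, h3]
                exact hadd _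
              have h5 : (r - s) ^ 2 = 0 := by
                have := (map_eq_zero_iff τ τ.injective).mp h1
                exact this
              have h6 : r - s = 0 := by
                exact pow_eq_zero_iff (two_ne_zero) |>.mp h5
              exact sub_eq_zero.mp h6
            obtain ⟨r, hr⟩ := (Finite.injective_iff_surjective.mp hinj) (c / a)
            have hr' : (τ r) ^ 2 = c / a := hr
            refine ⟨r • Pi.single i0 1 + Pi.single i1 1, ?_, ?_⟩
            · intro h
              have := congrFun h i1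
              simp [h01.symm] at this
            · rw [hDadd, hDsm, ← ha', ← hc', hr', div_mul_cancel₀ c ha]
              exact hadd c
        obtain ⟨w, hw0, hwD⟩ := hkey
        have hv : Bi *ᵥ w ∈ W := by
          rw [hWmem, Matrix.mulVec_mulVec, hBB, Matrix.one_mulVec]
          exact hwD
        rw [hW, Submodule.mem_bot] at hv
        apply hw0
        have := congrArg (fun v => Bm *ᵥ v) hv
        simp only [Matrix.mulVec_mulVec, hBB, Matrix.one_mulVec, Matrix.mulVec_zero] at this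
        exact this
      · intro w
        have h1 : Bi *ᵥ w ∈ W := by rw [hW]; exact Submodule.mem_top
        rw [hWmem, Matrix.mulVec_mulVec, hBB, Matrix.one_mulVec] at h1
        exact h1
    · -- characteristic not two
      intro w
      have h1 : D ((2 : F) • w) = (τ 2) ^ 2 * D w := hDsm 2 w
      have h3 : τ (2 : F) = 2 := map_ofNat τ 2
      have h4 : D ((2 : F) • w) = D w + D w := by
        rw [two_smul, hDadd]
      rw [h4, h3] at h1
      have h5 : (2 : F) * D w = 0 := by linear_combination -h1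
      rcases mul_eq_zero.mp h5 with h | h
      · exact absurd h h2
      · exact h
  -- conclusion
  intro u hu
  have hTu : T u = u := by
    ext i
    rw [hT]
    exact (hτmem _).mpr (hu i)
  have h1 := hD0 u
  rw [hD, hTu] at h1
  show μ * Q (((B⁻¹ : GL (Fin n) F) : Matrix (Fin n) (Fin n) F) *ᵥ u) ∈ F₁
  rw [← hBi, ← hQ', ← hτmem]
  exact (sub_eq_zero.mp h1).symm

end Cfsg.Agent.Lib.Helper10.QRat
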