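import Mathlib
import Cfsg.Prelude.Def_GeometricClasses
import Cfsg.Agent.Lib.Helper27.ASC.Defs
import Cfsg.Agent.Lib.Helper19.ASG.Defs
import Cfsg.Agent.Lib.Helper18.ASP.Defs
import Cfsg.Agent.Lib.Lead.ASCU.Defs
import Cfsg.Agent.Lib.Helper16.ASCUUSUBFA
import Cfsg.Agent.Lib.Helper10.ASCSUBF2
import Cfsg.Agent.Lib.Helper25.ASCCENT
import Cfsg.Agent.Lib.helper23.ASPD2SBIU
import Cfsg.Agent.Lib.Helper10.QRAT

set_option autoImplicit false
set_option linter.unusedVariables false
set_option linter.unusedSectionVars false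

/-!
# The subfield case and the almost simple case for groups of isometries of a quadratic form, ALL characteristics, all `n ≥ 2`
(helper10; for project ASE and the orthogonal rows)

* `bil_realisable_of_unitary` : an absolutely irreducible group fixing a non-degenerate bilinear form and a unitary form is
  realisable over a proper subfield (helper23's `sp_realisable_of_unitary` without the symplectic hypothesis);
* `quad_subfield_case` : `P` absolutely irreducible, normalised by `H`, fixing `Q`, realisable over a proper subfield: `H` lies in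
  a subfield group of prime index whose structure carries a non-zero multiple of `Q`;
* `quad_almost_simple` : the block D2S for a quadratic form: subfield group or `InOrthogonalResidualClass`.
-/

namespace Cfsg.Agent.Lib.Helper10.QRat

open Cfsg Cfsg.Geo Cfsg.Agent.Lib.Helper27.ASC Cfsg.Agent.Lib.Helper19.ASG Cfsg.Agent.Lib.Lead.ASCU
open Cfsg.Agent.Lib.helper23.ASCO Cfsg.Agent.Lib.Helper18.ASP
open scoped MatrixGroups Matrix

variable {n : ℕ} {F : Type*} [Field F] [Fintype F]

/-- an absolutely irreducible group fixing a non-degenerate bilinear form and a unitary form is realisable over the fixed field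
of `σ` -/
theorem bil_realisable_of_unitary {P : Subgroup (GL (Fin n) F)} (hA : AbsIrr P)
    (f : (Fin n → F) → (Fin n → F) → F) (hBbil : IsBilinearForm f) (hnd : IsNondegenerateForm f)
    (hfix : FixesForm (matrixSet P) f)
    (σ : F ≃+* F) (g : (Fin n → F) → (Fin n → F) → F) (hg : IsUnitaryForm σ g)
    (hfixg : FixesForm (matrixSet P) g) : ∃ F₀ : Subfield F, F₀ ≠ ⊤ ∧ RealisableOver F₀ (matrixSet P) := by
  classical
  obtain ⟨A, hAdef⟩ : ∃ A : Matrix (Fin n) (Fin n) F, A = ascformGram f := ⟨_, rfl⟩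
  have hAu : IsUnit A.det := by rw [hAdef]; exact aspd2suniq_gram_isUnit f hBbil hnd
  have hinvA : ∀ s ∈ P, (s : Matrix (Fin n) (Fin n) F)ᵀ * A * (s : Matrix (Fin n) (Fin n) F) = A := by
    intro s hs
    rw [hAdef]
    exact aspd2suniq_gram_inv f hBbil _ (hfix _ ⟨s, hs, rfl⟩)
  -- the Gram matrix of the unitary form
  obtain ⟨τ, hτ⟩ : ∃ τ : F →+* F, τ = (σ : F →+* F) := ⟨_, rfl⟩
  have hτa : ∀ a : F, τ a = σ a := fun a => by rw [hτ]; rfl
  have har : ∀ v x y : Fin n → F, g v (x + y) = g v x + g v y := by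
    intro v x y
    rw [hg.herm v (x + y), hg.add_left, map_add, ← hg.herm, ← hg.herm]
  have hsr : ∀ (c : F) (v x : Fin n → F), g v (c • x) = τ c * g v x := by
    intro c v x
    rw [hg.herm v (c • x), hg.smul_left, map_mul, ← hg.herm, hτa]
  obtain ⟨B, hBdef⟩ : ∃ B : Matrix (Fin n) (Fin n) F, B = ascformGram g := ⟨_, rfl⟩
  have hgramB : ∀ u v : Fin n → F, g u v = u ⬝ᵥ (B *ᵥ (fun j => τ (v j))) := by
    intro u v
    rw [hBdef]
    exact ascform_gram τ g hg.add_left hg.smul_left har hsr u v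
  have hBu : IsUnit B.det := by
    apply ascform_gram_isUnit_det σ B
    intro v hv
    obtain ⟨x, hx⟩ := (hg.nondegenerate v hv).1
    refine ⟨x, ?_⟩
    have h1 := hgramB x v
    have e : (fun j => τ (v j)) = (fun j => σ (v j)) := by
      ext j; exact hτa _
    rw [e] at h1
    rw [← h1]
    exact hx
  have hinvB : ∀ s ∈ P, (s : Matrix (Fin n) (Fin n) F)ᵀ * B * (s : Matrix (Fin n) (Fin n) F).map σ = B := by
    intro s hs
    have key : (s : Matrix (Fin n) (Fin n) F)ᵀ * B * (s : Matrix (Fin n) (Fin n) F).map τ = B := by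
      apply ascform_ext τ
      intro u v
      rw [← ascform_transport τ B (s : Matrix (Fin n) (Fin n) F) u v]
      have hsm : (s : Matrix (Fin n) (Fin n) F) ∈ matrixSet P := ⟨s, hs, rfl⟩
      rw [← hgramB, ← hgramB, hfixg _ hsm]
    have e : (s : Matrix (Fin n) (Fin n) F).map τ = (s : Matrix (Fin n) (Fin n) F).map σ := by
      ext i j; simp [hτa]
    rw [e] at key
    exact key
  exact aspd2sbiu_matrix_core hA σ hg.ne_refl hg.involutive A B hAu hBu hinvA hinvB

/-- SUBF for a quadratic form: an absolutely irreducible `P` normalised by `H`, fixing `Q`, realisable over a proper subfield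
puts `H` into a subfield group of prime index whose structure carries a non-zero multiple of `Q`. -/
theorem quad_subfield_case (hn : 2 ≤ n) (Q : (Fin n → F) → F) (hQ : IsNondegenerateQuadraticForm Q)
    {H P : Subgroup (GL (Fin n) F)} (hPH : ∀ h ∈ H, ∀ y ∈ P, h * y * h⁻¹ ∈ P) (hA : AbsIrr P)
    (hfix : FixesQuadForm (matrixSet P) Q) (F₀ : Subfield F) (h0 : F₀ ≠ ⊤)
    (hR : RealisableOver F₀ (matrixSet P)) :
    ∃ (F₁ : Subfield F) (ℓ : ℕ) (B : GL (Fin n) F) (ζ : F), ℓ.Prime ∧ Fintype.card F = Nat.card F₁ ^ ℓ ∧ ζ ≠ 0 ∧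
      IsQuadFormRationalStructure (fun v : Fin n → F => ζ * Q v) F₁ B ∧ H ≤ subfieldSubgroup F₁ B := by
  obtain ⟨B, hB0⟩ := hR
  obtain ⟨F₁, ℓ, h01, hℓ, hcard⟩ := exists_prime_index_subfield F₀ h0
  have hB : RealisesOver F₁ B P := realisesOver_mono h01 hB0
  have hnorm : NormalIn P (H ⊔ P) := by
    refine ⟨le_sup_right, ?_⟩
    have h1 : H ≤ Subgroup.normalizer (P : Set (GL (Fin n) F)) := by
      intro h hh
      rw [Subgroup.mem_normalizer_iff]
      intro y
      constructor
      · intro hy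
        exact hPH h hh y hy
      · intro hy
        have := hPH h⁻¹ (H.inv_mem hh) _ hy
        have e : h⁻¹ * (h * y * h⁻¹) * h⁻¹⁻¹ = y := by group
        rwa [e] at this
    have h2 : H ⊔ P ≤ Subgroup.normalizer (P : Set (GL (Fin n) F)) := sup_le h1 Subgroup.le_normalizer
    intro h hh x hx
    have := h2 hh
    rw [Subgroup.mem_normalizer_iff] at this
    exact (this x).mp hx
  have hle : H ≤ subfieldSubgroup F₁ B⁻¹ := le_sup_left.trans (usubfield_explicit hnorm hA F₁ B hB)
  obtain ⟨ζ, hζ, hrat⟩ := quad_rational hn hA Q hQ hfix F₁ ℓ hcard B hB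
  exact ⟨F₁, ℓ, B⁻¹, ζ, hℓ, hcard, hζ, hrat, hle⟩

/-- D2S for a quadratic form: the almost simple case. -/
theorem quad_almost_simple (hn : 2 ≤ n) (Q : (Fin n → F) → F) (hQ : IsNondegenerateQuadraticForm Q)
    {H P : Subgroup (GL (Fin n) F)} (hP : NormalIn P H) (hA : AbsIrr P)
    (hfix : FixesQuadForm (matrixSet P) Q)
    (hperf : ⁅P, P⁆ = P) (hsimp : IsSimpleGroup (P ⧸ (scalars (Fin n) F).subgroupOf P))
    (hnab : ¬ IsMulCommutative (P ⧸ (scalars (Fin n) F).subgroupOf P)) :
    (∃ (F₁ : Subfield F) (ℓ : ℕ) (B : GL (Fin n) F) (ζ : F), ℓ.Prime ∧ Fintype.card F = Nat.card F₁ ^ ℓ ∧ ζ ≠ 0 ∧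
      IsQuadFormRationalStructure (fun v : Fin n → F => ζ * Q v) F₁ B ∧ H ≤ subfieldSubgroup F₁ B) ∨
    InOrthogonalResidualClass H := by
  by_cases hsub : ∃ F₀ : Subfield F, F₀ ≠ ⊤ ∧ RealisableOver F₀ (matrixSet P)
  · obtain ⟨F₀, h0, hR⟩ := hsub
    exact Or.inl (quad_subfield_case hn Q hQ hP.2 hA hfix F₀ h0 hR)
  refine Or.inr ⟨P, ⟨hP.1, hP.2, hperf, hsimp, hnab, centralizer_scalar_of hP hperf hA, hA, ?_⟩, ?_⟩
  · intro F₀ h0 hR
    exact hsub ⟨F₀, h0, hR⟩
  · rintro ⟨σ, g, hg, hfixg⟩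
    exact hsub (bil_realisable_of_unitary hA (QuadraticMap.polar Q) hQ.polar_bilinear hQ.nondegenerate
      (aspd2sqodd_polar_fix _ Q hfix) σ g hg hfixg)

end Cfsg.Agent.Lib.Helper10.QRat
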