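import Mathlib
import Cfsg.Prelude.Def_CaseTheorems
import Cfsg.Agent.Lib.Helper18.ZStarCor
import Cfsg.Agent.Lib.Helper18.BSFinal
import Cfsg.Agent.Lib.Helper1.TwoGroupUnique
import Cfsg.Agent.Lib.Helper9.Components
import Cfsg.Agent.Lib.Helper9.Quasisimple

set_option autoImplicit false

/-!
# Quasisimple groups of 2-rank one have generalized quaternion Sylow 2-subgroups
-/

namespace Cfsg.Agent.Lib.Helper10.QuatSylow

open scoped commutatorElement

/-- In a group of 2-rank at most one, an involution commuting with a central-like involution `z`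
equals `z`. -/
theorem invol_eq_of_rank_one {X : Type*} [Group X] [Finite X] (hr : Cfsg.PRankLE 2 1 X)
    (z : X) (hz1 : z ≠ 1) (hz2 : z * z = 1) (u : X) (hu1 : u ≠ 1) (hu : u * u = 1)
    (hzu : u * z = z * u) : u = z := by
  classical
  by_contra huz
  have hAc : IsMulCommutative (Subgroup.closure {z, u}) := by
    apply Subgroup.isMulCommutative_closure
    intro x hx y hy
    rcases hx with rfl | hx <;> rcases hy with rfl | hy
    · rfl
    · rw [Set.mem_singleton_iff] at hy; subst hy; exact hzu.symm
    · rw [Set.mem_singleton_iff] at hx; subst hx; exact hzu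
    · rw [Set.mem_singleton_iff] at hx hy; subst hx; subst hy; rfl
  have hAe : ∀ x ∈ Subgroup.closure {z, u}, x ^ 2 = 1 := by
    intro x hx
    induction hx using Subgroup.closure_induction with
    | mem x hx =>
      rcases hx with rfl | hx
      · rw [pow_two]; exact hz2
      · rw [Set.mem_singleton_iff] at hx; subst hx; rw [pow_two]; exact hu
    | one => exact one_pow 2
    | mul x y hx hy ihx ihy =>
      have hc : Commute x y := by
        have := hAc.is_comm.comm ⟨x, hx⟩ ⟨y, hy⟩
        exact congrArg Subtype.val this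
      rw [hc.mul_pow, ihx, ihy, one_mul]
    | inv x _ ihx => rw [inv_pow, ihx, inv_one]
  have hcard := hr (Subgroup.closure {z, u}) hAc hAe
  have hsub : ({1, z, u} : Set X) ⊆ ((Subgroup.closure {z, u} : Subgroup X) : Set X) := by
    intro x hx
    rcases hx with rfl | rfl | hx
    · exact Subgroup.one_mem _
    · exact Subgroup.subset_closure (Set.mem_insert _ _)
    · rw [Set.mem_singleton_iff] at hx; subst hx
      exact Subgroup.subset_closure (Set.mem_insert_of_mem _ rfl)
  have h3 : ({1, z, u} : Set X).ncard = 3 :=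
    Set.ncard_eq_three.mpr ⟨1, z, u, hz1.symm, hu1.symm, fun h => huz h.symm, rfl⟩
  have hfin : ((Subgroup.closure {z, u} : Subgroup X) : Set X).Finite := Set.toFinite _
  have h4 := Set.ncard_le_ncard hsub hfin
  rw [h3, ← Nat.card_coe_set_eq] at h4
  have h5 : Nat.card (Subgroup.closure {z, u} : Subgroup X) =
      Nat.card (((Subgroup.closure {z, u} : Subgroup X) : Set X)) := rfl
  omega

/-- Central factors drop out of commutators. -/
theorem comm_central_mul {X : Type*} [Group X] (a b g h : X) (ha : ∀ w : X, w * a = a * w)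
    (hb : ∀ w : X, w * b = b * w) : ⁅a * g, b * h⁆ = ⁅g, h⁆ := by
  rw [commutatorElement_def, commutatorElement_def]
  calc a * g * (b * h) * (a * g)⁻¹ * (b * h)⁻¹
      = a * (g * (b * h) * g⁻¹) * a⁻¹ * (b * h)⁻¹ := by group
    _ = (g * (b * h) * g⁻¹) * a * a⁻¹ * (b * h)⁻¹ := by rw [← ha (g * (b * h) * g⁻¹)]
    _ = (g * b) * h * g⁻¹ * h⁻¹ * b⁻¹ := by group
    _ = b * (g * h * g⁻¹ * h⁻¹) * b⁻¹ := by rw [hb g]; group
    _ = (g * h * g⁻¹ * h⁻¹) * b * b⁻¹ := by rw [← hb (g * h * g⁻¹ * h⁻¹)]
    _ = g * h * g⁻¹ * h⁻¹ := by group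

/-- A perfect group has no nontrivial cyclic Sylow 2-subgroup. -/
theorem sylow_two_not_cyclic_of_perfect {X : Type*} [Group X] [Finite X]
    (hp : Group.IsPerfect X) (heven : Even (Nat.card X)) (S : Sylow 2 X) :
    ¬ IsCyclic ↥(S : Subgroup X) := by
  intro hS
  have : Fact (Nat.Prime 2) := ⟨Nat.prime_two⟩
  have h2 : 2 ∣ Nat.card X := even_iff_two_dvd.mp heven
  have hmin : (Nat.card X).minFac = 2 := by
    rw [Nat.minFac_eq_two_iff]; exact h2
  have hcomp := IsCyclic.isComplement' (G := X) (P := S) hmin hS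
  have hker : (MonoidHom.transferSylow S (hS.normalizer_le_centralizer hmin)).ker = ⊤ := by
    rw [eq_top_iff, ← hp.commutator_eq_top]
    letI : CommGroup ↥(S : Subgroup X) := hS.commGroup
    exact Abelianization.commutator_subset_ker _
  rw [hker] at hcomp
  have hS1 : (S : Subgroup X) = ⊥ := by
    have := hcomp.card_mul_card
    have h1 : Nat.card (⊤ : Subgroup X) = Nat.card X := Subgroup.card_top
    rw [h1] at this
    have hpos : 0 < Nat.card X := Nat.card_pos
    have : Nat.card ↥(S : Subgroup X) = 1 := by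
      nlinarith [Nat.eq_of_mul_eq_mul_left hpos (by rw [this, mul_one] : Nat.card X * Nat.card ↥(S : Subgroup X) = Nat.card X * 1)]
    exact Subgroup.card_eq_one.mp this
  have := S.ne_bot_of_dvd_card h2
  exact this hS1

theorem quasisimple_rank_one {X : Type*} [Group X] [Finite X] (hq : Cfsg.IsQuasisimple X)
    (heven : Even (Nat.card X)) (hrk : Cfsg.PRankLE 2 1 X) :
    ∃ z : X, orderOf z = 2 ∧ z ∈ Subgroup.center X ∧
      ∀ S : Sylow 2 X, ∃ n : ℕ, Nonempty (↥(S : Subgroup X) ≃* QuaternionGroup (2 ^ (n + 1))) := by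
  classical
  have : Fact (Nat.Prime 2) := ⟨Nat.prime_two⟩
  have hperf : Group.IsPerfect X := hq.1
  -- no Klein four subgroups
  have hnoK : ∀ E : Subgroup X, ¬ IsKleinFour E := by
    intro E hE
    have hc : IsMulCommutative E := IsKleinFour.isMulCommutative
    have he : ∀ a ∈ E, a ^ 2 = 1 := by
      intro a ha
      have := Monoid.pow_exponent_eq_one (⟨a, ha⟩ : E)
      rw [IsKleinFour.exponent_two] at this
      exact congrArg Subtype.val this
    have := hrk E hc he
    rw [IsKleinFour.card_four] at this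
    omega
  obtain ⟨z, hz, N, hN, hNodd, hzN⟩ :=
    Cfsg.Agent.Lib.Helper18.ZStar.zs_s0225 Cfsg.Agent.Lib.Helper18.ZStar.bsHyp_holds heven hnoK
  have hNc : N ≤ Subgroup.center X := by
    rcases Cfsg.Agent.Lib.Helper9.quasisimple_normal_top_or_central hq N hN with h | h
    · exfalso
      rw [h, Subgroup.card_top] at hNodd
      exact (Nat.not_even_iff_odd.mpr hNodd) heven
    · exact h
  have hz2 : z * z = 1 := by
    have := pow_orderOf_eq_one z
    rw [hz, pow_two] at this
    exact this
  have hz1 : z ≠ 1 := by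
    intro h
    rw [h, orderOf_one] at hz
    omega
  have hzi : z⁻¹ = z := inv_eq_of_mul_eq_one_left hz2
  -- z centralizes all commutators, hence is central
  have hzc : z ∈ Subgroup.center X := by
    have hcomm : commutator X ≤ Subgroup.centralizer {z} := by
      rw [commutator_eq_closure, Subgroup.closure_le]
      rintro _ ⟨g, h, rfl⟩
      rw [SetLike.mem_coe, Subgroup.mem_centralizer_iff]
      intro y hy
      rw [Set.mem_singleton_iff] at hy
      subst hy
      have hg := Subgroup.mem_center_iff.mp (hNc (hzN g))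
      have hh := Subgroup.mem_center_iff.mp (hNc (hzN h))
      have key : y * ⁅g, h⁆ * y⁻¹ = ⁅g, h⁆ := by
        have e0 : y * ⁅g, h⁆ * y⁻¹ = ⁅(y * g * y⁻¹ * g⁻¹) * g, (y * h * y⁻¹ * h⁻¹) * h⁆ := by
          rw [commutatorElement_def, commutatorElement_def]; group
        rw [e0, comm_central_mul _ _ _ _ hg hh]
      calc y * ⁅g, h⁆ = (y * ⁅g, h⁆ * y⁻¹) * y := by group
        _ = ⁅g, h⁆ * y := by rw [key]
    rw [hperf.commutator_eq_top] at hcomm
    rw [Subgroup.mem_center_iff]
    intro g
    have := Subgroup.mem_centralizer_iff.mp (hcomm (Subgroup.mem_top g)) z rfl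
    exact this.symm
  refine ⟨z, hz, hzc, ?_⟩
  intro S
  -- unique involution in S
  have huniq : ∀ H K : Subgroup ↥(S : Subgroup X), Nat.card H = 2 → Nat.card K = 2 → H = K := by
    have key : ∀ H : Subgroup ↥(S : Subgroup X), Nat.card H = 2 →
        ∃ h : ↥(S : Subgroup X), (h : X) = z ∧ H = Subgroup.zpowers h := by
      intro H hH
      have hnt : Nontrivial H := by
        rw [← Finite.one_lt_card_iff_nontrivial]; omega
      obtain ⟨⟨h, hhH⟩, hne⟩ := exists_ne (1 : H)
      have hne1 : h ≠ 1 := fun e => hne (Subtype.ext e)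
      have hord : orderOf h = 2 := by
        have h1 : orderOf (⟨h, hhH⟩ : H) ∣ 2 := by
          have := orderOf_dvd_natCard (⟨h, hhH⟩ : H)
          rwa [hH] at this
        have h2 : orderOf (⟨h, hhH⟩ : H) = orderOf h := Subgroup.orderOf_mk h hhH
        rw [h2] at h1
        rcases (Nat.dvd_prime Nat.prime_two).mp h1 with h3 | h3
        · exact absurd (orderOf_eq_one_iff.mp h3) hne1
        · exact h3
      have hhz : (h : X) = z := by
        have ho : orderOf (h : X) = 2 := by rw [Subgroup.orderOf_coe]; exact hord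
        have hh2 : (h : X) * h = 1 := by
          have := pow_orderOf_eq_one (h : X)
          rw [ho, pow_two] at this
          exact this
        have hh1 : (h : X) ≠ 1 := fun e => hne1 (Subtype.ext e)
        exact invol_eq_of_rank_one hrk z hz1 hz2 h hh1 hh2 (Subgroup.mem_center_iff.mp hzc h)
      refine ⟨h, hhz, ?_⟩
      symm
      apply Subgroup.eq_of_le_of_card_ge
      · rw [Subgroup.zpowers_le]; exact hhH
      · rw [Nat.card_zpowers, hord, hH]
    intro H K hH hK
    obtain ⟨h, hh, rfl⟩ := key H hH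
    obtain ⟨k, hk, rfl⟩ := key K hK
    have : h = k := Subtype.ext (hh.trans hk.symm)
    rw [this]
  have hncyc := sylow_two_not_cyclic_of_perfect hperf heven S
  rcases Cfsg.Agent.Lib.Helper1.cyclic_or_quaternion_of_unique S.2 huniq with hc | ⟨n, ⟨e⟩⟩
  · exact absurd hc hncyc
  · rcases n with _ | m
    · exfalso
      apply hncyc
      have : IsCyclic (QuaternionGroup (2 ^ 0)) := by
        rw [pow_zero]; exact QuaternionGroup.quaternionGroup_one_isCyclic
      exact isCyclic_of_surjective e.symm e.symm.surjective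
    · exact ⟨m, ⟨e⟩⟩

end Cfsg.Agent.Lib.Helper10.QuatSylow
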