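import Mathlib

/-!
helper10: piece P7a of helper1's S4305 plan: the module `V/V₀` with its conjugation action.
-/

namespace Cfsg.Agent.Lib.Helper10.QuotModule

open scoped commutatorElement

universe u

theorem exists_quot_module {Γ : Type u} [Group Γ] [Finite Γ] (V V₀ : Subgroup Γ) (hV : V.Normal)
    (hV₀ : V₀.Normal) (hle : V₀ ≤ V) (hder : ⁅V, V⁆ ≤ V₀) :
    ∃ (M : Type u) (_ : CommGroup M) (_ : Finite M) (Ψ : Γ →* MulAut M) (π : ↥V →* M),
      Function.Surjective π ∧ (∀ v : ↥V, π v = 1 ↔ (v : Γ) ∈ V₀) ∧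
      ∀ (g : Γ) (v : ↥V), Ψ g (π v) = π ⟨g * v * g⁻¹, hV.conj_mem v v.2 g⟩ := by
  classical
  -- the image of V in Γ ⧸ V₀
  set W : Subgroup (Γ ⧸ V₀) := V.map (QuotientGroup.mk' V₀) with hW
  have hWn : W.Normal := Subgroup.Normal.map hV _ (QuotientGroup.mk'_surjective V₀)
  have hcomm : ∀ a b : ↥W, a * b = b * a := by
    rintro ⟨a, ha⟩ ⟨b, hb⟩
    obtain ⟨x, hx, rfl⟩ := ha
    obtain ⟨y, hy, rfl⟩ := hb
    apply Subtype.ext
    change QuotientGroup.mk' V₀ x * QuotientGroup.mk' V₀ y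
        = QuotientGroup.mk' V₀ y * QuotientGroup.mk' V₀ x
    rw [← map_mul, ← map_mul]
    change ((x * y : Γ) : Γ ⧸ V₀) = ((y * x : Γ) : Γ ⧸ V₀)
    rw [QuotientGroup.eq]
    have h1 : ⁅y⁻¹, x⁻¹⁆ ∈ V₀ :=
      hder (Subgroup.commutator_mem_commutator (V.inv_mem hy) (V.inv_mem hx))
    have h2 : (x * y)⁻¹ * (y * x) = ⁅y⁻¹, x⁻¹⁆ := by
      simp [commutatorElement_def, mul_assoc]
    rw [h2]; exact h1
  letI instM : CommGroup ↥W := { (inferInstance : Group ↥W) with mul_comm := hcomm }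
  refine ⟨↥W, instM, inferInstance,
    (MulAut.conjNormal (H := W)).comp (QuotientGroup.mk' V₀),
    ((QuotientGroup.mk' V₀).subgroupMap V), ?_, ?_, ?_⟩
  · exact MonoidHom.subgroupMap_surjective _ _
  · intro v
    constructor
    · intro h
      have h' := congrArg Subtype.val h
      change QuotientGroup.mk' V₀ (v : Γ) = 1 at h'
      rwa [QuotientGroup.mk'_apply, QuotientGroup.eq_one_iff] at h'
    · intro h
      apply Subtype.ext
      change QuotientGroup.mk' V₀ (v : Γ) = 1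
      rwa [QuotientGroup.mk'_apply, QuotientGroup.eq_one_iff]
  · intro g v
    apply Subtype.ext
    simp only [MonoidHom.coe_comp, Function.comp_apply, MulAut.conjNormal_apply]
    rfl

end Cfsg.Agent.Lib.Helper10.QuotModule
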