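import Mathlib
import Cfsg.Agent.Lib.helper7.R1.Defs

/-!
Project R1 (S4648, coordinator helper7), piece K4A: a local algebra whose radical is generated by one
element modulo its square is commutative.
-/

set_option autoImplicit false

namespace Cfsg.Agent.Lib.Helper10.R1

open Cfsg.Agent.Lib.helper7 Cfsg.Agent.Lib.helper7.Br Cfsg.Agent.Lib.helper7.R1
open scoped ComplexConjugate

section algstmts

variable {F A : Type*} [Field F] [Ring A] [Algebra F A]

/-- a nilpotent set: the `m`-th power of the `F`-submodule vanishes. -/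
theorem k4_pow_eq_bot {Λ : Type*} [Ring Λ] [Algebra F Λ] (N : Ideal Λ) {m : ℕ}
    (hm : ∀ l : List Λ, l.length = m → (∀ x ∈ l, x ∈ (N : Set Λ)) → l.prod = 0) :
    (N.restrictScalars F) ^ m = ⊥ := by
  rw [eq_bot_iff, Submodule.pow_eq_span_pow_set, Submodule.span_le]
  intro x hx
  rw [Set.mem_pow] at hx
  obtain ⟨f, rfl⟩ := hx
  have := hm (List.ofFn fun i => (f i : Λ)) (by simp) (by
    intro y hy
    rw [List.mem_ofFn] at hy
    obtain ⟨i, rfl⟩ := hy
    exact (f i).2)
  rw [this]
  exact Submodule.zero_mem _

/-- K4A : a local algebra whose radical is generated by one element modulo its square is commutative. -/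
theorem comm_of_gen_one {Λ : Type*} [Ring Λ] [Algebra F Λ]
    (N : Ideal Λ) (hNr : ∀ x ∈ N, ∀ y : Λ, x * y ∈ N) (hNnil : NilSet (N : Set Λ))
    (hloc : ∀ x : Λ, ∃ α : F, x - algebraMap F Λ α ∈ N)
    (a : Λ) (ha : a ∈ N)
    (hgen : ∀ y ∈ N, ∃ c : F, y - c • a ∈ N.restrictScalars F * N.restrictScalars F) :
    ∀ x y : Λ, x * y = y * x := by
  classical
  set J : Submodule F Λ := N.restrictScalars F with hJ
  set S : Subalgebra F Λ := Algebra.adjoin F {a} with hS
  have haS : a ∈ S := Algebra.subset_adjoin (Set.mem_singleton a)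
  have hJl : ∀ X : Submodule F Λ, X * J ≤ J := by
    intro X
    rw [Submodule.mul_le]
    intro x _ j hj
    exact N.mul_mem_left x hj
  have hpowle : ∀ k, J ^ (k + 1) ≤ J := by
    intro k
    rw [pow_succ]
    exact hJl _
  -- key induction
  have key : ∀ k, J ≤ Subalgebra.toSubmodule S ⊔ J ^ (k + 1) := by
    intro k
    induction k with
    | zero =>
      rw [zero_add, pow_one]
      exact le_sup_right
    | succ k ih =>
      intro y hy
      obtain ⟨c, hc⟩ := hgen y hy
      have hJJ : J * J ≤ Subalgebra.toSubmodule S ⊔ J ^ (k + 1 + 1) := by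
        rw [Submodule.mul_le]
        intro x hx x' hx'
        obtain ⟨s, hs, u, hu, rfl⟩ := Submodule.mem_sup.1 (ih hx)
        obtain ⟨s', hs', u', hu', rfl⟩ := Submodule.mem_sup.1 (ih hx')
        have hsJ : s ∈ J := by
          have : s = (s + u) - u := by abel
          rw [this]
          exact J.sub_mem hx (hpowle k hu)
        have hs'J : s' ∈ J := by
          have : s' = (s' + u') - u' := by abel
          rw [this]
          exact J.sub_mem hx' (hpowle k hu')
        have e : (s + u) * (s' + u') = s * s' + (s * u' + u * s' + u * u') := by noncomm_ring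
        rw [e]
        refine Submodule.add_mem_sup (S.mul_mem hs hs') ?_
        refine Submodule.add_mem _ (Submodule.add_mem _ ?_ ?_) ?_
        · rw [pow_succ' J (k + 1)]
          exact Submodule.mul_mem_mul hsJ hu'
        · rw [pow_succ J (k + 1)]
          exact Submodule.mul_mem_mul hu hs'J
        · rw [pow_succ J (k + 1)]
          exact Submodule.mul_mem_mul hu (hpowle k hu')
      have : y = c • a + (y - c • a) := by abel
      rw [this]
      exact Submodule.add_mem _ (Submodule.mem_sup_left (S.smul_mem haS c)) (hJJ hc)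
  obtain ⟨m, hm⟩ := hNnil
  have hJm : J ^ m = ⊥ := k4_pow_eq_bot N hm
  have hJS : J ≤ Subalgebra.toSubmodule S := by
    cases m with
    | zero =>
      -- the ring is trivial
      have h1 : (1 : Λ) = 0 := by
        have := hm [] rfl (by simp)
        simpa using this
      intro x _
      have : x = 0 := by rw [← mul_one x, h1, mul_zero]
      rw [this]
      exact Submodule.zero_mem _
    | succ j =>
      have := key j
      rwa [hJm, sup_bot_eq] at this
  have hall : ∀ x : Λ, x ∈ S := by
    intro x
    obtain ⟨α, hα⟩ := hloc x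
    have : x = algebraMap F Λ α + (x - algebraMap F Λ α) := by abel
    rw [this]
    exact S.add_mem (S.algebraMap_mem α) (hJS hα)
  intro x y
  have hx := hall x
  have hy := hall y
  rw [hS, Algebra.adjoin_singleton_eq_range_aeval] at hx hy
  obtain ⟨p, rfl⟩ := hx
  obtain ⟨q, rfl⟩ := hy
  rw [← map_mul, ← map_mul, mul_comm]

end algstmts

end Cfsg.Agent.Lib.Helper10.R1
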