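import Mathlib
import Cfsg.Agent.Lib.helper7.R1.Defs

/-!
Project R1 (S4648, coordinator helper7), piece K4B: in a local symmetric algebra with `J² ≠ 0`:
`dim Λ + 1 ≤ dim Z(Λ) + dim J²`, with equality forcing `J² ∩ ker lam` to consist of sums of commutators.
-/

set_option autoImplicit false

namespace Cfsg.Agent.Lib.Helper10.R1

open Cfsg.Agent.Lib.helper7 Cfsg.Agent.Lib.helper7.Br Cfsg.Agent.Lib.helper7.R1
open scoped ComplexConjugate

section algstmts

variable {F A : Type*} [Field F] [Ring A] [Algebra F A]

/-- K4B : in a local symmetric algebra with `J² ≠ 0`:  `dim Λ + 1 ≤ dim Z(Λ) + dim J²`, and in the case of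
equality every element of `J²` killed by the form is a sum of commutators. -/
theorem center_bound {Λ : Type*} [Ring Λ] [Algebra F Λ] [FiniteDimensional F Λ]
    (lam : Λ →ₗ[F] F) (hlam : IsSymForm lam)
    (N : Ideal Λ) (hNr : ∀ x ∈ N, ∀ y : Λ, x * y ∈ N) (hNnil : NilSet (N : Set Λ))
    (hloc : ∀ x : Λ, ∃ α : F, x - algebraMap F Λ α ∈ N)
    (hne : N.restrictScalars F * N.restrictScalars F ≠ ⊥) :
    Module.finrank F Λ + 1 ≤ Module.finrank F (Subalgebra.center F Λ) +
        Module.finrank F ↥(N.restrictScalars F * N.restrictScalars F) ∧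
      (Module.finrank F Λ + 1 = Module.finrank F (Subalgebra.center F Λ) +
          Module.finrank F ↥(N.restrictScalars F * N.restrictScalars F) →
        ∀ y ∈ N.restrictScalars F * N.restrictScalars F, lam y = 0 →
          y ∈ Submodule.span F {c : Λ | ∃ a b : Λ, c = a * b - b * a}) := by
  classical
  set J : Submodule F Λ := N.restrictScalars F with hJ
  set J2 : Submodule F Λ := J * J with hJ2
  set Kc : Submodule F Λ := Submodule.span F {c : Λ | ∃ a b : Λ, c = a * b - b * a} with hKc
  set K0 : Submodule F Λ := J2 ⊓ LinearMap.ker lam with hK0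
  -- commutators lie in `J² ∩ ker lam`
  have hcomm : ∀ a b : Λ, a * b - b * a ∈ J2 := by
    intro a b
    obtain ⟨α, hα⟩ := hloc a
    obtain ⟨β, hβ⟩ := hloc b
    set n := a - algebraMap F Λ α with hn
    set n' := b - algebraMap F Λ β with hn'
    have ha : a = algebraMap F Λ α + n := by rw [hn]; abel
    have hb : b = algebraMap F Λ β + n' := by rw [hn']; abel
    have : a * b - b * a = n * n' - n' * n := by
      rw [ha, hb]
      have c1 := Algebra.commutes α n'
      have c2 := Algebra.commutes β n
      have c3 := Algebra.commutes α (algebraMap F Λ β)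
      simp only [add_mul, mul_add]
      rw [c1, ← c2, c3]
      abel
    rw [this]
    exact J2.sub_mem (Submodule.mul_mem_mul hα hβ) (Submodule.mul_mem_mul hβ hα)
  have hKle : Kc ≤ K0 := by
    rw [hKc, Submodule.span_le]
    rintro c ⟨a, b, rfl⟩
    refine ⟨hcomm a b, ?_⟩
    show lam (a * b - b * a) = 0
    rw [map_sub, hlam.1 a b, sub_self]
  -- the form does not vanish on `J²`
  have hs : ∃ s ∈ J2, lam s ≠ 0 := by
    by_contra hcon
    push Not at hcon
    apply hne
    rw [eq_bot_iff, Submodule.mul_le]
    intro x hx y hy
    rw [Submodule.mem_bot]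
    apply hlam.2
    intro b
    rw [mul_assoc]
    exact hcon _ (Submodule.mul_mem_mul hx (hNr y hy b))
  obtain ⟨s, hsJ, hsl⟩ := hs
  -- `J² + ker lam = Λ`
  have hsup : J2 ⊔ LinearMap.ker lam = ⊤ := by
    rw [eq_top_iff]
    intro x _
    have hx : x = (lam x / lam s) • s + (x - (lam x / lam s) • s) := by abel
    rw [hx]
    refine Submodule.add_mem_sup (J2.smul_mem _ hsJ) ?_
    rw [LinearMap.mem_ker, map_sub, map_smul, smul_eq_mul, div_mul_cancel₀ _ hsl, sub_self]
  have hker : Module.finrank F (LinearMap.ker lam) + 1 = Module.finrank F Λ := by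
    have h := LinearMap.finrank_range_add_finrank_ker lam
    have hr : LinearMap.range lam = ⊤ := by
      rw [eq_top_iff]
      intro c _
      refine ⟨(c / lam s) • s, ?_⟩
      rw [map_smul, smul_eq_mul, div_mul_cancel₀ _ hsl]
    rw [hr, finrank_top, Module.finrank_self] at h
    omega
  have hK0f : Module.finrank F K0 + 1 = Module.finrank F J2 := by
    have h := Submodule.finrank_sup_add_finrank_inf_eq J2 (LinearMap.ker lam)
    rw [hsup, finrank_top] at h
    rw [hK0]
    omega
  -- the centre is the orthogonal complement of the commutator space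
  set B : LinearMap.BilinForm F Λ := (LinearMap.mul F Λ).compr₂ lam with hB
  have hBapp : ∀ a b, B a b = lam (a * b) := fun a b => rfl
  have hBnd : B.Nondegenerate := by
    constructor
    · intro x hx
      exact hlam.2 x (fun y => by rw [← hBapp]; exact hx y)
    · intro y hy
      exact hlam.2 y (fun x => by rw [hlam.1, ← hBapp]; exact hy x)
  set O : Submodule F Λ := B.orthogonal Kc with hO
  have hOmem : ∀ y, y ∈ O ↔ ∀ w ∈ Kc, lam (w * y) = 0 := by
    intro y
    rw [hO, LinearMap.BilinForm.mem_orthogonal_iff]
    rfl
  have hOZ : O = Subalgebra.toSubmodule (Subalgebra.center F Λ) := by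
    ext y
    rw [Subalgebra.mem_toSubmodule, Subalgebra.mem_center_iff, hOmem]
    constructor
    · intro hy a
      have : y * a - a * y = 0 := by
        apply hlam.2
        intro b
        have h1 : lam ((y * a - a * y) * b) = lam ((a * b - b * a) * y) := by
          rw [sub_mul, sub_mul, map_sub, map_sub]
          have e1 : lam (y * a * b) = lam (a * b * y) := by
            rw [mul_assoc, hlam.1]
          have e2 : lam (a * y * b) = lam (b * a * y) := by
            rw [hlam.1, ← mul_assoc]
          rw [e1, e2]
        rw [h1]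
        exact hy _ (Submodule.subset_span ⟨a, b, rfl⟩)
      exact (sub_eq_zero.mp this).symm
    · intro hy w hw
      induction hw using Submodule.span_induction with
      | mem c hc =>
        obtain ⟨a, b, rfl⟩ := hc
        rw [sub_mul, map_sub, sub_eq_zero]
        -- lam (a b y) = lam (b a y), `y` central
        calc lam (a * b * y) = lam (a * (b * y)) := by rw [mul_assoc]
          _ = lam (b * y * a) := by rw [hlam.1]
          _ = lam (b * (y * a)) := by rw [mul_assoc]
          _ = lam (b * (a * y)) := by rw [hy a]
          _ = lam (b * a * y) := by rw [mul_assoc]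
      | zero => rw [zero_mul, map_zero]
      | add u v _ _ hu hv => rw [add_mul, map_add, hu, hv, add_zero]
      | smul c u _ hu => rw [smul_mul_assoc, map_smul, hu, smul_zero]
  have hforth : Module.finrank F O = Module.finrank F Λ - Module.finrank F Kc :=
    LinearMap.BilinForm.finrank_orthogonal hBnd Kc
  have hZ : Module.finrank F (Subalgebra.center F Λ) = Module.finrank F O := by
    rw [hOZ]
    rfl
  have hKcle : Module.finrank F Kc ≤ Module.finrank F Λ := Submodule.finrank_le Kc
  have hKK : Module.finrank F Kc ≤ Module.finrank F K0 := Submodule.finrank_mono hKle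
  constructor
  · omega
  · intro heq y hy hly
    have hfe : Module.finrank F K0 ≤ Module.finrank F Kc := by omega
    have hKeq : Kc = K0 := Submodule.eq_of_le_of_finrank_le hKle hfe
    rw [hKeq]
    exact ⟨hy, hly⟩

end algstmts

end Cfsg.Agent.Lib.Helper10.R1
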