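import Mathlib
import Cfsg.Agent.Lib.helper7.R1.Defs
import Cfsg.Agent.Lib.Helper25.AugNil

/-!
Project R1 (S4648, coordinator helper7), piece PJ: the dimension of a projective module `FG·ε` is
divisible by the order of every `p`-subgroup (characteristic `p`).
-/

set_option autoImplicit false

namespace Cfsg.Agent.Lib.Helper10.R1

open Cfsg.Agent.Lib.helper7 Cfsg.Agent.Lib.helper7.Br Cfsg.Agent.Lib.helper7.R1
open scoped ComplexConjugate

section fixed

variable {F : Type*} [Field F]

/-- the product of the operators `ρ u - 1` along a list. -/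
noncomputable def pjOp {P : Type*} [Group P] {W : Type*} [AddCommGroup W] [Module F W]
    (ρ : P →* Module.End F W) (l : List P) : Module.End F W :=
  (l.map fun u => ρ u - 1).prod

theorem pjOp_eq_lift {P : Type*} [Group P] {W : Type*} [AddCommGroup W] [Module F W]
    (ρ : P →* Module.End F W) (l : List P) :
    pjOp ρ l = MonoidAlgebra.lift F (Module.End F W) P ρ
      ((l.map (Cfsg.Agent.Lib.Helper25.an_aug F)).prod) := by
  unfold pjOp
  rw [map_list_prod, List.map_map]
  congr 1
  apply List.map_congr_left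
  intro u _
  simp only [Function.comp_apply, Cfsg.Agent.Lib.Helper25.an_aug, map_sub, map_one]
  congr 1
  simp

/-- A `p`-group acting linearly on a vector space of characteristic `p` has a non-zero fixed vector in
every non-zero invariant subspace. -/
theorem pj_fixed_vector (p : ℕ) [Fact p.Prime] [CharP F p]
    {P : Type*} [Group P] [Finite P] (hP : IsPGroup p P)
    {W : Type*} [AddCommGroup W] [Module F W] (ρ : P →* Module.End F W)
    (S : Submodule F W) (hS : ∀ u : P, ∀ s ∈ S, ρ u s ∈ S) (hne : S ≠ ⊥) :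
    ∃ s ∈ S, s ≠ 0 ∧ ∀ u : P, ρ u s = s := by
  classical
  obtain ⟨m, hm⟩ := Cfsg.Agent.Lib.Helper25.an_prod_aug_eq_zero (F := F) p (Nat.card P) P hP rfl
  obtain ⟨s0, hs0S, hs0⟩ := (Submodule.ne_bot_iff S).1 hne
  have hzero : ∀ l : List P, m ≤ l.length → pjOp ρ l = 0 := by
    intro l hl
    rw [pjOp_eq_lift, hm l hl, map_zero]
  have hstab : ∀ l : List P, ∀ s ∈ S, pjOp ρ l s ∈ S := by
    intro l
    induction l with
    | nil =>
      intro s hs
      simpa [pjOp] using hs
    | cons u l ih =>
      intro s hs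
      have e : pjOp ρ (u :: l) s = ρ u (pjOp ρ l s) - pjOp ρ l s := by
        unfold pjOp
        rw [List.map_cons, List.prod_cons]
        rfl
      rw [e]
      exact S.sub_mem (hS u _ (ih s hs)) (ih s hs)
  let Q : ℕ → Prop := fun k => ∃ l : List P, l.length = k ∧ pjOp ρ l s0 ≠ 0
  have hQ0 : Q 0 := ⟨[], rfl, by simpa [pjOp] using hs0⟩
  set k := Nat.findGreatest Q m with hk
  have hQk : Q k := Nat.findGreatest_spec (P := Q) (Nat.zero_le m) hQ0
  have hnQ : ¬ Q (k + 1) := by
    by_cases hkm : k + 1 ≤ m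
    · exact Nat.findGreatest_is_greatest (P := Q) (Nat.lt_succ_self k) hkm
    · rintro ⟨l, hl, hne⟩
      apply hne
      rw [hzero l (by omega)]
      rfl
  obtain ⟨l, hl, hls⟩ := hQk
  refine ⟨pjOp ρ l s0, hstab l s0 hs0S, hls, ?_⟩
  intro u
  by_contra hcon
  apply hnQ
  refine ⟨u :: l, by simp [hl], ?_⟩
  have e : pjOp ρ (u :: l) s0 = ρ u (pjOp ρ l s0) - pjOp ρ l s0 := by
    unfold pjOp
    rw [List.map_cons, List.prod_cons]
    rfl
  rw [e]
  intro h0
  exact hcon (sub_eq_zero.mp h0)

end fixed

section nu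

variable {F : Type*} [Field F] {G : Type*} [Group G] [Fintype G]

/-- `ν = ∑_{u ∈ P} u` in the group algebra. -/
noncomputable def pjNu (F : Type*) [Field F] (P : Subgroup G) [Fintype P] : GA F G :=
  ∑ u : P, gof F (u : G)

/-- the translation action of `P` on functions `P → U`. -/
noncomputable def pjRho (F : Type*) [Field F] (P : Subgroup G) (U : Type*) [AddCommGroup U]
    [Module F U] : P →* Module.End F (P → U) where
  toFun w := LinearMap.funLeft F U (fun u => w⁻¹ * u)
  map_one' := by
    apply LinearMap.ext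
    intro x
    funext u
    simp [LinearMap.funLeft_apply]
  map_mul' w w' := by
    apply LinearMap.ext
    intro x
    funext u
    simp [LinearMap.funLeft_apply, mul_assoc]

theorem pjRho_apply (P : Subgroup G) (U : Type*) [AddCommGroup U] [Module F U] (w : P)
    (x : P → U) (u : P) : pjRho F P U w x u = x (w⁻¹ * u) := rfl

/-- Lemma 1: `|P| · dim (ν V) ≤ dim V` for a subspace `V` stable under left multiplication by `P`. -/
theorem pj_card_mul_le (p : ℕ) [Fact p.Prime] [CharP F p] (P : Subgroup G) [Fintype P]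
    (hP : IsPGroup p P) (V : Submodule F (GA F G))
    (hV : ∀ u : P, ∀ v ∈ V, gof F (u : G) * v ∈ V) :
    Fintype.card P * Module.finrank F ↥(V.map (LinearMap.mulLeft F (pjNu F P))) ≤
      Module.finrank F ↥V := by
  classical
  set L : GA F G →ₗ[F] GA F G := LinearMap.mulLeft F (pjNu F P) with hL
  set LV : ↥V →ₗ[F] GA F G := L.domRestrict V with hLV
  obtain ⟨U, hU⟩ := Submodule.exists_isCompl (LinearMap.ker LV)
  -- `dim U = dim (ν V)`
  have hfU : Module.finrank F ↥U = Module.finrank F ↥(V.map L) := by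
    have h1 := Submodule.finrank_add_eq_of_isCompl hU
    have h2 := LinearMap.finrank_range_add_finrank_ker LV
    have h3 : LinearMap.range LV = V.map L := LinearMap.range_domRestrict V L
    rw [h3] at h2
    omega
  -- the map `Ψ`
  let Ψ : (P → ↥U) →ₗ[F] GA F G :=
    ∑ u : P, (LinearMap.mulLeft F (gof F (u : G))) ∘ₗ V.subtype ∘ₗ U.subtype ∘ₗ
      (LinearMap.proj u : (P → ↥U) →ₗ[F] ↥U)
  have hΨ : ∀ x : P → ↥U, Ψ x = ∑ u : P, gof F (u : G) * ((x u : ↥V) : GA F G) := by
    intro x
    simp [Ψ, LinearMap.sum_apply]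
  have hΨV : ∀ x, Ψ x ∈ V := by
    intro x
    rw [hΨ]
    exact Submodule.sum_mem _ fun u _ => hV u _ (x u : ↥V).2
  -- equivariance
  have hequi : ∀ (w : P) (x : P → ↥U), Ψ (pjRho F P ↥U w x) = gof F (w : G) * Ψ x := by
    intro w x
    rw [hΨ, hΨ, Finset.mul_sum]
    refine Fintype.sum_equiv (Equiv.mulLeft w⁻¹) _ _ ?_
    intro u
    rw [pjRho_apply, Equiv.coe_mulLeft, ← mul_assoc, gof_mul]
    congr 2
    simp
  have hinj : Function.Injective Ψ := by
    rw [injective_iff_map_eq_zero]
    intro x0 hx00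
    by_contra hx0ne
    have hne : LinearMap.ker Ψ ≠ ⊥ := by
      intro hbot
      apply hx0ne
      have : x0 ∈ LinearMap.ker Ψ := hx00
      rw [hbot] at this
      exact this
    have hstab : ∀ w : P, ∀ x ∈ LinearMap.ker Ψ, pjRho F P ↥U w x ∈ LinearMap.ker Ψ := by
      intro w x hx
      rw [LinearMap.mem_ker] at hx ⊢
      rw [hequi, hx, mul_zero]
    have key := pj_fixed_vector (F := F) p (P := ↥P) (W := (↥P → ↥U)) hP (pjRho F P ↥U)
      (LinearMap.ker Ψ) hstab hne
    obtain ⟨x, hxk, hx0, hxfix⟩ := key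
    apply hx0
    have hconst : ∀ u : P, x u = x 1 := by
      intro u
      have := congrFun (hxfix u) u
      rw [pjRho_apply, inv_mul_cancel] at this
      exact this.symm
    have hx1 : (x 1 : ↥V) ∈ LinearMap.ker LV := by
      rw [LinearMap.mem_ker]
      have h0 : Ψ x = 0 := hxk
      rw [hΨ] at h0
      show pjNu F P * ((x 1 : ↥V) : GA F G) = 0
      rw [pjNu, Finset.sum_mul, ← h0]
      refine Finset.sum_congr rfl fun u _ => ?_
      rw [hconst u]
    have hx1' : (x 1 : ↥V) = 0 := by
      have hmem : (x 1 : ↥V) ∈ LinearMap.ker LV ⊓ U := ⟨hx1, (x 1).2⟩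
      rw [hU.inf_eq_bot] at hmem
      exact hmem
    funext u
    rw [hconst u]
    exact Subtype.ext hx1'
  -- count dimensions
  have hfin : Module.finrank F (P → ↥U) = Fintype.card P * Module.finrank F ↥U := by
    rw [Module.finrank_pi_fintype F, Finset.sum_const, Finset.card_univ, smul_eq_mul]
  have hle : Module.finrank F (P → ↥U) ≤ Module.finrank F ↥V := by
    let Ψ' : (P → ↥U) →ₗ[F] ↥V := LinearMap.codRestrict V Ψ hΨV
    have hinj' : Function.Injective Ψ' := by
      intro x y hxy
      apply hinj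
      exact congrArg Subtype.val hxy
    exact LinearMap.finrank_le_finrank_of_injective hinj'
  rw [← hfU, ← hfin]
  exact hle

theorem pjNu_apply (P : Subgroup G) [Fintype P] (h : G) [Decidable (h ∈ P)] :
    pjNu F P h = if h ∈ P then 1 else 0 := by
  classical
  rw [pjNu, GA.sum_apply]
  split_ifs with hh
  · rw [Finset.sum_eq_single (⟨h, hh⟩ : P)]
    · exact gof_self h
    · intro b _ hb
      rw [gof_apply, if_neg]
      intro e
      apply hb
      exact Subtype.ext e.symm
    · intro hn
      exact absurd (Finset.mem_univ _) hn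
  · apply Finset.sum_eq_zero
    intro b _
    rw [gof_apply, if_neg]
    intro e
    apply hh
    rw [e]
    exact b.2

/-- Lemma 2: `|G : P| ≤ dim (ν · FG)`. -/
theorem pj_index_le (P : Subgroup G) [Fintype P] :
    Nat.card (G ⧸ P) ≤
      Module.finrank F ↥(LinearMap.range (LinearMap.mulLeft F (pjNu F P))) := by
  classical
  haveI : Fintype (G ⧸ P) := Fintype.ofFinite _
  let b : G ⧸ P → GA F G := fun q => pjNu F P * gof F (q.out)⁻¹
  have hb : ∀ (q : G ⧸ P) (g : G), b q g = if (QuotientGroup.mk g⁻¹ : G ⧸ P) = q then 1 else 0 := by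
    intro q g
    show (pjNu F P * gof F (q.out)⁻¹) g = _
    rw [mul_gof_apply, inv_inv, pjNu_apply]
    have : g * q.out ∈ P ↔ (QuotientGroup.mk g⁻¹ : G ⧸ P) = q := by
      conv_rhs => rw [← QuotientGroup.out_eq' q]
      rw [QuotientGroup.eq, inv_inv]
    simp only [this]
  have hli : LinearIndependent F b := by
    rw [Fintype.linearIndependent_iff]
    intro c hc q
    have h1 := congrFun hc (q.out)⁻¹
    rw [GA.sum_apply] at h1
    simp only [GA.smul_apply, hb, inv_inv, QuotientGroup.out_eq'] at h1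
    rw [Finset.sum_eq_single q] at h1
    · simpa using h1
    · intro q' _ hq'
      rw [if_neg (Ne.symm hq'), mul_zero]
    · intro hn
      exact absurd (Finset.mem_univ _) hn
  have hspan : Submodule.span F (Set.range b) ≤
      LinearMap.range (LinearMap.mulLeft F (pjNu F P)) := by
    rw [Submodule.span_le]
    rintro _ ⟨q, rfl⟩
    exact ⟨gof F (q.out)⁻¹, rfl⟩
  have h2 := finrank_span_eq_card hli
  rw [Nat.card_eq_fintype_card, ← h2]
  exact Submodule.finrank_mono hspan

end nu

section main

variable {F A : Type*} [Field F] [Ring A] [Algebra F A]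

/-- PJ : the dimension of a projective module `FG·ε` is divisible by the order of every `p`-subgroup. -/
theorem pgroup_dvd_finrank {G : Type*} [Group G] [Fintype G] (p : ℕ) [Fact p.Prime] [CharP F p]
    (P : Subgroup G) (hP : IsPGroup p P) (ε : GA F G) (hε : IsIdempotentElem ε) :
    Nat.card P ∣ Module.finrank F ↥(LinearMap.range (LinearMap.mulRight F ε)) := by
  classical
  haveI : Fintype P := Fintype.ofFinite _
  set L : GA F G →ₗ[F] GA F G := LinearMap.mulLeft F (pjNu F P) with hL
  set M1 : Submodule F (GA F G) := LinearMap.range (LinearMap.mulRight F ε) with hM1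
  set M2 : Submodule F (GA F G) := LinearMap.range (LinearMap.mulRight F (1 - ε)) with hM2
  have hε2 : ε * ε = ε := hε
  have hM1s : ∀ u : P, ∀ v ∈ M1, gof F (u : G) * v ∈ M1 := by
    rintro u _ ⟨x, rfl⟩
    exact ⟨gof F (u : G) * x, by simp [mul_assoc]⟩
  have hM2s : ∀ u : P, ∀ v ∈ M2, gof F (u : G) * v ∈ M2 := by
    rintro u _ ⟨x, rfl⟩
    exact ⟨gof F (u : G) * x, by simp [mul_assoc]⟩
  have h1 : Fintype.card P * Module.finrank F ↥(M1.map L) ≤ Module.finrank F ↥M1 :=
    pj_card_mul_le p P hP M1 hM1s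
  have h2 : Fintype.card P * Module.finrank F ↥(M2.map L) ≤ Module.finrank F ↥M2 :=
    pj_card_mul_le p P hP M2 hM2s
  -- `M1 ⊕ M2 = FG`
  have hsup : M1 ⊔ M2 = ⊤ := by
    rw [eq_top_iff]
    intro x _
    have hx : x = x * ε + x * (1 - ε) := by rw [mul_sub, mul_one]; abel
    rw [hx]
    exact Submodule.add_mem_sup ⟨x, rfl⟩ ⟨x, rfl⟩
  have hinf : M1 ⊓ M2 = ⊥ := by
    rw [eq_bot_iff]
    rintro z ⟨⟨x, hx⟩, ⟨y, hy⟩⟩
    rw [Submodule.mem_bot]
    have hx' : x * ε = z := hx
    have hy' : y * (1 - ε) = z := hy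
    have e1 : z * ε = z := by rw [← hx', mul_assoc, hε2]
    have e2 : z * ε = 0 := by
      rw [← hy', mul_assoc, sub_mul, one_mul, hε2, sub_self, mul_zero]
    rw [← e1, e2]
  have hdim : Module.finrank F ↥M1 + Module.finrank F ↥M2 = Nat.card G := by
    have h := Submodule.finrank_sup_add_finrank_inf_eq M1 M2
    rw [hsup, hinf, finrank_bot, add_zero, finrank_top, GA.finrank_eq] at h
    exact h.symm
  -- images under `ν`
  have hmap : (M1.map L) ⊔ (M2.map L) = LinearMap.range L := by
    rw [← Submodule.map_sup, hsup, Submodule.map_top]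
  have h3 : Module.finrank F ↥(LinearMap.range L) ≤
      Module.finrank F ↥(M1.map L) + Module.finrank F ↥(M2.map L) := by
    rw [← hmap]
    exact Submodule.finrank_add_le_finrank_add_finrank _ _
  have h4 : Nat.card (G ⧸ P) ≤ Module.finrank F ↥(LinearMap.range L) := pj_index_le (F := F) P
  have h5 : Nat.card G = Nat.card (G ⧸ P) * Nat.card P :=
    Subgroup.card_eq_card_quotient_mul_card_subgroup P
  have hcP : Fintype.card P = Nat.card P := (Nat.card_eq_fintype_card).symm
  rw [hcP] at h1 h2
  -- all inequalities are equalities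
  have key : Nat.card P * Module.finrank F ↥(M1.map L) = Module.finrank F ↥M1 := by
    have h6 : Nat.card (G ⧸ P) * Nat.card P ≤
        Nat.card P * Module.finrank F ↥(M1.map L) + Nat.card P * Module.finrank F ↥(M2.map L) := by
      calc Nat.card (G ⧸ P) * Nat.card P
          ≤ Module.finrank F ↥(LinearMap.range L) * Nat.card P :=
            Nat.mul_le_mul_right _ h4
        _ ≤ (Module.finrank F ↥(M1.map L) + Module.finrank F ↥(M2.map L)) * Nat.card P :=
            Nat.mul_le_mul_right _ h3
        _ = _ := by ring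
    omega
  exact ⟨_, key.symm⟩

end main

end Cfsg.Agent.Lib.Helper10.R1
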