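import Mathlib
import Cfsg.Agent.Lib.helper7.REE.Defs
import Cfsg.Agent.Lib.Helper10.REEG7Ccore
import Cfsg.Agent.Lib.Helper10.REEG7B
import Cfsg.Agent.Lib.Helper1.REEG6
import Cfsg.Agent.Lib.Helper22.REEARC
import Cfsg.Agent.Lib.helper2.REELA19

set_option autoImplicit false

namespace Cfsg.Agent.Lib.helper7.REE

open Matrix Cfsg.Agent.Lib.helper8

universe u v

namespace ReeAx

variable {G : Type u} [Group G] [Finite G] {K : Type v} [Field K] [Fintype K] {m : ℕ}

theorem tor_norm (R : ReeAx G K m) (A : Subgroup G) (hA : R.IsTor A) :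
    ∃ k, k ∣ 6 ∧ Nat.card (Subgroup.normalizer (A : Set G)) = k * Nat.card A :=
  R.reeg7c_core (fun A hA => R.tor_pi A hA) (fun A hA => R.tor_cyclic A hA)
    (fun l hl hd => ar_ord_six m l hl hd)
    (fun l hl h6 hmin hlK M hM C _ hC hMC hcop n hn =>
      la_norm_six l hl h6 hmin hlK M hM C hC hMC hcop n hn) A hA

end ReeAx

end Cfsg.Agent.Lib.helper7.REE
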