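import Mathlib
import Cfsg.Agent.Lib.helper7.REE.Defs

set_option autoImplicit false

namespace Cfsg.Agent.Lib.helper7.REE

open Matrix Cfsg.Agent.Lib.helper8

universe u v

/-- in any group: a divisor of an element order is an element order -/
theorem reeg8a_dvd {G : Type u} [Group G] (n d : ℕ) (hn : 0 < n) (hd : d ∣ n)
    (h : ∃ g : G, orderOf g = n) : ∃ g : G, orderOf g = d := by
  obtain ⟨g, hg⟩ := h
  obtain ⟨e, he⟩ := hd
  have he0 : e ≠ 0 := by
    intro h0
    rw [h0, mul_zero] at he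
    omega
  refine ⟨g ^ e, ?_⟩
  rw [orderOf_pow_of_dvd he0 ⟨d, by rw [hg, he, mul_comm]⟩, hg, he,
    Nat.mul_div_cancel _ (Nat.pos_of_ne_zero he0)]

/-- a cyclic subgroup of order `n` contains an element of order `n` -/
theorem reeg8a_cyc {G : Type u} [Group G] (A : Subgroup G) (hA : IsCyclic A) (n : ℕ)
    (hn : Nat.card A = n) : ∃ g : G, orderOf g = n := by
  obtain ⟨a, ha⟩ := IsCyclic.exists_ofOrder_eq_natCard (α := A)
  exact ⟨(a : G), by rw [Subgroup.orderOf_coe, ha, hn]⟩

theorem reeg8a_q_ge (m : ℕ) : 3 ≤ qq m := by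
  unfold qq
  calc 3 = 3 ^ 1 := (pow_one 3).symm
    _ ≤ 3 ^ (2 * m + 1) := Nat.pow_le_pow_right (by norm_num) (by omega)

namespace ReeAx

variable {G : Type u} [Group G] [Finite G] {K : Type v} [Field K] [Fintype K] {m : ℕ}

/-- core of G8A: the spectrum, from the statements of `classify_order`, `ward`, `tor_cyclic`,
`D_basic` (two clauses) and the existence of elements of order 6 and 9. -/
theorem reeg8a_core (R : ReeAx G K m)
    (hCO : ∀ g : G, orderOf g ∣ 9 ∨ orderOf g ∣ 6 ∨ orderOf g ∣ qq m - 1 ∨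
      orderOf g ∣ (qq m + 1) / 2 ∨ orderOf g ∣ nn m)
    (hW : ∃ A₂ A₃ : Subgroup G, R.IsTor A₂ ∧ R.IsTor A₃ ∧
      Nat.card A₂ = qq m + rr m + 1 ∧ Nat.card A₃ = qq m - rr m + 1 ∧
      Nat.card (Subgroup.normalizer (A₂ : Set G)) = 6 * (qq m + rr m + 1) ∧
      Nat.card (Subgroup.normalizer (A₃ : Set G)) = 6 * (qq m - rr m + 1) ∧
      ∀ A, R.IsTor A → (∃ g : G, A = A₂.map (MulAut.conj g).toMonoidHom) ∨
        (∃ g : G, A = A₃.map (MulAut.conj g).toMonoidHom))
    (hTC : ∀ A : Subgroup G, R.IsTor A → IsCyclic A)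
    (hD : IsCyclic R.D ∧ 2 * Nat.card R.D = qq m + 1)
    (h6 : ∃ g : G, orderOf g = 6) (h9 : ∃ g : G, orderOf g = 9) (d : ℕ) :
    (∃ g : G, orderOf g = d) ↔
      (d ∣ 6 ∨ d ∣ 9 ∨ d ∣ qq m - 1 ∨ d ∣ (qq m + 1) / 2 ∨
        d ∣ qq m - rr m + 1 ∨ d ∣ qq m + rr m + 1) := by
  have hq3 := reeg8a_q_ge m
  obtain ⟨A₂, A₃, hT₂, hT₃, hc₂, hc₃, -, -, hall⟩ := hW
  constructor
  · rintro ⟨g, rfl⟩
    rcases hCO g with h | h | h | h | h
    · exact Or.inr (Or.inl h)
    · exact Or.inl h
    · exact Or.inr (Or.inr (Or.inl h))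
    · exact Or.inr (Or.inr (Or.inr (Or.inl h)))
    · by_cases hg1 : g = 1
      · left
        rw [hg1, orderOf_one]
        exact one_dvd _
      · have hpi : R.IsPi g := ⟨hg1, orderOf_dvd_iff_pow_eq_one.1 h⟩
        have hTor : R.IsTor (Subgroup.centralizer {g}) := ⟨g, hpi, rfl⟩
        have hgmem : g ∈ Subgroup.centralizer ({g} : Set G) := by
          rw [Subgroup.mem_centralizer_iff]
          intro y hy
          rw [Set.mem_singleton_iff] at hy
          rw [hy]
        have hdvd : orderOf g ∣ Nat.card (Subgroup.centralizer ({g} : Set G)) := by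
          have h1 := orderOf_dvd_natCard (⟨g, hgmem⟩ : Subgroup.centralizer ({g} : Set G))
          rwa [← Subgroup.orderOf_coe] at h1
        have hcardmap : ∀ (A : Subgroup G) (x : G),
            Nat.card (A.map (MulAut.conj x).toMonoidHom) = Nat.card A := by
          intro A x
          exact Nat.card_congr
            (A.equivMapOfInjective _ (MulAut.conj x).injective).symm.toEquiv
        rcases hall _ hTor with ⟨x, hx⟩ | ⟨x, hx⟩
        · right; right; right; right; right
          rw [hx, hcardmap, hc₂] at hdvd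
          exact hdvd
        · right; right; right; right; left
          rw [hx, hcardmap, hc₃] at hdvd
          exact hdvd
  · intro h
    rcases h with h | h | h | h | h | h
    · exact reeg8a_dvd 6 d (by norm_num) h h6
    · exact reeg8a_dvd 9 d (by norm_num) h h9
    · exact reeg8a_dvd (qq m - 1) d (by omega) h (reeg8a_cyc R.H R.H_cyc _ R.H_card)
    · have hcD : Nat.card R.D = (qq m + 1) / 2 := by omega
      exact reeg8a_dvd ((qq m + 1) / 2) d (by omega) h (reeg8a_cyc R.D hD.1 _ hcD)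
    · have hpos : 0 < qq m - rr m + 1 := by omega
      exact reeg8a_dvd _ d hpos h (reeg8a_cyc A₃ (hTC A₃ hT₃) _ hc₃)
    · have hpos : 0 < qq m + rr m + 1 := by omega
      exact reeg8a_dvd _ d hpos h (reeg8a_cyc A₂ (hTC A₂ hT₂) _ hc₂)

end ReeAx

end Cfsg.Agent.Lib.helper7.REE
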