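import Mathlib
import Cfsg.Agent.Lib.helper7.REE.Defs
import Cfsg.Agent.Lib.Helper10.REEG8Acore
import Cfsg.Agent.Lib.Helper10.REEG7B
import Cfsg.Agent.Lib.Helper1.REEG6
import Cfsg.Agent.Lib.helper3.REEG7F
import Cfsg.Agent.Lib.Helper16.REEG4E
import Cfsg.Agent.Lib.Helper16.REEG2F
import Cfsg.Agent.Lib.helper17.REEG2E

set_option autoImplicit false

namespace Cfsg.Agent.Lib.helper7.REE

open Matrix Cfsg.Agent.Lib.helper8

universe u v

theorem reeg8a_exists {G : Type u} (P : G → Prop) (n : ℕ) (hn : 0 < n)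
    (h : Nat.card ({b : G | P b} : Set G) = n) : ∃ b, P b := by
  have h1 : Nat.card ({b : G | P b} : Set G) ≠ 0 := by omega
  obtain ⟨⟨b, hb⟩⟩ := (Nat.card_ne_zero.1 h1).1
  exact ⟨b, hb⟩

namespace ReeAx

variable {G : Type u} [Group G] [Finite G] {K : Type v} [Field K] [Fintype K] {m : ℕ}

theorem spectrum (R : ReeAx G K m) (d : ℕ) :
    (∃ g : G, orderOf g = d) ↔
      (d ∣ 6 ∨ d ∣ 9 ∨ d ∣ qq m - 1 ∨ d ∣ (qq m + 1) / 2 ∨
        d ∣ qq m - rr m + 1 ∨ d ∣ qq m + rr m + 1) := by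
  have hq := reeg8a_q_ge m
  have h6 : ∃ g : G, orderOf g = 6 := by
    obtain ⟨b, -, hb⟩ := reeg8a_exists (fun b : G => b ∈ R.B ∧ orderOf b = 6) _
      (Nat.mul_pos (by positivity) (by omega)) R.B_count_6
    exact ⟨b, hb⟩
  have h9 : ∃ g : G, orderOf g = 9 := by
    have hpos : 0 < qq m ^ 3 - qq m ^ 2 := by
      have : qq m ^ 2 < qq m ^ 3 := Nat.pow_lt_pow_right (by omega) (by norm_num)
      omega
    obtain ⟨b, -, hb⟩ := reeg8a_exists (fun b : G => b ∈ R.B ∧ orderOf b = 9) _ hpos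
      R.B_count_39.2
    exact ⟨b, hb⟩
  exact R.reeg8a_core (fun g => R.classify_order g) R.ward (fun A hA => (R.tor_cyclic A hA).1)
    ⟨R.D_basic.1, R.D_basic.2.1⟩ h6 h9 d

end ReeAx

end Cfsg.Agent.Lib.helper7.REE
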