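import Mathlib
import Cfsg.Agent.Lib.helper7.REE.Defs

set_option autoImplicit false

namespace Cfsg.Agent.Lib.helper7.REE

open Matrix Cfsg.Agent.Lib.helper8

universe u v

theorem reeg8k_nd (x y : ℕ) (hy : 0 < y) (hxy : y < x) : ¬ x ∣ y := by
  intro h
  have := Nat.le_of_dvd hy h
  omega

/-- the six generators of the spectrum form an antichain for divisibility -/
theorem reeg8k_anti (m : ℕ) (hm : 1 ≤ m)
    (hA : qq m % 8 = 3 ∧ 3 ≤ qq m ∧ 3 ∣ qq m ∧ rr m ^ 2 = 3 * qq m ∧ rr m ≤ qq m ∧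
      nn m = (qq m + rr m + 1) * (qq m - rr m + 1) ∧
      qq m ^ 3 + 1 = (qq m + 1) * nn m ∧
      gg m = qq m ^ 3 * (qq m - 1) * (qq m + 1) * nn m ∧
      Odd ((qq m - 1) / 2) ∧ 2 * ((qq m - 1) / 2) = qq m - 1 ∧
      Odd ((qq m + 1) / 4) ∧ 4 * ((qq m + 1) / 4) = qq m + 1 ∧
      (1 ≤ m → 27 ≤ qq m ∧ 3 * rr m ≤ qq m))
    (hB : (nn m).Coprime 6 ∧ (nn m).Coprime (qq m) ∧ (nn m).Coprime (qq m - 1) ∧
      (nn m).Coprime (qq m + 1) ∧ (qq m + rr m + 1).Coprime (qq m - rr m + 1) ∧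
      ((qq m + 1) / 4).Coprime 6 ∧ ((qq m + 1) / 4).Coprime (qq m) ∧
      ((qq m + 1) / 4).Coprime (qq m - 1) ∧
      ((qq m - 1) / 2).Coprime 6 ∧ ((qq m - 1) / 2).Coprime (qq m) ∧
      ((qq m - 1) / 2).Coprime (qq m + 1) ∧
      Nat.gcd (qq m - 1) ((qq m + 1) / 2) = 2 ∧
      (qq m - 1).Coprime (qq m ^ 3) ∧ (qq m - 1).Coprime 3)
    (x y : ℕ)
    (hx : x = 6 ∨ x = 9 ∨ x = qq m - 1 ∨ x = (qq m + 1) / 2 ∨ x = qq m - rr m + 1 ∨
      x = qq m + rr m + 1)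
    (hy : y = 6 ∨ y = 9 ∨ y = qq m - 1 ∨ y = (qq m + 1) / 2 ∨ y = qq m - rr m + 1 ∨
      y = qq m + rr m + 1)
    (hxy : x ∣ y) : x = y := by
  obtain ⟨hmod8, -, h3q, -, hrq, hnn, -, -, -, -, -, -, hbig⟩ := hA
  obtain ⟨c6, -, ch, cp, c23, -, -, -, -, -, -, hgcd, -, -⟩ := hB
  obtain ⟨hq27, h3r⟩ := hbig hm
  have hr9 : 9 ≤ rr m := by
    unfold rr
    calc 9 = 3 ^ 2 := by norm_num
      _ ≤ 3 ^ (m + 1) := Nat.pow_le_pow_right (by norm_num) (by omega)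
  obtain ⟨k3, hk3⟩ := h3q
  have ha2n : (qq m + rr m + 1) ∣ nn m := ⟨_, hnn⟩
  have ha3n : (qq m - rr m + 1) ∣ nn m := ⟨_, by rw [hnn, mul_comm]⟩
  have h3a2 : ¬ 3 ∣ (qq m + rr m + 1) := by
    intro h
    have h1 : 3 ∣ Nat.gcd (nn m) 6 := Nat.dvd_gcd (dvd_trans h ha2n) (by norm_num)
    rw [c6] at h1
    omega
  have h3a3 : ¬ 3 ∣ (qq m - rr m + 1) := by
    intro h
    have h1 : 3 ∣ Nat.gcd (nn m) 6 := Nat.dvd_gcd (dvd_trans h ha3n) (by norm_num)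
    rw [c6] at h1
    omega
  have he : (qq m + 1) / 2 ∣ qq m + 1 := ⟨2, by omega⟩
  -- smaller does not divide larger: 15 facts
  have n1 : ¬ 6 ∣ 9 := by norm_num
  have n2 : ¬ 6 ∣ (qq m + 1) / 2 := by omega
  have n3 : ¬ 6 ∣ qq m - rr m + 1 := by omega
  have n4 : ¬ 6 ∣ qq m - 1 := by omega
  have n5 : ¬ 6 ∣ qq m + rr m + 1 := by omega
  have n6 : ¬ 9 ∣ (qq m + 1) / 2 := by omega
  have n7 : ¬ 9 ∣ qq m - rr m + 1 := by omega
  have n8 : ¬ 9 ∣ qq m - 1 := by omega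
  have n9 : ¬ 9 ∣ qq m + rr m + 1 := by omega
  have n10 : ¬ (qq m + 1) / 2 ∣ qq m - rr m + 1 := by
    intro h
    have h1 : (qq m + 1) / 2 ∣ Nat.gcd (nn m) (qq m + 1) := Nat.dvd_gcd (dvd_trans h ha3n) he
    rw [cp] at h1
    have := Nat.le_of_dvd (by norm_num) h1
    omega
  have n11 : ¬ (qq m + 1) / 2 ∣ qq m + rr m + 1 := by
    intro h
    have h1 : (qq m + 1) / 2 ∣ Nat.gcd (nn m) (qq m + 1) := Nat.dvd_gcd (dvd_trans h ha2n) he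
    rw [cp] at h1
    have := Nat.le_of_dvd (by norm_num) h1
    omega
  have n12 : ¬ (qq m + 1) / 2 ∣ qq m - 1 := by
    intro h
    have h1 : (qq m + 1) / 2 ∣ Nat.gcd (qq m - 1) ((qq m + 1) / 2) := Nat.dvd_gcd h dvd_rfl
    rw [hgcd] at h1
    have := Nat.le_of_dvd (by norm_num) h1
    omega
  have n13 : ¬ qq m - rr m + 1 ∣ qq m - 1 := by
    intro h
    have h1 : qq m - rr m + 1 ∣ Nat.gcd (nn m) (qq m - 1) := Nat.dvd_gcd ha3n h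
    rw [ch] at h1
    have := Nat.le_of_dvd (by norm_num) h1
    omega
  have n14 : ¬ qq m - rr m + 1 ∣ qq m + rr m + 1 := by
    intro h
    have h1 : qq m - rr m + 1 ∣ Nat.gcd (qq m + rr m + 1) (qq m - rr m + 1) :=
      Nat.dvd_gcd h dvd_rfl
    rw [c23] at h1
    have := Nat.le_of_dvd (by norm_num) h1
    omega
  have n15 : ¬ qq m - 1 ∣ qq m + rr m + 1 := by
    intro h
    have h1 : qq m - 1 ∣ Nat.gcd (nn m) (qq m - 1) := Nat.dvd_gcd (dvd_trans h ha2n) dvd_rfl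
    rw [ch] at h1
    have := Nat.le_of_dvd (by norm_num) h1
    omega
  rcases hx with rfl | rfl | rfl | rfl | rfl | rfl <;>
  rcases hy with rfl | rfl | rfl | rfl | rfl | rfl <;>
  first
  | rfl
  | exact absurd hxy (reeg8k_nd _ _ (by omega) (by omega))
  | exact absurd hxy (by assumption)

namespace ReeAx

variable {G : Type u} [Group G] [Finite G] {K : Type v} [Field K] [Fintype K] {m : ℕ}

/-- core of G8K: the maximal element orders, from the statements of `spectrum`, `ar_basic`,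
`ar_coprime`. -/
theorem reeg8k_core (R : ReeAx G K m)
    (hS : ∀ d : ℕ, (∃ g : G, orderOf g = d) ↔
      (d ∣ 6 ∨ d ∣ 9 ∨ d ∣ qq m - 1 ∨ d ∣ (qq m + 1) / 2 ∨
        d ∣ qq m - rr m + 1 ∨ d ∣ qq m + rr m + 1))
    (hA : qq m % 8 = 3 ∧ 3 ≤ qq m ∧ 3 ∣ qq m ∧ rr m ^ 2 = 3 * qq m ∧ rr m ≤ qq m ∧
      nn m = (qq m + rr m + 1) * (qq m - rr m + 1) ∧
      qq m ^ 3 + 1 = (qq m + 1) * nn m ∧
      gg m = qq m ^ 3 * (qq m - 1) * (qq m + 1) * nn m ∧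
      Odd ((qq m - 1) / 2) ∧ 2 * ((qq m - 1) / 2) = qq m - 1 ∧
      Odd ((qq m + 1) / 4) ∧ 4 * ((qq m + 1) / 4) = qq m + 1 ∧
      (1 ≤ m → 27 ≤ qq m ∧ 3 * rr m ≤ qq m))
    (hB : (nn m).Coprime 6 ∧ (nn m).Coprime (qq m) ∧ (nn m).Coprime (qq m - 1) ∧
      (nn m).Coprime (qq m + 1) ∧ (qq m + rr m + 1).Coprime (qq m - rr m + 1) ∧
      ((qq m + 1) / 4).Coprime 6 ∧ ((qq m + 1) / 4).Coprime (qq m) ∧
      ((qq m + 1) / 4).Coprime (qq m - 1) ∧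
      ((qq m - 1) / 2).Coprime 6 ∧ ((qq m - 1) / 2).Coprime (qq m) ∧
      ((qq m - 1) / 2).Coprime (qq m + 1) ∧
      Nat.gcd (qq m - 1) ((qq m + 1) / 2) = 2 ∧
      (qq m - 1).Coprime (qq m ^ 3) ∧ (qq m - 1).Coprime 3) :
    {n : ℕ | n ∈ Set.range (orderOf : G → ℕ) ∧
        ∀ k ∈ Set.range (orderOf : G → ℕ), n ∣ k → k = n} =
      ({6, 9, qq m - 1, (qq m + 1) / 2, qq m - rr m + 1, qq m + rr m + 1} : Set ℕ) := by
  have hanti := reeg8k_anti m R.hm hA hB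
  have hrange : ∀ d : ℕ, d ∈ Set.range (orderOf : G → ℕ) ↔
      (d ∣ 6 ∨ d ∣ 9 ∨ d ∣ qq m - 1 ∨ d ∣ (qq m + 1) / 2 ∨
        d ∣ qq m - rr m + 1 ∨ d ∣ qq m + rr m + 1) := by
    intro d
    rw [Set.mem_range]
    exact hS d
  have hgen : ∀ x : ℕ, (x = 6 ∨ x = 9 ∨ x = qq m - 1 ∨ x = (qq m + 1) / 2 ∨
      x = qq m - rr m + 1 ∨ x = qq m + rr m + 1) → x ∈ Set.range (orderOf : G → ℕ) := by
    intro x hx
    rw [hrange]
    rcases hx with rfl | rfl | rfl | rfl | rfl | rfl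
    · exact Or.inl dvd_rfl
    · exact Or.inr (Or.inl dvd_rfl)
    · exact Or.inr (Or.inr (Or.inl dvd_rfl))
    · exact Or.inr (Or.inr (Or.inr (Or.inl dvd_rfl)))
    · exact Or.inr (Or.inr (Or.inr (Or.inr (Or.inl dvd_rfl))))
    · exact Or.inr (Or.inr (Or.inr (Or.inr (Or.inr dvd_rfl))))
  -- every spectrum member divides a generator
  have hdiv : ∀ d : ℕ, d ∈ Set.range (orderOf : G → ℕ) → ∃ x : ℕ,
      (x = 6 ∨ x = 9 ∨ x = qq m - 1 ∨ x = (qq m + 1) / 2 ∨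
      x = qq m - rr m + 1 ∨ x = qq m + rr m + 1) ∧ d ∣ x := by
    intro d hd
    rw [hrange] at hd
    rcases hd with h | h | h | h | h | h
    · exact ⟨_, Or.inl rfl, h⟩
    · exact ⟨_, Or.inr (Or.inl rfl), h⟩
    · exact ⟨_, Or.inr (Or.inr (Or.inl rfl)), h⟩
    · exact ⟨_, Or.inr (Or.inr (Or.inr (Or.inl rfl))), h⟩
    · exact ⟨_, Or.inr (Or.inr (Or.inr (Or.inr (Or.inl rfl)))), h⟩
    · exact ⟨_, Or.inr (Or.inr (Or.inr (Or.inr (Or.inr rfl)))), h⟩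
  ext n
  simp only [Set.mem_setOf_eq, Set.mem_insert_iff, Set.mem_singleton_iff]
  constructor
  · rintro ⟨hn, hmax⟩
    obtain ⟨x, hx, hnx⟩ := hdiv n hn
    have := hmax x (hgen x hx) hnx
    rw [← this]
    exact hx
  · intro hn
    refine ⟨hgen n hn, ?_⟩
    intro k hk hnk
    obtain ⟨x, hx, hkx⟩ := hdiv k hk
    have h1 : n = x := hanti n x hn hx (dvd_trans hnk hkx)
    rw [← h1] at hkx
    exact Nat.dvd_antisymm hkx hnk

end ReeAx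

end Cfsg.Agent.Lib.helper7.REE
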