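import Mathlib
import Cfsg.Agent.Lib.helper7.REE.Defs
import Cfsg.Agent.Lib.Helper10.REEG8Kcore
import Cfsg.Agent.Lib.Helper10.REEG8A
import Cfsg.Agent.Lib.Helper29.REEARA
import Cfsg.Agent.Lib.Helper29.REEARB

set_option autoImplicit false

namespace Cfsg.Agent.Lib.helper7.REE

open Matrix Cfsg.Agent.Lib.helper8

universe u v

namespace ReeAx

variable {G : Type u} [Group G] [Finite G] {K : Type v} [Field K] [Fintype K] {m : ℕ}

theorem mu_set (R : ReeAx G K m) :
    {n : ℕ | n ∈ Set.range (orderOf : G → ℕ) ∧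
        ∀ k ∈ Set.range (orderOf : G → ℕ), n ∣ k → k = n} =
      ({6, 9, qq m - 1, (qq m + 1) / 2, qq m - rr m + 1, qq m + rr m + 1} : Set ℕ) :=
  R.reeg8k_core (fun d => R.spectrum d) (ar_basic m) (ar_coprime m)

end ReeAx

end Cfsg.Agent.Lib.helper7.REE
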