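import Mathlib
import Cfsg.Agent.Lib.Helper10.RES.Defs

set_option autoImplicit false

namespace Cfsg.Agent.Lib.Helper10.RES

open Cfsg

/-- in a finite group the inverse is a power. -/
theorem resad_inv_eq_pow {G : Type*} [Group G] [Finite G] (g : G) : ∃ m : ℕ, g⁻¹ = g ^ m := by
  refine ⟨orderOf g - 1, ?_⟩
  have hpos : 0 < orderOf g := orderOf_pos g
  apply inv_eq_of_mul_eq_one_right
  rw [← pow_succ', Nat.sub_add_cancel hpos, pow_orderOf_eq_one]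

section T
variable {E : Type*} [Group E] [Finite E]

/-- chain-trivial automorphisms preserve `K` and `T`. -/
theorem resad_pres {K T : Subgroup E} (hKT : K ≤ T) {β : MulAut E} (hβ : ChainTriv K T β) :
    (∀ k ∈ K, β k ∈ K) ∧ ∀ t ∈ T, β t ∈ T := by
  constructor
  · intro k hk
    have := hβ.1 k (hKT hk)
    have e : β k = k * (k⁻¹ * β k) := by group
    rw [e]; exact K.mul_mem hk this
  · intro t ht
    have := hβ.1 t ht
    have e : β t = t * (t⁻¹ * β t) := by group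
    rw [e]; exact T.mul_mem ht (hKT this)

theorem resad_one (K T : Subgroup E) : ChainTriv K T (1 : MulAut E) :=
  ⟨fun t _ => by simp, fun e => by simp⟩

theorem resad_mul {K T : Subgroup E} (hKT : K ≤ T) {β γ : MulAut E} (hβ : ChainTriv K T β)
    (hγ : ChainTriv K T γ) : ChainTriv K T (β * γ) := by
  obtain ⟨hβK, hβT⟩ := resad_pres hKT hβ
  refine ⟨fun t ht => ?_, fun e => ?_⟩
  · rw [MulAut.mul_apply]
    have h1 := hγ.1 t ht
    have h2 := hβ.1 t ht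
    have e : t⁻¹ * β (γ t) = (t⁻¹ * β t) * β (t⁻¹ * γ t) := by
      rw [map_mul, map_inv]; group
    rw [e]; exact K.mul_mem h2 (hβK _ h1)
  · rw [MulAut.mul_apply]
    have h1 := hγ.2 e
    have h2 := hβ.2 e
    have e' : e⁻¹ * β (γ e) = (e⁻¹ * β e) * β (e⁻¹ * γ e) := by
      rw [map_mul, map_inv]; group
    rw [e']; exact T.mul_mem h2 (hβT _ h1)

theorem resad_pow {K T : Subgroup E} (hKT : K ≤ T) {β : MulAut E} (hβ : ChainTriv K T β) (m : ℕ) :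
    ChainTriv K T (β ^ m) := by
  induction m with
  | zero => rw [pow_zero]; exact resad_one K T
  | succ m ih => rw [pow_succ]; exact resad_mul hKT ih hβ

theorem resad_inv {K T : Subgroup E} (hKT : K ≤ T) {β : MulAut E} (hβ : ChainTriv K T β) :
    ChainTriv K T β⁻¹ := by
  obtain ⟨m, hm⟩ := resad_inv_eq_pow β
  rw [hm]; exact resad_pow hKT hβ m

/-- an automorphism preserving a subgroup: so does its inverse. -/
theorem resad_inv_pres (H : Subgroup E) (h' : MulAut E) (hH : ∀ t ∈ H, h' t ∈ H) :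
    ∀ t ∈ H, h'⁻¹ t ∈ H := by
  obtain ⟨m, hm⟩ := resad_inv_eq_pow h'
  rw [hm]
  have : ∀ m : ℕ, ∀ t ∈ H, (h' ^ m) t ∈ H := by
    intro m
    induction m with
    | zero => intro t ht; simpa using ht
    | succ m ih => intro t ht; rw [pow_succ, MulAut.mul_apply]; exact ih _ (hH t ht)
  exact this m

/-- conjugating a chain-trivial automorphism by an automorphism preserving the chain. -/
theorem resad_conj {K T : Subgroup E} (hKT : K ≤ T) {β : MulAut E} (hβ : ChainTriv K T β)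
    (h' : MulAut E) (hK : ∀ k ∈ K, h' k ∈ K) (hT : ∀ t ∈ T, h' t ∈ T) :
    ChainTriv K T (h' * β * h'⁻¹) := by
  have hT' := resad_inv_pres T h' hT
  refine ⟨fun t ht => ?_, fun e => ?_⟩
  · rw [MulAut.mul_apply, MulAut.mul_apply]
    have h1 := hβ.1 (h'⁻¹ t) (hT' t ht)
    have e : t⁻¹ * h' (β (h'⁻¹ t)) = h' ((h'⁻¹ t)⁻¹ * β (h'⁻¹ t)) := by
      rw [map_mul, map_inv, MulAut.apply_inv_self]
    rw [e]; exact hK _ h1
  · rw [MulAut.mul_apply, MulAut.mul_apply]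
    have h1 := hβ.2 (h'⁻¹ e)
    have e' : e⁻¹ * h' (β (h'⁻¹ e)) = h' ((h'⁻¹ e)⁻¹ * β (h'⁻¹ e)) := by
      rw [map_mul, map_inv, MulAut.apply_inv_self]
    rw [e']; exact hT _ h1


variable {p : ℕ} [Fact p.Prime]

/-- **AD**. Sylow adjustment. -/
theorem adjust (𝔄 Pm : Subgroup (MulAut E)) (hPle : Pm ≤ 𝔄)
    (hP : ∃ R : Sylow p ↥𝔄, (R : Subgroup ↥𝔄) = Pm.subgroupOf 𝔄)
    (K T : Subgroup E) (hKT : K ≤ T) (hPU : ∀ β ∈ Pm, ChainTriv K T β)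
    (h' : MulAut E) (hh' : h' ∈ 𝔄) (hK : ∀ k ∈ K, h' k ∈ K) (hT : ∀ t ∈ T, h' t ∈ T) :
    ∃ c ∈ 𝔄, ChainTriv K T c ∧ ∀ β ∈ Pm, (c * h') * β * (c * h')⁻¹ ∈ Pm := by
  obtain ⟨R, hR⟩ := hP
  -- the subgroup of chain-trivial elements of `𝔄`
  let U : Subgroup (MulAut E) :=
    { carrier := {β | β ∈ 𝔄 ∧ ChainTriv K T β}
      one_mem' := ⟨𝔄.one_mem, resad_one K T⟩
      mul_mem' := fun ha hb => ⟨𝔄.mul_mem ha.1 hb.1, resad_mul hKT ha.2 hb.2⟩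
      inv_mem' := fun ha => ⟨𝔄.inv_mem ha.1, resad_inv hKT ha.2⟩ }
  have hU : ∀ β, β ∈ U ↔ β ∈ 𝔄 ∧ ChainTriv K T β := fun β => Iff.rfl
  have hPmU : Pm ≤ U := fun β hβ => ⟨hPle hβ, hPU β hβ⟩
  have hU𝔄 : U ≤ 𝔄 := fun β hβ => hβ.1
  -- `Pm` is a `p`-group, maximal among the `p`-subgroups of `𝔄`
  have hPmp : IsPGroup p ↥Pm := by
    have h1 : IsPGroup p ↥(Pm.subgroupOf 𝔄) := hR ▸ R.isPGroup'
    exact h1.of_equiv (Subgroup.subgroupOfEquivOfLe hPle)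
  have hmax : ∀ Q : Subgroup (MulAut E), Q ≤ 𝔄 → IsPGroup p ↥Q → Pm ≤ Q → Q = Pm := by
    intro Q hQ𝔄 hQp hPQ
    have h1 : IsPGroup p ↥(Q.subgroupOf 𝔄) :=
      hQp.of_equiv (Subgroup.subgroupOfEquivOfLe hQ𝔄).symm
    have h2 : (R : Subgroup ↥𝔄) ≤ Q.subgroupOf 𝔄 := by
      rw [hR]; intro q hq; exact Subgroup.mem_subgroupOf.2 (hPQ (Subgroup.mem_subgroupOf.1 hq))
    have h3 := R.is_maximal' h1 h2
    rw [hR] at h3
    apply le_antisymm _ hPQ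
    intro q hq
    have : (⟨q, hQ𝔄 hq⟩ : ↥𝔄) ∈ Q.subgroupOf 𝔄 := Subgroup.mem_subgroupOf.2 hq
    rw [h3] at this
    exact Subgroup.mem_subgroupOf.1 this
  -- a Sylow subgroup of `U` containing `Pm`
  have hP0 : IsPGroup p ↥(Pm.subgroupOf U) := hPmp.comap_subtype
  obtain ⟨P₁, hP₁⟩ := hP0.exists_le_sylow
  have hM₁ : (P₁ : Subgroup ↥U).map U.subtype = Pm := by
    apply hmax
    · rintro _ ⟨u, -, rfl⟩; exact hU𝔄 u.2
    · exact P₁.isPGroup'.map _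
    · intro β hβ
      exact ⟨⟨β, hPmU hβ⟩, hP₁ (Subgroup.mem_subgroupOf.2 hβ), rfl⟩
  -- the conjugate of `Pm` by `h'`
  let Qc : Subgroup (MulAut E) := Pm.map (MulAut.conj h').toMonoidHom
  have hQcp : IsPGroup p ↥Qc := hPmp.map _
  have hQ0 : IsPGroup p ↥(Qc.subgroupOf U) := hQcp.comap_subtype
  obtain ⟨P₂, hP₂⟩ := hQ0.exists_le_sylow
  obtain ⟨c, hc⟩ := MulAction.exists_smul_eq ↥U P₂ P₁
  refine ⟨(c : MulAut E), hU𝔄 c.2, c.2.2, fun β hβ => ?_⟩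
  have hbU : h' * β * h'⁻¹ ∈ U :=
    ⟨𝔄.mul_mem (𝔄.mul_mem hh' (hPle hβ)) (𝔄.inv_mem hh'), resad_conj hKT (hPU β hβ) h' hK hT⟩
  have hbQ : h' * β * h'⁻¹ ∈ Qc := ⟨β, hβ, by simp [MulAut.conj_apply]⟩
  have h1 : (⟨h' * β * h'⁻¹, hbU⟩ : ↥U) ∈ (P₂ : Subgroup ↥U) :=
    hP₂ (Subgroup.mem_subgroupOf.2 hbQ)
  have h2 : c * ⟨h' * β * h'⁻¹, hbU⟩ * c⁻¹ ∈ (P₁ : Subgroup ↥U) := by
    rw [← hc, Sylow.coe_subgroup_smul]
    have := Subgroup.smul_mem_pointwise_smul _ (MulAut.conj c) _ h1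
    simpa [MulAut.smul_def, MulAut.conj_apply] using this
  have h3 : ((c * ⟨h' * β * h'⁻¹, hbU⟩ * c⁻¹ : ↥U) : MulAut E) ∈
      (P₁ : Subgroup ↥U).map U.subtype := ⟨_, h2, rfl⟩
  rw [hM₁] at h3
  have e : ((c : MulAut E) * h') * β * ((c : MulAut E) * h')⁻¹ =
      ((c * ⟨h' * β * h'⁻¹, hbU⟩ * c⁻¹ : ↥U) : MulAut E) := by
    simp only [Subgroup.coe_mul, Subgroup.coe_inv]
    group
  rw [e]; exact h3

end T

end Cfsg.Agent.Lib.Helper10.RES
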