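import Mathlib
import Cfsg.Agent.Lib.Helper10.RES.Defs
import Cfsg.Agent.Lib.Helper5.PGroup
import Cfsg.Agent.S5187

/-!
# RES piece FA: an abelian essential subgroup of a `p`-group of rank `≤ 2`, `p ≥ 5`, is elementary
abelian of order `p²`.
-/

set_option autoImplicit false

namespace Cfsg.Agent.Lib.Helper10.RES

open Cfsg Cfsg.FusionSystem

variable {Ω : Type*} [Group Ω]

/-- for a finite commutative group, the index of the subgroup of `p`-th powers is the number of
solutions of `e ^ p = 1`. -/
theorem resfa_index_range {E : Type*} [Group E] [Finite E] (f : E →* E) :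
    f.range.index = Nat.card f.ker := by
  have h1 : Nat.card E = Nat.card f.ker * Nat.card f.range := by
    have h := Subgroup.card_eq_card_quotient_mul_card_subgroup f.ker
    rw [Nat.card_congr (QuotientGroup.quotientKerEquivRange f).toEquiv] at h
    rw [h, mul_comm]
  have h2 : Nat.card E = f.range.index * Nat.card f.range := by
    rw [mul_comm]; exact (Subgroup.card_mul_index f.range).symm
  have hpos : 0 < Nat.card f.range := Nat.card_pos
  exact Nat.eq_of_mul_eq_mul_right hpos (h2.symm.trans h1)

section F
variable {S : Subgroup Ω}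

/-- **FA**. an abelian essential subgroup of a `p`-group of rank `≤ 2`, `p ≥ 5`, is elementary
abelian of order `p²` (from S5187). -/
theorem abelian_essential [Finite S] (p : ℕ) [Fact p.Prime] (hS : IsPGroup p S)
    (F : FusionSystem S) (hF : F.IsSaturated p) (hp5 : 5 ≤ p)
    (hrank3 : ∀ E : Subgroup Ω, E ≤ S → Cfsg.IsElementaryAbelian p E → Nat.card E ≤ p ^ 2)
    (E : Subgroup Ω) (hE : F.IsEssential p E) (hab : ∀ a ∈ E, ∀ b ∈ E, a * b = b * a) :
    Cfsg.IsElementaryAbelian p E ∧ Nat.card E = p ^ 2 := by
  have hES : E ≤ S := hE.1.1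
  have hfinE : Finite ↥E := Finite.of_injective (Subgroup.inclusion hES)
    (Subgroup.inclusion_injective hES)
  have hEp : IsPGroup p ↥E := hS.to_le hES
  have hcomm : IsMulCommutative ↥E := ⟨⟨fun a b => Subtype.ext (hab a a.2 b b.2)⟩⟩
  have hc : ∀ a b : ↥E, a * b = b * a := fun a b => Subtype.ext (hab a a.2 b b.2)
  -- the `p`-th power endomorphism
  let f : ↥E →* ↥E :=
    { toFun := fun e => e ^ p
      map_one' := one_pow p
      map_mul' := fun a b => (Commute.mul_pow (hc a b) p) }
  have hfa : ∀ e : ↥E, f e = e ^ p := fun _ => rfl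
  -- the kernel is elementary abelian, so has order at most `p²`
  have hker : Nat.card f.ker ≤ p ^ 2 := by
    have h1 := hrank3 (f.ker.map E.subtype)
      (by rintro _ ⟨e, -, rfl⟩; exact hES e.2)
      ⟨⟨⟨by
          rintro ⟨_, a, ha, rfl⟩ ⟨_, b, hb, rfl⟩
          exact Subtype.ext (hab a a.2 b b.2)⟩⟩, by
        rintro _ ⟨e, he, rfl⟩
        have h2 : e ^ p = 1 := by
          have := MonoidHom.mem_ker.1 he
          rwa [hfa] at this
        have := congrArg (fun t : ↥E => (t : Ω)) h2
        simpa using this⟩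
    have h3 : Nat.card (f.ker.map E.subtype) = Nat.card f.ker :=
      (Nat.card_congr (f.ker.equivMapOfInjective E.subtype E.subtype_injective).toEquiv).symm
    rwa [h3] at h1
  -- the range lies in the Frattini subgroup
  have hrange : f.range ≤ frattini ↥E := by
    rintro _ ⟨e, rfl⟩
    rw [hfa]
    exact Cfsg.Agent.Lib.Helper5.h5_pgroup_pow_mem_frattini hEp e
  have hrk : (frattini ↥E).index ≤ p ^ 2 := by
    have h1 : (frattini ↥E).index ∣ f.range.index := Subgroup.index_dvd_of_le hrange
    have h2 : f.range.index ≠ 0 := Subgroup.index_ne_zero_of_finite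
    have h3 := Nat.le_of_dvd (Nat.pos_of_ne_zero h2) h1
    rw [resfa_index_range f] at h3
    exact h3.trans hker
  rcases Cfsg.Agent.S5187.result p hS F hF E hE hcomm hrk with h | ⟨h3, -⟩
  · exact h
  · omega

end F

end Cfsg.Agent.Lib.Helper10.RES
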