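import Mathlib
import Cfsg.Agent.Lib.Helper10.RES.Defs
import Cfsg.Agent.Lib.Helper25.RESGA5
import Cfsg.Agent.Lib.Helper16.RESGA6a
import Cfsg.Agent.Lib.Helper22.RESGQ1a

set_option autoImplicit false

namespace Cfsg.Agent.Lib.Helper10.RES

open Cfsg

variable {Ω : Type*} [Group Ω]

section G
variable {p n s : ℕ} [Fact p.Prime] {S : Subgroup Ω} {x y z : Ω}

/-- uniqueness of bounded normal forms. -/
theorem resga6b_unique (hF : F2Set p n s S x y z) {i i' j j' k k' : ℕ} (hi : i < p) (hi' : i' < p)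
    (hj : j < p) (hj' : j' < p) (hk : k < p ^ (n - 2)) (hk' : k' < p ^ (n - 2))
    (h : x ^ i * (y ^ j * z ^ k) = x ^ i' * (y ^ j' * z ^ k')) : i = i' ∧ j = j' ∧ k = k' := by
  obtain ⟨f, hf, hbij⟩ := resga5_bijective hF
  have h1 : f (⟨i, hi⟩, ⟨j, hj⟩, ⟨k, hk⟩) = f (⟨i', hi'⟩, ⟨j', hj'⟩, ⟨k', hk'⟩) := by
    apply Subtype.ext
    rw [hf, hf]
    exact h
  have h2 := hbij.1 h1
  simp only [Prod.mk.injEq, Fin.mk.injEq] at h2
  exact h2

/-- a subgroup that is the bijective image of a finite type. -/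
theorem resga6b_card {ι : Type*} [Fintype ι] (H : Subgroup Ω) (f : ι → Ω) (hfH : ∀ t, f t ∈ H)
    (hinj : Function.Injective f) (hsurj : ∀ h ∈ H, ∃ t, f t = h) :
    Nat.card H = Fintype.card ι := by
  rw [← Nat.card_eq_fintype_card]
  symm
  apply Nat.card_congr
  refine Equiv.ofBijective (fun t => ⟨f t, hfH t⟩) ⟨fun a b hab => hinj (congrArg Subtype.val hab), ?_⟩
  rintro ⟨h, hh⟩
  obtain ⟨t, ht⟩ := hsurj h hh
  exact ⟨t, Subtype.ext ht⟩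


/-- **GA6b**. orders of `A`, `T`, `Q`. -/
theorem F2Set.cards (hF : F2Set p n s S x y z) :
    Nat.card (AA y z) = p ^ (n - 1) ∧ Nat.card (TT p y z) = p ^ (n - 2) ∧
      Nat.card (QQ p x y z) = p ^ (n - 1) := by
  have hpp : p.Prime := Fact.out
  have hn4 := hF.hn4
  have hyz : Commute y z := hF.yz
  have hq : 0 < p ^ (n - 2) := pow_pos hpp.pos _
  have hpk : ∀ k : Fin (p ^ (n - 3)), p * (k : ℕ) < p ^ (n - 2) := by
    intro k
    have h1 : p ^ (n - 2) = p * p ^ (n - 3) := by rw [← pow_succ']; congr 1; omega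
    rw [h1]
    exact Nat.mul_lt_mul_of_pos_left k.2 hpp.pos
  have hyred : ∀ j : ℕ, y ^ j = y ^ (j % p) := fun j => pow_eq_pow_mod j hF.yp
  have hxred : ∀ j : ℕ, x ^ j = x ^ (j % p) := fun j => pow_eq_pow_mod j hF.xp
  have hzred : ∀ k : ℕ, z ^ k = z ^ (k % p ^ (n - 2)) := fun k => pow_eq_pow_mod k hF.zp
  have hzpred : ∀ k : ℕ, (z ^ p) ^ k = (z ^ p) ^ (k % p ^ (n - 3)) := fun k =>
    pow_eq_pow_mod k (by
      rw [← pow_mul, ← pow_succ']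
      have : n - 3 + 1 = n - 2 := by omega
      rw [this, hF.zp])
  have hyA : y ∈ AA y z := Subgroup.subset_closure (by simp)
  have hzA : z ∈ AA y z := Subgroup.subset_closure (by simp)
  have hyT : y ∈ TT p y z := Subgroup.subset_closure (by simp)
  have hzT : z ^ p ∈ TT p y z := Subgroup.subset_closure (by simp)
  obtain ⟨hQS, hQn, hTQ, hxQ, hzQ, hQrepr⟩ := hF.Q_basic
  refine ⟨?_, ?_, ?_⟩
  · -- `A`
    rw [resga6b_card (AA y z) (fun t : Fin p × Fin (p ^ (n - 2)) => y ^ (t.1 : ℕ) * z ^ (t.2 : ℕ))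
      (fun t => Subgroup.mul_mem _ (Subgroup.pow_mem _ hyA _) (Subgroup.pow_mem _ hzA _))]
    · rw [Fintype.card_prod, Fintype.card_fin, Fintype.card_fin, ← pow_succ']
      congr 1; omega
    · rintro ⟨j, k⟩ ⟨j', k'⟩ h
      have h' : x ^ 0 * (y ^ (j : ℕ) * z ^ (k : ℕ)) = x ^ 0 * (y ^ (j' : ℕ) * z ^ (k' : ℕ)) := by
        simpa using h
      obtain ⟨-, h2, h3⟩ := resga6b_unique hF hpp.pos hpp.pos j.2 j'.2 k.2 k'.2 h'
      exact Prod.ext (Fin.ext h2) (Fin.ext h3)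
    · intro a ha
      obtain ⟨j, k, rfl⟩ := hF.repr.2 a ha
      refine ⟨(⟨j % p, Nat.mod_lt _ hpp.pos⟩, ⟨k % p ^ (n - 2), Nat.mod_lt _ hq⟩), ?_⟩
      show y ^ (j % p) * z ^ (k % p ^ (n - 2)) = _
      rw [← hyred, ← hzred]
  · -- `T`
    rw [resga6b_card (TT p y z)
      (fun t : Fin p × Fin (p ^ (n - 3)) => y ^ (t.1 : ℕ) * (z ^ p) ^ (t.2 : ℕ))
      (fun t => Subgroup.mul_mem _ (Subgroup.pow_mem _ hyT _) (Subgroup.pow_mem _ hzT _))]
    · rw [Fintype.card_prod, Fintype.card_fin, Fintype.card_fin, ← pow_succ']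
      congr 1; omega
    · rintro ⟨j, k⟩ ⟨j', k'⟩ h
      have h' : x ^ 0 * (y ^ (j : ℕ) * z ^ (p * (k : ℕ))) =
          x ^ 0 * (y ^ (j' : ℕ) * z ^ (p * (k' : ℕ))) := by
        simpa [pow_mul] using h
      obtain ⟨-, h2, h3⟩ := resga6b_unique hF hpp.pos hpp.pos j.2 j'.2 (hpk k) (hpk k') h'
      exact Prod.ext (Fin.ext h2) (Fin.ext (Nat.eq_of_mul_eq_mul_left hpp.pos h3))
    · intro a ha
      obtain ⟨j, k, rfl⟩ := hF.resgq1a_T_form a ha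
      refine ⟨(⟨j % p, Nat.mod_lt _ hpp.pos⟩,
        ⟨k % p ^ (n - 3), Nat.mod_lt _ (pow_pos hpp.pos _)⟩), ?_⟩
      show y ^ (j % p) * (z ^ p) ^ (k % p ^ (n - 3)) = _
      rw [← hyred, ← hzpred]
  · -- `Q`
    rw [resga6b_card (QQ p x y z)
      (fun t : Fin p × Fin p × Fin (p ^ (n - 3)) =>
        x ^ (t.1 : ℕ) * (y ^ (t.2.1 : ℕ) * (z ^ p) ^ (t.2.2 : ℕ)))
      (fun t => Subgroup.mul_mem _ (Subgroup.pow_mem _ hxQ _)
        (hTQ (Subgroup.mul_mem _ (Subgroup.pow_mem _ hyT _) (Subgroup.pow_mem _ hzT _))))]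
    · rw [Fintype.card_prod, Fintype.card_prod, Fintype.card_fin, Fintype.card_fin,
        ← pow_succ', ← pow_succ']
      congr 1; omega
    · rintro ⟨i, j, k⟩ ⟨i', j', k'⟩ h
      have h' : x ^ (i : ℕ) * (y ^ (j : ℕ) * z ^ (p * (k : ℕ))) =
          x ^ (i' : ℕ) * (y ^ (j' : ℕ) * z ^ (p * (k' : ℕ))) := by
        simpa [pow_mul] using h
      obtain ⟨h1, h2, h3⟩ := resga6b_unique hF i.2 i'.2 j.2 j'.2 (hpk k) (hpk k') h'
      exact Prod.ext (Fin.ext h1)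
        (Prod.ext (Fin.ext h2) (Fin.ext (Nat.eq_of_mul_eq_mul_left hpp.pos h3)))
    · intro q hq
      obtain ⟨i, t, ht, rfl⟩ := hQrepr q hq
      obtain ⟨j, k, rfl⟩ := hF.resgq1a_T_form t ht
      refine ⟨(⟨i % p, Nat.mod_lt _ hpp.pos⟩, ⟨j % p, Nat.mod_lt _ hpp.pos⟩,
        ⟨k % p ^ (n - 3), Nat.mod_lt _ (pow_pos hpp.pos _)⟩), ?_⟩
      show x ^ (i % p) * (y ^ (j % p) * (z ^ p) ^ (k % p ^ (n - 3))) = _
      rw [← hxred, ← hyred, ← hzpred]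

end G

end Cfsg.Agent.Lib.Helper10.RES
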