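import Mathlib
import Cfsg.Prelude.Def_Spor_Ru
import Cfsg.Agent.Lib.helper23.RULDefs
import Cfsg.Agent.Lib.helper23.PgB

set_option autoImplicit false

/-!
# Project RUL, row BITS-GEN: the spec weight `rulWt`
-/

namespace Cfsg.Agent.Lib.helper23

theorem rulWt_zero : rulWt 0 = 0 := by
  unfold rulWt
  apply Finset.sum_eq_zero
  intro k _
  rw [Nat.zero_testBit]
  rfl

theorem rulWt_le (m : ℕ) : rulWt m ≤ 56 := by
  unfold rulWt
  have h : ∀ k ∈ Finset.range 56, (if m.testBit k then 1 else 0) ≤ 1 := by
    intro k _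
    split_ifs <;> omega
  have := Finset.sum_le_card_nsmul (Finset.range 56) _ 1 h
  rw [Finset.card_range, smul_eq_mul, mul_one] at this
  exact this

theorem rulWt_two_pow {k : ℕ} (hk : k < 56) : rulWt (2 ^ k) = 1 := by
  unfold rulWt
  rw [Finset.sum_eq_single k]
  · rw [Nat.testBit_two_pow_self]
    rfl
  · intro j _ hjk
    rw [Nat.testBit_two_pow_of_ne (Ne.symm hjk)]
    rfl
  · intro h
    exact absurd (Finset.mem_range.mpr hk) h

/-- a term of the weight -/
theorem rulbitsgen_term_eq_zero {m : ℕ} (h : rulWt m = 0) {k : ℕ} (hk : k < 56) :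
    m.testBit k = false := by
  unfold rulWt at h
  have h1 := (Finset.sum_eq_zero_iff.mp h) k (Finset.mem_range.mpr hk)
  by_contra hb
  rw [Bool.not_eq_false] at hb
  rw [hb] at h1
  simp at h1

theorem rulWt_eq_zero {m : ℕ} (hm : m < 2 ^ 56) (h : rulWt m = 0) : m = 0 := by
  apply Nat.eq_of_testBit_eq
  intro k
  rw [Nat.zero_testBit]
  by_cases hk : k < 56
  · exact rulbitsgen_term_eq_zero h hk
  · apply Nat.testBit_lt_two_pow
    exact lt_of_lt_of_le hm (Nat.pow_le_pow_right (by norm_num) (by omega))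

/-- disjoint union adds weights -/
theorem rulWt_or_disjoint (a b : ℕ) (h : a &&& b = 0) : rulWt (a ||| b) = rulWt a + rulWt b := by
  unfold rulWt
  rw [← Finset.sum_add_distrib]
  apply Finset.sum_congr rfl
  intro k _
  have h1 : (a &&& b).testBit k = false := by
    rw [h, Nat.zero_testBit]
  rw [Nat.testBit_and] at h1
  rw [Nat.testBit_or]
  cases ha : a.testBit k <;> cases hb : b.testBit k <;> simp_all

/-- inclusion–exclusion for xor -/
theorem rulWt_xor (a b : ℕ) : rulWt (a ^^^ b) + 2 * rulWt (a &&& b) = rulWt a + rulWt b := by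
  unfold rulWt
  rw [Finset.mul_sum, ← Finset.sum_add_distrib, ← Finset.sum_add_distrib]
  apply Finset.sum_congr rfl
  intro k _
  rw [Nat.testBit_xor, Nat.testBit_and]
  cases ha : a.testBit k <;> cases hb : b.testBit k <;> simp

/-- a submask has at most the weight -/
theorem rulWt_le_of_sub (a b : ℕ) (h : a &&& b = a) : rulWt a ≤ rulWt b := by
  unfold rulWt
  apply Finset.sum_le_sum
  intro k _
  have h1 : (a &&& b).testBit k = a.testBit k := by rw [h]
  rw [Nat.testBit_and] at h1
  cases ha : a.testBit k <;> cases hb : b.testBit k <;> simp_all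

/-- reduction mod `2 ^ k` only removes bits -/
theorem rulWt_mod_le (m k : ℕ) : rulWt (m % 2 ^ k) ≤ rulWt m := by
  unfold rulWt
  apply Finset.sum_le_sum
  intro j _
  rw [Nat.testBit_mod_two_pow]
  cases hm : m.testBit j <;> by_cases hj : j < k <;> simp [hj]

/-- the weight as a count of positions -/
theorem rulWt_eq_card (m : ℕ) : rulWt m = ((Finset.range 56).filter fun k => m.testBit k = true).card := by
  unfold rulWt
  rw [Finset.card_filter]

end Cfsg.Agent.Lib.helper23
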