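import Mathlib
import Cfsg.Prelude.Def_Spor_Ru
import Cfsg.Agent.Lib.helper23.RULDefs
import Cfsg.Agent.Lib.helper23.PgB
import Cfsg.Agent.Lib.Helper10.RULBITSGEN

set_option autoImplicit false

/-!
# Project RUL, row BITS-PAR: parity by xor folding
-/

namespace Cfsg.Agent.Lib.helper23

/-- parity of the first 64 bits by xor folding (kernel friendly) -/
def rulPar (m : ℕ) : Bool :=
  pgForce (Nat.xor m (Nat.shiftRight m 32)) fun a =>
  pgForce (Nat.xor a (Nat.shiftRight a 16)) fun b =>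
  pgForce (Nat.xor b (Nat.shiftRight b 8)) fun c =>
  pgForce (Nat.xor c (Nat.shiftRight c 4)) fun d =>
  pgForce (Nat.xor d (Nat.shiftRight d 2)) fun e =>
  Nat.beq (Nat.land (Nat.xor e (Nat.shiftRight e 1)) 1) 1

/-- weight of the first `s` bits -/
def rulbitsparW (s x : ℕ) : ℕ := ∑ j ∈ Finset.range s, if x.testBit j then 1 else 0

theorem rulbitspar_step (x s : ℕ) :
    rulbitsparW s (x ^^^ (x >>> s)) % 2 = rulbitsparW (s + s) x % 2 := by
  have h : rulbitsparW s (x ^^^ (x >>> s)) +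
      2 * (∑ j ∈ Finset.range s, if (x.testBit j && x.testBit (s + j)) then 1 else 0) =
      rulbitsparW (s + s) x := by
    unfold rulbitsparW
    rw [Finset.sum_range_add, Finset.mul_sum, ← Finset.sum_add_distrib, ← Finset.sum_add_distrib]
    apply Finset.sum_congr rfl
    intro j _
    rw [Nat.testBit_xor, Nat.testBit_shiftRight]
    cases x.testBit j <;> cases x.testBit (s + j) <;> simp
  omega

theorem rulbitspar_low (y : ℕ) : Nat.beq (Nat.land y 1) 1 = decide (rulbitsparW 1 y % 2 = 1) := by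
  have h1 : Nat.land y 1 = y % 2 := Nat.and_one_is_mod y
  have h2 : rulbitsparW 1 y = if y.testBit 0 then 1 else 0 := by
    unfold rulbitsparW
    rw [Finset.sum_range_one]
  rw [h1, h2, Nat.testBit_zero]
  rcases Nat.mod_two_eq_zero_or_one y with h | h <;> rw [h] <;> decide

theorem rulbitspar_64 {m : ℕ} (hm : m < 2 ^ 56) : rulbitsparW 64 m = rulWt m := by
  have e : (64 : ℕ) = 56 + 8 := rfl
  unfold rulbitsparW rulWt
  rw [e, Finset.sum_range_add]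
  have : ∑ x ∈ Finset.range 8, (if m.testBit (56 + x) = true then 1 else 0) = 0 := by
    apply Finset.sum_eq_zero
    intro j _
    have : m.testBit (56 + j) = false := by
      apply Nat.testBit_lt_two_pow
      exact lt_of_lt_of_le hm (Nat.pow_le_pow_right (by norm_num) (by omega))
    rw [this]
    rfl
  rw [this, add_zero]

theorem rulPar_eq {m : ℕ} (hm : m < 2 ^ 56) : rulPar m = decide (rulWt m % 2 = 1) := by
  unfold rulPar
  simp only [pgForce_eq]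
  rw [rulbitspar_low]
  have s1 := rulbitspar_step (((((m ^^^ (m >>> 32)) ^^^ ((m ^^^ (m >>> 32)) >>> 16)) ^^^
    (((m ^^^ (m >>> 32)) ^^^ ((m ^^^ (m >>> 32)) >>> 16)) >>> 8)) ^^^
    ((((m ^^^ (m >>> 32)) ^^^ ((m ^^^ (m >>> 32)) >>> 16)) ^^^
    (((m ^^^ (m >>> 32)) ^^^ ((m ^^^ (m >>> 32)) >>> 16)) >>> 8)) >>> 4)) ^^^
    (((((m ^^^ (m >>> 32)) ^^^ ((m ^^^ (m >>> 32)) >>> 16)) ^^^
    (((m ^^^ (m >>> 32)) ^^^ ((m ^^^ (m >>> 32)) >>> 16)) >>> 8)) ^^^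
    ((((m ^^^ (m >>> 32)) ^^^ ((m ^^^ (m >>> 32)) >>> 16)) ^^^
    (((m ^^^ (m >>> 32)) ^^^ ((m ^^^ (m >>> 32)) >>> 16)) >>> 8)) >>> 4)) >>> 2)) 1
  have s2 := rulbitspar_step ((((m ^^^ (m >>> 32)) ^^^ ((m ^^^ (m >>> 32)) >>> 16)) ^^^
    (((m ^^^ (m >>> 32)) ^^^ ((m ^^^ (m >>> 32)) >>> 16)) >>> 8)) ^^^
    ((((m ^^^ (m >>> 32)) ^^^ ((m ^^^ (m >>> 32)) >>> 16)) ^^^
    (((m ^^^ (m >>> 32)) ^^^ ((m ^^^ (m >>> 32)) >>> 16)) >>> 8)) >>> 4)) 2
  have s4 := rulbitspar_step (((m ^^^ (m >>> 32)) ^^^ ((m ^^^ (m >>> 32)) >>> 16)) ^^^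
    (((m ^^^ (m >>> 32)) ^^^ ((m ^^^ (m >>> 32)) >>> 16)) >>> 8)) 4
  have s8 := rulbitspar_step ((m ^^^ (m >>> 32)) ^^^ ((m ^^^ (m >>> 32)) >>> 16)) 8
  have s16 := rulbitspar_step (m ^^^ (m >>> 32)) 16
  have s32 := rulbitspar_step m 32
  have h64 := rulbitspar_64 hm
  norm_num at s1 s2 s4 s8 s16 s32
  rw [← h64, ← s32, ← s16, ← s8, ← s4, ← s2, ← s1]
  rfl

/-- parity is additive for xor -/
theorem rulPar_xor {a b : ℕ} (ha : a < 2 ^ 56) (hb : b < 2 ^ 56) :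
    rulPar (a ^^^ b) = xor (rulPar a) (rulPar b) := by
  have hab : a ^^^ b < 2 ^ 56 := Nat.xor_lt_two_pow ha hb
  rw [rulPar_eq hab, rulPar_eq ha, rulPar_eq hb]
  have h := rulWt_xor a b
  rcases Nat.mod_two_eq_zero_or_one (rulWt a) with h1 | h1 <;>
    rcases Nat.mod_two_eq_zero_or_one (rulWt b) with h2 | h2 <;>
    · have h3 : rulWt (a ^^^ b) % 2 = (rulWt a % 2 + rulWt b % 2) % 2 := by omega
      rw [h3, h1, h2]
      decide

end Cfsg.Agent.Lib.helper23
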