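import Mathlib
import Cfsg.Prelude.Def_Spor_Ru
import Cfsg.Agent.Lib.helper23.RULDefs
import Cfsg.Agent.Lib.helper23.PgB
import Cfsg.Agent.Lib.Helper10.RULBITSGEN

set_option autoImplicit false

/-!
# Project RUL, row BITS-WT: weight by a byte table
-/

namespace Cfsg.Agent.Lib.helper23

/-- number of set bits of a byte, from a packed table (4 bits per entry) -/
def rulWt8 (b : ℕ) : ℕ :=
  Nat.land (Nat.shiftRight 95125173855764218123276304889944061997689682402263585766959741291920687686033329201817409157123347502415384089435969498586180241031507595463600295898153685276653211633572815512294064538494957912327413386667662218713394765509704508661031522276467630197481635010039778342554499416459730172574551513689147646224 (Nat.mul 4 b)) 15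

/-- weight of the first 56 bits by seven table lookups (kernel friendly) -/
def rulWtF (m : ℕ) : ℕ :=
  Nat.add (rulWt8 (Nat.land m 255))
  (Nat.add (rulWt8 (Nat.land (Nat.shiftRight m 8) 255))
  (Nat.add (rulWt8 (Nat.land (Nat.shiftRight m 16) 255))
  (Nat.add (rulWt8 (Nat.land (Nat.shiftRight m 24) 255))
  (Nat.add (rulWt8 (Nat.land (Nat.shiftRight m 32) 255))
  (Nat.add (rulWt8 (Nat.land (Nat.shiftRight m 40) 255))
  (rulWt8 (Nat.land (Nat.shiftRight m 48) 255)))))))

/-- the table entries -/
theorem rulbitswt_byte : ∀ b < 256, rulWt8 b =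
    (b &&& 1) + ((b >>> 1) &&& 1) + ((b >>> 2) &&& 1) + ((b >>> 3) &&& 1) + ((b >>> 4) &&& 1) +
      ((b >>> 5) &&& 1) + ((b >>> 6) &&& 1) + ((b >>> 7) &&& 1) := by
  decide +kernel

theorem rulbitswt_bit (x k : ℕ) : (x >>> k) &&& 1 = if x.testBit k then 1 else 0 := by
  rw [Nat.and_one_is_mod, Nat.shiftRight_eq_div_pow, Nat.testBit_eq_decide_div_mod_eq]
  rcases Nat.mod_two_eq_zero_or_one (x / 2 ^ k) with h | h <;> rw [h] <;> simp

/-- weight of the first eight bits -/
def rulbitswtW8 (x : ℕ) : ℕ := ∑ k ∈ Finset.range 8, if x.testBit k then 1 else 0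

theorem rulbitswt_byte' {b : ℕ} (hb : b < 256) : rulWt8 b = rulbitswtW8 b := by
  rw [rulbitswt_byte b hb]
  unfold rulbitswtW8
  have h0 : b &&& 1 = (b >>> 0) &&& 1 := by rw [Nat.shiftRight_zero]
  rw [h0]
  simp only [rulbitswt_bit, Finset.sum_range_succ, Finset.sum_range_zero, zero_add]

theorem rulbitswt_block (m s : ℕ) :
    rulWt8 (Nat.land (Nat.shiftRight m s) 255) =
      ∑ k ∈ Finset.range 8, if m.testBit (s + k) then 1 else 0 := by
  have hlt : Nat.land (Nat.shiftRight m s) 255 < 256 :=
    Nat.lt_succ_of_le Nat.and_le_right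
  rw [rulbitswt_byte' hlt]
  unfold rulbitswtW8
  apply Finset.sum_congr rfl
  intro k hk
  have hk8 : k < 8 := Finset.mem_range.mp hk
  have h255 : (255 : ℕ) = 2 ^ 8 - 1 := by norm_num
  have e : (Nat.land (Nat.shiftRight m s) 255).testBit k = m.testBit (s + k) := by
    show ((m >>> s) &&& 255).testBit k = m.testBit (s + k)
    rw [Nat.testBit_and, Nat.testBit_shiftRight, h255, Nat.testBit_two_pow_sub_one]
    simp [hk8]
  rw [e]

theorem rulWtF_eq {m : ℕ} (hm : m < 2 ^ 56) : rulWtF m = rulWt m := by
  have e56 : (56 : ℕ) = 8 + (8 + (8 + (8 + (8 + (8 + 8))))) := rfl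
  have h0 : Nat.land m 255 = Nat.land (Nat.shiftRight m 0) 255 := rfl
  unfold rulWtF rulWt
  rw [h0, rulbitswt_block, rulbitswt_block, rulbitswt_block, rulbitswt_block, rulbitswt_block,
    rulbitswt_block, rulbitswt_block, e56, Finset.sum_range_add, Finset.sum_range_add,
    Finset.sum_range_add, Finset.sum_range_add, Finset.sum_range_add, Finset.sum_range_add]
  simp only [Nat.add_eq, ← add_assoc, zero_add, Nat.reduceAdd]

end Cfsg.Agent.Lib.helper23
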