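import Mathlib
import Cfsg.Agent.Lib.Helper5.S1906.Defs

set_option autoImplicit false
set_option linter.unusedVariables false
set_option linter.unusedSectionVars false

/-! Project S1906 (designer helper5), row P4 (helper10): the commutator subgroup of `X = X0 ∪ X0 t` is the image of
`a ↦ a⁻¹ * t a t⁻¹` (`X0` abelian of index 2). -/

namespace Cfsg.Agent.Lib.Helper5.S1906

open scoped IsMulCommutative commutatorElement

section P

variable {G : Type*} [Group G] {X X0 : Subgroup G} {c z : G}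

/-- index two, relative version -/
theorem s1906p4_mul_mem (hidx : X0.relIndex X = 2) {a b : G} (ha : a ∈ X) (hb : b ∈ X) :
    a * b ∈ X0 ↔ (a ∈ X0 ↔ b ∈ X0) := by
  have h := Subgroup.mul_mem_iff_of_index_two (H := X0.subgroupOf X) hidx (a := ⟨a, ha⟩) (b := ⟨b, hb⟩)
  simpa [Subgroup.mem_subgroupOf] using h

/-- membership in the image of `dl` of a conjugation -/
theorem s1906p4_mem_range [IsMulCommutative X0] (t : G) (ht : t ∈ Subgroup.normalizer (X0 : Set G)) (w : G) :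
    w ∈ (dl (X0.normalizerMonoidHom ⟨t, ht⟩)).range.map X0.subtype ↔ ∃ a ∈ X0, w = a⁻¹ * (t * a * t⁻¹) := by
  constructor
  · rintro ⟨_, ⟨a, rfl⟩, rfl⟩
    exact ⟨a, a.2, rfl⟩
  · rintro ⟨a, ha, rfl⟩
    exact ⟨dl (X0.normalizerMonoidHom ⟨t, ht⟩) ⟨a, ha⟩, ⟨⟨a, ha⟩, rfl⟩, rfl⟩

/-- P4 -/
theorem comm_eq_range [IsMulCommutative X0] (h : Ctx X X0 c z) (t : G) (htX : t ∈ X) (ht0 : t ∉ X0)
    (ht : t ∈ Subgroup.normalizer (X0 : Set G)) :
    ⁅X, X⁆ = (dl (X0.normalizerMonoidHom ⟨t, ht⟩)).range.map X0.subtype := by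
  have hconj : ∀ a ∈ X0, t * a * t⁻¹ ∈ X0 := fun a ha => (ht a).mp ha
  have htinv0 : t⁻¹ ∉ X0 := fun hh => ht0 (by simpa using X0.inv_mem hh)
  -- every element of `X` outside `X0` is `a * t`, `a ∈ X0`
  have hdecomp : ∀ x ∈ X, x ∉ X0 → x * t⁻¹ ∈ X0 := by
    intro x hx hx0
    rw [s1906p4_mul_mem h.idx hx (X.inv_mem htX)]
    exact ⟨fun hh => absurd hh hx0, fun hh => absurd hh htinv0⟩
  apply le_antisymm
  · rw [Subgroup.commutator_le]
    intro x hx y hy
    rw [s1906p4_mem_range]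
    by_cases hx0 : x ∈ X0
    · by_cases hy0 : y ∈ X0
      · refine ⟨1, X0.one_mem, ?_⟩
        rw [commutatorElement_def, h.ab x hx0 y hy0]
        group
      · -- `x = a`, `y = b * t`
        have hb := hdecomp y hy hy0
        set b := y * t⁻¹ with hbdef
        have hy' : y = b * t := by rw [hbdef]; group
        refine ⟨x⁻¹, X0.inv_mem hx0, ?_⟩
        have hc' := hconj x⁻¹ (X0.inv_mem hx0)
        have hcomm := h.ab b hb _ hc'
        rw [commutatorElement_def, hy']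
        calc x * (b * t) * x⁻¹ * (b * t)⁻¹ = x * (b * (t * x⁻¹ * t⁻¹)) * b⁻¹ := by group
          _ = x * ((t * x⁻¹ * t⁻¹) * b) * b⁻¹ := by rw [hcomm]
          _ = x⁻¹⁻¹ * (t * x⁻¹ * t⁻¹) := by group
    · have ha := hdecomp x hx hx0
      set a := x * t⁻¹ with hadef
      have hx' : x = a * t := by rw [hadef]; group
      by_cases hy0 : y ∈ X0
      · -- `x = a * t`, `y = b`
        refine ⟨y, hy0, ?_⟩
        have hc' := hconj y hy0
        have hcomm := h.ab a ha _ hc'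
        have hcomm2 := h.ab y⁻¹ (X0.inv_mem hy0) _ hc'
        rw [commutatorElement_def, hx']
        calc a * t * y * (a * t)⁻¹ * y⁻¹ = (a * (t * y * t⁻¹)) * a⁻¹ * y⁻¹ := by group
          _ = ((t * y * t⁻¹) * a) * a⁻¹ * y⁻¹ := by rw [hcomm]
          _ = (t * y * t⁻¹) * y⁻¹ := by group
          _ = y⁻¹ * (t * y * t⁻¹) := hcomm2.symm
      · -- `x = a * t`, `y = b * t`
        have hb := hdecomp y hy hy0
        set b := y * t⁻¹ with hbdef
        have hy' : y = b * t := by rw [hbdef]; group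
        refine ⟨b * a⁻¹, X0.mul_mem hb (X0.inv_mem ha), ?_⟩
        have hc' := hconj (b * a⁻¹) (X0.mul_mem hb (X0.inv_mem ha))
        have hcomm := h.ab b⁻¹ (X0.inv_mem hb) _ hc'
        rw [commutatorElement_def, hx', hy']
        calc a * t * (b * t) * (a * t)⁻¹ * (b * t)⁻¹ = a * ((t * (b * a⁻¹) * t⁻¹) * b⁻¹) := by group
          _ = a * (b⁻¹ * (t * (b * a⁻¹) * t⁻¹)) := by rw [hcomm]
          _ = (b * a⁻¹)⁻¹ * (t * (b * a⁻¹) * t⁻¹) := by group
  · intro w hw
    rw [s1906p4_mem_range] at hw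
    obtain ⟨a, ha, rfl⟩ := hw
    have : a⁻¹ * (t * a * t⁻¹) = ⁅a⁻¹, t⁆ := by
      rw [commutatorElement_def]; group
    rw [this]
    exact Subgroup.commutator_mem_commutator (h.le (X0.inv_mem ha)) htX

end P

end Cfsg.Agent.Lib.Helper5.S1906
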