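import Mathlib
import Cfsg.Agent.Lib.Helper5.S1906.Defs
import Cfsg.Agent.Lib.Helper10.S1906P4

set_option autoImplicit false
set_option linter.unusedVariables false
set_option linter.unusedSectionVars false

/-! Project S1906 (designer helper5), row P7 (helper10): if `|X'| ≠ 2` then `X0` is the only abelian subgroup of index 2. -/

namespace Cfsg.Agent.Lib.Helper5.S1906

open scoped IsMulCommutative commutatorElement

section P

variable {G : Type*} [Group G] {X X0 : Subgroup G} {c z : G}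

/-- a subgroup of relative index 2 is normalized -/
theorem s1906p7_normalizer (hle : X0 ≤ X) (hidx : X0.relIndex X = 2) (t : G) (htX : t ∈ X) :
    t ∈ Subgroup.normalizer (X0 : Set G) := by
  have key : ∀ s ∈ X, ∀ n ∈ X0, s * n * s⁻¹ ∈ X0 := by
    intro s hs n hn
    have hnX : n ∈ X := hle hn
    rw [s1906p4_mul_mem hidx (X.mul_mem hs hnX) (X.inv_mem hs), s1906p4_mul_mem hidx hs hnX]
    constructor
    · intro h1
      exact X0.inv_mem (h1.mpr hn)
    · intro h1
      exact ⟨fun _ => hn, fun _ => by simpa using X0.inv_mem h1⟩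
  intro n
  constructor
  · intro hn
    exact key t htX n hn
  · intro hn
    have := key t⁻¹ (X.inv_mem htX) _ hn
    have h2 : t⁻¹ * (t * n * t⁻¹) * t⁻¹⁻¹ = n := by group
    rwa [h2] at this

/-- P7 -/
theorem unique_X0 [Finite X] (h : Ctx X X0 c z) (h2 : Nat.card (⁅X, X⁆ : Subgroup G) ≠ 2) (B : Subgroup G)
    (hB : B ≤ X) (hB2 : B.relIndex X = 2) (hBab : ∀ a ∈ B, ∀ b ∈ B, a * b = b * a) : B = X0 := by
  classical
  by_contra hne
  -- an element of `B` outside `X0`
  have hex : ∃ t ∈ B, t ∉ X0 := by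
    by_contra hcon
    push_neg at hcon
    have hle : B ≤ X0 := hcon
    have hmul := Subgroup.relIndex_mul_relIndex B X0 X hle h.le
    rw [h.idx, hB2] at hmul
    have h1 : B.relIndex X0 = 1 := by omega
    exact hne (le_antisymm hle (Subgroup.relIndex_eq_one.mp h1))
  obtain ⟨t, htB, ht0⟩ := hex
  have htX : t ∈ X := hB htB
  have ht : t ∈ Subgroup.normalizer (X0 : Set G) := s1906p7_normalizer h.le h.idx t htX
  haveI : IsMulCommutative X0 := ⟨⟨fun a b => Subtype.ext (h.ab a a.2 b b.2)⟩⟩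
  have hP4 := comm_eq_range h t htX ht0 ht
  have hmem : ∀ w : G, w ∈ ⁅X, X⁆ ↔ ∃ a ∈ X0, w = a⁻¹ * (t * a * t⁻¹) := by
    intro w
    rw [hP4]
    exact s1906p4_mem_range t ht w
  -- elements of `B` commute with `t`
  have hfixB : ∀ d ∈ B, t * d * t⁻¹ = d := by
    intro d hd
    rw [hBab t htB d hd]; group
  obtain ⟨a₀, ha₀, hca₀⟩ := (hmem c).mp h.cD
  have ha₀B : a₀ ∉ B := by
    intro hh
    rw [hfixB a₀ hh, inv_mul_cancel] at hca₀
    exact h.c1 hca₀
  have hall : ∀ w ∈ ⁅X, X⁆, w = 1 ∨ w = c := by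
    intro w hw
    obtain ⟨a, ha, rfl⟩ := (hmem _).mp hw
    by_cases haB : a ∈ B
    · left
      rw [hfixB a haB, inv_mul_cancel]
    · right
      have hd : a⁻¹ * a₀ ∈ B := by
        rw [s1906p4_mul_mem hB2 (X.inv_mem (h.le ha)) (h.le ha₀)]
        constructor
        · intro hh
          exact absurd (by simpa using B.inv_mem hh) haB
        · intro hh
          exact absurd hh ha₀B
      have hd0 : a⁻¹ * a₀ ∈ X0 := X0.mul_mem (X0.inv_mem ha) ha₀
      set d := a⁻¹ * a₀ with hddef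
      have ha₀' : a₀ = a * d := by rw [hddef]; group
      have hw0 : a⁻¹ * (t * a * t⁻¹) ∈ X0 := X0.mul_mem (X0.inv_mem ha) ((ht a).mp ha)
      have hcomm := h.ab _ hw0 d hd0
      rw [hca₀, ha₀']
      calc a⁻¹ * (t * a * t⁻¹) = d⁻¹ * (d * (a⁻¹ * (t * a * t⁻¹))) := by group
        _ = d⁻¹ * ((a⁻¹ * (t * a * t⁻¹)) * d) := by rw [hcomm]
        _ = d⁻¹ * ((a⁻¹ * (t * a * t⁻¹)) * (t * d * t⁻¹)) := by rw [hfixB d hd]
        _ = (a * d)⁻¹ * (t * (a * d) * t⁻¹) := by group
  apply h2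
  rw [Nat.card_eq_two_iff]
  refine ⟨⟨1, Subgroup.one_mem _⟩, ⟨c, h.cD⟩, ?_, ?_⟩
  · intro hh
    exact h.c1 (congrArg Subtype.val hh).symm
  · ext x
    simp only [Set.mem_insert_iff, Set.mem_singleton_iff, Set.mem_univ, iff_true]
    rcases hall x x.2 with hx | hx
    · left; exact Subtype.ext hx
    · right; exact Subtype.ext hx

end P

end Cfsg.Agent.Lib.Helper5.S1906
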