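import Mathlib
import Cfsg.Agent.Lib.Helper5.S1906.Defs

set_option autoImplicit false
set_option linter.unusedVariables false
set_option linter.unusedSectionVars false

/-! Project S1906 (designer helper5), row U10 (helper10): the abstract contradiction of case IIa. -/

namespace Cfsg.Agent.Lib.Helper5.S1906

open scoped IsMulCommutative

section U

variable {A : Type*} [CommGroup A] [Finite A] {σ : MulAut A} {c z : A}

/-- `σ` inverts the range of `dl σ` when `σ * σ = 1` -/
theorem s1906u10_inv (hs : σ * σ = 1) (w : A) (hw : w ∈ (dl σ).range) : σ w = w⁻¹ := by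
  obtain ⟨a, rfl⟩ := hw
  rw [dl_apply, map_mul, map_inv, mul_inv_rev, inv_inv]
  have : σ (σ a) = a := by
    have := congrArg (fun f : MulAut A => f a) hs
    simpa using this
  rw [this, mul_comm]

/-- in a finite 2-group a subgroup `R` with the only involution `c`, of order `≠ 2`, has an element of square `c` -/
theorem s1906u10_sqrt (hA : IsPGroup 2 A) (R : Subgroup A) (c : A) (hcR : c ∈ R) (hc2 : c * c = 1) (hc1 : c ≠ 1)
    (hinv : ∀ w ∈ R, w * w = 1 → w = 1 ∨ w = c) (hcard : Nat.card R ≠ 2) :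
    ∃ s ∈ R, s * s = c := by
  classical
  -- an element outside `{1, c}`
  have hex : ∃ r ∈ R, r ≠ 1 ∧ r ≠ c := by
    by_contra hcon
    push_neg at hcon
    apply hcard
    rw [Nat.card_eq_two_iff]
    refine ⟨⟨1, R.one_mem⟩, ⟨c, hcR⟩, ?_, ?_⟩
    · intro h
      exact hc1 (congrArg Subtype.val h).symm
    · ext x
      simp only [Set.mem_insert_iff, Set.mem_singleton_iff, Set.mem_univ, iff_true]
      by_cases hx1 : (x : A) = 1
      · left; exact Subtype.ext hx1
      · right; exact Subtype.ext (hcon x x.2 hx1)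
  obtain ⟨r, hrR, hr1, hrc⟩ := hex
  have hex2 : ∃ k : ℕ, r ^ 2 ^ k = 1 := hA r
  let k := Nat.find hex2
  have hk : r ^ 2 ^ k = 1 := Nat.find_spec hex2
  have hkmin : ∀ j, j < k → r ^ 2 ^ j ≠ 1 := fun j hj => Nat.find_min hex2 hj
  have hk1 : k ≠ 0 := by
    intro h0
    rw [h0, pow_zero, pow_one] at hk
    exact hr1 hk
  have hk2 : k ≠ 1 := by
    intro h1
    rw [h1, pow_one, pow_two] at hk
    rcases hinv r hrR hk with h | h
    · exact hr1 h
    · exact hrc h
  obtain ⟨j, hj⟩ : ∃ j, k = j + 2 := ⟨k - 2, by omega⟩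
  refine ⟨r ^ 2 ^ j, R.pow_mem hrR _, ?_⟩
  have hsq : r ^ 2 ^ j * r ^ 2 ^ j = r ^ 2 ^ (j + 1) := by
    rw [← pow_add, pow_succ, mul_two]
  have hsq2 : r ^ 2 ^ (j + 1) * r ^ 2 ^ (j + 1) = 1 := by
    rw [← pow_add, ← mul_two, ← pow_succ, ← hj]
    exact hk
  rw [hsq]
  rcases hinv _ (R.pow_mem hrR _) hsq2 with h | h
  · exact absurd h (hkmin (j + 1) (by omega))
  · exact h

/-- U10 -/
theorem iia_abs (hA : IsPGroup 2 A) (h : ACtx σ c z) (hZ : ∀ a : A, σ a = a → a * a = 1) (e : A)
    (he2 : e * e = 1) (he : σ e ≠ e) (hD : Nat.card (dl σ).range ≠ 2) : False := by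
  -- `σ e = e * c`
  have hde : dl σ e = c := by
    have hmem : dl σ e ∈ (dl σ).range := ⟨e, rfl⟩
    have hsq : dl σ e * dl σ e = 1 := by
      rw [← map_mul, he2, map_one]
    rcases h.invD _ hmem hsq with h1 | h1
    · exfalso
      apply he
      rw [dl_apply] at h1
      have := congrArg (fun x => e * x) h1
      simpa using this
    · exact h1
  have hse : σ e = e * c := by
    rw [← hde, dl_apply, mul_inv_cancel_left]
  obtain ⟨s, hsR, hss⟩ := s1906u10_sqrt hA (dl σ).range c h.cD h.c2 h.c1 h.invD hD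
  have hσs : σ s = s⁻¹ := s1906u10_inv h.s2 s hsR
  have hfix : σ (e * s) = e * s := by
    rw [map_mul, hse, hσs, ← hss]
    rw [mul_assoc, mul_inv_cancel_right]
  have h1 := hZ (e * s) hfix
  have h2 : e * s * (e * s) = c := by
    rw [mul_mul_mul_comm, he2, hss, one_mul]
  exact h.c1 (h2.symm.trans h1)

end U

end Cfsg.Agent.Lib.Helper5.S1906
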