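import Mathlib
import Cfsg.Agent.Lib.Helper5.S1906.Defs

set_option autoImplicit false
set_option linter.unusedVariables false
set_option linter.unusedSectionVars false

/-! Project S1906 (designer helper5), row U7 (helper10): coprime action of an odd group of automorphisms on an
abelian 2-group: `A = C_A(O) × [A, O]`. -/

namespace Cfsg.Agent.Lib.Helper5.S1906

open scoped IsMulCommutative

section U

variable {A : Type*} [CommGroup A] [Finite A] {σ : MulAut A} {c z : A}

/-- U7 -/
theorem coprime_decomp (hA : IsPGroup 2 A) (O : Subgroup (MulAut A)) (hO : Odd (Nat.card O)) :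
    FixO O ⊓ CommO O = ⊥ ∧ ∀ a : A, ∃ x ∈ FixO O, ∃ y ∈ CommO O, a = x * y := by
  classical
  haveI : Fintype O := Fintype.ofFinite O
  set m := Nat.card O with hm
  have hmcard : Fintype.card O = m := by rw [hm, Nat.card_eq_fintype_card]
  -- the norm
  let N : A →* A := ∏ β : O, ((β : MulAut A).toMonoidHom)
  have hN : ∀ a, N a = ∏ β : O, (β : MulAut A) a := by
    intro a
    simp only [N, MonoidHom.finset_prod_apply]
    rfl
  have hNfix : ∀ a, N a ∈ FixO O := by
    intro a γ hγ
    rw [hN, map_prod]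
    exact Fintype.prod_equiv (Equiv.mulLeft (⟨γ, hγ⟩ : O)) _ _ (fun β => rfl)
  have hNinv : ∀ (β : MulAut A), β ∈ O → ∀ a, N (β a) = N a := by
    intro β hβ a
    rw [hN, hN]
    exact Fintype.prod_equiv (Equiv.mulRight (⟨β, hβ⟩ : O)) _ _ (fun γ => rfl)
  have hNcomm : ∀ y ∈ CommO O, N y = 1 := by
    have hle : CommO O ≤ N.ker := by
      unfold CommO
      rw [Subgroup.closure_le]
      rintro x ⟨β, hβ, a, rfl⟩
      show N (a⁻¹ * β a) = 1
      rw [map_mul, map_inv, hNinv β hβ, inv_mul_cancel]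
    intro y hy
    exact hle hy
  have hNonfix : ∀ x ∈ FixO O, N x = x ^ m := by
    intro x hx
    rw [hN]
    have : ∀ β : O, (β : MulAut A) x = x := fun β => hx β β.2
    simp only [this, Finset.prod_const, Finset.card_univ, hmcard]
  -- `a ^ m = N a * (element of CommO)`
  have hpow : ∀ a : A, ∃ y ∈ CommO O, a ^ m = N a * y := by
    intro a
    refine ⟨∏ β : O, (a * ((β : MulAut A) a)⁻¹), ?_, ?_⟩
    · apply Subgroup.prod_mem
      intro β _
      have h1 : a * ((β : MulAut A) a)⁻¹ = (a⁻¹ * (β : MulAut A) a)⁻¹ := by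
        rw [mul_inv_rev, inv_inv, mul_comm]
      rw [h1]
      exact (CommO O).inv_mem (mem_CommO O β β.2 a)
    · rw [Finset.prod_mul_distrib, Finset.prod_inv_distrib, ← hN, Finset.prod_const, Finset.card_univ,
        hmcard, mul_comm (a ^ m), mul_inv_cancel_left]
  have hcop : ∀ k : ℕ, Nat.Coprime m (2 ^ k) := by
    intro k
    exact (Nat.Coprime.pow_left k (Nat.coprime_two_left.mpr hO)).symm
  constructor
  · rw [eq_bot_iff]
    intro x hx
    obtain ⟨hx1, hx2⟩ := Subgroup.mem_inf.mp hx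
    rw [Subgroup.mem_bot]
    have h1 : x ^ m = 1 := by rw [← hNonfix x hx1]; exact hNcomm x hx2
    obtain ⟨k, hk⟩ := hA x
    have := pow_gcd_eq_one.mpr ⟨h1, hk⟩
    rw [Nat.Coprime.gcd_eq_one (hcop k), pow_one] at this
    exact this
  · intro a
    obtain ⟨k, hk⟩ := hA a
    have hord : orderOf a ∣ 2 ^ k := orderOf_dvd_of_pow_eq_one hk
    have hcop' : Nat.Coprime m (orderOf a) := Nat.Coprime.coprime_dvd_right hord (hcop k)
    obtain ⟨j, hj⟩ := exists_pow_eq_self_of_coprime hcop'
    -- `a = (a ^ j) ^ m`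
    have hb : (a ^ j) ^ m = a := by
      rw [← pow_mul, mul_comm, pow_mul]; exact hj
    obtain ⟨y, hy, hyy⟩ := hpow (a ^ j)
    exact ⟨N (a ^ j), hNfix _, y, hy, by rw [← hyy, hb]⟩

end U

end Cfsg.Agent.Lib.Helper5.S1906
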