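import Mathlib
import Cfsg.Agent.Lib.Helper20.S3571.Defs

set_option autoImplicit false

namespace Cfsg.Agent.Lib.Helper20.S3571
open Equiv

/-- C0: if `r ∤ |H|`, any element of order `r` works. -/
theorem concl_of_not_dvd (m : ℕ) (hm : 5 ≤ m) (H : Subgroup (Perm (Fin m)))
    (hHA : H ≤ alternatingGroup (Fin m)) (n : ℕ)
    (hn : n * Nat.card H = Nat.card (alternatingGroup (Fin m))) (r : ℕ) (hr : r.Prime)
    (hrd : r ∣ n) (hrH : ¬ r ∣ Nat.card H) : Concl m H r := by
  have : Fact r.Prime := ⟨hr⟩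
  have hdvd : r ∣ Nat.card (alternatingGroup (Fin m)) := by
    rw [← hn]
    exact Dvd.dvd.mul_right hrd _
  obtain ⟨a, ha⟩ := exists_prime_orderOf_dvd_card' r hdvd
  refine ⟨(a : Perm (Fin m)), a.2, ?_, ?_⟩
  · rw [Subgroup.orderOf_coe]
    exact ha
  · intro x _ hx
    apply hrH
    have h1 : orderOf (x * (a : Perm (Fin m)) * x⁻¹) = r := by
      have h0 := orderOf_injective (MulAut.conj x).toMonoidHom (MulAut.conj x).injective
        (a : Perm (Fin m))
      simp only [MulEquiv.toMonoidHom_eq_coe, MonoidHom.coe_coe, MulAut.conj_apply] at h0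
      rw [h0, Subgroup.orderOf_coe]
      exact ha
    have h2 : orderOf (⟨x * (a : Perm (Fin m)) * x⁻¹, hx⟩ : H) = r := by
      rw [← Subgroup.orderOf_coe]
      exact h1
    rw [← h2]
    exact orderOf_dvd_natCard _

end Cfsg.Agent.Lib.Helper20.S3571
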