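import Mathlib
import Cfsg.Agent.Lib.Helper20.S3571.Defs

set_option autoImplicit false

namespace Cfsg.Agent.Lib.Helper20.S3571
open Equiv

/-- `2 * |A_m| = m!` -/
theorem h10_two_mul_card_alt (m : ℕ) (hm : 2 ≤ m) :
    2 * Nat.card (alternatingGroup (Fin m)) = m.factorial := by
  have : Nontrivial (Fin m) := Fin.nontrivial_iff_two_le.mpr hm
  rw [two_mul_nat_card_alternatingGroup, Nat.card_perm, Nat.card_eq_fintype_card, Fintype.card_fin]

/-- C2: if the prime `p` with `m/2 < p ≤ m` does not divide the index, `H` contains a `p`-cycle. -/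
theorem exists_cycle_mem (m : ℕ) (hm : 5 ≤ m) (H : Subgroup (Perm (Fin m)))
    (hHA : H ≤ alternatingGroup (Fin m)) (n : ℕ)
    (hn : n * Nat.card H = Nat.card (alternatingGroup (Fin m))) (p : ℕ) (hp : p.Prime)
    (hpm : p ≤ m) (hp2 : m < 2 * p) (hpn : ¬ p ∣ n) :
    ∃ c ∈ H, c.IsCycle ∧ c.support.card = p := by
  have : Fact p.Prime := ⟨hp⟩
  have hcard := h10_two_mul_card_alt m (by omega)
  have hp3 : 3 ≤ p := by omega
  have hpfact : p ∣ m.factorial := (Nat.Prime.dvd_factorial hp).mpr hpm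
  have hpA : p ∣ Nat.card (alternatingGroup (Fin m)) := by
    rw [← hcard] at hpfact
    rcases (Nat.Prime.dvd_mul hp).mp hpfact with h | h
    · have := Nat.le_of_dvd (by norm_num) h
      omega
    · exact h
  have hpH : p ∣ Nat.card H := by
    rw [← hn] at hpA
    rcases (Nat.Prime.dvd_mul hp).mp hpA with h | h
    · exact absurd h hpn
    · exact h
  obtain ⟨c, hc⟩ := exists_prime_orderOf_dvd_card' p hpH
  have hc' : orderOf (c : Perm (Fin m)) = p := by
    rw [Subgroup.orderOf_coe]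
    exact hc
  have hcyc : (c : Perm (Fin m)).IsCycle := by
    apply Equiv.Perm.isCycle_of_prime_order'
    · rw [hc']; exact hp
    · rw [hc', Fintype.card_fin]; exact hp2
  refine ⟨(c : Perm (Fin m)), c.2, hcyc, ?_⟩
  rw [← hcyc.orderOf, hc']

end Cfsg.Agent.Lib.Helper20.S3571
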