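import Mathlib
import Cfsg.Agent.Lib.Helper20.S3571.Defs
import Cfsg.Agent.Lib.Helper10.S3571C2

set_option autoImplicit false

namespace Cfsg.Agent.Lib.Helper20.S3571
open Equiv

/-- for a prime `r` with `r ≤ m < 2 r`, `r ^ 2` does not divide `m !` -/
theorem h10_sq_not_dvd_factorial (m r : ℕ) (hr : r.Prime) (hrm : r ≤ m) (hm2 : m < 2 * r) :
    ¬ r ^ 2 ∣ m.factorial := by
  have hr2 : 2 ≤ r := hr.two_le
  have hlog : Nat.log r m < 2 := by
    apply Nat.log_lt_of_lt_pow (by omega)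
    nlinarith
  rw [Nat.Prime.pow_dvd_factorial_iff hr hlog]
  have hdiv : m / r = 1 := by
    apply Nat.div_eq_of_lt_le
    · omega
    · omega
  simp [hdiv]

/-- C1: if a prime `q` with `m/2 < q ≤ m` divides the index, then `r ∤ |H|`. -/
theorem not_dvd_of_big_prime (m : ℕ) (hm : 5 ≤ m) (H : Subgroup (Perm (Fin m)))
    (hHA : H ≤ alternatingGroup (Fin m)) (n : ℕ)
    (hn : n * Nat.card H = Nat.card (alternatingGroup (Fin m))) (r : ℕ) (hr : r.Prime)
    (hrd : r ∣ n) (hmax : ∀ s : ℕ, s.Prime → s ∣ n → s ≤ r) (q : ℕ) (hq : q.Prime) (hqm : q ≤ m)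
    (hq2 : m < 2 * q) (hqn : q ∣ n) : ¬ r ∣ Nat.card H := by
  intro hrH
  have hcard := h10_two_mul_card_alt m (by omega)
  have hqr : q ≤ r := hmax q hq hqn
  have hsq : r ^ 2 ∣ m.factorial := by
    rw [← hcard, ← hn, pow_two]
    exact Dvd.dvd.mul_left (Nat.mul_dvd_mul hrd hrH) 2
  have hrfact : r ∣ m.factorial := dvd_trans (dvd_pow_self r two_ne_zero) hsq
  have hrm : r ≤ m := (Nat.Prime.dvd_factorial hr).mp hrfact
  exact h10_sq_not_dvd_factorial m r hr hrm (by omega) hsq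

end Cfsg.Agent.Lib.Helper20.S3571
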