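import Mathlib
import Cfsg.Agent.Lib.helper8.SylowBasic
import Cfsg.Agent.Lib.helper8.SimpleEmbed
import Cfsg.Agent.Lib.helper8.OrbitCount
import Cfsg.Agent.Lib.helper23.OrdGen3
import Cfsg.Agent.Lib.Helper25.S496K1

set_option autoImplicit false

namespace Cfsg.Agent.Lib.helper3.S496

open Cfsg.Agent.Lib.helper8 Cfsg.Agent.Lib.helper23

theorem no_simple_1008 {G : Type*} [Group G] [Finite G] [IsSimpleGroup G]
    (hG : Nat.card G = 1008) : False := by
  have : Fact (Nat.Prime 7) := ⟨by norm_num⟩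
  have hG' : Nat.card G = 7 ^ 1 * 144 := by rw [hG]; norm_num
  have hnd : ¬ 7 ∣ 144 := by norm_num
  have hnc : ¬ IsMulCommutative G := h8_not_comm_of_card (by rw [hG]; norm_num)
  have hmem := h8_nsylow_mem 7 1 144 hG' hnd
  have hne1 := h8_simple_nsylow_ne_one 7 1 144 hG' hnd (by norm_num) (by norm_num)
  obtain ⟨P⟩ : Nonempty (Sylow 7 G) := inferInstance
  obtain ⟨hP, hNn, hXn, r, hr6, hr1, hCr⟩ := og3_sylow_data 7 144 hG' hnd (by norm_num) P
  have hdiv : (Nat.divisors 144).filter (fun d => d % 7 = 1) = {1, 8, 36} := by decide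
  rw [hdiv] at hmem
  simp only [Finset.mem_insert, Finset.mem_singleton] at hmem
  rcases hmem with h | h | h
  · exact hne1 h
  · -- n_7 = 8
    obtain ⟨_, hdvd⟩ := np_succ 7 P hP (by rw [h])
    rw [hG] at hdvd
    norm_num at hdvd
  · -- n_7 = 36
    rw [h, hG] at hNn
    have hN : Nat.card (Subgroup.normalizer ((P : Subgroup G) : Set G)) = 28 := by omega
    rw [hN] at hCr
    have hr6' : r ∣ 6 := by simpa using hr6
    have hrle : r ≤ 6 := Nat.le_of_dvd (by norm_num) hr6'
    have hr28 : r ∣ 28 := Dvd.intro_left _ hCr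
    have hr2 : r = 2 := by
      interval_cases r <;> simp_all
    rw [hr2] at hCr
    have hC : Nat.card (Subgroup.centralizer ((P : Subgroup G) : Set G)) = 14 := by omega
    obtain ⟨c, hcC, hc2, f, hf, hf7, hf4, hflt, himp⟩ :=
      og3_invol_package hnc 7 (by decide) P hP (by rw [hC]; norm_num) hne1
    rw [h] at hf4 hflt
    have hf8 : f = 8 := by
      have : f % 7 = 1 := hf7
      obtain ⟨k, hk⟩ := hf4
      omega
    have horb := h8_card_orbits_sylow_prime 7 P hP
    rw [h] at horb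
    have horb6 : Nat.card (MulAction.orbitRel.Quotient ↥(P : Subgroup G)
        (G ⧸ Subgroup.normalizer ((P : Subgroup G) : Set G))) = 6 := by omega
    obtain ⟨m', hm1, hm2, hm3⟩ := himp (by rw [horb6, hf8]; norm_num)
    rw [hC] at hm2
    have hm'1 : m' = 1 := by omega
    rw [hm'1, hf8, h] at hm3
    omega

end Cfsg.Agent.Lib.helper3.S496
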