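import Mathlib
import Cfsg.Agent.S0618
import Cfsg.Agent.S0608
import Cfsg.Agent.S0601
import Cfsg.Agent.S2759
import Cfsg.Agent.S5299
import Cfsg.Agent.Lib.Helper5.SolvPSolv
import Cfsg.Agent.Lib.Helper5.PConstr
import Cfsg.Agent.Lib.Helper10.FFAb2

set_option autoImplicit false

namespace Cfsg.Agent.Lib.Helper10.S4Free

open scoped commutatorElement

variable {G : Type*} [Group G] [Finite G]

/-- A normal 2-subgroup `V` and a subgroup `E ≥ C_G(V)` with `E / C_G(V) ≅ SL(2,2)` give an `S₄`-section. -/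
theorem involves_s4_of_sl2 (V E : Subgroup G) [V.Normal] (hV2 : IsPGroup 2 V)
    (hn : ((Subgroup.centralizer (V : Set G)).subgroupOf E).Normal)
    (e : (↥E ⧸ (Subgroup.centralizer (V : Set G)).subgroupOf E) ≃*
      Matrix.SpecialLinearGroup (Fin 2) (ZMod 2)) :
    Cfsg.Involves (Equiv.Perm (Fin 4)) G := by
  apply (Cfsg.Agent.S2759.result (G := G)).mpr
  refine ⟨V, hV2, ?_⟩
  have hEN : E ≤ Subgroup.normalizer (V : Set G) :=
    le_trans le_top (top_le_iff.mpr (Subgroup.normalizer_eq_top_iff.mpr inferInstance)).ge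
  obtain ⟨e3⟩ := Cfsg.Agent.Lib.Helper10.FFAb.sl22_iso_s3
  let j : (↥E ⧸ (Subgroup.centralizer (V : Set G)).subgroupOf E) →*
      (↥(Subgroup.normalizer (V : Set G)) ⧸
        (Subgroup.centralizer (V : Set G)).subgroupOf (Subgroup.normalizer (V : Set G))) :=
    QuotientGroup.map _ _ (Subgroup.inclusion hEN) (by
      intro x hx
      rw [Subgroup.mem_comap, Subgroup.mem_subgroupOf]
      rw [Subgroup.mem_subgroupOf] at hx
      exact hx)
  have hj : Function.Injective j := by
    rw [injective_iff_map_eq_one]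
    intro q hq
    obtain ⟨x, rfl⟩ := QuotientGroup.mk_surjective q
    have h1 : j (QuotientGroup.mk x) = QuotientGroup.mk (Subgroup.inclusion hEN x) := rfl
    rw [h1, QuotientGroup.eq_one_iff, Subgroup.mem_subgroupOf] at hq
    rw [QuotientGroup.eq_one_iff, Subgroup.mem_subgroupOf]
    exact hq
  exact Cfsg.Agent.S5299.involves_of_inj_surj j hj (e.trans e3).toMonoidHom (e.trans e3).surjective

/-- The normal closure of `Ω₁(Z(S))`: the join of the `Ω₁(Z(S))` over all Sylow 2-subgroups. -/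
abbrev omZ (G : Type*) [Group G] : Subgroup G :=
  ⨆ S : Sylow 2 G, Cfsg.omegaOne 2 (((S : Subgroup G)) ⊓ Subgroup.centralizer ((S : Subgroup G) : Set G))

theorem thompson_le_centralizer [Group.IsSolvable G] (hO : Cfsg.pPrimeCore 2 G = ⊥)
    (hS4 : ¬ Cfsg.Involves (Equiv.Perm (Fin 4)) G) :
    Cfsg.thompsonSubgroup 2 G ≤ Subgroup.centralizer ((omZ G : Subgroup G) : Set G) := by
  by_contra hJ
  have hsep := Cfsg.Agent.Lib.Helper5.isPSolvable_of_isSolvable 2 G inferInstance
  have hc := Cfsg.Agent.Lib.Helper5.h5_centralizer_pCore_le hsep hO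
  obtain ⟨hVn, hVe, -⟩ := Cfsg.Agent.S0601.result hc
  have hnf : ¬ Cfsg.IsThompsonFactorizable 2 G := fun h => hJ ((Cfsg.Agent.S0608.result hO).mp h)
  have key := Cfsg.Agent.S0618.result hsep hO hnf
  rw [Cfsg.Agent.S0618.centralizer_iSup_set] at key
  obtain ⟨-, E, -, -, -, hn, ⟨e⟩⟩ := key
  haveI := hVn
  have hV2 : IsPGroup 2 (omZ G) := by
    intro x
    refine ⟨1, ?_⟩
    apply Subtype.ext
    have := hVe.2 x.1 x.2
    simpa using this
  exact hS4 (involves_s4_of_sl2 (omZ G) E hV2 hn e)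

end Cfsg.Agent.Lib.Helper10.S4Free
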