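import Mathlib
import Cfsg.Agent.Lib.Helper10.S4Free1
import Cfsg.Agent.Lib.Helper1.Cores

set_option autoImplicit false

namespace Cfsg.Agent.Lib.Helper10.S4Free

open scoped commutatorElement Pointwise

variable {G : Type*} [Group G]

/-- The stabilizer of the chain `1 ≤ V ≤ Q` (trivial on `V` and on `Q/V`). -/
def chainStab (Q V : Subgroup G) [Q.Normal] [V.Normal] : Subgroup G where
  carrier := {g | g ∈ Subgroup.centralizer (V : Set G) ∧ ∀ u ∈ Q, ⁅u, g⁆ ∈ V}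
  one_mem' := by
    refine ⟨Subgroup.one_mem _, fun u _ => ?_⟩
    rw [commutatorElement_one_right]
    exact V.one_mem
  mul_mem' := by
    rintro a b ⟨ha1, ha2⟩ ⟨hb1, hb2⟩
    refine ⟨Subgroup.mul_mem _ ha1 hb1, fun u hu => ?_⟩
    have h : ⁅u, a * b⁆ = ⁅u, a⁆ * (a * ⁅u, b⁆ * a⁻¹) := by
      simp only [commutatorElement_def]; group
    rw [h]
    exact V.mul_mem (ha2 u hu) (Subgroup.Normal.conj_mem inferInstance _ (hb2 u hu) a)
  inv_mem' := by
    rintro a ⟨ha1, ha2⟩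
    refine ⟨Subgroup.inv_mem _ ha1, fun u hu => ?_⟩
    have h : ⁅u, a⁻¹⁆ = a⁻¹ * (⁅u, a⁆)⁻¹ * a⁻¹⁻¹ := by
      simp only [commutatorElement_def]; group
    rw [h]
    exact Subgroup.Normal.conj_mem inferInstance _ (V.inv_mem (ha2 u hu)) a⁻¹

theorem mem_chainStab {Q V : Subgroup G} [Q.Normal] [V.Normal] {g : G} :
    g ∈ chainStab Q V ↔ g ∈ Subgroup.centralizer (V : Set G) ∧ ∀ u ∈ Q, ⁅u, g⁆ ∈ V := Iff.rfl

instance chainStab_normal (Q V : Subgroup G) [hQ : Q.Normal] [hV : V.Normal] :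
    (chainStab Q V).Normal := by
  constructor
  rintro g ⟨hg1, hg2⟩ x
  haveI : (Subgroup.centralizer (V : Set G)).Normal := inferInstance
  refine ⟨Subgroup.Normal.conj_mem inferInstance _ hg1 x, fun u hu => ?_⟩
  have h : ⁅u, x * g * x⁻¹⁆ = x * ⁅x⁻¹ * u * x⁻¹⁻¹, g⁆ * x⁻¹ := by
    simp only [commutatorElement_def]; group
  rw [h]
  exact hV.conj_mem _ (hg2 _ (hQ.conj_mem u hu x⁻¹)) x

theorem mem_centralizer_of_odd {Q V : Subgroup G} [Q.Normal] [V.Normal]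
    (hV : ∀ v ∈ V, v ^ 2 = 1) {h : G} (hh : h ∈ chainStab Q V) {m : ℕ} (hm : Odd m)
    (hhm : h ^ m = 1) : h ∈ Subgroup.centralizer (Q : Set G) := by
  obtain ⟨hh1, hh2⟩ := hh
  rw [Subgroup.mem_centralizer_iff]
  intro u hu
  have hv := hh2 u hu
  set v := ⁅u, h⁆ with hvdef
  have h1 : u * h * u⁻¹ = v * h := by
    rw [hvdef, commutatorElement_def]; group
  have hcomm : Commute v h := by
    rw [Subgroup.mem_centralizer_iff] at hh1
    exact hh1 v hv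
  have h2 : (u * h * u⁻¹) ^ m = 1 := by
    rw [conj_pow, hhm]; group
  rw [h1, hcomm.mul_pow, hhm, mul_one] at h2
  have h3 : v = 1 := by
    obtain ⟨t, rfl⟩ := hm
    rw [pow_succ, pow_mul, hV v hv, one_pow, one_mul] at h2
    exact h2
  rw [h3, one_mul] at h1
  calc u * h = u * h * u⁻¹ * u := by group
    _ = h * u := by rw [h1]

theorem chainStab_isPGroup [Finite G] (Q V : Subgroup G) [Q.Normal] [V.Normal]
    (hV : ∀ v ∈ V, v ^ 2 = 1) (hQ : IsPGroup 2 Q)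
    (hc : Subgroup.centralizer (Q : Set G) ≤ Q) : IsPGroup 2 (chainStab Q V) := by
  rintro ⟨g, hg⟩
  have hn : orderOf g ≠ 0 := (orderOf_pos g).ne'
  obtain ⟨k, m, hm, hkm⟩ := Nat.exists_eq_two_pow_mul_odd hn
  refine ⟨k, ?_⟩
  apply Subtype.ext
  rw [Subgroup.coe_pow, Subgroup.coe_one]
  set h := g ^ 2 ^ k with hdef
  have hhK : h ∈ chainStab Q V := Subgroup.pow_mem _ hg _
  have hhm : h ^ m = 1 := by
    rw [hdef, ← pow_mul, ← hkm, pow_orderOf_eq_one]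
  have hhQ : h ∈ Q := hc (mem_centralizer_of_odd hV hhK hm hhm)
  obtain ⟨j, hj⟩ := hQ ⟨h, hhQ⟩
  have hj' : h ^ 2 ^ j = 1 := by
    have := congrArg Subtype.val hj
    simpa using this
  have h1 : orderOf h ∣ m := orderOf_dvd_of_pow_eq_one hhm
  have h2 : orderOf h ∣ 2 ^ j := orderOf_dvd_of_pow_eq_one hj'
  have h3 : Nat.Coprime m (2 ^ j) := by
    apply Nat.Coprime.pow_right
    exact hm.coprime_two_right
  have h4 : orderOf h = 1 := Nat.eq_one_of_dvd_coprimes h3 h1 h2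
  exact orderOf_eq_one_iff.mp h4

theorem chainStab_le_pCore [Finite G] (Q V : Subgroup G) [Q.Normal] [V.Normal]
    (hV : ∀ v ∈ V, v ^ 2 = 1) (hQ : IsPGroup 2 Q)
    (hc : Subgroup.centralizer (Q : Set G) ≤ Q) : chainStab Q V ≤ Cfsg.pCore 2 G :=
  Cfsg.Agent.Lib.Helper1.le_pCore inferInstance (chainStab_isPGroup Q V hV hQ hc)

end Cfsg.Agent.Lib.Helper10.S4Free
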