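import Mathlib
import Cfsg.Agent.Lib.Helper10.S4Free2
import Cfsg.Agent.S0602
import Cfsg.Agent.S0603

set_option autoImplicit false

namespace Cfsg.Agent.Lib.Helper10.S4Free

open scoped commutatorElement Pointwise

variable {G : Type*} [Group G] [Finite G]

theorem lcs_sylow (S P : Sylow 2 G) (hcl : (S : Subgroup G).lowerCentralSeries 2 = ⊥) :
    (P : Subgroup G).lowerCentralSeries 2 = ⊥ := by
  obtain ⟨g, rfl⟩ := MulAction.exists_smul_eq G S P
  rw [Sylow.coe_subgroup_smul, Subgroup.pointwise_smul_def]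
  change ((S : Subgroup G).map ((MulAut.conj g).toMonoidHom)).lowerCentralSeries 2 = ⊥
  rw [← Subgroup.map_lowerCentralSeries, hcl, Subgroup.map_bot]

theorem class_two_elt (P : Subgroup G) (h : P.lowerCentralSeries 2 = ⊥) {x y z : G}
    (hx : x ∈ P) (hy : y ∈ P) (hz : z ∈ P) : ⁅⁅x, y⁆, z⁆ = 1 := by
  have h1 : ⁅⁅x, y⁆, z⁆ ∈ P.lowerCentralSeries 2 := by
    rw [Subgroup.lowerCentralSeries_succ, Subgroup.lowerCentralSeries_succ,
      Subgroup.lowerCentralSeries_zero]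
    exact Subgroup.commutator_mem_commutator (Subgroup.commutator_mem_commutator hx hy) hz
  rw [h] at h1
  exact Subgroup.mem_bot.mp h1

theorem comm_mem_omega (P : Subgroup G) (h : P.lowerCentralSeries 2 = ⊥) {u a : G}
    (hu : u ∈ P) (ha : a ∈ P) (ha2 : a ^ 2 = 1) :
    ⁅u, a⁆ ∈ Cfsg.omegaOne 2 (P ⊓ Subgroup.centralizer (P : Set G)) := by
  apply Subgroup.subset_closure
  have hcP : ⁅u, a⁆ ∈ P := by
    rw [commutatorElement_def]
    exact P.mul_mem (P.mul_mem (P.mul_mem hu ha) (P.inv_mem hu)) (P.inv_mem ha)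
  have hcomm : ∀ z ∈ P, Commute ⁅u, a⁆ z := fun z hz =>
    commutatorElement_eq_one_iff_commute.mp (class_two_elt P h hu ha hz)
  refine ⟨Subgroup.mem_inf.mpr ⟨hcP, ?_⟩, ?_⟩
  · rw [Subgroup.mem_centralizer_iff]
    intro z hz
    exact ((hcomm z hz).eq).symm
  · set c := ⁅u, a⁆ with hc
    have h1 : a * c * a⁻¹ = c := by
      rw [← (hcomm a ha).eq]; group
    have e1 : c * (a * c * a⁻¹) = u * (a * a) * u⁻¹ * (a⁻¹ * a⁻¹) := by
      rw [hc, commutatorElement_def]; group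
    rw [h1] at e1
    rw [pow_two, e1, ← pow_two, ha2, mul_one, mul_inv_cancel, one_mul, ← mul_inv_rev, ← pow_two, ha2,
      inv_one]

theorem maxEA_le_pCore [Group.IsSolvable G] (hO : Cfsg.pPrimeCore 2 G = ⊥)
    (hS4 : ¬ Cfsg.Involves (Equiv.Perm (Fin 4)) G) (S : Sylow 2 G)
    (hcl : (S : Subgroup G).lowerCentralSeries 2 = ⊥) (A : Subgroup G)
    (hA : A ∈ Cfsg.maxElementaryAbelianSubgroups 2 G) : A ≤ Cfsg.pCore 2 G := by
  have hsep := Cfsg.Agent.Lib.Helper5.isPSolvable_of_isSolvable 2 G inferInstance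
  have hc := Cfsg.Agent.Lib.Helper5.h5_centralizer_pCore_le hsep hO
  obtain ⟨hVn, hVe, -⟩ := Cfsg.Agent.S0601.result hc
  haveI := hVn
  haveI : (Cfsg.pCore 2 G).Normal := Cfsg.Agent.Lib.Helper1.pCore_normal 2
  have hJ := thompson_le_centralizer hO hS4
  have hAJ : A ≤ Cfsg.thompsonSubgroup 2 G := le_sSup hA
  have hA2 : IsPGroup 2 A := by
    intro x
    refine ⟨1, ?_⟩
    apply Subtype.ext
    have := hA.1.2 x.1 x.2
    simpa using this
  obtain ⟨P, hAP⟩ := hA2.exists_le_sylow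
  have hP := lcs_sylow S P hcl
  refine le_trans ?_ (chainStab_le_pCore (Cfsg.pCore 2 G) (omZ G) hVe.2
    (Cfsg.Agent.Lib.Helper1.pCore_isPGroup 2) hc)
  intro a ha
  refine ⟨hJ (hAJ ha), fun u hu => ?_⟩
  exact (le_iSup (fun S : Sylow 2 G => Cfsg.omegaOne 2 (((S : Subgroup G)) ⊓
    Subgroup.centralizer ((S : Subgroup G) : Set G))) P)
    (comm_mem_omega (P : Subgroup G) hP (Cfsg.Agent.Lib.Helper1.pCore_le_sylow 2 P hu) (hAP ha)
      (hA.1.2 a ha))

theorem thompsonOf_normal_of_coreFree [Group.IsSolvable G] (hO : Cfsg.pPrimeCore 2 G = ⊥)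
    (hS4 : ¬ Cfsg.Involves (Equiv.Perm (Fin 4)) G) (S : Sylow 2 G)
    (hcl : (S : Subgroup G).lowerCentralSeries 2 = ⊥) :
    (Cfsg.thompsonSubgroupOf 2 (S : Subgroup G)).Normal := by
  have hJ : Cfsg.thompsonSubgroup 2 G ≤ S :=
    sSup_le (fun A hA => (maxEA_le_pCore hO hS4 S hcl A hA).trans
      (Cfsg.Agent.Lib.Helper1.pCore_le_sylow 2 S))
  rw [Cfsg.Agent.S0603.result (S : Subgroup G) hJ]
  haveI := (Cfsg.Agent.S0602.result (G := G) (p := 2)).1
  infer_instance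

end Cfsg.Agent.Lib.Helper10.S4Free
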