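import Mathlib
import Cfsg.Agent.Lib.Helper19.S5954.Defs

set_option autoImplicit false
set_option linter.unusedVariables false
set_option linter.unusedSectionVars false

/-! Project S5954 (designer helper19), row UPEEL (helper10): splitting a nondegenerate invariant subspace off a nondegenerate
invariant subspace (hermitian form). -/

namespace Cfsg.Agent.Lib.Helper19.S5954

open Polynomial Module Cfsg.Agent.Lib.Helper13.S5955 Cfsg.Agent.Lib.helper14.JTa Cfsg.Agent.Lib.Helper11.S5956U

variable {F : Type*} [Field F] {V : Type*} [AddCommGroup V] [Module F V]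

/-- `U^⊥ = {v | ∀ u ∈ U, B u v = 0}` -/
def s5954upeel_perp {σ : F →+* F} (B : V →ₛₗ[σ] V →ₗ[F] F) (U : Submodule F V) : Submodule F V where
  carrier := {v | ∀ u ∈ U, B u v = 0}
  add_mem' := by
    intro a b ha hb u hu
    rw [map_add, ha u hu, hb u hu, add_zero]
  zero_mem' := by
    intro u hu
    rw [map_zero]
  smul_mem' := by
    intro c a ha u hu
    rw [map_smul, ha u hu, smul_zero]

theorem s5954upeel_mem_perp {σ : F →+* F} (B : V →ₛₗ[σ] V →ₗ[F] F) (U : Submodule F V) (v : V) :
    v ∈ s5954upeel_perp B U ↔ ∀ u ∈ U, B u v = 0 := Iff.rfl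

/-- `B (x^k u) (x^k v) = B u v` -/
theorem s5954upeel_pres_pow {r : ℕ} {σ : F →+* F} {B : V →ₛₗ[σ] V →ₗ[F] F} {x : Module.End F V}
    (h : HCtx r σ B x) (k : ℕ) (u v : V) : B ((x ^ k) u) ((x ^ k) v) = B u v := by
  induction k with
  | zero => simp
  | succ k ih =>
    rw [pow_succ', Module.End.mul_apply, Module.End.mul_apply, h.pres, ih]

/-- `B u (x v) = B (x^(r-1) u) v` -/
theorem s5954upeel_adj {r : ℕ} (hr : 0 < r) {σ : F →+* F} {B : V →ₛₗ[σ] V →ₗ[F] F} {x : Module.End F V}
    (h : HCtx r σ B x) (u v : V) : B u (x v) = B ((x ^ (r - 1)) u) v := by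
  have h1 := s5954upeel_pres_pow h (r - 1) u (x v)
  rw [← h1]
  congr 1
  rw [← Module.End.mul_apply, ← pow_succ, Nat.sub_add_cancel hr, h.pow, Module.End.one_apply]

/-- `B u v = 0 → B v u = 0` -/
theorem s5954upeel_swap {r : ℕ} {σ : F →+* F} {B : V →ₛₗ[σ] V →ₗ[F] F} {x : Module.End F V}
    (h : HCtx r σ B x) {u v : V} (huv : B u v = 0) : B v u = 0 := by
  rw [← h.symm u v, huv, map_zero]

/-- every vector is the sum of a vector of a nondegenerate finite-dimensional `U` and a vector of `U^⊥` -/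
theorem s5954upeel_decomp [FiniteDimensional F V] {r : ℕ} {σ : F →+* F} {B : V →ₛₗ[σ] V →ₗ[F] F}
    {x : Module.End F V} (h : HCtx r σ B x) (U : Submodule F V) (hUnd : HND B U) (v : V) :
    ∃ w ∈ U, v - w ∈ s5954upeel_perp B U := by
  classical
  set n := finrank F U with hn
  let b : Basis (Fin n) F U := Module.finBasis F U
  let Φ : ↥U →ₗ[F] (Fin n → F) :=
    { toFun := fun w i => B (b i : V) (w : V)
      map_add' := by
        intro w w'
        funext i
        simp only [Submodule.coe_add, map_add, Pi.add_apply]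
      map_smul' := by
        intro c w
        funext i
        simp only [Submodule.coe_smul, map_smul, RingHom.id_apply, Pi.smul_apply] }
  have hΦ : ∀ (w : ↥U) i, Φ w i = B (b i : V) (w : V) := fun w i => rfl
  -- vanishing on the basis implies vanishing on `U`
  have hvan : ∀ y : V, (∀ i, B (b i : V) y = 0) → ∀ u ∈ U, B u y = 0 := by
    intro y hy u hu
    have h1 := b.sum_repr ⟨u, hu⟩
    have h2 : u = ∑ i, (b.repr ⟨u, hu⟩ i) • (b i : V) := by
      have := congrArg (Subtype.val) h1
      simp only [Submodule.coe_sum, Submodule.coe_smul] at this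
      exact this.symm
    rw [h2, map_sum, LinearMap.sum_apply]
    apply Finset.sum_eq_zero
    intro i _
    rw [map_smulₛₗ, LinearMap.smul_apply, hy i, smul_zero]
  have hinj : Function.Injective Φ := by
    rw [← LinearMap.ker_eq_bot, LinearMap.ker_eq_bot']
    intro w hw
    have h0 : ∀ i, B (b i : V) (w : V) = 0 := by
      intro i
      rw [← hΦ, hw]; rfl
    have h1 := hvan (w : V) h0
    have h2 : (w : V) = 0 := hUnd w w.2 (fun u hu => s5954upeel_swap h (h1 u hu))
    exact Subtype.ext h2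
  have hdim : finrank F ↥U = finrank F (Fin n → F) := by
    rw [Module.finrank_fin_fun]
  have hsurj : Function.Surjective Φ :=
    (LinearMap.injective_iff_surjective_of_finrank_eq_finrank hdim).mp hinj
  obtain ⟨w, hw⟩ := hsurj (fun i => B (b i : V) v)
  refine ⟨w, w.2, ?_⟩
  rw [s5954upeel_mem_perp]
  apply hvan
  intro i
  rw [map_sub, ← hΦ, hw, sub_self]

theorem h_peel [FiniteDimensional F V] {r : ℕ} (hr : 0 < r) {σ : F →+* F} {B : V →ₛₗ[σ] V →ₗ[F] F}
    {x : Module.End F V} (h : HCtx r σ B x) (N U : Submodule F V) (hN : SInv x N) (hNnd : HND B N)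
    (hUN : U ≤ N) (hU : SInv x U) (hUnd : HND B U) :
    ∃ N' : Submodule F V, N' ≤ N ∧ SInv x N' ∧ HND B N' ∧ HOrth B U N' ∧ Disjoint U N' ∧
      finrank F N' + finrank F U = finrank F N := by
  classical
  have hdisj : Disjoint U (N ⊓ s5954upeel_perp B U) := by
    rw [Submodule.disjoint_def]
    intro u hu hu'
    apply hUnd u hu
    intro v hv
    exact s5954upeel_swap h (hu'.2 v hv)
  have hsup : U ⊔ (N ⊓ s5954upeel_perp B U) = N := by
    apply le_antisymm (sup_le hUN inf_le_left)
    intro n hn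
    obtain ⟨w, hw, hperp⟩ := s5954upeel_decomp h U hUnd n
    rw [Submodule.mem_sup]
    refine ⟨w, hw, n - w, ⟨N.sub_mem hn (hUN hw), hperp⟩, by abel⟩
  refine ⟨N ⊓ s5954upeel_perp B U, inf_le_left, ?_, ?_, ?_, hdisj, ?_⟩
  · intro v hv
    refine ⟨hN v hv.1, ?_⟩
    intro u hu
    show B u (x v) = 0
    rw [s5954upeel_adj hr h]
    exact hv.2 _ (Cfsg.Agent.Lib.Helper24.el_pow_mem hU (r - 1) hu)
  · intro u hu hall
    apply hNnd u hu.1
    intro n hn
    rw [← hsup, Submodule.mem_sup] at hn
    obtain ⟨u₁, hu₁, n', hn', rfl⟩ := hn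
    rw [map_add, hall n' hn', add_zero]
    exact s5954upeel_swap h (hu.2 u₁ hu₁)
  · intro u hu w hw
    exact hw.2 u hu
  · have h1 := Submodule.finrank_sup_add_finrank_inf_eq U (N ⊓ s5954upeel_perp B U)
    rw [hsup, disjoint_iff.mp hdisj, finrank_bot, add_zero] at h1
    omega

end Cfsg.Agent.Lib.Helper19.S5954
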