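import Mathlib
import Cfsg.Agent.Lib.Helper19.S5954.Defs

set_option autoImplicit false
set_option linter.unusedVariables false
set_option linter.unusedSectionVars false

/-! Project S5954 (designer helper19), row USTD (helper10): the standard hermitian form is conjugate-symmetric and nondegenerate. -/

namespace Cfsg.Agent.Lib.Helper19.S5954

open Polynomial Module Cfsg.Agent.Lib.Helper13.S5955 Cfsg.Agent.Lib.helper14.JTa Cfsg.Agent.Lib.Helper11.S5956U

variable {F : Type*} [Field F] {V : Type*} [AddCommGroup V] [Module F V]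

/-- the value of the standard form -/
theorem s5954ustd_apply (n : ℕ) (σ : F →+* F) (u v : Fin n → F) :
    stdH n σ u v = ∑ i, v i * σ (u i) := by
  simp only [stdH, Cfsg.Agent.Lib.helper6.HF.hB, LinearMap.mk₂'ₛₗ_apply]

theorem std_facts (n : ℕ) (σ : F →+* F) (hσσ : ∀ a, σ (σ a) = a) :
    (∀ u v : Fin n → F, σ (stdH n σ u v) = stdH n σ v u) ∧
      ∀ u : Fin n → F, (∀ v, stdH n σ u v = 0) → u = 0 := by
  classical
  constructor
  · intro u v
    rw [s5954ustd_apply, s5954ustd_apply, map_sum]
    apply Finset.sum_congr rfl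
    intro i _
    rw [map_mul, hσσ, mul_comm]
  · intro u hu
    funext j
    have h1 := hu (Pi.single j 1)
    rw [s5954ustd_apply, Finset.sum_eq_single j] at h1
    · rw [Pi.single_eq_same, one_mul] at h1
      have h2 : σ (σ (u j)) = σ 0 := by rw [h1]
      rw [hσσ, map_zero] at h2
      exact h2
    · intro i _ hij
      rw [Pi.single_eq_of_ne hij, zero_mul]
    · intro h; exact absurd (Finset.mem_univ j) h

end Cfsg.Agent.Lib.Helper19.S5954
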