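import Mathlib
import Cfsg.Prelude.Def_Classical
import Cfsg.Agent.S0245
import Cfsg.Agent.S0246

set_option autoImplicit false

/-! Project S63 (S3664, coordinator helper21), piece S63-PA: `|PSp(6,3)| = 4585351680`. -/

namespace Cfsg.Agent.Lib.Helper10.S63

open Cfsg

/-- `|Sp(6,3)| = 9170703360`. -/
theorem sp_card {F : Type*} [Field F] [Fintype F] (hF : Fintype.card F = 3) :
    Nat.card (Matrix.symplecticGroup (Fin 3) F) = 9170703360 := by
  rw [Cfsg.Agent.S0245.result hF 3]
  simp [Finset.prod_range_succ]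

/-- S63-PA -/
theorem psp_card {F : Type*} [Field F] [Fintype F] (hF : Fintype.card F = 3) :
    Nat.card (Cfsg.PSp 3 F) = 4585351680 := by
  have h1 := Subgroup.card_eq_card_quotient_mul_card_subgroup
    (Subgroup.center (Matrix.symplecticGroup (Fin 3) F))
  rw [sp_card hF, Cfsg.Agent.S0246.result hF 3 (by norm_num)] at h1
  have h2 : Nat.gcd 2 (3 - 1) = 2 := by norm_num
  rw [h2] at h1
  show Nat.card (Matrix.symplecticGroup (Fin 3) F ⧸
    Subgroup.center (Matrix.symplecticGroup (Fin 3) F)) = 4585351680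
  omega

end Cfsg.Agent.Lib.Helper10.S63
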