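import Mathlib
import Cfsg.Prelude.Def_Classical
import Cfsg.Agent.S0246

set_option autoImplicit false

/-! Project S63 (S3664, coordinator helper21), piece S63-PC: elements of order `6`, `10`, `14` in
`PSp(6,3)`, from explicit matrices over `ZMod 3`. -/

namespace Cfsg.Agent.Lib.Helper10.S63

open Matrix

section general

variable {R S : Type*} [CommRing R] [CommRing S]

theorem map_neg_one_mat {n : Type*} [Fintype n] [DecidableEq n] (f : R →+* S) :
    ((-1 : Matrix n n R)).map f = -1 := by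
  have h := map_neg f.mapMatrix (1 : Matrix n n R)
  rw [map_one] at h
  exact h

theorem map_mem_symplectic (f : R →+* S) {A : Matrix (Fin 3 ⊕ Fin 3) (Fin 3 ⊕ Fin 3) R}
    (hA : A ∈ symplecticGroup (Fin 3) R) : f.mapMatrix A ∈ symplecticGroup (Fin 3) S := by
  rw [SymplecticGroup.mem_iff] at hA ⊢
  have hJ : f.mapMatrix (J (Fin 3) R) = J (Fin 3) S := by
    simp [J, RingHom.mapMatrix_apply, fromBlocks_map, map_neg_one_mat]
  have hT : (f.mapMatrix A)ᵀ = f.mapMatrix Aᵀ := by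
    simp [RingHom.mapMatrix_apply, transpose_map]
  rw [hT, ← hJ, ← map_mul, ← map_mul, hA]

/-- Base change of symplectic matrices along a ring homomorphism. -/
def mapSp (f : R →+* S) : symplecticGroup (Fin 3) R →* symplecticGroup (Fin 3) S where
  toFun g := ⟨f.mapMatrix g.1, map_mem_symplectic f g.2⟩
  map_one' := Subtype.ext (by simp)
  map_mul' x y := Subtype.ext (by simp)

theorem mapSp_injective (f : R →+* S) (hf : Function.Injective f) :
    Function.Injective (mapSp f) := by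
  intro x y h
  apply Subtype.ext
  have h1 : f.mapMatrix x.1 = f.mapMatrix y.1 := congrArg Subtype.val h
  exact Matrix.map_injective hf h1

/-- The central element `-1` of the symplectic group. -/
def negOne (R : Type*) [CommRing R] : symplecticGroup (Fin 3) R :=
  ⟨-1, SymplecticGroup.neg_mem (one_mem _)⟩

theorem negOne_mem_center : negOne R ∈ Subgroup.center (symplecticGroup (Fin 3) R) := by
  rw [Subgroup.mem_center_iff]
  intro g
  apply Subtype.ext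
  simp [negOne]

theorem mapSp_negOne (f : R →+* S) : mapSp f (negOne R) = negOne S :=
  Subtype.ext (by simp [mapSp, negOne, map_neg_one_mat])

end general

theorem negOne_zmod_ne_one : negOne (ZMod 3) ≠ 1 := by
  intro h
  have h1 : (-1 : Matrix (Fin 3 ⊕ Fin 3) (Fin 3 ⊕ Fin 3) (ZMod 3)) = 1 := congrArg Subtype.val h
  have h2 := congrFun (congrFun h1 (Sum.inl 0)) (Sum.inl 0)
  revert h2
  simp only [Matrix.neg_apply, Matrix.one_apply_eq]
  decide

section field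

variable {F : Type*} [Field F] [Fintype F]

theorem center_cases (hF : Fintype.card F = 3) (x : symplecticGroup (Fin 3) F)
    (hx : x ∈ Subgroup.center (symplecticGroup (Fin 3) F)) : x = 1 ∨ x = negOne F := by
  have hc := Cfsg.Agent.S0246.result hF 3 (by norm_num)
  have hc2 : Nat.card (Subgroup.center (symplecticGroup (Fin 3) F)) = 2 :=
    hc.trans (by norm_num)
  by_contra hcon
  push Not at hcon
  obtain ⟨h1, h2⟩ := hcon
  have hne : negOne F ≠ 1 := by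
    intro h
    have e := ZMod.ringEquivOfPrime F Nat.prime_three hF
    have hinj := mapSp_injective (e : ZMod 3 →+* F) e.injective
    apply negOne_zmod_ne_one
    apply hinj
    rw [mapSp_negOne, map_one, h]
  rw [Nat.card_eq_two_iff' (1 : Subgroup.center (symplecticGroup (Fin 3) F))] at hc2
  obtain ⟨y, -, hy⟩ := hc2
  have e1 := hy ⟨x, hx⟩ (by intro h; exact h1 (congrArg Subtype.val h))
  have e2 := hy ⟨negOne F, negOne_mem_center⟩ (by intro h; exact hne (congrArg Subtype.val h))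
  exact h2 (congrArg Subtype.val (e1.trans e2.symm))

theorem orderOf_mk_eq (hF : Fintype.card F = 3) (g₀ : symplecticGroup (Fin 3) (ZMod 3)) (n : ℕ)
    (hn : 0 < n) (hpow : g₀ ^ n = 1 ∨ g₀ ^ n = negOne (ZMod 3))
    (hd : ∀ p : ℕ, p.Prime → p ∣ n → g₀ ^ (n / p) ≠ 1 ∧ g₀ ^ (n / p) ≠ negOne (ZMod 3)) :
    ∃ g : Cfsg.PSp 3 F, orderOf g = n := by
  have e := ZMod.ringEquivOfPrime F Nat.prime_three hF
  have hinj := mapSp_injective (e : ZMod 3 →+* F) e.injective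
  refine ⟨QuotientGroup.mk (mapSp (e : ZMod 3 →+* F) g₀), ?_⟩
  refine orderOf_eq_of_pow_and_pow_div_prime hn ?_ ?_
  · rw [← QuotientGroup.mk_pow, QuotientGroup.eq_one_iff, ← map_pow]
    rcases hpow with h | h
    · rw [h, map_one]
      exact one_mem _
    · rw [h, mapSp_negOne]
      exact negOne_mem_center
  · intro p hp hpn
    rw [← QuotientGroup.mk_pow, Ne, QuotientGroup.eq_one_iff, ← map_pow]
    intro hmem
    obtain ⟨hd1, hd2⟩ := hd p hp hpn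
    rcases center_cases hF _ hmem with h | h
    · apply hd1
      apply hinj
      rw [h, map_one]
    · apply hd2
      apply hinj
      rw [h, mapSp_negOne]

end field

/-- `3 × 3` blocks over `ZMod 3`. -/
abbrev M3 := Matrix (Fin 3) (Fin 3) (ZMod 3)
/-- `6 × 6` matrices over `ZMod 3`, in block form. -/
abbrev M6 := Matrix (Fin 3 ⊕ Fin 3) (Fin 3 ⊕ Fin 3) (ZMod 3)

theorem fb_mul (a b c d a' b' c' d' a'' b'' c'' d'' : M3)
    (h1 : a * a' + b * c' = a'') (h2 : a * b' + b * d' = b'') (h3 : c * a' + d * c' = c'')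
    (h4 : c * b' + d * d' = d'') :
    (fromBlocks a b c d : M6) * fromBlocks a' b' c' d' = fromBlocks a'' b'' c'' d'' := by
  rw [fromBlocks_multiply, h1, h2, h3, h4]

/-- explicit matrix over `ZMod 3` -/
def a6 : M6 :=
  fromBlocks (!![0, 0, 1; 0, 0, 1; 0, 0, 1] : M3) !![1, 2, 0; 2, 0, 0; 0, 0, 0] !![0, 1, 2; 1, 1, 1; 2, 1, 1] !![1, 0, 0; 0, 1, 0; 0, 0, 1]

/-- explicit matrix over `ZMod 3` -/
def a6p2 : M6 :=
  fromBlocks (!![2, 0, 2; 0, 2, 2; 0, 0, 1] : M3) !![1, 2, 0; 2, 0, 0; 0, 0, 0] !![0, 1, 2; 1, 1, 1; 2, 1, 2] !![0, 0, 0; 0, 0, 0; 1, 1, 1]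

/-- explicit matrix over `ZMod 3` -/
def a6p3 : M6 :=
  fromBlocks (!![2, 0, 2; 0, 2, 2; 0, 0, 1] : M3) !![0, 0, 0; 0, 0, 0; 0, 0, 0] !![0, 0, 0; 0, 0, 0; 0, 0, 0] !![2, 0, 0; 0, 2, 0; 2, 2, 1]

theorem a6_mul2 : a6 * a6 = a6p2 :=
  fb_mul _ _ _ _ _ _ _ _ _ _ _ _ (by decide) (by decide) (by decide) (by decide)

theorem a6_mul3 : a6p2 * a6 = a6p3 :=
  fb_mul _ _ _ _ _ _ _ _ _ _ _ _ (by decide) (by decide) (by decide) (by decide)

/-- explicit matrix over `ZMod 3` -/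
def a10 : M6 :=
  fromBlocks (!![0, 0, 1; 1, 1, 0; 1, 0, 2] : M3) !![0, 2, 1; 2, 0, 2; 1, 2, 2] !![0, 0, 2; 0, 0, 0; 2, 0, 1] !![1, 0, 0; 0, 1, 0; 0, 0, 1]

/-- explicit matrix over `ZMod 3` -/
def a10p2 : M6 :=
  fromBlocks (!![0, 0, 0; 2, 1, 1; 0, 0, 0] : M3) !![1, 1, 0; 1, 2, 2; 0, 2, 1] !![2, 0, 0; 0, 0, 0; 0, 0, 2] !![0, 1, 1; 0, 1, 0; 1, 0, 2]

/-- explicit matrix over `ZMod 3` -/
def a10p4 : M6 :=
  fromBlocks (!![2, 0, 0; 1, 1, 2; 0, 0, 2] : M3) !![0, 2, 1; 2, 0, 2; 1, 2, 2] !![0, 0, 2; 0, 0, 0; 2, 0, 1] !![0, 0, 2; 0, 1, 0; 2, 2, 1]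

/-- explicit matrix over `ZMod 3` -/
def a10p5 : M6 :=
  fromBlocks (!![2, 0, 0; 1, 1, 2; 0, 0, 2] : M3) !![0, 0, 0; 0, 0, 0; 0, 0, 0] !![0, 0, 0; 0, 0, 0; 0, 0, 0] !![2, 1, 0; 0, 1, 0; 0, 2, 2]

theorem a10_mul2 : a10 * a10 = a10p2 :=
  fb_mul _ _ _ _ _ _ _ _ _ _ _ _ (by decide) (by decide) (by decide) (by decide)

theorem a10_mul4 : a10p2 * a10p2 = a10p4 :=
  fb_mul _ _ _ _ _ _ _ _ _ _ _ _ (by decide) (by decide) (by decide) (by decide)

theorem a10_mul5 : a10p4 * a10 = a10p5 :=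
  fb_mul _ _ _ _ _ _ _ _ _ _ _ _ (by decide) (by decide) (by decide) (by decide)

/-- explicit matrix over `ZMod 3` -/
def a14 : M6 :=
  fromBlocks (!![2, 0, 2; 0, 1, 1; 2, 2, 2] : M3) !![0, 1, 1; 1, 1, 0; 1, 0, 1] !![2, 1, 0; 1, 2, 1; 0, 1, 1] !![1, 0, 0; 0, 1, 0; 0, 0, 1]

/-- explicit matrix over `ZMod 3` -/
def a14p2 : M6 :=
  fromBlocks (!![0, 1, 1; 2, 0, 1; 1, 2, 2] : M3) !![2, 0, 2; 0, 2, 1; 2, 1, 2] !![0, 2, 2; 2, 0, 1; 2, 1, 1] !![2, 0, 2; 0, 1, 2; 2, 1, 2]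

/-- explicit matrix over `ZMod 3` -/
def a14p4 : M6 :=
  fromBlocks (!![1, 2, 0; 1, 2, 1; 0, 2, 2] : M3) !![1, 2, 2; 2, 1, 0; 2, 0, 0] !![1, 1, 0; 1, 0, 1; 0, 1, 0] !![0, 2, 2; 1, 1, 0; 2, 0, 2]

/-- explicit matrix over `ZMod 3` -/
def a14p6 : M6 :=
  fromBlocks (!![0, 2, 0; 1, 1, 1; 0, 2, 1] : M3) !![2, 2, 2; 2, 0, 0; 2, 0, 1] !![1, 0, 0; 0, 2, 0; 0, 0, 1] !![0, 0, 2; 0, 2, 2; 2, 1, 0]

/-- explicit matrix over `ZMod 3` -/
def a14p7 : M6 :=
  fromBlocks (!![0, 1, 0; 2, 2, 2; 0, 1, 2] : M3) !![1, 1, 2; 1, 2, 2; 2, 2, 2] !![2, 2, 1; 2, 2, 0; 1, 0, 0] !![0, 1, 0; 2, 1, 2; 0, 1, 1]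

theorem a14_mul2 : a14 * a14 = a14p2 :=
  fb_mul _ _ _ _ _ _ _ _ _ _ _ _ (by decide) (by decide) (by decide) (by decide)

theorem a14_mul4 : a14p2 * a14p2 = a14p4 :=
  fb_mul _ _ _ _ _ _ _ _ _ _ _ _ (by decide) (by decide) (by decide) (by decide)

theorem a14_mul6 : a14p4 * a14p2 = a14p6 :=
  fb_mul _ _ _ _ _ _ _ _ _ _ _ _ (by decide) (by decide) (by decide) (by decide)

theorem a14_mul7 : a14p6 * a14 = a14p7 :=
  fb_mul _ _ _ _ _ _ _ _ _ _ _ _ (by decide) (by decide) (by decide) (by decide)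


theorem fb_neg_one : (fromBlocks (-1 : M3) 0 0 (-1) : M6) = -1 := by
  rw [← fromBlocks_one, fromBlocks_neg]
  simp

theorem a6_mul6 : a6p3 * a6p3 = 1 := by
  rw [← fromBlocks_one]
  exact fb_mul _ _ _ _ _ _ _ _ _ _ _ _ (by decide) (by decide) (by decide) (by decide)

theorem a10_mul10 : a10p5 * a10p5 = 1 := by
  rw [← fromBlocks_one]
  exact fb_mul _ _ _ _ _ _ _ _ _ _ _ _ (by decide) (by decide) (by decide) (by decide)

theorem a14_mul14 : a14p7 * a14p7 = -1 := by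
  rw [← fb_neg_one]
  exact fb_mul _ _ _ _ _ _ _ _ _ _ _ _ (by decide) (by decide) (by decide) (by decide)

theorem a6p2_entry : a6p2 (Sum.inl 0) (Sum.inl 2) ≠ 0 := by
  decide

theorem a6p3_entry : a6p3 (Sum.inl 0) (Sum.inl 2) ≠ 0 := by
  decide

theorem a10p2_entry : a10p2 (Sum.inl 0) (Sum.inr 0) ≠ 0 := by
  decide

theorem a10p5_entry : a10p5 (Sum.inl 1) (Sum.inl 0) ≠ 0 := by
  decide

theorem a14p2_entry : a14p2 (Sum.inl 0) (Sum.inl 1) ≠ 0 := by
  decide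

theorem a14p7_entry : a14p7 (Sum.inl 0) (Sum.inl 1) ≠ 0 := by
  decide

theorem a6_mem : a6 ∈ symplecticGroup (Fin 3) (ZMod 3) := by
  rw [a6, SymplecticGroup.fromBlocks_mem_iff]
  exact ⟨by decide, by decide, by decide⟩

theorem a10_mem : a10 ∈ symplecticGroup (Fin 3) (ZMod 3) := by
  rw [a10, SymplecticGroup.fromBlocks_mem_iff]
  exact ⟨by decide, by decide, by decide⟩

theorem a14_mem : a14 ∈ symplecticGroup (Fin 3) (ZMod 3) := by
  rw [a14, SymplecticGroup.fromBlocks_mem_iff]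
  exact ⟨by decide, by decide, by decide⟩

/-- the explicit element of order `6` -/
def g6 : symplecticGroup (Fin 3) (ZMod 3) := ⟨a6, a6_mem⟩
/-- the explicit element of order `10` -/
def g10 : symplecticGroup (Fin 3) (ZMod 3) := ⟨a10, a10_mem⟩
/-- the explicit element of order `28` (order `14` modulo the centre) -/
def g14 : symplecticGroup (Fin 3) (ZMod 3) := ⟨a14, a14_mem⟩

theorem ne_scalars (g : symplecticGroup (Fin 3) (ZMod 3)) (M : M6) (hg : (g : M6) = M)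
    (i j : Fin 3 ⊕ Fin 3) (hij : i ≠ j) (h : M i j ≠ 0) : g ≠ 1 ∧ g ≠ negOne (ZMod 3) := by
  constructor
  · intro e
    apply h
    rw [← hg, e]
    exact Matrix.one_apply_ne hij
  · intro e
    apply h
    rw [← hg, e]
    show (-1 : M6) i j = 0
    rw [Matrix.neg_apply, Matrix.one_apply_ne hij, neg_zero]

theorem prime_dvd_two_mul {p q : ℕ} (hp : p.Prime) (hq : q.Prime) (h : p ∣ 2 * q) :
    p = 2 ∨ p = q := by
  rcases (Nat.Prime.dvd_mul hp).1 h with h1 | h1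
  · exact Or.inl ((Nat.prime_dvd_prime_iff_eq hp Nat.prime_two).1 h1)
  · exact Or.inr ((Nat.prime_dvd_prime_iff_eq hp hq).1 h1)

theorem g6_pow2 : ((g6 ^ 2 : symplecticGroup (Fin 3) (ZMod 3)) : M6) = a6p2 := by
  rw [pow_two, Submonoid.coe_mul]
  exact a6_mul2

theorem g6_pow3 : ((g6 ^ 3 : symplecticGroup (Fin 3) (ZMod 3)) : M6) = a6p3 := by
  rw [pow_succ, Submonoid.coe_mul, g6_pow2]
  exact a6_mul3

theorem g6_pow6 : g6 ^ 6 = 1 := by
  apply Subtype.ext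
  rw [show 6 = 3 * 2 from rfl, pow_mul, pow_two, Submonoid.coe_mul, g6_pow3, Submonoid.coe_one]
  exact a6_mul6

theorem g10_pow2 : ((g10 ^ 2 : symplecticGroup (Fin 3) (ZMod 3)) : M6) = a10p2 := by
  rw [pow_two, Submonoid.coe_mul]
  exact a10_mul2

theorem g10_pow4 : ((g10 ^ 4 : symplecticGroup (Fin 3) (ZMod 3)) : M6) = a10p4 := by
  rw [show 4 = 2 * 2 from rfl, pow_mul, pow_two (g10 ^ 2), Submonoid.coe_mul, g10_pow2]
  exact a10_mul4

theorem g10_pow5 : ((g10 ^ 5 : symplecticGroup (Fin 3) (ZMod 3)) : M6) = a10p5 := by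
  rw [pow_succ, Submonoid.coe_mul, g10_pow4]
  exact a10_mul5

theorem g10_pow10 : g10 ^ 10 = 1 := by
  apply Subtype.ext
  rw [show 10 = 5 * 2 from rfl, pow_mul, pow_two, Submonoid.coe_mul, g10_pow5, Submonoid.coe_one]
  exact a10_mul10

theorem g14_pow2 : ((g14 ^ 2 : symplecticGroup (Fin 3) (ZMod 3)) : M6) = a14p2 := by
  rw [pow_two, Submonoid.coe_mul]
  exact a14_mul2

theorem g14_pow4 : ((g14 ^ 4 : symplecticGroup (Fin 3) (ZMod 3)) : M6) = a14p4 := by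
  rw [show 4 = 2 * 2 from rfl, pow_mul, pow_two (g14 ^ 2), Submonoid.coe_mul, g14_pow2]
  exact a14_mul4

theorem g14_pow6 : ((g14 ^ 6 : symplecticGroup (Fin 3) (ZMod 3)) : M6) = a14p6 := by
  rw [show 6 = 4 + 2 from rfl, pow_add, Submonoid.coe_mul, g14_pow4, g14_pow2]
  exact a14_mul6

theorem g14_pow7 : ((g14 ^ 7 : symplecticGroup (Fin 3) (ZMod 3)) : M6) = a14p7 := by
  rw [pow_succ, Submonoid.coe_mul, g14_pow6]
  exact a14_mul7

theorem g14_pow14 : g14 ^ 14 = negOne (ZMod 3) := by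
  apply Subtype.ext
  rw [show 14 = 7 * 2 from rfl, pow_mul, pow_two, Submonoid.coe_mul, g14_pow7]
  exact a14_mul14

/-- S63-PC -/
theorem psp_even {F : Type*} [Field F] [Fintype F] (hF : Fintype.card F = 3) :
    (∃ g : Cfsg.PSp 3 F, orderOf g = 6) ∧ (∃ g : Cfsg.PSp 3 F, orderOf g = 10) ∧
    (∃ g : Cfsg.PSp 3 F, orderOf g = 14) := by
  refine ⟨?_, ?_, ?_⟩
  · refine orderOf_mk_eq hF g6 6 (by norm_num) (Or.inl g6_pow6) ?_
    intro p hp hpn
    rcases prime_dvd_two_mul hp Nat.prime_three hpn with rfl | rfl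
    · exact ne_scalars _ _ g6_pow3 _ _ (by decide) a6p3_entry
    · exact ne_scalars _ _ g6_pow2 _ _ (by decide) a6p2_entry
  · refine orderOf_mk_eq hF g10 10 (by norm_num) (Or.inl g10_pow10) ?_
    intro p hp hpn
    rcases prime_dvd_two_mul hp Nat.prime_five hpn with rfl | rfl
    · exact ne_scalars _ _ g10_pow5 _ _ (by decide) a10p5_entry
    · exact ne_scalars _ _ g10_pow2 _ _ (by decide) a10p2_entry
  · refine orderOf_mk_eq hF g14 14 (by norm_num) (Or.inr g14_pow14) ?_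
    intro p hp hpn
    rcases prime_dvd_two_mul hp (by norm_num : Nat.Prime 7) hpn with rfl | rfl
    · exact ne_scalars _ _ g14_pow7 _ _ (by decide) a14p7_entry
    · exact ne_scalars _ _ g14_pow2 _ _ (by decide) a14p2_entry

end Cfsg.Agent.Lib.Helper10.S63
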