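import Mathlib
import Cfsg.Agent.Lib.Helper10.N5400MAINcore
import Cfsg.Agent.Lib.Helper9.N5400FIND

/-!
# Project S983 (S0983), row N5400: there is no simple group of order `5400 = 2^3 3^3 5^2`
(sub-project N5400: `Cfsg/Agent/Lib/Helper10/N5400/Skel.lean.txt`; pieces by helper1, helper9, helper15, helper19, helper25, helper28, helper29, helper10).
-/

set_option autoImplicit false
set_option linter.unusedVariables false
set_option linter.unusedSectionVars false

namespace Cfsg.Agent.Lib.Helper10.N5400

universe u

variable {G : Type u} [Group G] [Finite G]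

/-- MAIN: assembly. -/
theorem main5400 [IsSimpleGroup G] (hG : Nat.card G = 5400) : False :=
  n5400main_core hG (fun P hP hn hN => find_z P hP hn hN)

end Cfsg.Agent.Lib.Helper10.N5400

namespace Cfsg.Agent.Lib.helper3.S983

/-- N5400 [L]  `5400 = 2^3 3^3 5^2`. -/
theorem no_simple_5400 {G : Type*} [Group G] [Finite G] [IsSimpleGroup G] (hG : Nat.card G = 5400) : False :=
  Cfsg.Agent.Lib.Helper10.N5400.main5400 hG

end Cfsg.Agent.Lib.helper3.S983
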