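import Cfsg.Agent.Lib.helper7.SAP.Defs

/-!
# SAP PRES1 + PRES2 (helper10): `crt_exps`, `merged`, verbatim vs `helper7/SAP/Skel.lean.txt`.
Extra: `sappres2_pow_mod`.
-/

set_option autoImplicit false

namespace Cfsg.Agent.Lib.helper7.SAP

open Equiv

universe u

/-- PRES1 [S]: exponents for splitting `g = z τ` (`m ≡ 1 (3)`: `ez = m, et = 2m+1`; `m ≡ 2 (3)`:
`ez = 2m, et = m+1`). -/
theorem crt_exps (m : ℕ) (hm : 0 < m) (h3 : ¬ 3 ∣ m) :
    ∃ ez et : ℕ, ez % 3 = 1 ∧ m ∣ ez ∧ 3 ∣ et ∧ et % m = 1 % m ∧ (ez + et) % (3 * m) = 1 % (3 * m) := by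
  have hcases : m % 3 = 1 ∨ m % 3 = 2 := by omega
  rcases hcases with h | h
  · refine ⟨m, 2 * m + 1, h, dvd_rfl, by omega, ?_, ?_⟩
    · rw [Nat.add_mod, Nat.mul_mod_left, zero_add, Nat.mod_mod]
    · have : m + (2 * m + 1) = 1 + 3 * m := by ring
      rw [this, Nat.add_mod_right]
  · refine ⟨2 * m, m + 1, by omega, Dvd.intro_left 2 rfl, by omega, ?_, ?_⟩
    · rw [Nat.add_mod, Nat.mod_self, zero_add, Nat.mod_mod]
    · have : 2 * m + (m + 1) = 1 + 3 * m := by ring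
      rw [this, Nat.add_mod_right]

theorem sappres2_pow_mod {G : Type*} [Group G] (g : G) (n : ℕ) (hg : g ^ n = 1) (e : ℕ) :
    g ^ e = g ^ (e % n) := by
  conv_lhs => rw [← Nat.div_add_mod e n]
  rw [pow_add, pow_mul, hg, one_pow, one_mul]

/-- PRES2 [S]: the two commuting parts of `g`. -/
theorem merged {G : Type*} [Group G] (g : G) (m ez et : ℕ) (hg : g ^ (3 * m) = 1)
    (h1 : m ∣ ez) (h2 : 3 ∣ et) (h3 : (ez + et) % (3 * m) = 1 % (3 * m)) :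
    (g ^ ez) ^ 3 = 1 ∧ (g ^ et) ^ m = 1 ∧ g ^ et * g ^ ez = g ^ ez * g ^ et ∧ g ^ ez * g ^ et = g := by
  refine ⟨?_, ?_, ?_, ?_⟩
  · obtain ⟨c, rfl⟩ := h1
    rw [← pow_mul]
    have : m * c * 3 = 3 * m * c := by ring
    rw [this, pow_mul, hg, one_pow]
  · obtain ⟨c, rfl⟩ := h2
    rw [← pow_mul]
    have : 3 * c * m = 3 * m * c := by ring
    rw [this, pow_mul, hg, one_pow]
  · rw [← pow_add, ← pow_add, add_comm]
  · rw [← pow_add, sappres2_pow_mod g (3 * m) hg (ez + et), h3, ← sappres2_pow_mod g (3 * m) hg 1,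
      pow_one]

end Cfsg.Agent.Lib.helper7.SAP
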