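import Cfsg.Agent.Lib.helper7.SAP.Defs

/-!
# SAP SIX1 (helper10): `cyc4_carRel`, verbatim vs `helper7/SAP/Skel.lean.txt`.
Extras: `sapsix1_sym`, `sapsix1_shift`.
-/

set_option autoImplicit false

namespace Cfsg.Agent.Lib.helper7.SAP

open Equiv

universe u

theorem sapsix1_sym {G : Type*} [Group G] (p q : G) (h : (p * q) ^ 2 = 1) : (q * p) ^ 2 = 1 := by
  have h1 : (q * p) ^ 2 = p⁻¹ * (p * q) ^ 2 * p := by
    rw [pow_two, pow_two]; group
  rw [h1, h]; group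

theorem sapsix1_shift {G : Type*} [Group G] (a : G) (x : ZMod 4 → G) (ε : ℤ) (hε : ε = 1 ∨ ε = -1)
    (hx : ∀ i, a * x i * a⁻¹ = x (i + 1) ^ ε) (i j : ZMod 4) (h : (x i * x j) ^ 2 = 1) :
    (x (i + 1) * x (j + 1)) ^ 2 = 1 := by
  have h1 : (a * x i * a⁻¹ * (a * x j * a⁻¹)) ^ 2 = 1 := by
    have : (a * x i * a⁻¹ * (a * x j * a⁻¹)) ^ 2 = a * (x i * x j) ^ 2 * a⁻¹ := by
      rw [pow_two, pow_two]; group
    rw [this, h]; group
  rw [hx i, hx j] at h1
  rcases hε with rfl | rfl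
  · simpa using h1
  · simp only [zpow_neg, zpow_one] at h1
    have h2 : ((x (j + 1) * x (i + 1))⁻¹) ^ 2 = 1 := by
      rw [mul_inv_rev]; exact h1
    rw [inv_pow, inv_eq_one] at h2
    exact sapsix1_sym _ _ h2

theorem sapsix1_shift_nat {G : Type*} [Group G] (a : G) (x : ZMod 4 → G) (ε : ℤ) (hε : ε = 1 ∨ ε = -1)
    (hx : ∀ i, a * x i * a⁻¹ = x (i + 1) ^ ε) (i j : ZMod 4) (h : (x i * x j) ^ 2 = 1) (n : ℕ) :
    (x (i + (n : ZMod 4)) * x (j + (n : ZMod 4))) ^ 2 = 1 := by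
  induction n with
  | zero => simpa using h
  | succ n ih =>
    have := sapsix1_shift a x ε hε hx _ _ ih
    have e1 : i + ((n + 1 : ℕ) : ZMod 4) = i + (n : ZMod 4) + 1 := by push_cast; ring
    have e2 : j + ((n + 1 : ℕ) : ZMod 4) = j + (n : ZMod 4) + 1 := by push_cast; ring
    rw [e1, e2]; exact this

/-- SIX1 [M]: Carmichael's relations from a cyclic seed of order 4 (`ε = 1` or `-1`):
pairs `(0,1)`, `(0,2)` and conjugation by `a`. -/
theorem cyc4_carRel {G : Type*} [Group G] (a : G) (x : ZMod 4 → G) (ε : ℤ) (hε : ε = 1 ∨ ε = -1)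
    (hx : ∀ i, a * x i * a⁻¹ = x (i + 1) ^ ε) (h3 : ∀ i, x i ^ 3 = 1)
    (h01 : (x 0 * x 1) ^ 2 = 1) (h02 : (x 0 * x 2) ^ 2 = 1) : CarRel x := by
  refine ⟨h3, ?_⟩
  have hA : ∀ i : ZMod 4, (x i * x (i + 1)) ^ 2 = 1 := by
    intro i
    have := sapsix1_shift_nat a x ε hε hx 0 1 h01 i.val
    rw [ZMod.natCast_zmod_val] at this
    have e1 : (0 : ZMod 4) + i = i := zero_add i
    have e2 : (1 : ZMod 4) + i = i + 1 := add_comm _ _
    rwa [e1, e2] at this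
  have hB : ∀ i : ZMod 4, (x i * x (i + 2)) ^ 2 = 1 := by
    intro i
    have := sapsix1_shift_nat a x ε hε hx 0 2 h02 i.val
    rw [ZMod.natCast_zmod_val] at this
    have e1 : (0 : ZMod 4) + i = i := zero_add i
    have e2 : (2 : ZMod 4) + i = i + 2 := add_comm _ _
    rwa [e1, e2] at this
  intro i j hij
  have hd : j = i + 1 ∨ j = i + 2 ∨ i = j + 1 := by
    revert hij
    revert i j
    decide
  rcases hd with rfl | rfl | rfl
  · exact hA i
  · exact hB i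
  · exact sapsix1_sym _ _ (hA j)

end Cfsg.Agent.Lib.helper7.SAP
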