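import Cfsg.Agent.Lib.helper7.SAP.Defs

/-!
# SAP SM1 (helper10): `pres_cyclic`, verbatim vs `helper7/SAP/Skel.lean.txt`.
-/

set_option autoImplicit false

namespace Cfsg.Agent.Lib.helper7.SAP

open Equiv

universe u

/-- SM1 [S-M]: finite cyclic groups: `⟨x, y | x^n, y⟩`. -/
theorem pres_cyclic (G : Type*) [Group G] [Finite G] [IsCyclic G] :
    ∃ rels : Finset (FreeGroup (Fin 2)), rels.card ≤ 2 ∧
      Nonempty (PresentedGroup (↑rels : Set (FreeGroup (Fin 2))) ≃* G) := by
  classical
  obtain ⟨γ, hγ⟩ := IsCyclic.exists_generator (α := G)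
  set n : ℕ := Nat.card G with hn
  have hoγ : orderOf γ = n := orderOf_eq_card_of_forall_mem_zpowers hγ
  let r0 : FreeGroup (Fin 2) := FreeGroup.of 0 ^ n
  let r1 : FreeGroup (Fin 2) := FreeGroup.of 1
  let rels : Finset (FreeGroup (Fin 2)) := {r0, r1}
  refine ⟨rels, Finset.card_le_two, ?_⟩
  have hrels : ∀ r ∈ (↑rels : Set (FreeGroup (Fin 2))), FreeGroup.lift ![γ, 1] r = 1 := by
    intro r hr
    simp only [rels, Finset.coe_insert, Finset.coe_singleton, Set.mem_insert_iff,
      Set.mem_singleton_iff] at hr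
    rcases hr with rfl | rfl
    · simp only [r0, map_pow, FreeGroup.lift_apply_of, Matrix.cons_val_zero]
      rw [← hoγ]; exact pow_orderOf_eq_one γ
    · simp [r1]
  let φ : PresentedGroup (↑rels : Set (FreeGroup (Fin 2))) →* G := PresentedGroup.toGroup hrels
  have hx : (PresentedGroup.of 0 : PresentedGroup (↑rels : Set (FreeGroup (Fin 2)))) ^ n = 1 := by
    have : PresentedGroup.mk (↑rels : Set (FreeGroup (Fin 2))) r0 = 1 :=
      PresentedGroup.one_of_mem (by simp [rels])
    have h2 : PresentedGroup.mk (↑rels : Set (FreeGroup (Fin 2))) r0 =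
        (PresentedGroup.of 0 : PresentedGroup (↑rels : Set (FreeGroup (Fin 2)))) ^ n := by
      simp only [r0, map_pow]; rfl
    rw [← h2]; exact this
  have hy : (PresentedGroup.of 1 : PresentedGroup (↑rels : Set (FreeGroup (Fin 2)))) = 1 := by
    have : PresentedGroup.mk (↑rels : Set (FreeGroup (Fin 2))) r1 = 1 :=
      PresentedGroup.one_of_mem (by simp [rels])
    exact this
  have hdvd : orderOf (PresentedGroup.of 0 : PresentedGroup (↑rels : Set (FreeGroup (Fin 2)))) ∣
      orderOf γ := by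
    rw [hoγ]; exact orderOf_dvd_of_pow_eq_one hx
  let ψ : G →* PresentedGroup (↑rels : Set (FreeGroup (Fin 2))) :=
    monoidHomOfForallMemZpowers hγ hdvd
  have hψγ : ψ γ = PresentedGroup.of 0 := monoidHomOfForallMemZpowers_apply_gen hγ hdvd
  have hφ0 : φ (PresentedGroup.of 0) = γ := by
    simp [φ, PresentedGroup.toGroup.of]
  have hφ1 : φ (PresentedGroup.of 1) = 1 := by
    simp [φ, PresentedGroup.toGroup.of]
  have h1 : ψ.comp φ = MonoidHom.id _ := by
    apply PresentedGroup.ext
    intro i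
    fin_cases i
    · show ψ (φ (PresentedGroup.of 0)) = PresentedGroup.of 0
      rw [hφ0, hψγ]
    · show ψ (φ (PresentedGroup.of 1)) = PresentedGroup.of 1
      rw [hφ1, map_one, hy]
  have h2 : ∀ g : G, φ (ψ g) = g := by
    intro g
    obtain ⟨k, rfl⟩ := Subgroup.mem_zpowers_iff.mp (hγ g)
    rw [map_zpow, map_zpow, hψγ, hφ0]
  exact ⟨{ toFun := φ
           invFun := ψ
           left_inv := fun x => DFunLike.congr_fun h1 x
           right_inv := h2
           map_mul' := map_mul φ }⟩

end Cfsg.Agent.Lib.helper7.SAP
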