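import Cfsg.Agent.Lib.helper7.SAP.Defs

/-!
# SAP TR1 (helper10): `iso_of_card`, verbatim vs `helper7/SAP/Skel.lean.txt`.
-/

set_option autoImplicit false

namespace Cfsg.Agent.Lib.helper7.SAP

open Equiv

universe u

/-- TR1 [S]: a surjective homomorphism from a group of at most the same (finite) order is an
isomorphism (`Function.Surjective.bijective_of_nat_card_le`). -/
theorem iso_of_card {G : Type*} {P : Type*} [Group G] [Group P] [Finite G] (f : G →* P)
    (hf : Function.Surjective f) (hc : Nat.card G ≤ Nat.card P) : Function.Bijective f :=
  Function.Surjective.bijective_of_nat_card_le hf hc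

end Cfsg.Agent.Lib.helper7.SAP
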