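import Cfsg.Agent.Lib.helper7.SAP.Defs

/-!
# SAP TR2 (helper10): `index_two_bound`, verbatim vs `helper7/SAP/Skel.lean.txt`.
Extra: `saptr2_cover` (every element is `n` or `t * n`).
-/

set_option autoImplicit false

namespace Cfsg.Agent.Lib.helper7.SAP

open Equiv

universe u

theorem saptr2_conj_inv {G : Type*} [Group G] (N : Subgroup G) (t : G)
    (hn : ∀ x ∈ N, t * x * t⁻¹ ∈ N) (ht : t ^ 2 ∈ N) (x : G) (hx : x ∈ N) : t⁻¹ * x * t ∈ N := by
  have h1 : t * x * t⁻¹ ∈ N := hn x hx
  have h2 : (t ^ 2)⁻¹ * (t * x * t⁻¹) * t ^ 2 ∈ N := N.mul_mem (N.mul_mem (N.inv_mem ht) h1) ht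
  have h3 : (t ^ 2)⁻¹ * (t * x * t⁻¹) * t ^ 2 = t⁻¹ * x * t := by
    rw [pow_two]; group
  rwa [h3] at h2

theorem saptr2_cover {G : Type*} [Group G] (N : Subgroup G) (t : G)
    (hn : ∀ x ∈ N, t * x * t⁻¹ ∈ N) (ht : t ^ 2 ∈ N) (hgen : N ⊔ Subgroup.zpowers t = ⊤) (g : G) :
    g ∈ N ∨ t⁻¹ * g ∈ N := by
  have hci := saptr2_conj_inv N t hn ht
  let K : Subgroup G :=
    { carrier := {g | g ∈ N ∨ t⁻¹ * g ∈ N}
      one_mem' := Or.inl N.one_mem
      mul_mem' := by
        rintro a b (ha | ha) (hb | hb)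
        · exact Or.inl (N.mul_mem ha hb)
        · right
          have : t⁻¹ * (a * b) = (t⁻¹ * a * t) * (t⁻¹ * b) := by group
          rw [this]
          exact N.mul_mem (hci a ha) hb
        · right
          have : t⁻¹ * (a * b) = (t⁻¹ * a) * b := by group
          rw [this]
          exact N.mul_mem ha hb
        · left
          have : a * b = t ^ 2 * (t⁻¹ * (t⁻¹ * a) * t) * (t⁻¹ * b) := by
            rw [pow_two]; group
          rw [this]
          exact N.mul_mem (N.mul_mem ht (hci _ ha)) hb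
      inv_mem' := by
        rintro a (ha | ha)
        · exact Or.inl (N.inv_mem ha)
        · right
          have : t⁻¹ * a⁻¹ = (t⁻¹ * (t⁻¹ * a)⁻¹ * t) * (t ^ 2)⁻¹ := by
            rw [pow_two]; group
          rw [this]
          exact N.mul_mem (hci _ (N.inv_mem ha)) (N.inv_mem ht) }
  have hN : N ≤ K := fun x hx => Or.inl hx
  have htK : Subgroup.zpowers t ≤ K := by
    rw [Subgroup.zpowers_le]
    exact Or.inr (by simp)
  have hK : K = ⊤ := top_unique (hgen ▸ sup_le hN htK)
  have : g ∈ K := hK ▸ Subgroup.mem_top g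
  exact this

/-- TR2 [S-M]: a subgroup normalised by `t` with `t^2` inside and generating with `t` has index at
most 2. -/
theorem index_two_bound {G : Type*} [Group G] (N : Subgroup G) [Finite N] (t : G)
    (hn : ∀ x ∈ N, t * x * t⁻¹ ∈ N) (ht : t ^ 2 ∈ N) (hgen : N ⊔ Subgroup.zpowers t = ⊤) :
    Finite G ∧ Nat.card G ≤ 2 * Nat.card N := by
  classical
  let f : Bool × N → G := fun x => if x.1 then t * (x.2 : G) else (x.2 : G)
  have hf : Function.Surjective f := by
    intro g
    rcases saptr2_cover N t hn ht hgen g with h | h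
    · exact ⟨(false, ⟨g, h⟩), by simp [f]⟩
    · exact ⟨(true, ⟨t⁻¹ * g, h⟩), by simp [f]⟩
  have hfin : Finite G := Finite.of_surjective f hf
  refine ⟨hfin, ?_⟩
  have h1 : Nat.card G ≤ Nat.card (Bool × N) := Nat.card_le_card_of_surjective f hf
  have h2 : Nat.card (Bool × N) = 2 * Nat.card N := by
    rw [Nat.card_prod]; simp
  omega

end Cfsg.Agent.Lib.helper7.SAP
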