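import Cfsg.Agent.Lib.helper7.SAP.Defs
import Cfsg.Agent.Lib.Helper21.SAPTietze

/-!
# SAP TR3 (helper10): `tietze`, verbatim vs `helper7/SAP/Skel.lean.txt`
(= `Helper21.SAPT.change_gens_pair` with `m = 2`).
-/

set_option autoImplicit false

namespace Cfsg.Agent.Lib.helper7.SAP

open Equiv

universe u

/-- TR3 [M]: Tietze: change of generating pair costs two relators.  (Words `u₀ u₁` in `a, b` for the
old generators `x₀ x₁`, words `w_a w_b` in the old generators for `a, b`;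
`σ = FreeGroup.lift ![u₀, u₁]`; new relators `σ r` (`r ∈ rels₀`), `(of 0)⁻¹ * σ w_a`, `(of 1)⁻¹ * σ w_b`.) -/
theorem tietze {G : Type*} [Group G] (rels₀ : Finset (FreeGroup (Fin 2)))
    (e₀ : PresentedGroup (↑rels₀ : Set (FreeGroup (Fin 2))) ≃* G) (a b : G)
    (hab : Subgroup.closure ({a, b} : Set G) = ⊤) :
    ∃ rels : Finset (FreeGroup (Fin 2)), rels.card ≤ rels₀.card + 2 ∧
      ∃ e : PresentedGroup (↑rels : Set (FreeGroup (Fin 2))) ≃* G,
        e (PresentedGroup.of 0) = a ∧ e (PresentedGroup.of 1) = b :=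
  Cfsg.Agent.Lib.Helper21.SAPT.change_gens_pair rels₀ e₀ a b hab

end Cfsg.Agent.Lib.helper7.SAP
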