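import Cfsg.Agent.Lib.helper7.SAP.Defs

/-!
# SAP TR4 (helper10): `card_Pt`, verbatim vs `helper7/SAP/Skel.lean.txt`.
-/

set_option autoImplicit false

namespace Cfsg.Agent.Lib.helper7.SAP

open Equiv

universe u

/-- TR4 [S] -/
theorem card_Pt (p k : ℕ) [NeZero p] : Nonempty (Pt p k ≃ Fin (p + 2 + k)) := by
  classical
  refine ⟨Fintype.equivFinOfCardEq ?_⟩
  simp [Pt, Fintype.card_sum, ZMod.card]

end Cfsg.Agent.Lib.helper7.SAP
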