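import Cfsg.Agent.Lib.helper7.SAP.Defs

/-!
# SAP TR5 (helper10): `exists_word`, verbatim vs `helper7/SAP/Skel.lean.txt`.
-/

set_option autoImplicit false

namespace Cfsg.Agent.Lib.helper7.SAP

open Equiv

universe u

/-- TR5 [S]: words for elements of a generated subgroup (`MonoidHom.map_closure`). -/
theorem exists_word {F : Type*} {P : Type*} [Group F] [Group P] (f : F →* P) {ι : Type*} (X : ι → F)
    (q : P) (hq : q ∈ Subgroup.closure (Set.range fun i => f (X i))) :
    ∃ w ∈ Subgroup.closure (Set.range X), f w = q := by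
  have h : Subgroup.map f (Subgroup.closure (Set.range X)) =
      Subgroup.closure (Set.range fun i => f (X i)) := by
    rw [MonoidHom.map_closure]
    congr 1
    ext y
    simp only [Set.mem_image, Set.mem_range]
    constructor
    · rintro ⟨x, ⟨i, rfl⟩, rfl⟩
      exact ⟨i, rfl⟩
    · rintro ⟨i, rfl⟩
      exact ⟨X i, ⟨i, rfl⟩, rfl⟩
  rw [← h] at hq
  obtain ⟨w, hw, rfl⟩ := hq
  exact ⟨w, hw, rfl⟩

end Cfsg.Agent.Lib.helper7.SAP
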