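import Mathlib
import Cfsg.Agent.Lib.Helper18.SDM.Defs2

/-!
# Project SDM (designer helper18), ROW B3: the torus `TQ`, products of permutation elements, the simple
reflections `sQ k`.  Self-contained (no other row is cited); extra lemmas are prefixed `sdmb3_`.
-/

set_option autoImplicit false
set_option linter.unusedSectionVars false
set_option linter.unusedVariables false

namespace Cfsg.Agent.Lib.Helper18.QBN

open Cfsg.Agent.Lib.helper14.UBN QuadraticMap

universe u v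

variable {F : Type u} [Field F] {W : Type v} [AddCommGroup W] [Module F W] {n : ℕ}

theorem sdmb3_xv_ne_zero (j : Fin n) : (xv W j : QV F n W) ≠ 0 := by
  intro h
  have h1 : (xv W j : QV F n W).1 j = (0 : QV F n W).1 j := by rw [h]
  rw [xv_fst, if_pos rfl] at h1
  exact one_ne_zero h1

theorem sdmb3_smul_xv_eq {c c' : F} {i i' : Fin n} (hc : c ≠ 0)
    (h : (c • xv W i : QV F n W) = c' • xv W i') : i = i' := by
  have h1 : (c • xv W i : QV F n W).1 i = (c' • xv W i' : QV F n W).1 i := by rw [h]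
  rw [Prod.smul_fst, Pi.smul_apply, Prod.smul_fst, Pi.smul_apply, xv_fst, xv_fst, if_pos rfl,
    smul_eq_mul, smul_eq_mul, mul_one] at h1
  by_contra hne
  rw [if_neg hne, mul_zero] at h1
  exact hc h1

theorem sdmb3_le_ne_zero {Q₀ : QuadraticForm F W} (g : GQ n Q₀) {v : QV F n W} (hv : v ≠ 0) :
    le g v ≠ 0 := by
  intro h
  apply hv
  have := le_inv_apply' g v
  rw [h, map_zero] at this
  exact this.symm

theorem sdmb3_xv_mem_Vfl (i : Fin n) (j : ℕ) (h : rk i < j) : (xv W i : QV F n W) ∈ Vfl F n W j := by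
  rw [mem_Vfl]
  refine ⟨rfl, fun i' hi' => ?_⟩
  rw [xv_fst, if_neg]
  intro e
  rw [e] at hi'
  omega

theorem sdmb3_smul_xv_mem_Vfl {c : F} {i : Fin n} {j : ℕ} (hc : c ≠ 0)
    (h : (c • xv W i : QV F n W) ∈ Vfl F n W j) : rk i < j := by
  rw [mem_Vfl] at h
  by_contra hlt
  have h1 := h.2 i (by omega)
  rw [Prod.smul_fst, Pi.smul_apply, xv_fst, if_pos rfl, smul_eq_mul, mul_one] at h1
  exact hc h1

/-- an isometry which is diagonal on the frame is upper triangular -/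
theorem sdmb3_isUpQ_of_diag {Q₀ : QuadraticForm F W} (g : GQ n Q₀) (h : IsPermOf g 1) : IsUpQ g := by
  intro j hj v hv
  rw [mem_Vfl] at hv
  have hdec := decomp v
  rw [hv.1] at hdec
  have hw0 : (wv F n (0 : W) : QV F n W) = 0 := rfl
  rw [hw0, add_zero] at hdec
  rw [hdec, map_sum]
  apply Submodule.sum_mem
  intro i _
  rw [map_smul]
  by_cases hi : rk i < j
  · obtain ⟨c, hc⟩ := h i
    rw [hc, Equiv.Perm.one_apply]
    exact Submodule.smul_mem _ _ (Submodule.smul_mem _ _ (sdmb3_xv_mem_Vfl i j hi))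
  · rw [hv.2 i (by omega), zero_smul]
    exact Submodule.zero_mem _

theorem sdmb3_diag_inv {Q₀ : QuadraticForm F W} (g : GQ n Q₀) (h : IsPermOf g 1) :
    IsPermOf g⁻¹ 1 := by
  intro j
  obtain ⟨c, hc⟩ := h j
  rw [Equiv.Perm.one_apply] at hc
  rw [Equiv.Perm.one_apply]
  have hc0 : c ≠ 0 := by
    intro e
    rw [e, zero_smul] at hc
    exact sdmb3_le_ne_zero g (sdmb3_xv_ne_zero j) hc
  refine ⟨c⁻¹, ?_⟩
  have h1 := le_inv_apply' g (xv W j)
  rw [hc, map_smul] at h1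
  calc le g⁻¹ (xv W j) = c⁻¹ • (c • le g⁻¹ (xv W j)) := by
        rw [smul_smul, inv_mul_cancel₀ hc0, one_smul]
    _ = c⁻¹ • xv W j := by rw [h1]

theorem sdmb3_isMonoQ_of_diag {Q₀ : QuadraticForm F W} (g : GQ n Q₀) (h : IsPermOf g 1) :
    IsMonoQ g := by
  intro j
  obtain ⟨c, hc⟩ := h j
  exact ⟨j, c, hc⟩

/-- [ROW B3] the torus -/
theorem mem_TQ_iff (hn : Even n) {Q₀ : QuadraticForm F W} (g : GQ n Q₀) :
    g ∈ TQ n Q₀ ↔ IsPermOf g 1 := by
  constructor
  · rintro ⟨⟨hup, hup'⟩, ⟨hmo, hmo'⟩⟩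
    -- the lower half
    have hlow : ∀ j : Fin n, rk j < n / 2 → ∃ c : F, le g (xv W j) = c • xv W j := by
      intro j hj
      obtain ⟨i, c, hc⟩ := hmo j
      have hc0 : c ≠ 0 := by
        intro e
        rw [e, zero_smul] at hc
        exact sdmb3_le_ne_zero g (sdmb3_xv_ne_zero j) hc
      have h1 : rk i < rk j + 1 := by
        apply sdmb3_smul_xv_mem_Vfl (W := W) (c := c) hc0
        rw [← hc]
        exact hup (rk j + 1) (by omega) _ (sdmb3_xv_mem_Vfl j _ (by omega))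
      have h2 : le g⁻¹ (xv W i) = c⁻¹ • xv W j := by
        have h3 := le_inv_apply' g (xv W j)
        rw [hc, map_smul] at h3
        calc le g⁻¹ (xv W i) = c⁻¹ • (c • le g⁻¹ (xv W i)) := by
              rw [smul_smul, inv_mul_cancel₀ hc0, one_smul]
          _ = c⁻¹ • xv W j := by rw [h3]
      have h4 : rk j < rk i + 1 := by
        apply sdmb3_smul_xv_mem_Vfl (W := W) (c := c⁻¹) (inv_ne_zero hc0)
        rw [← h2]
        exact hup' (rk i + 1) (by omega) _ (sdmb3_xv_mem_Vfl i _ (by omega))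
      have hij : i = j := rk_injective (by omega)
      rw [hij] at hc
      exact ⟨c, hc⟩
    intro j
    rw [Equiv.Perm.one_apply]
    by_cases hj : rk j < n / 2
    · exact hlow j hj
    · have hrv : rk (rv j) < n / 2 := by
        have h1 := rk_add_rv j
        have h2 := rk_lt j
        obtain ⟨m, hm⟩ := hn
        omega
      obtain ⟨c', hc'⟩ := hlow (rv j) hrv
      obtain ⟨i, c, hc⟩ := hmo j
      have h1 := le_polar g (xv W j) (xv W (rv j))
      rw [polar_xv hn, rv_rv, xv_fst, if_pos rfl, hc, hc', polar_smul_left, polar_smul_right,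
        polar_xv hn, rv_rv, xv_fst] at h1
      by_cases hji : j = i
      · rw [← hji] at hc
        exact ⟨c, hc⟩
      · rw [if_neg hji] at h1
        simp at h1
  · intro h
    have h' := sdmb3_diag_inv g h
    exact ⟨⟨sdmb3_isUpQ_of_diag g h, sdmb3_isUpQ_of_diag g⁻¹ h'⟩,
      ⟨sdmb3_isMonoQ_of_diag g h, sdmb3_isMonoQ_of_diag g⁻¹ h'⟩⟩

theorem sdmb3_permG_congr (hn : Even n) (Q₀ : QuadraticForm F W) {π ρ : Equiv.Perm (Fin n)}
    (hπ : RvC π) (hρ : RvC ρ) (h : π = ρ) : permG hn Q₀ π hπ = permG hn Q₀ ρ hρ := by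
  subst h
  rfl

/-- [ROW B3] -/
theorem permG_mul (hn : Even n) (Q₀ : QuadraticForm F W) (π ρ : Equiv.Perm (Fin n)) (hπ : RvC π)
    (hρ : RvC ρ) : permG hn Q₀ π hπ * permG hn Q₀ ρ hρ = permG hn Q₀ (π * ρ) (RvC_mul hπ hρ) := by
  apply GQ_ext
  intro v
  rw [le_mul]
  apply Prod.ext
  · funext i
    rw [permG_fst, permG_fst, permG_fst]
    rfl
  · rw [permG_snd, permG_snd, permG_snd]

/-- [ROW B3] -/
theorem permG_one (hn : Even n) (Q₀ : QuadraticForm F W) : permG hn Q₀ 1 RvC_one = 1 := by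
  apply GQ_ext
  intro v
  rw [le_one]
  apply Prod.ext
  · funext i
    rw [permG_fst]
    rfl
  · rw [permG_snd]

/-- [ROW B3] -/
theorem sQ_mul_self (hn : Even n) (Q₀ : QuadraticForm F W) (k : Fin (n / 2)) :
    sQ hn Q₀ k * sQ hn Q₀ k = 1 := by
  unfold sQ
  rw [permG_mul, sdmb3_permG_congr hn Q₀ (RvC_mul (RvC_tauS k) (RvC_tauS k)) RvC_one (tauS_mul_self k),
    permG_one]

/-- [ROW B3] -/
theorem sQ_inv (hn : Even n) (Q₀ : QuadraticForm F W) (k : Fin (n / 2)) :
    (sQ hn Q₀ k)⁻¹ = sQ hn Q₀ k :=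
  inv_eq_of_mul_eq_one_right (sQ_mul_self hn Q₀ k)

/-- [ROW B3] -/
theorem sQ_mem_NQ (hn : Even n) (Q₀ : QuadraticForm F W) (k : Fin (n / 2)) :
    sQ hn Q₀ k ∈ NQ n Q₀ := by
  have h : IsMonoQ (sQ hn Q₀ k) := by
    intro j
    refine ⟨tauS k j, 1, ?_⟩
    rw [one_smul]
    exact permG_xv hn Q₀ (tauS k) (RvC_tauS k) j
  refine ⟨h, ?_⟩
  rw [sQ_inv]
  exact h

end Cfsg.Agent.Lib.Helper18.QBN
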