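import Mathlib
import Cfsg.Agent.Lib.Helper18.SDM.Defs3
import Cfsg.Agent.Lib.Helper10.SDMB3

/-!
# Project SDM (designer helper18), ROW D3: in odd characteristic `p` the torus `TQ` has no nontrivial `p`-elements.
Uses `mem_TQ_iff` (row B3); extra lemmas are prefixed `sdmd3_`.
-/

set_option autoImplicit false
set_option linter.unusedSectionVars false
set_option linter.unusedVariables false
set_option linter.unusedSimpArgs false

namespace Cfsg.Agent.Lib.Helper18.QBN

open Cfsg.Agent.Lib.helper14.UBN QuadraticMap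

universe u v

variable {F : Type u} [Field F] {W : Type v} [AddCommGroup W] [Module F W] {n : ℕ}

/-- the underlying endomorphism -/
noncomputable def sdmd3_end {Q₀ : QuadraticForm F W} (t : GQ n Q₀) : Module.End F (QV F n W) :=
  ((le t : QV F n W ≃ₗ[F] QV F n W) : QV F n W →ₗ[F] QV F n W)

theorem sdmd3_end_apply {Q₀ : QuadraticForm F W} (t : GQ n Q₀) (v : QV F n W) :
    sdmd3_end t v = le t v := rfl

theorem sdmd3_pow_apply {Q₀ : QuadraticForm F W} (t : GQ n Q₀) (j : ℕ) (v : QV F n W) :
    le (t ^ j) v = (sdmd3_end t ^ j) v := by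
  induction j generalizing v with
  | zero => rw [pow_zero, pow_zero, le_one]; rfl
  | succ j ih =>
    rw [pow_succ', pow_succ', le_mul, Module.End.mul_apply, ih, sdmd3_end_apply]

theorem sdmd3_scalar {p : ℕ} [Fact p.Prime] [CharP F p] (c : F) (k : ℕ) (h : c ^ (p ^ k) = 1) :
    c = 1 := by
  have h1 : (c - 1) ^ (p ^ k) = 0 := by
    rw [sub_pow_char_pow, h, one_pow, sub_self]
  exact sub_eq_zero.mp (pow_eq_zero_iff (pow_ne_zero _ (Nat.Prime.ne_zero Fact.out)) |>.mp h1)

theorem sdmd3_nilp {p : ℕ} [Fact p.Prime] [CharP F p] {M : Type*} [AddCommGroup M] [Module F M]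
    (G : Module.End F M) (k : ℕ) (h : G ^ (p ^ k) = 1) : (G - 1) ^ (p ^ k) = 0 := by
  have hpoly : (Polynomial.X - 1 : Polynomial F) ^ (p ^ k) = Polynomial.X ^ (p ^ k) - 1 := by
    rw [sub_pow_char_pow, one_pow]
  have h1 := congrArg (Polynomial.aeval G) hpoly
  simp only [map_pow, map_sub, Polynomial.aeval_X, map_one] at h1
  rw [h1, h, sub_self]

/-- [ROW D3] odd characteristic: the torus has no `p`-elements (`c^(p^k) = 1 ⇒ c = 1`; a unipotent isometry `β` of an
anisotropic space is trivial: `z = (β - 1) w ≠ 0`, `(β - 1) z = 0` gives `f(z,z) = 0`, `2 Q₀ z = 0`) -/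
theorem TQ_pelement_odd (hn : Even n) (Q₀ : QuadraticForm F W) (hQ₀ : ∀ w : W, Q₀ w = 0 → w = 0)
    (p : ℕ) [Fact p.Prime] [CharP F p] (hp2 : p ≠ 2) (t : GQ n Q₀) (ht : t ∈ TQ n Q₀) (k : ℕ)
    (htk : t ^ (p ^ k) = 1) : t = 1 := by
  have hdiag := (mem_TQ_iff hn t).mp ht
  -- the powers of `t` on the frame
  have hpowx : ∀ (j : Fin n) (c : F), le t (xv W j) = c • xv W j →
      ∀ m : ℕ, le (t ^ m) (xv W j) = c ^ m • xv W j := by
    intro j c hc m
    induction m with
    | zero => rw [pow_zero, pow_zero, le_one, one_smul]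
    | succ m ih => rw [pow_succ', le_mul, ih, map_smul, hc, smul_smul, pow_succ]
  -- `t` fixes the frame
  have hx : ∀ j : Fin n, le t (xv W j) = xv W j := by
    intro j
    obtain ⟨c, hc⟩ := hdiag j
    rw [Equiv.Perm.one_apply] at hc
    have h1 := hpowx j c hc (p ^ k)
    rw [htk, le_one] at h1
    have h2 : (xv W j : QV F n W).1 j = (c ^ (p ^ k) • xv W j : QV F n W).1 j := by rw [← h1]
    rw [Prod.smul_fst, Pi.smul_apply, xv_fst, if_pos rfl, smul_eq_mul, mul_one] at h2
    rw [hc, sdmd3_scalar c k h2.symm, one_smul]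
  -- `t` stabilises the anisotropic part
  have hw1 : ∀ (w : W) (i : Fin n), (le t (wv F n w)).1 i = 0 := by
    intro w i
    have h1 := le_polar t (wv F n w) (xv W (rv i))
    rw [hx, polar_xv hn, polar_xv hn, rv_rv] at h1
    rw [h1]
    rfl
  have hw : ∀ w : W, le t (wv F n w) = wv F n (le t (wv F n w)).2 := by
    intro w
    apply Prod.ext
    · funext i
      exact hw1 w i
    · rfl
  -- nilpotency
  have hG : sdmd3_end t ^ (p ^ k) = 1 := by
    apply LinearMap.ext
    intro v
    rw [← sdmd3_pow_apply, htk, le_one]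
    rfl
  have hnil := sdmd3_nilp (p := p) (sdmd3_end t) k hG
  -- `N = t - 1` maps `W` to `W`
  have hNw : ∀ w : W, (sdmd3_end t - 1) (wv F n w) = wv F n ((le t (wv F n w)).2 - w) := by
    intro w
    rw [LinearMap.sub_apply, sdmd3_end_apply, Module.End.one_apply]
    conv_lhs => rw [hw w]
    apply Prod.ext
    · funext i
      simp
    · rfl
  have hNpow : ∀ (j : ℕ) (w : W), ∃ w' : W, ((sdmd3_end t - 1) ^ j) (wv F n w) = wv F n w' := by
    intro j
    induction j with
    | zero => intro w; exact ⟨w, by rw [pow_zero]; rfl⟩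
    | succ j ih =>
      intro w
      obtain ⟨w', hw'⟩ := ih w
      refine ⟨(le t (wv F n w')).2 - w', ?_⟩
      rw [pow_succ', Module.End.mul_apply, hw', hNw]
  -- the descent
  have hstep : ∀ j : ℕ, (∀ w : W, ((sdmd3_end t - 1) ^ (j + 2)) (wv F n w) = 0) →
      ∀ w : W, ((sdmd3_end t - 1) ^ (j + 1)) (wv F n w) = 0 := by
    intro j hj w
    obtain ⟨w', hw'⟩ := hNpow j w
    have e1 : ((sdmd3_end t - 1) ^ (j + 1)) (wv F n w) = (sdmd3_end t - 1) (wv F n w') := by
      rw [pow_succ', Module.End.mul_apply, hw']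
    have e2 : (sdmd3_end t - 1) ((sdmd3_end t - 1) (wv F n w')) = 0 := by
      rw [← e1, ← Module.End.mul_apply, ← pow_succ']
      exact hj w
    obtain ⟨z, hz⟩ : ∃ z : QV F n W, z = (sdmd3_end t - 1) (wv F n w') := ⟨_, rfl⟩
    rw [e1, ← hz]
    rw [← hz] at e2
    have htz : le t z = z := by
      rw [LinearMap.sub_apply, sdmd3_end_apply, Module.End.one_apply] at e2
      exact sub_eq_zero.mp e2
    have htw : le t (wv F n w') = wv F n w' + z := by
      rw [hz, LinearMap.sub_apply, sdmd3_end_apply, Module.End.one_apply]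
      abel
    have hpol := le_polar t (wv F n w') z
    rw [htz, htw, polar_add_left, polar_self] at hpol
    have h2 : (2 : F) * frQ n Q₀ z = 0 := by
      have h3 : polar (frQ n Q₀) (wv F n w') z + 2 • frQ n Q₀ z = polar (frQ n Q₀) (wv F n w') z := hpol
      have h4 : (2 : ℕ) • frQ n Q₀ z = 0 := by
        have := add_eq_left.mp h3
        exact this
      rw [nsmul_eq_mul] at h4
      exact_mod_cast h4
    have h2ne : (2 : F) ≠ 0 := by
      intro e
      have h5 : ((2 : ℕ) : F) = 0 := by exact_mod_cast e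
      rw [CharP.cast_eq_zero_iff F p 2] at h5
      have hp : p.Prime := Fact.out
      have := (Nat.prime_dvd_prime_iff_eq hp Nat.prime_two).mp h5
      exact hp2 this
    have hQz : frQ n Q₀ z = 0 := by
      rcases mul_eq_zero.mp h2 with h | h
      · exact absurd h h2ne
      · exact h
    rw [hz, hNw, frQ_wv] at hQz
    rw [hz, hNw, hQ₀ _ hQz]
    rfl
  have hall : ∀ j : ℕ, (∀ w : W, ((sdmd3_end t - 1) ^ (j + 1)) (wv F n w) = 0) →
      ∀ w : W, (sdmd3_end t - 1) (wv F n w) = 0 := by
    intro j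
    induction j with
    | zero =>
      intro h w
      have := h w
      rw [zero_add, pow_one] at this
      exact this
    | succ j ih => intro h; exact ih (hstep j h)
  have hone : ∀ w : W, le t (wv F n w) = wv F n w := by
    intro w
    have hpk : p ^ k = (p ^ k - 1) + 1 := by
      have : 0 < p ^ k := pow_pos (Nat.Prime.pos Fact.out) k
      omega
    have h1 := hall (p ^ k - 1) (by
      intro w
      rw [← hpk, hnil]
      rfl) w
    rw [LinearMap.sub_apply, sdmd3_end_apply, Module.End.one_apply] at h1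
    exact sub_eq_zero.mp h1
  apply GQ_ext
  intro v
  rw [le_one]
  conv_lhs => rw [decomp v]
  rw [map_add, map_sum, hone]
  conv_rhs => rw [decomp v]
  congr 1
  apply Finset.sum_congr rfl
  intro j _
  rw [map_smul, hx]

end Cfsg.Agent.Lib.Helper18.QBN
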