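import Mathlib
import Cfsg.Agent.Lib.Helper18.SDM.Defs2

/-!
# Project SDM (designer helper18), ROW R0b: the two descriptions of a long root element (`sgX_swap`) and the
conjugation of a Siegel element by an isometry (`sgX_conj`).  Self-contained; extra lemmas are prefixed `sdmr0b_`.
-/

set_option autoImplicit false
set_option linter.unusedSectionVars false
set_option linter.unusedVariables false

namespace Cfsg.Agent.Lib.Helper18.QBN

open Cfsg.Agent.Lib.helper14.UBN QuadraticMap

universe u v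

variable {F : Type u} [Field F] {W : Type v} [AddCommGroup W] [Module F W] {n : ℕ}

theorem sdmr0b_sgX_eq_siegL (hn : Even n) (Q₀ : QuadraticForm F W) (a : Fin n) (y : QV F n W)
    (hy : y.1 (rv a) = 0) (v : QV F n W) :
    le (sgX hn Q₀ a y hy) v = siegL (frQ n Q₀) (xv W a) y v := rfl

/-- [ROW R0b] the two descriptions of a long root element -/
theorem sgX_swap (hn : Even n) (Q₀ : QuadraticForm F W) (a c : Fin n) (hac : c ≠ a) (t : F)
    (h1 : (t • xv W (rv c) : QV F n W).1 (rv a) = 0)
    (h2 : ((-t) • xv W a : QV F n W).1 (rv (rv c)) = 0) :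
    sgX hn Q₀ a (t • xv W (rv c)) h1 = sgX hn Q₀ (rv c) ((-t) • xv W a) h2 := by
  apply GQ_ext
  intro v
  rw [sgX_apply, sgX_apply, polar_smul_right, polar_smul_right, polar_xv hn, polar_xv hn,
    QuadraticMap.map_smul, QuadraticMap.map_smul, frQ_xv Q₀ hn, frQ_xv Q₀ hn, rv_rv]
  simp only [smul_eq_mul, mul_zero, zero_smul, add_zero]
  module

/-- [ROW R0b] conjugation of a Siegel element by an isometry mapping `x_a` to a multiple of `x_{a'}`
(`siegL_conj` + `siegL Q (c • u) y = siegL Q u (c • y)`) -/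
theorem sgX_conj (hn : Even n) (Q₀ : QuadraticForm F W) (g : GQ n Q₀) (a a' : Fin n) (c : F)
    (hg : le g (xv W a) = c • xv W a') (y : QV F n W) (hy : y.1 (rv a) = 0)
    (hy' : (c • le g y).1 (rv a') = 0) :
    g * sgX hn Q₀ a y hy * g⁻¹ = sgX hn Q₀ a' (c • le g y) hy' := by
  apply GQ_ext
  intro v
  rw [le_mul, le_mul, sdmr0b_sgX_eq_siegL, sdmr0b_sgX_eq_siegL]
  have h1 : le g (siegL (frQ n Q₀) (xv W a) y (le g⁻¹ v)) =
      siegL (frQ n Q₀) (le g (xv W a)) (le g y) (le g (le g⁻¹ v)) :=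
    siegL_conj (frQ n Q₀) g (xv W a) y (le g⁻¹ v)
  rw [le_inv_apply, hg] at h1
  rw [h1, siegL_apply, siegL_apply, polar_smul_right, polar_smul_right, QuadraticMap.map_smul,
    le_Q g y]
  simp only [smul_eq_mul]
  module

end Cfsg.Agent.Lib.Helper18.QBN
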