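import Mathlib
import Cfsg.Agent.Lib.Helper18.SDM.Defs2

/-!
# Project SDM (designer helper18), ROW R0c: which Siegel elements lie in the Borel subgroup `BQ`.
Self-contained; extra lemmas are prefixed `sdmr0c_`.
-/

set_option autoImplicit false
set_option linter.unusedSectionVars false
set_option linter.unusedVariables false
set_option linter.unusedSimpArgs false

namespace Cfsg.Agent.Lib.Helper18.QBN

open Cfsg.Agent.Lib.helper14.UBN QuadraticMap

universe u v

variable {F : Type u} [Field F] {W : Type v} [AddCommGroup W] [Module F W] {n : ℕ}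

theorem sdmr0c_sgX_eq_siegL (hn : Even n) (Q₀ : QuadraticForm F W) (a : Fin n) (y : QV F n W)
    (hy : y.1 (rv a) = 0) (v : QV F n W) :
    le (sgX hn Q₀ a y hy) v = siegL (frQ n Q₀) (xv W a) y v := rfl

theorem sdmr0c_sgX_inv (hn : Even n) (Q₀ : QuadraticForm F W) (a : Fin n) (y : QV F n W)
    (hy : y.1 (rv a) = 0) (hy' : (-y).1 (rv a) = 0) :
    (sgX hn Q₀ a y hy)⁻¹ = sgX hn Q₀ a (-y) hy' := by
  apply inv_eq_of_mul_eq_one_right
  apply GQ_ext
  intro v
  rw [le_mul, sdmr0c_sgX_eq_siegL, sdmr0c_sgX_eq_siegL, siegL_comp (frQ n Q₀) (frQ_xv Q₀ hn a)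
    (by rw [polar_comm, polar_xv hn, hy]) (by rw [polar_comm, polar_xv hn, hy']),
    add_neg_cancel, siegL_zero, le_one]

theorem sdmr0c_sgX_zero (hn : Even n) (Q₀ : QuadraticForm F W) (a : Fin n) (y : QV F n W)
    (hy : y.1 (rv a) = 0) (h0 : y = 0) : sgX hn Q₀ a y hy = 1 := by
  subst h0
  apply GQ_ext
  intro v
  rw [sdmr0c_sgX_eq_siegL, siegL_zero, le_one]

theorem sdmr0c_xv_mem_Vfl (i : Fin n) (j : ℕ) (h : rk i < j) : (xv W i : QV F n W) ∈ Vfl F n W j := by
  rw [mem_Vfl]
  refine ⟨rfl, fun i' hi' => ?_⟩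
  rw [xv_fst, if_neg]
  intro e
  rw [e] at hi'
  omega

theorem sdmr0c_half (hn : Even n) (a : Fin n) (ha : rk a < rk (rv a)) :
    rk a < n / 2 ∧ n / 2 ≤ rk (rv a) := by
  have h1 := rk_add_rv a
  have h2 := rk_lt a
  obtain ⟨m, hm⟩ := hn
  omega

theorem sdmr0c_half' (hn : Even n) (a : Fin n) (ha : ¬ rk a < rk (rv a)) :
    rk (rv a) < n / 2 ∧ n / 2 ≤ rk a := by
  have h1 := rk_add_rv a
  have h2 := rk_lt a
  obtain ⟨m, hm⟩ := hn
  omega

/-- the upper triangularity of a positive Siegel element -/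
theorem sdmr0c_isUpQ (hn : Even n) (Q₀ : QuadraticForm F W) (a : Fin n) (y : QV F n W)
    (hy : y.1 (rv a) = 0) (ha : rk a < rk (rv a)) (hy' : ∀ i : Fin n, rk (rv a) ≤ rk i → y.1 i = 0) :
    IsUpQ (sgX hn Q₀ a y hy) := by
  intro j hj v hv
  have hv' := hv
  rw [mem_Vfl] at hv'
  obtain ⟨hA1, hA2⟩ := sdmr0c_half hn a ha
  rw [sgX_apply, hv'.2 (rv a) (by omega), zero_smul, sub_zero]
  apply Submodule.add_mem _ hv
  by_cases hja : rk a < j
  · exact Submodule.smul_mem _ _ (sdmr0c_xv_mem_Vfl a j hja)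
  · have h0 : polar (frQ n Q₀) v y = 0 := by
      rw [frQ_polar hn, hv'.1, polar_zero_left, add_zero]
      apply Finset.sum_eq_zero
      intro i _
      by_cases hi : rk i < j
      · have h3 : rk (rv a) ≤ rk (rv i) := by
          have h4 := rk_add_rv a
          have h5 := rk_add_rv i
          omega
        rw [hy' (rv i) h3, mul_zero]
      · rw [hv'.2 i (by omega), zero_mul]
    rw [h0, zero_smul]
    exact Submodule.zero_mem _

/-- [ROW R0c] a Siegel element centred in the lower half with `y` supported below `rv a` lies in `B` -/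
theorem sgX_mem_BQ (hn : Even n) (Q₀ : QuadraticForm F W) (a : Fin n) (y : QV F n W)
    (hy : y.1 (rv a) = 0) (ha : rk a < rk (rv a)) (hy' : ∀ i : Fin n, rk (rv a) ≤ rk i → y.1 i = 0) :
    sgX hn Q₀ a y hy ∈ BQ n Q₀ := by
  refine ⟨sdmr0c_isUpQ hn Q₀ a y hy ha hy', ?_⟩
  have hneg : (-y).1 (rv a) = 0 := by rw [Prod.fst_neg, Pi.neg_apply, hy, neg_zero]
  rw [sdmr0c_sgX_inv hn Q₀ a y hy hneg]
  apply sdmr0c_isUpQ hn Q₀ a (-y) hneg ha
  intro i hi
  rw [Prod.fst_neg, Pi.neg_apply, hy' i hi, neg_zero]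

/-- the formula for a long root element -/
theorem sdmr0c_long_apply (hn : Even n) (Q₀ : QuadraticForm F W) (a c : Fin n) (t : F)
    (h1 : (t • xv W (rv c) : QV F n W).1 (rv a) = 0) (v : QV F n W) :
    le (sgX hn Q₀ a (t • xv W (rv c)) h1) v =
      v + (t * v.1 c) • xv W a - (t * v.1 (rv a)) • xv W (rv c) := by
  rw [sgX_apply, polar_smul_right, polar_xv hn, QuadraticMap.map_smul, frQ_xv Q₀ hn, rv_rv]
  simp only [smul_eq_mul, mul_zero, zero_smul, add_zero]
  module

/-- [ROW R0c] the long root element `x_c ↦ x_c + t x_a`, `x_{rv a} ↦ x_{rv a} - t x_{rv c}` lies in `B` iff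
`rk a < rk c` or `t = 0` (`c ≠ a`, `c ≠ rv a`; use `sgX_swap` when `a` is in the upper half) -/
theorem sgX_long_mem_BQ_iff (hn : Even n) (Q₀ : QuadraticForm F W) (a c : Fin n) (hac : c ≠ a)
    (hac' : c ≠ rv a) (t : F) (h1 : (t • xv W (rv c) : QV F n W).1 (rv a) = 0) :
    sgX hn Q₀ a (t • xv W (rv c)) h1 ∈ BQ n Q₀ ↔ (rk a < rk c ∨ t = 0) := by
  constructor
  · intro hmem
    by_contra hcon
    obtain ⟨hlt, ht⟩ := not_or.mp hcon
    have hlt' : rk c < rk a := lt_of_le_of_ne (not_lt.mp hlt) (fun e => hac (rk_injective e))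
    by_cases hc : rk c < rk (rv c)
    · -- `c` in the lower half: look at the image of `x_c`
      obtain ⟨hA1, hA2⟩ := sdmr0c_half hn c hc
      have h2 := hmem.1 (rk c + 1) (by omega) (xv W c) (sdmr0c_xv_mem_Vfl c _ (by omega))
      rw [mem_Vfl] at h2
      have h3 := h2.2 a (by omega)
      rw [sdmr0c_long_apply] at h3
      have hne : a ≠ rv c := by
        intro e
        apply hac'
        rw [e, rv_rv]
      simp only [Prod.fst_add, Prod.fst_sub, Prod.smul_fst, Pi.add_apply, Pi.sub_apply, Pi.smul_apply,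
        xv_fst, smul_eq_mul, if_neg (Ne.symm hac), if_neg (Ne.symm hac'), if_neg hne, if_true,
        mul_zero, mul_one, sub_zero, zero_add] at h3
      exact ht h3
    · -- `c` in the upper half: look at the image of `x_{rv a}`
      obtain ⟨hA1, hA2⟩ := sdmr0c_half' hn c hc
      have h4 := rk_add_rv a
      have h5 := rk_add_rv c
      have h2 := hmem.1 (rk (rv a) + 1) (by omega) (xv W (rv a))
        (sdmr0c_xv_mem_Vfl (rv a) _ (by omega))
      rw [mem_Vfl] at h2
      have h3 := h2.2 (rv c) (by omega)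
      rw [sdmr0c_long_apply] at h3
      have hne1 : rv c ≠ rv a := fun e => hac (rv_inj e)
      have hne2 : rv c ≠ a := by
        intro e
        apply hac'
        rw [← e, rv_rv]
      simp only [Prod.fst_add, Prod.fst_sub, Prod.smul_fst, Pi.add_apply, Pi.sub_apply, Pi.smul_apply,
        xv_fst, smul_eq_mul, if_neg hne1, if_neg hac', if_neg hne2, if_true,
        mul_zero, mul_one, sub_zero, zero_add, zero_mul, zero_sub, neg_eq_zero] at h3
      exact ht h3
  · rintro (hlt | ht)
    · -- upper triangularity in the positive position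
      have hup : ∀ s : F, ∀ hs : (s • xv W (rv c) : QV F n W).1 (rv a) = 0,
          IsUpQ (sgX hn Q₀ a (s • xv W (rv c)) hs) := by
        intro s hs j hj v hv
        have hv' := hv
        rw [mem_Vfl] at hv'
        rw [sdmr0c_long_apply]
        apply Submodule.sub_mem
        · apply Submodule.add_mem _ hv
          by_cases hcj : rk c < j
          · exact Submodule.smul_mem _ _ (sdmr0c_xv_mem_Vfl a j (by omega))
          · rw [hv'.2 c (by omega), mul_zero, zero_smul]
            exact Submodule.zero_mem _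
        · by_cases haj : rk (rv a) < j
          · have h4 := rk_add_rv a
            have h5 := rk_add_rv c
            exact Submodule.smul_mem _ _ (sdmr0c_xv_mem_Vfl (rv c) j (by omega))
          · rw [hv'.2 (rv a) (by omega), mul_zero, zero_smul]
            exact Submodule.zero_mem _
      refine ⟨hup t h1, ?_⟩
      have hneg : (-(t • xv W (rv c)) : QV F n W).1 (rv a) = 0 := by
        rw [Prod.fst_neg, Pi.neg_apply, h1, neg_zero]
      rw [sdmr0c_sgX_inv hn Q₀ a _ h1 hneg]
      have hneg' : ((-t) • xv W (rv c) : QV F n W).1 (rv a) = 0 := by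
        rw [neg_smul]
        exact hneg
      have e : sgX hn Q₀ a (-(t • xv W (rv c))) hneg = sgX hn Q₀ a ((-t) • xv W (rv c)) hneg' := by
        congr 1
        rw [neg_smul]
      rw [e]
      exact hup (-t) hneg'
    · rw [sdmr0c_sgX_zero hn Q₀ a _ h1 (by rw [ht, zero_smul])]
      exact (BQ n Q₀).one_mem

/-- [ROW R0c] the short root element `sgX a (0, w)` lies in `B` iff `a` is in the lower half or `w = 0` -/
theorem sgX_short_mem_BQ_iff (hn : Even n) (Q₀ : QuadraticForm F W) (a : Fin n) (w : W)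
    (h1 : (wv F n w : QV F n W).1 (rv a) = 0) :
    sgX hn Q₀ a (wv F n w) h1 ∈ BQ n Q₀ ↔ (rk a < rk (rv a) ∨ w = 0) := by
  constructor
  · intro hmem
    by_contra hcon
    obtain ⟨hlt, hw⟩ := not_or.mp hcon
    obtain ⟨hA1, hA2⟩ := sdmr0c_half' hn a hlt
    have h2 := hmem.1 (rk (rv a) + 1) (by omega) (xv W (rv a))
      (sdmr0c_xv_mem_Vfl (rv a) _ (by omega))
    rw [mem_Vfl] at h2
    have h3 := h2.1
    rw [sgX_apply] at h3
    simp only [Prod.snd_add, Prod.snd_sub, Prod.smul_snd, xv_snd, wv_snd, xv_fst, if_pos, smul_zero,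
      add_zero, zero_sub, one_smul, neg_eq_zero] at h3
    exact hw h3
  · rintro (hlt | hw)
    · exact sgX_mem_BQ hn Q₀ a (wv F n w) h1 hlt (fun i _ => rfl)
    · rw [sdmr0c_sgX_zero hn Q₀ a _ h1 (by rw [hw]; rfl)]
      exact (BQ n Q₀).one_mem

end Cfsg.Agent.Lib.Helper18.QBN
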