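import Mathlib
import Cfsg.Agent.Lib.Helper18.SDM.Defs2
import Cfsg.Agent.Lib.Helper10.SDMR0b
import Cfsg.Agent.Lib.Helper10.SDMR0c

/-!
# Project SDM (designer helper18), ROWS R2b, R2c, R2d: the conjugates `g⁻¹ u g` of the elements of a root
group `U_k` by a monomial element `g`, versus the Borel subgroup, according to the position of the simple pair.
Uses rows R0b (`sgX_conj`) and R0c (`sgX_long_mem_BQ_iff`, `sgX_short_mem_BQ_iff`); the facts on monomial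
elements (row B2) are reproved here.  Extra lemmas are prefixed `sdmr2_`.
-/

set_option autoImplicit false
set_option linter.unusedSectionVars false
set_option linter.unusedVariables false
set_option linter.unusedSimpArgs false

namespace Cfsg.Agent.Lib.Helper18.QBN

open Cfsg.Agent.Lib.helper14.UBN QuadraticMap

universe u v

variable {F : Type u} [Field F] {W : Type v} [AddCommGroup W] [Module F W] {n : ℕ}

theorem sdmr2_xv_ne_zero (j : Fin n) : (xv W j : QV F n W) ≠ 0 := by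
  intro h
  have h1 : (xv W j : QV F n W).1 j = (0 : QV F n W).1 j := by rw [h]
  rw [xv_fst, if_pos rfl] at h1
  exact one_ne_zero h1

theorem sdmr2_le_ne_zero {Q₀ : QuadraticForm F W} (g : GQ n Q₀) {v : QV F n W} (hv : v ≠ 0) :
    le g v ≠ 0 := by
  intro h
  apply hv
  have := le_inv_apply' g v
  rw [h, map_zero] at this
  exact this.symm

/-- the inverse of a monomial element on the frame -/
theorem sdmr2_inv_xv {Q₀ : QuadraticForm F W} {g : GQ n Q₀} {π : Equiv.Perm (Fin n)}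
    (hg : IsPermOf g π) (i : Fin n) :
    ∃ c : F, c ≠ 0 ∧ le g (xv W (π.symm i)) = c • xv W i ∧
      le g⁻¹ (xv W i) = c⁻¹ • xv W (π.symm i) := by
  obtain ⟨c, hc⟩ := hg (π.symm i)
  rw [Equiv.apply_symm_apply] at hc
  have hc0 : c ≠ 0 := by
    intro e
    rw [e, zero_smul] at hc
    exact sdmr2_le_ne_zero g (sdmr2_xv_ne_zero _) hc
  refine ⟨c, hc0, hc, ?_⟩
  have h1 := le_inv_apply' g (xv W (π.symm i))
  rw [hc, map_smul] at h1
  calc le g⁻¹ (xv W i) = c⁻¹ • (c • le g⁻¹ (xv W i)) := by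
        rw [smul_smul, inv_mul_cancel₀ hc0, one_smul]
    _ = c⁻¹ • xv W (π.symm i) := by rw [h1]

/-- the coordinates of `g⁻¹ y` -/
theorem sdmr2_inv_fst (hn : Even n) {Q₀ : QuadraticForm F W} {g : GQ n Q₀} {π : Equiv.Perm (Fin n)}
    (hπ : RvC π) (hg : IsPermOf g π) (y : QV F n W) (i : Fin n) :
    ∃ c : F, c ≠ 0 ∧ (le g⁻¹ y).1 i = c * y.1 (π i) := by
  obtain ⟨c, hc⟩ := hg (rv i)
  have hc0 : c ≠ 0 := by
    intro e
    rw [e, zero_smul] at hc
    exact sdmr2_le_ne_zero g (sdmr2_xv_ne_zero _) hc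
  refine ⟨c, hc0, ?_⟩
  have h1 := le_polar g (le g⁻¹ y) (xv W (rv i))
  rw [le_inv_apply, polar_xv hn, rv_rv, hc, polar_smul_right, polar_xv hn, hπ, rv_rv] at h1
  rw [← h1]
  rfl

theorem sdmr2_sgX_congr (hn : Even n) (Q₀ : QuadraticForm F W) (a : Fin n) {y y' : QV F n W}
    (hy : y.1 (rv a) = 0) (hy' : y'.1 (rv a) = 0) (h : y = y') :
    sgX hn Q₀ a y hy = sgX hn Q₀ a y' hy' := by
  subst h
  rfl

/-- the conjugate of a Siegel element by a monomial element -/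
theorem sdmr2_conj (hn : Even n) (Q₀ : QuadraticForm F W) {g : GQ n Q₀} {π : Equiv.Perm (Fin n)}
    (hπ : RvC π) (hg : IsPermOf g π) (a : Fin n) (y : QV F n W) (hy : y.1 (rv a) = 0) :
    ∃ (c : F) (hy' : (c • le g⁻¹ y).1 (rv (π.symm a)) = 0), c ≠ 0 ∧
      g⁻¹ * sgX hn Q₀ a y hy * g = sgX hn Q₀ (π.symm a) (c • le g⁻¹ y) hy' := by
  obtain ⟨c, hc0, hc1, hc2⟩ := sdmr2_inv_xv hg a
  have hy' : (c⁻¹ • le g⁻¹ y).1 (rv (π.symm a)) = 0 := by
    obtain ⟨d, _, hd⟩ := sdmr2_inv_fst hn hπ hg y (rv (π.symm a))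
    rw [Prod.smul_fst, Pi.smul_apply, hd, hπ, Equiv.apply_symm_apply, hy, mul_zero, smul_zero]
  refine ⟨c⁻¹, hy', inv_ne_zero hc0, ?_⟩
  have h1 := sgX_conj hn Q₀ g⁻¹ a (π.symm a) c⁻¹ hc2 y hy hy'
  rw [inv_inv] at h1
  exact h1

/-- [ROW R2b] the same for the last node -/
theorem root_conj_pos_last (hn : Even n) (Q₀ : QuadraticForm F W) (k : Fin (n / 2))
    (hk : pc k = rv (pa k)) (g : GQ n Q₀) (π : Equiv.Perm (Fin n)) (hπ : RvC π) (hg : IsPermOf g π)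
    (hpos : rk (π.symm (pa k)) < rk (π.symm (pc k))) (u : GQ n Q₀) (hu : u ∈ Uk hn Q₀ k) :
    g⁻¹ * u * g ∈ BQ n Q₀ := by
  obtain ⟨y, hy, rfl⟩ := hu
  obtain ⟨w, rfl⟩ := hy.2 hk
  obtain ⟨c, hy', hc0, hconj⟩ := sdmr2_conj hn Q₀ hπ hg (pa k) (wv F n w) (Yk_perp hn k hy)
  rw [hconj]
  have hfst : ∀ i : Fin n, (c • le g⁻¹ (wv F n w) : QV F n W).1 i = 0 := by
    intro i
    obtain ⟨d, _, hd⟩ := sdmr2_inv_fst hn hπ hg (wv F n w) i
    rw [Prod.smul_fst, Pi.smul_apply, hd, wv_fst, mul_zero, smul_zero]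
  apply sgX_mem_BQ hn Q₀ _ _ hy'
  · rw [hk, RvC_symm hπ] at hpos
    exact hpos
  · intro i _
    exact hfst i

/-- [ROW R2c] negative position: `g⁻¹ u g ∉ B` for `1 ≠ u ∈ U_k`, node of type `A` -/
theorem root_conj_neg_A (hn : Even n) (Q₀ : QuadraticForm F W) (k : Fin (n / 2))
    (hk : pc k ≠ rv (pa k)) (g : GQ n Q₀) (π : Equiv.Perm (Fin n)) (hπ : RvC π) (hg : IsPermOf g π)
    (hneg : rk (π.symm (pc k)) < rk (π.symm (pa k))) (u : GQ n Q₀) (hu : u ∈ Uk hn Q₀ k)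
    (hu1 : u ≠ 1) : g⁻¹ * u * g ∉ BQ n Q₀ := by
  obtain ⟨y, hy, rfl⟩ := hu
  obtain ⟨t, rfl⟩ := hy.1 hk
  have ht : t ≠ 0 := by
    intro e
    apply hu1
    exact sdmr0c_sgX_zero hn Q₀ _ _ _ (by rw [e, zero_smul])
  obtain ⟨c, hy', hc0, hconj⟩ :=
    sdmr2_conj hn Q₀ hπ hg (pa k) (t • xv W (rv (pc k))) (Yk_perp hn k hy)
  rw [hconj]
  obtain ⟨d, hd0, _, hd⟩ := sdmr2_inv_xv hg (rv (pc k))
  have hyeq : (c • le g⁻¹ (t • xv W (rv (pc k))) : QV F n W) =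
      (c * t * d⁻¹) • xv W (rv (π.symm (pc k))) := by
    rw [map_smul, hd, RvC_symm hπ, smul_smul, smul_smul]
  have h1 : ((c * t * d⁻¹) • xv W (rv (π.symm (pc k))) : QV F n W).1 (rv (π.symm (pa k))) = 0 := by
    rw [← hyeq]
    exact hy'
  rw [sdmr2_sgX_congr hn Q₀ _ hy' h1 hyeq]
  have hne1 : π.symm (pc k) ≠ π.symm (pa k) := fun e => pa_ne_pc k (π.symm.injective e).symm
  have hne2 : π.symm (pc k) ≠ rv (π.symm (pa k)) := by
    rw [← RvC_symm hπ]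
    exact fun e => hk (π.symm.injective e)
  rw [sgX_long_mem_BQ_iff hn Q₀ _ _ hne1 hne2]
  intro h
  rcases h with h | h
  · omega
  · exact mul_ne_zero (mul_ne_zero hc0 ht) (inv_ne_zero hd0) h

/-- [ROW R2d] the same for the last node -/
theorem root_conj_neg_last (hn : Even n) (Q₀ : QuadraticForm F W) (k : Fin (n / 2))
    (hk : pc k = rv (pa k)) (g : GQ n Q₀) (π : Equiv.Perm (Fin n)) (hπ : RvC π) (hg : IsPermOf g π)
    (hneg : rk (π.symm (pc k)) < rk (π.symm (pa k))) (u : GQ n Q₀) (hu : u ∈ Uk hn Q₀ k)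
    (hu1 : u ≠ 1) : g⁻¹ * u * g ∉ BQ n Q₀ := by
  obtain ⟨y, hy, rfl⟩ := hu
  obtain ⟨w, rfl⟩ := hy.2 hk
  have hw : w ≠ 0 := by
    intro e
    apply hu1
    exact sdmr0c_sgX_zero hn Q₀ _ _ _ (by rw [e]; rfl)
  obtain ⟨c, hy', hc0, hconj⟩ := sdmr2_conj hn Q₀ hπ hg (pa k) (wv F n w) (Yk_perp hn k hy)
  rw [hconj]
  have hfst : ∀ i : Fin n, (le g⁻¹ (wv F n w) : QV F n W).1 i = 0 := by
    intro i
    obtain ⟨d, _, hd⟩ := sdmr2_inv_fst hn hπ hg (wv F n w) i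
    rw [hd, wv_fst, mul_zero]
  have hyeq : (c • le g⁻¹ (wv F n w) : QV F n W) = wv F n (c • (le g⁻¹ (wv F n w)).2) := by
    apply Prod.ext
    · funext i
      rw [Prod.smul_fst, Pi.smul_apply, hfst i, smul_zero]
      rfl
    · rfl
  have h1 : (wv F n (c • (le g⁻¹ (wv F n w)).2) : QV F n W).1 (rv (π.symm (pa k))) = 0 := rfl
  rw [sdmr2_sgX_congr hn Q₀ _ hy' h1 hyeq, sgX_short_mem_BQ_iff hn Q₀]
  intro h
  rcases h with h | h
  · rw [hk, RvC_symm hπ] at hneg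
    omega
  · rcases smul_eq_zero.mp h with h | h
    · exact hc0 h
    · have h2 : le g⁻¹ (wv F n w) = 0 := by
        apply Prod.ext
        · funext i
          exact hfst i
        · exact h
      have hwv : (wv F n w : QV F n W) ≠ 0 := by
        intro e
        apply hw
        have := congrArg Prod.snd e
        exact this
      exact sdmr2_le_ne_zero g⁻¹ hwv h2

end Cfsg.Agent.Lib.Helper18.QBN
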