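import Mathlib
import Cfsg.Agent.Lib.Helper18.SDM.Defs3
import Cfsg.Agent.Lib.helper3.BNLen
import Cfsg.Agent.Lib.helper8.SDMB2
import Cfsg.Agent.Lib.Helper10.SDMB3
import Cfsg.Agent.Lib.Helper10.SDMR2bcd
import Cfsg.Agent.Lib.Helper21.SDMR3a
import Cfsg.Agent.Lib.Helper20.SDMR3b
import Cfsg.Agent.Lib.Helper11.SDMR4

/-!
# Project SDM (designer helper18), ROW P2: negative position ⇒ `¬ Pp`.
Uses rows B2, B3, R2b, R3a, R3b, R4; the positive position lemma of the `A`-node (row R2a) is reproved here under the name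
`sdmp2_root_conj_pos_A`.  Extra lemmas are prefixed `sdmp2_`.
-/

set_option autoImplicit false
set_option linter.unusedSectionVars false
set_option linter.unusedVariables false
set_option linter.unusedSimpArgs false

namespace Cfsg.Agent.Lib.Helper18.QBN

open Cfsg.Agent.Lib.helper14.UBN QuadraticMap
open Cfsg.Agent.Lib.helper3

universe u v

variable {F : Type u} [Field F] {W : Type v} [AddCommGroup W] [Module F W] {n : ℕ}

/-- positive position, node of type `A` (the statement of row R2a) -/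
theorem sdmp2_root_conj_pos_A (hn : Even n) (Q₀ : QuadraticForm F W) (k : Fin (n / 2))
    (hk : pc k ≠ rv (pa k)) (g : GQ n Q₀) (π : Equiv.Perm (Fin n)) (hπ : RvC π) (hg : IsPermOf g π)
    (hpos : rk (π.symm (pa k)) < rk (π.symm (pc k))) (u : GQ n Q₀) (hu : u ∈ Uk hn Q₀ k) :
    g⁻¹ * u * g ∈ BQ n Q₀ := by
  obtain ⟨y, hy, rfl⟩ := hu
  obtain ⟨t, rfl⟩ := hy.1 hk
  obtain ⟨c, hy', hc0, hconj⟩ :=
    sdmr2_conj hn Q₀ hπ hg (pa k) (t • xv W (rv (pc k))) (Yk_perp hn k hy)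
  rw [hconj]
  obtain ⟨d, hd0, _, hd⟩ := sdmr2_inv_xv hg (rv (pc k))
  have hyeq : (c • le g⁻¹ (t • xv W (rv (pc k))) : QV F n W) =
      (c * t * d⁻¹) • xv W (rv (π.symm (pc k))) := by
    rw [map_smul, hd, RvC_symm hπ, smul_smul, smul_smul]
  have h1 : ((c * t * d⁻¹) • xv W (rv (π.symm (pc k))) : QV F n W).1 (rv (π.symm (pa k))) = 0 := by
    rw [← hyeq]
    exact hy'
  rw [sdmr2_sgX_congr hn Q₀ _ hy' h1 hyeq]
  have hne1 : π.symm (pc k) ≠ π.symm (pa k) := fun e => pa_ne_pc k (π.symm.injective e).symm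
  have hne2 : π.symm (pc k) ≠ rv (π.symm (pa k)) := by
    rw [← RvC_symm hπ]
    exact fun e => hk (π.symm.injective e)
  rw [sgX_long_mem_BQ_iff hn Q₀ _ _ hne1 hne2]
  exact Or.inl hpos

/-- positive position, both kinds of nodes -/
theorem sdmp2_root_conj_pos (hn : Even n) (Q₀ : QuadraticForm F W) (k : Fin (n / 2))
    (g : GQ n Q₀) (π : Equiv.Perm (Fin n)) (hπ : RvC π) (hg : IsPermOf g π)
    (hpos : rk (π.symm (pa k)) < rk (π.symm (pc k))) (u : GQ n Q₀) (hu : u ∈ Uk hn Q₀ k) :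
    g⁻¹ * u * g ∈ BQ n Q₀ := by
  by_cases hk : pc k = rv (pa k)
  · exact root_conj_pos_last hn Q₀ k hk g π hπ hg hpos u hu
  · exact sdmp2_root_conj_pos_A hn Q₀ k hk g π hπ hg hpos u hu

/-- the rank one relation, both kinds of nodes -/
theorem sdmp2_rank_one (hn : Even n) (Q₀ : QuadraticForm F W) (hQ₀ : ∀ w : W, Q₀ w = 0 → w = 0)
    (k : Fin (n / 2)) (u : GQ n Q₀) (hu : u ∈ Uk hn Q₀ k) (hu1 : u ≠ 1) :
    ∃ b ∈ BQ n Q₀, ∃ u' ∈ Uk hn Q₀ k, sQ hn Q₀ k * u * (sQ hn Q₀ k)⁻¹ = b * sQ hn Q₀ k * u' := by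
  by_cases hk : pc k = rv (pa k)
  · exact root_rank_one_last hn Q₀ hQ₀ k hk u hu hu1
  · exact root_rank_one_A hn Q₀ k hk u hu hu1

/-- in the negative position `s u g ∈ B g B` for `1 ≠ u ∈ U_k` -/
theorem sdmp2_neg_mem (hn : Even n) (Q₀ : QuadraticForm F W) (hQ₀ : ∀ w : W, Q₀ w = 0 → w = 0)
    (k : Fin (n / 2)) (g : GQ n Q₀) (π : Equiv.Perm (Fin n)) (hπ : RvC π) (hg : IsPermOf g π)
    (hneg : rk (π.symm (pc k)) < rk (π.symm (pa k))) (u : GQ n Q₀) (hu : u ∈ Uk hn Q₀ k)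
    (hu1 : u ≠ 1) : ∃ b ∈ BQ n Q₀, ∃ b' ∈ BQ n Q₀, sQ hn Q₀ k * u * g = b * g * b' := by
  obtain ⟨b, hb, u', hu', hrel⟩ := sdmp2_rank_one hn Q₀ hQ₀ k u hu hu1
  have hsg : IsPermOf (sQ hn Q₀ k * g) (tauS k * π) :=
    isPermOf_mul (isPermOf_permG hn Q₀ (tauS k) (RvC_tauS k)) hg
  have hpos : rk ((tauS k * π).symm (pa k)) < rk ((tauS k * π).symm (pc k)) := by
    have e1 : (tauS k * π).symm (pa k) = π.symm (pc k) := by
      show π.symm ((tauS k).symm (pa k)) = _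
      rw [tauS_symm, tauS_pa]
    have e2 : (tauS k * π).symm (pc k) = π.symm (pa k) := by
      show π.symm ((tauS k).symm (pc k)) = _
      rw [tauS_symm, tauS_pc]
    rw [e1, e2]
    exact hneg
  have hmem := sdmp2_root_conj_pos hn Q₀ k (sQ hn Q₀ k * g) (tauS k * π)
    (RvC_mul (RvC_tauS k) hπ) hsg hpos u' hu'
  refine ⟨b, hb, _, hmem, ?_⟩
  have hs : (sQ hn Q₀ k)⁻¹ = sQ hn Q₀ k := sQ_inv hn Q₀ k
  have hss : sQ hn Q₀ k * sQ hn Q₀ k = 1 := sQ_mul_self hn Q₀ k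
  have e3 : sQ hn Q₀ k * u = b * sQ hn Q₀ k * u' * sQ hn Q₀ k := by
    rw [← hrel, hs, mul_assoc (sQ hn Q₀ k * u), hss, mul_one]
  rw [e3, mul_inv_rev, hs]
  calc b * sQ hn Q₀ k * u' * sQ hn Q₀ k * g
      = b * (sQ hn Q₀ k * sQ hn Q₀ k) * (g * g⁻¹) * sQ hn Q₀ k * u' * sQ hn Q₀ k * g := by
        rw [hss, mul_inv_cancel, mul_one, mul_one]
    _ = b * g * (g⁻¹ * sQ hn Q₀ k * u' * (sQ hn Q₀ k * g)) := by
        rw [hss]
        group

/-- [ROW P2] negative position ⇒ `¬ Pp`: for `1 ≠ u ∈ U_k` (R4), `s u g ∈ B g B` (R3 + R2 for `s g`, as in A1), while `Pp` gives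
`s u g ∈ B s g B`; `dc_s_mul_ne` (helper3/BNLen) -/
theorem qbn_not_pp_of_neg (hn : Even n) (Q₀ : QuadraticForm F W) (hQ₀ : ∀ w : W, Q₀ w = 0 → w = 0)
    (hW : ∃ w : W, w ≠ 0)
    (P : Cfsg.BNPair (GQ n Q₀)) (hB : P.B = BQ n Q₀) (hN : P.N = NQ n Q₀) (hS : P.S = SQ hn Q₀)
    (k : Fin (n / 2)) (g : GQ n Q₀) (π : Equiv.Perm (Fin n)) (hπ : RvC π) (hg : IsPermOf g π)
    (hneg : rk (π.symm (pc k)) < rk (π.symm (pa k))) : ¬ Pp P (sQ hn Q₀ k) g := by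
  intro hpp
  obtain ⟨u, hu, hu1⟩ := Uk_nontrivial hn Q₀ hW k
  have huB : u ∈ P.B := by
    rw [hB]
    exact Uk_subset_BQ hn Q₀ k u hu
  have h1 := hpp u huB
  obtain ⟨b, hb, b', hb', hrel⟩ := sdmp2_neg_mem hn Q₀ hQ₀ k g π hπ hg hneg u hu hu1
  have h2 : sQ hn Q₀ k * u * g ∈ dc P g := by
    rw [mem_dc]
    exact ⟨b, by rw [hB]; exact hb, b', by rw [hB]; exact hb', hrel⟩
  have hsS : sQ hn Q₀ k ∈ P.S := by
    rw [hS]
    exact ⟨k, rfl⟩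
  have hgN : g ∈ P.N := by
    rw [hN, mem_NQ_iff hn]
    exact ⟨π, hπ, hg⟩
  apply dc_s_mul_ne hsS hgN
  rw [← dc_eq_of_mem h1, ← dc_eq_of_mem h2]

end Cfsg.Agent.Lib.Helper18.QBN
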