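import Mathlib
import Cfsg.Agent.Lib.helper14.SGUDefs
import Cfsg.Agent.S0277
import Cfsg.Agent.S5646
import Cfsg.Agent.Lib.Helper25.SGUEMBK1
import Cfsg.Agent.Lib.Helper25.SGUEMBK2
import Cfsg.Agent.Lib.Helper20.SGUPHIALG
import Cfsg.Agent.Lib.Helper20.SGUPHISP

set_option autoImplicit false
set_option linter.unusedVariables false

/-! SGU row EMB (helper10): `GU_d(F[ω])` embeds in `C_Sp(j0)`; its image has `guOrd q d` elements. -/

namespace Cfsg.Agent.Lib.helper14.SGU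

open Polynomial Module Cfsg.Agent.Lib.Lead.SPU Cfsg.Agent.Lib.Helper19.SPD

variable {F : Type*} [Field F] {d : ℕ}

/-- `Phi` as a monoid homomorphism -/
def sguemb_PhiHom (d : ℕ) (c0 : F) : Matrix (Fin d) (Fin d) (QK c0) →* Matrix (Fin d ⊕ Fin d) (Fin d ⊕ Fin d) F where
  toFun := Phi d c0
  map_one' := phi_one c0
  map_mul' := phi_mul c0

theorem emb [Fintype F] {q : ℕ} (hq : Fintype.card F = q) (hodd : Odd q) (c0 : F) (hnsq : ∀ x : F, x * x ≠ c0) :
    ∃ L : Subgroup (Matrix.GeneralLinearGroup (Fin d ⊕ Fin d) F), L ≤ Cfsg.spGL d F ∧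
      (∀ g ∈ L, (g : Matrix (Fin d ⊕ Fin d) (Fin d ⊕ Fin d) F) * j0 d c0 =
        j0 d c0 * (g : Matrix (Fin d ⊕ Fin d) (Fin d ⊕ Fin d) F)) ∧
      Nat.card L = guOrd q d := by
  classical
  have hfact : Fact (∀ r : F, r ^ 2 ≠ c0 + 0 * r) := ⟨fun r h => hnsq r (by rw [← pow_two, h, zero_mul, add_zero])⟩
  let _ : Fintype (QK c0) := Fintype.ofEquiv _ (QuadraticAlgebra.equivProd c0 0).symm
  have hcard : Fintype.card (QK c0) = q ^ 2 := by
    rw [← Nat.card_eq_fintype_card]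
    exact embk_card hq c0
  have hfrob : ∀ z : QK c0, z ^ q = star z := embk_frob hq hodd c0 hnsq
  let ψ : Matrix.GeneralLinearGroup (Fin d) (QK c0) →* Matrix.GeneralLinearGroup (Fin d ⊕ Fin d) F :=
    Units.map (sguemb_PhiHom d c0)
  have hψ : ∀ g : Matrix.GeneralLinearGroup (Fin d) (QK c0),
      ((ψ g : Matrix.GeneralLinearGroup (Fin d ⊕ Fin d) F) : Matrix (Fin d ⊕ Fin d) (Fin d ⊕ Fin d) F) =
        Phi d c0 (g : Matrix (Fin d) (Fin d) (QK c0)) := fun g => rfl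
  have hψi : Function.Injective ψ := by
    intro a b hab
    apply Units.ext
    apply phi_inj c0
    rw [← hψ, ← hψ, hab]
  refine ⟨(Cfsg.GU d (QK c0) q).map ψ, ?_, ?_, ?_⟩
  · rintro _ ⟨g, hg, rfl⟩
    rw [Cfsg.Agent.S5646.mem_spGL_iff]
    intro u w
    rw [hψ]
    exact phi_sp c0 hfrob _ (fun u w => hg u w) u w
  · rintro _ ⟨g, hg, rfl⟩
    rw [hψ]
    exact phi_comm c0 _
  · rw [Nat.card_congr ((Cfsg.GU d (QK c0) q).equivMapOfInjective ψ hψi).symm.toEquiv,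
      Cfsg.Agent.S0277.result hcard d]
    rfl

end Cfsg.Agent.Lib.helper14.SGU
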