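import Mathlib
import Cfsg.Agent.Lib.helper14.SGUDefs
import Cfsg.Agent.S0245
import Cfsg.Agent.Lib.helper14.UPolC
import Cfsg.Agent.Lib.Lead.TSDEXODDlead
import Cfsg.Agent.Lib.Helper10.SGUEMB

set_option autoImplicit false
set_option linter.unusedVariables false

/-! SGU row IDX (helper10), core: IDX with the normal form `j g₀ = g₀ j0` (rows FRAME + NFASM) as a hypothesis. -/

namespace Cfsg.Agent.Lib.helper14.SGU

open Polynomial Module Cfsg.Agent.Lib.Lead.SPU Cfsg.Agent.Lib.Helper19.SPD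

variable {F : Type*} [Field F] {d : ℕ}

theorem sguidx_core [Fintype F] {q : ℕ} (hq : Fintype.card F = q) (hodd : Odd q)
    {j : Matrix (Fin d ⊕ Fin d) (Fin d ⊕ Fin d) F} {c0 : F} (hJ : JS j c0)
    (hnf : ∃ g : Matrix.GeneralLinearGroup (Fin d ⊕ Fin d) F, g ∈ Cfsg.spGL d F ∧
      j * (g : Matrix (Fin d ⊕ Fin d) (Fin d ⊕ Fin d) F) = (g : Matrix (Fin d ⊕ Fin d) (Fin d ⊕ Fin d) F) * j0 d c0)
    (H : Subgroup (Matrix.GeneralLinearGroup (Fin d ⊕ Fin d) F)) (hH : ∀ g, InN j g → g ∈ H) :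
    H.relIndex (Cfsg.spGL d F) * guOrd q d ∣ spOrd q d := by
  classical
  obtain ⟨L, hLS, hLc, hLcard⟩ := emb (d := d) hq hodd c0 hJ.nsq
  obtain ⟨g₀, hg₀S, hg₀⟩ := hnf
  -- `g₀⁻¹ j = j0 g₀⁻¹`
  have hinv : ((g₀⁻¹ : Matrix.GeneralLinearGroup (Fin d ⊕ Fin d) F) : Matrix (Fin d ⊕ Fin d) (Fin d ⊕ Fin d) F) * j =
      j0 d c0 * ((g₀⁻¹ : Matrix.GeneralLinearGroup (Fin d ⊕ Fin d) F) : Matrix (Fin d ⊕ Fin d) (Fin d ⊕ Fin d) F) := by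
    have h1 : ((g₀⁻¹ : Matrix.GeneralLinearGroup (Fin d ⊕ Fin d) F) : Matrix (Fin d ⊕ Fin d) (Fin d ⊕ Fin d) F) *
        (g₀ : Matrix (Fin d ⊕ Fin d) (Fin d ⊕ Fin d) F) = 1 := by
      rw [← Units.val_mul, inv_mul_cancel, Units.val_one]
    have h2 : (g₀ : Matrix (Fin d ⊕ Fin d) (Fin d ⊕ Fin d) F) *
        ((g₀⁻¹ : Matrix.GeneralLinearGroup (Fin d ⊕ Fin d) F) : Matrix (Fin d ⊕ Fin d) (Fin d ⊕ Fin d) F) = 1 := by
      rw [← Units.val_mul, mul_inv_cancel, Units.val_one]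
    calc ((g₀⁻¹ : Matrix.GeneralLinearGroup (Fin d ⊕ Fin d) F) : Matrix (Fin d ⊕ Fin d) (Fin d ⊕ Fin d) F) * j
        = ((g₀⁻¹ : Matrix.GeneralLinearGroup (Fin d ⊕ Fin d) F) : Matrix (Fin d ⊕ Fin d) (Fin d ⊕ Fin d) F) * j *
            ((g₀ : Matrix (Fin d ⊕ Fin d) (Fin d ⊕ Fin d) F) *
            ((g₀⁻¹ : Matrix.GeneralLinearGroup (Fin d ⊕ Fin d) F) : Matrix (Fin d ⊕ Fin d) (Fin d ⊕ Fin d) F)) := by
          rw [h2, mul_one]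
      _ = ((g₀⁻¹ : Matrix.GeneralLinearGroup (Fin d ⊕ Fin d) F) : Matrix (Fin d ⊕ Fin d) (Fin d ⊕ Fin d) F) *
            (j * (g₀ : Matrix (Fin d ⊕ Fin d) (Fin d ⊕ Fin d) F)) *
            ((g₀⁻¹ : Matrix.GeneralLinearGroup (Fin d ⊕ Fin d) F) : Matrix (Fin d ⊕ Fin d) (Fin d ⊕ Fin d) F) := by
          simp only [mul_assoc]
      _ = j0 d c0 * ((g₀⁻¹ : Matrix.GeneralLinearGroup (Fin d ⊕ Fin d) F) : Matrix (Fin d ⊕ Fin d) (Fin d ⊕ Fin d) F) := by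
          rw [hg₀, ← mul_assoc, h1, one_mul]
  let L' : Subgroup (Matrix.GeneralLinearGroup (Fin d ⊕ Fin d) F) := L.map (MulAut.conj g₀).toMonoidHom
  have hL'card : Nat.card L' = guOrd q d := by
    rw [← hLcard]
    exact (Nat.card_congr (L.equivMapOfInjective (MulAut.conj g₀).toMonoidHom (MulAut.conj g₀).injective).toEquiv).symm
  have hL'S : L' ≤ Cfsg.spGL d F := by
    rintro _ ⟨g, hg, rfl⟩
    show g₀ * g * g₀⁻¹ ∈ Cfsg.spGL d F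
    exact mul_mem (mul_mem hg₀S (hLS hg)) (inv_mem hg₀S)
  have hL'H : L' ≤ H := by
    rintro _ ⟨g, hg, rfl⟩
    apply hH
    left
    show ((g₀ * g * g₀⁻¹ : Matrix.GeneralLinearGroup (Fin d ⊕ Fin d) F) : Matrix (Fin d ⊕ Fin d) (Fin d ⊕ Fin d) F) * j =
      j * ((g₀ * g * g₀⁻¹ : Matrix.GeneralLinearGroup (Fin d ⊕ Fin d) F) : Matrix (Fin d ⊕ Fin d) (Fin d ⊕ Fin d) F)
    rw [Units.val_mul, Units.val_mul]
    calc (g₀ : Matrix (Fin d ⊕ Fin d) (Fin d ⊕ Fin d) F) * (g : Matrix (Fin d ⊕ Fin d) (Fin d ⊕ Fin d) F) *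
          ((g₀⁻¹ : Matrix.GeneralLinearGroup (Fin d ⊕ Fin d) F) : Matrix (Fin d ⊕ Fin d) (Fin d ⊕ Fin d) F) * j
        = (g₀ : Matrix (Fin d ⊕ Fin d) (Fin d ⊕ Fin d) F) * (g : Matrix (Fin d ⊕ Fin d) (Fin d ⊕ Fin d) F) *
          (((g₀⁻¹ : Matrix.GeneralLinearGroup (Fin d ⊕ Fin d) F) : Matrix (Fin d ⊕ Fin d) (Fin d ⊕ Fin d) F) * j) := by
          simp only [mul_assoc]
      _ = (g₀ : Matrix (Fin d ⊕ Fin d) (Fin d ⊕ Fin d) F) * ((g : Matrix (Fin d ⊕ Fin d) (Fin d ⊕ Fin d) F) * j0 d c0) *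
          ((g₀⁻¹ : Matrix.GeneralLinearGroup (Fin d ⊕ Fin d) F) : Matrix (Fin d ⊕ Fin d) (Fin d ⊕ Fin d) F) := by
          rw [hinv]
          simp only [mul_assoc]
      _ = ((g₀ : Matrix (Fin d ⊕ Fin d) (Fin d ⊕ Fin d) F) * j0 d c0) * (g : Matrix (Fin d ⊕ Fin d) (Fin d ⊕ Fin d) F) *
          ((g₀⁻¹ : Matrix.GeneralLinearGroup (Fin d ⊕ Fin d) F) : Matrix (Fin d ⊕ Fin d) (Fin d ⊕ Fin d) F) := by
          rw [hLc g hg]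
          simp only [mul_assoc]
      _ = j * ((g₀ : Matrix (Fin d ⊕ Fin d) (Fin d ⊕ Fin d) F) * (g : Matrix (Fin d ⊕ Fin d) (Fin d ⊕ Fin d) F) *
          ((g₀⁻¹ : Matrix.GeneralLinearGroup (Fin d ⊕ Fin d) F) : Matrix (Fin d ⊕ Fin d) (Fin d ⊕ Fin d) F)) := by
          rw [← hg₀]
          simp only [mul_assoc]
  have h := Cfsg.Agent.Lib.helper14.UPolC.relIndex_mul_card_dvd (Cfsg.spGL d F) (Cfsg.spGL d F) H L' le_rfl hL'H 1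
    (by rw [Subgroup.relIndex_eq_one.mpr hL'S])
  rw [hL'card, mul_one, Cfsg.Agent.Lib.helper4.TSD.tsdexodd_lead_card, Cfsg.Agent.S0245.result hq d] at h
  exact h

end Cfsg.Agent.Lib.helper14.SGU
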