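import Mathlib
import Cfsg.Agent.Lib.helper14.SGUDefs
import Cfsg.Agent.Lib.Helper10.SGUIDXcore
import Cfsg.Agent.Lib.Helper19.SGUFRAME
import Cfsg.Agent.Lib.helper14.SGUNFASM

set_option autoImplicit false
set_option linter.unusedVariables false

/-! SGU row IDX (helper10): `|Sp : H ∩ Sp| · |GU_d(q)|` divides `|Sp_{2d}(q)|`. -/

namespace Cfsg.Agent.Lib.helper14.SGU

open Polynomial Module Cfsg.Agent.Lib.Lead.SPU Cfsg.Agent.Lib.Helper19.SPD

variable {F : Type*} [Field F] {d : ℕ}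

theorem idx [Fintype F] {q : ℕ} (hq : Fintype.card F = q) (hodd : Odd q)
    {j : Matrix (Fin d ⊕ Fin d) (Fin d ⊕ Fin d) F} {c0 : F} (hJ : JS j c0)
    (H : Subgroup (Matrix.GeneralLinearGroup (Fin d ⊕ Fin d) F)) (hH : ∀ g, InN j g → g ∈ H) :
    H.relIndex (Cfsg.spGL d F) * guOrd q d ∣ spOrd q d := by
  obtain ⟨v, hQ, horth⟩ := frame (by rw [hq]; exact hodd) hJ
  exact sguidx_core hq hodd hJ (sgunfasm14_nf_of_frame hJ v hQ horth) H hH

end Cfsg.Agent.Lib.helper14.SGU
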