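import Mathlib
import Cfsg.Prelude.Def_Blocks
import Cfsg.Prelude.Def_Solvable
import Cfsg.Agent.Lib.Helper10.SLB.Defs

/-! Project SLB, row A08 as a core: the statements of A01-A07 and G11 are hypotheses. -/

set_option autoImplicit false

namespace Cfsg.Agent.Lib.Helper10.SLB

universe u

variable {F : Type u} [Field F]

theorem slba08_core (p : ℕ) (n : ℕ)
    (hA01 : ∀ D : Subgroup (Matrix.SpecialLinearGroup (Fin n) F), IsPGroup p D → fixW D ≠ ⊥)
    (hA02 : ∀ D : Subgroup (Matrix.SpecialLinearGroup (Fin n) F), D ≠ ⊥ → fixW D ≠ ⊤)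
    (hA03 : ∀ (D : Subgroup (Matrix.SpecialLinearGroup (Fin n) F))
      (g : Matrix.SpecialLinearGroup (Fin n) F), g ∈ Subgroup.normalizer (D : Set _) →
      ∀ w : Fin n → F, w ∈ fixW D → (g : Matrix (Fin n) (Fin n) F).mulVec w ∈ fixW D)
    (hA04 : ∀ W : Submodule F (Fin n → F), IsPGroup p (uW W))
    (hA05 : ∀ (W : Submodule F (Fin n → F)) (g : Matrix.SpecialLinearGroup (Fin n) F),
      (∀ w ∈ W, (g : Matrix (Fin n) (Fin n) F).mulVec w ∈ W) →
      ∀ u : Matrix.SpecialLinearGroup (Fin n) F, u ∈ uW W → g * u * g⁻¹ ∈ uW W)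
    (hA06 : ∀ W : Submodule F (Fin n → F), W ≠ ⊥ → W ≠ ⊤ →
      ∀ x : Matrix.SpecialLinearGroup (Fin n) F, (∀ u ∈ uW W, u * x = x * u) →
      ∃ l : F, (∀ w ∈ W, (x : Matrix (Fin n) (Fin n) F).mulVec w = l • w) ∧
        ∀ v : Fin n → F, (x : Matrix (Fin n) (Fin n) F).mulVec v - l • v ∈ W)
    (hA07 : ∀ (W : Submodule F (Fin n → F)) (x : Matrix.SpecialLinearGroup (Fin n) F),
      ¬ p ∣ orderOf x → ∀ l : F,
      (∀ w ∈ W, (x : Matrix (Fin n) (Fin n) F).mulVec w = l • w) →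
      (∀ v : Fin n → F, (x : Matrix (Fin n) (Fin n) F).mulVec v - l • v ∈ W) →
      x ∈ Subgroup.center (Matrix.SpecialLinearGroup (Fin n) F))
    (hG11 : ∀ D Q : Subgroup (Matrix.SpecialLinearGroup (Fin n) F), IsPGroup p D → IsPGroup p Q →
      (Cfsg.pCore p (Subgroup.normalizer (D : Set (Matrix.SpecialLinearGroup (Fin n) F)))).map
        (Subgroup.normalizer (D : Set (Matrix.SpecialLinearGroup (Fin n) F))).subtype = D →
      Subgroup.normalizer (D : Set (Matrix.SpecialLinearGroup (Fin n) F)) ≤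
        Subgroup.normalizer (Q : Set (Matrix.SpecialLinearGroup (Fin n) F)) → Q ≤ D)
    (D : Subgroup (Matrix.SpecialLinearGroup (Fin n) F)) (hD : IsPGroup p D) (hD1 : D ≠ ⊥)
    (hrad : (Cfsg.pCore p (Subgroup.normalizer (D : Set (Matrix.SpecialLinearGroup (Fin n) F)))).map
      (Subgroup.normalizer (D : Set (Matrix.SpecialLinearGroup (Fin n) F))).subtype = D)
    (x : Matrix.SpecialLinearGroup (Fin n) F) (hx : ¬ p ∣ orderOf x)
    (hc : ∀ d ∈ D, d * x = x * d) :
    x ∈ Subgroup.center (Matrix.SpecialLinearGroup (Fin n) F) := by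
  have hN : Subgroup.normalizer (D : Set (Matrix.SpecialLinearGroup (Fin n) F)) ≤
      Subgroup.normalizer ((uW (fixW D)) : Set (Matrix.SpecialLinearGroup (Fin n) F)) := by
    intro g hg
    rw [Subgroup.mem_normalizer_iff]
    intro u
    constructor
    · intro hu
      exact hA05 (fixW D) g (fun w hw => hA03 D g hg w hw) u hu
    · intro hu
      have hg' : g⁻¹ ∈ Subgroup.normalizer (D : Set (Matrix.SpecialLinearGroup (Fin n) F)) :=
        Subgroup.inv_mem _ hg
      have := hA05 (fixW D) g⁻¹ (fun w hw => hA03 D g⁻¹ hg' w hw) (g * u * g⁻¹) hu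
      have e : g⁻¹ * (g * u * g⁻¹) * g⁻¹⁻¹ = u := by group
      rw [e] at this
      exact this
  have hQD := hG11 D (uW (fixW D)) hD (hA04 (fixW D)) hrad hN
  obtain ⟨l, h1, h2⟩ := hA06 (fixW D) (hA01 D hD) (hA02 D hD1) x (fun u hu => hc u (hQD hu))
  exact hA07 (fixW D) x hx l h1 h2

end Cfsg.Agent.Lib.Helper10.SLB
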