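import Mathlib
import Cfsg.Prelude.Def_Blocks
import Cfsg.Agent.S0908
import Cfsg.Agent.S0955
import Cfsg.Agent.S0956
import Cfsg.Agent.Lib.Helper25.DefectOneTwo
import Cfsg.Agent.Lib.Helper10.SLB.Defs

/-! Project SLB, row A09 as a core (ANY finite group): the statement of A08 (`rad_central`) is a hypothesis. -/

set_option autoImplicit false

namespace Cfsg.Agent.Lib.Helper10.SLB

/-- A09 core, for any finite group: if every non-trivial radical `p`-subgroup centralised by a
`p`-regular `x` forces `x` to be central, then every block has defect `0` or full defect. -/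
theorem slba09_core {G : Type*} [Group G] [Finite G] (p : ℕ) [Fact p.Prime]
    (hA08 : ∀ D : Subgroup G, IsPGroup p D → D ≠ ⊥ →
      (Cfsg.pCore p (Subgroup.normalizer (D : Set G))).map
        (Subgroup.normalizer (D : Set G)).subtype = D →
      ∀ x : G, ¬ p ∣ orderOf x → (∀ d ∈ D, d * x = x * d) → x ∈ Subgroup.center G)
    (M : Ideal Cfsg.AlgInt) (hM : Cfsg.IsPModular p M)
    (B : Set (Cfsg.IrrCharacter G)) (hB : Cfsg.IsPBlock M B) :
    Cfsg.blockDefect p B = 0 ∨ Cfsg.blockDefect p B = (Nat.card G).factorization p := by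
  have hp : p.Prime := Fact.out
  obtain ⟨D, hD⟩ := Cfsg.Agent.Lib.Helper25.sd_exists_defect p M hM B hB
  have hcard : Nat.card D = p ^ Cfsg.blockDefect p B := Cfsg.Agent.S0908.result p M hM B hB D hD
  have hDp : IsPGroup p D := IsPGroup.of_card hcard
  by_cases hD1 : D = ⊥
  · left
    subst hD1
    rw [Subgroup.card_bot] at hcard
    by_contra h0
    have : 1 < p ^ Cfsg.blockDefect p B := Nat.one_lt_pow h0 hp.one_lt
    omega
  · right
    obtain ⟨P, hDP⟩ := hDp.exists_le_sylow
    obtain ⟨x, hx, ⟨S, hS⟩, -⟩ := Cfsg.Agent.S0956.result p M hM B hB D hD P hDP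
    have hrad := Cfsg.Agent.S0955.result p M hM B hB D hD
    have hcomm : ∀ d ∈ D, d * x = x * d := by
      intro d hd
      rw [← hS] at hd
      obtain ⟨c, _, rfl⟩ := hd
      have := c.2
      rw [Subgroup.mem_centralizer_singleton_iff] at this
      exact this
    have hxc := hA08 D hDp hD1 hrad x hx hcomm
    have htop : Subgroup.centralizer ({x} : Set G) = ⊤ := by
      rw [Subgroup.centralizer_eq_top_iff_subset]
      intro y hy
      rw [Set.mem_singleton_iff] at hy
      rw [hy]
      exact hxc
    have h1 : Nat.card D = Nat.card S := by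
      rw [← hS]
      exact Subgroup.card_map_of_injective (Subgroup.subtype_injective _)
    have h2 : Nat.card S = p ^ (Nat.card (Subgroup.centralizer ({x} : Set G))).factorization p :=
      Sylow.card_eq_multiplicity S
    have h3 : Nat.card (Subgroup.centralizer ({x} : Set G)) = Nat.card G := by
      rw [htop, Subgroup.card_top]
    rw [h1, h2, h3] at hcard
    exact (Nat.pow_right_injective hp.two_le hcard).symm

end Cfsg.Agent.Lib.Helper10.SLB
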