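import Mathlib
import Cfsg.Agent.Lib.Helper10.SLB.Defs
import Cfsg.Agent.Lib.Helper10.SLBA08core
import Cfsg.Agent.Lib.Helper10.SLBA09core
import Cfsg.Agent.Lib.Helper29.SLBA01
import Cfsg.Agent.Lib.Helper29.SLBA02
import Cfsg.Agent.Lib.Helper20.SLBA03
import Cfsg.Agent.Lib.Helper21.SLBA04
import Cfsg.Agent.Lib.Helper21.SLBA05
import Cfsg.Agent.Lib.Helper18.SLBA06
import Cfsg.Agent.Lib.Helper18.SLBA07
import Cfsg.Agent.Lib.Helper9.SLBG11

/-! Project SLB, rows A08 (`rad_central`) and A09 (`dichotomy`), verbatim. -/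

set_option autoImplicit false

namespace Cfsg.Agent.Lib.Helper10.SLB

universe u

variable {F : Type u} [Field F]

/-- A08 [M] -/
theorem rad_central [Fintype F] (p : ℕ) [Fact p.Prime] [CharP F p] (n : ℕ) (hn : 1 ≤ n)
    (D : Subgroup (Matrix.SpecialLinearGroup (Fin n) F)) (hD : IsPGroup p D) (hD1 : D ≠ ⊥)
    (hrad : (Cfsg.pCore p (Subgroup.normalizer (D : Set (Matrix.SpecialLinearGroup (Fin n) F)))).map
      (Subgroup.normalizer (D : Set (Matrix.SpecialLinearGroup (Fin n) F))).subtype = D)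
    (x : Matrix.SpecialLinearGroup (Fin n) F) (hx : ¬ p ∣ orderOf x)
    (hc : ∀ d ∈ D, d * x = x * d) :
    x ∈ Subgroup.center (Matrix.SpecialLinearGroup (Fin n) F) :=
  slba08_core p n (fun D hD => fixW_ne_bot p n hn D hD) (fun D hD => fixW_ne_top n D hD)
    (fun D g hg w hw => fixW_normalizer n D g hg w hw) (fun W => uW_isPGroup p n W)
    (fun W g hg u hu => uW_conj n W g hg u hu)
    (fun W h0 h1 x hc => eigen_of_centralizes_uW n W h0 h1 x hc)
    (fun W x hx l h1 h2 => central_of_eigen p n W x hx l h1 h2)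
    (fun D Q hD hQ hrad hN => le_of_radical p D Q hD hQ hrad hN) D hD hD1 hrad x hx hc

/-- A09 [M] -/
theorem dichotomy [Fintype F] (p : ℕ) [Fact p.Prime] [CharP F p] (n : ℕ) (hn : 1 ≤ n)
    (M : Ideal Cfsg.AlgInt) (hM : Cfsg.IsPModular p M)
    (B : Set (Cfsg.IrrCharacter (Matrix.SpecialLinearGroup (Fin n) F))) (hB : Cfsg.IsPBlock M B) :
    Cfsg.blockDefect p B = 0 ∨ Cfsg.blockDefect p B =
      (Nat.card (Matrix.SpecialLinearGroup (Fin n) F)).factorization p :=
  slba09_core p (fun D hD hD1 hrad x hx hc => rad_central p n hn D hD hD1 hrad x hx hc) M hM B hB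

end Cfsg.Agent.Lib.Helper10.SLB
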