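import Mathlib
import Cfsg.Prelude.Def_Blocks
import Cfsg.Agent.Lib.Helper25.CharBasic
import Cfsg.Agent.Lib.Helper10.SLB.Defs

/-! Project SLB, finals F01 / F02 as cores: the statements of L11, E02, A09, C04, E03 are hypotheses. -/

set_option autoImplicit false

namespace Cfsg.Agent.Lib.Helper10.SLB

open Cfsg.Agent.Lib.Helper25

/-- F01 core: exactly one block of defect zero, given `≤ 1` (L11) and existence (E02). -/
theorem slbf01_core {G : Type*} [Group G] [Finite G] (p : ℕ) (M : Ideal Cfsg.AlgInt)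
    (hL11 : Nat.card {B : Set (Cfsg.IrrCharacter G) // Cfsg.IsPBlock M B ∧ Cfsg.blockDefect p B = 0} ≤ 1)
    (hE02 : ∃ B : Set (Cfsg.IrrCharacter G), Cfsg.IsPBlock M B ∧ Cfsg.blockDefect p B = 0) :
    Nat.card {B : Set (Cfsg.IrrCharacter G) // Cfsg.IsPBlock M B ∧ Cfsg.blockDefect p B = 0} = 1 := by
  have : Finite (Cfsg.IrrCharacter G) := inferInstance
  have : Finite (Set (Cfsg.IrrCharacter G)) := inferInstance
  apply le_antisymm hL11
  obtain ⟨B, hB⟩ := hE02
  have : Nonempty {B : Set (Cfsg.IrrCharacter G) // Cfsg.IsPBlock M B ∧ Cfsg.blockDefect p B = 0} :=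
    ⟨⟨B, hB⟩⟩
  exact Nat.card_pos

/-- F02 core: the number of blocks, given the dichotomy, the two counts and `a > 0`. -/
theorem slbf02_core {G : Type*} [Group G] [Finite G] (p : ℕ) (M : Ideal Cfsg.AlgInt) (a k : ℕ)
    (ha : 0 < a)
    (h0 : Nat.card {B : Set (Cfsg.IrrCharacter G) // Cfsg.IsPBlock M B ∧ Cfsg.blockDefect p B = 0} = 1)
    (hfull : Nat.card {B : Set (Cfsg.IrrCharacter G) // Cfsg.IsPBlock M B ∧ Cfsg.blockDefect p B = a} = k)
    (hdich : ∀ B : Set (Cfsg.IrrCharacter G), Cfsg.IsPBlock M B →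
      Cfsg.blockDefect p B = 0 ∨ Cfsg.blockDefect p B = a) :
    Nat.card {B : Set (Cfsg.IrrCharacter G) // Cfsg.IsPBlock M B} = k + 1 := by
  classical
  have : Finite (Cfsg.IrrCharacter G) := inferInstance
  have : Finite (Set (Cfsg.IrrCharacter G)) := inferInstance
  let e : {B : Set (Cfsg.IrrCharacter G) // Cfsg.IsPBlock M B} ≃
      {B : Set (Cfsg.IrrCharacter G) // Cfsg.IsPBlock M B ∧ Cfsg.blockDefect p B = a} ⊕
      {B : Set (Cfsg.IrrCharacter G) // Cfsg.IsPBlock M B ∧ Cfsg.blockDefect p B = 0} :=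
    { toFun := fun B =>
        if h : Cfsg.blockDefect p B.1 = a then Sum.inl ⟨B.1, B.2, h⟩
        else Sum.inr ⟨B.1, B.2, (hdich B.1 B.2).resolve_right h⟩
      invFun := fun s => Sum.elim (fun B => ⟨B.1, B.2.1⟩) (fun B => ⟨B.1, B.2.1⟩) s
      left_inv := by
        intro B
        by_cases h : Cfsg.blockDefect p B.1 = a
        · simp [h]
        · simp [h]
      right_inv := by
        rintro (B | B)
        · have h : Cfsg.blockDefect p B.1 = a := B.2.2
          simp [h]
        · have h : ¬ Cfsg.blockDefect p B.1 = a := by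
            rw [B.2.2]
            exact ha.ne
          simp [h] }
  rw [Nat.card_congr e, Nat.card_sum, hfull, h0]

end Cfsg.Agent.Lib.Helper10.SLB
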