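import Mathlib
import Cfsg.Agent.Lib.Helper16.AP3
import Cfsg.Agent.Lib.Helper10.SLB.Defs

/-! Project SLB, row L05a: `UT (m+1) F ≃ ι × (Fin m → F)`, `u = a i * rowMat ρ`. -/

set_option autoImplicit false

namespace Cfsg.Agent.Lib.Helper10.SLB

open Cfsg.Agent.Lib.Helper16.AP Matrix

universe u

variable {F : Type u} [Field F]

/-- replacing row `0` of a unitriangular matrix by `(1, ρ)` keeps it unitriangular -/
theorem slbl05a_isUT_setRow {m : ℕ} (A : Matrix (Fin (m + 1)) (Fin (m + 1)) F) (hA : IsUT A)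
    (ρ : Fin m → F) : IsUT (A.updateRow 0 (Fin.cons 1 ρ)) := by
  constructor
  · intro i j hji
    by_cases hi : i = 0
    · subst hi
      exact absurd hji (Fin.not_lt_zero j)
    · rw [Matrix.updateRow_ne hi]
      exact hA.1 i j hji
  · intro i
    by_cases hi : i = 0
    · subst hi
      rw [Matrix.updateRow_self]
      rfl
    · rw [Matrix.updateRow_ne hi]
      exact hA.2 i

/-- a unitriangular matrix is recovered from its rows `≥ 1` and the entries `(0, k+1)` -/
theorem slbl05a_setRow_self {m : ℕ} (A : Matrix (Fin (m + 1)) (Fin (m + 1)) F) (hA : IsUT A) :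
    A.updateRow 0 (Fin.cons 1 (fun k : Fin m => A 0 k.succ)) = A := by
  ext i j
  by_cases hi : i = 0
  · subst hi
    rw [Matrix.updateRow_self]
    refine Fin.cases ?_ (fun k => ?_) j
    · rw [Fin.cons_zero]
      exact (hA.2 0).symm
    · rw [Fin.cons_succ]
  · rw [Matrix.updateRow_ne hi]

/-- `A * rowMat ρ` for a unitriangular `A` with first row `e₀` -/
theorem slbl05a_mul_rowMat {m : ℕ} (A : Matrix (Fin (m + 1)) (Fin (m + 1)) F) (hA : IsUT A)
    (h0 : ∀ k : Fin m, A 0 k.succ = 0) (ρ : Fin m → F) :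
    A * rowMat ρ = A.updateRow 0 (Fin.cons 1 ρ) := by
  ext i j
  rw [Matrix.mul_apply, Fin.sum_univ_succ]
  have hrow : ∀ k : Fin m, (rowMat ρ) k.succ j = (1 : Matrix (Fin (m + 1)) (Fin (m + 1)) F) k.succ j := by
    intro k
    unfold rowMat
    rw [Matrix.updateRow_ne (Fin.succ_ne_zero k)]
  have hrow0 : (rowMat ρ) 0 j = (Fin.cons 1 ρ : Fin (m + 1) → F) j := by
    unfold rowMat
    rw [Matrix.updateRow_self]
  simp only [hrow, hrow0]
  by_cases hi : i = 0
  · subst hi
    rw [Matrix.updateRow_self, hA.2 0, one_mul]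
    have : ∑ k : Fin m, A 0 k.succ * (1 : Matrix (Fin (m + 1)) (Fin (m + 1)) F) k.succ j = 0 := by
      apply Finset.sum_eq_zero
      intro k _
      rw [h0 k, zero_mul]
    rw [this, add_zero]
  · rw [Matrix.updateRow_ne hi]
    have hi0 : A i 0 = 0 := hA.1 i 0 (Fin.pos_of_ne_zero hi)
    rw [hi0, zero_mul, zero_add]
    refine Fin.cases ?_ (fun l => ?_) j
    · rw [hi0]
      apply Finset.sum_eq_zero
      intro k _
      rw [Matrix.one_apply_ne (Fin.succ_ne_zero k), mul_zero]
    · rw [Finset.sum_eq_single l]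
      · rw [Matrix.one_apply_eq, mul_one]
      · intro k _ hk
        rw [Matrix.one_apply_ne (fun h => hk (Fin.succ_injective _ h)), mul_zero]
      · intro h
        exact absurd (Finset.mem_univ l) h

variable [Fintype F]

/-- the element of `UT` obtained by replacing row `0` by `(1, ρ)` -/
noncomputable def slbl05a_setRowUT {m : ℕ} (u : UT (m + 1) F) (ρ : Fin m → F) : UT (m + 1) F :=
  ⟨⟨(u.1 : Matrix (Fin (m + 1)) (Fin (m + 1)) F).updateRow 0 (Fin.cons 1 ρ),
      det_of_isUT _ (slbl05a_isUT_setRow _ u.2 ρ)⟩, slbl05a_isUT_setRow _ u.2 ρ⟩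

theorem slbl05a_setRowUT_coe {m : ℕ} (u : UT (m + 1) F) (ρ : Fin m → F) :
    ((slbl05a_setRowUT u ρ : Matrix.SpecialLinearGroup (Fin (m + 1)) F) :
      Matrix (Fin (m + 1)) (Fin (m + 1)) F) =
      (u.1 : Matrix (Fin (m + 1)) (Fin (m + 1)) F).updateRow 0 (Fin.cons 1 ρ) := rfl

/-- L05a [M] -/
theorem UT_decomp (m : ℕ) :
    ∃ (ι : Type u) (_ : Fintype ι) (e : UT (m + 1) F ≃ ι × (Fin m → F))
      (a : ι → Matrix (Fin (m + 1)) (Fin (m + 1)) F), (∀ i, (a i).det = 1) ∧
      ∀ u : UT (m + 1) F, ((u : Matrix.SpecialLinearGroup (Fin (m + 1)) F) :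
        Matrix (Fin (m + 1)) (Fin (m + 1)) F) = a (e u).1 * rowMat (e u).2 := by
  classical
  let ι : Type u := {a : UT (m + 1) F //
    ∀ k : Fin m, (a.1 : Matrix (Fin (m + 1)) (Fin (m + 1)) F) 0 k.succ = 0}
  have : Fintype ι := Fintype.ofFinite ι
  have hreset : ∀ u : UT (m + 1) F, ∀ k : Fin m,
      ((slbl05a_setRowUT u (0 : Fin m → F)).1 : Matrix (Fin (m + 1)) (Fin (m + 1)) F) 0 k.succ = 0 := by
    intro u k
    rw [slbl05a_setRowUT_coe, Matrix.updateRow_self, Fin.cons_succ]
    rfl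
  let e : UT (m + 1) F ≃ ι × (Fin m → F) :=
    { toFun := fun u => (⟨slbl05a_setRowUT u 0, hreset u⟩,
        fun k => (u.1 : Matrix (Fin (m + 1)) (Fin (m + 1)) F) 0 k.succ)
      invFun := fun x => slbl05a_setRowUT x.1.1 x.2
      left_inv := by
        intro u
        apply Subtype.ext
        apply Subtype.ext
        rw [slbl05a_setRowUT_coe, slbl05a_setRowUT_coe, Matrix.updateRow_idem]
        exact slbl05a_setRow_self _ u.2
      right_inv := by
        rintro ⟨⟨a, ha⟩, ρ⟩
        apply Prod.ext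
        · apply Subtype.ext
          apply Subtype.ext
          apply Subtype.ext
          show ((slbl05a_setRowUT (slbl05a_setRowUT a ρ) 0).1 : Matrix (Fin (m + 1)) (Fin (m + 1)) F) = _
          rw [slbl05a_setRowUT_coe, slbl05a_setRowUT_coe, Matrix.updateRow_idem]
          have h := slbl05a_setRow_self _ a.2
          have h2 : (fun k : Fin m => (a.1 : Matrix (Fin (m + 1)) (Fin (m + 1)) F) 0 k.succ) = 0 := by
            funext k
            exact ha k
          rw [h2] at h
          exact h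
        · funext k
          show ((slbl05a_setRowUT a ρ).1 : Matrix (Fin (m + 1)) (Fin (m + 1)) F) 0 k.succ = ρ k
          rw [slbl05a_setRowUT_coe, Matrix.updateRow_self, Fin.cons_succ] }
  refine ⟨ι, inferInstance, e, fun i => (i.1.1 : Matrix (Fin (m + 1)) (Fin (m + 1)) F), ?_, ?_⟩
  · intro i
    exact i.1.1.2
  · intro u
    show _ = ((slbl05a_setRowUT u 0).1 : Matrix (Fin (m + 1)) (Fin (m + 1)) F) *
      rowMat (fun k => (u.1 : Matrix (Fin (m + 1)) (Fin (m + 1)) F) 0 k.succ)
    rw [slbl05a_mul_rowMat _ (slbl05a_setRowUT u 0).2 (hreset u), slbl05a_setRowUT_coe,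
      Matrix.updateRow_idem]
    exact (slbl05a_setRow_self _ u.2).symm

end Cfsg.Agent.Lib.Helper10.SLB
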