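import Mathlib
import Cfsg.Agent.Lib.Helper16.AP3
import Cfsg.Agent.Lib.Helper10.SLB.Defs
import Cfsg.Agent.Lib.Helper10.SLBL05a
import Cfsg.Agent.Lib.Helper11.SLBL01
import Cfsg.Agent.Lib.Helper11.SLBL02
import Cfsg.Agent.Lib.Helper25.SLBL03
import Cfsg.Agent.Lib.Helper26.SLBL09core

/-! Project SLB, row L04 (second copy under own names, helper10): `slbl04_h10_rowMat_count_modEq`. -/

set_option autoImplicit false

open Polynomial

namespace Cfsg.Agent.Lib.Helper10.SLB

open Cfsg.Agent.Lib.Helper16.AP Matrix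

universe u

variable {F : Type u} [Field F]

theorem slbl04_h10_rowMat_mul {m : ℕ} (ρ : Fin m → F) (h : Matrix (Fin (m + 1)) (Fin (m + 1)) F) :
    rowMat ρ * h = h.updateRow 0 (fun j => h 0 j + ∑ k : Fin m, ρ k * h k.succ j) := by
  ext i j
  rw [Matrix.mul_apply]
  by_cases hi : i = 0
  · subst hi
    rw [Matrix.updateRow_self, Fin.sum_univ_succ]
    unfold rowMat
    simp only [Matrix.updateRow_self, Fin.cons_zero, Fin.cons_succ, one_mul]
  · rw [Matrix.updateRow_ne hi]
    unfold rowMat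
    simp only [Matrix.updateRow_ne hi]
    rw [Finset.sum_eq_single i]
    · rw [Matrix.one_apply_eq, one_mul]
    · intro k _ hk
      rw [Matrix.one_apply_ne (Ne.symm hk), zero_mul]
    · intro hh
      exact absurd (Finset.mem_univ i) hh

theorem slbl04_h10_det_rowMat [Fintype F] {m : ℕ} (ρ : Fin m → F) : (rowMat ρ).det = 1 :=
  det_of_isUT _ (slbl05a_isUT_setRow _ IsUT_one ρ)

/-- L04, second copy -/
theorem slbl04_h10_rowMat_count_modEq [Fintype F] (p : ℕ) [Fact p.Prime] [CharP F p] (m : ℕ)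
    (h : Matrix (Fin (m + 1)) (Fin (m + 1)) F) (hh : h.det = 1) (f f' : F[X])
    (hf : f ∈ polyT F (m + 1)) (hf' : f' ∈ polyT F (m + 1)) :
    Nat.card {ρ : Fin m → F // (rowMat ρ * h).charpoly = f} ≡
      Nat.card {ρ : Fin m → F // (rowMat ρ * h).charpoly = f'} [MOD p] := by
  classical
  obtain ⟨c₀, c, hc⟩ := charpoly_updateRow h 0
  set c₀' : F[X] := c₀ - ∑ j, C (h 0 j) * c j with hc₀'
  set c' : Fin m → F[X] := fun k => ∑ j, C (h k.succ j) * c j with hc'
  have key : ∀ ρ : Fin m → F, (rowMat ρ * h).charpoly = c₀' - ∑ k, C (ρ k) * c' k := by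
    intro ρ
    rw [slbl04_h10_rowMat_mul, hc]
    have e : ∑ j, C (h 0 j + ∑ k : Fin m, ρ k * h k.succ j) * c j
        = ∑ j, C (h 0 j) * c j + ∑ k, C (ρ k) * c' k := by
      have e1 : ∀ j, C (h 0 j + ∑ k : Fin m, ρ k * h k.succ j) * c j
          = C (h 0 j) * c j + ∑ k : Fin m, C (ρ k) * (C (h k.succ j) * c j) := by
        intro j
        rw [C_add, add_mul, map_sum, Finset.sum_mul]
        congr 1
        apply Finset.sum_congr rfl
        intro k _
        rw [C_mul, mul_assoc]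
      simp only [e1]
      rw [Finset.sum_add_distrib, Finset.sum_comm]
      congr 1
      apply Finset.sum_congr rfl
      intro k _
      rw [hc', Finset.mul_sum]
    rw [e, hc₀']
    ring
  have hmaps : ∀ ρ : Fin m → F, c₀' - ∑ k, C (ρ k) * c' k ∈ polyT F (m + 1) := by
    intro ρ
    rw [← key ρ]
    have hdet : (rowMat ρ * h).det = 1 := by
      rw [Matrix.det_mul, slbl04_h10_det_rowMat, hh, mul_one]
    exact slbl09_charpoly_mem (m + 1) ⟨rowMat ρ * h, hdet⟩
  have hcount : ∀ f₀ : F[X], Nat.card {ρ : Fin m → F // (rowMat ρ * h).charpoly = f₀} =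
      Nat.card {ρ : Fin m → F // c₀' - ∑ k, C (ρ k) * c' k = f₀} := by
    intro f₀
    apply Nat.card_congr
    exact Equiv.subtypeEquivRight (fun ρ => by rw [key ρ])
  rw [hcount f, hcount f']
  exact fibre_card_modEq p c₀' c' (polyT F (m + 1)) (card_polyT m) hmaps f f' hf hf'

end Cfsg.Agent.Lib.Helper10.SLB
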