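import Mathlib
import Cfsg.Agent.Lib.Helper16.AP3
import Cfsg.Agent.Lib.Helper10.SLB.Defs
import Cfsg.Agent.Lib.Helper10.SLBL05a

/-! Project SLB, row L05 as a core: the statement of L04 (`rowMat_count_modEq`) is a hypothesis. -/

set_option autoImplicit false

open Polynomial

namespace Cfsg.Agent.Lib.Helper10.SLB

open Cfsg.Agent.Lib.Helper16.AP Matrix

universe u

variable {F : Type u} [Field F] [Fintype F]

/-- counting over a product, fibrewise congruence -/
theorem slbl05_card_prod_modEq {ι β : Type*} [Fintype ι] [Finite β] (p : ℕ) (Q Q' : ι × β → Prop)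
    (h : ∀ i, Nat.card {b : β // Q (i, b)} ≡ Nat.card {b : β // Q' (i, b)} [MOD p]) :
    Nat.card {x : ι × β // Q x} ≡ Nat.card {x : ι × β // Q' x} [MOD p] := by
  classical
  have key : ∀ R : ι × β → Prop, Nat.card {x : ι × β // R x} = ∑ i, Nat.card {b : β // R (i, b)} := by
    intro R
    let e : {x : ι × β // R x} ≃ Σ i, {b : β // R (i, b)} :=
      { toFun := fun x => ⟨x.1.1, ⟨x.1.2, x.2⟩⟩
        invFun := fun s => ⟨(s.1, s.2.1), s.2.2⟩
        left_inv := fun x => rfl
        right_inv := fun s => rfl }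
    rw [Nat.card_congr e, Nat.card_sigma]
  rw [key Q, key Q']
  unfold Nat.ModEq
  rw [Finset.sum_nat_mod, Finset.sum_nat_mod (f := fun i => Nat.card {b : β // Q' (i, b)})]
  congr 1
  apply Finset.sum_congr rfl
  intro i _
  exact h i

/-- L05 core: dep L04 as a hypothesis -/
theorem slbl05_core (p : ℕ) [Fact p.Prime] [CharP F p]
    (hL04 : ∀ (m : ℕ) (h : Matrix (Fin (m + 1)) (Fin (m + 1)) F) (_ : h.det = 1) (f f' : F[X])
      (_ : f ∈ polyT F (m + 1)) (_ : f' ∈ polyT F (m + 1)),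
      Nat.card {ρ : Fin m → F // (rowMat ρ * h).charpoly = f} ≡
        Nat.card {ρ : Fin m → F // (rowMat ρ * h).charpoly = f'} [MOD p])
    (n : ℕ) (hn : 1 ≤ n)
    (g : Matrix.SpecialLinearGroup (Fin n) F) (f f' : F[X]) (hf : f ∈ polyT F n)
    (hf' : f' ∈ polyT F n) :
    Nat.card {u : UT n F // ((u : Matrix.SpecialLinearGroup (Fin n) F) * g).1.charpoly = f} ≡
      Nat.card {u : UT n F // ((u : Matrix.SpecialLinearGroup (Fin n) F) * g).1.charpoly = f'}
        [MOD p] := by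
  classical
  obtain ⟨m, rfl⟩ : ∃ m, n = m + 1 := ⟨n - 1, by omega⟩
  obtain ⟨ι, hι, e, a, hdet, hdec⟩ := UT_decomp (F := F) m
  have hcp : ∀ (u : UT (m + 1) F) (f₀ : F[X]),
      ((u : Matrix.SpecialLinearGroup (Fin (m + 1)) F) * g).1.charpoly = f₀ ↔
        (rowMat (e u).2 * ((g : Matrix (Fin (m + 1)) (Fin (m + 1)) F) * a (e u).1)).charpoly = f₀ := by
    intro u f₀
    have h1 : ((u : Matrix.SpecialLinearGroup (Fin (m + 1)) F) * g).1 =
        a (e u).1 * (rowMat (e u).2 * (g : Matrix (Fin (m + 1)) (Fin (m + 1)) F)) := by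
      show ((u : Matrix.SpecialLinearGroup (Fin (m + 1)) F) : Matrix (Fin (m + 1)) (Fin (m + 1)) F) *
        (g : Matrix (Fin (m + 1)) (Fin (m + 1)) F) = _
      rw [hdec u, Matrix.mul_assoc]
    rw [h1, Matrix.charpoly_mul_comm, Matrix.mul_assoc]
  have hcount : ∀ f₀ : F[X],
      Nat.card {u : UT (m + 1) F //
        ((u : Matrix.SpecialLinearGroup (Fin (m + 1)) F) * g).1.charpoly = f₀} =
      Nat.card {x : ι × (Fin m → F) //
        (rowMat x.2 * ((g : Matrix (Fin (m + 1)) (Fin (m + 1)) F) * a x.1)).charpoly = f₀} := by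
    intro f₀
    apply Nat.card_congr
    exact e.subtypeEquiv (fun u => hcp u f₀)
  rw [hcount f, hcount f']
  apply slbl05_card_prod_modEq p
    (fun x : ι × (Fin m → F) =>
      (rowMat x.2 * ((g : Matrix (Fin (m + 1)) (Fin (m + 1)) F) * a x.1)).charpoly = f)
    (fun x : ι × (Fin m → F) =>
      (rowMat x.2 * ((g : Matrix (Fin (m + 1)) (Fin (m + 1)) F) * a x.1)).charpoly = f')
  intro i
  have hd : ((g : Matrix (Fin (m + 1)) (Fin (m + 1)) F) * a i).det = 1 := by
    rw [Matrix.det_mul, hdet i, mul_one]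
    exact g.2
  exact hL04 m _ hd f f' hf hf'

end Cfsg.Agent.Lib.Helper10.SLB
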