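import Mathlib
import Cfsg.Agent.Lib.Helper16.AP3
import Cfsg.Agent.Lib.Helper10.SLB.Defs
import Cfsg.Agent.Lib.Helper10.SLBL05core
import Cfsg.Agent.Lib.Helper10.SLBL04h10

/-! Project SLB, row L05 (`charpoly_count_modEq`), verbatim. -/

set_option autoImplicit false

open Polynomial

namespace Cfsg.Agent.Lib.Helper10.SLB

open Cfsg.Agent.Lib.Helper16.AP

universe u

variable {F : Type u} [Field F]

/-- L05 [M] -/
theorem charpoly_count_modEq [Fintype F] (p : ℕ) [Fact p.Prime] [CharP F p] (n : ℕ) (hn : 1 ≤ n)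
    (g : Matrix.SpecialLinearGroup (Fin n) F) (f f' : F[X]) (hf : f ∈ polyT F n)
    (hf' : f' ∈ polyT F n) :
    Nat.card {u : UT n F // ((u : Matrix.SpecialLinearGroup (Fin n) F) * g).1.charpoly = f} ≡
      Nat.card {u : UT n F // ((u : Matrix.SpecialLinearGroup (Fin n) F) * g).1.charpoly = f'}
        [MOD p] :=
  slbl05_core p (fun m h hh f f' hf hf' => slbl04_h10_rowMat_count_modEq p m h hh f f' hf hf')
    n hn g f f' hf hf'

end Cfsg.Agent.Lib.Helper10.SLB
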