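import Mathlib
import Cfsg.Agent.Lib.Helper16.AP3
import Cfsg.Agent.Lib.Helper10.SLB.Defs
import Cfsg.Agent.Lib.Helper10.SLBL05
import Cfsg.Agent.Lib.Helper13.SLBG05
import Cfsg.Agent.Lib.Helper13.SLBG06
import Cfsg.Agent.Lib.Helper27.SLBG08core
import Cfsg.Agent.Lib.helper15.SLBG09
import Cfsg.Agent.Lib.Helper18.SLBL07
import Cfsg.Agent.Lib.helper15.SLBL08core
import Cfsg.Agent.Lib.Helper26.SLBL09core
import Cfsg.Agent.Lib.Helper25.SLBL10
import Cfsg.Agent.Lib.Helper20.SLBL11core

/-! Project SLB: own-name assembly (helper10) of the statements of L08, L09, G08 (for `SL_n`), L11 from the landed cores,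
so that the finals do not wait for the verbatim wrappers. -/

set_option autoImplicit false

open Polynomial

namespace Cfsg.Agent.Lib.Helper10.SLB

open Cfsg.Agent.Lib.Helper16.AP

universe u

variable {F : Type u} [Field F] [Fintype F]

/-- = statement of L08 -/
theorem slbfin_isConj_of_charpoly_eq (p : ℕ) [Fact p.Prime] [CharP F p] (n : ℕ)
    (x y : Matrix.SpecialLinearGroup (Fin n) F) (hx : PFree p x)
    (hc : (y : Matrix (Fin n) (Fin n) F).charpoly = (x : Matrix (Fin n) (Fin n) F).charpoly) :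
    IsConj x y :=
  slbl08_core n x y (squarefree_of_pfree p n x hx) hc

/-- = statement of L09 -/
theorem slbfin_cnt_UT_modEq (p : ℕ) [Fact p.Prime] [CharP F p] (n : ℕ) (hn : 1 ≤ n)
    (C C' : ConjClasses (Matrix.SpecialLinearGroup (Fin n) F)) (hC : Good p C) (hC' : Good p C')
    (g : Matrix.SpecialLinearGroup (Fin n) F) :
    cnt (UT n F) C.carrier g ≡ cnt (UT n F) C'.carrier g [MOD p] :=
  slbl09_core p n (fun C hC => good_adm p C hC) g
    (fun f f' hf hf' => charpoly_count_modEq p n hn g f f' hf hf')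
    (fun x y hx hc => slbfin_isConj_of_charpoly_eq p n x y hx hc) C C' hC hC'

/-- = statement of L11 -/
theorem slbfin_defect_zero_le_one_SL (p : ℕ) [Fact p.Prime] [CharP F p] (n : ℕ) (hn : 1 ≤ n)
    (M : Ideal Cfsg.AlgInt) (hM : Cfsg.IsPModular p M) :
    Nat.card {B : Set (Cfsg.IrrCharacter (Matrix.SpecialLinearGroup (Fin n) F)) //
      Cfsg.IsPBlock M B ∧ Cfsg.blockDefect p B = 0} ≤ 1 := by
  classical
  haveI : Fintype (Matrix.SpecialLinearGroup (Fin n) F) := Fintype.ofFinite _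
  exact slbl11_core p n hn M hM
    (fun S h => slbg08_core p
      (fun S K₁ K₂ K₁' K₂' h1 h2 h3 h4 h5 h6 => omega_congr p S K₁ K₂ K₁' K₂' h1 h2 h3 h4 h5 h6)
      (fun C hC => good_adm p C hC) M hM S h)
    (fun B hB => defect_zero_iff p M hM B hB)
    (fun C C' hC hC' g => slbfin_cnt_UT_modEq p n hn C C' hC hC' g)
    (exists_sylow_UT p n hn)

end Cfsg.Agent.Lib.Helper10.SLB
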