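import Mathlib
import Cfsg.Agent.Lib.Helper10.SLB.Defs
import Cfsg.Agent.Lib.Helper10.SLBF01core
import Cfsg.Agent.Lib.Helper10.SLBA08
import Cfsg.Agent.Lib.Helper10.SLBFfin
import Cfsg.Agent.Lib.Helper28.SLBE02
import Cfsg.Agent.Lib.Helper25.SLBC04
import Cfsg.Agent.Lib.Helper12.SLBE03

/-! Project SLB, finals F01 (`main_S4538`) and F02 (`main_S2440`), verbatim. -/

set_option autoImplicit false

namespace Cfsg.Agent.Lib.Helper10.SLB

/-- F01 = S4538 -/
theorem main_S4538 {F : Type*} [Field F] [Fintype F] (n : ℕ) (hn : 2 ≤ n) (p : ℕ) [Fact p.Prime] [CharP F p] (M : Ideal Cfsg.AlgInt) (hM : Cfsg.IsPModular p M) : Nat.card {B : Set (Cfsg.IrrCharacter (Matrix.SpecialLinearGroup (Fin n) F)) // Cfsg.IsPBlock M B ∧ Cfsg.blockDefect p B = 0} = 1 ∧ ∀ B : Set (Cfsg.IrrCharacter (Matrix.SpecialLinearGroup (Fin n) F)), Cfsg.IsPBlock M B → Cfsg.blockDefect p B = 0 ∨ Cfsg.blockDefect p B = (Nat.card (Matrix.SpecialLinearGroup (Fin n)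 F)).factorization p :=
  ⟨slbf01_core p M (slbfin_defect_zero_le_one_SL p n (by omega) M hM) (exists_defect_zero_block p n hn M hM),
    fun B hB => dichotomy p n (by omega) M hM B hB⟩

/-- F02 = S2440 -/
theorem main_S2440 (p : ℕ) [Fact p.Prime] (n : ℕ) (hn : 2 ≤ n) (M : Ideal Cfsg.AlgInt) (hM : Cfsg.IsPModular p M) :
    Nat.card {B : Set (Cfsg.IrrCharacter (Matrix.SpecialLinearGroup (Fin n) (ZMod p))) // Cfsg.IsPBlock M B} =
      Nat.gcd n (p - 1) + 1 := by
  have h := main_S4538 (F := ZMod p) n hn p M hM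
  have hc := card_full_defect (F := ZMod p) p n hn M hM
  rw [ZMod.card p] at hc
  exact slbf02_core p M _ _ (factorization_card_SL_pos (F := ZMod p) p n hn) h.1 hc h.2

end Cfsg.Agent.Lib.Helper10.SLB
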