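import Cfsg.Agent.Lib.helper15.SLM.Defs

set_option autoImplicit false
set_option linter.unusedSectionVars false
set_option linter.unusedVariables false

namespace Cfsg.Agent.Lib.helper15.SLM

open Matrix

section B

variable {F : Type*} [Field F] [Fintype F] [DecidableEq F]
  {κ : Type*} [Fintype κ] [DecidableEq κ]

/-- B0 : the basic commutator identity `[1 + y ζᵀ, 1 + z ηᵀ] = 1 + y ηᵀ` -/
theorem tvMat_comm (y η z ζ : κ → F) (h1 : ζ ⬝ᵥ y = 0) (h2 : η ⬝ᵥ z = 0) (h3 : η ⬝ᵥ y = 0)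
    (h4 : ζ ⬝ᵥ z = 1) : tvMat y η * tvMat z η * tvMat y ζ = tvMat y ζ * tvMat z η := by
  apply Matrix.mulVec_injective
  funext x
  simp only [← Matrix.mulVec_mulVec, tvMat_mulVec, dotProduct_add, dotProduct_smul, h2, h3, h4,
    smul_eq_mul, mul_zero, mul_one, add_zero]
  module

/-- auxiliary: a vector in the kernel of `η` outside a small subspace, and a dual vector -/
theorem h10_exists_z_zeta (y η w : κ → F) (hη : η ≠ 0)
    (h0 : η ⬝ᵥ y = 0) (hw0 : η ⬝ᵥ w = 0)
    (hdim : 4 ≤ Fintype.card κ ∨ (3 ≤ Fintype.card κ ∧ ∃ a : F, w = a • y)) :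
    ∃ z ζ : κ → F, η ⬝ᵥ z = 0 ∧ ζ ⬝ᵥ y = 0 ∧ ζ ⬝ᵥ w = 0 ∧ ζ ⬝ᵥ z = 1 := by
  classical
  set φ : Module.Dual F (κ → F) := dotProductEquiv F κ η with hφ
  have hφ0 : φ ≠ 0 := by
    intro h
    apply hη
    have : dotProductEquiv F κ η = dotProductEquiv F κ 0 := by rw [map_zero]; exact h
    exact (dotProductEquiv F κ).injective this
  have hker : Module.finrank F (LinearMap.ker φ) + 1 = Fintype.card κ := by
    rw [Module.Dual.finrank_ker_add_one_of_ne_zero hφ0, Module.finrank_fintype_fun_eq_card]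
  have hφapp : ∀ x, φ x = η ⬝ᵥ x := fun x => rfl
  -- the small subspace
  obtain ⟨S, hyS, hwS, hS⟩ : ∃ S : Submodule F (κ → F), y ∈ S ∧ w ∈ S ∧
      Module.finrank F S + 1 < Fintype.card κ := by
    rcases hdim with h4 | ⟨h3, a, ha⟩
    · refine ⟨Submodule.span F (({y, w} : Finset (κ → F)) : Set (κ → F)), ?_, ?_, ?_⟩
      · apply Submodule.subset_span
        simp
      · apply Submodule.subset_span
        simp
      · have : Module.finrank F (Submodule.span F (({y, w} : Finset (κ → F)) : Set (κ → F))) ≤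
            ({y, w} : Finset (κ → F)).card :=
          finrank_span_finset_le_card (R := F) ({y, w} : Finset (κ → F))
        have h2 : ({y, w} : Finset (κ → F)).card ≤ 2 := Finset.card_le_two
        omega
    · refine ⟨Submodule.span F (({y} : Finset (κ → F)) : Set (κ → F)), ?_, ?_, ?_⟩
      · apply Submodule.subset_span
        simp
      · rw [ha]
        apply Submodule.smul_mem
        apply Submodule.subset_span
        simp
      · have : Module.finrank F (Submodule.span F (({y} : Finset (κ → F)) : Set (κ → F))) ≤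
            ({y} : Finset (κ → F)).card :=
          finrank_span_finset_le_card (R := F) ({y} : Finset (κ → F))
        have h2 : ({y} : Finset (κ → F)).card = 1 := Finset.card_singleton _
        omega
  have hnot : ¬ LinearMap.ker φ ≤ S := by
    intro hle
    have := Submodule.finrank_mono hle
    omega
  obtain ⟨z, hzK, hzS⟩ := SetLike.not_le_iff_exists.1 hnot
  obtain ⟨f, hfz, hSf⟩ := Submodule.exists_le_ker_of_notMem hzS
  refine ⟨z, (f z)⁻¹ • (dotProductEquiv F κ).symm f, ?_, ?_, ?_, ?_⟩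
  · rw [← hφapp]
    exact hzK
  all_goals
    have key : ∀ x, ((dotProductEquiv F κ).symm f) ⬝ᵥ x = f x := by
      intro x
      have := LinearMap.congr_fun ((dotProductEquiv F κ).apply_symm_apply f) x
      exact this
    rw [smul_dotProduct, key, smul_eq_mul]
  · have : f y = 0 := hSf hyS
    rw [this, mul_zero]
  · have : f w = 0 := hSf hwS
    rw [this, mul_zero]
  · exact inv_mul_cancel₀ hfz

/-- B1 (E0a) : unipotent commutators -/
theorem comm_expr_unip (y η w : κ → F) (hy : y ≠ 0) (hη : η ≠ 0) (hw : w ≠ 0)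
    (h0 : η ⬝ᵥ y = 0) (hw0 : η ⬝ᵥ w = 0)
    (hdim : 4 ≤ Fintype.card κ ∨ (3 ≤ Fintype.card κ ∧ ∃ a : F, w = a • y)) :
    ∃ B₁ B₂ : Matrix κ κ F, B₁.det = 1 ∧ B₂.det = 1 ∧ B₁ *ᵥ w = w ∧ B₂ *ᵥ w = w ∧
      tvMat y η * B₂ * B₁ = B₁ * B₂ := by
  obtain ⟨z, ζ, hz, hζy, hζw, hζz⟩ := h10_exists_z_zeta y η w hη h0 hw0 hdim
  refine ⟨tvMat y ζ, tvMat z η, tvMat_det y ζ hζy, tvMat_det z η hz, ?_, ?_, ?_⟩
  · rw [tvMat_mulVec, hζw, zero_smul, add_zero]
  · rw [tvMat_mulVec, hw0, zero_smul, add_zero]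
  · exact tvMat_comm y η z ζ hζy hz h0 hζz

end B

end Cfsg.Agent.Lib.helper15.SLM
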