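import Cfsg.Agent.Lib.helper15.SLM.Defs

set_option autoImplicit false
set_option linter.unusedSectionVars false
set_option linter.unusedVariables false

namespace Cfsg.Agent.Lib.helper15.SLM

open Matrix

section B

variable {F : Type*} [Field F] [Fintype F] [DecidableEq F]
  {κ : Type*} [Fintype κ] [DecidableEq κ]

/-- a nonzero element whose cube is not one, `q ∉ {2, 4}` -/
theorem h10_exists_cube_ne_one (hq2 : Fintype.card F ≠ 2) (hq4 : Fintype.card F ≠ 4) :
    ∃ a : F, a ≠ 0 ∧ a ^ 3 ≠ 1 := by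
  classical
  obtain ⟨g, hg⟩ := IsCyclic.exists_generator (α := Fˣ)
  have hord : orderOf g = Fintype.card F - 1 := by
    rw [orderOf_eq_card_of_forall_mem_zpowers hg, Nat.card_eq_fintype_card, Fintype.card_units]
  refine ⟨(g : F), g.ne_zero, ?_⟩
  intro h3
  have h3' : g ^ 3 = 1 := by
    apply Units.ext
    rw [Units.val_pow_eq_pow_val, h3, Units.val_one]
  have hdvd : Fintype.card F - 1 ∣ 3 := by
    rw [← hord]
    exact orderOf_dvd_of_pow_eq_one h3'
  have hcard : 2 ≤ Fintype.card F := Fintype.one_lt_card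
  rcases (Nat.dvd_prime Nat.prime_three).1 hdvd with h | h
  · omega
  · omega

/-- determinant of `1 + y ζᵀ` in general -/
theorem h10_tvMat_det' (y η : κ → F) : (tvMat y η).det = 1 + η ⬝ᵥ y := by
  have h1 : tvMat y η = 1 + replicateCol Unit y * replicateRow Unit η := by
    ext i j
    simp [tvMat_apply, Matrix.mul_apply, Matrix.one_apply]
  rw [h1, Matrix.det_one_add_replicateCol_mul_replicateRow]

/-- in dimension two the kernel of a nonzero functional is a line -/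
theorem h10_ker_line (hκ : Fintype.card κ = 2) (y η w : κ → F) (hy : y ≠ 0) (hη : η ≠ 0)
    (h0 : η ⬝ᵥ y = 0) (hw0 : η ⬝ᵥ w = 0) : ∃ d : F, w = d • y := by
  classical
  set φ : Module.Dual F (κ → F) := dotProductEquiv F κ η with hφ
  have hφ0 : φ ≠ 0 := by
    intro h
    apply hη
    have : dotProductEquiv F κ η = dotProductEquiv F κ 0 := by rw [map_zero]; exact h
    exact (dotProductEquiv F κ).injective this
  have hker : Module.finrank F (LinearMap.ker φ) + 1 = Fintype.card κ := by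
    rw [Module.Dual.finrank_ker_add_one_of_ne_zero hφ0, Module.finrank_fintype_fun_eq_card]
  have hker1 : Module.finrank F (LinearMap.ker φ) = 1 := by omega
  have hyK : y ∈ LinearMap.ker φ := h0
  have hwK : w ∈ LinearMap.ker φ := hw0
  have hy' : (⟨y, hyK⟩ : LinearMap.ker φ) ≠ 0 := by
    intro h
    apply hy
    exact congrArg Subtype.val h
  obtain ⟨d, hd⟩ := (finrank_eq_one_iff_of_nonzero' (⟨y, hyK⟩ : LinearMap.ker φ) hy').1 hker1
    ⟨w, hwK⟩
  refine ⟨d, ?_⟩
  have := congrArg Subtype.val hd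
  exact this.symm

/-- B3 (E0c) : two dimensions, `q ∉ {2, 4}` -/
theorem comm_expr_two (hκ : Fintype.card κ = 2) (hq2 : Fintype.card F ≠ 2)
    (hq4 : Fintype.card F ≠ 4)
    (y η w : κ → F) (hy : y ≠ 0) (hη : η ≠ 0) (hw : w ≠ 0)
    (h0 : η ⬝ᵥ y = 0) (hw0 : η ⬝ᵥ w = 0) :
    ∃ B₁ B₂ : Matrix κ κ F, B₁.det ≠ 0 ∧ B₂.det ≠ 0 ∧
      B₁ *ᵥ w = (B₁.det)⁻¹ • w ∧ B₂ *ᵥ w = (B₂.det)⁻¹ • w ∧
      tvMat y η * B₂ * B₁ = B₁ * B₂ := by
  classical
  obtain ⟨a, ha0, ha3⟩ := h10_exists_cube_ne_one (F := F) hq2 hq4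
  obtain ⟨d, hd⟩ := h10_ker_line hκ y η w hy hη h0 hw0
  -- a dual vector for y
  obtain ⟨i, hi⟩ : ∃ i, y i ≠ 0 := by
    by_contra hcon
    push Not at hcon
    exact hy (funext hcon)
  set ζ : κ → F := Pi.single i (y i)⁻¹ with hζ
  have hζy : ζ ⬝ᵥ y = 1 := by
    rw [hζ, single_dotProduct, inv_mul_cancel₀ hi]
  set c : F := a ^ 3 - 1 with hc
  have hc0 : c ≠ 0 := sub_ne_zero.2 ha3
  set β : F := (a ^ 2)⁻¹ with hβ
  have hβ0 : β ≠ 0 := inv_ne_zero (pow_ne_zero 2 ha0)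
  have hdet1 : (β • tvMat y (c • ζ)).det = a⁻¹ := by
    rw [Matrix.det_smul, hκ, h10_tvMat_det', smul_dotProduct, hζy, hβ, hc]
    field_simp
    ring
  have hB2dot : (c⁻¹ • η) ⬝ᵥ y = 0 := by rw [smul_dotProduct, h0, smul_zero]
  have hdet2 : (tvMat y (c⁻¹ • η)).det = 1 := tvMat_det _ _ hB2dot
  refine ⟨β • tvMat y (c • ζ), tvMat y (c⁻¹ • η), ?_, ?_, ?_, ?_, ?_⟩
  · rw [hdet1]
    exact inv_ne_zero ha0
  · rw [hdet2]
    exact one_ne_zero
  · rw [hdet1, inv_inv, hd, Matrix.smul_mulVec, tvMat_mulVec, dotProduct_smul, smul_dotProduct,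
      hζy, hβ, hc]
    simp only [smul_eq_mul, mul_one]
    rw [smul_smul, ← add_smul, smul_smul]
    congr 1
    field_simp
    ring
  · rw [hdet2, inv_one, one_smul, tvMat_mulVec, smul_dotProduct, hw0, smul_zero, zero_smul,
      add_zero]
  · apply Matrix.mulVec_injective
    funext x
    simp only [← Matrix.mulVec_mulVec, tvMat_mulVec, Matrix.smul_mulVec, dotProduct_add,
      dotProduct_smul, smul_dotProduct, h0, hζy, smul_eq_mul, mul_zero, mul_one, add_zero]
    have hcc : c * c⁻¹ = 1 := mul_inv_cancel₀ hc0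
    ext k
    simp only [Pi.add_apply, Pi.smul_apply, smul_eq_mul]
    linear_combination (-(β * (η ⬝ᵥ x) * y k)) * hcc

end B

end Cfsg.Agent.Lib.helper15.SLM
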