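import Cfsg.Agent.Lib.helper15.SLM.Defs

set_option autoImplicit false
set_option linter.unusedSectionVars false
set_option linter.unusedVariables false

namespace Cfsg.Agent.Lib.helper15.SLM

/-- E3 : geometric sums -/
theorem geom_facts (q m : ℕ) (hq : 2 ≤ q) (hm : 1 ≤ m) :
    (q - 1) * ((q ^ m - 1) / (q - 1)) = q ^ m - 1 ∧
    (q ^ (m + 1) - q) / (q - 1) = q * ((q ^ m - 1) / (q - 1)) ∧
    (q ^ (m + 1) - q) / (q - 1) = q ^ m + (q ^ m - q) / (q - 1) ∧
    (q ^ (m + 1) - 1) / (q - 1) = q * ((q ^ m - 1) / (q - 1)) + 1 ∧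
    (q ^ (m + 1) - q) / (q - 1) ≤ 2 * (q ^ m - 1) := by
  have hq1 : 0 < q - 1 := by omega
  have hdvd : (q - 1) ∣ q ^ m - 1 := by
    simpa using Nat.sub_dvd_pow_sub_pow q 1 m
  obtain ⟨K, hK⟩ := hdvd
  have hKdiv : (q ^ m - 1) / (q - 1) = K := by
    rw [hK, Nat.mul_div_cancel_left _ hq1]
  have hpos : 1 ≤ q ^ m := Nat.one_le_pow _ _ (by omega)
  have hqm : q ≤ q ^ m := by
    calc q = q ^ 1 := (pow_one q).symm
      _ ≤ q ^ m := Nat.pow_le_pow_right (by omega) hm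
  have hpow : q ^ (m + 1) = q * q ^ m := by ring
  -- q^m = (q-1)K + 1
  have e1 : q ^ m = (q - 1) * K + 1 := by omega
  have e2 : q ^ (m + 1) - q = (q - 1) * (q * K) := by
    rw [hpow, e1]
    have : q * ((q - 1) * K + 1) = (q - 1) * (q * K) + q := by ring
    rw [this, Nat.add_sub_cancel]
  have e3 : q ^ (m + 1) - 1 = (q - 1) * (q * K + 1) := by
    rw [hpow, e1]
    have h : q * ((q - 1) * K + 1) = (q - 1) * (q * K) + q := by ring
    rw [h]
    have : (q - 1) * (q * K + 1) = (q - 1) * (q * K) + (q - 1) := by ring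
    rw [this]
    omega
  have d2 : (q ^ (m + 1) - q) / (q - 1) = q * K := by
    rw [e2, Nat.mul_div_cancel_left _ hq1]
  have d3 : (q ^ (m + 1) - 1) / (q - 1) = q * K + 1 := by
    rw [e3, Nat.mul_div_cancel_left _ hq1]
  -- q^m - q = (q-1)(K-1)
  have hK1 : 1 ≤ K := by
    rcases Nat.eq_zero_or_pos K with h | h
    · rw [h, mul_zero] at hK
      omega
    · exact h
  have e4 : q ^ m - q = (q - 1) * (K - 1) := by
    rw [e1, Nat.mul_sub, mul_one]
    have : q - 1 ≤ (q - 1) * K := Nat.le_mul_of_pos_right _ hK1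
    omega
  have d4 : (q ^ m - q) / (q - 1) = K - 1 := by
    rw [e4, Nat.mul_div_cancel_left _ hq1]
  refine ⟨?_, ?_, ?_, ?_, ?_⟩
  · rw [hKdiv, hK]
  · rw [d2, hKdiv]
  · rw [d2, d4, e1]
    have : q * K = (q - 1) * K + K := by
      conv_lhs => rw [show q = (q - 1) + 1 by omega]
      ring
    omega
  · rw [d3, hKdiv]
  · rw [d2, hK]
    -- q*K ≤ 2 (q-1) K
    have : q ≤ 2 * (q - 1) := by omega
    calc q * K ≤ 2 * (q - 1) * K := Nat.mul_le_mul_right _ this
      _ = 2 * ((q - 1) * K) := by ring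

end Cfsg.Agent.Lib.helper15.SLM
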