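import Mathlib
import Cfsg.Agent.Lib.helper17.SLP.Defs
import Cfsg.Agent.Lib.helper3.SP4.Defs
import Cfsg.Agent.Lib.helper2.SLPM1

/-!
# SP4 row M1 (`hyp_M_torus`), verbatim: six 4×4 matrix identities.
-/

set_option autoImplicit false
set_option linter.unusedSimpArgs false

namespace Cfsg.Agent.Lib.helper3.SP4

open Cfsg.Agent.Lib.helper17.SLP
open Polynomial

universe u v

section M

variable {F : Type u} [Field F]

/-- `wM⁻¹` explicitly -/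
def sp4m1_wMi : Matrix.SpecialLinearGroup (Fin 2) F :=
  ⟨!![0, -1; 1, 0], by simp [Matrix.det_fin_two_of]⟩

theorem sp4m1_wM_inv : (wM : Matrix.SpecialLinearGroup (Fin 2) F)⁻¹ = sp4m1_wMi := by
  rw [inv_eq_iff_mul_eq_one]
  apply Subtype.ext
  simp only [Matrix.SpecialLinearGroup.coe_mul, Matrix.SpecialLinearGroup.coe_one]
  ext i j
  fin_cases i <;> fin_cases j <;> simp [wM, sp4m1_wMi]

theorem sp4m1_xM_inv (t : F) : (xM t)⁻¹ = xM (-t) := by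
  rw [inv_eq_iff_mul_eq_one, xM_mul, add_neg_cancel, xM_zero]

theorem sp4m1_zeta (ζ : Fˣ) : (ζ : F) * ((ζ⁻¹ : Fˣ) : F) = 1 := by
  rw [← Units.val_mul, mul_inv_cancel, Units.val_one]

theorem sp4m1_zeta' (ζ : Fˣ) : ((ζ⁻¹ : Fˣ) : F) * (ζ : F) = 1 := by
  rw [← Units.val_mul, inv_mul_cancel, Units.val_one]

theorem sp4m1_t1 (ζ : Fˣ) : rhoA (F := F) (hM ζ) * rhoB (hM ζ) = rhoB (hM ζ) * rhoA (hM ζ) := by
  apply Subtype.ext
  simp only [Submonoid.coe_mul, rhoA_coe, rhoB_coe]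
  ext (i | i) (j | j) <;> fin_cases i <;> fin_cases j <;>
    simp [rhoAm, rhoBm, xM, hM, wM, sp4m1_wMi, Matrix.mul_apply, Fintype.sum_sum_type, Fin.sum_univ_two]

theorem sp4m1_t2 (ζ : Fˣ) :
    rhoA (F := F) (xM 1) * rhoB (hM ζ) = rhoB (hM ζ) * rhoA (xM (ζ : F)) := by
  apply Subtype.ext
  simp only [Submonoid.coe_mul, rhoA_coe, rhoB_coe]
  ext (i | i) (j | j) <;> fin_cases i <;> fin_cases j <;>
    simp [rhoAm, rhoBm, xM, hM, wM, sp4m1_wMi, Matrix.mul_apply, Fintype.sum_sum_type, Fin.sum_univ_two,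
      sp4m1_zeta, sp4m1_zeta']

theorem sp4m1_t3 (ζ : Fˣ) :
    rhoA (F := F) (hM ζ) * rhoB (xM 1) * rhoA (hM ζ⁻¹) = rhoB (hM ζ⁻¹) * rhoB (xM 1) * rhoB (hM ζ) := by
  apply Subtype.ext
  simp only [Submonoid.coe_mul, rhoA_coe, rhoB_coe]
  ext (i | i) (j | j) <;> fin_cases i <;> fin_cases j <;>
    simp [rhoAm, rhoBm, xM, hM, wM, sp4m1_wMi, Matrix.mul_apply, Fintype.sum_sum_type, Fin.sum_univ_two,
      sp4m1_zeta, sp4m1_zeta']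

theorem sp4m1_n4 (ζ : Fˣ) :
    rhoA (F := F) wM * rhoB (hM ζ) = rhoB (hM ζ) * rhoA (hM ζ) * rhoA wM := by
  apply Subtype.ext
  simp only [Submonoid.coe_mul, rhoA_coe, rhoB_coe]
  ext (i | i) (j | j) <;> fin_cases i <;> fin_cases j <;>
    simp [rhoAm, rhoBm, xM, hM, wM, sp4m1_wMi, Matrix.mul_apply, Fintype.sum_sum_type, Fin.sum_univ_two,
      sp4m1_zeta, sp4m1_zeta']

theorem sp4m1_n5 (ζ : Fˣ) :
    rhoB (F := F) wM * rhoA (hM ζ) = rhoA (hM ζ) * (rhoB (hM ζ) * rhoB (hM ζ)) * rhoB wM := by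
  apply Subtype.ext
  simp only [Submonoid.coe_mul, rhoA_coe, rhoB_coe]
  ext (i | i) (j | j) <;> fin_cases i <;> fin_cases j <;>
    simp [rhoAm, rhoBm, xM, hM, wM, sp4m1_wMi, Matrix.mul_apply, Fintype.sum_sum_type, Fin.sum_univ_two,
      sp4m1_zeta, sp4m1_zeta']

theorem sp4m1_n6 :
    rhoA (F := F) wM * rhoB wM * rhoA wM * rhoB wM = rhoB wM * rhoA wM * rhoB wM * rhoA wM := by
  apply Subtype.ext
  simp only [Submonoid.coe_mul, rhoA_coe, rhoB_coe]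
  ext (i | i) (j | j) <;> fin_cases i <;> fin_cases j <;>
    simp [rhoAm, rhoBm, xM, hM, wM, sp4m1_wMi, Matrix.mul_apply, Fintype.sum_sum_type, Fin.sum_univ_two]

/-- M1 [M]. -/
theorem hyp_M_torus (ζ : Fˣ) :
    Commute (rh (rhoA (F := F)) ζ) (rh rhoB ζ) ∧
      (rh (rhoB (F := F)) ζ)⁻¹ * rx rhoA 1 * rh rhoB ζ = rx rhoA (ζ : F) ∧
      rh (rhoA (F := F)) ζ * rx rhoB 1 * (rh rhoA ζ)⁻¹ = (rh rhoB ζ)⁻¹ * rx rhoB 1 * rh rhoB ζ ∧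
      rn (rhoA (F := F)) * rh rhoB ζ * (rn rhoA)⁻¹ = rh rhoB ζ * rh rhoA ζ ∧
      rn (rhoB (F := F)) * rh rhoA ζ * (rn rhoB)⁻¹ = rh rhoA ζ * rh rhoB ζ ^ 2 ∧
      rn (rhoA (F := F)) * rn rhoB * rn rhoA * rn rhoB = rn rhoB * rn rhoA * rn rhoB * rn rhoA := by
  unfold rh rx rn
  refine ⟨sp4m1_t1 ζ, ?_, ?_, ?_, ?_, sp4m1_n6⟩
  · rw [mul_assoc, inv_mul_eq_iff_eq_mul]
    exact sp4m1_t2 ζ
  · rw [← map_inv, ← map_inv, slpm1_hM_inv]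
    exact sp4m1_t3 ζ
  · rw [mul_inv_eq_iff_eq_mul]
    exact sp4m1_n4 ζ
  · rw [mul_inv_eq_iff_eq_mul, pow_two]
    exact sp4m1_n5 ζ

end M

end Cfsg.Agent.Lib.helper3.SP4
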