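import Mathlib
import Cfsg.Agent.Lib.helper17.SLP.Defs
import Cfsg.Agent.Lib.helper3.SP4.Defs
import Cfsg.Agent.Lib.helper2.SLPM1
import Cfsg.Agent.Lib.Helper10.SP4M1

/-!
# SP4 rows M2 (`hyp_M_weyl`), M3 (`hyp_M_comm`), M4 (`hyp_M`), verbatim: 4×4 matrix identities.
-/

set_option autoImplicit false
set_option linter.unusedSimpArgs false

namespace Cfsg.Agent.Lib.helper3.SP4

open Cfsg.Agent.Lib.helper17.SLP
open Polynomial

universe u v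

section M

variable {F : Type u} [Field F]

theorem sp4m2_w7 :
    (rhoB (F := F) wM * rhoA wM * rhoB sp4m1_wMi) * rhoA (xM 1) =
      rhoA (xM (-1)) * (rhoB wM * rhoA wM * rhoB sp4m1_wMi) := by
  apply Subtype.ext
  simp only [Submonoid.coe_mul, rhoA_coe, rhoB_coe]
  ext (i | i) (j | j) <;> fin_cases i <;> fin_cases j <;>
    simp [rhoAm, rhoBm, xM, hM, wM, sp4m1_wMi, Matrix.mul_apply, Fintype.sum_sum_type, Fin.sum_univ_two]

theorem sp4m2_w8 :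
    (rhoA (F := F) wM * rhoB wM * rhoA sp4m1_wMi) * rhoB (xM 1) =
      rhoB (xM 1) * (rhoA wM * rhoB wM * rhoA sp4m1_wMi) := by
  apply Subtype.ext
  simp only [Submonoid.coe_mul, rhoA_coe, rhoB_coe]
  ext (i | i) (j | j) <;> fin_cases i <;> fin_cases j <;>
    simp [rhoAm, rhoBm, xM, hM, wM, sp4m1_wMi, Matrix.mul_apply, Fintype.sum_sum_type, Fin.sum_univ_two]

/-- M2 [M]. -/
theorem hyp_M_weyl :
    (rn (rhoB (F := F)) * rn rhoA * (rn rhoB)⁻¹) * rx rhoA 1 * (rn rhoB * rn rhoA * (rn rhoB)⁻¹)⁻¹ =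
        (rx (rhoA (F := F)) 1)⁻¹ ∧
      Commute (rn (rhoA (F := F)) * rn rhoB * (rn rhoA)⁻¹) (rx rhoB 1) := by
  unfold rx rn
  constructor
  · rw [mul_inv_eq_iff_eq_mul, ← map_inv, ← map_inv, sp4m1_wM_inv, sp4m1_xM_inv]
    exact sp4m2_w7
  · show _ * _ = _ * _
    rw [← map_inv, sp4m1_wM_inv]
    exact sp4m2_w8

/-- the matrix of `x_c(t)` -/
theorem sp4m3_xc (t : F) :
    ((xc (rhoA (F := F)) rhoB t : ↥(Matrix.symplecticGroup (Fin 2) F)) :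
      Matrix (Fin 2 ⊕ Fin 2) (Fin 2 ⊕ Fin 2) F) = Matrix.fromBlocks 1 !![0, t; t, 0] 0 1 := by
  unfold xc rx rn
  rw [← map_inv, sp4m1_wM_inv]
  simp only [Submonoid.coe_mul, rhoA_coe, rhoB_coe]
  ext (i | i) (j | j) <;> fin_cases i <;> fin_cases j <;>
    simp [rhoAm, rhoBm, xM, hM, wM, sp4m1_wMi, Matrix.mul_apply, Fintype.sum_sum_type, Fin.sum_univ_two]

/-- the matrix of `x_d(t)` -/
theorem sp4m3_xd (t : F) :
    ((xd (rhoA (F := F)) rhoB t : ↥(Matrix.symplecticGroup (Fin 2) F)) :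
      Matrix (Fin 2 ⊕ Fin 2) (Fin 2 ⊕ Fin 2) F) = Matrix.fromBlocks 1 !![t, 0; 0, 0] 0 1 := by
  unfold xd rx rn
  rw [← map_inv, sp4m1_wM_inv]
  simp only [Submonoid.coe_mul, rhoA_coe, rhoB_coe]
  ext (i | i) (j | j) <;> fin_cases i <;> fin_cases j <;>
    simp [rhoAm, rhoBm, xM, hM, wM, sp4m1_wMi, Matrix.mul_apply, Fintype.sum_sum_type, Fin.sum_univ_two]

theorem sp4m3_c9 :
    rhoA (F := F) (xM 1) * rhoB (xM 1) =
      xc rhoA rhoB 1 * xd rhoA rhoB 1 * rhoB (xM 1) * rhoA (xM 1) := by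
  apply Subtype.ext
  simp only [Submonoid.coe_mul, rhoA_coe, rhoB_coe, sp4m3_xc, sp4m3_xd]
  ext (i | i) (j | j) <;> fin_cases i <;> fin_cases j <;>
    simp [rhoAm, rhoBm, xM, hM, wM, sp4m1_wMi, Matrix.mul_apply, Fintype.sum_sum_type, Fin.sum_univ_two]

theorem sp4m3_c10 :
    rhoA (F := F) (xM 1) * xc rhoA rhoB 1 =
      xd rhoA rhoB 1 * xd rhoA rhoB 1 * xc rhoA rhoB 1 * rhoA (xM 1) := by
  apply Subtype.ext
  simp only [Submonoid.coe_mul, rhoA_coe, rhoB_coe, sp4m3_xc, sp4m3_xd]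
  ext (i | i) (j | j) <;> fin_cases i <;> fin_cases j <;>
    simp [rhoAm, rhoBm, xM, hM, wM, sp4m1_wMi, Matrix.mul_apply, Fintype.sum_sum_type, Fin.sum_univ_two]

theorem sp4m3_c11 :
    rhoA (F := F) (xM 1) * xd rhoA rhoB 1 = xd rhoA rhoB 1 * rhoA (xM 1) := by
  apply Subtype.ext
  simp only [Submonoid.coe_mul, rhoA_coe, rhoB_coe, sp4m3_xc, sp4m3_xd]
  ext (i | i) (j | j) <;> fin_cases i <;> fin_cases j <;>
    simp [rhoAm, rhoBm, xM, hM, wM, sp4m1_wMi, Matrix.mul_apply, Fintype.sum_sum_type, Fin.sum_univ_two]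

theorem sp4m3_c12 :
    rhoB (F := F) (xM 1) * xd rhoA rhoB 1 = xd rhoA rhoB 1 * rhoB (xM 1) := by
  apply Subtype.ext
  simp only [Submonoid.coe_mul, rhoA_coe, rhoB_coe, sp4m3_xc, sp4m3_xd]
  ext (i | i) (j | j) <;> fin_cases i <;> fin_cases j <;>
    simp [rhoAm, rhoBm, xM, hM, wM, sp4m1_wMi, Matrix.mul_apply, Fintype.sum_sum_type, Fin.sum_univ_two]

/-- M3 [M]. -/
theorem hyp_M_comm :
    cm (rx (rhoA (F := F)) 1) (rx rhoB 1) = xc rhoA rhoB 1 * xd rhoA rhoB 1 ∧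
      cm (rx (rhoA (F := F)) 1) (xc rhoA rhoB 1) = xd rhoA rhoB 1 ^ 2 ∧
      Commute (rx (rhoA (F := F)) 1) (xd rhoA rhoB 1) ∧
      Commute (rx (rhoB (F := F)) 1) (xd rhoA rhoB 1) := by
  refine ⟨?_, ?_, ?_, ?_⟩
  · unfold cm
    rw [mul_inv_eq_iff_eq_mul, mul_inv_eq_iff_eq_mul]
    exact sp4m3_c9
  · unfold cm
    rw [mul_inv_eq_iff_eq_mul, mul_inv_eq_iff_eq_mul, pow_two]
    exact sp4m3_c10
  · exact sp4m3_c11
  · exact sp4m3_c12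

/-- M4 [S]. -/
theorem hyp_M (ζ : Fˣ) : Hyp ζ (rhoA (F := F)) rhoB := by
  obtain ⟨t1, t2, t3, n4, n5, n6⟩ := hyp_M_torus (F := F) ζ
  obtain ⟨w7, w8⟩ := hyp_M_weyl (F := F)
  obtain ⟨c9, c10, c11, c12⟩ := hyp_M_comm (F := F)
  exact ⟨t1, t2, t3, n4, n5, n6, w7, w8, c9, c10, c11, c12⟩

end M

end Cfsg.Agent.Lib.helper3.SP4
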