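import Mathlib
import Cfsg.Agent.Lib.helper7.SPC.Defs

set_option autoImplicit false

/-!
# Project SPC (designer helper7), ROW E1: `even_gen`, the normalised generator of a chain of even length.
Extra lemmas are prefixed `spce1_`.
-/

namespace Cfsg.Agent.Lib.helper7.SPC

universe u

open Module

variable {F : Type u} [Field F]

section

variable {V : Type u} [AddCommGroup V] [Module F V] (B : V →ₗ[F] V →ₗ[F] F) (N : V →ₗ[F] V)

theorem spce1_anti (halt : ∀ x, B x x = 0) (x y : V) : B y x = - B x y := by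
  have h := halt (x + y)
  simp only [map_add, LinearMap.add_apply, halt, zero_add, add_zero] at h
  linear_combination h

theorem spce1_skew_pow (hskew : ∀ x y, B (N x) y = - B x (N y)) (a : ℕ) (x y : V) :
    B ((N ^ a) x) y = (-1) ^ a * B x ((N ^ a) y) := by
  induction a generalizing x y with
  | zero => simp
  | succ a ih =>
    have e1 : (N ^ (a + 1)) x = (N ^ a) (N x) := by rw [pow_succ, Module.End.mul_apply]
    have e2 : (N ^ (a + 1)) y = N ((N ^ a) y) := by rw [pow_succ', Module.End.mul_apply]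
    rw [e1, e2, ih, hskew, pow_succ]
    ring

theorem spce1_pow_add (a b : ℕ) (x : V) : (N ^ a) ((N ^ b) x) = (N ^ (a + b)) x := by
  rw [pow_add, Module.End.mul_apply]

theorem spce1_lam_even (h2 : (2 : F) ≠ 0) (halt : ∀ x, B x x = 0)
    (hskew : ∀ x y, B (N x) y = - B x (N y)) (j : ℕ) (hj : Even j) (x : V) :
    B x ((N ^ j) x) = 0 := by
  have h1 := spce1_skew_pow B N hskew j x x
  rw [hj.neg_one_pow, one_mul, spce1_anti B halt x ((N ^ j) x)] at h1
  have h3 : (2 : F) * B x ((N ^ j) x) = 0 := by linear_combination -h1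
  rcases mul_eq_zero.mp h3 with h | h
  · exact absurd h h2
  · exact h

theorem spce1_lam_ge (k : ℕ) (hNk : N ^ k = 0) (j : ℕ) (hj : k ≤ j) (x : V) : (N ^ j) x = 0 := by
  obtain ⟨m, rfl⟩ := Nat.exists_eq_add_of_le hj
  rw [add_comm, pow_add, hNk, mul_zero]
  rfl

/-- the correction `u + α N^t u`, `t` even -/
theorem spce1_corr (hskew : ∀ x y, B (N x) y = - B x (N y)) (t : ℕ) (ht : Even t) (α : F) (u : V)
    (j : ℕ) :
    B (u + α • (N ^ t) u) ((N ^ j) (u + α • (N ^ t) u)) =
      B u ((N ^ j) u) + 2 * α * B u ((N ^ (j + t)) u) + α ^ 2 * B u ((N ^ (j + 2 * t)) u) := by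
  have e1 : B ((N ^ t) u) ((N ^ j) u) = B u ((N ^ (j + t)) u) := by
    rw [spce1_skew_pow B N hskew, ht.neg_one_pow, one_mul, spce1_pow_add, add_comm]
  have e2 : B ((N ^ t) u) ((N ^ (j + t)) u) = B u ((N ^ (j + 2 * t)) u) := by
    rw [spce1_skew_pow B N hskew, ht.neg_one_pow, one_mul, spce1_pow_add]
    congr 3
    ring
  simp only [map_add, map_smul, LinearMap.add_apply, LinearMap.smul_apply, smul_eq_mul,
    spce1_pow_add, e1, e2]
  ring

end

/-- E1 [M] -/
theorem even_gen (h2 : (2 : F) ≠ 0) {V : Type u} [AddCommGroup V] [Module F V] (B : V →ₗ[F] V →ₗ[F] F)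
    (N : V →ₗ[F] V) (halt : ∀ x, B x x = 0) (hskew : ∀ x y, B (N x) y = - B x (N y)) (k : ℕ)
    (hk : Even k) (hk0 : 0 < k) (hNk : N ^ k = 0) (x : V) (hx : B x ((N ^ (k - 1)) x) ≠ 0) :
    ∃ x' : V, ∀ a b : ℕ, B ((N ^ a) x') ((N ^ b) x') =
      if a + b + 1 = k then (-1) ^ a * B x ((N ^ (k - 1)) x) else 0 := by
  obtain ⟨c, hc⟩ : ∃ c : F, c = B x ((N ^ (k - 1)) x) := ⟨_, rfl⟩
  rw [← hc] at hx
  have hkodd : Odd (k - 1) := by
    obtain ⟨m, hm⟩ := hk
    exact ⟨m - 1, by omega⟩
  -- the induction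
  have hind : ∀ t : ℕ, ∃ u : V, B u ((N ^ (k - 1)) u) = c ∧
      ∀ j : ℕ, k ≤ j + t → j < k - 1 → B u ((N ^ j) u) = 0 := by
    intro t
    induction t with
    | zero =>
      refine ⟨x, hc.symm, ?_⟩
      intro j h1 h3
      omega
    | succ t ih =>
      obtain ⟨u, hu1, hu2⟩ := ih
      by_cases hcase : 1 ≤ t ∧ t ≤ k - 1 ∧ Even t
      · obtain ⟨ht1, ht2, hte⟩ := hcase
        obtain ⟨α, hα⟩ : ∃ α : F, α = - B u ((N ^ (k - 1 - t)) u) / (2 * c) := ⟨_, rfl⟩
        refine ⟨u + α • (N ^ t) u, ?_, ?_⟩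
        · rw [spce1_corr B N hskew t hte, spce1_lam_ge N k hNk (k - 1 + t) (by omega),
            spce1_lam_ge N k hNk (k - 1 + 2 * t) (by omega), hu1]
          simp
        · intro j h1 h3
          rw [spce1_corr B N hskew t hte, spce1_lam_ge N k hNk (j + 2 * t) (by omega)]
          by_cases hj : k ≤ j + t
          · rw [hu2 j hj h3, spce1_lam_ge N k hNk (j + t) hj]
            simp
          · have hj0 : j = k - 1 - t := by omega
            have hjt : j + t = k - 1 := by omega
            rw [hjt, hu1, hj0, hα]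
            simp only [map_zero, mul_zero, add_zero]
            field_simp
            ring
      · refine ⟨u, hu1, ?_⟩
        intro j h1 h3
        by_cases hj : k ≤ j + t
        · exact hu2 j hj h3
        · have hjt : j + t + 1 = k := by omega
          have ht1 : 1 ≤ t := by omega
          have ht2 : t ≤ k - 1 := by omega
          have hte : ¬ Even t := fun h => hcase ⟨ht1, ht2, h⟩
          apply spce1_lam_even B N h2 halt hskew
          -- `j + t = k - 1` is odd and `t` is odd
          have hto : Odd t := Nat.not_even_iff_odd.mp hte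
          obtain ⟨m1, hm1⟩ := hto
          obtain ⟨m2, hm2⟩ := hkodd
          exact ⟨m2 - m1, by omega⟩
  obtain ⟨x', hx1, hx2⟩ := hind k
  refine ⟨x', ?_⟩
  intro a b
  rw [spce1_skew_pow B N hskew, spce1_pow_add]
  by_cases hab : a + b + 1 = k
  · rw [if_pos hab]
    have : a + b = k - 1 := by omega
    rw [this, hx1, hc]
  · rw [if_neg hab]
    by_cases hge : k ≤ a + b
    · rw [spce1_lam_ge N k hNk (a + b) hge, map_zero, mul_zero]
    · rw [hx2 (a + b) (by omega) (by omega), mul_zero]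

end Cfsg.Agent.Lib.helper7.SPC
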