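import Mathlib
import Cfsg.Agent.Lib.helper7.SPC.Defs
import Cfsg.Agent.Lib.Helper10.SPCE1

set_option autoImplicit false
set_option linter.unusedVariables false

/-!
# Project SPC (designer helper7), ROW D1: `disc_unique`, the rank and the discriminant of `β_k` on `ker N^k` modulo its
radical do not depend on the diagonalisation.  Extra lemmas are prefixed `spcd1_`.
-/

namespace Cfsg.Agent.Lib.helper7.SPC

universe u

open Module

variable {F : Type u} [Field F]

/-- `β_k` as a bilinear map -/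
noncomputable def spcd1_betaL (T : Trip F) (k : ℕ) : T.V →ₗ[F] T.V →ₗ[F] F :=
  T.B.compl₂ (T.N ^ (k - 1))

theorem spcd1_betaL_apply (T : Trip F) (k : ℕ) (x y : T.V) : spcd1_betaL T k x y = T.beta k x y := rfl

/-- `β_k` is symmetric for `k` even -/
theorem spcd1_beta_symm (T : Trip F) (hT : T.Good) (k : ℕ) (hk : Even k) (hk0 : 0 < k) (x y : T.V) :
    T.beta k x y = T.beta k y x := by
  unfold Trip.beta
  have hodd : Odd (k - 1) := by
    obtain ⟨m, hm⟩ := hk
    exact ⟨m - 1, by omega⟩
  have h1 := spce1_skew_pow T.B T.N hT.skew (k - 1) y x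
  rw [hodd.neg_one_pow] at h1
  rw [spce1_anti T.B hT.alt ((T.N ^ (k - 1)) y) x, h1]
  ring

/-- the change of basis relation between two diagonalisations -/
theorem spcd1_key (T : Trip F) (k : ℕ) (hsymm : ∀ x y, T.beta k x y = T.beta k y x)
    {ι ι' : Type} [Fintype ι] [DecidableEq ι] [Fintype ι'] [DecidableEq ι']
    (u : ι → T.V) (c : ι → F) (u' : ι' → T.V) (c' : ι' → F)
    (hu : ∀ i, (T.N ^ k) (u i) = 0)
    (hub : ∀ i j, T.beta k (u i) (u j) = if i = j then c i else 0)
    (hspan : ∀ z, (T.N ^ k) z = 0 → ∃ a : ι → F, ∀ w, (T.N ^ k) w = 0 →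
      T.beta k (z - ∑ i, a i • u i) w = 0)
    (hu' : ∀ i, (T.N ^ k) (u' i) = 0)
    (hub' : ∀ i j, T.beta k (u' i) (u' j) = if i = j then c' i else 0) :
    ∃ P : Matrix ι' ι F, Matrix.diagonal c' = P * Matrix.diagonal c * P.transpose := by
  choose P hP using fun i => hspan (u' i) (hu' i)
  refine ⟨Matrix.of P, ?_⟩
  -- `β (u' i, w) = Σ_j P i j β (u_j, w)` for `w ∈ K`
  have h1 : ∀ (i : ι') (w : T.V), (T.N ^ k) w = 0 →
      T.beta k (u' i) w = ∑ j, P i j * T.beta k (u j) w := by
    intro i w hw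
    have h := hP i w hw
    rw [← spcd1_betaL_apply, map_sub, LinearMap.sub_apply, map_sum, LinearMap.sum_apply] at h
    rw [← spcd1_betaL_apply, sub_eq_zero.mp h]
    apply Finset.sum_congr rfl
    intro j _
    rw [map_smul, LinearMap.smul_apply, smul_eq_mul, spcd1_betaL_apply]
  have h2 : ∀ (l : ι') (j : ι), T.beta k (u j) (u' l) = P l j * c j := by
    intro l j
    rw [hsymm, h1 l (u j) (hu j), Finset.sum_eq_single j]
    · rw [hub, if_pos rfl]
    · intro m _ hm
      rw [hub, if_neg hm, mul_zero]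
    · intro h
      exact absurd (Finset.mem_univ _) h
  ext i l
  rw [Matrix.mul_apply, Matrix.diagonal_apply, ← hub' i l, h1 i (u' l) (hu' l)]
  apply Finset.sum_congr rfl
  intro j _
  rw [Matrix.mul_diagonal, Matrix.transpose_apply, h2, Matrix.of_apply, Matrix.of_apply]
  ring

/-- the inequality of the ranks -/
theorem spcd1_card_le {ι ι' : Type} [Fintype ι] [DecidableEq ι] [Fintype ι'] [DecidableEq ι']
    (c : ι → F) (c' : ι' → F) (hc' : ∀ i, c' i ≠ 0) (P : Matrix ι' ι F)
    (h : Matrix.diagonal c' = P * Matrix.diagonal c * P.transpose) :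
    Fintype.card ι' ≤ Fintype.card ι := by
  have hunit : IsUnit (Matrix.diagonal c') := by
    rw [Matrix.isUnit_iff_isUnit_det, Matrix.det_diagonal, isUnit_iff_ne_zero]
    exact Finset.prod_ne_zero_iff.mpr (fun i _ => hc' i)
  have h1 := Matrix.rank_of_isUnit (Matrix.diagonal c') hunit
  rw [h, Matrix.mul_assoc] at h1
  have h2 := Matrix.rank_mul_le_left P (Matrix.diagonal c * P.transpose)
  have h3 := Matrix.rank_le_card_width P
  omega

/-- D1 [M-L] -/
theorem disc_unique (h2 : (2 : F) ≠ 0) (T : Trip F) (hT : T.Good) (k : ℕ) (hk : Even k) (hk0 : 0 < k)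
    (r r' : ℕ) (d d' : F) (h : HasDisc T k r d) (h' : HasDisc T k r' d') :
    r = r' ∧ IsSquare (d * d') := by
  obtain ⟨ι, instF, instD, u, c, hcard, hu, hc, hub, hspan, hd⟩ := h
  obtain ⟨ι', instF', instD', u', c', hcard', hu', hc', hub', hspan', hd'⟩ := h'
  have hsymm := spcd1_beta_symm T hT k hk hk0
  obtain ⟨P, hP⟩ := spcd1_key T k hsymm u c u' c' hu hub hspan hu' hub'
  obtain ⟨P', hP'⟩ := spcd1_key T k hsymm u' c' u c hu' hub' hspan' hu hub
  have hle := spcd1_card_le c c' hc' P hP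
  have hle' := spcd1_card_le c' c hc P' hP'
  have hcardeq : Fintype.card ι' = Fintype.card ι := le_antisymm hle hle'
  refine ⟨by omega, ?_⟩
  let e : ι' ≃ ι := Fintype.equivOfCardEq hcardeq
  -- reindex `P`
  have hP2 : Matrix.diagonal c' =
      (P.submatrix id e) * Matrix.diagonal (fun j => c (e j)) * (P.submatrix id e).transpose := by
    rw [hP]
    ext i l
    rw [Matrix.mul_apply, Matrix.mul_apply, ← Equiv.sum_comp e]
    apply Finset.sum_congr rfl
    intro j _
    rw [Matrix.mul_diagonal, Matrix.mul_diagonal, Matrix.transpose_apply, Matrix.transpose_apply,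
      Matrix.submatrix_apply, Matrix.submatrix_apply, id, id]
  have hdet := congrArg Matrix.det hP2
  rw [Matrix.det_mul, Matrix.det_mul, Matrix.det_transpose, Matrix.det_diagonal, Matrix.det_diagonal,
    Equiv.prod_comp e c] at hdet
  refine ⟨(P.submatrix id e).det * ∏ i, c i, ?_⟩
  rw [hd, hd', hdet]
  ring

end Cfsg.Agent.Lib.helper7.SPC
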