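import Mathlib
import Cfsg.Agent.Lib.helper7.SPC.Defs
import Cfsg.Agent.Lib.Helper10.SPCD1

set_option autoImplicit false
set_option linter.unusedVariables false

/-!
# Project SPC (designer helper7), ROWS D5 and D6, CORES on the statements of the cited rows
(D2 `disc_sum`, D3 `disc_iso`, D4A `disc_blkA_self`, D4B `disc_blkA_ne`, D4C `disc_blkH`, `disc_zero`, G5 `sumList_good`).
-/

namespace Cfsg.Agent.Lib.helper7.SPC

universe u

open Module

variable {F : Type u} [Field F]

theorem spcd5_prodA_nil (k : ℕ) : prodA ([] : List (Blk F)) k = 1 := rfl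

theorem spcd5_prodA_cons (b : Blk F) (L : List (Blk F)) (k : ℕ) :
    prodA (b :: L) k = b.cst k * prodA L k := by
  unfold prodA
  rw [List.map_cons, List.prod_cons]

/-- core of D5 `disc_list` -/
theorem spcd5_core
    (hD2 : ∀ (T T' : Trip F) (k r r' : ℕ) (d d' : F), HasDisc T k r d → HasDisc T' k r' d' →
      HasDisc (TSum T T') k (r + r') (d * d'))
    (hD4A : ∀ (k : ℕ), 0 < k → ∀ c : F, c ≠ 0 → HasDisc (blkA k c) k 1 c)
    (hD4B : ∀ (l k : ℕ), 0 < k → l ≠ k → ∀ c : F, HasDisc (blkA l c) k 0 1)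
    (hD4C : ∀ (l k : ℕ), 0 < k → l ≠ k → HasDisc (blkH l F) k 0 1)
    (hD0 : ∀ k : ℕ, HasDisc (TZero F) k 0 1)
    (L : List (Blk F)) (hL : CanonL L) (k : ℕ) (hk : Even k) (hk0 : 0 < k) :
    ∃ r : ℕ, HasDisc (sumList L) k r (prodA L k) := by
  induction L with
  | nil => exact ⟨0, hD0 k⟩
  | cons b L ih =>
    obtain ⟨r, hr⟩ := ih (fun b' hb' => hL b' (List.mem_cons_of_mem _ hb'))
    have hb : b.Canon := hL b List.mem_cons_self
    rw [sumList_cons, spcd5_prodA_cons]
    cases b with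
    | A l c =>
      obtain ⟨_, _, hc⟩ := hb
      by_cases hlk : l = k
      · subst hlk
        refine ⟨1 + r, ?_⟩
        have h1 : (Blk.A l c : Blk F).cst l = c := by
          show (if l = l then c else 1) = c
          rw [if_pos rfl]
        rw [h1]
        exact hD2 _ _ l 1 r c _ (hD4A l hk0 c hc) hr
      · refine ⟨0 + r, ?_⟩
        have h1 : (Blk.A l c : Blk F).cst k = 1 := by
          show (if l = k then c else 1) = 1
          rw [if_neg hlk]
        rw [h1]
        exact hD2 _ _ k 0 r 1 _ (hD4B l k hk0 hlk c) hr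
    | H l =>
      have hlk : l ≠ k := by
        intro e
        have hodd : Odd l := hb
        rw [e] at hodd
        exact (Nat.not_even_iff_odd.mpr hodd) hk
      refine ⟨0 + r, ?_⟩
      have h1 : (Blk.H l : Blk F).cst k = 1 := rfl
      rw [h1]
      exact hD2 _ _ k 0 r 1 _ (hD4C l k hk0 hlk) hr

/-- core of D6 `disc_inv` -/
theorem spcd6_core (h2 : (2 : F) ≠ 0)
    (hD3 : ∀ {T T' : Trip F}, TIso T T' → ∀ (k r : ℕ) (d : F), HasDisc T k r d → HasDisc T' k r d)
    (hD5 : ∀ (L : List (Blk F)), CanonL L → ∀ k : ℕ, Even k → 0 < k →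
      ∃ r : ℕ, HasDisc (sumList L) k r (prodA L k))
    (hG5 : ∀ (L : List (Blk F)), CanonL L → (sumList L).Good)
    (L L' : List (Blk F)) (hL : CanonL L) (hL' : CanonL L')
    (h : TIso (sumList L) (sumList L')) (k : ℕ) (hk : Even k) (hk0 : 0 < k) :
    IsSquare (prodA L k * prodA L' k) := by
  obtain ⟨r, hr⟩ := hD5 L hL k hk hk0
  obtain ⟨r', hr'⟩ := hD5 L' hL' k hk hk0
  have hr2 := hD3 h k r _ hr
  exact (disc_unique h2 (sumList L') (hG5 L' hL') k hk hk0 r r' _ _ hr2 hr').2

end Cfsg.Agent.Lib.helper7.SPC
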