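import Mathlib
import Cfsg.Agent.Lib.helper7.SPC.Defs
import Cfsg.Agent.Lib.Helper10.SPCD5core
import Cfsg.Agent.Lib.Helper16.SPCD2
import Cfsg.Agent.Lib.Helper16.SPCD4A
import Cfsg.Agent.Lib.Helper16.SPCD4C

set_option autoImplicit false

/-!
# Project SPC (designer helper7), ROW D5 (`disc_list`), verbatim, from the core in `Helper10.SPCD5core` and rows
D2, D4A, D4B (both in Helper16.SPCD4A), D4C (helper16).
-/

namespace Cfsg.Agent.Lib.helper7.SPC

universe u

open Module

variable {F : Type u} [Field F]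

/-- D5 [S-M] (batch 2; cites D2 D4A D4B D4C) -/
theorem disc_list (L : List (Blk F)) (hL : CanonL L) (k : ℕ) (hk : Even k) (hk0 : 0 < k) :
    ∃ r : ℕ, HasDisc (sumList L) k r (prodA L k) :=
  spcd5_core disc_sum disc_blkA_self disc_blkA_ne disc_blkH disc_zero L hL k hk hk0

end Cfsg.Agent.Lib.helper7.SPC
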