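import Mathlib
import Cfsg.Agent.Lib.helper7.SPC.Defs
import Cfsg.Agent.Lib.Helper10.SPCD5
import Cfsg.Agent.Lib.Helper25.SPCD3
import Cfsg.Agent.Lib.Helper24.SPCG5

set_option autoImplicit false

/-!
# Project SPC (designer helper7), ROW D6 (`disc_inv`), verbatim, from the core in `Helper10.SPCD5core` and rows
D1 (helper10), D3 (helper25), D5 (helper10), G5 (helper24).
-/

namespace Cfsg.Agent.Lib.helper7.SPC

universe u

open Module

variable {F : Type u} [Field F]

/-- D6 [S] (batch 2; cites D1 D3 D5 G5) -/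
theorem disc_inv (h2 : (2 : F) ≠ 0) (L L' : List (Blk F)) (hL : CanonL L) (hL' : CanonL L')
    (h : TIso (sumList L) (sumList L')) (k : ℕ) (hk : Even k) (hk0 : 0 < k) :
    IsSquare (prodA L k * prodA L' k) :=
  spcd6_core h2 (fun h k r d hd => disc_iso h k r d hd) disc_list
    (fun L hL => sumList_good h2 L hL) L L' hL hL' h k hk hk0

end Cfsg.Agent.Lib.helper7.SPC
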