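import Mathlib
import Cfsg.Agent.Lib.helper7.SPC.Defs
import Cfsg.Agent.Lib.Helper16.PJord5

set_option autoImplicit false
set_option linter.unusedVariables false
set_option linter.unusedSectionVars false

/-!
# Project SPC (designer helper7), ROWS K5 and K6, CORES on the statements of the cited rows
(K1 `ker_iso`, K2 `ker_sum`, K3 `ker_blkA`, `ker_blkH`).
-/

namespace Cfsg.Agent.Lib.helper7.SPC

universe u

open Module

variable {F : Type u} [Field F]

theorem spck5_partsL_nil : partsL ([] : List (Blk F)) = 0 := rfl

theorem spck5_partsL_cons (b : Blk F) (L : List (Blk F)) : partsL (b :: L) = b.parts + partsL L := by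
  unfold partsL
  rw [List.map_cons, List.sum_cons]

/-- core of K5 `ker_list` -/
theorem spck5_core
    (hK2 : ∀ (T T' : Trip F) (i : ℕ), finrank F (LinearMap.ker ((TSum T T').N ^ i)) =
      finrank F (LinearMap.ker (T.N ^ i)) + finrank F (LinearMap.ker (T'.N ^ i)))
    (hK3A : ∀ (k : ℕ) (c : F) (i : ℕ), finrank F (LinearMap.ker ((blkA k c).N ^ i)) = min i k)
    (hK3H : ∀ (k : ℕ) (i : ℕ), finrank F (LinearMap.ker ((blkH k F).N ^ i)) = min i k + min i k)
    (L : List (Blk F)) (i : ℕ) :
    finrank F (LinearMap.ker ((sumList L).N ^ i)) = ((partsL L).map (min i)).sum := by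
  induction L with
  | nil =>
    rw [spck5_partsL_nil, Multiset.map_zero, Multiset.sum_zero]
    have : Subsingleton (sumList ([] : List (Blk F))).V := by
      show Subsingleton PUnit
      infer_instance
    exact Module.finrank_zero_of_subsingleton
  | cons b L ih =>
    rw [sumList_cons, hK2, ih, spck5_partsL_cons, Multiset.map_add, Multiset.sum_add]
    congr 1
    cases b with
    | A k c =>
      show finrank F (LinearMap.ker ((blkA k c).N ^ i)) = (Multiset.map (min i) {k}).sum
      rw [hK3A, Multiset.map_singleton, Multiset.sum_singleton]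
    | H k =>
      show finrank F (LinearMap.ker ((blkH k F).N ^ i)) = (Multiset.map (min i) {k, k}).sum
      rw [hK3H, Multiset.insert_eq_cons, Multiset.map_cons, Multiset.sum_cons, Multiset.map_singleton,
        Multiset.sum_singleton]

theorem spck6_parts_pos (L : List (Blk F)) (hL : CanonL L) (a : ℕ) (ha : a ∈ partsL L) : 0 < a := by
  induction L with
  | nil =>
    rw [spck5_partsL_nil] at ha
    exact absurd ha (Multiset.notMem_zero a)
  | cons b L ih =>
    rw [spck5_partsL_cons, Multiset.mem_add] at ha
    rcases ha with ha | ha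
    · have hb : b.Canon := hL b List.mem_cons_self
      cases b with
      | A k c =>
        obtain ⟨_, hk0, _⟩ := hb
        have : a ∈ ({k} : Multiset ℕ) := ha
        rw [Multiset.mem_singleton] at this
        rw [this]
        exact hk0
      | H k =>
        have hodd : Odd k := hb
        have : a ∈ ({k, k} : Multiset ℕ) := ha
        rw [Multiset.insert_eq_cons, Multiset.mem_cons, Multiset.mem_singleton, or_self] at this
        rw [this]
        exact hodd.pos
    · exact ih (fun b' hb' => hL b' (List.mem_cons_of_mem _ hb')) ha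

/-- core of K6 `parts_inv` -/
theorem spck6_core
    (hK1 : ∀ {T T' : Trip F}, TIso T T' → ∀ i : ℕ,
      finrank F (LinearMap.ker (T.N ^ i)) = finrank F (LinearMap.ker (T'.N ^ i)))
    (hK5 : ∀ (L : List (Blk F)) (i : ℕ),
      finrank F (LinearMap.ker ((sumList L).N ^ i)) = ((partsL L).map (min i)).sum)
    (L L' : List (Blk F)) (hL : CanonL L) (hL' : CanonL L')
    (h : TIso (sumList L) (sumList L')) : partsL L = partsL L' := by
  apply Cfsg.Agent.Lib.Helper16.PJord.ms_eq_of_sum_min _ _ (spck6_parts_pos L hL)
    (spck6_parts_pos L' hL')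
  intro j
  rw [← hK5 L j, ← hK5 L' j]
  exact hK1 h j

end Cfsg.Agent.Lib.helper7.SPC
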