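import Mathlib
import Cfsg.Agent.Lib.helper7.SPC.Defs
import Cfsg.Agent.Lib.Helper10.SPCK5core
import Cfsg.Agent.Lib.Helper20.SPCK1
import Cfsg.Agent.Lib.Helper20.SPCK2
import Cfsg.Agent.Lib.Helper20.SPCK3

set_option autoImplicit false

/-!
# Project SPC (designer helper7), ROWS K5 (`ker_list`) and K6 (`parts_inv`), verbatim, from the cores in
`Helper10.SPCK5core` and rows K1, K2, K3 (helper20).
-/

namespace Cfsg.Agent.Lib.helper7.SPC

universe u

open Module

variable {F : Type u} [Field F]

/-- K5 [S-M] (batch 2; cites K2 K3) -/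
theorem ker_list (L : List (Blk F)) (i : ℕ) :
    finrank F (LinearMap.ker ((sumList L).N ^ i)) = ((partsL L).map (min i)).sum :=
  spck5_core ker_sum ker_blkA ker_blkH L i

/-- K6 [S-M] (batch 2; cites K1 K5) -/
theorem parts_inv (L L' : List (Blk F)) (hL : CanonL L) (hL' : CanonL L')
    (h : TIso (sumList L) (sumList L')) : partsL L = partsL L' :=
  spck6_core (fun h i => ker_iso h i) ker_list L L' hL hL' h

end Cfsg.Agent.Lib.helper7.SPC
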