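import Mathlib
import Cfsg.Prelude.Def_LieTypeChar
import Cfsg.Agent.Lib.helper14.SQD.Defs
import Cfsg.Agent.Lib.helper14.SQD.DefsU

/-!
# SQD row H5 (`hs_inf_lev`), core: the forward direction of H2 (`mem_hsGrp`) is a hypothesis.
-/

set_option autoImplicit false

namespace Cfsg.Agent.Lib.helper14.SQD

open Cfsg Cfsg.Lie Matrix

universe u v

section H
variable {k d : ℕ} {F : Type u} [Field F] (τ : F →+* F) (G₀ : Matrix (Fin d) (Fin d) F)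

/-- H5, core. -/
theorem sqdh5_core (𝒞 : Matrix (Fin d) (Fin k) F → Matrix (Fin k) (Fin k) F → Prop)
    (hH2 : ∀ g : GL ((Fin k ⊕ Fin k) ⊕ Fin d) F, g ∈ hsGrp τ G₀ 𝒞 → ∃ R C, 𝒞 R C ∧
      (g : Matrix ((Fin k ⊕ Fin k) ⊕ Fin d) ((Fin k ⊕ Fin k) ⊕ Fin d) F) = hsM τ G₀ R C) :
    hsGrp τ G₀ 𝒞 ⊓ (levGrp (k := k) τ).map (embGL d) = ⊥ := by
  rw [eq_bot_iff]
  rintro x ⟨hx1, hx2⟩
  rw [Subgroup.mem_bot]
  obtain ⟨R, C, -, hx⟩ := hH2 x hx1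
  obtain ⟨y, hy, rfl⟩ := hx2
  unfold levGrp at hy
  obtain ⟨g, -, rfl⟩ := hy
  rw [embGL_coe, levHom_coe] at hx
  unfold hsM at hx
  rw [Matrix.fromBlocks_inj] at hx
  obtain ⟨h1, h2, h3, -⟩ := hx
  rw [Matrix.fromBlocks_inj] at h1
  obtain ⟨h11, -, -, h14⟩ := h1
  apply Units.ext
  rw [embGL_coe, levHom_coe, h11, h14, Units.val_one, Matrix.fromBlocks_one, Matrix.fromBlocks_one]

end H

end Cfsg.Agent.Lib.helper14.SQD
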