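import Mathlib
import Cfsg.Prelude.Def_LieTypeChar
import Cfsg.Agent.Lib.helper14.SQD.Defs
import Cfsg.Agent.Lib.helper14.SQD.DefsU
import Cfsg.Agent.Lib.Helper10.SQDH5core
import Cfsg.Agent.Lib.Helper22.SQDH2

/-!
# SQD row H5 (`hs_inf_lev`), verbatim: `sqdh5_core` with H2 (`mem_hsGrp`, Helper22).
-/

set_option autoImplicit false
set_option linter.unusedSectionVars false

namespace Cfsg.Agent.Lib.helper14.SQD

open Cfsg Cfsg.Lie Matrix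

universe u v

section H
variable {k d : ℕ} {F : Type u} [Field F] (τ : F →+* F) (G₀ : Matrix (Fin d) (Fin d) F)

/-- H5 [E-M]. A matrix `hsM R C` of the block-diagonal form `fromBlocks (fromBlocks g 0 0 D) 0 0 1` is `1`. -/
theorem hs_inf_lev (𝒞 : Matrix (Fin d) (Fin k) F → Matrix (Fin k) (Fin k) F → Prop) (h0 : 𝒞 0 0)
    (hmul : ∀ R C R' C', 𝒞 R C → 𝒞 R' C' → 𝒞 (R + R') (C + C' + tadj τ R * G₀ * R'))
    (hinv : ∀ R C, 𝒞 R C → 𝒞 (-R) (-C + tadj τ R * G₀ * R)) :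
    hsGrp τ G₀ 𝒞 ⊓ (levGrp (k := k) τ).map (embGL d) = ⊥ :=
  sqdh5_core τ G₀ 𝒞 (fun g hg => (mem_hsGrp τ G₀ 𝒞 h0 hmul hinv g).mp hg)

end H

end Cfsg.Agent.Lib.helper14.SQD
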