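import Mathlib
import Cfsg.Prelude.Def_LieTypeChar
import Cfsg.Agent.Lib.helper14.SQD.Defs
import Cfsg.Agent.Lib.helper14.SQD.DefsU
import Cfsg.Agent.Lib.Helper24.SQD.DefsO

/-!
# SQD row OM8 (`hs_mem_iso_minus`), verbatim: `hsM id (omG0 a) R C` with `omC a b R C` is an isometry of
`quadFormMinus k F a b` in characteristic 2 (self-contained).
-/

set_option autoImplicit false

namespace Cfsg.Agent.Lib.helper14.SQD

open Cfsg Cfsg.Lie Matrix

universe u v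

section OM
variable {k : ℕ} {F : Type u} [Field F] (a b : F)

/-- the action of `hsM id (omG0 a) R C` on a vector `((x, y), z)` -/
theorem sqdom8_mulVec (R : Matrix (Fin 2) (Fin k) F) (C : Matrix (Fin k) (Fin k) F)
    (x y : Fin k → F) (z : Fin 2 → F) :
    hsM (RingHom.id F) (omG0 a) R C *ᵥ Sum.elim (Sum.elim x y) z =
      Sum.elim (Sum.elim (x + C *ᵥ y + (Rᵀ * omG0 a) *ᵥ z) y) (R *ᵥ y + z) := by
  unfold hsM
  rw [Matrix.fromBlocks_mulVec, Matrix.fromBlocks_mulVec, Matrix.fromRows_mulVec,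
    Matrix.fromCols_mulVec]
  have ht : tadj (RingHom.id F) R = Rᵀ := by
    unfold tadj
    ext i j
    simp
  rw [ht]
  ext ((i | i) | l)
  · simp [Matrix.one_mulVec, Matrix.zero_mulVec]
  · simp [Matrix.one_mulVec, Matrix.zero_mulVec]
  · simp [Matrix.one_mulVec, Matrix.zero_mulVec]

/-- `quadFormMinus` on a vector `((x, y), z)` -/
theorem sqdom8_quad (x y : Fin k → F) (z : Fin 2 → F) :
    quadFormMinus k F a b (Sum.elim (Sum.elim x y) z) = x ⬝ᵥ y + omQ0 a b z := by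
  unfold quadFormMinus omQ0 dotProduct
  simp

/-- the cross term -/
theorem sqdom8_cross (R : Matrix (Fin 2) (Fin k) F) (y : Fin k → F) (z : Fin 2 → F) :
    ((Rᵀ * omG0 a) *ᵥ z) ⬝ᵥ y = a * (R *ᵥ y) 1 * z 0 + a * (R *ᵥ y) 0 * z 1 := by
  rw [← Matrix.mulVec_mulVec, dotProduct_comm, Matrix.dotProduct_mulVec, Matrix.vecMul_transpose]
  unfold omG0
  simp [dotProduct, Fin.sum_univ_two, Matrix.mulVec]
  ring

/-- OM8 [M]. -/
theorem hs_mem_iso_minus [CharP F 2] (R : Matrix (Fin 2) (Fin k) F) (C : Matrix (Fin k) (Fin k) F)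
    (h : omC a b R C) (w : GL ((Fin k ⊕ Fin k) ⊕ Fin 2) F)
    (hw : (w : Matrix ((Fin k ⊕ Fin k) ⊕ Fin 2) ((Fin k ⊕ Fin k) ⊕ Fin 2) F) = hsM (RingHom.id F) (omG0 a) R C) :
    w ∈ isometryGroup F (quadFormMinus k F a b) := by
  intro v _
  show quadFormMinus k F a b
    ((w : Matrix ((Fin k ⊕ Fin k) ⊕ Fin 2) ((Fin k ⊕ Fin k) ⊕ Fin 2) F) *ᵥ v) = quadFormMinus k F a b v
  have hv : v = Sum.elim (Sum.elim (fun i => v (Sum.inl (Sum.inl i))) (fun i => v (Sum.inl (Sum.inr i))))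
      (fun l => v (Sum.inr l)) := by
    ext ((i | i) | l) <;> rfl
  generalize (fun i => v (Sum.inl (Sum.inl i))) = x at hv
  generalize (fun i => v (Sum.inl (Sum.inr i))) = y at hv
  generalize (fun l => v (Sum.inr l)) = z at hv
  subst hv
  rw [hw, sqdom8_mulVec, sqdom8_quad, sqdom8_quad]
  have h2 : (2 : F) = 0 := CharTwo.two_eq_zero
  have hy := h y
  rw [add_dotProduct, add_dotProduct, sqdom8_cross, dotProduct_comm (C *ᵥ y) y, hy]
  unfold omQ0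
  simp only [Pi.add_apply]
  linear_combination ((R *ᵥ y) 0 ^ 2 + a * (R *ᵥ y) 0 * (R *ᵥ y) 1 + b * (R *ᵥ y) 1 ^ 2 +
    a * (R *ᵥ y) 1 * z 0 + a * (R *ᵥ y) 0 * z 1 + (R *ᵥ y) 0 * z 0 + b * (R *ᵥ y) 1 * z 1) * h2

end OM

end Cfsg.Agent.Lib.helper14.SQD
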