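import Mathlib

/-!
# SQD rows TF8b (`exists_comm_param`) and TF13 (`tf_f_ne`), verbatim: two Mathlib-only leaves.
-/

set_option autoImplicit false

namespace Cfsg.Agent.Lib.helper14.SQD

universe u v

/-- TF8b [E-M] LEAF (Mathlib only). -/
theorem exists_comm_param {K : Type u} [Field K] [CharP K 2] (f : K ≃+* K) (hf : ∀ t : K, f (f t) ^ 2 = t)
    (a₀ : K) (ha : f a₀ ≠ a₀) (z : K) : ∃ a b : K, f a * b + f b * a = z := by
  by_cases hz : z = 0
  · exact ⟨0, 0, by simp [hz]⟩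
  have hu : f a₀ + a₀ ≠ 0 := by
    intro h
    apply ha
    have h2 : f a₀ = -a₀ := eq_neg_of_add_eq_zero_left h
    rw [h2, CharTwo.neg_eq]
  set w : K := z / (f a₀ + a₀) with hw
  have hw0 : w ≠ 0 := div_ne_zero hz hu
  have hfw0 : f w ≠ 0 := by
    intro h
    apply hw0
    have := f.injective (h.trans (map_zero f).symm)
    exact this
  set c : K := w ^ 2 * (f w ^ 2)⁻¹ with hc
  have hfc : f c = f w ^ 2 * w⁻¹ := by
    rw [hc, map_mul, map_pow, map_inv₀, map_pow, hf w]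
  have hcc : f c * c = w := by
    rw [hfc, hc]
    field_simp
  refine ⟨c * a₀, c, ?_⟩
  rw [map_mul]
  calc f c * f a₀ * c + f c * (c * a₀) = f c * c * (f a₀ + a₀) := by ring
    _ = w * (f a₀ + a₀) := by rw [hcc]
    _ = z := by rw [hw]; field_simp

open Polynomial in
/-- TF13 [E-M] LEAF (Mathlib only). -/
theorem tf_f_ne {K : Type u} [Field K] [Fintype K] (m : ℕ) (hm : 1 ≤ m) (hK : Fintype.card K = 2 ^ (2 * m + 1)) :
    ∃ a : K, a ^ (2 ^ m) ≠ a := by
  classical
  by_contra hcon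
  push Not at hcon
  have h1 : 1 < 2 ^ m := Nat.one_lt_two_pow (by omega)
  have hne : (X ^ (2 ^ m) - X : K[X]) ≠ 0 := FiniteField.X_pow_card_sub_X_ne_zero K h1
  have hdeg : (X ^ (2 ^ m) - X : K[X]).natDegree = 2 ^ m := FiniteField.X_pow_card_sub_X_natDegree_eq K h1
  have hsub : (Finset.univ : Finset K) ⊆ (X ^ (2 ^ m) - X : K[X]).roots.toFinset := by
    intro a _
    rw [Multiset.mem_toFinset, mem_roots hne]
    simp [hcon a]
  have h2 : Fintype.card K ≤ 2 ^ m := by
    calc Fintype.card K = (Finset.univ : Finset K).card := rfl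
      _ ≤ (X ^ (2 ^ m) - X : K[X]).roots.toFinset.card := Finset.card_le_card hsub
      _ ≤ Multiset.card (X ^ (2 ^ m) - X : K[X]).roots := Multiset.toFinset_card_le _
      _ ≤ (X ^ (2 ^ m) - X : K[X]).natDegree := card_roots' _
      _ = 2 ^ m := hdeg
  rw [hK] at h2
  have h3 : 2 ^ m < 2 ^ (2 * m + 1) := Nat.pow_lt_pow_right (by norm_num) (by omega)
  omega

end Cfsg.Agent.Lib.helper14.SQD
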