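import Mathlib
import Cfsg.Prelude.Def_LieTypeChar
import Cfsg.Prelude.Def_ChevStructure
import Cfsg.Prelude.Def_ChevF4
import Cfsg.Prelude.Def_LieTwisted
import Cfsg.Agent.Lib.helper8.ChevTF35
import Cfsg.Agent.Lib.helper8.ChevTwU2
import Cfsg.Agent.Lib.helper14.SQD.Defs
import Cfsg.Agent.Lib.helper14.SQD.DefsTF
import Cfsg.Agent.Lib.Helper29.SQDX1
import Cfsg.Agent.Lib.Helper10.SQDTF8b

/-!
# SQD row TF8c (`sqd_tfX2`), verbatim: squares of the Suzuki-type class group are commutators.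
-/

set_option autoImplicit false

namespace Cfsg.Agent.Lib.helper14.SQD

open Cfsg Cfsg.Lie Cfsg.Lie.ChevalleyDatum Cfsg.Agent.Lib.helper8
open scoped commutatorElement

universe u v

/-- TF8c [M]. -/
theorem sqd_tfX2 {K : Type u} [Field K] [CharP K 2] {hB : H8Base.{u} chevF4} (R : H8TF K hB) (a₀ : K)
    (ha : R.f a₀ ≠ a₀) : SqD (tfX2 R) := by
  have hC := h8commAll.{u} chevF4 h8tf_F4_mem
  have hmul := h8tfCls_mul R hC
  have hself : ∀ x : K, x + x = 0 := fun x => CharTwo.add_self_eq_zero x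
  apply sqd_of_closure (tfX2 R) (Set.range fun p : K × K => h8tfCls R 27 25 28 30 p.1 p.2) rfl
  rintro s ⟨⟨t, v⟩, rfl⟩
  show (h8tfCls R 27 25 28 30 t v) ^ 2 ∈ ⁅tfX2 R, tfX2 R⁆
  obtain ⟨a, b, hab⟩ := exists_comm_param R.f R.hf a₀ ha (R.f t * t)
  have hmem : ∀ x y : K, h8tfCls R 27 25 28 30 x y ∈ tfX2 R := fun x y =>
    Subgroup.subset_closure ⟨(x, y), rfl⟩
  have hsq : (h8tfCls R 27 25 28 30 t v) ^ 2 = h8tfCls R 27 25 28 30 0 (R.f t * t) := by
    rw [pow_two, hmul, hself, hself, zero_add]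
  have hcomm : h8tfCls R 27 25 28 30 0 (R.f t * t) =
      ⁅h8tfCls R 27 25 28 30 a 0, h8tfCls R 27 25 28 30 b 0⁆ := by
    rw [commutatorElement_def]
    have h1 : h8tfCls R 27 25 28 30 0 (R.f t * t) *
        (h8tfCls R 27 25 28 30 b 0 * h8tfCls R 27 25 28 30 a 0) =
        h8tfCls R 27 25 28 30 a 0 * h8tfCls R 27 25 28 30 b 0 := by
      rw [hmul, hmul, hmul]
      congr 1
      · rw [zero_add, add_comm]
      · rw [map_zero, zero_mul, add_zero, add_zero, zero_add, zero_add, ← hab, add_assoc, hself,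
          add_zero]
    rw [← h1]
    group
  rw [hsq, hcomm]
  exact Subgroup.commutator_mem_commutator (hmem a 0) (hmem b 0)

end Cfsg.Agent.Lib.helper14.SQD
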