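import Mathlib
import Cfsg.Prelude.Def_LieTypeChar
import Cfsg.Agent.Lib.helper14.SQD.Defs
import Cfsg.Agent.Lib.helper14.SQD.DefsU

/-!
# SQD rows UE3 (`psiE_injective`) and UO6a (`psiO_injective`), verbatim: all factors of `psiE`, `psiO` are injective.
-/

set_option autoImplicit false
set_option linter.unusedSectionVars false

namespace Cfsg.Agent.Lib.helper14.SQD

open Cfsg Cfsg.Lie Matrix

universe u v

section UE
variable {F : Type} [Field F] [Fintype F] [CharP F 2] (e : ℕ) {k : ℕ}

/-- UE3 [E]. All factors of `psiE` are injective. -/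
theorem psiE_injective (a : F) : Function.Injective (psiE (k := k) (F := F) (2 ^ e) a) := by
  unfold psiE
  intro x y h
  simp only [MonoidHom.comp_apply, MulEquiv.coe_toMonoidHom] at h
  have h1 := (MulAut.conj ((pevU a : GL (Fin k ⊕ Fin k) F)⁻¹)).injective h
  have h2 := (reGL F (finSumFinEquiv : Fin k ⊕ Fin k ≃ Fin (k + k))).injective h1
  have h3 := Matrix.SpecialLinearGroup.toGL_injective h2
  exact Subtype.ext h3

end UE

section UO
variable {F : Type} [Field F] [Fintype F] [CharP F 2] (e : ℕ) {k : ℕ}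

/-- UO6a [E]. -/
theorem psiO_injective (a : F) : Function.Injective (psiO (k := k) (F := F) (2 ^ e) a) := by
  unfold psiO
  intro x y h
  simp only [MonoidHom.comp_apply, MulEquiv.coe_toMonoidHom] at h
  have h1 := (MulAut.conj ((embGL 1 (pevU a : GL (Fin k ⊕ Fin k) F))⁻¹)).injective h
  have h2 := (reGL F ((Equiv.sumCongr (finSumFinEquiv : Fin k ⊕ Fin k ≃ Fin (k + k))
    (Equiv.refl (Fin 1))).trans
      (finSumFinEquiv : Fin (k + k) ⊕ Fin 1 ≃ Fin (k + k + 1)))).injective h1
  have h3 := Matrix.SpecialLinearGroup.toGL_injective h2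
  exact Subtype.ext h3

end UO

end Cfsg.Agent.Lib.helper14.SQD
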