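import Mathlib
import Cfsg.Prelude.Def_LieTypeChar
import Cfsg.Agent.Lib.helper14.SQD.Defs
import Cfsg.Agent.Lib.helper14.SQD.DefsU

/-!
# SQD rows UO1 (`suC_props`) and UO2 (`suC_lev`), cores: generic in the involutive ring endomorphism `τ`
(`hτ : ∀ x, τ (τ x) = x`, which is UF2 `frobE_frobE` for `τ = frobE F e`).
-/

set_option autoImplicit false

namespace Cfsg.Agent.Lib.helper14.SQD

open Cfsg Cfsg.Lie Matrix

universe u v

section

variable {F : Type u} [Field F] (τ : F →+* F)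

theorem sqduo1_tadj_tadj (hτ : ∀ x, τ (τ x) = x) {m n : Type*} (A : Matrix m n F) :
    tadj τ (tadj τ A) = A := by
  unfold tadj
  ext i j
  simp [hτ]

theorem sqduo1_tadj_zero {m n : Type*} : tadj τ (0 : Matrix m n F) = 0 := by
  unfold tadj
  ext i j
  simp

theorem sqduo1_tadj_neg {m n : Type*} (A : Matrix m n F) : tadj τ (-A) = -tadj τ A := by
  unfold tadj
  ext i j
  simp

/-- UO1, generic core. -/
theorem sqduo1_core {k : ℕ} (hτ : ∀ x, τ (τ x) = x) :
    suC (k := k) τ 0 0 ∧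
    (∀ R C R' C', suC (k := k) τ R C → suC τ R' C' →
      suC τ (R + R') (C + C' + tadj τ R * (1 : Matrix (Fin 1) (Fin 1) F) * R')) ∧
    ∀ R C, suC (k := k) τ R C →
      suC τ (-R) (-C + tadj τ R * (1 : Matrix (Fin 1) (Fin 1) F) * R) := by
  refine ⟨?_, ?_, ?_⟩
  · unfold suC
    rw [sqduo1_tadj_zero, sqduo1_tadj_zero, add_zero, Matrix.zero_mul]
  · intro R C R' C' h h'
    unfold suC at *
    rw [Matrix.mul_one, tadj_add, tadj_add, tadj_mul, sqduo1_tadj_tadj τ hτ, tadj_add,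
      Matrix.add_mul, Matrix.mul_add, Matrix.mul_add, ← h, ← h']
    abel
  · intro R C h
    unfold suC at *
    rw [Matrix.mul_one, tadj_add, tadj_mul, sqduo1_tadj_tadj τ hτ, sqduo1_tadj_neg, sqduo1_tadj_neg,
      Matrix.neg_mul, Matrix.mul_neg, neg_neg, ← h]
    abel

/-- UO2, generic core. -/
theorem sqduo2_core {k : ℕ} (hτ : ∀ x, τ (τ x) = x) (g : Matrix (Fin k) (Fin k) F)
    (R : Matrix (Fin 1) (Fin k) F) (C : Matrix (Fin k) (Fin k) F) (h : suC τ R C) :
    suC τ (R * tadj τ g) (g * C * tadj τ g) := by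
  unfold suC at *
  rw [tadj_mul, tadj_mul, tadj_mul, sqduo1_tadj_tadj τ hτ]
  calc g * C * tadj τ g + g * (tadj τ C * tadj τ g)
      = g * (C + tadj τ C) * tadj τ g := by
        rw [Matrix.mul_add, Matrix.add_mul, Matrix.mul_assoc g (tadj τ C)]
    _ = g * (tadj τ R * R) * tadj τ g := by rw [h]
    _ = g * tadj τ R * (R * tadj τ g) := by
        simp only [Matrix.mul_assoc]

end

end Cfsg.Agent.Lib.helper14.SQD
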