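import Mathlib
import Cfsg.Prelude.Def_LieTypeChar
import Cfsg.Agent.Lib.helper14.SQD.Defs
import Cfsg.Agent.Lib.helper14.SQD.DefsU
import Cfsg.Agent.Lib.Helper10.SQDUO1core
import Cfsg.Agent.Lib.Helper18.SQDUF

/-!
# SQD rows UO1 (`suC_props`) and UO2 (`suC_lev`), verbatim: the generic cores with UF2 (`frobE_frobE`, Helper18).
-/

set_option autoImplicit false
set_option linter.unusedSectionVars false

namespace Cfsg.Agent.Lib.helper14.SQD

open Cfsg Cfsg.Lie Matrix

universe u v

section UO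
variable {F : Type} [Field F] [Fintype F] [CharP F 2] (e : ℕ) {k : ℕ}

/-- UO1 [M]. -/
theorem suC_props (hF : Fintype.card F = (2 ^ e) ^ 2) :
    suC (k := k) (frobE F e) 0 0 ∧
    (∀ R C R' C', suC (k := k) (frobE F e) R C → suC (frobE F e) R' C' →
      suC (frobE F e) (R + R') (C + C' + tadj (frobE F e) R * (1 : Matrix (Fin 1) (Fin 1) F) * R')) ∧
    ∀ R C, suC (k := k) (frobE F e) R C →
      suC (frobE F e) (-R) (-C + tadj (frobE F e) R * (1 : Matrix (Fin 1) (Fin 1) F) * R) :=
  sqduo1_core (frobE F e) (frobE_frobE e hF)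

/-- UO2 [E-M]. Stability under the Levi action. -/
theorem suC_lev (hF : Fintype.card F = (2 ^ e) ^ 2) (g : Matrix (Fin k) (Fin k) F)
    (R : Matrix (Fin 1) (Fin k) F) (C : Matrix (Fin k) (Fin k) F) (h : suC (frobE F e) R C) :
    suC (frobE F e) (R * tadj (frobE F e) g) (g * C * tadj (frobE F e) g) :=
  sqduo2_core (frobE F e) (frobE_frobE e hF) g R C h

end UO

end Cfsg.Agent.Lib.helper14.SQD
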