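import Cfsg.Agent.Lib.helper15.SUn.Iso
import Cfsg.Agent.Lib.Helper28.UGen2
import Cfsg.Agent.Lib.Helper28.UHerm
import Cfsg.Agent.S0780

set_option autoImplicit false

/-! Project SUn (S2282), piece P10 (helper10): four-term identity, second difference,
generator of the fixed field. -/

namespace Cfsg.Agent.Lib.Helper10.SUnP10

open Matrix Cfsg.Agent.Lib.helper15.SUn Cfsg.Agent.Lib.Helper28.UGen

variable {F : Type*} [Field F] [Fintype F] {n : ℕ} {q : ℕ} {σ : F ≃+* F}

theorem four_term (hσ : ∀ x, σ x = x ^ q) (hf : Cfsg.Geo.IsUnitaryForm σ (Cfsg.hermForm n F q))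
    {a b : Fin n → F} (haa : Cfsg.hermForm n F q a a = 0) (hbb : Cfsg.hermForm n F q b b = 0)
    (hab : Cfsg.hermForm n F q a b = 0) (c κ : F) :
    TV σ a c * TV σ (a + b) (-c) * TV σ (a + κ • b) (-c) * TV σ (a + (1 + κ) • b) c =
      TV σ b (c * (κ + σ κ)) := by
  have hba : Cfsg.hermForm n F q b a = 0 := by
    rw [hf.herm b a, hab, map_zero]
  apply mat_ext
  intro x
  rw [← Matrix.mulVec_mulVec, ← Matrix.mulVec_mulVec, ← Matrix.mulVec_mulVec]
  simp only [TV_mulVec hσ, herm_add_left, herm_add_right hσ, herm_smul_left, herm_smul_right hσ,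
    haa, hbb, hab, hba, map_add, map_one, mul_zero, add_zero, zero_add]
  module

theorem second_diff (hσ : ∀ x, σ x = x ^ q) (hf : Cfsg.Geo.IsUnitaryForm σ (Cfsg.hermForm n F q))
    {a b : Fin n → F} (haa : Cfsg.hermForm n F q a a = 0) (hbb : Cfsg.hermForm n F q b b = 0)
    (hab : Cfsg.hermForm n F q a b = 0) (c θ : F) :
    TV σ a c * TV σ (a + θ • b) (-(2 * c)) * TV σ (a + (2 * θ) • b) c =
      TV σ b (2 * (θ * σ θ) * c) := by
  have hba : Cfsg.hermForm n F q b a = 0 := by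
    rw [hf.herm b a, hab, map_zero]
  apply mat_ext
  intro x
  rw [← Matrix.mulVec_mulVec, ← Matrix.mulVec_mulVec]
  simp only [TV_mulVec hσ, herm_add_left, herm_add_right hσ, herm_smul_left, herm_smul_right hσ,
    haa, hbb, hab, hba, map_add, map_one, map_mul, map_ofNat, mul_zero, add_zero, zero_add]
  module

theorem exists_fix_gen (hF : Fintype.card F = q ^ 2) (hσ : ∀ x, σ x = x ^ q)
    (hf : Cfsg.Geo.IsUnitaryForm σ (Cfsg.hermForm n F q)) :
    ∃ ν : F, σ ν = ν ∧ ν ≠ 0 ∧ ∀ r : F, σ r = r → r ≠ 0 → ∃ j : ℕ, r = ν ^ j := by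
  classical
  let K : Subgroup Fˣ :=
    { carrier := {u | σ (u : F) = u}
      mul_mem' := by
        intro a b ha hb
        simp only [Set.mem_ofPred_eq] at ha hb ⊢
        rw [Units.val_mul, map_mul, ha, hb]
      one_mem' := by simp
      inv_mem' := by
        intro a ha
        simp only [Set.mem_ofPred_eq] at ha ⊢
        rw [Units.val_inv_eq_inv_val, map_inv₀, ha] }
  have : IsCyclic K := Subgroup.isCyclic K
  obtain ⟨g, hg⟩ := IsCyclic.exists_monoid_generator (α := K)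
  refine ⟨((g : Fˣ) : F), g.2, Units.ne_zero _, ?_⟩
  intro r hr hr0
  have hmem : Units.mk0 r hr0 ∈ K := by
    show σ ((Units.mk0 r hr0 : Fˣ) : F) = _
    simpa using hr
  obtain ⟨j, hj⟩ := hg ⟨Units.mk0 r hr0, hmem⟩
  refine ⟨j, ?_⟩
  have := congrArg (fun x : K => ((x : Fˣ) : F)) hj
  simp only [SubmonoidClass.coe_pow, Units.val_pow_eq_pow_val, Units.val_mk0] at this
  exact this.symm

end Cfsg.Agent.Lib.Helper10.SUnP10
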