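import Cfsg.Agent.Lib.helper15.SUn.Iso
import Cfsg.Agent.Lib.Helper28.UGen2
import Cfsg.Agent.Lib.Helper28.UHerm
import Cfsg.Agent.S0780

set_option autoImplicit false

/-! Project SUn (S2282), piece P12 (helper10): closure of the skew elements. -/

namespace Cfsg.Agent.Lib.Helper10.SUnP12

open Matrix Cfsg.Agent.Lib.helper15.SUn Cfsg.Agent.Lib.Helper28.UGen

variable {F : Type*} [Field F] [Fintype F] {n : ℕ} {q : ℕ} {σ : F ≃+* F}

/-- in a finite field with `2 ≠ 0`, an additive subgroup is closed under halving -/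
theorem half_mem (h2 : (2 : F) ≠ 0) (S : AddSubgroup F) {x : F} (hx : x ∈ S) : 2⁻¹ * x ∈ S := by
  have hpow : (2 : F) ^ (Fintype.card F - 1) = 1 := FiniteField.pow_card_sub_one_eq_one 2 h2
  have hcard : 2 ≤ Fintype.card F := Fintype.one_lt_card
  have hinv : (2 : F)⁻¹ = 2 ^ (Fintype.card F - 2) := by
    apply inv_eq_of_mul_eq_one_right
    rw [← pow_succ', show Fintype.card F - 2 + 1 = Fintype.card F - 1 by omega, hpow]
  have : 2⁻¹ * x = (2 ^ (Fintype.card F - 2) : ℕ) • x := by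
    rw [hinv, nsmul_eq_mul]
    push_cast
    rfl
  rw [this]
  exact S.nsmul_mem hx _

theorem skew_closure_odd (hF : Fintype.card F = q ^ 2) (hσ : ∀ x, σ x = x ^ q)
    (hf : Cfsg.Geo.IsUnitaryForm σ (Cfsg.hermForm n F q)) (h2 : (2 : F) ≠ 0)
    (S : AddSubgroup F) {ν c0 : F} (hν : σ ν = ν) (hν0 : ν ≠ 0)
    (hgen : ∀ r : F, σ r = r → r ≠ 0 → ∃ j : ℕ, r = ν ^ j)
    (hc0 : c0 ∈ S) (hc00 : c0 ≠ 0) (hc0σ : σ c0 = -c0)
    (hmul : ∀ c ∈ S, 2 * ν ^ 2 * c ∈ S) : ∀ c : F, σ c = -c → c ∈ S := by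
  -- the auxiliary subgroup
  let S' : AddSubgroup F :=
    { carrier := {r | r * c0 ∈ S}
      add_mem' := by
        intro a b ha hb
        show (a + b) * c0 ∈ S
        rw [add_mul]
        exact S.add_mem ha hb
      zero_mem' := by
        show (0 : F) * c0 ∈ S
        rw [zero_mul]
        exact S.zero_mem
      neg_mem' := by
        intro a ha
        show (-a) * c0 ∈ S
        rw [neg_mul]
        exact S.neg_mem ha }
  have hS' : ∀ r, r ∈ S' ↔ r * c0 ∈ S := fun r => Iff.rfl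
  have h1 : (1 : F) ∈ S' := by rw [hS', one_mul]; exact hc0
  have hstep : ∀ r ∈ S', ν ^ 2 * r ∈ S' := by
    intro r hr
    have h := hmul _ ((hS' r).mp hr)
    have h' : 2 * (ν ^ 2 * r) ∈ S' := by
      rw [hS']
      have e : 2 * (ν ^ 2 * r) * c0 = 2 * ν ^ 2 * (r * c0) := by ring
      rw [e]
      exact h
    have := half_mem h2 S' h'
    rwa [← mul_assoc, inv_mul_cancel₀ h2, one_mul] at this
  have hpow : ∀ i : ℕ, ν ^ (2 * i) ∈ S' := by
    intro i
    induction i with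
    | zero => simpa using h1
    | succ i ih =>
      have := hstep _ ih
      rwa [← pow_add, show 2 + 2 * i = 2 * (i + 1) by ring] at this
  have hsq : ∀ r : F, σ r = r → r ^ 2 ∈ S' := by
    intro r hr
    by_cases hr0 : r = 0
    · rw [hr0]
      simp only [ne_eq, OfNat.ofNat_ne_zero, not_false_eq_true, zero_pow]
      exact S'.zero_mem
    · obtain ⟨j, rfl⟩ := hgen r hr hr0
      rw [← pow_mul, mul_comm]
      exact hpow j
  have hσ2 : σ 2 = 2 := map_ofNat σ 2
  have hσhalf : σ (2⁻¹ : F) = 2⁻¹ := by rw [map_inv₀, hσ2]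
  have hfix : ∀ x : F, σ x = x → x ∈ S' := by
    intro x hx
    have e : x = ((x + 1) * 2⁻¹) ^ 2 - ((x - 1) * 2⁻¹) ^ 2 := by
      field_simp
      ring
    rw [e]
    apply S'.sub_mem
    · apply hsq
      rw [map_mul, map_add, hx, map_one, hσhalf]
    · apply hsq
      rw [map_mul, map_sub, hx, map_one, hσhalf]
  intro c hc
  have hr : σ (c / c0) = c / c0 := by
    rw [map_div₀, hc, hc0σ, neg_div_neg_eq]
  have := (hS' _).mp (hfix _ hr)
  rwa [div_mul_cancel₀ _ hc00] at this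

end Cfsg.Agent.Lib.Helper10.SUnP12
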