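import Cfsg.Agent.Lib.helper15.SUn.Iso
import Cfsg.Agent.Lib.Helper28.UGen2
import Cfsg.Agent.Lib.Helper28.UHerm
import Cfsg.Agent.S0780

set_option autoImplicit false

/-! Project SUn (S2282), piece P3 (helper10): the Baer-subline argument. -/

namespace Cfsg.Agent.Lib.Helper10.SUnP3

open Matrix Cfsg.Agent.Lib.helper15.SUn Cfsg.Agent.Lib.Helper28.UGen

variable {F : Type*} [Field F] [Fintype F] {n : ℕ} {q : ℕ} {σ : F ≃+* F}

/-- the matrix identity giving `Sg a b (c (1 - k))` from four transvections -/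
theorem sg_eq (hσ : ∀ x, σ x = x ^ q) (hf : Cfsg.Geo.IsUnitaryForm σ (Cfsg.hermForm n F q))
    {a b : Fin n → F} (haa : Cfsg.hermForm n F q a a = 0) (hbb : Cfsg.hermForm n F q b b = 0)
    (hab : Cfsg.hermForm n F q a b = 0) {c k : F} (hc : σ c = -c) (hkσ : σ k = k) :
    TV σ (a + b) c * TV σ b (-c) * TV σ b (k ^ 2 * c) * TV σ (a + k • b) (-c) =
      Sg σ a b (c * (1 - k)) := by
  have hba : Cfsg.hermForm n F q b a = 0 := by
    rw [hf.herm b a, hab, map_zero]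
  apply mat_ext
  intro x
  rw [← Matrix.mulVec_mulVec, ← Matrix.mulVec_mulVec, ← Matrix.mulVec_mulVec]
  simp only [TV_mulVec hσ, Sg_mulVec hσ, herm_add_left, herm_add_right hσ, herm_smul_left,
    herm_smul_right hσ, haa, hbb, hab, hba, map_add, map_one, map_mul, map_sub, hc, hkσ,
    mul_zero, add_zero, zero_add]
  module

/-- the matrix identity giving `TV a c` -/
theorem tv_eq (hσ : ∀ x, σ x = x ^ q) (hf : Cfsg.Geo.IsUnitaryForm σ (Cfsg.hermForm n F q))
    {a b : Fin n → F} (haa : Cfsg.hermForm n F q a a = 0) (hbb : Cfsg.hermForm n F q b b = 0)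
    (hab : Cfsg.hermForm n F q a b = 0) {c : F} (hc : σ c = -c) :
    TV σ (a + b) c * TV σ b (-c) * Sg σ a b (-c) = TV σ a c := by
  have hba : Cfsg.hermForm n F q b a = 0 := by
    rw [hf.herm b a, hab, map_zero]
  apply mat_ext
  intro x
  rw [← Matrix.mulVec_mulVec, ← Matrix.mulVec_mulVec]
  simp only [TV_mulVec hσ, Sg_mulVec hσ, herm_add_left, herm_add_right hσ, herm_smul_left,
    herm_smul_right hσ, herm_sub_left, haa, hbb, hab, hba, map_add, map_one, map_mul, map_sub,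
    map_neg, hc, mul_zero, add_zero, zero_add, sub_zero, neg_neg]
  module

theorem baer (hσ : ∀ x, σ x = x ^ q)
    (hf : Cfsg.Geo.IsUnitaryForm σ (Cfsg.hermForm n F q)) {H : Subgroup ↥(Cfsg.SU n F q)}
    {a b : Fin n → F} (haa : Cfsg.hermForm n F q a a = 0) (hab : Cfsg.hermForm n F q a b = 0)
    (hb : b ∈ DD σ H) (h1 : a + b ∈ DD σ H) {k : F} (hk : a + k • b ∈ DD σ H)
    (hk1 : k ≠ 1) (hkσ : σ k = k) : a ∈ DD σ H := by
  have hbb : Cfsg.hermForm n F q b b = 0 := hb.1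
  have h1k : (1 - k) ≠ 0 := fun h => hk1 (by linear_combination -h)
  -- all `Sg a b c'` with `c'` skew lie in `H`
  have hSg : ∀ c' : F, σ c' = -c' → InH H (Sg σ a b c') := by
    intro c' hc'
    have hc : σ (c' * (1 - k)⁻¹) = -(c' * (1 - k)⁻¹) := by
      rw [map_mul, map_inv₀, map_sub, map_one, hkσ, hc']
      ring
    have h := sg_eq hσ hf haa hbb hab hc hkσ
    rw [mul_assoc c', inv_mul_cancel₀ h1k, mul_one] at h
    rw [← h]
    have hnc : σ (-(c' * (1 - k)⁻¹)) = -(-(c' * (1 - k)⁻¹)) := by rw [map_neg, hc]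
    have hk2 : σ (k ^ 2 * (c' * (1 - k)⁻¹)) = -(k ^ 2 * (c' * (1 - k)⁻¹)) := by
      rw [map_mul, map_pow, hkσ, hc]
      ring
    exact (((h1.2 _ hc).mul (hb.2 _ hnc)).mul (hb.2 _ hk2)).mul (hk.2 _ hnc)
  refine ⟨haa, ?_⟩
  intro c hc
  have hnc : σ (-c) = -(-c) := by rw [map_neg, hc]
  rw [← tv_eq hσ hf haa hbb hab hc]
  exact ((h1.2 _ hc).mul (hb.2 _ hnc)).mul (hSg _ hnc)

end Cfsg.Agent.Lib.Helper10.SUnP3
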