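import Cfsg.Agent.Lib.Helper19.SW.Defs
import Cfsg.Agent.Lib.Helper27.SWA2
import Cfsg.Agent.Lib.Helper9.SWA7
import Cfsg.Agent.Lib.Helper9.SWB1
import Cfsg.Agent.Lib.Helper1.SWB2
import Cfsg.Agent.Lib.Helper1.SWB3

set_option autoImplicit false

namespace Cfsg.Agent.Lib.Helper19.SW

variable {G : Type*} [Group G] {Ω : Type*} [MulAction G Ω] {R : Ω → Ω → Prop} {a b : Ω}

/-! ## Piece B5 : the first vertex of a critical pair decides `Pout` / `Pin` -/
section B5

/-- transport of `r(v;w) = C_w'` along the group action (abstract layer). -/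
theorem b5_transport {V : Type*} [MulAction G V] {Adj : V → V → Prop} (h : LS3 G Adj) (g : G)
    (v w y : V) (hrs : rs G Adj v w = Cs G Adj y) :
    rs G Adj (g • v) (g • w) = Cs G Adj (g • y) := by
  ext x
  have e : x = g * (g⁻¹ * x * g) * g⁻¹ := by group
  constructor
  · intro hx
    rw [e] at hx ⊢
    rw [conj_mem_rs h] at hx
    rw [conj_mem_Cs h, ← hrs]
    exact hx
  · intro hx
    rw [e] at hx ⊢
    rw [conj_mem_Cs h] at hx
    rw [conj_mem_rs h, hrs]
    exact hx

theorem b5_exists_out (S : SimsSetting G R a b) (u : Ω) : ∃ w, R u w := by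
  have h := out3_all S u
  have hne : {w | R u w}.Nonempty := by
    rw [← Set.ncard_pos (Set.finite_of_ncard_ne_zero (by rw [h]; norm_num)), h]
    norm_num
  exact hne

theorem b5_exists_in (S : SimsSetting G R a b) (w : Ω) : ∃ u, R u w := by
  have h := in3_all S w
  have hne : {u | R u w}.Nonempty := by
    rw [← Set.ncard_pos (Set.finite_of_ncard_ne_zero (by rw [h]; norm_num)), h]
    norm_num
  exact hne

theorem pout_of_crit (S : SimsSetting G R a b) {p : ℕ → SVtx Ω} {n : ℕ}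
    (hc : IsCritical G (AdjS R) p n) (hn : 2 ≤ n) (ho : (p 0).out = true) :
    Nat.card (Cp G R a) = 2 ∧ Pout G R := by
  have hL : LS3 G (AdjS R) := ls3 S
  obtain ⟨hcard, hrs⟩ := crit_first hL (quad_S S) hc hn
  set y : Ω := (p 0).pt with hy
  have hp0 : p 0 = ⟨y, true⟩ := by
    rcases hpp : p 0 with ⟨q, o⟩
    rw [hpp] at ho
    simp only at ho
    subst ho
    simp [hy, hpp]
  constructor
  · rw [Cs_S S] at hcard
    rw [card_Cp_eq S a y]
    exact hcard
  · intro u w huw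
    obtain ⟨w0, hw0⟩ := b5_exists_out S y
    have hadj : AdjS R (p 0) ⟨w0, false⟩ := by
      rw [hp0, adjS_out]; exact ⟨rfl, hw0⟩
    have h1 := hrs _ hadj
    obtain ⟨g, hgu, hgw⟩ := arc_trans S hw0 huw
    have h2 := b5_transport hL g _ _ _ h1
    rw [rs_S S, Cs_S S] at h2
    have e1 : (g • (⟨w0, false⟩ : SVtx Ω)).pt = w := by rw [SVtx.smul_pt]; exact hgw
    have e2 : (g • p 0).pt = u := by rw [SVtx.smul_pt]; exact hgu
    rw [e1, e2] at h2
    exact h2

theorem pin_of_crit (S : SimsSetting G R a b) {p : ℕ → SVtx Ω} {n : ℕ}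
    (hc : IsCritical G (AdjS R) p n) (hn : 2 ≤ n) (ho : (p 0).out = false) :
    Nat.card (Cp G R a) = 2 ∧ Pin G R := by
  have hL : LS3 G (AdjS R) := ls3 S
  obtain ⟨hcard, hrs⟩ := crit_first hL (quad_S S) hc hn
  set y : Ω := (p 0).pt with hy
  have hp0 : p 0 = ⟨y, false⟩ := by
    rcases hpp : p 0 with ⟨q, o⟩
    rw [hpp] at ho
    simp only at ho
    subst ho
    simp [hy, hpp]
  constructor
  · rw [Cs_S S] at hcard
    rw [card_Cp_eq S a y]
    exact hcard
  · intro u w huw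
    obtain ⟨u0, hu0⟩ := b5_exists_in S y
    have hadj : AdjS R (p 0) ⟨u0, true⟩ := by
      rw [hp0, adjS_in]; exact ⟨rfl, hu0⟩
    have h1 := hrs _ hadj
    obtain ⟨g, hgu, hgw⟩ := arc_trans S hu0 huw
    have h2 := b5_transport hL g _ _ _ h1
    rw [rs_S S, Cs_S S] at h2
    have e1 : (g • (⟨u0, true⟩ : SVtx Ω)).pt = u := by rw [SVtx.smul_pt]; exact hgu
    have e2 : (g • p 0).pt = w := by rw [SVtx.smul_pt]; exact hgw
    rw [e1, e2] at h2
    exact h2

end B5

end Cfsg.Agent.Lib.Helper19.SW
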