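import Cfsg.Agent.Lib.Helper19.SW.Defs
import Cfsg.Agent.Lib.Helper25.SWA1
import Cfsg.Agent.Lib.Helper27.SWA2
import Cfsg.Agent.Lib.helper15.SWA3
import Cfsg.Agent.Lib.Helper10.SWA6
import Cfsg.Agent.Lib.helper3.SWA8
import Cfsg.Agent.Lib.Helper9.SWB1
import Cfsg.Agent.Lib.Helper1.SWB2
import Cfsg.Agent.Lib.Helper1.SWB3
import Cfsg.Agent.Lib.Helper25.SWB4

set_option autoImplicit false

namespace Cfsg.Agent.Lib.Helper19.SW

variable {G : Type*} [Group G] {Ω : Type*} [MulAction G Ω] {R : Ω → Ω → Prop} {a b : Ω}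

/-! ## Piece B6 : `Pout ∧ Pin` is impossible (self-paired case: `b = 2`, then the `b = 2` trick) -/
section B6

/-- `c_u` only depends on the subgroup `C_u`. -/
theorem b6_cEl_congr (S : SimsSetting G R a b) (hC : Nat.card (Cp G R a) = 2) {u w : Ω}
    (h : Cp G R u = Cp G R w) : cEl G R u = cEl G R w :=
  eq_cEl S hC (h ▸ cEl_mem S hC u) (cEl_ne_one S hC u)

theorem symm_of_both (S : SimsSetting G R a b) (hC : Nat.card (Cp G R a) = 2) (ho : Pout G R)
    (hi : Pin G R) : ∀ u w, R u w → R w u := by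
  intro u w huw
  obtain ⟨x, hwx, hT⟩ := succ_exists S huw
  have h1 : rp G R w u = Cp G R u := ho u w huw
  have h2 : rp G R w x = Cp G R x := hi w x hwx
  have h3 : rp G R w u = rp G R w x := by
    unfold rp
    rw [Ts_comm w u, ← hT]
  have h4 : Cp G R u = Cp G R x := by rw [← h1, h3, h2]
  have h5 : u = x := cEl_injective S hC (b6_cEl_congr S hC h4)
  rw [h5]
  exact hwx

/-- with `Pout` and `Pin`: `r(v;w) = C_w` for all adjacent `v, w` of the double cover. -/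
theorem b6_rs_eq (S : SimsSetting G R a b) (ho : Pout G R) (hi : Pin G R) {v w : SVtx Ω}
    (hvw : AdjS R v w) : rs G (AdjS R) v w = Cp G R w.pt := by
  rw [rs_S S]
  rcases hvw with ⟨_, _, h⟩ | ⟨_, _, h⟩
  · exact hi _ _ h
  · exact ho _ _ h

/-- for symmetric `R`, adjacent vertices of the double cover have points related both ways. -/
theorem b6_R_of_adj (hsymm : ∀ u w, R u w → R w u) {v w : SVtx Ω} (hvw : AdjS R v w) :
    R v.pt w.pt ∧ R w.pt v.pt := by
  rcases hvw with ⟨_, _, h⟩ | ⟨_, _, h⟩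
  · exact ⟨h, hsymm _ _ h⟩
  · exact ⟨hsymm _ _ h, h⟩

theorem b6_adj_of_R (v : SVtx Ω) (y : Ω) (h1 : R v.pt y) (h2 : R y v.pt) :
    AdjS R v ⟨y, !v.out⟩ := by
  rcases v with ⟨x, o⟩
  cases o
  · right
    exact ⟨rfl, rfl, h2⟩
  · left
    exact ⟨rfl, rfl, h1⟩

theorem b6_out_of_adj {v w : SVtx Ω} (hvw : AdjS R v w) : w.out = !v.out := by
  rcases hvw with ⟨h1, h2, _⟩ | ⟨h1, h2, _⟩
  · rw [h1, h2]; rfl
  · rw [h1, h2]; rfl

theorem no_both (S : SimsSetting G R a b) (hC : Nat.card (Cp G R a) = 2) (ho : Pout G R)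
    (hi : Pin G R) {p : ℕ → SVtx Ω} {n : ℕ} (hc : IsCritical G (AdjS R) p n) (hn : 2 ≤ n) :
    False := by
  have hL : LS3 G (AdjS R) := ls3 S
  have hsymm := symm_of_both S hC ho hi
  obtain ⟨hw, hbelow, hnle⟩ := hc
  have hc' : IsCritical G (AdjS R) p n := ⟨hw, hbelow, hnle⟩
  have hadj01 : AdjS R (p 0) (p 1) := hw 0 (by omega)
  have hadjn : AdjS R (p (n - 1)) (p n) := by
    have := hw (n - 1) (by omega)
    rwa [Nat.sub_add_cancel (by omega : 1 ≤ n)] at this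
  have hadjn' : AdjS R (p n) (p (n - 1)) := hL.symm _ _ hadjn
  -- `(p 1).pt = (p (n-1)).pt`
  have hpt : (p 1).pt = (p (n - 1)).pt := by
    obtain ⟨e1, e2⟩ := crit_R hL hc'
    have e3 : Cp G R (p 1).pt = Cp G R (p (n - 1)).pt := by
      rw [← b6_rs_eq S ho hi hadj01, ← b6_rs_eq S ho hi hadjn', ← e1, ← e2]
    exact cEl_injective S hC (b6_cEl_congr S hC e3)
  -- `n = 2`
  have hn2 : n = 2 := by
    by_contra hne
    have hn3 : 3 ≤ n := by omega
    obtain ⟨r1, r2⟩ := b6_R_of_adj hsymm hadjn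
    rw [← hpt] at r1 r2
    have hz : AdjS R (p 1) ⟨(p n).pt, !(p 1).out⟩ := b6_adj_of_R (p 1) (p n).pt r1 r2
    set z : SVtx Ω := ⟨(p n).pt, !(p 1).out⟩ with hzdef
    let q : ℕ → SVtx Ω := fun i => if i = 0 then p 0 else if i = 1 then p 1 else z
    have hq : IsWalk (AdjS R) q 2 := by
      intro i hi2
      interval_cases i
      · exact hadj01
      · exact hz
    have h1 := hbelow q 2 (by omega) hq
    apply hnle
    have e : Qs G (AdjS R) (p n) = Qs G (AdjS R) z := by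
      rw [Qs_S S, Qs_S S]
    rw [e]
    exact h1
  subst hn2
  have hadj12 : AdjS R (p 1) (p 2) := hw 1 (by omega)
  -- `p 0 ≠ p 2`
  have hne02 : p 0 ≠ p 2 := by
    intro h
    apply hnle
    rw [← h]
    exact Zs_le_Qs hL (p 0)
  -- a neighbour `q3` of `p 2` other than `p 1`
  obtain ⟨w₁, w₂, w₃, h12, h13, h23, hnb⟩ := nbr_three hL (p 2)
  have hq3 : ∃ q3, AdjS R (p 2) q3 ∧ q3 ≠ p 1 := by
    by_cases h1 : w₁ = p 1
    · refine ⟨w₂, (hnb w₂).2 (Or.inr (Or.inl rfl)), ?_⟩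
      rw [← h1]
      exact Ne.symm h12
    · exact ⟨w₁, (hnb w₁).2 (Or.inl rfl), h1⟩
  obtain ⟨q3, hq3adj, hq3ne⟩ := hq3
  -- the twin walk, moved to `(p 1, p 2, q3)`
  have htw := isCritical_twin S hsymm hc'
  obtain ⟨g1, hg1⟩ := pt_trans S (p 1).pt (p 2).pt
  have hg1t : g1 • (p 1).twin = p 2 := by
    have h2 := b6_out_of_adj hadj12
    rcases hp2 : p 2 with ⟨y, o⟩
    rw [hp2] at h2 hg1
    simp only at h2 hg1
    rw [SVtx.smul_def]
    simp only [SVtx.twin]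
    rw [hg1, h2]
  have hA0 : AdjS R (p 2) (g1 • (p 0).twin) := by
    have h0 : AdjS R (g1 • (p 1).twin) (g1 • (p 0).twin) :=
      hL.smul g1 _ _ (hL.symm _ _ (htw.1 0 (by omega)))
    rwa [hg1t] at h0
  have hA2 : AdjS R (p 2) (g1 • (p 2).twin) := by
    have h0 : AdjS R (g1 • (p 1).twin) (g1 • (p 2).twin) :=
      hL.smul g1 _ _ (htw.1 1 (by omega))
    rwa [hg1t] at h0
  have hne' : g1 • (p 0).twin ≠ g1 • (p 2).twin := by
    intro h
    have h' := MulAction.injective g1 h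
    apply hne02
    rcases hp0 : p 0 with ⟨x0, o0⟩
    rcases hp2 : p 2 with ⟨x2, o2⟩
    rw [hp0, hp2] at h'
    simp only [SVtx.twin, SVtx.mk.injEq] at h'
    obtain ⟨hx, ho'⟩ := h'
    rw [hx]
    congr 1
    cases o0 <;> cases o2 <;> simp_all
  obtain ⟨g2, hg2, hg20, hg22⟩ := two_trans hL hA0 hA2 hne' (hL.symm _ _ hadj12) hq3adj
    (Ne.symm hq3ne)
  have hcr := isCritical_smul hL (g2 * g1) _ 2 htw
  have hnle2 : ¬ Zs G (AdjS R) (p 1) ≤ Qs G (AdjS R) q3 := by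
    have := hcr.2.2
    simp only [mul_smul] at this
    rwa [hg20, hg22] at this
  -- the 3-walk `p 0, p 1, p 2, q3`
  let P : ℕ → SVtx Ω := fun i => if i = 3 then q3 else p i
  have hP1 : IsCritical G (AdjS R) P 2 := by
    refine ⟨?_, hbelow, ?_⟩
    · intro i hi2
      interval_cases i
      · exact hadj01
      · exact hadj12
    · exact hnle
  have hP2 : IsCritical G (AdjS R) (fun i => P (i + 1)) 2 := by
    refine ⟨?_, hbelow, ?_⟩
    · intro i hi2
      interval_cases i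
      · exact hadj12
      · exact hq3adj
    · exact hnle2
  have hne := b_two_trick hL (quad_S S) hP1 hP2
  apply hne
  have e1 : rs G (AdjS R) (P 0) (P 1) = Cs G (AdjS R) (p 1) := by
    rw [Cs_S S]
    exact b6_rs_eq S ho hi hadj01
  have e2 : rs G (AdjS R) (P 3) (P 2) = Cs G (AdjS R) (p 2) := by
    rw [Cs_S S]
    exact b6_rs_eq S ho hi (hL.symm _ _ hq3adj)
  rw [e1, e2]
  exact Cs_inf_Cs hL hadj12

end B6

end Cfsg.Agent.Lib.Helper19.SW
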