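import Mathlib

/-!
# SW project (S3385 / S3685): the reduction layer

From a finite faithful primitive group with a suborbit of length 3 to the "amalgam data":
`H = G_a`, `K = G_b`, `T = H ⊓ K` of index 3 in both, `H ⊔ K = ⊤`, no nontrivial subgroup of `T`
normalised by both, `K` conjugate to `H`, and `T` a 2-group.
-/

namespace Cfsg.Agent.Lib.Helper10.SWRed

open MulAction

section general

variable {H : Type*} [Group H]

/-- An element of odd order in a subgroup of index 3 lies in the normal core. -/
theorem odd_mem_normalCore (T : Subgroup H) (hT : T.index = 3) (x : H) (hx : x ∈ T)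
    (hodd : Odd (orderOf x)) : x ∈ T.normalCore := by
  classical
  have hfi : T.FiniteIndex := ⟨by rw [hT]; norm_num⟩
  haveI : Finite (H ⧸ T) := Subgroup.finite_quotient_of_finiteIndex
  haveI : Fintype (H ⧸ T) := Fintype.ofFinite _
  set C := T.normalCore with hC
  have hCle : C ≤ T := T.normalCore_le
  -- index of the core divides 6
  have h6 : C.index ∣ 6 := by
    have h1 : C.index = Nat.card (MulAction.toPermHom H (H ⧸ T)).range := by
      rw [hC, Subgroup.normalCore_eq_ker, Subgroup.index_ker]
    rw [h1]
    have h2 : Nat.card (Equiv.Perm (H ⧸ T)) = 6 := by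
      rw [Nat.card_perm]
      have : Nat.card (H ⧸ T) = 3 := hT
      rw [this]; rfl
    rw [← h2]
    exact Subgroup.card_subgroup_dvd_card _
  have hrel : C.relIndex T ∣ 2 := by
    have h3 : C.relIndex T * T.index = C.index := Subgroup.relIndex_mul_index hCle
    rw [hT] at h3
    rw [← h3] at h6
    have : C.relIndex T * 3 ∣ 2 * 3 := h6
    exact Nat.dvd_of_mul_dvd_mul_right (by norm_num) this
  -- x ^ relIndex ∈ C
  have hpow : x ^ (C.relIndex T) ∈ C := by
    haveI : (C.subgroupOf T).Normal := by
      rw [hC]; exact Subgroup.normal_subgroupOf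
    have := Subgroup.pow_index_mem (C.subgroupOf T) (⟨x, hx⟩ : T)
    rw [Subgroup.mem_subgroupOf] at this
    simpa [Subgroup.relIndex] using this
  have hx2 : x ^ 2 ∈ C := by
    rcases (Nat.dvd_prime Nat.prime_two).mp hrel with h | h
    · rw [h, pow_one] at hpow
      exact C.pow_mem hpow 2
    · rwa [h] at hpow
  obtain ⟨m, hm⟩ := hodd
  have : x = (x ^ 2) ^ (m + 1) := by
    rw [← pow_mul, show 2 * (m + 1) = orderOf x + 1 by omega, pow_succ, pow_orderOf_eq_one, one_mul]
  rw [this]
  exact C.pow_mem hx2 _

end general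

section amalgam

variable {G : Type*} [Group G]

theorem card_mul_relIndex' {T H : Subgroup G} (h : T ≤ H) :
    Nat.card T * T.relIndex H = Nat.card H := by
  rw [Subgroup.relIndex, ← Subgroup.card_mul_index (T.subgroupOf H)]
  congr 1
  exact (Nat.card_congr (Subgroup.subgroupOfEquivOfLe h).toEquiv).symm

/-- The (S3,S3)-type amalgam data inside a group `G`: two subgroups `H`, `K` with `H ⊓ K` of index 3
in both, generating `G`, conjugate in `G`, and with no nontrivial subgroup of `H ⊓ K` normalised by
both. -/
structure IsCubicAmalgam (H K : Subgroup G) : Prop where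
  relIndex_left : (H ⊓ K).relIndex H = 3
  relIndex_right : (H ⊓ K).relIndex K = 3
  sup_eq_top : H ⊔ K = ⊤
  core_free : ∀ N : Subgroup G, N ≤ H ⊓ K → (∀ h ∈ H, ∀ n ∈ N, h * n * h⁻¹ ∈ N) →
    (∀ k ∈ K, ∀ n ∈ N, k * n * k⁻¹ ∈ N) → N = ⊥
  conj : ∃ g : G, K = H.map (MulAut.conj g).toMonoidHom

/-- odd order elements of `H ⊓ K` stay in `H ⊓ K` under conjugation by `H`, when the index is 3. -/
theorem conj_mem_inf_of_odd {H K : Subgroup G} (h3 : (H ⊓ K).relIndex H = 3) {x : G}
    (hx : x ∈ H ⊓ K) (hodd : Odd (orderOf x)) {h : G} (hh : h ∈ H) : h * x * h⁻¹ ∈ H ⊓ K := by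
  have hxH : x ∈ H := hx.1
  have key := odd_mem_normalCore ((H ⊓ K).subgroupOf H) h3 (⟨x, hxH⟩ : H)
    (by rw [Subgroup.mem_subgroupOf]; exact hx)
    (by
      have : orderOf (⟨x, hxH⟩ : H) = orderOf x := by
        rw [← Subgroup.orderOf_coe]
      rwa [this])
  have hn : ((H ⊓ K).subgroupOf H).normalCore.Normal := Subgroup.normalCore_normal _
  have := hn.conj_mem _ key (⟨h, hh⟩ : H)
  have := Subgroup.normalCore_le _ this
  rw [Subgroup.mem_subgroupOf] at this
  simpa using this

/-- In a cubic amalgam `H ⊓ K` is a 2-group. -/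
theorem IsCubicAmalgam.isPGroup_inf [Finite G] {H K : Subgroup G} (hA : IsCubicAmalgam H K) :
    IsPGroup 2 (H ⊓ K : Subgroup G) := by
  classical
  set T := H ⊓ K with hT
  -- N := closure of the odd order elements of T
  set S : Set G := {x | x ∈ T ∧ Odd (orderOf x)} with hS
  set N := Subgroup.closure S with hN
  have hNT : N ≤ T := by
    rw [hN, Subgroup.closure_le]
    intro x hx; exact hx.1
  have hnormH : ∀ h ∈ H, ∀ n ∈ N, h * n * h⁻¹ ∈ N := by
    intro h hh n hn
    have : N.map (MulAut.conj h).toMonoidHom ≤ N := by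
      rw [hN, MonoidHom.map_closure, Subgroup.closure_le]
      rintro _ ⟨x, hx, rfl⟩
      apply Subgroup.subset_closure
      refine ⟨?_, ?_⟩
      · have := conj_mem_inf_of_odd hA.relIndex_left hx.1 hx.2 hh
        simpa [hT] using this
      · have : orderOf (h * x * h⁻¹) = orderOf x := by
          have := orderOf_injective (MulAut.conj h).toMonoidHom (MulAut.conj h).injective x
          simpa using this
        simpa [this] using hx.2
    have := this (Subgroup.mem_map_of_mem _ hn)
    simpa using this
  have hnormK : ∀ k ∈ K, ∀ n ∈ N, k * n * k⁻¹ ∈ N := by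
    intro k hk n hn
    have : N.map (MulAut.conj k).toMonoidHom ≤ N := by
      rw [hN, MonoidHom.map_closure, Subgroup.closure_le]
      rintro _ ⟨x, hx, rfl⟩
      apply Subgroup.subset_closure
      refine ⟨?_, ?_⟩
      · have h3 : (K ⊓ H).relIndex K = 3 := by rw [inf_comm]; exact hA.relIndex_right
        have hx' : x ∈ K ⊓ H := by rw [inf_comm]; exact hx.1
        have := conj_mem_inf_of_odd h3 hx' hx.2 hk
        rw [inf_comm] at this
        simpa [hT] using this
      · have : orderOf (k * x * k⁻¹) = orderOf x := by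
          have := orderOf_injective (MulAut.conj k).toMonoidHom (MulAut.conj k).injective x
          simpa using this
        simpa [this] using hx.2
    have := this (Subgroup.mem_map_of_mem _ hn)
    simpa using this
  have hNbot : N = ⊥ := hA.core_free N hNT hnormH hnormK
  -- so every element of T has order a power of 2
  rw [IsPGroup.iff_orderOf]
  intro x
  have hfin : Finite T := inferInstance
  -- write orderOf x = 2^k * m, m odd; then x^(2^k) has odd order m hence is 1
  obtain ⟨k, m, hm, hkm⟩ := Nat.exists_eq_two_pow_mul_odd (orderOf_pos x).ne'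
  refine ⟨k, ?_⟩
  have hy : ((x ^ (2 ^ k) : T) : G) ∈ N := by
    apply Subgroup.subset_closure
    refine ⟨(x ^ (2 ^ k) : T).2, ?_⟩
    rw [Subgroup.orderOf_coe, orderOf_pow' x (pow_ne_zero _ two_ne_zero), hkm]
    have : Nat.gcd (2 ^ k * m) (2 ^ k) = 2 ^ k := by
      exact Nat.gcd_eq_right (dvd_mul_right _ _)
    rw [this, Nat.mul_div_cancel_left _ (by positivity)]
    exact hm
  rw [hNbot, Subgroup.mem_bot] at hy
  have hy' : x ^ (2 ^ k) = 1 := by
    apply Subtype.ext; simpa using hy
  have hdvd := orderOf_dvd_of_pow_eq_one hy'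
  rw [hkm] at hdvd
  have : m = 1 := by
    have h1 : 2 ^ k * m ∣ 2 ^ k * 1 := by simpa using hdvd
    exact Nat.eq_one_of_dvd_one (Nat.dvd_of_mul_dvd_mul_left (by positivity) h1)
  rw [hkm, this, mul_one]

end amalgam

section primitive

variable {G : Type*} [Group G] [Finite G] {Ω : Type*} [MulAction G Ω] [FaithfulSMul G Ω]

/-- A finite faithful primitive group in which the stabiliser `G_a` has an orbit `G_a • b` of
length 3 gives a cubic amalgam `(G_a, G_b)`. -/
theorem isCubicAmalgam_of_primitive (hprim : MulAction.IsPreprimitive G Ω) (a b : Ω)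
    (h3 : Nat.card (MulAction.orbit (MulAction.stabilizer G a) b) = 3) :
    IsCubicAmalgam (MulAction.stabilizer G a) (MulAction.stabilizer G b) := by
  classical
  set H := MulAction.stabilizer G a with hH
  set K := MulAction.stabilizer G b with hK
  haveI : MulAction.IsPretransitive G Ω := hprim.toIsPretransitive
  -- K is conjugate to H
  obtain ⟨g, hg⟩ := MulAction.exists_smul_eq G a b
  have hconj : K = H.map (MulAut.conj g).toMonoidHom := by
    rw [hK, ← hg, MulAction.stabilizer_smul_eq_stabilizer_map_conj]
  -- index of T in H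
  have hstab : MulAction.stabilizer H b = K.subgroupOf H := by
    ext x
    simp [Subgroup.mem_subgroupOf, MulAction.mem_stabilizer_iff, hK, Subgroup.smul_def]
  have hl : (H ⊓ K).relIndex H = 3 := by
    rw [Subgroup.inf_relIndex_left, Subgroup.relIndex, ← hstab, MulAction.index_stabilizer]
    exact h3
  have hcard : Nat.card H = Nat.card K := by
    rw [hconj]
    exact (Nat.card_congr (H.equivMapOfInjective _ (MulAut.conj g).injective).toEquiv)
  have hr : (H ⊓ K).relIndex K = 3 := by
    have h1 : (H ⊓ K).relIndex H * Nat.card (H ⊓ K : Subgroup G) = Nat.card H := by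
      rw [mul_comm]
      exact card_mul_relIndex' inf_le_left
    have h2 : (H ⊓ K).relIndex K * Nat.card (H ⊓ K : Subgroup G) = Nat.card K := by
      rw [mul_comm]
      exact card_mul_relIndex' inf_le_right
    rw [hl, hcard, ← h2] at h1
    exact (Nat.eq_of_mul_eq_mul_right Nat.card_pos h1).symm
  -- Ω nontrivial
  have hne : b ∉ ({a} : Set Ω) := by
    intro hba
    have hba' : b = a := hba
    have : MulAction.orbit H b = {b} := by
      ext c
      constructor
      · rintro ⟨x, rfl⟩
        have : (x : G) • a = a := x.2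
        show (x : G) • b = b
        rw [hba']; exact this
      · rintro rfl
        exact MulAction.mem_orbit_self _
    rw [this] at h3
    simp at h3
  haveI : Nontrivial Ω := ⟨⟨b, a, fun h => hne h⟩⟩
  haveI := hprim
  have hco : IsCoatom H := MulAction.IsPreprimitive.isCoatom_stabilizer_of_isPreprimitive G a
  have hKH : ¬ K ≤ H := by
    intro hle
    -- then T = K has index 3 in K: contradiction with relIndex K K = 1
    have : (H ⊓ K) = K := inf_eq_right.mpr hle
    rw [this, Subgroup.relIndex_self] at hr
    norm_num at hr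
  have hsup : H ⊔ K = ⊤ := by
    by_contra hne'
    have hlt : H < H ⊔ K := lt_of_le_of_ne le_sup_left (fun h => hKH (h ▸ le_sup_right))
    exact hne' (hco.2 _ hlt)
  refine ⟨hl, hr, hsup, ?_, ⟨g, hconj⟩⟩
  intro N hNT hNH hNK
  -- N is normal in G
  have hnorm : ∀ x : G, ∀ n ∈ N, x * n * x⁻¹ ∈ N := by
    intro x
    have hx : x ∈ Subgroup.closure ((H : Set G) ∪ (K : Set G)) := by
      rw [← Subgroup.sup_eq_closure, hsup]; trivial
    induction hx using Subgroup.closure_induction with
    | mem y hy =>
      rcases hy with hy | hy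
      · exact fun n hn => hNH y hy n hn
      · exact fun n hn => hNK y hy n hn
    | one => intro n hn; simpa using hn
    | mul x y _ _ ihx ihy =>
      intro n hn
      have := ihx _ (ihy n hn)
      simpa [mul_assoc] using this
    | inv x _ ihx =>
      intro n hn
      -- conjugation by x is an injective self-map of the finite set N, hence surjective
      have hinj : Function.Injective (fun m : N => (⟨x * m * x⁻¹, ihx m m.2⟩ : N)) := by
        intro m m' hmm
        have : x * (m : G) * x⁻¹ = x * (m' : G) * x⁻¹ := congrArg Subtype.val hmm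
        apply Subtype.ext
        simpa using this
      obtain ⟨m, hm⟩ := (Finite.injective_iff_surjective.mp hinj) ⟨n, hn⟩
      have hm' : x * (m : G) * x⁻¹ = n := congrArg Subtype.val hm
      have : x⁻¹ * n * x⁻¹⁻¹ = m := by
        rw [← hm']; group
      rw [this]; exact m.2
  -- N fixes every point
  rw [eq_bot_iff]
  intro n hn
  rw [Subgroup.mem_bot]
  apply FaithfulSMul.eq_of_smul_eq_smul (α := Ω)
  intro c
  obtain ⟨x, rfl⟩ := MulAction.exists_smul_eq G a c
  have h1 : x⁻¹ * n * x⁻¹⁻¹ ∈ N := hnorm x⁻¹ n hn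
  have h2 : (x⁻¹ * n * x⁻¹⁻¹) • a = a := (hNT h1).1
  rw [one_smul]
  have : n • x • a = x • ((x⁻¹ * n * x⁻¹⁻¹) • a) := by
    simp [mul_smul]
  rw [this, h2]

/-- The stabiliser has order `3 * 2 ^ k`. -/
theorem card_stabilizer_eq (hprim : MulAction.IsPreprimitive G Ω) (a b : Ω)
    (h3 : Nat.card (MulAction.orbit (MulAction.stabilizer G a) b) = 3) :
    ∃ k : ℕ, Nat.card (MulAction.stabilizer G a) = 2 ^ k * 3 ∧
      Nat.card (MulAction.stabilizer G a ⊓ MulAction.stabilizer G b : Subgroup G) = 2 ^ k := by
  have hA := isCubicAmalgam_of_primitive hprim a b h3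
  obtain ⟨k, hk⟩ := (IsPGroup.iff_card).mp hA.isPGroup_inf
  refine ⟨k, ?_, hk⟩
  rw [← card_mul_relIndex' (inf_le_left : MulAction.stabilizer G a ⊓ MulAction.stabilizer G b ≤ _), hk, hA.relIndex_left]

end primitive

end Cfsg.Agent.Lib.Helper10.SWRed
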