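import Cfsg.Agent.Lib.Helper19.SW.Defs
import Cfsg.Agent.Lib.Helper10.SWRed

set_option autoImplicit false

namespace Cfsg.Agent.Lib.Helper19.SW

open Cfsg.Agent.Lib.Helper10.SWRed

/-! ## Piece C1 : the arc stabiliser is a 2-group (pure group theory) -/
section C1

/-- a subgroup normalised by `A` and by `B` is normal when `A ⊔ B = ⊤` (finite group). -/
theorem c1_normal_of_sup {G : Type*} [Group G] [Finite G] (A B N : Subgroup G) (hAB : A ⊔ B = ⊤)
    (hNA : ∀ h ∈ A, ∀ n ∈ N, h * n * h⁻¹ ∈ N) (hNB : ∀ k ∈ B, ∀ n ∈ N, k * n * k⁻¹ ∈ N) :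
    N.Normal := by
  have hnorm : ∀ x : G, ∀ n ∈ N, x * n * x⁻¹ ∈ N := by
    intro x
    have hx : x ∈ Subgroup.closure ((A : Set G) ∪ (B : Set G)) := by
      rw [← Subgroup.sup_eq_closure, hAB]; trivial
    induction hx using Subgroup.closure_induction with
    | mem y hy =>
      rcases hy with hy | hy
      · exact fun n hn => hNA y hy n hn
      · exact fun n hn => hNB y hy n hn
    | one => intro n hn; simpa using hn
    | mul x y _ _ ihx ihy =>
      intro n hn
      have := ihx _ (ihy n hn)
      simpa [mul_assoc] using this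
    | inv x _ ihx =>
      intro n hn
      have hinj : Function.Injective (fun m : N => (⟨x * m * x⁻¹, ihx m m.2⟩ : N)) := by
        intro m m' hmm
        have : x * (m : G) * x⁻¹ = x * (m' : G) * x⁻¹ := congrArg Subtype.val hmm
        apply Subtype.ext
        simpa using this
      obtain ⟨m, hm⟩ := (Finite.injective_iff_surjective.mp hinj) ⟨n, hn⟩
      have hm' : x * (m : G) * x⁻¹ = n := congrArg Subtype.val hm
      have : x⁻¹ * n * x⁻¹⁻¹ = m := by
        rw [← hm']; group
      rw [this]; exact m.2
  exact ⟨fun n hn x => hnorm x n hn⟩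

/-- `G = ⟨A,B⟩` finite, `T = A ∩ B` of index 3 in both and core-free in `G`: then `T` is a 2-group.
(The subgroup generated by the odd order elements of `T` is characteristic in the core of `T` in `A`
and in the core of `T` in `B`, because the quotients of `T` by these cores have order at most 2;
so it is normal in `⟨A,B⟩ = G`, hence trivial.) -/
theorem isPGroup_two_of_index_three {G : Type*} [Group G] [Finite G] (A B : Subgroup G)
    (hAB : A ⊔ B = ⊤) (hA : (A ⊓ B).relIndex A = 3) (hB : (A ⊓ B).relIndex B = 3)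
    (hcore : ∀ N : Subgroup G, N.Normal → N ≤ A ⊓ B → N = ⊥) : IsPGroup 2 ↥(A ⊓ B) := by
  classical
  set T := A ⊓ B with hT
  set S : Set G := {x | x ∈ T ∧ Odd (orderOf x)} with hS
  set N := Subgroup.closure S with hN
  have hNT : N ≤ T := by
    rw [hN, Subgroup.closure_le]
    intro x hx; exact hx.1
  have hnormH : ∀ h ∈ A, ∀ n ∈ N, h * n * h⁻¹ ∈ N := by
    intro h hh n hn
    have : N.map (MulAut.conj h).toMonoidHom ≤ N := by
      rw [hN, MonoidHom.map_closure, Subgroup.closure_le]
      rintro _ ⟨x, hx, rfl⟩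
      apply Subgroup.subset_closure
      refine ⟨?_, ?_⟩
      · have := conj_mem_inf_of_odd hA hx.1 hx.2 hh
        simpa [hT] using this
      · have : orderOf (h * x * h⁻¹) = orderOf x := by
          have := orderOf_injective (MulAut.conj h).toMonoidHom (MulAut.conj h).injective x
          simpa using this
        simpa [this] using hx.2
    have := this (Subgroup.mem_map_of_mem _ hn)
    simpa using this
  have hnormK : ∀ k ∈ B, ∀ n ∈ N, k * n * k⁻¹ ∈ N := by
    intro k hk n hn
    have : N.map (MulAut.conj k).toMonoidHom ≤ N := by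
      rw [hN, MonoidHom.map_closure, Subgroup.closure_le]
      rintro _ ⟨x, hx, rfl⟩
      apply Subgroup.subset_closure
      refine ⟨?_, ?_⟩
      · have h3 : (B ⊓ A).relIndex B = 3 := by rw [inf_comm]; exact hB
        have hx' : x ∈ B ⊓ A := by rw [inf_comm]; exact hx.1
        have := conj_mem_inf_of_odd h3 hx' hx.2 hk
        rw [inf_comm] at this
        simpa [hT] using this
      · have : orderOf (k * x * k⁻¹) = orderOf x := by
          have := orderOf_injective (MulAut.conj k).toMonoidHom (MulAut.conj k).injective x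
          simpa using this
        simpa [this] using hx.2
    have := this (Subgroup.mem_map_of_mem _ hn)
    simpa using this
  have hNbot : N = ⊥ := hcore N (c1_normal_of_sup A B N hAB hnormH hnormK) hNT
  rw [IsPGroup.iff_orderOf]
  intro x
  obtain ⟨k, m, hm, hkm⟩ := Nat.exists_eq_two_pow_mul_odd (orderOf_pos x).ne'
  refine ⟨k, ?_⟩
  have hy : ((x ^ (2 ^ k) : T) : G) ∈ N := by
    apply Subgroup.subset_closure
    refine ⟨(x ^ (2 ^ k) : T).2, ?_⟩
    rw [Subgroup.orderOf_coe, orderOf_pow' x (pow_ne_zero _ two_ne_zero), hkm]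
    have : Nat.gcd (2 ^ k * m) (2 ^ k) = 2 ^ k := by
      exact Nat.gcd_eq_right (dvd_mul_right _ _)
    rw [this, Nat.mul_div_cancel_left _ (by positivity)]
    exact hm
  rw [hNbot, Subgroup.mem_bot] at hy
  have hy' : x ^ (2 ^ k) = 1 := by
    apply Subtype.ext; simpa using hy
  have hdvd := orderOf_dvd_of_pow_eq_one hy'
  rw [hkm] at hdvd
  have : m = 1 := by
    have h1 : 2 ^ k * m ∣ 2 ^ k * 1 := by simpa using hdvd
    exact Nat.eq_one_of_dvd_one (Nat.dvd_of_mul_dvd_mul_left (by positivity) h1)
  rw [hkm, this, mul_one]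

end C1

end Cfsg.Agent.Lib.Helper19.SW
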