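import Cfsg.Agent.Lib.Helper19.SW.Defs
import Cfsg.Agent.Lib.Helper10.SWRed
import Cfsg.Agent.Lib.Helper10.SWC1

set_option autoImplicit false

namespace Cfsg.Agent.Lib.Helper19.SW

open Cfsg.Agent.Lib.Helper10.SWRed

open scoped Pointwise in
/-- two 2-subgroups of index 3 of a finite group are conjugate. -/
theorem c2_conj_of_index_three {K : Type*} [Group K] [Finite K] (P Q : Subgroup K)
    (hP : IsPGroup 2 P) (hQ : IsPGroup 2 Q) (hPi : P.index = 3) (hQi : Q.index = 3) :
    ∃ k : K, ∀ x, x ∈ P ↔ k * x * k⁻¹ ∈ Q := by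
  haveI : Fact (Nat.Prime 2) := ⟨Nat.prime_two⟩
  set P' : Sylow 2 K := hP.toSylow (by rw [hPi]; norm_num) with hP'
  set Q' : Sylow 2 K := hQ.toSylow (by rw [hQi]; norm_num) with hQ'
  obtain ⟨k, hk⟩ := MulAction.exists_smul_eq K P' Q'
  refine ⟨k, fun x => ?_⟩
  have h1 : (MulAut.conj k • (P' : Subgroup K)) = (Q' : Subgroup K) := by
    rw [← Sylow.coe_subgroup_smul, hk]
  have hPc : (P' : Subgroup K) = P := IsPGroup.toSylow_coe hP _
  have hQc : (Q' : Subgroup K) = Q := IsPGroup.toSylow_coe hQ _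
  rw [hPc, hQc] at h1
  rw [← h1]
  have : k * x * k⁻¹ = MulAut.conj k • x := by
    rw [MulAut.smul_def, MulAut.conj_apply]
  rw [this, Subgroup.smul_mem_pointwise_smul_iff]

variable {G : Type*} [Group G] [Finite G] {Ω : Type*} [MulAction G Ω] [FaithfulSMul G Ω]

/-! ## Piece C2 : basic facts in the setting of S3385 / S3685 -/
section C2

variable (hprim : MulAction.IsPreprimitive G Ω) (a b : Ω)
  (h3 : Nat.card (MulAction.orbit (MulAction.stabilizer G a) b) = 3)
include hprim h3

theorem ne_ab : a ≠ b := by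
  intro hab
  have : MulAction.orbit (MulAction.stabilizer G a) b = {b} := by
    ext c
    constructor
    · rintro ⟨x, rfl⟩
      have : (x : G) • a = a := x.2
      show (x : G) • b = b
      rw [← hab]; exact this
    · rintro rfl
      exact MulAction.mem_orbit_self _
  rw [this] at h3
  simp at h3

theorem stab_maximal (u : Ω) (H : Subgroup G) (hH : MulAction.stabilizer G u < H) : H = ⊤ := by
  haveI : Nontrivial Ω := ⟨⟨a, b, ne_ab hprim a b h3⟩⟩
  haveI := hprim
  have hco : IsCoatom (MulAction.stabilizer G u) :=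
    MulAction.IsPreprimitive.isCoatom_stabilizer_of_isPreprimitive G u
  exact hco.2 H hH

theorem stab_corefree (u : Ω) (N : Subgroup G) (hN : N.Normal)
    (hle : N ≤ MulAction.stabilizer G u) : N = ⊥ := by
  haveI : MulAction.IsPretransitive G Ω := hprim.toIsPretransitive
  rw [eq_bot_iff]
  intro n hn
  rw [Subgroup.mem_bot]
  apply FaithfulSMul.eq_of_smul_eq_smul (α := Ω)
  intro c
  obtain ⟨x, rfl⟩ := MulAction.exists_smul_eq G u c
  have h1 : x⁻¹ * n * x⁻¹⁻¹ ∈ N := hN.conj_mem n hn x⁻¹
  have h2 : (x⁻¹ * n * x⁻¹⁻¹) • u = u := hle h1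
  rw [one_smul]
  have : n • x • u = x • ((x⁻¹ * n * x⁻¹⁻¹) • u) := by
    simp [mul_smul]
  rw [this, h2]

theorem stab_sup : MulAction.stabilizer G a ⊔ MulAction.stabilizer G b = ⊤ :=
  (isCubicAmalgam_of_primitive hprim a b h3).sup_eq_top

theorem relIndex_a :
    (MulAction.stabilizer G a ⊓ MulAction.stabilizer G b).relIndex (MulAction.stabilizer G a) = 3 :=
  (isCubicAmalgam_of_primitive hprim a b h3).relIndex_left

theorem relIndex_b :
    (MulAction.stabilizer G a ⊓ MulAction.stabilizer G b).relIndex (MulAction.stabilizer G b) = 3 :=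
  (isCubicAmalgam_of_primitive hprim a b h3).relIndex_right

theorem out3_a : {w | ∃ g : G, g • a = a ∧ g • b = w}.ncard = 3 := by
  have : {w | ∃ g : G, g • a = a ∧ g • b = w} = MulAction.orbit (MulAction.stabilizer G a) b := by
    ext w
    constructor
    · rintro ⟨g, hg, rfl⟩
      exact ⟨⟨g, hg⟩, rfl⟩
    · rintro ⟨x, rfl⟩
      exact ⟨x, x.2, rfl⟩
  rw [this, ← Nat.card_coe_set_eq]
  exact h3

theorem in3_b : {u | ∃ g : G, g • a = u ∧ g • b = b}.ncard = 3 := by
  have : {u | ∃ g : G, g • a = u ∧ g • b = b} = MulAction.orbit (MulAction.stabilizer G b) a := by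
    ext w
    constructor
    · rintro ⟨g, rfl, hg⟩
      exact ⟨⟨g, hg⟩, rfl⟩
    · rintro ⟨x, rfl⟩
      exact ⟨x, rfl, x.2⟩
  rw [this, ← MulAction.index_stabilizer]
  have hstab : MulAction.stabilizer (MulAction.stabilizer G b) a =
      (MulAction.stabilizer G a).subgroupOf (MulAction.stabilizer G b) := by
    ext x
    simp [Subgroup.mem_subgroupOf, MulAction.mem_stabilizer_iff, Subgroup.smul_def]
  rw [hstab]
  have := relIndex_b hprim a b h3
  rw [Subgroup.inf_relIndex_right] at this
  exact this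

theorem two_T : IsPGroup 2 (Ts G a b) := by
  unfold Ts
  apply isPGroup_two_of_index_three _ _ (stab_sup hprim a b h3) (relIndex_a hprim a b h3)
    (relIndex_b hprim a b h3)
  intro N hN hle
  exact stab_corefree hprim a b h3 a N hN (hle.trans inf_le_left)

/-- an element `g` with `g a = b` normalising `T = G_a ∩ G_b`. -/
theorem exists_normalizing : ∃ g : G, g • a = b ∧ ∀ x, g * x * g⁻¹ ∈ Ts G a b ↔ x ∈ Ts G a b := by
  classical
  haveI : MulAction.IsPretransitive G Ω := hprim.toIsPretransitive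
  obtain ⟨g0, hg0⟩ := MulAction.exists_smul_eq G a b
  set K := MulAction.stabilizer G b with hK
  set T := Ts G a b with hT
  have hTdef : T = MulAction.stabilizer G a ⊓ MulAction.stabilizer G b := rfl
  -- the conjugate of T by g0
  set T1 : Subgroup G := T.map (MulAut.conj g0).toMonoidHom with hT1
  have hTK : T ≤ K := by rw [hTdef]; exact inf_le_right
  have hT1K : T1 ≤ K := by
    rintro _ ⟨x, hx, rfl⟩
    have hxa : x • a = a := (show x ∈ MulAction.stabilizer G a ⊓ MulAction.stabilizer G b from hx).1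
    show (g0 * x * g0⁻¹) • b = b
    rw [← hg0, mul_smul, inv_smul_smul, mul_smul, hxa]
  have hcard : Nat.card T1 = Nat.card T :=
    (Nat.card_congr (T.equivMapOfInjective _ (MulAut.conj g0).injective).toEquiv).symm
  have h2T : IsPGroup 2 T := two_T hprim a b h3
  have h2T1 : IsPGroup 2 T1 := h2T.map _
  have hiT : (T.subgroupOf K).index = 3 := by
    have := relIndex_b hprim a b h3
    rwa [Subgroup.relIndex] at this
  have hiT1 : (T1.subgroupOf K).index = 3 := by
    have e1 : Nat.card T * T.relIndex K = Nat.card K := card_mul_relIndex' hTK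
    have e2 : Nat.card T1 * T1.relIndex K = Nat.card K := card_mul_relIndex' hT1K
    have e3 : T.relIndex K = 3 := hiT
    rw [hcard, ← e1, e3] at e2
    have : T1.relIndex K = 3 := Nat.eq_of_mul_eq_mul_left Nat.card_pos e2
    exact this
  have hP : IsPGroup 2 (T1.subgroupOf K) := h2T1.comap_subtype
  have hQ : IsPGroup 2 (T.subgroupOf K) := h2T.comap_subtype
  obtain ⟨k, hk⟩ := c2_conj_of_index_three (T1.subgroupOf K) (T.subgroupOf K) hP hQ hiT1 hiT
  refine ⟨k * g0, ?_, ?_⟩
  · rw [mul_smul, hg0]; exact k.2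
  · -- conjugation by k * g0 maps T onto T
    have hmap : ∀ x, x ∈ T → (k : G) * g0 * x * ((k : G) * g0)⁻¹ ∈ T := by
      intro x hx
      have hx1 : g0 * x * g0⁻¹ ∈ T1 := ⟨x, hx, by simp⟩
      have := (hk ⟨g0 * x * g0⁻¹, hT1K hx1⟩).mp (by rw [Subgroup.mem_subgroupOf]; exact hx1)
      rw [Subgroup.mem_subgroupOf] at this
      have e : (k : G) * g0 * x * ((k : G) * g0)⁻¹ = (k : G) * (g0 * x * g0⁻¹) * (k : G)⁻¹ := by
        group
      rw [e]
      simpa using this
    intro x
    constructor
    · intro hx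
      -- injective self-map of the finite set T is surjective
      have hinj : Function.Injective
          (fun m : T => (⟨(k : G) * g0 * m * ((k : G) * g0)⁻¹, hmap m m.2⟩ : T)) := by
        intro m m' hmm
        have : (k : G) * g0 * (m : G) * ((k : G) * g0)⁻¹ = (k : G) * g0 * (m' : G) * ((k : G) * g0)⁻¹ :=
          congrArg Subtype.val hmm
        apply Subtype.ext
        simpa using this
      obtain ⟨m, hm⟩ := (Finite.injective_iff_surjective.mp hinj) ⟨_, hx⟩
      have hm' : (k : G) * g0 * (m : G) * ((k : G) * g0)⁻¹ = (k : G) * g0 * x * ((k : G) * g0)⁻¹ :=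
        congrArg Subtype.val hm
      have : (m : G) = x := by simpa using hm'
      rw [← this]; exact m.2
    · intro hx
      exact hmap x hx

end C2

end Cfsg.Agent.Lib.Helper19.SW
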