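import Cfsg.Agent.Lib.Helper10.SZC.Defs
import Cfsg.Agent.Lib.Helper11.VirtChar

/-!
# SZC row C1: `coef` is the integer multiplicity
-/

set_option autoImplicit false
open scoped ComplexConjugate

namespace Cfsg.Agent.Lib.Helper10.SZC

section
variable {G : Type*} [Group G] [Fintype G]

/-- C1 -/
theorem coef_spec (θ : G → ℂ) (hθ : Cfsg.IsGeneralizedCharacter G θ) (χ : Cfsg.IrrCharacter G) :
    ((coef θ χ : ℤ) : ℂ) = Cfsg.classInner θ (χ : G → ℂ) ∧
    ((coef θ χ : ℤ) : ℂ) = Cfsg.classInner (χ : G → ℂ) θ := by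
  obtain ⟨z, hz⟩ := Cfsg.Agent.Lib.Helper11.genChar_inner_int θ hθ χ
  have h1 : coef θ χ = z := by
    unfold coef
    rw [hz]
    simp
  refine ⟨by rw [h1, hz], ?_⟩
  rw [Cfsg.Agent.Lib.Helper25.classInner_conj_symm θ (χ : G → ℂ), hz, h1]
  simp

end

end Cfsg.Agent.Lib.Helper10.SZC
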