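import Cfsg.Agent.Lib.Helper10.SZCDcore
import Cfsg.Agent.Lib.Helper13.SZCA1
import Cfsg.Agent.Lib.helper6.SZCP1

/-!
# SZC block D: verbatim rows D1, D3, D4, D6, D8, D9 (D2, D5 are in `SZCDcore`)
-/

set_option autoImplicit false
open scoped ComplexConjugate

namespace Cfsg.Agent.Lib.Helper10.SZC

section
variable {G : Type*} [Group G] [Fintype G] {q r : ℕ}

/-- D1 -/
theorem perm_vanish (D : SzcData G q r) (i : Bool) (a : G) (ha : a ∈ D.A i) (ha1 : a ≠ 1)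
    (x : G) : x * a * x⁻¹ ∉ D.H :=
  perm_vanish_core D (arith D.hq D.hr).2.2.2.2.2.2.1 i a ha ha1 x

/-- D3 -/
theorem phi_X (D : SzcData G q r) (i : Bool) (l : ↥(D.A i) →* ℂˣ) (hl : l ≠ 1) :
    Cfsg.classInner (Xf D.H) (phi (D.A i) l) = -1 :=
  phi_X_core D (perm_vanish D) i l hl

/-- D4 -/
theorem phi_ind (D : SzcData G q r) (i : Bool) (l : ↥(D.A i) →* ℂˣ) (μ : ↥D.H →* ℂˣ) :
    Cfsg.classInner (Cfsg.indFun D.H (fun u => ((μ u : ℂˣ) : ℂ))) (phi (D.A i) l) = 0 :=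
  phi_ind_core D (perm_vanish D) i l μ

/-- D6 -/
theorem psi_noncusp (D : SzcData G q r) (i : Bool) (l : ↥(D.A i) →* ℂˣ) (hl : l ≠ 1)
    (χ : Cfsg.IrrCharacter G) (hχ : ¬ Cusp D.Q (χ : G → ℂ)) :
    Cfsg.classInner (χ : G → ℂ) (Psi D.H (D.A i) l) = 0 :=
  psi_noncusp_core D (ps_class D) (fun i l hl => phi_triv (D.A i) l hl) (phi_X D) (phi_ind D)
    i l hl χ hχ

/-- D8 -/
theorem psi_gram_same (D : SzcData G q r) (i : Bool) (l l' : ↥(D.A i) →* ℂˣ) (hl : l ≠ 1)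
    (hl' : l' ≠ 1) :
    Cfsg.classInner (Psi D.H (D.A i) l) (Psi D.H (D.A i) l') =
      Cfsg.classInner (phi (D.A i) l) (phi (D.A i) l') - 2 :=
  psi_gram_same_core D (perm_vanish D) i l l' hl hl'

/-- D9 -/
theorem psi_gram_cross (D : SzcData G q r) (l : ↥(D.A false) →* ℂˣ) (l' : ↥(D.A true) →* ℂˣ)
    (hl : l ≠ 1) (hl' : l' ≠ 1) :
    Cfsg.classInner (Psi D.H (D.A false) l) (Psi D.H (D.A true) l') = -2 :=
  psi_gram_cross_core D (perm_vanish D) (arith D.hq D.hr).2.2.2.2.2.1 l l' hl hl'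

end

end Cfsg.Agent.Lib.Helper10.SZC
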