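import Cfsg.Agent.Lib.Helper10.SZCDcore
import Cfsg.Agent.Lib.helper6.SZCP6

/-!
# SZC row D7 (verbatim)
-/

set_option autoImplicit false
open scoped ComplexConjugate

namespace Cfsg.Agent.Lib.Helper10.SZC

section
variable {G : Type*} [Group G] [Fintype G] {q r : ℕ}

/-- D7 -/
theorem psi_cusp (D : SzcData G q r) (i : Bool) (l : ↥(D.A i) →* ℂˣ)
    (χ : Cfsg.IrrCharacter G) (hχ : Cusp D.Q (χ : G → ℂ)) :
    Cfsg.classInner (χ : G → ℂ) (Psi D.H (D.A i) l) =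
      Cfsg.classInner (χ : G → ℂ) (phi (D.A i) l) :=
  psi_cusp_core D (not_cusp D) i l χ hχ

end

end Cfsg.Agent.Lib.Helper10.SZC
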