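import Cfsg.Agent.Lib.Helper10.SZCT2
import Cfsg.Agent.Lib.Helper11.LinCharDual
import Cfsg.Agent.Lib.Helper11.IndTrans
import Cfsg.Agent.Lib.Helper25.CharQuot
import Cfsg.Agent.Lib.helper2.CharInd

/-!
# SZC rows T1, T5, T6, T11
-/

set_option autoImplicit false
open scoped ComplexConjugate

namespace Cfsg.Agent.Lib.Helper10.SZC

section
variable {G : Type*} [Group G] [Fintype G]

/-- T1 -/
theorem phi_genChar (A : Subgroup G) (l : ↥A →* ℂˣ) :
    Cfsg.IsGeneralizedCharacter G (phi A l) := by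
  have h1 : Cfsg.IsCharacter ↥A (fun a : ↥A => (((1 : ↥A →* ℂˣ) a : ℂˣ) : ℂ)) :=
    Cfsg.Agent.Lib.helper2.isCharacter_of_irr (Cfsg.Agent.Lib.Helper25.linIrr (1 : ↥A →* ℂˣ))
  have h2 : Cfsg.IsCharacter ↥A (fun a : ↥A => ((l a : ℂˣ) : ℂ)) :=
    Cfsg.Agent.Lib.helper2.isCharacter_of_irr (Cfsg.Agent.Lib.Helper25.linIrr l)
  refine ⟨Cfsg.indFun A (fun a : ↥A => (((1 : ↥A →* ℂˣ) a : ℂˣ) : ℂ)),
    Cfsg.indFun A (fun a : ↥A => ((l a : ℂˣ) : ℂ)),
    Cfsg.Agent.Lib.helper2.isCharacter_indFun A _ h1,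
    Cfsg.Agent.Lib.helper2.isCharacter_indFun A _ h2, ?_⟩
  have h3 : (fun a : ↥A => 1 - ((l a : ℂˣ) : ℂ)) =
      (fun a : ↥A => (((1 : ↥A →* ℂˣ) a : ℂˣ) : ℂ)) + (-1 : ℂ) • (fun a : ↥A => ((l a : ℂˣ) : ℂ)) := by
    funext a
    simp [sub_eq_add_neg]
  unfold phi
  rw [h3, Cfsg.Agent.Lib.Helper11.indFun_add, Cfsg.Agent.Lib.Helper11.indFun_smul]
  funext g
  simp [sub_eq_add_neg]

/-- column orthogonality in the dual of a finite abelian group -/
theorem h10_szcT5_col (A : Subgroup G) (hcomm : ∀ a ∈ A, ∀ b ∈ A, a * b = b * a)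
    [Fintype (↥A →* ℂˣ)] (a : ↥A) [Decidable (a = 1)] :
    ∑ l : ↥A →* ℂˣ, conj ((l a : ℂˣ) : ℂ) = if a = 1 then (Nat.card A : ℂ) else 0 := by
  have hc : ∀ a b : ↥A, a * b = b * a := fun a b => Subtype.ext (hcomm a a.2 b b.2)
  split_ifs with ha
  · subst ha
    simp only [map_one, Units.val_one, Finset.sum_const, Finset.card_univ, nsmul_eq_mul, mul_one]
    let _ : CommGroup ↥A := { (inferInstance : Group ↥A) with mul_comm := hc }
    rw [← Nat.card_eq_fintype_card]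
    have := CommGroup.card_monoidHom_of_hasEnoughRootsOfUnity ↥A ℂ
    exact_mod_cast this
  · have hbot : a ∉ (⊥ : Subgroup ↥A) := by
      rw [Subgroup.mem_bot]; exact ha
    obtain ⟨φ₀, _, h2⟩ := Cfsg.Agent.Lib.Helper11.exists_linChar_ne_one hc ⊥ a hbot
    have := sum_hom_units_eq_zero
      ((Units.coeHom ℂ).comp ((MonoidHom.eval (N := ℂˣ)) a)) (by
        intro h
        apply h2
        have h3 := DFunLike.congr_fun h φ₀
        simpa using h3)
    rw [← map_sum]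
    have h4 : ∑ l : ↥A →* ℂˣ, ((l a : ℂˣ) : ℂ) = 0 := by simpa using this
    rw [h4, map_zero]

/-- T5 -/
theorem phi_sum (A : Subgroup G) (hcomm : ∀ a ∈ A, ∀ b ∈ A, a * b = b * a)
    [Fintype (↥A →* ℂˣ)] (ψ : G → ℂ) (hψ : Cfsg.IsClassFunction G ψ) :
    ∑ l : ↥A →* ℂˣ, Cfsg.classInner ψ (phi A l) = sumNI A ψ := by
  classical
  have : Fintype ↥A := Fintype.ofFinite _
  have hA : (Nat.card A : ℂ) ≠ 0 := by exact_mod_cast Nat.card_pos.ne'
  have hcard : (Fintype.card (↥A →* ℂˣ) : ℂ) = (Nat.card A : ℂ) := by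
    have h := h10_szcT5_col A hcomm (1 : ↥A)
    simpa using h
  simp only [phi_inner A _ ψ hψ]
  rw [← Finset.mul_sum, Finset.sum_comm]
  have h1 : ∀ a : ↥A, ∑ l : ↥A →* ℂˣ, ψ (a : G) * (1 - conj ((l a : ℂˣ) : ℂ)) =
      (Nat.card A : ℂ) * (if (a : G) ≠ 1 then ψ (a : G) else 0) := by
    intro a
    rw [← Finset.mul_sum, Finset.sum_sub_distrib, h10_szcT5_col A hcomm a]
    simp only [Finset.sum_const, Finset.card_univ, nsmul_eq_mul, mul_one, hcard]
    by_cases ha : a = 1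
    · have ha' : (a : G) = 1 := by rw [ha]; rfl
      simp [ha]
    · have ha' : (a : G) ≠ 1 := fun h => ha (Subtype.ext h)
      simp [ha, ha']
      ring
  simp only [h1]
  rw [← Finset.mul_sum, ← mul_assoc, inv_mul_cancel₀ hA, one_mul]
  unfold sumNI
  rw [← Cfsg.Agent.Lib.helper7.h7_sum_subgroup A (fun g => if g ≠ 1 then ψ g else 0)]
  refine Finset.sum_congr rfl (fun g _ => ?_)
  by_cases hg : g ∈ A <;> by_cases hg1 : g = 1 <;> simp [hg, hg1]

/-- T6 -/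
theorem dual_free {A N : Subgroup G} (hT : Torus A N) (l : ↥A →* ℂˣ) (hl : l ≠ 1)
    (n : G) (hn : n ∈ N)
    (hfix : ∀ a : ↥A, l ⟨n * (a : G) * n⁻¹, hT.norm n hn a a.2⟩ = l a) : n ∈ A := by
  by_contra hnA
  apply hl
  let f : ↥A → ↥A := fun a =>
    ⟨n * (a : G) * n⁻¹, hT.norm n hn a a.2⟩ * a⁻¹
  have hinj : Function.Injective f := by
    intro a b hab
    have h1 : n * (a : G) * n⁻¹ * (a : G)⁻¹ = n * (b : G) * n⁻¹ * (b : G)⁻¹ := by
      have := congrArg (Subtype.val) hab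
      simpa [f] using this
    have h2 : n * ((b : G)⁻¹ * (a : G)) = ((b : G)⁻¹ * (a : G)) * n := by
      have h3 : (a : G) * n⁻¹ * (a : G)⁻¹ = (b : G) * n⁻¹ * (b : G)⁻¹ := by
        have := congrArg (fun x => n⁻¹ * x) h1
        simpa [mul_assoc] using this
      have h4 : ((b : G)⁻¹ * (a : G)) * n⁻¹ = n⁻¹ * ((b : G)⁻¹ * (a : G)) := by
        calc ((b : G)⁻¹ * (a : G)) * n⁻¹
            = (b : G)⁻¹ * ((a : G) * n⁻¹ * (a : G)⁻¹) * (a : G) := by group
          _ = (b : G)⁻¹ * ((b : G) * n⁻¹ * (b : G)⁻¹) * (a : G) := by rw [h3]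
          _ = n⁻¹ * ((b : G)⁻¹ * (a : G)) := by group
      calc n * ((b : G)⁻¹ * (a : G))
          = n * (((b : G)⁻¹ * (a : G)) * n⁻¹) * n := by group
        _ = n * (n⁻¹ * ((b : G)⁻¹ * (a : G))) * n := by rw [h4]
        _ = ((b : G)⁻¹ * (a : G)) * n := by group
    have h5 := hT.free n hn hnA ((b : G)⁻¹ * (a : G)) (A.mul_mem (A.inv_mem b.2) a.2) h2
    apply Subtype.ext
    calc (a : G) = (b : G) * ((b : G)⁻¹ * (a : G)) := by group
      _ = (b : G) := by rw [h5, mul_one]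
  have hsurj : Function.Surjective f := Finite.injective_iff_surjective.1 hinj
  ext a
  obtain ⟨b, rfl⟩ := hsurj a
  simp only [f, map_mul, map_inv, hfix b, mul_inv_cancel, MonoidHom.one_apply]

/-- T11 -/
theorem phi_cross (A B : Subgroup G) (hAB : Nat.Coprime (Nat.card A) (Nat.card B))
    (l : ↥A →* ℂˣ) (l' : ↥B →* ℂˣ) : Cfsg.classInner (phi A l) (phi B l') = 0 := by
  classical
  have : Fintype ↥B := Fintype.ofFinite _
  have hcl : Cfsg.IsClassFunction G (phi A l) :=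
    Cfsg.Agent.Lib.helper7.h7_indFun_isClassFunction A _
  rw [phi_inner B l' (phi A l) hcl]
  have h0 : ∀ b : ↥B, phi A l (b : G) = 0 := by
    intro b
    by_contra hb
    obtain ⟨hb1, x, hx⟩ := phi_supp A l (b : G) hb
    have h1 : orderOf (b : G) ∣ Nat.card B := Subgroup.orderOf_dvd_natCard B b.2
    have h2 : orderOf (b : G) ∣ Nat.card A := by
      have h3 : orderOf (x * (b : G) * x⁻¹) = orderOf (b : G) := by
        have := (MulAut.conj x).orderOf_eq (b : G)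
        simpa using this
      rw [← h3]
      exact Subgroup.orderOf_dvd_natCard A hx
    have h5 : orderOf (b : G) = 1 := Nat.eq_one_of_dvd_coprimes hAB h2 h1
    exact hb1 (orderOf_eq_one_iff.1 h5)
  simp only [h0, zero_mul, Finset.sum_const_zero, mul_zero]

end

end Cfsg.Agent.Lib.Helper10.SZC
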