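import Cfsg.Agent.Lib.Helper10.SZCL1
import Cfsg.Agent.Lib.Helper10.SZCC1
import Cfsg.Agent.Lib.Helper10.SZCT5
import Cfsg.Agent.Lib.Helper10.SZCD
import Cfsg.Agent.Lib.Helper10.SZCD7
import Cfsg.Agent.Lib.Helper13.SZCA1
import Cfsg.Agent.Lib.Helper13.SZCC2
import Cfsg.Agent.Lib.Helper13.SZCG2
import Cfsg.Agent.Lib.Helper13.SZCG4core
import Cfsg.Agent.Lib.Helper1.SZCT7
import Cfsg.Agent.Lib.Helper1.SZCT8
import Cfsg.Agent.Lib.Helper1.SZCF3
import Cfsg.Agent.Lib.helper6.SZCP2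
import Cfsg.Agent.Lib.helper6.SZCP3
import Cfsg.Agent.Lib.Helper18.SZCS23core
import Cfsg.Agent.Lib.Helper18.SZCS456core
import Cfsg.Agent.Lib.Helper18.SZCS789core
import Cfsg.Agent.Lib.helper4.SZCS10core
import Cfsg.Agent.Lib.Helper21.SZCB8

/-! SZC: end-to-end assembly of S4775 under own names (`h10_szcChain_*`), from the landed rows and cores -/

set_option autoImplicit false
open scoped ComplexConjugate

namespace Cfsg.Agent.Lib.Helper10.SZC

open Cfsg Cfsg.Agent.Lib.helper3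

section
variable {G : Type*} [Group G] [Fintype G] {q r : ℕ}

theorem h10_szcChain_phi_fiber {A N : Subgroup G} (hT : Torus A N) (l : ↥A →* ℂˣ) (hl : l ≠ 1) :
    Nat.card {l' : ↥A →* ℂˣ // phi A l' = phi A l} = 4 :=
  szct10_core hT l hl (fun l l' hl hl' => phi_gram hT l l' hl hl') (fun l hl => phi_norm hT l hl)
    (fun l l' hl hl' => phi_gram_cases hT l l' hl hl')

theorem h10_szcChain_C1 : SzcsC1 G := fun θ hθ χ => coef_spec θ hθ χ
theorem h10_szcChain_C2 : SzcsC2 G := fun inst θ θ' hθ hθ' => @coef_inner G _ _ inst θ θ' hθ hθ'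
theorem h10_szcChain_D5 (D : SzcData G q r) : SzcsD5 D := fun i l => psi_genChar D.H (D.A i) l
theorem h10_szcChain_D6 (D : SzcData G q r) : SzcsD6 D := fun i l hl χ hχ => psi_noncusp D i l hl χ hχ
theorem h10_szcChain_D7 (D : SzcData G q r) : SzcsD7 D := fun i l χ hχ => psi_cusp D i l χ hχ
theorem h10_szcChain_D8 (D : SzcData G q r) : SzcsD8 D := fun i l l' hl hl' => psi_gram_same D i l l' hl hl'
theorem h10_szcChain_D9 (D : SzcData G q r) : SzcsD9 D := fun l l' hl hl' => psi_gram_cross D l l' hl hl'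
theorem h10_szcChain_T5 (D : SzcData G q r) : SzcsT5 D := fun i inst ψ hψ =>
  @phi_sum G _ _ (D.A i) (D.tor i).comm inst ψ hψ
theorem h10_szcChain_T8 (D : SzcData G q r) : SzcsT8 D := fun i l hl => phi_norm (D.tor i) l hl
theorem h10_szcChain_T9 (D : SzcData G q r) : SzcsT9 D := fun i l l' hl hl' => phi_gram_cases (D.tor i) l l' hl hl'
theorem h10_szcChain_T10 (D : SzcData G q r) : SzcsT10 D := fun i l hl => h10_szcChain_phi_fiber (D.tor i) l hl
theorem h10_szcChain_A1 (D : SzcData G q r) : SzcsA1 q r := arith D.hq D.hr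
theorem h10_szcChain_F3 (D : SzcData G q r) : SzcsF3 D := fun χ hχ => cusp_degree D χ hχ

theorem h10_szcChain_S4 (D : SzcData G q r) : SzcsS4 D := fun i =>
  szcs4_core D h10_szcChain_C2 (h10_szcChain_D5 D) (h10_szcChain_D8 D) (h10_szcChain_D9 D) (h10_szcChain_T8 D) (h10_szcChain_T9 D) (h10_szcChain_T10 D) (h10_szcChain_A1 D) i
theorem h10_szcChain_S5 (D : SzcData G q r) : SzcsS5 D := fun v hv χ hχ =>
  szcs5_core D h10_szcChain_C1 (h10_szcChain_D5 D) (h10_szcChain_D6 D) v hv χ hχ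
theorem h10_szcChain_S6 (D : SzcData G q r) : SzcsS6 D := fun i χ hχ =>
  szcs6_core D h10_szcChain_C1 h10_szcChain_C2 (h10_szcChain_D5 D) (h10_szcChain_D7 D) (h10_szcChain_D8 D) (h10_szcChain_T5 D) (h10_szcChain_T8 D) (h10_szcChain_T9 D) (h10_szcChain_T10 D) i χ hχ

theorem h10_szcChain_charDegrees_eq (D : SzcData G q r) :
    Cfsg.charDegrees G = {1, q ^ 2, q ^ 2 + 1, (q - 1) * (r / 2), (q - 1) * aN q r true,
      (q - 1) * aN q r false} := by
  letI : Fintype (Cfsg.IrrCharacter G) := Fintype.ofFinite _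
  exact h4_szcS10_core D (fun h1 h2 h3 => sunflower (Vall D) h1 h2 h3)
    (fun v hv => szcs2_core D h10_szcChain_C2 (h10_szcChain_D5 D) (h10_szcChain_D8 D) (h10_szcChain_T8 D) v hv)
    (fun v w hv hw hvw => szcs3_core D h10_szcChain_C2 (h10_szcChain_D5 D) (h10_szcChain_D8 D) (h10_szcChain_D9 D) (h10_szcChain_T9 D) v w hv hw hvw)
    (h10_szcChain_S4 D true).2.2
    (fun h1 => szcs8_core D (h10_szcChain_S4 D) (h10_szcChain_S5 D)
      (szcs7_core D (h10_szcChain_F3 D) (h10_szcChain_S4 D) (h10_szcChain_S6 D) (h10_szcChain_A1 D)) (h10_szcChain_A1 D) h1)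
    (fun h4 => szcs9_core D (h10_szcChain_F3 D) (h10_szcChain_S4 D) (h10_szcChain_S5 D) (h10_szcChain_S6 D) h4)
    (fun χ hχ => ps_degree D χ hχ) (ps_exists D)

end

theorem h10_szcChain_sz_charDegrees {F : Type*} [Field F] [Fintype F] {m : ℕ}
    (hF : Fintype.card F = 2 ^ (2 * m + 1)) (hm : 1 ≤ m) :
    Cfsg.charDegrees (Sz F m) =
      {1, (2 ^ (2 * m + 1)) ^ 2, (2 ^ (2 * m + 1)) ^ 2 + 1,
        (2 ^ (2 * m + 1) - 1) * 2 ^ m,
        (2 ^ (2 * m + 1) - 1) * (2 ^ (2 * m + 1) - 2 ^ (m + 1) + 1),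
        (2 ^ (2 * m + 1) - 1) * (2 ^ (2 * m + 1) + 2 ^ (m + 1) + 1)} := by
  have := finite_Sz hF hm
  let _ : Fintype (Sz F m) := Fintype.ofFinite _
  obtain ⟨D⟩ := sz_data hF hm
  exact h13_szcG1_core m (h10_szcChain_charDegrees_eq D)

theorem h10_szcChain_s4775 (F : Type*) [Field F] [Fintype F] (m : ℕ) (hm : 1 ≤ m) (q : ℕ)
    (hq : Fintype.card F = q) (hqm : q = 2 ^ (2 * m + 1)) {S : Type*} [Group S] [Finite S]
    (hS : Nonempty (S ≃* ↥(Cfsg.Lie.Sz F (2 ^ (m + 1))))) :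
    Cfsg.degreePrimes S = {r : ℕ | r.Prime ∧ (r = 2 ∨ r ∣ (q - 1) * (q ^ 2 + 1))} ∧
    ∀ r s : ℕ, (Cfsg.degreeGraph S).Adj r s ↔ (r ≠ s ∧ r.Prime ∧ s.Prime ∧
      ((r ∣ (q - 1) * (q ^ 2 + 1) ∧ s ∣ (q - 1) * (q ^ 2 + 1)) ∨ (r = 2 ∧ s ∣ q - 1) ∨
        (s = 2 ∧ r ∣ q - 1))) :=
  h13_szcG4_core F m hm q hq hqm hS (h10_szcChain_sz_charDegrees (by rw [hq, hqm]) hm)

end Cfsg.Agent.Lib.Helper10.SZC
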