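import Cfsg.Agent.Lib.Helper10.SZCT5
import Cfsg.Agent.Lib.Helper11.LinChar

/-!
# SZC block D (decomposition `phi = 1 - X + Psi`): verbatim rows D2, D5 and cores of D1, D3, D4,
D6, D7, D8, D9 (the cores take the statements of the rows they cite as hypotheses)
-/

set_option autoImplicit false
open scoped ComplexConjugate

namespace Cfsg.Agent.Lib.Helper10.SZC

section
variable {G : Type*} [Group G] [Fintype G]

theorem h10_szcD_inner_sub_right (f g h : G → ℂ) :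
    Cfsg.classInner f (g - h) = Cfsg.classInner f g - Cfsg.classInner f h := by
  simp only [Cfsg.classInner, Pi.sub_apply, map_sub, mul_sub, Finset.sum_sub_distrib]

theorem h10_szcD_inner_add_right (f g h : G → ℂ) :
    Cfsg.classInner f (g + h) = Cfsg.classInner f g + Cfsg.classInner f h := by
  simp only [Cfsg.classInner, Pi.add_apply, map_add, mul_add, Finset.sum_add_distrib]

theorem h10_szcD_psi_eq (H A : Subgroup G) (l : ↥A →* ℂˣ) :
    Psi H A l = phi A l - (fun _ : G => (1 : ℂ)) + Xf H := rfl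

theorem h10_szcD_Xf_eq (H : Subgroup G) :
    Xf H = Cfsg.indFun H (fun _ => (1 : ℂ)) - (fun _ : G => (1 : ℂ)) := rfl

theorem h10_szcD_one_one : Cfsg.classInner (fun _ : G => (1 : ℂ)) (fun _ : G => (1 : ℂ)) = 1 := by
  have := Cfsg.Agent.Lib.Helper25.irr_classInner (Cfsg.Agent.Lib.Helper25.trivIrr G)
    (Cfsg.Agent.Lib.Helper25.trivIrr G)
  rw [if_pos rfl] at this
  exact this

theorem h10_szcD_X_one (H : Subgroup G) :
    Cfsg.classInner (Xf H) (fun _ : G => (1 : ℂ)) = 0 := by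
  classical
  have : Fintype ↥H := Fintype.ofFinite _
  have hH : (Nat.card H : ℂ) ≠ 0 := by exact_mod_cast Nat.card_pos.ne'
  rw [h10_szcD_Xf_eq, Cfsg.Agent.Lib.Helper25.classInner_sub_left, h10_szcD_one_one,
    Cfsg.Agent.Lib.helper7.h7_frobenius_reciprocity H _ _ (fun g h => rfl)]
  unfold Cfsg.classInner
  simp only [map_one, mul_one, Finset.sum_const, Finset.card_univ, nsmul_eq_mul]
  rw [← Nat.card_eq_fintype_card, inv_mul_cancel₀ hH, sub_self]

theorem h10_szcD_one_X (H : Subgroup G) :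
    Cfsg.classInner (fun _ : G => (1 : ℂ)) (Xf H) = 0 := by
  rw [Cfsg.Agent.Lib.Helper25.classInner_conj_symm, h10_szcD_X_one, map_zero]

theorem h10_szcD_Xf_class (H : Subgroup G) : Cfsg.IsClassFunction G (Xf H) := by
  intro g h
  unfold Xf
  rw [Cfsg.Agent.Lib.helper7.h7_indFun_isClassFunction H _ g h]

theorem h10_szcD_phi_class (A : Subgroup G) (l : ↥A →* ℂˣ) : Cfsg.IsClassFunction G (phi A l) :=
  Cfsg.Agent.Lib.helper7.h7_indFun_isClassFunction A _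

/-- the general Gram computation for `Psi` -/
theorem h10_szcD_psi_gram (H A B : Subgroup G) (l : ↥A →* ℂˣ) (l' : ↥B →* ℂˣ)
    (hX : Cfsg.IsIrrCharacter G (Xf H))
    (h1 : Cfsg.classInner (fun _ : G => (1 : ℂ)) (phi A l) = 1)
    (h2 : Cfsg.classInner (Xf H) (phi A l) = -1)
    (h1' : Cfsg.classInner (fun _ : G => (1 : ℂ)) (phi B l') = 1)
    (h2' : Cfsg.classInner (Xf H) (phi B l') = -1) :
    Cfsg.classInner (Psi H A l) (Psi H B l') = Cfsg.classInner (phi A l) (phi B l') - 2 := by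
  have hXX : Cfsg.classInner (Xf H) (Xf H) = 1 := by
    have := Cfsg.Agent.Lib.Helper25.irr_classInner (⟨Xf H, hX⟩ : Cfsg.IrrCharacter G) ⟨Xf H, hX⟩
    rw [if_pos rfl] at this
    exact this
  have h3 : Cfsg.classInner (phi A l) (fun _ : G => (1 : ℂ)) = 1 := by
    rw [Cfsg.Agent.Lib.Helper25.classInner_conj_symm, h1, map_one]
  have h4 : Cfsg.classInner (phi A l) (Xf H) = -1 := by
    rw [Cfsg.Agent.Lib.Helper25.classInner_conj_symm, h2, map_neg, map_one]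
  rw [h10_szcD_psi_eq, h10_szcD_psi_eq, Cfsg.Agent.Lib.Helper25.classInner_add_left,
    Cfsg.Agent.Lib.Helper25.classInner_sub_left]
  simp only [h10_szcD_inner_add_right, h10_szcD_inner_sub_right]
  rw [h3, h4, h1', h2', h10_szcD_one_one, h10_szcD_one_X, h10_szcD_X_one, hXX]
  ring

/-- an induced function vanishes at elements not conjugate into the subgroup -/
theorem h10_szcD_ind_vanish (H : Subgroup G) (θ : ↥H → ℂ) (a : G)
    (hvan : ∀ x : G, x * a * x⁻¹ ∉ H) : Cfsg.indFun H θ a = 0 := by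
  unfold Cfsg.indFun
  have h : ∀ x : G, Cfsg.extendByZero H θ (x⁻¹ * a * x) = 0 := by
    intro x
    apply Cfsg.Agent.Lib.helper7.h7_extendByZero_not_mem
    have := hvan x⁻¹
    rwa [inv_inv] at this
  simp only [h, Finset.sum_const_zero, mul_zero]

/-- D2 -/
theorem phi_triv (A : Subgroup G) (l : ↥A →* ℂˣ) (hl : l ≠ 1) :
    Cfsg.classInner (fun _ : G => (1 : ℂ)) (phi A l) = 1 := by
  classical
  have : Fintype ↥A := Fintype.ofFinite _
  have hA : (Nat.card A : ℂ) ≠ 0 := by exact_mod_cast Nat.card_pos.ne'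
  rw [phi_inner A l _ (fun g h => rfl)]
  simp only [one_mul, Finset.sum_sub_distrib, Finset.sum_const, Finset.card_univ, nsmul_eq_mul,
    mul_one]
  rw [← map_sum, Cfsg.Agent.Lib.Helper11.sum_linChar_eq_zero l hl, map_zero, sub_zero,
    ← Nat.card_eq_fintype_card, inv_mul_cancel₀ hA]

/-- core of D3 and D4: a class function `ψ` with constant value `c` on `A ∖ 1` -/
theorem h10_szcD_inner_const (A : Subgroup G) (l : ↥A →* ℂˣ) (hl : l ≠ 1) (ψ : G → ℂ)
    (hψ : Cfsg.IsClassFunction G ψ) (c : ℂ) (hc : ∀ a ∈ A, a ≠ 1 → ψ a = c) :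
    Cfsg.classInner ψ (phi A l) = c := by
  classical
  have : Fintype ↥A := Fintype.ofFinite _
  have hA : (Nat.card A : ℂ) ≠ 0 := by exact_mod_cast Nat.card_pos.ne'
  rw [phi_inner A l ψ hψ]
  have h : ∀ a : ↥A, ψ (a : G) * (1 - conj ((l a : ℂˣ) : ℂ)) = c * (1 - conj ((l a : ℂˣ) : ℂ)) := by
    intro a
    by_cases ha : (a : G) = 1
    · have ha' : a = 1 := Subtype.ext ha
      rw [ha']
      simp
    · rw [hc a a.2 ha]
  simp only [h]
  rw [← Finset.mul_sum]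
  simp only [Finset.sum_sub_distrib, Finset.sum_const, Finset.card_univ, nsmul_eq_mul, mul_one]
  rw [← map_sum, Cfsg.Agent.Lib.Helper11.sum_linChar_eq_zero l hl, map_zero, sub_zero,
    ← Nat.card_eq_fintype_card]
  field_simp

variable {q r : ℕ}

/-- core of D1 -/
theorem perm_vanish_core (D : SzcData G q r)
    (hcop : ∀ i, Nat.Coprime (aN q r i) (q ^ 2 * (q - 1)))
    (i : Bool) (a : G) (ha : a ∈ D.A i) (ha1 : a ≠ 1)
    (x : G) : x * a * x⁻¹ ∉ D.H := by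
  intro hx
  have h1 : orderOf a ∣ aN q r i := by
    rw [← D.card_A i]
    exact Subgroup.orderOf_dvd_natCard _ ha
  have h2 : orderOf a ∣ q ^ 2 * (q - 1) := by
    have h3 : orderOf (x * a * x⁻¹) = orderOf a := by
      have := (MulAut.conj x).orderOf_eq a
      simpa using this
    rw [← h3, ← D.card_H]
    exact Subgroup.orderOf_dvd_natCard _ hx
  exact ha1 (orderOf_eq_one_iff.1 (Nat.eq_one_of_dvd_coprimes (hcop i) h1 h2))

/-- core of D3 -/
theorem phi_X_core (D : SzcData G q r)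
    (hvan : ∀ (i : Bool) (a : G), a ∈ D.A i → a ≠ 1 → ∀ x : G, x * a * x⁻¹ ∉ D.H)
    (i : Bool) (l : ↥(D.A i) →* ℂˣ) (hl : l ≠ 1) :
    Cfsg.classInner (Xf D.H) (phi (D.A i) l) = -1 := by
  apply h10_szcD_inner_const (D.A i) l hl (Xf D.H) (h10_szcD_Xf_class D.H)
  intro a ha ha1
  unfold Xf
  rw [h10_szcD_ind_vanish D.H _ a (hvan i a ha ha1), zero_sub]

/-- core of D4 -/
theorem phi_ind_core (D : SzcData G q r)
    (hvan : ∀ (i : Bool) (a : G), a ∈ D.A i → a ≠ 1 → ∀ x : G, x * a * x⁻¹ ∉ D.H)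
    (i : Bool) (l : ↥(D.A i) →* ℂˣ) (μ : ↥D.H →* ℂˣ) :
    Cfsg.classInner (Cfsg.indFun D.H (fun u => ((μ u : ℂˣ) : ℂ))) (phi (D.A i) l) = 0 := by
  classical
  have : Fintype ↥(D.A i) := Fintype.ofFinite _
  rw [phi_inner (D.A i) l _ (Cfsg.Agent.Lib.helper7.h7_indFun_isClassFunction D.H _)]
  have h : ∀ a : ↥(D.A i), Cfsg.indFun D.H (fun u => ((μ u : ℂˣ) : ℂ)) (a : G) *
      (1 - conj ((l a : ℂˣ) : ℂ)) = 0 := by
    intro a
    by_cases ha : (a : G) = 1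
    · have ha' : a = 1 := Subtype.ext ha
      rw [ha']
      simp
    · rw [h10_szcD_ind_vanish D.H _ (a : G) (hvan i a a.2 ha), zero_mul]
  simp only [h, Finset.sum_const_zero, mul_zero]

/-- D5 -/
theorem psi_genChar (H A : Subgroup G) (l : ↥A →* ℂˣ) :
    Cfsg.IsGeneralizedCharacter G (Psi H A l) := by
  obtain ⟨χ, ψ, hχ, hψ, hφ⟩ := phi_genChar A l
  have h1 : Cfsg.IsCharacter G (fun _ : G => (1 : ℂ)) :=
    Cfsg.Agent.Lib.helper2.isCharacter_of_irr (Cfsg.Agent.Lib.Helper25.trivIrr G)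
  have h1H : Cfsg.IsCharacter ↥H (fun _ : ↥H => (1 : ℂ)) :=
    Cfsg.Agent.Lib.helper2.isCharacter_of_irr (Cfsg.Agent.Lib.Helper25.trivIrr ↥H)
  have hI : Cfsg.IsCharacter G (Cfsg.indFun H (fun _ => (1 : ℂ))) :=
    Cfsg.Agent.Lib.helper2.isCharacter_indFun H _ h1H
  refine ⟨χ + Cfsg.indFun H (fun _ => (1 : ℂ)),
    ψ + ((fun _ : G => (1 : ℂ)) + (fun _ : G => (1 : ℂ))),
    Cfsg.Agent.Lib.helper2.isCharacter_add hχ hI,
    Cfsg.Agent.Lib.helper2.isCharacter_add hψ (Cfsg.Agent.Lib.helper2.isCharacter_add h1 h1), ?_⟩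
  rw [h10_szcD_psi_eq, h10_szcD_Xf_eq, hφ]
  funext g
  simp only [Pi.add_apply, Pi.sub_apply]
  ring

/-- core of D6 -/
theorem psi_noncusp_core (D : SzcData G q r)
    (hP1 : ∀ χ : Cfsg.IrrCharacter G, ¬ Cusp D.Q (χ : G → ℂ) →
      (χ : G → ℂ) = (fun _ => 1) ∨ (χ : G → ℂ) = Xf D.H ∨
      ∃ μ : ↥D.H →* ℂˣ, (∀ u : ↥D.H, (u : G) ∈ D.Q → μ u = 1) ∧ μ ≠ 1 ∧
        (χ : G → ℂ) = Cfsg.indFun D.H (fun u => ((μ u : ℂˣ) : ℂ)))
    (hD2 : ∀ (i : Bool) (l : ↥(D.A i) →* ℂˣ), l ≠ 1 →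
      Cfsg.classInner (fun _ : G => (1 : ℂ)) (phi (D.A i) l) = 1)
    (hD3 : ∀ (i : Bool) (l : ↥(D.A i) →* ℂˣ), l ≠ 1 →
      Cfsg.classInner (Xf D.H) (phi (D.A i) l) = -1)
    (hD4 : ∀ (i : Bool) (l : ↥(D.A i) →* ℂˣ) (μ : ↥D.H →* ℂˣ),
      Cfsg.classInner (Cfsg.indFun D.H (fun u => ((μ u : ℂˣ) : ℂ))) (phi (D.A i) l) = 0)
    (i : Bool) (l : ↥(D.A i) →* ℂˣ) (hl : l ≠ 1)
    (χ : Cfsg.IrrCharacter G) (hχ : ¬ Cusp D.Q (χ : G → ℂ)) :
    Cfsg.classInner (χ : G → ℂ) (Psi D.H (D.A i) l) = 0 := by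
  have hXX : Cfsg.classInner (Xf D.H) (Xf D.H) = 1 := by
    have := Cfsg.Agent.Lib.Helper25.irr_classInner (⟨Xf D.H, D.X_irr⟩ : Cfsg.IrrCharacter G)
      ⟨Xf D.H, D.X_irr⟩
    rw [if_pos rfl] at this
    exact this
  rw [h10_szcD_psi_eq, h10_szcD_inner_add_right, h10_szcD_inner_sub_right]
  rcases hP1 χ hχ with h | h | ⟨μ, hμQ, hμ1, h⟩
  · rw [h, hD2 i l hl, h10_szcD_one_one, h10_szcD_one_X]; ring
  · rw [h, hD3 i l hl, h10_szcD_X_one, hXX]; ring
  · -- `Ind μ` is irreducible and different from `1` and `X`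
    have hirr := D.ind_irr μ hμQ hμ1
    set I : Cfsg.IrrCharacter G := ⟨Cfsg.indFun D.H (fun u => ((μ u : ℂˣ) : ℂ)), hirr⟩ with hI
    have hI1 : Cfsg.classInner (I : G → ℂ) (fun _ : G => (1 : ℂ)) = 0 := by
      -- Frobenius: `[Ind μ, 1] = [μ, 1_H] = 0`
      classical
      have : Fintype ↥D.H := Fintype.ofFinite _
      show Cfsg.classInner (Cfsg.indFun D.H (fun u => ((μ u : ℂˣ) : ℂ))) (fun _ : G => (1 : ℂ)) = 0
      rw [Cfsg.Agent.Lib.helper7.h7_frobenius_reciprocity D.H _ _ (fun g h => rfl)]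
      unfold Cfsg.classInner
      simp only [map_one, mul_one]
      rw [Cfsg.Agent.Lib.Helper11.sum_linChar_eq_zero μ hμ1, mul_zero]
    have hIX : Cfsg.classInner (I : G → ℂ) (Xf D.H) = 0 := by
      have h5 := Cfsg.Agent.Lib.Helper25.irr_classInner I (⟨Xf D.H, D.X_irr⟩ : Cfsg.IrrCharacter G)
      rw [if_neg] at h5
      · exact h5
      · intro heq
        have h6 : (I : G → ℂ) = Xf D.H := congrArg Subtype.val heq
        have h7 := congrFun h6 1
        have h8 : (I : G → ℂ) 1 = (D.H.index : ℂ) * 1 := by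
          show Cfsg.indFun D.H (fun u => ((μ u : ℂˣ) : ℂ)) 1 = _
          rw [Cfsg.Agent.Lib.helper7.h7_indFun_one]
          simp
        have h9 : Xf D.H 1 = (D.H.index : ℂ) * 1 - 1 := by
          unfold Xf
          rw [Cfsg.Agent.Lib.helper7.h7_indFun_one]
        rw [h8, h9] at h7
        have : (1 : ℂ) = 0 := by linear_combination h7
        exact one_ne_zero this
    rw [h]
    show Cfsg.classInner (I : G → ℂ) (phi (D.A i) l) - Cfsg.classInner (I : G → ℂ) (fun _ => 1) +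
      Cfsg.classInner (I : G → ℂ) (Xf D.H) = 0
    rw [hI1, hIX]
    show Cfsg.classInner (Cfsg.indFun D.H (fun u => ((μ u : ℂˣ) : ℂ))) (phi (D.A i) l) - 0 + 0 = 0
    rw [hD4 i l μ]; ring

/-- core of D7 -/
theorem psi_cusp_core (D : SzcData G q r)
    (hP6 : ¬ Cusp D.Q (fun _ : G => (1 : ℂ)) ∧ ¬ Cusp D.Q (Xf D.H))
    (i : Bool) (l : ↥(D.A i) →* ℂˣ)
    (χ : Cfsg.IrrCharacter G) (hχ : Cusp D.Q (χ : G → ℂ)) :
    Cfsg.classInner (χ : G → ℂ) (Psi D.H (D.A i) l) =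
      Cfsg.classInner (χ : G → ℂ) (phi (D.A i) l) := by
  have h1 : Cfsg.classInner (χ : G → ℂ) (fun _ : G => (1 : ℂ)) = 0 := by
    have h5 := Cfsg.Agent.Lib.Helper25.irr_classInner χ (Cfsg.Agent.Lib.Helper25.trivIrr G)
    rw [if_neg] at h5
    · exact h5
    · intro heq
      apply hP6.1
      have h6 : (χ : G → ℂ) = fun _ => 1 := congrArg Subtype.val heq
      rw [← h6]
      exact hχ
  have h2 : Cfsg.classInner (χ : G → ℂ) (Xf D.H) = 0 := by
    have h5 := Cfsg.Agent.Lib.Helper25.irr_classInner χ (⟨Xf D.H, D.X_irr⟩ : Cfsg.IrrCharacter G)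
    rw [if_neg] at h5
    · exact h5
    · intro heq
      apply hP6.2
      have h6 : (χ : G → ℂ) = Xf D.H := congrArg Subtype.val heq
      rw [← h6]
      exact hχ
  rw [h10_szcD_psi_eq, h10_szcD_inner_add_right, h10_szcD_inner_sub_right, h1, h2]
  ring

/-- core of D8 -/
theorem psi_gram_same_core (D : SzcData G q r)
    (hvan : ∀ (i : Bool) (a : G), a ∈ D.A i → a ≠ 1 → ∀ x : G, x * a * x⁻¹ ∉ D.H)
    (i : Bool) (l l' : ↥(D.A i) →* ℂˣ) (hl : l ≠ 1)
    (hl' : l' ≠ 1) :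
    Cfsg.classInner (Psi D.H (D.A i) l) (Psi D.H (D.A i) l') =
      Cfsg.classInner (phi (D.A i) l) (phi (D.A i) l') - 2 :=
  h10_szcD_psi_gram D.H (D.A i) (D.A i) l l' D.X_irr (phi_triv _ l hl)
    (phi_X_core D hvan i l hl) (phi_triv _ l' hl') (phi_X_core D hvan i l' hl')

/-- core of D9 -/
theorem psi_gram_cross_core (D : SzcData G q r)
    (hvan : ∀ (i : Bool) (a : G), a ∈ D.A i → a ≠ 1 → ∀ x : G, x * a * x⁻¹ ∉ D.H)
    (hcop : Nat.Coprime (aN q r false) (aN q r true))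
    (l : ↥(D.A false) →* ℂˣ) (l' : ↥(D.A true) →* ℂˣ)
    (hl : l ≠ 1) (hl' : l' ≠ 1) :
    Cfsg.classInner (Psi D.H (D.A false) l) (Psi D.H (D.A true) l') = -2 := by
  rw [h10_szcD_psi_gram D.H (D.A false) (D.A true) l l' D.X_irr (phi_triv _ l hl)
    (phi_X_core D hvan false l hl) (phi_triv _ l' hl') (phi_X_core D hvan true l' hl'),
    phi_cross (D.A false) (D.A true) (by rw [D.card_A, D.card_A]; exact hcop) l l']
  ring

end

end Cfsg.Agent.Lib.Helper10.SZC
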