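import Cfsg.Agent.Lib.Helper10.SZC.Defs

/-!
# SZC row L1: the sunflower lemma for integer vectors of norm 3 with pairwise inner product 2
-/

set_option autoImplicit false

namespace Cfsg.Agent.Lib.Helper10.SZC

section L1
variable {ι : Type*} [Fintype ι]

/-- entries of a norm-3 vector are `0, 1, -1` -/
theorem h10_szcL1_entry (v : ι → ℤ) (hn : ∑ i, v i * v i = 3) (i : ι) :
    v i = 0 ∨ v i = 1 ∨ v i = -1 := by
  have h : v i * v i ≤ ∑ j, v j * v j :=
    Finset.single_le_sum (f := fun j => v j * v j) (fun j _ => mul_self_nonneg (v j))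
      (Finset.mem_univ i)
  rw [hn] at h
  have h1 : v i ≤ 1 := by nlinarith
  have h2 : -1 ≤ v i := by nlinarith
  omega

/-- the support of a norm-3 vector has 3 elements -/
theorem h10_szcL1_supp [DecidableEq ι] (v : ι → ℤ) (hn : ∑ i, v i * v i = 3) :
    (Finset.univ.filter (fun i => v i ≠ 0)).card = 3 := by
  have h : ∀ i, v i * v i = if v i ≠ 0 then 1 else 0 := by
    intro i
    rcases h10_szcL1_entry v hn i with h | h | h <;> simp [h]
  have h3 : ((Finset.univ.filter (fun i => v i ≠ 0)).card : ℤ) = 3 := by
    rw [← hn, Finset.card_filter]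
    push_cast
    exact Finset.sum_congr rfl (fun i _ => (h i).symm)
  exact_mod_cast h3

/-- two norm-3 vectors with inner product 2 differ in exactly two coordinates -/
theorem h10_szcL1_pair (v w : ι → ℤ) (hv : ∑ i, v i * v i = 3) (hw : ∑ i, w i * w i = 3)
    (hvw : ∑ i, v i * w i = 2) :
    ∃ a b : ι, v a ≠ 0 ∧ w a = 0 ∧ v b = 0 ∧ w b ≠ 0 ∧ ∀ i, i ≠ a → i ≠ b → v i = w i := by
  classical
  have hd : ∑ i, (v i - w i) * (v i - w i) = 2 := by
    have h : ∀ i, (v i - w i) * (v i - w i) = v i * v i - 2 * (v i * w i) + w i * w i := by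
      intro i; ring
    simp only [h, Finset.sum_add_distrib, Finset.sum_sub_distrib, ← Finset.mul_sum]
    rw [hv, hw, hvw]; norm_num
  -- pointwise: where they differ exactly one of them vanishes
  have hpt : ∀ i, v i ≠ w i → (v i - w i) * (v i - w i) = 1 := by
    intro i hi
    have h : (v i - w i) * (v i - w i) ≤ ∑ j, (v j - w j) * (v j - w j) :=
      Finset.single_le_sum (f := fun j => (v j - w j) * (v j - w j))
        (fun j _ => mul_self_nonneg _) (Finset.mem_univ i)
    rw [hd] at h
    rcases h10_szcL1_entry v hv i with h1 | h1 | h1 <;>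
      rcases h10_szcL1_entry w hw i with h2 | h2 | h2 <;> rw [h1, h2] at h hi ⊢ <;>
      first | exact absurd rfl hi | exact absurd h (by decide) | decide
  set D := Finset.univ.filter (fun i => v i ≠ w i) with hD
  have hDcard : D.card = 2 := by
    have h3 : (D.card : ℤ) = 2 := by
      rw [← hd, hD, Finset.card_filter]
      push_cast
      refine Finset.sum_congr rfl (fun i _ => ?_)
      by_cases hi : v i = w i
      · simp [hi]
      · rw [if_pos hi, hpt i hi]
    exact_mod_cast h3
  obtain ⟨a, b, hab, hDab⟩ := Finset.card_eq_two.1 hDcard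
  have hmem : ∀ i, v i ≠ w i ↔ (i = a ∨ i = b) := by
    intro i
    have : i ∈ D ↔ i ∈ ({a, b} : Finset ι) := by rw [hDab]
    simpa [hD] using this
  have hane : v a ≠ w a := (hmem a).2 (Or.inl rfl)
  have hbne : v b ≠ w b := (hmem b).2 (Or.inr rfl)
  -- the difference of the norms
  have hsq : (v a * v a - w a * w a) + (v b * v b - w b * w b) = 0 := by
    have h0 : ∑ i, (v i * v i - w i * w i) = 0 := by
      rw [Finset.sum_sub_distrib, hv, hw]; norm_num
    have h1 : ∑ i, (v i * v i - w i * w i) = ∑ i ∈ D, (v i * v i - w i * w i) := by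
      symm
      apply Finset.sum_subset (Finset.subset_univ _)
      intro i _ hi
      have : v i = w i := by
        by_contra hc
        exact hi (by rw [hD]; simp [hc])
      rw [this]; ring
    rw [h1, hDab, Finset.sum_pair hab] at h0
    exact h0
  have hoff : ∀ i, i ≠ a → i ≠ b → v i = w i := by
    intro i hia hib
    by_contra hc
    rcases (hmem i).1 hc with h | h
    · exact hia h
    · exact hib h
  have ha1 := hpt a hane
  have hb1 := hpt b hbne
  rcases h10_szcL1_entry v hv a with h1 | h1 | h1 <;>
    rcases h10_szcL1_entry w hw a with h2 | h2 | h2 <;>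
    rcases h10_szcL1_entry v hv b with h3 | h3 | h3 <;>
    rcases h10_szcL1_entry w hw b with h4 | h4 | h4 <;>
    rw [h1, h2] at ha1 hane <;> rw [h3, h4] at hb1 hbne <;> rw [h1, h2, h3, h4] at hsq <;>
    first
    | (exfalso; exact hane rfl)
    | (exfalso; exact hbne rfl)
    | (exfalso; norm_num at ha1; done)
    | (exfalso; norm_num at hb1; done)
    | (exfalso; norm_num at hsq; done)
    | exact ⟨a, b, by rw [h1]; norm_num, h2, h3, by rw [h4]; norm_num, hoff⟩
    | exact ⟨b, a, by rw [h3]; norm_num, h4, h1, by rw [h2]; norm_num,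
        fun i hib hia => hoff i hia hib⟩

/-- L1 -/
theorem sunflower {ι : Type*} [Fintype ι] (V : Finset (ι → ℤ))
    (hn : ∀ v ∈ V, ∑ i, v i * v i = 3)
    (hp : ∀ v ∈ V, ∀ w ∈ V, v ≠ w → ∑ i, v i * w i = 2)
    (hcard : 4 ≤ V.card) : Shape1 V ∨ (V.card = 4 ∧ Shape2 V) := by
  classical
  obtain ⟨v0, hv0⟩ : V.Nonempty := Finset.card_pos.1 (by omega)
  have : Nonempty ι := by
    by_contra h
    rw [not_nonempty_iff] at h
    have := hn v0 hv0
    simp at this
  set W := V.erase v0 with hW
  have hWcard : 3 ≤ W.card := by rw [hW, Finset.card_erase_of_mem hv0]; omega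
  have hWV : ∀ w ∈ W, w ∈ V ∧ w ≠ v0 := fun w hw =>
    ⟨(Finset.mem_erase.1 hw).2, (Finset.mem_erase.1 hw).1⟩
  have hex : ∀ w, w ∈ W → ∃ a b : ι, v0 a ≠ 0 ∧ w a = 0 ∧ v0 b = 0 ∧ w b ≠ 0 ∧
      ∀ i, i ≠ a → i ≠ b → v0 i = w i := by
    intro w hw
    exact h10_szcL1_pair v0 w (hn v0 hv0) (hn w (hWV w hw).1)
      (hp v0 hv0 w (hWV w hw).1 (Ne.symm (hWV w hw).2))
  choose! fa fb hfab using hex
  -- key: two distinct vectors of `W` agree in exactly one of `fa`, `fb`
  have key : ∀ w ∈ W, ∀ w' ∈ W, w ≠ w' →
      (fa w = fa w' ∧ fb w ≠ fb w') ∨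
      (fa w ≠ fa w' ∧ fb w = fb w' ∧ w (fb w) = w' (fb w')) := by
    intro w hw w' hw' hne
    obtain ⟨a', b', p1, p2, p3, p4, p5⟩ := h10_szcL1_pair w w' (hn w (hWV w hw).1)
      (hn w' (hWV w' hw').1) (hp w (hWV w hw).1 w' (hWV w' hw').1 hne)
    obtain ⟨q1, q2, q3, q4, q5⟩ := hfab w hw
    obtain ⟨r1, r2, r3, r4, r5⟩ := hfab w' hw'
    by_cases hA : fa w = fa w'
    · left
      refine ⟨hA, ?_⟩
      intro hB
      have hagree : ∀ i, i ≠ fb w → w i = w' i := by
        intro i hi
        by_cases hia : i = fa w
        · rw [hia, q2, hA, r2]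
        · rw [← q5 i hia hi, r5 i (by rwa [← hA]) (by rwa [← hB])]
      have ha' : a' = fb w := by
        by_contra hc
        have := hagree a' hc
        rw [p2] at this
        exact p1 this
      have hb' : b' = fb w := by
        by_contra hc
        have := hagree b' hc
        rw [p3] at this
        exact p4 this.symm
      rw [ha'] at p1
      rw [hb'] at p3
      exact p1 p3
    · right
      -- `fa w = b'`
      have e1 : w' (fa w) = v0 (fa w) := by
        refine (r5 (fa w) hA ?_).symm
        intro hc
        rw [hc] at q1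
        exact q1 r3
      have e2 : fa w = b' := by
        by_contra hc
        have hne' : fa w ≠ a' := by
          intro hc'
          rw [← hc'] at p1
          exact p1 q2
        have := p5 (fa w) hne' hc
        rw [q2, e1] at this
        exact q1 this.symm
      -- `fa w' = a'`
      have e3 : w (fa w') = v0 (fa w') := by
        refine (q5 (fa w') (Ne.symm hA) ?_).symm
        intro hc
        rw [hc] at r1
        exact r1 q3
      have e4 : fa w' = a' := by
        by_contra hc
        have hne' : fa w' ≠ b' := by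
          intro hc'
          rw [← hc'] at p4
          exact p4 r2
        have := p5 (fa w') hc hne'
        rw [r2, e3] at this
        exact r1 this
      -- `fb w`
      have e5 : w (fb w) = w' (fb w) := by
        refine p5 (fb w) ?_ ?_
        · intro hc
          rw [← e4] at hc
          rw [hc] at q3
          exact r1 q3
        · intro hc
          rw [← hc] at p3
          exact q4 p3
      have e6 : fb w = fb w' := by
        by_contra hc
        have hne' : fb w ≠ fa w' := by
          intro hc'
          rw [hc'] at q3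
          exact r1 q3
        have := r5 (fb w) hne' hc
        rw [q3, ← e5] at this
        exact q4 this.symm
      refine ⟨hA, e6, ?_⟩
      rw [e5, e6]
  by_cases hAex : ∃ w ∈ W, ∃ w' ∈ W, w ≠ w' ∧ fa w = fa w'
  · -- sunflower
    left
    obtain ⟨w1, hw1, w2, hw2, hne12, hfa12⟩ := hAex
    have hall : ∀ w ∈ W, fa w = fa w1 := by
      intro w hw
      by_contra hc
      have hn1 : w ≠ w1 := fun h => hc (by rw [h])
      have hn2 : w ≠ w2 := fun h => hc (by rw [h, hfa12])
      have k1 := key w hw w1 hw1 hn1
      have k2 := key w hw w2 hw2 hn2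
      have k3 := key w1 hw1 w2 hw2 hne12
      rcases k1 with ⟨h, _⟩ | ⟨_, h1, _⟩
      · exact hc h
      rcases k2 with ⟨h, _⟩ | ⟨_, h2, _⟩
      · exact hc (by rw [h, hfa12])
      rcases k3 with ⟨_, h3⟩ | ⟨h3, _⟩
      · exact h3 (by rw [← h1, h2])
      · exact h3 hfa12
    set a := fa w1 with ha
    have hv0a : v0 a ≠ 0 := (hfab w1 hw1).1
    refine ⟨fun i => if i = a then 0 else v0 i, fun v => if v = v0 then a else fb v,
      fun v => v (if v = v0 then a else fb v), ?_, ?_, ?_⟩
    · -- norm of R
      have h : ∀ i, (if i = a then (0 : ℤ) else v0 i) * (if i = a then (0 : ℤ) else v0 i) =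
          v0 i * v0 i - (if i = a then v0 a * v0 a else 0) := by
        intro i
        by_cases hi : i = a
        · rw [if_pos hi, if_pos hi, hi]; ring
        · rw [if_neg hi, if_neg hi]; ring
      simp only [h, Finset.sum_sub_distrib, Finset.sum_ite_eq', Finset.mem_univ, if_true]
      rw [hn v0 hv0]
      rcases h10_szcL1_entry v0 (hn v0 hv0) a with h1 | h1 | h1
      · exact absurd h1 hv0a
      · rw [h1]; norm_num
      · rw [h1]; norm_num
    · intro v hv
      by_cases hvv : v = v0
      · subst hvv
        simp only [if_true]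
        refine ⟨?_, ?_, trivial, ?_⟩
        · rcases h10_szcL1_entry v (hn v hv) a with h1 | h1 | h1
          · exact absurd h1 hv0a
          · exact Or.inl h1
          · exact Or.inr h1
        · simp
        · intro i hi
          simp [hi]
      · have hvW : v ∈ W := Finset.mem_erase.2 ⟨hvv, hv⟩
        obtain ⟨q1, q2, q3, q4, q5⟩ := hfab v hvW
        have hfav : fa v = a := hall v hvW
        have hba : fb v ≠ a := by
          intro hc
          rw [hc] at q3
          exact hv0a q3
        simp only [if_neg hvv]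
        refine ⟨?_, ?_, trivial, ?_⟩
        · rcases h10_szcL1_entry v (hn v hv) (fb v) with h1 | h1 | h1
          · exact absurd h1 q4
          · exact Or.inl h1
          · exact Or.inr h1
        · rw [if_neg hba]; exact q3
        · intro i hi
          by_cases hia : i = a
          · rw [if_pos hia, hia, ← hfav]; exact q2
          · rw [if_neg hia]
            exact (q5 i (by rw [hfav]; exact hia) hi).symm
    · intro v hv w hw hpt
      beta_reduce at hpt
      by_cases hvv : v = v0 <;> by_cases hww : w = v0
      · rw [hvv, hww]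
      · exfalso
        rw [if_pos hvv, if_neg hww] at hpt
        have hwW : w ∈ W := Finset.mem_erase.2 ⟨hww, hw⟩
        have := (hfab w hwW).2.2.1
        rw [← hpt] at this
        exact hv0a this
      · exfalso
        rw [if_neg hvv, if_pos hww] at hpt
        have hvW : v ∈ W := Finset.mem_erase.2 ⟨hvv, hv⟩
        have := (hfab v hvW).2.2.1
        rw [hpt] at this
        exact hv0a this
      · rw [if_neg hvv, if_neg hww] at hpt
        have hvW : v ∈ W := Finset.mem_erase.2 ⟨hvv, hv⟩
        have hwW : w ∈ W := Finset.mem_erase.2 ⟨hww, hw⟩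
        by_contra hne
        rcases key v hvW w hwW hne with ⟨_, h⟩ | ⟨h, _⟩
        · exact h hpt
        · exact h (by rw [hall v hvW, hall w hwW])
  · -- the exceptional configuration
    right
    push Not at hAex
    have hinj : ∀ w ∈ W, ∀ w' ∈ W, w ≠ w' → fa w ≠ fa w' := hAex
    have hsub : W.image fa ⊆ Finset.univ.filter (fun i => v0 i ≠ 0) := by
      intro i hi
      obtain ⟨w, hw, rfl⟩ := Finset.mem_image.1 hi
      simp only [Finset.mem_filter, Finset.mem_univ, true_and]
      exact (hfab w hw).1
    have himg : (W.image fa).card = W.card := by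
      apply Finset.card_image_of_injOn
      intro w hw w' hw' h
      by_contra hne
      exact hinj w hw w' hw' hne h
    have hsupp := h10_szcL1_supp v0 (hn v0 hv0)
    have hle : W.card ≤ 3 := by
      rw [← himg, ← hsupp]
      exact Finset.card_le_card hsub
    have hW3 : W.card = 3 := le_antisymm hle hWcard
    have hV4 : V.card = 4 := by
      have := Finset.card_erase_of_mem hv0
      rw [← hW, hW3] at this
      have hpos : 0 < V.card := Finset.card_pos.2 ⟨v0, hv0⟩
      omega
    refine ⟨hV4, ?_⟩
    obtain ⟨w1, w2, w3, h12, h13, h23, hWeq⟩ := Finset.card_eq_three.1 hW3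
    have hw1 : w1 ∈ W := by rw [hWeq]; simp
    have hw2 : w2 ∈ W := by rw [hWeq]; simp
    have hw3 : w3 ∈ W := by rw [hWeq]; simp
    have hsuppeq : W.image fa = Finset.univ.filter (fun i => v0 i ≠ 0) :=
      Finset.eq_of_subset_of_card_le hsub (by rw [himg, hsupp, hW3])
    have hzero : ∀ i, i ≠ fa w1 → i ≠ fa w2 → i ≠ fa w3 → v0 i = 0 := by
      intro i i1 i2 i3
      by_contra hc
      have : i ∈ W.image fa := by
        rw [hsuppeq]
        simp only [Finset.mem_filter, Finset.mem_univ, true_and]
        exact hc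
      rw [hWeq] at this
      simp only [Finset.image_insert, Finset.image_singleton, Finset.mem_insert,
        Finset.mem_singleton] at this
      rcases this with h | h | h
      · exact i1 h
      · exact i2 h
      · exact i3 h
    obtain ⟨a1, b1, c1, d1, f1⟩ := hfab w1 hw1
    obtain ⟨a2, b2, c2, d2, f2⟩ := hfab w2 hw2
    obtain ⟨a3, b3, c3, d3, f3⟩ := hfab w3 hw3
    have n12 := hinj w1 hw1 w2 hw2 h12
    have n13 := hinj w1 hw1 w3 hw3 h13
    have n23 := hinj w2 hw2 w3 hw3 h23
    have k12 : fb w1 = fb w2 ∧ w1 (fb w1) = w2 (fb w2) := by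
      rcases key w1 hw1 w2 hw2 h12 with ⟨h, _⟩ | ⟨_, h, h'⟩
      · exact absurd h n12
      · exact ⟨h, h'⟩
    have k13 : fb w1 = fb w3 ∧ w1 (fb w1) = w3 (fb w3) := by
      rcases key w1 hw1 w3 hw3 h13 with ⟨h, _⟩ | ⟨_, h, h'⟩
      · exact absurd h n13
      · exact ⟨h, h'⟩
    set b := fb w1 with hb
    have hb2 : fb w2 = b := k12.1.symm
    have hb3 : fb w3 = b := k13.1.symm
    rw [hb2] at c2 d2 f2
    rw [hb3] at c3 d3 f3
    have s2 : w2 b = w1 b := by have := k12.2; rw [hb2] at this; exact this.symm
    have s3 : w3 b = w1 b := by have := k13.2; rw [hb3] at this; exact this.symm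
    have nb1 : b ≠ fa w1 := fun h => a1 (by rw [← h]; exact c1)
    have nb2 : b ≠ fa w2 := fun h => a2 (by rw [← h]; exact c1)
    have nb3 : b ≠ fa w3 := fun h => a3 (by rw [← h]; exact c1)
    have pm : ∀ (u : ι → ℤ), u ∈ V → ∀ i, u i ≠ 0 → (u i = 1 ∨ u i = -1) := by
      intro u hu i hi
      rcases h10_szcL1_entry u (hn u hu) i with h | h | h
      · exact absurd h hi
      · exact Or.inl h
      · exact Or.inr h
    have hv10 : w1 ≠ v0 := (hWV w1 hw1).2
    have hv20 : w2 ≠ v0 := (hWV w2 hw2).2
    have hv30 : w3 ≠ v0 := (hWV w3 hw3).2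
    refine ⟨![b, fa w1, fa w2, fa w3], ![w1 b, v0 (fa w1), v0 (fa w2), v0 (fa w3)],
      ![v0, w1, w2, w3], ?_, ?_, ?_, ?_, ?_, ?_, ?_⟩
    · intro i j hij
      fin_cases i <;> fin_cases j <;> simp at hij ⊢ <;>
        first
        | exact absurd hij nb1 | exact absurd hij nb2 | exact absurd hij nb3
        | exact absurd hij.symm nb1 | exact absurd hij.symm nb2 | exact absurd hij.symm nb3
        | exact absurd hij n12 | exact absurd hij n13 | exact absurd hij n23
        | exact absurd hij.symm n12 | exact absurd hij.symm n13 | exact absurd hij.symm n23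
    · intro k
      fin_cases k
      · exact pm w1 (hWV w1 hw1).1 b d1
      · exact pm v0 hv0 _ a1
      · exact pm v0 hv0 _ a2
      · exact pm v0 hv0 _ a3
    · intro i j hij
      fin_cases i <;> fin_cases j <;> simp at hij ⊢ <;>
        first
        | exact absurd hij h12 | exact absurd hij h13 | exact absurd hij h23
        | exact absurd hij.symm h12 | exact absurd hij.symm h13 | exact absurd hij.symm h23
        | exact absurd hij hv10 | exact absurd hij hv20 | exact absurd hij hv30
        | exact absurd hij.symm hv10 | exact absurd hij.symm hv20 | exact absurd hij.symm hv30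
    · intro v
      have hVeq : V = insert v0 W := (Finset.insert_erase hv0).symm
      rw [hVeq, hWeq]
      simp only [Finset.mem_insert, Finset.mem_singleton, Fin.exists_fin_succ, Fin.isValue]
      simp
    · intro k
      fin_cases k
      · exact c1
      · exact b1
      · exact b2
      · exact b3
    · intro k j hjk
      fin_cases k <;> fin_cases j <;> simp at hjk ⊢ <;>
        first
        | exact s2 | exact s3
        | exact (f1 _ (Ne.symm n12) (Ne.symm nb2)).symm
        | exact (f1 _ (Ne.symm n13) (Ne.symm nb3)).symm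
        | exact (f2 _ n12 (Ne.symm nb1)).symm
        | exact (f2 _ (Ne.symm n23) (Ne.symm nb3)).symm
        | exact (f3 _ n13 (Ne.symm nb1)).symm
        | exact (f3 _ n23 (Ne.symm nb2)).symm
    · intro k i hi
      have i0 : i ≠ b := by simpa using hi 0
      have i1 : i ≠ fa w1 := by simpa using hi 1
      have i2 : i ≠ fa w2 := by simpa using hi 2
      have i3 : i ≠ fa w3 := by simpa using hi 3
      have hz := hzero i i1 i2 i3
      fin_cases k
      · exact hz
      · show w1 i = 0
        rw [← f1 i i1 i0]; exact hz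
      · show w2 i = 0
        rw [← f2 i i2 i0]; exact hz
      · show w3 i = 0
        rw [← f3 i i3 i0]; exact hz

end L1

end Cfsg.Agent.Lib.Helper10.SZC
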