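import Cfsg.Agent.Lib.Helper10.SZC.Defs
import Cfsg.Agent.Lib.Helper13.SZCA1
import Cfsg.Agent.Lib.Helper25.CharOrth

/-!
# SZC row S7 (core): the degrees of the cuspidal characters in the sunflower shape
-/

set_option autoImplicit false
open scoped ComplexConjugate

namespace Cfsg.Agent.Lib.Helper10.SZC

section
variable {G : Type*} [Group G] [Fintype G] {q r : ℕ}

open Classical in
theorem h10_szcS7_mem_Vall (D : SzcData G q r) (v : Cfsg.IrrCharacter G → ℤ) :
    v ∈ Vall D ↔ v ∈ Vset D false ∨ v ∈ Vset D true := by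
  unfold Vall
  exact Finset.mem_union

/-- core of S7 -/
theorem h10_szcS7_core [Fintype (Cfsg.IrrCharacter G)] (D : SzcData G q r)
    (hF3 : ∀ χ : Cfsg.IrrCharacter G, Cusp D.Q (χ : G → ℂ) →
      4 * (χ : G → ℂ) 1 = ((q - 1 : ℕ) : ℂ) *
        ((aN q r true : ℂ) * sumNI (D.A false) (χ : G → ℂ) +
         (aN q r false : ℂ) * sumNI (D.A true) (χ : G → ℂ)))
    (hS6 : ∀ (i : Bool) (χ : Cfsg.IrrCharacter G), Cusp D.Q (χ : G → ℂ) →
      sumNI (D.A i) (χ : G → ℂ) = ((sgn i * 4 * ∑ v ∈ Vset D i, v χ : ℤ) : ℂ))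
    (hS4 : ∀ i : Bool, 4 * (Vset D i).card = aN q r i - 1 ∧
      Disjoint (Vset D false) (Vset D true) ∧ (Vall D).card = q / 2)
    (R : Cfsg.IrrCharacter G → ℤ) (pt : (Cfsg.IrrCharacter G → ℤ) → Cfsg.IrrCharacter G)
    (sg : (Cfsg.IrrCharacter G → ℤ) → ℤ)
    (hR : ∑ χ, R χ * R χ = 2)
    (hV : ∀ v ∈ Vall D, (sg v = 1 ∨ sg v = -1) ∧ R (pt v) = 0 ∧ v (pt v) = sg v ∧
      ∀ χ, χ ≠ pt v → v χ = R χ)
    (hinj : ∀ v ∈ Vall D, ∀ w ∈ Vall D, pt v = pt w → v = w)
    (χ : Cfsg.IrrCharacter G) (hχ : Cusp D.Q (χ : G → ℂ)) :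
    (R χ = 1 ∧ (∀ v ∈ Vall D, pt v ≠ χ) ∧ (χ : G → ℂ) 1 = (((q - 1) * (r / 2) : ℕ) : ℂ)) ∨
    (R χ = 0 ∧ (∃ v ∈ Vset D false, pt v = χ) ∧
      (χ : G → ℂ) 1 = (((q - 1) * aN q r true : ℕ) : ℂ)) ∨
    (R χ = 0 ∧ (∃ v ∈ Vset D true, pt v = χ) ∧
      (χ : G → ℂ) 1 = (((q - 1) * aN q r false : ℕ) : ℂ)) := by
  classical
  obtain ⟨hre, hqe, hr4, hrq, hprod, hcop, hcopH, h4dvd, h5le, hsum, hdiff⟩ := arith D.hq D.hr
  obtain ⟨n, hn0, hn⟩ := Cfsg.Agent.Lib.Helper25.irr_one_eq_finrank χ
  have hq1 : (0 : ℤ) < ((q - 1 : ℕ) : ℤ) := by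
    have := D.hq
    have h : 0 < q - 1 := by omega
    exact_mod_cast h
  have hmemV : ∀ (i : Bool) (v : Cfsg.IrrCharacter G → ℤ), v ∈ Vset D i → v ∈ Vall D := by
    intro i v hv
    rw [h10_szcS7_mem_Vall]
    cases i
    · exact Or.inl hv
    · exact Or.inr hv
  have key : (n : ℤ) = ((q - 1 : ℕ) : ℤ) *
      ((aN q r true : ℤ) * (∑ v ∈ Vset D false, v χ) -
        (aN q r false : ℤ) * (∑ v ∈ Vset D true, v χ)) := by
    have h := hF3 χ hχ
    rw [hS6 false χ hχ, hS6 true χ hχ, hn] at h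
    have h' : ((4 * (n : ℤ) : ℤ) : ℂ) = ((((q - 1 : ℕ) : ℤ) *
        ((aN q r true : ℤ) * (sgn false * 4 * ∑ v ∈ Vset D false, v χ) +
          (aN q r false : ℤ) * (sgn true * 4 * ∑ v ∈ Vset D true, v χ)) : ℤ) : ℂ) := by
      push_cast
      push_cast at h
      linear_combination h
    have h'' : 4 * (n : ℤ) = ((q - 1 : ℕ) : ℤ) *
        ((aN q r true : ℤ) * (sgn false * 4 * ∑ v ∈ Vset D false, v χ) +
          (aN q r false : ℤ) * (sgn true * 4 * ∑ v ∈ Vset D true, v χ)) := by
      exact_mod_cast h'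
    simp only [sgn] at h''
    simp only [Bool.false_eq_true, if_false, if_true] at h''
    linarith
  have hRent : R χ = 0 ∨ R χ = 1 ∨ R χ = -1 := by
    have h : R χ * R χ ≤ ∑ ψ, R ψ * R ψ :=
      Finset.single_le_sum (f := fun ψ => R ψ * R ψ) (fun ψ _ => mul_self_nonneg (R ψ))
        (Finset.mem_univ χ)
    rw [hR] at h
    have h1 : R χ ≤ 1 := by nlinarith
    have h2 : -1 ≤ R χ := by nlinarith
    omega
  have haf : (aN q r false : ℤ) = 4 * ((Vset D false).card : ℤ) + 1 := by
    have h1 := (hS4 false).1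
    have h2 := h5le false
    have : aN q r false = 4 * (Vset D false).card + 1 := by omega
    exact_mod_cast this
  have hat : (aN q r true : ℤ) = 4 * ((Vset D true).card : ℤ) + 1 := by
    have h1 := (hS4 true).1
    have h2 := h5le true
    have : aN q r true = 4 * (Vset D true).card + 1 := by omega
    exact_mod_cast this
  have hdiffZ : (aN q r false : ℤ) = (aN q r true : ℤ) + 2 * (r : ℤ) := by exact_mod_cast hdiff
  by_cases hex : ∃ v ∈ Vall D, pt v = χ
  · -- `χ` is a petal
    obtain ⟨v0, hv0, hpt⟩ := hex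
    obtain ⟨hsg, hR0, hv0pt, _⟩ := hV v0 hv0
    rw [hpt] at hR0 hv0pt
    have hother : ∀ v ∈ Vall D, v ≠ v0 → v χ = 0 := by
      intro v hv hne
      have hne' : χ ≠ pt v := by
        intro h
        apply hne
        exact hinj v hv v0 hv0 (by rw [← h, hpt])
      rw [(hV v hv).2.2.2 χ hne', hR0]
    have hv0mem : v0 ∈ Vset D false ∨ v0 ∈ Vset D true := (h10_szcS7_mem_Vall D v0).1 hv0
    have hdisj := (hS4 true).2.1
    rcases hv0mem with hmem | hmem
    · right; left
      have hSf : ∑ v ∈ Vset D false, v χ = sg v0 := by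
        rw [Finset.sum_eq_single v0 (fun v hv hne => hother v (hmemV false v hv) hne)
          (fun h => absurd hmem h), hv0pt]
      have hSt : ∑ v ∈ Vset D true, v χ = 0 := by
        apply Finset.sum_eq_zero
        intro v hv
        apply hother v (hmemV true v hv)
        intro h
        rw [h] at hv
        exact (Finset.disjoint_left.1 hdisj hmem) hv
      rw [hSf, hSt, mul_zero, sub_zero] at key
      have hat0 : (0 : ℤ) < (aN q r true : ℤ) := by rw [hat]; positivity
      have hnZ : (0 : ℤ) < (n : ℤ) := by exact_mod_cast hn0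
      rcases hsg with h | h
      · rw [h, mul_one] at key
        refine ⟨hR0, ⟨v0, hmem, hpt⟩, ?_⟩
        rw [hn]
        have : n = (q - 1) * aN q r true := by exact_mod_cast key
        rw [this]
      · exfalso
        rw [h] at key
        have : (0 : ℤ) < ((q - 1 : ℕ) : ℤ) * (aN q r true : ℤ) := mul_pos hq1 hat0
        linarith
    · right; right
      have hSt : ∑ v ∈ Vset D true, v χ = sg v0 := by
        rw [Finset.sum_eq_single v0 (fun v hv hne => hother v (hmemV true v hv) hne)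
          (fun h => absurd hmem h), hv0pt]
      have hSf : ∑ v ∈ Vset D false, v χ = 0 := by
        apply Finset.sum_eq_zero
        intro v hv
        apply hother v (hmemV false v hv)
        intro h
        rw [h] at hv
        exact (Finset.disjoint_left.1 hdisj hv) hmem
      rw [hSf, hSt, mul_zero, zero_sub] at key
      have haf0 : (0 : ℤ) < (aN q r false : ℤ) := by rw [haf]; positivity
      have hnZ : (0 : ℤ) < (n : ℤ) := by exact_mod_cast hn0
      rcases hsg with h | h
      · exfalso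
        rw [h, mul_one] at key
        have : (0 : ℤ) < ((q - 1 : ℕ) : ℤ) * (aN q r false : ℤ) := mul_pos hq1 haf0
        linarith
      · rw [h] at key
        refine ⟨hR0, ⟨v0, hmem, hpt⟩, ?_⟩
        rw [hn]
        have : (n : ℤ) = (((q - 1) * aN q r false : ℕ) : ℤ) := by
          push_cast
          linarith
        have : n = (q - 1) * aN q r false := by exact_mod_cast this
        rw [this]
  · -- `χ` is in the core
    left
    push Not at hex
    have hall : ∀ (i : Bool), ∀ v ∈ Vset D i, v χ = R χ := by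
      intro i v hv
      have hvV := hmemV i v hv
      exact (hV v hvV).2.2.2 χ (Ne.symm (hex v hvV))
    have hSf : ∑ v ∈ Vset D false, v χ = ((Vset D false).card : ℤ) * R χ := by
      rw [Finset.sum_congr rfl (hall false), Finset.sum_const, nsmul_eq_mul]
    have hSt : ∑ v ∈ Vset D true, v χ = ((Vset D true).card : ℤ) * R χ := by
      rw [Finset.sum_congr rfl (hall true), Finset.sum_const, nsmul_eq_mul]
    rw [hSf, hSt] at key
    -- `2 n = (q - 1) * R χ * r`
    have key2 : 2 * (n : ℤ) = ((q - 1 : ℕ) : ℤ) * (R χ * (r : ℤ)) := by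
      have e1 : 4 * ((Vset D false).card : ℤ) = (aN q r false : ℤ) - 1 := by linarith
      have e2 : 4 * ((Vset D true).card : ℤ) = (aN q r true : ℤ) - 1 := by linarith
      have : 4 * (n : ℤ) = ((q - 1 : ℕ) : ℤ) * (R χ * ((aN q r true : ℤ) *
          (4 * ((Vset D false).card : ℤ)) - (aN q r false : ℤ) * (4 * ((Vset D true).card : ℤ)))) := by
        rw [key]; ring
      rw [e1, e2, hdiffZ] at this
      have h3 : 4 * (n : ℤ) = ((q - 1 : ℕ) : ℤ) * (R χ * (2 * (r : ℤ))) := by
        rw [this]; ring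
      linarith
    have hnZ : (0 : ℤ) < (n : ℤ) := by exact_mod_cast hn0
    have hrZ : (0 : ℤ) < (r : ℤ) := by
      have : 0 < r := by omega
      exact_mod_cast this
    have hR1 : R χ = 1 := by
      rcases hRent with h | h | h
      · exfalso
        rw [h] at key2
        simp at key2
        omega
      · exact h
      · exfalso
        rw [h] at key2
        have : (0 : ℤ) < ((q - 1 : ℕ) : ℤ) * (r : ℤ) := mul_pos hq1 hrZ
        linarith
    refine ⟨hR1, hex, ?_⟩
    rw [hn]
    obtain ⟨s, hs⟩ := hre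
    have hs2 : r / 2 = s := by omega
    rw [hs2]
    rw [hR1, one_mul, hs] at key2
    have : (n : ℤ) = (((q - 1) * s : ℕ) : ℤ) := by
      push_cast
      push_cast at key2
      linarith
    have : n = (q - 1) * s := by exact_mod_cast this
    rw [this]

end

end Cfsg.Agent.Lib.Helper10.SZC
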