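import Cfsg.Agent.Lib.Helper10.SZC.Defs
import Cfsg.Agent.Lib.helper2.CharInt

/-!
# SZC row S9 (core): the exceptional shape `Shape2` does not occur
-/

set_option autoImplicit false
open scoped ComplexConjugate

namespace Cfsg.Agent.Lib.Helper10.SZC

section
variable {G : Type*} [Group G] [Fintype G] {q r : ℕ}

/-- the degree of an irreducible character is a natural number dividing the group order -/
theorem h10_szcS9_deg_dvd (χ : Cfsg.IrrCharacter G) :
    ∃ n : ℕ, (χ : G → ℂ) 1 = (n : ℂ) ∧ n ∣ Nat.card G := by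
  obtain ⟨n, ρ, hρ, hχ⟩ := χ.2
  have := hρ
  refine ⟨Module.finrank ℂ (Fin n → ℂ), ?_, Cfsg.Agent.Lib.helper2.degree_dvd_card ρ⟩
  rw [← hχ, Representation.char_one]

/-- core of S9 -/
theorem h10_szcS9_core [Fintype (Cfsg.IrrCharacter G)] (D : SzcData G q r)
    (hF3 : ∀ χ : Cfsg.IrrCharacter G, Cusp D.Q (χ : G → ℂ) →
      4 * (χ : G → ℂ) 1 = ((q - 1 : ℕ) : ℂ) *
        ((aN q r true : ℂ) * sumNI (D.A false) (χ : G → ℂ) +
         (aN q r false : ℂ) * sumNI (D.A true) (χ : G → ℂ)))
    (hS6 : ∀ (i : Bool) (χ : Cfsg.IrrCharacter G), Cusp D.Q (χ : G → ℂ) →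
      sumNI (D.A i) (χ : G → ℂ) = ((sgn i * 4 * ∑ v ∈ Vset D i, v χ : ℤ) : ℂ))
    (hS4 : ∀ i : Bool, 4 * (Vset D i).card = aN q r i - 1 ∧
      Disjoint (Vset D false) (Vset D true) ∧ (Vall D).card = q / 2)
    (hS5 : ∀ v ∈ Vall D, ∀ χ : Cfsg.IrrCharacter G, v χ ≠ 0 → Cusp D.Q (χ : G → ℂ))
    (h4 : (Vall D).card = 4) : ¬ Shape2 (Vall D) := by
  classical
  rintro ⟨x, e, vv, hx, he, hvv, hmem, hzero, hval, hoff⟩
  have hq8 : q = 8 := by
    have h1 := (hS4 true).2.2
    rw [h4] at h1
    have hr := D.hr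
    have hq := D.hq
    have h89 : q = 8 ∨ q = 9 := by omega
    rcases h89 with h | h
    · exact h
    · exfalso
      rw [h] at hr
      have h5 : r < 5 := by nlinarith
      interval_cases r <;> omega
  have hr4 : r = 4 := by
    have hr := D.hr
    rw [hq8] at hr
    have h5 : r < 5 := by nlinarith
    have h3 : 3 < r := by nlinarith
    omega
  subst hq8
  subst hr4
  have haf : aN 8 4 false = 13 := by simp [aN]
  have hat : aN 8 4 true = 5 := by simp [aN]
  have hcf : (Vset D false).card = 3 := by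
    have := (hS4 false).1
    rw [haf] at this
    omega
  have hct : (Vset D true).card = 1 := by
    have := (hS4 true).1
    rw [hat] at this
    omega
  obtain ⟨w, hw⟩ := Finset.card_eq_one.1 hct
  have hwV : w ∈ Vall D := by
    unfold Vall
    rw [hw]
    simp
  obtain ⟨k0, hk0⟩ := (hmem w).1 hwV
  set χ := x k0 with hχdef
  have hsumAll : ∑ v ∈ Vall D, v χ = ∑ k : Fin 4, vv k χ := by
    have hVimg : Vall D = Finset.univ.image vv := by
      ext v
      rw [hmem v]
      simp [eq_comm]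
    rw [hVimg, Finset.sum_image (fun a _ b _ h => hvv h)]
  have hterm : ∀ k : Fin 4, vv k χ = e k0 - (if k = k0 then e k0 else 0) := by
    intro k
    by_cases h : k = k0
    · rw [if_pos h, h, sub_self]
      exact hzero k0
    · rw [if_neg h, sub_zero]
      exact hval k k0 (Ne.symm h)
  have hsum4 : ∑ k : Fin 4, vv k χ = 3 * e k0 := by
    simp only [hterm, Finset.sum_sub_distrib, Finset.sum_const, Finset.card_univ, Fintype.card_fin,
      Finset.sum_ite_eq', Finset.mem_univ, if_true]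
    simp only [nsmul_eq_mul]
    push_cast
    ring
  have hsplit : ∑ v ∈ Vall D, v χ = ∑ v ∈ Vset D false, v χ + ∑ v ∈ Vset D true, v χ := by
    unfold Vall
    convert Finset.sum_union (hS4 true).2.1
  have hst : ∑ v ∈ Vset D true, v χ = 0 := by
    rw [hw, Finset.sum_singleton, hk0]
    exact hzero k0
  have hsf : ∑ v ∈ Vset D false, v χ = 3 * e k0 := by
    rw [hsumAll, hsum4, hst, add_zero] at hsplit
    exact hsplit.symm
  -- `χ` is cuspidal
  have hek0 : e k0 ≠ 0 := by
    rcases he k0 with h | h <;> rw [h] <;> norm_num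
  have hcusp : Cusp D.Q (χ : G → ℂ) := by
    have hk1 : k0 + 1 ≠ k0 := by
      intro h
      have := congrArg Fin.val h
      fin_cases k0 <;> simp at this
    have hv1 : vv (k0 + 1) ∈ Vall D := (hmem _).2 ⟨k0 + 1, rfl⟩
    apply hS5 _ hv1 χ
    rw [hval (k0 + 1) k0 (Ne.symm hk1)]
    exact hek0
  have hdeg := hF3 χ hcusp
  rw [hS6 false χ hcusp, hS6 true χ hcusp, hsf, hst, haf, hat] at hdeg
  obtain ⟨n, hn1, hn2⟩ := h10_szcS9_deg_dvd χ
  rw [hn1] at hdeg
  have hdegZ : (4 * (n : ℤ)) = 7 * (5 * (sgn false * 4 * (3 * e k0)) + 13 * (sgn true * 4 * 0)) := by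
    have h7 : ((8 - 1 : ℕ) : ℂ) = 7 := by norm_num
    rw [h7] at hdeg
    have : ((4 * (n : ℤ) : ℤ) : ℂ) =
        ((7 * (5 * (sgn false * 4 * (3 * e k0)) + 13 * (sgn true * 4 * 0)) : ℤ) : ℂ) := by
      push_cast
      push_cast at hdeg
      linear_combination hdeg
    exact_mod_cast this
  have hcard : Nat.card G = 29120 := by
    rw [D.card_G]
    norm_num
  rw [hcard] at hn2
  simp only [sgn] at hdegZ
  rcases he k0 with h | h
  · rw [h] at hdegZ
    have hn : n = 105 := by
      have : (n : ℤ) = 105 := by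
        norm_num at hdegZ
        omega
      exact_mod_cast this
    rw [hn] at hn2
    norm_num at hn2
  · rw [h] at hdegZ
    norm_num at hdegZ
    omega

end

end Cfsg.Agent.Lib.Helper10.SZC
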