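import Cfsg.Agent.Lib.Helper10.PPairF
import Cfsg.Agent.S1370
import Cfsg.Agent.S1366
import Cfsg.Agent.S1365
import Cfsg.Agent.S1354

/-!
# Section 16 assembly, part A: the self-normalizing cyclic pair `K, K*`
-/

set_option autoImplicit false
open Cfsg

namespace Cfsg.Agent.Lib.Helper10.Sec16

variable {G : Type*} [Group G] [Finite G]

/-- the partner pair attached to a `σ`-decomposition with `K ≠ 1` -/
theorem exists_pair (hG : Cfsg.IsMinSimpleOddOrder G) {M K U : Subgroup G} (hM : IsCoatom M)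
    (hKU : Cfsg.IsSigmaDecomposition M K U) (hK1 : K ≠ ⊥) :
    ∃ Ms : Subgroup G, Cfsg.Agent.Lib.Helper10.PPair.Pair M Ms K := by
  obtain ⟨Ms, ⟨hMs, hKst, hKstH⟩, -⟩ := Cfsg.Agent.S1366.result hG M hM K U hKU hK1
  exact ⟨Ms, ⟨hG, hM, hMs, hKU.hall, hK1, hKst, hKstH⟩⟩

/-- `K ∩ M_σ = 1` -/
theorem K_inf_sigma (hG : Cfsg.IsMinSimpleOddOrder G) {M K : Subgroup G} (hM : IsCoatom M)
    (hK : Cfsg.IsPiHallOf (Cfsg.kappa M) K M) : K ⊓ Cfsg.sigmaCore M = ⊥ :=
  disjoint_iff.mp (Subgroup.disjoint_of_coprime_natCard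
    (Cfsg.Agent.Lib.Helper13.BG14.bg14_coprime_K_sigma hG hM hK))

/-- `K, K*` is a self-normalizing cyclic pair -/
theorem selfNormalizing (hG : Cfsg.IsMinSimpleOddOrder G) {M K U : Subgroup G} (hM : IsCoatom M)
    (hKU : Cfsg.IsSigmaDecomposition M K U) (hK1 : K ≠ ⊥) :
    Cfsg.IsSelfNormalizingCyclic K (Cfsg.sigmaCore M ⊓ Subgroup.centralizer (K : Set G)) := by
  obtain ⟨Ms, c⟩ := exists_pair hG hM hKU hK1
  obtain ⟨hTI, hN⟩ := Cfsg.Agent.S1370.result hG M hM K U hKU hK1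
  refine ⟨hK1, c.hKs1, ?_, ?_, c.z_cyclic, ?_⟩
  · rw [eq_bot_iff, ← K_inf_sigma hG hM hKU.hall]
    exact inf_le_inf_left _ inf_le_left
  · intro a ha b hb
    exact (Subgroup.mem_centralizer_iff.mp hb.2 a ha)
  · intro X hX hXne
    haveI := c.z_cyclic
    apply le_antisymm
    · intro g hg
      obtain ⟨x, hx⟩ := hXne
      have hgx : g * x * g⁻¹ ∈ X := (Subgroup.mem_set_normalizer_iff.mp hg x).mp hx
      by_contra hgZ
      rw [← hN] at hgZ
      have h1 := hTI g hgZ x (hX hx) (hX hgx)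
      have hx' := (hX hx).2
      rw [h1] at hx'
      exact hx' (Or.inl K.one_mem)
    · intro z hz
      rw [Subgroup.mem_set_normalizer_iff]
      intro n
      have hcomm : ∀ y ∈ K ⊔ (Cfsg.sigmaCore M ⊓ Subgroup.centralizer (K : Set G)),
          z * y * z⁻¹ = y := by
        intro y hy
        have h := (IsCyclic.commutative (α := ↥(K ⊔ (Cfsg.sigmaCore M ⊓ Subgroup.centralizer (K : Set G))))).is_comm.comm
          (⟨z, hz⟩ : ↥(K ⊔ (Cfsg.sigmaCore M ⊓ Subgroup.centralizer (K : Set G)))) ⟨y, hy⟩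
        have h' : z * y = y * z := by
          have := congrArg Subtype.val h
          rwa [Subgroup.coe_mul, Subgroup.coe_mul] at this
        rw [h', mul_inv_cancel_right]
      constructor
      · intro hn
        rw [hcomm n (hX hn).1]; exact hn
      · intro hn
        have hzn : z * n * z⁻¹ ∈ K ⊔ (Cfsg.sigmaCore M ⊓ Subgroup.centralizer (K : Set G)) := (hX hn).1
        have hn' : n ∈ K ⊔ (Cfsg.sigmaCore M ⊓ Subgroup.centralizer (K : Set G)) := by
          have := Subgroup.mul_mem _ (Subgroup.mul_mem _ (Subgroup.inv_mem _ hz) hzn) hz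
          have e : z⁻¹ * (z * n * z⁻¹) * z = n := by group
          rwa [e] at this
        rw [hcomm n hn'] at hn; exact hn

end Cfsg.Agent.Lib.Helper10.Sec16
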