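import Cfsg.Agent.Lib.Helper10.Sec16D

/-!
# Section 16 assembly, part E: "only if" directions
-/

set_option autoImplicit false
open Cfsg

namespace Cfsg.Agent.Lib.Helper10.Sec16

variable {G : Type*} [Group G] [Finite G]

/-- **Type V**, the "only if" direction -/
theorem of_typeV (hG : Cfsg.IsMinSimpleOddOrder G) {M K U : Subgroup G} (hM : IsCoatom M)
    (hKU : Cfsg.IsSigmaDecomposition M K U) (hV : Cfsg.IsOfTypeV M) :
    K ≠ ⊥ ∧ U = ⊥ ∧ Cfsg.fittingHallOf M = Cfsg.sigmaCore M := by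
  obtain ⟨W₁, U', W₂, hP, hU', -⟩ := hV
  have hK1 := K_ne_bot_of_typeP hG hM hKU hP
  have hder := (Cfsg.Agent.S1365.result hG M hM K U hKU hK1).1
  have hFσ := Cfsg.Agent.Lib.Helper13.BG14.bg14_fittingHallOf_le_sigmaCore hG hM
  have hFder : Cfsg.fittingHallOf M = ⁅M, M⁆ := by
    have := Cfsg.Agent.Lib.Helper10.isComplIn_sup hP.U_compl
    rwa [hU', sup_bot_eq] at this
  have hUσ : U ≤ Cfsg.sigmaCore M := by
    have : U ≤ ⁅M, M⁆ := by rw [hder]; exact le_sup_left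
    rw [← hFder] at this
    exact this.trans hFσ
  have hU : U = ⊥ := by
    rw [eq_bot_iff, ← U_inf_sigma hKU]
    exact le_inf le_rfl hUσ
  refine ⟨hK1, hU, le_antisymm hFσ ?_⟩
  rw [hFder, hder]; exact le_sup_right

end Cfsg.Agent.Lib.Helper10.Sec16
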