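import Cfsg.Agent.Lib.Helper10.Sec16E
import Cfsg.Agent.Lib.Helper10.NilHall

/-!
# Section 16 assembly, part F: normalizers of nilpotent Hall `σ(M)`-subgroups
-/

set_option autoImplicit false
open Cfsg

namespace Cfsg.Agent.Lib.Helper10.Sec16

open Cfsg.Agent.Lib.Helper18

variable {G : Type*} [Group G] [Finite G]

/-- for `p ∈ σ(M)` every Sylow `p`-subgroup of `M` has its normalizer in `M` -/
theorem normalizer_le_of_sylow_sigma {M S : Subgroup G} {p : ℕ} [Fact p.Prime]
    (hpσ : p ∈ Cfsg.sigma M) (hS : IsSylowIn p S M) : Subgroup.normalizer (S : Set G) ≤ M := by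
  obtain ⟨-, -, P, hPN⟩ := hpσ
  have hP := isSylowIn_of_sylow P
  obtain ⟨m, hm, hle⟩ := hP.exists_conj_le hS.le hS.isPGroup
  have heq : conjSub m S = (P : Subgroup ↥M).map M.subtype := by
    apply Subgroup.eq_of_le_of_card_ge hle
    rw [card_conjSub, hP.card_eq hS]
  intro n hn
  have h1 : m * n * m⁻¹ ∈ Subgroup.normalizer (((P : Subgroup ↥M).map M.subtype : Subgroup G) : Set G) := by
    rw [← heq]
    apply mem_normalizer_of_conjSub_le
    rw [conjSub_mul]
    have e : m * n * m⁻¹ * m = m * n := by group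
    rw [e, ← conjSub_mul, conjSub_eq_of_mem_normalizer hn]
  have h2 := hPN h1
  have e : n = m⁻¹ * (m * n * m⁻¹) * m := by group
  rw [e]
  exact M.mul_mem (M.mul_mem (M.inv_mem hm) h2) hm

/-- a nontrivial nilpotent Hall subgroup of `M` at primes of `σ(M)` has its normalizer in `M` -/
theorem normalizer_le_of_nilpotent_hall {M H : Subgroup G} (hHM : H ≤ M)
    (hHn : Group.IsNilpotent H) (hHall : (Nat.card H).Coprime (H.relIndex M)) (hH1 : H ≠ ⊥)
    (hσ : ∀ p : ℕ, p.Prime → p ∣ Nat.card H → p ∈ Cfsg.sigma M) :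
    Subgroup.normalizer (H : Set G) ≤ M := by
  have hc1 : Nat.card H ≠ 1 := fun h => hH1 (Subgroup.card_eq_one.mp h)
  obtain ⟨p, hp, hpH⟩ := Nat.exists_prime_and_dvd hc1
  haveI : Fact p.Prime := ⟨hp⟩
  obtain ⟨S₀⟩ : Nonempty (Sylow p ↥H) := inferInstance
  haveI : (S₀ : Subgroup ↥H).Normal :=
    Sylow.normal_of_normalizerCondition Group.normalizerCondition_of_isNilpotent S₀
  have hSH := isSylowIn_of_sylow S₀
  have hHS : H ≤ Subgroup.normalizer (((S₀ : Subgroup ↥H).map H.subtype : Subgroup G) : Set G) :=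
    Cfsg.Agent.Lib.Helper1.BG12.map_normal_le_normalizer H (S₀ : Subgroup ↥H)
  have hSM : IsSylowIn p ((S₀ : Subgroup ↥H).map H.subtype) M := by
    refine ⟨hSH.le.trans hHM, hSH.isPGroup, ?_⟩
    rw [← Subgroup.relIndex_mul_relIndex _ H M hSH.le hHM]
    intro hd
    rcases (Nat.Prime.dvd_mul hp).mp hd with h | h
    · exact hSH.not_dvd h
    · exact hp.one_lt.ne' (Nat.eq_one_of_dvd_coprimes hHall hpH h)
  have hNS := normalizer_le_of_sylow_sigma (hσ p hp hpH) hSM
  intro n hn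
  apply hNS
  have hconj : conjSub n ((S₀ : Subgroup ↥H).map H.subtype) ≤ H := by
    intro y hy
    rw [mem_conjSub] at hy
    have h1 : n⁻¹ * y * n ∈ H := hSH.le hy
    have h2 := (Subgroup.mem_normalizer_iff.mp hn (n⁻¹ * y * n)).mp h1
    have e : n * (n⁻¹ * y * n) * n⁻¹ = y := by group
    rwa [e] at h2
  obtain ⟨h, hh, hle⟩ := hSH.exists_conj_le hconj (conjSub_isPGroup hSH.isPGroup)
  have hhn := hHS hh
  have h3 : conjSub n ((S₀ : Subgroup ↥H).map H.subtype) ≤ (S₀ : Subgroup ↥H).map H.subtype := by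
    have h4 := conjSub_mono (g := h⁻¹) hle
    rw [conjSub_mul, inv_mul_cancel, conjSub_one] at h4
    rw [conjSub_eq_of_mem_normalizer (Subgroup.inv_mem _ hhn)] at h4
    exact h4
  exact mem_normalizer_of_conjSub_le h3

end Cfsg.Agent.Lib.Helper10.Sec16
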