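import Cfsg.Agent.Lib.Helper10.Sec16F
import Cfsg.Agent.Lib.Lead.Coprime
import Cfsg.Agent.Lib.Helper21.ZGD
import Cfsg.Agent.S1372

/-!
# Section 16 assembly, part G: "only if" directions for Types II, III, IV
-/

set_option autoImplicit false
open Cfsg

namespace Cfsg.Agent.Lib.Helper10.Sec16

open Cfsg.Agent.Lib.Helper18 Cfsg.Agent.Lib.Helper10

variable {G : Type*} [Group G] [Finite G]

/-- `|H| · |K : H| = |K|` -/
theorem card_mul_relIndex' {H K : Subgroup G} (h : H ≤ K) :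
    Nat.card ↥H * H.relIndex K = Nat.card ↥K := by
  have := Subgroup.relIndex_mul_relIndex ⊥ H K bot_le h
  rwa [Subgroup.relIndex_bot_left, Subgroup.relIndex_bot_left] at this

/-- the complement `U'` of type `P` data is a Hall subgroup of `M` -/
theorem typeP_U_hall {M W₁ U' W₂ : Subgroup G} (hP : Cfsg.IsTypePWith M W₁ U' W₂) :
    (Nat.card U').Coprime (U'.relIndex M) := by
  have hU'd : U' ≤ ⁅M, M⁆ := hP.U_compl.2.1
  have hdM : ⁅M, M⁆ ≤ M := Subgroup.commutator_le_self M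
  have h1 : U'.relIndex ⁅M, M⁆ = Nat.card (Cfsg.fittingHallOf M) := by
    have h := card_mul_relIndex' hU'd
    rw [typeP_card_derived hP, mul_comm] at h
    exact Nat.eq_of_mul_eq_mul_right Nat.card_pos h
  have h2 : (⁅M, M⁆ : Subgroup G).relIndex M = Nat.card W₁ := by
    have h := card_mul_relIndex' hdM
    rw [Cfsg.Agent.Lib.Helper1.BG15.card_of_isComplIn hP.W₁_compl] at h
    exact Nat.eq_of_mul_eq_mul_left Nat.card_pos h
  have h3 : (Nat.card W₁).Coprime (Nat.card ↥⁅M, M⁆) := by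
    have h := card_mul_relIndex' hP.W₁_compl.2.1
    rw [Cfsg.Agent.Lib.Helper1.BG15.card_of_isComplIn hP.W₁_compl, mul_comm] at h
    have := Nat.eq_of_mul_eq_mul_right Nat.card_pos h
    rw [← this]; exact hP.W₁_hall
  rw [← Subgroup.relIndex_mul_relIndex _ _ _ hU'd hdM, h1, h2]
  apply Nat.Coprime.mul_right (typeP_coprime_U_H hP)
  exact (Nat.Coprime.coprime_dvd_right (Subgroup.card_dvd_of_le hU'd) h3).symm

/-- normalizers and conjugation by an element of `M` -/
theorem normalizer_le_of_conj {M X : Subgroup G} {k : G} (hk : k ∈ M)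
    (h : Subgroup.normalizer ((conjSub k X : Subgroup G) : Set G) ≤ M) :
    Subgroup.normalizer (X : Set G) ≤ M := by
  intro n hn
  have h1 : k * n * k⁻¹ ∈ Subgroup.normalizer ((conjSub k X : Subgroup G) : Set G) := by
    apply mem_normalizer_of_conjSub_le
    rw [conjSub_mul]
    have e : k * n * k⁻¹ * k = k * n := by group
    rw [e, ← conjSub_mul, conjSub_eq_of_mem_normalizer hn]
  have h2 := h h1
  have e : n = k⁻¹ * (k * n * k⁻¹) * k := by group
  rw [e]
  exact M.mul_mem (M.mul_mem (M.inv_mem hk) h2) hk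

/-- a type `P` complement `U' ≠ 1` inside `M_σ` has its normalizer in `M` -/
theorem typeP_normalizer_le (hG : Cfsg.IsMinSimpleOddOrder G) {M W₁ U' W₂ : Subgroup G}
    (hM : IsCoatom M) (hP : Cfsg.IsTypePWith M W₁ U' W₂) (hU'1 : U' ≠ ⊥)
    (hU'σ : U' ≤ Cfsg.sigmaCore M) : Subgroup.normalizer (U' : Set G) ≤ M := by
  apply normalizer_le_of_nilpotent_hall (typeP_U_le hP) hP.U_nilpotent (typeP_U_hall hP) hU'1
  intro p hp hpd
  exact Cfsg.Agent.Lib.Helper28.BGt.prime_sigmaCore hG hM hp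
    (hpd.trans (Subgroup.card_dvd_of_le hU'σ))

/-- **Type II**, the "only if" direction -/
theorem of_typeII (hG : Cfsg.IsMinSimpleOddOrder G) {M K U : Subgroup G} (hM : IsCoatom M)
    (hKU : Cfsg.IsSigmaDecomposition M K U) (hII : Cfsg.IsOfTypeII M) : K ≠ ⊥ ∧ U ≠ ⊥ := by
  obtain ⟨W₁, U', W₂, hP, hU'1, -, -, -, hNU', -, -⟩ := hII
  have hK1 := K_ne_bot_of_typeP hG hM hKU hP
  refine ⟨hK1, ?_⟩
  intro hU
  have hder : ⁅M, M⁆ = Cfsg.sigmaCore M := by
    rw [(Cfsg.Agent.S1365.result hG M hM K U hKU hK1).1, hU, bot_sup_eq]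
  apply hNU'
  apply typeP_normalizer_le hG hM hP hU'1
  rw [← hder]; exact hP.U_compl.2.1

/-- **Types III and IV**, the "only if" direction; `hNU` is the second clause of S1363 -/
theorem of_typeIII_IV (hG : Cfsg.IsMinSimpleOddOrder G) {M K U : Subgroup G} (hM : IsCoatom M)
    (hKU : Cfsg.IsSigmaDecomposition M K U)
    (hNU : K ≠ ⊥ → ¬ Subgroup.normalizer (U : Set G) ≤ M)
    (h : Cfsg.IsOfTypeIII M ∨ Cfsg.IsOfTypeIV M) :
    K ≠ ⊥ ∧ U = ⊥ ∧ Cfsg.fittingHallOf M ≠ Cfsg.sigmaCore M := by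
  obtain ⟨W₁, U', W₂, hP, hU'1, hNU'⟩ :
      ∃ W₁ U' W₂ : Subgroup G, Cfsg.IsTypePWith M W₁ U' W₂ ∧ U' ≠ ⊥ ∧
        Subgroup.normalizer (U' : Set G) ≤ M := by
    rcases h with ⟨W₁, U', W₂, hP, hU'1, -, -, -, hN⟩ | ⟨W₁, U', W₂, hP, hU'1, -, -, -, hN⟩
    · exact ⟨W₁, U', W₂, hP, hU'1, hN⟩
    · exact ⟨W₁, U', W₂, hP, hU'1, hN⟩
  have hK1 := K_ne_bot_of_typeP hG hM hKU hP
  have hder := (Cfsg.Agent.S1365.result hG M hM K U hKU hK1).1
  have hσM := Cfsg.Agent.Lib.Helper28.BGt.sigmaCore_le M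
  have hU : U = ⊥ := by
    by_contra hU1
    obtain ⟨-, -, hσF⟩ := Cfsg.Agent.S1372.result hG M hM K U hKU hK1 hU1
    have hnil : Group.IsNilpotent (Cfsg.sigmaCore M) := by
      have hFn : Group.IsNilpotent (Cfsg.fittingOf M) := by
        unfold Cfsg.fittingOf
        haveI := Cfsg.Agent.Lib.Helper1.fittingSubgroup_nilpotent (G := ↥M)
        exact Group.nilpotent_of_mulEquiv
          (Subgroup.equivMapOfInjective _ M.subtype M.subtype_injective)
      exact Cfsg.Agent.Lib.Helper11.isNilpotent_of_le' hσF hFn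
    have hFσ := Cfsg.Agent.Lib.Helper13.BG14.bg14_sigmaCore_eq_fittingHallOf hG hM hnil
    -- `U` and `U'` are complements of `M_σ` in `M'`
    have hUN : U ≤ Subgroup.normalizer (Cfsg.sigmaCore M : Set G) :=
      hKU.compl.1.trans (Cfsg.Agent.Lib.Helper1.BG12.le_normalizer_sigmaCore M)
    have hc1 := card_U_sigma hKU
    have hc2 := typeP_card_derived hP
    rw [hder, hc1, ← hFσ, mul_comm] at hc2
    have hcard : Nat.card U' = Nat.card U :=
      (Nat.eq_of_mul_eq_mul_left Nat.card_pos hc2).symm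
    have hcop : (Nat.card U).Coprime (Nat.card (Cfsg.sigmaCore M)) := by
      rw [← hcard, hFσ]; exact typeP_coprime_U_H hP
    haveI hsolM : Group.IsSolvable ↥M := Cfsg.Agent.Lib.Helper11.MaxSubB.coatom_solvable hG M hM
    have hsolU : Group.IsSolvable ↥U :=
      solvable_of_solvable_injective (Subgroup.inclusion_injective hKU.compl.1)
    obtain ⟨k, hk, hkU⟩ := Cfsg.Agent.Lib.Lead.hall_conj U (Cfsg.sigmaCore M) hUN hcop
      (Or.inl hsolU) U' (by rw [← hder]; exact hP.U_compl.2.1) hcard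
    rw [Cfsg.Agent.Lib.Helper21.ZG.smul_eq_conjSub] at hkU
    have hkU : conjSub k U = U' := hkU
    apply hNU hK1
    apply normalizer_le_of_conj (hσM hk)
    rw [hkU]; exact hNU'
  refine ⟨hK1, hU, ?_⟩
  intro hF
  apply hU'1
  have hderF : ⁅M, M⁆ = Cfsg.fittingHallOf M := by rw [hder, hU, bot_sup_eq, hF]
  rw [eq_bot_iff, ← hP.U_compl.2.2.1]
  apply le_inf _ le_rfl
  rw [← hderF]; exact hP.U_compl.2.1

end Cfsg.Agent.Lib.Helper10.Sec16
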