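import Cfsg.Agent.Lib.Helper10.Sec16G

/-!
# Section 16 assembly, part H: a `K`-invariant complement of `M_F` in `M'`
-/

set_option autoImplicit false
open Cfsg

namespace Cfsg.Agent.Lib.Helper10.Sec16

open Cfsg.Agent.Lib.Helper18 Cfsg.Agent.Lib.Helper10 Cfsg.Agent.Lib.Helper21.ZG
  Cfsg.Agent.Lib.Helper21 Cfsg.Agent.Lib.Helper1 Cfsg.Agent.Lib.Lead Cfsg.Agent.Lib.Helper11
open scoped Pointwise

variable {G : Type*} [Group G] [Finite G]

/-- an invariant complement to a solvable normal Hall subgroup (helper21's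
`exists_invariant_complement`, without solvability of the ambient group) -/
theorem exists_invariant_complement' (V L R : Subgroup G) (hVs : Group.IsSolvable V)
    (hVL : V ≤ L) (hLV : L ≤ Subgroup.normalizer (V : Set G))
    (hRV : R ≤ Subgroup.normalizer (V : Set G)) (hRL : R ≤ Subgroup.normalizer (L : Set G))
    (hcop : (Nat.card V).Coprime (V.relIndex L)) (hcopR : (Nat.card R).Coprime (Nat.card V)) :
    ∃ D : Subgroup G, D ≤ L ∧ V ⊓ D = ⊥ ∧ V ⊔ D = L ∧ R ≤ Subgroup.normalizer (D : Set G) ∧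
      Nat.card D = V.relIndex L := by
  haveI hn : (V.subgroupOf L).Normal := Subgroup.normal_subgroupOf_of_le_normalizer hLV
  have hcardN : Nat.card ↥(V.subgroupOf L) = Nat.card V :=
    Nat.card_congr (Subgroup.subgroupOfEquivOfLe hVL).toEquiv
  have hN : (Nat.card ↥(V.subgroupOf L)).Coprime (V.subgroupOf L).index := by
    rw [hcardN]; exact hcop
  obtain ⟨D₀', hD₀'⟩ := Subgroup.exists_right_complement'_of_coprime hN
  obtain ⟨D₀, hD₀⟩ : ∃ D₀ : Subgroup G, D₀ = D₀'.map L.subtype := ⟨_, rfl⟩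
  have hD₀L : D₀ ≤ L := by rw [hD₀]; exact Subgroup.map_subtype_le D₀'
  have hcardD₀ : Nat.card D₀ = V.relIndex L := by
    rw [hD₀, Subgroup.card_map_of_injective L.subtype_injective, ← hD₀'.symm.index_eq_card]
    rfl
  have hcopD₀ : (Nat.card D₀).Coprime (Nat.card V) := by rw [hcardD₀]; exact hcop.symm
  have hD₀V : D₀ ≤ Subgroup.normalizer (V : Set G) := hD₀L.trans hLV
  have hsup₀ : D₀ ⊔ V = L := by
    have h1 := hD₀'.sup_eq_top
    have h2 := congrArg (Subgroup.map L.subtype) h1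
    rw [Subgroup.map_sup, ← hD₀, Subgroup.map_subgroupOf_eq_of_le hVL, ← MonoidHom.range_eq_map,
      Subgroup.range_subtype] at h2
    rw [sup_comm]; exact h2
  have horb : ∀ a ∈ R, ∃ k ∈ V, Helper11.conjSub a D₀ = Helper11.conjSub k D₀ := by
    intro a ha
    have hB : Helper11.conjSub a D₀ ≤ D₀ ⊔ V := by
      rw [hsup₀]
      calc Helper11.conjSub a D₀ ≤ Helper11.conjSub a L := Helper11.conjSub_mono hD₀L
        _ = L := Helper11.conjSub_eq_self_of_mem_normalizer (hRL ha)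
    obtain ⟨k, hk, hkB⟩ := Lead.hall_conj D₀ V hD₀V hcopD₀ (Or.inr hVs) (Helper11.conjSub a D₀) hB
      (Helper11.card_conjSub a D₀)
    exact ⟨k, hk, by rw [← hkB, smul_eq_conjSub]⟩
  obtain ⟨k, hk, hRD⟩ := Helper11.exists_invariant_conj R V hRV hcopR (Or.inr hVs) D₀ horb
  have hDL : Helper11.conjSub k D₀ ≤ L := by
    calc Helper11.conjSub k D₀ ≤ Helper11.conjSub k L := Helper11.conjSub_mono hD₀L
      _ = L := Helper11.conjSub_eq_self_of_mem_normalizer (Subgroup.le_normalizer (hVL hk))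
  have hcardD : Nat.card ↥(Helper11.conjSub k D₀) = V.relIndex L := by
    rw [Helper11.card_conjSub, hcardD₀]
  have hinf : V ⊓ Helper11.conjSub k D₀ = ⊥ := by
    rw [eq_bot_iff]
    intro x hx
    rw [Subgroup.mem_bot]
    exact Lead.inf_eq_bot_of_coprime' V (Helper11.conjSub k D₀) (by rw [hcardD]; exact hcop)
      (Subgroup.mem_inf.mp hx).1 (Subgroup.mem_inf.mp hx).2
  refine ⟨Helper11.conjSub k D₀, hDL, hinf, ?_, hRD, hcardD⟩
  apply Subgroup.eq_of_le_of_card_ge (sup_le hVL hDL)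
  rw [sup_comm, FrobFormula.card_sup_split (Helper11.conjSub k D₀) V (hDL.trans hLV)
    (by rw [inf_comm]; exact hinf), hcardD, ← hcardN, mul_comm]
  exact (Subgroup.card_mul_index (V.subgroupOf L)).ge

end Cfsg.Agent.Lib.Helper10.Sec16
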