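import Cfsg.Agent.Lib.Helper10.Sec16J
import Cfsg.Agent.Lib.Helper20.TypeF
import Cfsg.Agent.S1360

/-!
# Section 16 assembly, part K: `M'` of Frobenius type (Type II), Type V with the trichotomy as input
-/

set_option autoImplicit false
open Cfsg

namespace Cfsg.Agent.Lib.Helper10.Sec16

open Cfsg.Agent.Lib.Helper18 Cfsg.Agent.Lib.Helper10

variable {G : Type*} [Group G] [Finite G]

/-- for `K ≠ 1`, `U ≠ 1`: `M'` is of Frobenius type and `(M')_F = M_F` -/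
theorem typeF_derived (hG : Cfsg.IsMinSimpleOddOrder G) {M K U : Subgroup G} (hM : IsCoatom M)
    (hKU : Cfsg.IsSigmaDecomposition M K U) (hK1 : K ≠ ⊥) (hU1 : U ≠ ⊥)
    (hUab : IsMulCommutative U) :
    Cfsg.IsOfTypeF ↥⁅M, M⁆ ∧ Cfsg.fittingHallOf ⁅M, M⁆ = Cfsg.fittingHallOf M := by
  obtain ⟨-, -, hσF⟩ := Cfsg.Agent.S1372.result hG M hM K U hKU hK1 hU1
  have hFσ := sigmaCore_eq_of_le_fitting hG hM hσF
  have hder := (Cfsg.Agent.S1365.result hG M hM K U hKU hK1).1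
  have hdM : ⁅M, M⁆ ≤ M := Subgroup.commutator_le_self M
  have hUN : U ≤ Subgroup.normalizer (Cfsg.sigmaCore M : Set G) :=
    hKU.compl.1.trans (Cfsg.Agent.Lib.Helper1.BG12.le_normalizer_sigmaCore M)
  have hFd : Cfsg.fittingHallOf M ≤ ⁅M, M⁆ := by rw [← hFσ, hder]; exact le_sup_right
  -- `M'` is a normal Hall subgroup of `M`
  have hcK := compl_K hG hM hKU
  rw [← hder] at hcK
  have hHall : (Nat.card ↥⁅M, M⁆).Coprime ((⁅M, M⁆ : Subgroup G).relIndex M) := by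
    have h1 := card_mul_relIndex' hdM
    rw [Cfsg.Agent.Lib.Helper1.BG15.card_of_isComplIn hcK] at h1
    have h2 := Nat.eq_of_mul_eq_mul_left Nat.card_pos h1
    rw [h2]
    have h3 := card_mul_relIndex' hKU.hall.1
    rw [Cfsg.Agent.Lib.Helper1.BG15.card_of_isComplIn hcK, mul_comm] at h3
    have h4 := Nat.eq_of_mul_eq_mul_right Nat.card_pos h3
    rw [← h4]
    exact (K_hall_coprime hKU.hall).symm
  have hFeq := Cfsg.Agent.Lib.Helper20.TypeF.fittingHallOf_eq_of_normal_hall M ⁅M, M⁆ hdM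
    (le_normalizer_derived M) hHall hFd
  refine ⟨?_, hFeq⟩
  -- the complement
  have hc : Cfsg.IsComplIn (Cfsg.fittingHallOf ⁅M, M⁆) U ⁅M, M⁆ := by
    rw [hFeq, ← hFσ, hder]
    refine ⟨le_sup_right, le_sup_left, ?_, ?_⟩
    · rw [inf_comm]; exact U_inf_sigma hKU
    · intro m hm
      rw [sup_comm] at hm
      exact exists_mul_of_mem_sup _ _ hUN m hm
  obtain ⟨U₀, hU₀U, hexp, hU₀⟩ := Cfsg.Agent.S1360.result hG M hM K U hKU
  haveI hsolM : Group.IsSolvable ↥M := Cfsg.Agent.Lib.Helper11.MaxSubB.coatom_solvable hG M hM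
  have hKs1 := Cfsg.Agent.Lib.Helper13.BG14.bg14_kstar_ne_bot hG hM hKU.hall hK1
  apply Cfsg.Agent.Lib.Helper20.TypeF.isOfTypeF_of_subgroups ⁅M, M⁆ U U U₀
  · exact solvable_of_solvable_injective (Subgroup.inclusion_injective hdM)
  · exact Odd.of_dvd_nat hG.1 (Subgroup.card_subgroup_dvd_card _)
  · rw [hFeq, ← hFσ]
    intro h
    apply hKs1
    rw [eq_bot_iff, ← h]; exact inf_le_left
  · rw [hFeq, ← hFσ, hder]
    intro h
    apply hU1
    rw [eq_bot_iff, ← U_inf_sigma hKU]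
    apply le_inf le_rfl
    rw [h]; exact le_sup_left
  · exact hU1
  · exact hc
  · exact le_rfl
  · exact Subgroup.le_normalizer
  · exact hUab
  · intro x _ _
    exact inf_le_left
  · exact hU₀U
  · exact hexp
  · intro u hu hu1 x hx hux
    by_contra hx1
    apply hu1
    apply hU₀ u hu
    rw [hFeq, ← hFσ] at hx
    exact ⟨hKU.compl.1 (hU₀U hu), x, hx, hx1, hux⟩

/-- **Type V**, the "if" direction, with the trichotomy in final form as an input -/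
theorem typeV_of' (hG : Cfsg.IsMinSimpleOddOrder G) {M K U : Subgroup G} (hM : IsCoatom M)
    (hKU : Cfsg.IsSigmaDecomposition M K U) (hK1 : K ≠ ⊥) (hU : U = ⊥)
    (hF : Cfsg.fittingHallOf M = Cfsg.sigmaCore M)
    (h56 : ⁅⁅M, M⁆, ⁅M, M⁆⁆ ≤ Cfsg.fittingOf M ∧
      Cfsg.fittingOf M =
        (M ⊓ Subgroup.centralizer (Cfsg.fittingHallOf M : Set G)) ⊔ Cfsg.fittingHallOf M ∧
      ((Cfsg.kappa M).Nonempty → Cfsg.fittingOf M ≤ ⁅M, M⁆))
    (htri : ¬ Cfsg.IsTISubset (Cfsg.fittingHallOf M : Set G) →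
      (∃ p : ℕ, p.Prime ∧ p ∣ Nat.card (Cfsg.fittingHallOf M) ∧ Nat.card K ∣ p - 1 ∧
        IsCyclic (Cfsg.pPrimeCore p (Cfsg.fittingHallOf M))) ∨
      (∃ p : ℕ, p.Prime ∧ p ∣ Nat.card (Cfsg.fittingHallOf M) ∧
        Nat.card (Cfsg.pCore p (Cfsg.fittingHallOf M)) = p ^ 3 ∧ Nat.card K ∣ p + 1 ∧
        IsCyclic (Cfsg.pPrimeCore p (Cfsg.fittingHallOf M)))) :
    Cfsg.IsOfTypeV M := by
  have hder : ⁅M, M⁆ = Cfsg.sigmaCore M := by
    rw [(Cfsg.Agent.S1365.result hG M hM K U hKU hK1).1, hU, bot_sup_eq]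
  have hKsF : Cfsg.sigmaCore M ⊓ Subgroup.centralizer (K : Set G) ≤ Cfsg.fittingHallOf M := by
    rw [hF]; exact inf_le_left
  have hFnc := Cfsg.Agent.Lib.Helper10.KStarMF.fittingHall_not_cyclic hG hM hKU.hall hK1 hKsF
  have hcomplbot : Cfsg.IsComplIn (Cfsg.fittingHallOf M) ⊥ ⁅M, M⁆ := by
    rw [hder, hF]
    refine ⟨le_rfl, bot_le, inf_bot_eq _, ?_⟩
    intro m hm
    exact ⟨m, hm, 1, Subgroup.one_mem _, (mul_one m).symm⟩
  have hP : Cfsg.IsTypePWith M K ⊥ (Cfsg.sigmaCore M ⊓ Subgroup.centralizer (K : Set G)) :=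
    typeP_of_kappa hG hM hKU hK1 h56 hKsF hFnc
      (by haveI : Subsingleton (↥(⊥ : Subgroup G)) := inferInstance
          infer_instance)
      (by intro k _; rw [Subgroup.mem_normalizer_iff]; intro h; simp [Subgroup.mem_bot]) hcomplbot
  refine ⟨K, ⊥, _, hP, rfl, ?_⟩
  by_cases hTI : Cfsg.IsTISubset (Cfsg.fittingHallOf M : Set G)
  · exact Or.inl hTI
  · exact Or.inr (htri hTI)

end Cfsg.Agent.Lib.Helper10.Sec16
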