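import Mathlib
import Cfsg.Agent.Lib.Helper10.SigTrans

set_option autoImplicit false
set_option linter.unusedSectionVars false

namespace Cfsg.Agent.Lib.Helper10

open Cfsg Cfsg.Agent.Lib.Helper9

section Fam2

variable {G : Type*} [Group G] [Finite G] {p : ℕ} [hp : Fact p.Prime] {A : Subgroup G}
  {θ : G → Subgroup G}

theorem sylow_map_eq_of_le {H T : Subgroup G} {q : ℕ} [Fact q.Prime] (S : Sylow q ↥H)
    (hTH : T ≤ H) (hTq : IsPGroup q ↥T) (hST : (S : Subgroup ↥H).map H.subtype ≤ T) :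
    (S : Subgroup ↥H).map H.subtype = T := by
  have h1 : IsPGroup q ↥(T.subgroupOf H) := hTq.comap_subtype
  have h2 : (S : Subgroup ↥H) ≤ T.subgroupOf H := by
    intro s hs
    rw [Subgroup.mem_subgroupOf]
    exact hST ⟨s, hs, rfl⟩
  have h3 := S.is_maximal' h1 h2
  rw [← h3, Subgroup.subgroupOf_map_subtype, inf_eq_left.2 hTH]

theorem maxQ_inf_member (hA : IsElementaryAbelian p A) (hA3 : p ^ 3 ≤ Nat.card ↥A)
    (hθ : IsSolvableSignalizerFunctor p A θ) {q : ℕ} [Fact q.Prime] {Q : Subgroup G}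
    (hQ : IsMaxQ p A θ q Q) {H : Subgroup G} (hH : H ∈ signalizerFamily p A θ) :
    ∃ c ∈ signalizerInf A θ, ∃ S : Sylow q ↥H,
      (S : Subgroup ↥H).map H.subtype = cj c Q ⊓ H := by
  have hAH := fam_le_normalizer hH
  have hcop := coprime_card_of_not_dvd hA hH.2.1
  obtain ⟨S, hSA⟩ := Cfsg.Agent.S0023.result A H hAH hcop (Or.inr hH.1) q
  have hSF : (S : Subgroup ↥H).map H.subtype ∈ signalizerFamily p A θ :=
    fam_of_le hH (Subgroup.map_subtype_le _) hSA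
  have hSq : IsPGroup q ↥((S : Subgroup ↥H).map H.subtype) := S.2.map H.subtype
  obtain ⟨R, hSR, hR⟩ := exists_isMaxQ hSF hSq
  obtain ⟨c, hc, hcQ⟩ := transitivity hA hA3 hθ hQ hR
  refine ⟨c, hc, S, ?_⟩
  apply sylow_map_eq_of_le S inf_le_right
  · exact (isPGroup_cj hQ.2.1 c).to_le inf_le_left
  · rw [hcQ]
    exact le_inf hSR (Subgroup.map_subtype_le _)

theorem signalizerInf_mem_fam (hθ : IsSolvableSignalizerFunctor p A θ) {B : Subgroup G}
    (hBA : B ≤ A) (hB : B ≠ ⊥) : signalizerInf B θ ∈ signalizerFamily p A θ := by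
  obtain ⟨⟨hθ1, hθ2, hθ3, hθ4⟩, hθs⟩ := hθ
  obtain ⟨b, hb1⟩ := (Subgroup.ne_bot_iff_exists_ne_one).1 hB
  have hbB : (b : G) ∈ B := b.2
  have hb1' : (b : G) ≠ 1 := fun h => hb1 (Subtype.ext h)
  have hle : signalizerInf B θ ≤ θ (b : G) := signalizerInf_le_of_mem hbB hb1'
  refine ⟨?_, ?_, ?_, ?_⟩
  · have := hθs b (hBA hbB) hb1'
    exact Group.isSolvable_of_isSolvable_injective (f := Subgroup.inclusion hle)
      (Subgroup.inclusion_injective hle)
  · intro h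
    exact hθ2 b (hBA hbB) hb1' (h.trans (Subgroup.card_dvd_of_le hle))
  · intro a ha u hu
    rw [mem_signalizerInf_iff] at hu ⊢
    intro b' hb' hb'1
    exact hθ3 b' (hBA hb') hb'1 a ha u (hu b' hb' hb'1)
  · intro a ha ha1 x hx
    have hx1 : x ∈ signalizerInf B θ := hx.1
    have hx2 : x ∈ Subgroup.centralizer ({a} : Set G) := hx.2
    exact hθ4 b (hBA hbB) hb1' a ha ha1 ⟨hle hx1, hx2⟩

theorem signalizerInf_mono {B : Subgroup G} (hBA : B ≤ A) :
    signalizerInf A θ ≤ signalizerInf B θ := by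
  intro x hx
  rw [mem_signalizerInf_iff] at hx ⊢
  intro b hb hb1
  exact hx b (hBA hb) hb1

theorem inf_signalizerInf_eq (hθ : IsSignalizerFunctor p A θ) {Q : Subgroup G}
    (hQ : Q ∈ signalizerFamily p A θ) {B : Subgroup G} (hBA : B ≤ A) :
    Q ⊓ signalizerInf B θ = Q ⊓ Subgroup.centralizer (B : Set G) := by
  apply le_antisymm
  · apply le_inf inf_le_left
    intro x hx
    have hx2 : x ∈ signalizerInf B θ := hx.2
    rw [mem_signalizerInf_iff] at hx2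
    rw [Subgroup.mem_centralizer_iff]
    intro b hb
    by_cases hb1 : b = 1
    · subst hb1; simp
    · have h1 := hθ.1 b (hBA hb) hb1 (hx2 b hb hb1)
      rw [Subgroup.mem_centralizer_iff] at h1
      exact h1 b (Set.mem_singleton b)
  · apply le_inf inf_le_left
    intro x hx
    have hx1 : x ∈ Q := hx.1
    have hx2 : x ∈ Subgroup.centralizer (B : Set G) := hx.2
    rw [mem_signalizerInf_iff]
    intro b hb hb1
    apply hQ.2.2.2 b (hBA hb) hb1
    have h3 : x ∈ Subgroup.centralizer ({b} : Set G) := by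
      rw [Subgroup.mem_centralizer_iff] at hx2 ⊢
      intro y hy
      rw [Set.mem_singleton_iff] at hy
      subst hy
      exact hx2 y hb
    exact ⟨hx1, h3⟩

theorem cj_inf (c : G) (X Y : Subgroup G) : cj c (X ⊓ Y) = cj c X ⊓ cj c Y :=
  Subgroup.map_inf X Y _ (MulAut.conj c).injective

theorem maxQ_inf_centralizer (hA : IsElementaryAbelian p A) (hA3 : p ^ 3 ≤ Nat.card ↥A)
    (hθ : IsSolvableSignalizerFunctor p A θ) {q : ℕ} [Fact q.Prime] {Q : Subgroup G}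
    (hQ : IsMaxQ p A θ q Q) {B : Subgroup G} (hBA : B ≤ A) (hB : B ≠ ⊥) :
    ∃ S : Sylow q ↥(signalizerInf B θ),
      (S : Subgroup ↥(signalizerInf B θ)).map (signalizerInf B θ).subtype =
        Q ⊓ Subgroup.centralizer (B : Set G) := by
  have hF := signalizerInf_mem_fam hθ hBA hB
  obtain ⟨c, hc, S, hS⟩ := maxQ_inf_member hA hA3 hθ hQ hF
  have hcB : c ∈ signalizerInf B θ := signalizerInf_mono hBA hc
  refine ⟨MulAut.conj (⟨c, hcB⟩ : ↥(signalizerInf B θ))⁻¹ • S, ?_⟩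
  rw [cj_sylow_map, hS, cj_inf]
  have h1 : (((⟨c, hcB⟩ : ↥(signalizerInf B θ))⁻¹ : ↥(signalizerInf B θ)) : G) = c⁻¹ := rfl
  rw [h1, cj_inv_cj]
  have h2 : cj c⁻¹ (signalizerInf B θ) = signalizerInf B θ :=
    cj_eq_self_iff.2 (Subgroup.le_normalizer (Subgroup.inv_mem _ hcB))
  rw [h2]
  exact inf_signalizerInf_eq hθ.1 hQ.1 hBA

theorem theta_mem_fam (hθ : IsSolvableSignalizerFunctor p A θ) {a : G} (ha : a ∈ A)
    (ha1 : a ≠ 1) : θ a ∈ signalizerFamily p A θ := by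
  obtain ⟨⟨hθ1, hθ2, hθ3, hθ4⟩, hθs⟩ := hθ
  exact ⟨hθs a ha ha1, hθ2 a ha ha1, hθ3 a ha ha1, fun b hb hb1 => hθ4 a ha ha1 b hb hb1⟩

theorem complete_of_single_prime (hA : IsElementaryAbelian p A) (hA3 : p ^ 3 ≤ Nat.card ↥A)
    (hθ : IsSolvableSignalizerFunctor p A θ) {q : ℕ} [Fact q.Prime]
    (hq : ∀ a ∈ A, a ≠ 1 → IsPGroup q ↥(θ a)) : IsCompleteSignalizerFunctor p A θ := by
  refine ⟨hθ.1, ?_⟩
  obtain ⟨Q, -, hQ⟩ := exists_isMaxQ (p := p) (A := A) (θ := θ) (q := q) fam_bot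
    (IsPGroup.of_bot)
  refine ⟨Q, hQ.1.2.2.1, hQ.1.2.1, ?_⟩
  intro a ha ha1
  apply le_antisymm (hQ.1.2.2.2 a ha ha1)
  apply le_inf ?_ (hθ.1.1 a ha ha1)
  have hF := theta_mem_fam hθ ha ha1
  obtain ⟨R, hθR, hR⟩ := exists_isMaxQ hF (hq a ha ha1)
  obtain ⟨c, hc, hcQ⟩ := transitivity hA hA3 hθ hQ hR
  have hca : c ∈ θ a := signalizerInf_le_of_mem ha ha1 hc
  have h1 : cj c⁻¹ (θ a) = θ a :=
    cj_eq_self_iff.2 (Subgroup.le_normalizer (Subgroup.inv_mem _ hca))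
  have h2 : cj c⁻¹ (θ a) ≤ cj c⁻¹ R := cj_mono c⁻¹ hθR
  rw [h1, ← hcQ, cj_inv_cj] at h2
  exact h2

end Fam2

end Cfsg.Agent.Lib.Helper10
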