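import Mathlib
import Cfsg.Agent.Lib.helper3.T2E.Defs
import Cfsg.Agent.Lib.helper8.ChevTwE6H16
import Cfsg.Agent.Lib.helper8.ChevTwE6c

/-!
# T2E (S2108, designer helper3), block D, rows D8 `mono_act` and D12c `U1_card` (helper10), VERBATIM.
-/

set_option autoImplicit false

namespace Cfsg.Agent.Lib.helper3.T2E

open Cfsg.Lie Cfsg.Lie.ChevalleyDatum Matrix
open Cfsg.Agent.Lib.helper8 Cfsg.Agent.Lib.Helper10.TEM Cfsg.Agent.Lib.helper7.Ce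
  Cfsg.Agent.Lib.helper15.St2

universe u

variable {K : Type u} [Field K] {q : ℕ} {f : K ≃+* K}

-- ROW D8
theorem mono_act (n : GG K) (hn : n ∈ chevE6.monomialSubgroup K) (r : ℕ) (hr : r < 72) :
    ∃ r' < 72, ∃ κ : K, κ ≠ 0 ∧ ∀ t, n * X r t * n⁻¹ = X r' (κ * t) := by
  have hr' : r < chevE6.nroots := hr
  obtain ⟨c, hc, h⟩ := h8Pi_act chevE6 hB hA hBN hW hO2 ⟨n, hn⟩ ⟨r, hr'⟩
  exact ⟨_, ((h8Pi chevE6 hB hA hBN hW hO2 ⟨n, hn⟩) ⟨r, hr'⟩).2, c, hc, h⟩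

-- ROW D12c
theorem U1_card [Fintype K] (hq : IsPrimePow q) (hK : Fintype.card K = q ^ 2) :
    Nat.card ↥(U1 K q) = q ^ 36 := h8twE6_U_card hq hK

end Cfsg.Agent.Lib.helper3.T2E
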