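import Mathlib
import Cfsg.Agent.Lib.helper3.T2E.Defs3
import Cfsg.Agent.Lib.helper8.ChevTwE6H16
import Cfsg.Agent.Lib.Helper1.T2ED12b
import Cfsg.Agent.Lib.Helper10.T2ED8

/-!
# T2E (S2108, designer helper3), block B, sub-block BU (helper10): the lifted unipotent group `Ut q L` is
isomorphic to `U¹` through `pm π`.

From `hL : Lifts q π L`: the filtration `Ugt q L j` (24 blocks) has `Ugt j = X̃_j * Ugt (j+1)`, hence
`Nat.card (Ut q L) ≤ q ^ 36`; `pm π` maps `Ut q L` onto `U1 K q` (D12b), of order `q ^ 36` (D12c), hence injectively.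
-/

set_option autoImplicit false

namespace Cfsg.Agent.Lib.helper3.T2E

open Cfsg.Lie Cfsg.Lie.ChevalleyDatum Matrix
open Cfsg.Agent.Lib.helper8 Cfsg.Agent.Lib.Helper10.TEM Cfsg.Agent.Lib.helper7.Ce
  Cfsg.Agent.Lib.helper15.St2
open scoped Pointwise

universe u

/-! ### combinatorics of the blocks -/

theorem t2ebuh10_ht2_eq (r : ℕ) :
    ht2 r = pv2 r 0 + pv2 r 1 + pv2 r 2 + pv2 r 3 + pv2 r 4 + pv2 r 5 := by
  simp [ht2, List.range_succ]
  ring

theorem t2ebuh10_tab1 : ∀ a < 72, 36 ≤ a →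
    36 ≤ h8sE6 a ∧ h8sE6 a < 72 ∧ h8posiE6 (h8sE6 a) = h8posiE6 a ∧ 0 < ht2 a ∧ h8posiE6 a < 24 := by
  decide +kernel

theorem t2ebuh10_tab2 : ∀ c < 72, 0 < ht2 c → 36 ≤ c := by decide +kernel

theorem t2ebuh10_tab3a : ∀ a < 72, ∀ b < 72, 36 ≤ a → 36 ≤ b → ht2 a < ht2 b →
    h8posiE6 a < h8posiE6 b := by decide +kernel

theorem t2ebuh10_tab3b : ∀ a < 72, ∀ b < 72, (36 ≤ a ∧ 36 ≤ b ∧ h8posiE6 a = h8posiE6 b) →
    (b = a ∨ b = h8sE6 a) := by decide +kernel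

/-- the cone of two positive roots lies in the higher blocks -/
theorem t2ebuh10_cone (a b c : ℕ) (ha36 : 36 ≤ a) (ha : a < 72) (hb36 : 36 ≤ b) (hb : b < 72)
    (h : InCone a b c) :
    36 ≤ c ∧ c < 72 ∧ h8posiE6 a < h8posiE6 c ∧ h8posiE6 b < h8posiE6 c := by
  obtain ⟨hc, i, hi, j, hj, hk⟩ := h
  have h0 := hk 0 (by norm_num)
  have h1 := hk 1 (by norm_num)
  have h2 := hk 2 (by norm_num)
  have h3 := hk 3 (by norm_num)
  have h4 := hk 4 (by norm_num)
  have h5 := hk 5 (by norm_num)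
  have hta := (t2ebuh10_tab1 a ha ha36).2.2.2.1
  have htb := (t2ebuh10_tab1 b hb hb36).2.2.2.1
  have ea := t2ebuh10_ht2_eq a
  have eb := t2ebuh10_ht2_eq b
  have ec := t2ebuh10_ht2_eq c
  have hi' : i = 1 ∨ i = 2 := by simpa using hi
  have hj' : j = 1 ∨ j = 2 := by simpa using hj
  have hgt : ht2 a < ht2 c ∧ ht2 b < ht2 c := by
    rcases hi' with rfl | rfl <;> rcases hj' with rfl | rfl <;> constructor <;> omega
  have hc36 : 36 ≤ c := t2ebuh10_tab2 c hc (by omega)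
  exact ⟨hc36, hc, t2ebuh10_tab3a a ha c hc ha36 hc36 hgt.1,
    t2ebuh10_tab3a b hb c hc hb36 hc36 hgt.2⟩

/-- roots in different blocks are independent -/
theorem t2ebuh10_indep (a b : ℕ) (ha36 : 36 ≤ a) (ha : a < 72) (hb36 : 36 ≤ b) (_hb : b < 72)
    (h : h8posiE6 a ≠ h8posiE6 b) : Indep a b := by
  obtain ⟨h1, h2, h3, _, _⟩ := t2ebuh10_tab1 a ha ha36
  refine ⟨?_, ?_, ?_, ?_⟩
  · rintro rfl; exact h rfl
  · rintro rfl; exact h h3.symm
  · omega
  · omega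

/-- representatives of the 24 blocks -/
def t2ebuh10_rep (j : ℕ) : ℕ :=
  ([36, 37, 39, 46, 38, 40, 47, 41, 44, 48, 45, 49, 51, 52, 53, 60, 54, 63, 55, 65, 66, 69, 70, 71] :
    List ℕ).getD j 0

/-- the exponent of the `j`-th block: `1` for a fixed root, `2` for an orbit of length two -/
def t2ebuh10_ex (j : ℕ) : ℕ := if h8sE6 (t2ebuh10_rep j) = t2ebuh10_rep j then 1 else 2

/-- the sum of the exponents from the `j`-th block on -/
def t2ebuh10_tail (j : ℕ) : ℕ := ∑ i ∈ Finset.Ico j 24, t2ebuh10_ex i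

theorem t2ebuh10_rep_spec : ∀ j < 24, 36 ≤ t2ebuh10_rep j ∧ t2ebuh10_rep j < 72 ∧
    h8posiE6 (t2ebuh10_rep j) = j := by decide +kernel

theorem t2ebuh10_tail_zero : t2ebuh10_tail 0 = 36 := by decide +kernel

theorem t2ebuh10_tail_top : t2ebuh10_tail 24 = 0 := by simp [t2ebuh10_tail]

theorem t2ebuh10_tail_succ (j : ℕ) (hj : j < 24) :
    t2ebuh10_tail j = t2ebuh10_ex j + t2ebuh10_tail (j + 1) := by
  unfold t2ebuh10_tail
  rw [Finset.sum_eq_sum_Ico_succ_bot hj]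

variable {K : Type u} [Field K] {q : ℕ} {f : K ≃+* K} {Γ : Type u} [Group Γ]
  {π : Γ →* ↥(twistedE6 K q)}

/-! ### admissible parameters -/

theorem t2ebuh10_adm_zero (hF : Frob q f) (r : ℕ) : Adm q r (0 : K) := by
  intro _
  rw [← hF.pow, map_zero]

theorem t2ebuh10_adm_add (hF : Frob q f) (r : ℕ) (s t : K) (hs : Adm q r s) (ht : Adm q r t) :
    Adm q r (s + t) := by
  intro h
  rw [← hF.pow, map_add, hF.pow, hF.pow, hs h, ht h]

theorem t2ebuh10_adm_neg (hF : Frob q f) (r : ℕ) (t : K) (ht : Adm q r t) : Adm q r (-t) := by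
  intro h
  rw [← hF.pow, map_neg, hF.pow, ht h]

/-! ### the lifted root groups -/

section RootGroup

variable {r : ℕ} {Lr : K → Γ}

theorem t2ebuh10_L_zero (hF : Frob q f) (h : IsRootLift q π r Lr) : Lr 0 = 1 := by
  have h0 := h.add 0 0 (t2ebuh10_adm_zero hF r) (t2ebuh10_adm_zero hF r)
  rw [add_zero] at h0
  exact (mul_eq_left.mp h0.symm)

theorem t2ebuh10_L_neg (hF : Frob q f) (h : IsRootLift q π r Lr) (t : K) (ht : Adm q r t) :
    Lr (-t) = (Lr t)⁻¹ := by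
  have h0 := h.add (-t) t (t2ebuh10_adm_neg hF r t ht) ht
  rw [neg_add_cancel, t2ebuh10_L_zero hF h] at h0
  exact eq_inv_of_mul_eq_one_left h0.symm

end RootGroup

variable (q) in
/-- the lifted root subgroup -/
def t2ebuh10_Xs (L : ℕ → K → Γ) (r : ℕ) : Subgroup Γ :=
  Subgroup.closure {g : Γ | ∃ t, Adm q r t ∧ g = L r t}

theorem t2ebuh10_mem_Xs (hF : Frob q f) {L : ℕ → K → Γ} {r : ℕ} (h : IsRootLift q π r (L r))
    (g : Γ) : g ∈ t2ebuh10_Xs q L r ↔ ∃ t, Adm q r t ∧ g = L r t := by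
  constructor
  · intro hg
    unfold t2ebuh10_Xs at hg
    induction hg using Subgroup.closure_induction with
    | mem x hx => exact hx
    | one => exact ⟨0, t2ebuh10_adm_zero hF r, (t2ebuh10_L_zero hF h).symm⟩
    | mul x y _ _ hx hy =>
      obtain ⟨s, hs, rfl⟩ := hx
      obtain ⟨t, ht, rfl⟩ := hy
      exact ⟨s + t, t2ebuh10_adm_add hF r s t hs ht, (h.add s t hs ht).symm⟩
    | inv x _ hx =>
      obtain ⟨s, hs, rfl⟩ := hx
      exact ⟨-s, t2ebuh10_adm_neg hF r s hs, (t2ebuh10_L_neg hF h s hs).symm⟩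
  · intro hg
    exact Subgroup.subset_closure hg

/-! ### the filtration -/

section Filtration

variable {L : ℕ → K → Γ}

/-- the lifts at `σ a` lie in the lifted root group of `a` -/
theorem t2ebuh10_sig_mem (hL : Lifts q π L) (a : ℕ) (ha : a < 72) (u : K)
    (hu : Adm q (h8sE6 a) u) : L (h8sE6 a) u ∈ t2ebuh10_Xs q L a := by
  obtain ⟨_, _, hσa, hσσ, _, hηη, _, hη1, _, _⟩ := root_data a ha
  have h1 := hL.sig (h8sE6 a) hσa u hu
  rw [hσσ] at h1
  rw [← h1]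
  refine Subgroup.subset_closure ⟨_, ?_, rfl⟩
  intro hfix
  have hu' : u ^ q = u := hu (by rw [hfix, hfix])
  rw [hηη, hη1 hfix, Int.cast_one, one_mul, hu', hu']

theorem t2ebuh10_conj (hL : Lifts q π L) (a : ℕ) (ha36 : 36 ≤ a) (ha : a < 72) (j : ℕ)
    (hj : h8posiE6 a < j) (t : K) (ht : Adm q a t) (y : Γ) (hy : y ∈ Ugt q L j) :
    L a t * y * (L a t)⁻¹ ∈ Ugt q L j := by
  unfold Ugt at hy
  induction hy using Subgroup.closure_induction with
  | mem x hx =>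
    obtain ⟨b, hb36, hb, hjb, u, hu, rfl⟩ := hx
    have hind : Indep a b := t2ebuh10_indep a b ha36 ha hb36 hb (by omega)
    have h1 := hL.wrel a ha36 ha b hb36 hb hind t u ht hu
    have h2 : cm (L a t) (L b u) ∈ Ugt q L j := by
      refine (Subgroup.closure_mono ?_) h1
      rintro g ⟨c, hc, v, hv, rfl⟩
      obtain ⟨hc36, hc72, _, hbc⟩ := t2ebuh10_cone a b c ha36 ha hb36 hb hc
      exact ⟨c, hc36, hc72, by omega, v, hv, rfl⟩
    have h3 : L b u ∈ Ugt q L j := Subgroup.subset_closure ⟨b, hb36, hb, hjb, u, hu, rfl⟩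
    have h4 : L a t * L b u * (L a t)⁻¹ = cm (L a t) (L b u) * L b u := by
      unfold cm
      group
    rw [h4]
    exact Subgroup.mul_mem _ h2 h3
  | one =>
    rw [mul_one, mul_inv_cancel]
    exact Subgroup.one_mem _
  | mul x y _ _ hx hy =>
    have : L a t * (x * y) * (L a t)⁻¹ = (L a t * x * (L a t)⁻¹) * (L a t * y * (L a t)⁻¹) := by
      group
    rw [this]
    exact Subgroup.mul_mem _ hx hy
  | inv x _ hx =>
    have : L a t * x⁻¹ * (L a t)⁻¹ = (L a t * x * (L a t)⁻¹)⁻¹ := by group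
    rw [this]
    exact Subgroup.inv_mem _ hx

theorem t2ebuh10_le_normalizer (hF : Frob q f) (hL : Lifts q π L) (a : ℕ) (ha36 : 36 ≤ a)
    (ha : a < 72) (j : ℕ) (hj : h8posiE6 a < j) :
    t2ebuh10_Xs q L a ≤ Subgroup.normalizer (Ugt q L j : Set Γ) := by
  intro g hg
  obtain ⟨t, ht, rfl⟩ := (t2ebuh10_mem_Xs hF (hL.root a ha) g).mp hg
  rw [Subgroup.mem_normalizer_iff]
  intro y
  constructor
  · exact t2ebuh10_conj hL a ha36 ha j hj t ht y
  · intro hy
    have h1 := t2ebuh10_conj hL a ha36 ha j hj (-t) (t2ebuh10_adm_neg hF a t ht) _ hy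
    rw [t2ebuh10_L_neg hF (hL.root a ha) t ht] at h1
    have : (L a t)⁻¹ * (L a t * y * (L a t)⁻¹) * (L a t)⁻¹⁻¹ = y := by group
    rw [this] at h1
    exact h1

theorem t2ebuh10_step_le (hL : Lifts q π L) (j : ℕ) (hj : j < 24) :
    Ugt q L j ≤ t2ebuh10_Xs q L (t2ebuh10_rep j) ⊔ Ugt q L (j + 1) := by
  obtain ⟨ha36, ha, hpa⟩ := t2ebuh10_rep_spec j hj
  unfold Ugt
  rw [Subgroup.closure_le]
  rintro g ⟨b, hb36, hb, hjb, u, hu, rfl⟩
  by_cases hpb : h8posiE6 b = j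
  · apply Subgroup.mem_sup_left
    rcases t2ebuh10_tab3b _ ha b hb ⟨ha36, hb36, by rw [hpa, hpb]⟩ with rfl | rfl
    · exact Subgroup.subset_closure ⟨u, hu, rfl⟩
    · exact t2ebuh10_sig_mem hL _ ha u hu
  · apply Subgroup.mem_sup_right
    exact Subgroup.subset_closure ⟨b, hb36, hb, by omega, u, hu, rfl⟩

theorem t2ebuh10_Ugt_top : Ugt q L 24 = ⊥ := by
  unfold Ugt
  rw [Subgroup.closure_eq_bot_iff]
  rintro g ⟨r, hr36, hr, hj, _⟩
  have := (t2ebuh10_tab1 r hr hr36).2.2.2.2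
  omega

theorem t2ebuh10_Ugt_zero : Ugt q L 0 = Ut q L := by
  unfold Ugt Ut
  congr 1
  ext g
  constructor
  · rintro ⟨r, h1, h2, _, h3⟩
    exact ⟨r, h1, h2, h3⟩
  · rintro ⟨r, h1, h2, h3⟩
    exact ⟨r, h1, h2, Nat.zero_le _, h3⟩

end Filtration

/-! ### counting -/

section Count

variable [Fintype K] {L : ℕ → K → Γ}

theorem t2ebuh10_card_Xs (hq : IsPrimePow q) (hK : Fintype.card K = q ^ 2) (hF : Frob q f) (r : ℕ)
    (h : IsRootLift q π r (L r)) :
    Finite (t2ebuh10_Xs q L r) ∧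
      Nat.card (t2ebuh10_Xs q L r) ≤ q ^ (if h8sE6 r = r then 1 else 2) := by
  classical
  let φ : {t : K // Adm q r t} → t2ebuh10_Xs q L r :=
    fun t => ⟨L r t.1, Subgroup.subset_closure ⟨t.1, t.2, rfl⟩⟩
  have hφ : Function.Surjective φ := by
    rintro ⟨g, hg⟩
    obtain ⟨t, ht, rfl⟩ := (t2ebuh10_mem_Xs hF h g).mp hg
    exact ⟨⟨t, ht⟩, rfl⟩
  have hfin : Finite (t2ebuh10_Xs q L r) := Finite.of_surjective φ hφ
  refine ⟨hfin, ?_⟩
  have h1 : Nat.card (t2ebuh10_Xs q L r) ≤ Nat.card {t : K // Adm q r t} :=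
    Nat.card_le_card_of_surjective φ hφ
  refine h1.trans ?_
  by_cases hσ : h8sE6 r = r
  · rw [if_pos hσ, pow_one]
    have h2 : Nat.card {c : K // f c = c} = q :=
      h8frob_fix_card hq.one_lt (by norm_num : 0 < 2) hK f hF.pow (fun t => hF.inv t)
    have h3 : Nat.card {t : K // Adm q r t} ≤ Nat.card {c : K // f c = c} := by
      apply Nat.card_le_card_of_injective (fun t : {t : K // Adm q r t} =>
        (⟨t.1, by rw [hF.pow]; exact t.2 hσ⟩ : {c : K // f c = c}))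
      intro s t hst
      apply Subtype.ext
      exact congrArg (fun x : {c : K // f c = c} => x.1) hst
    rw [h2] at h3
    exact h3
  · rw [if_neg hσ, ← hK, ← Nat.card_eq_fintype_card]
    exact Nat.card_le_card_of_injective (fun t : {t : K // Adm q r t} => t.1)
      Subtype.val_injective

theorem t2ebuh10_Ugt_card (hq : IsPrimePow q) (hK : Fintype.card K = q ^ 2) (hF : Frob q f)
    (hL : Lifts q π L) : ∀ n ≤ 24, Finite (Ugt q L (24 - n)) ∧
      Nat.card (Ugt q L (24 - n)) ≤ q ^ t2ebuh10_tail (24 - n) := by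
  intro n
  induction n with
  | zero =>
    intro _
    rw [Nat.sub_zero, t2ebuh10_Ugt_top, t2ebuh10_tail_top]
    exact ⟨inferInstance, by simp⟩
  | succ n ih =>
    intro hn
    obtain ⟨hfin, hcard⟩ := ih (by omega)
    have hj : 24 - (n + 1) < 24 := by omega
    have hj1 : 24 - (n + 1) + 1 = 24 - n := by omega
    set j := 24 - (n + 1) with hjdef
    rw [← hj1] at hfin hcard
    obtain ⟨ha36, ha, hpa⟩ := t2ebuh10_rep_spec j hj
    obtain ⟨hfinX, hcardX⟩ := t2ebuh10_card_Xs hq hK hF (t2ebuh10_rep j) (hL.root _ ha)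
    have hnorm := t2ebuh10_le_normalizer hF hL (t2ebuh10_rep j) ha36 ha (j + 1) (by omega)
    have hset := Subgroup.coe_mul_of_left_le_normalizer_right _ _ hnorm
    have hfinS : (↑(t2ebuh10_Xs q L (t2ebuh10_rep j) ⊔ Ugt q L (j + 1)) : Set Γ).Finite := by
      rw [hset]
      exact Set.Finite.mul (Set.toFinite _) (Set.toFinite _)
    have hle := t2ebuh10_step_le hL j hj
    have hfinj : Finite (Ugt q L j) := (hfinS.subset hle).to_subtype
    refine ⟨hfinj, ?_⟩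
    have hfinS' : Finite ↥(t2ebuh10_Xs q L (t2ebuh10_rep j) ⊔ Ugt q L (j + 1)) := hfinS.to_subtype
    have h1 : Nat.card (Ugt q L j) ≤
        Nat.card ↥(t2ebuh10_Xs q L (t2ebuh10_rep j) ⊔ Ugt q L (j + 1)) :=
      Subgroup.card_le_of_le hle
    have h2 : Nat.card ↥(t2ebuh10_Xs q L (t2ebuh10_rep j) ⊔ Ugt q L (j + 1)) ≤
        Nat.card (t2ebuh10_Xs q L (t2ebuh10_rep j)) * Nat.card (Ugt q L (j + 1)) := by
      have h3 := Set.natCard_mul_le (s := (↑(t2ebuh10_Xs q L (t2ebuh10_rep j)) : Set Γ))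
        (t := (↑(Ugt q L (j + 1)) : Set Γ))
      rw [← hset] at h3
      exact h3
    rw [t2ebuh10_tail_succ j hj, pow_add]
    exact h1.trans (h2.trans (Nat.mul_le_mul hcardX hcard))

/-- `|Ũ| ≤ q³⁶` -/
theorem t2ebuh10_Ut_card_le (hq : IsPrimePow q) (hK : Fintype.card K = q ^ 2) (hF : Frob q f)
    (hL : Lifts q π L) : Finite (Ut q L) ∧ Nat.card (Ut q L) ≤ q ^ 36 := by
  have h := t2ebuh10_Ugt_card hq hK hF hL 24 le_rfl
  rw [Nat.sub_self, t2ebuh10_Ugt_zero, t2ebuh10_tail_zero] at h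
  exact h

end Count

/-! ### the isomorphism with `U¹` -/

section Iso

variable {L : ℕ → K → Γ}

/-- `pm π` maps `Ũ` onto `U¹` -/
theorem t2ebuh10_Ut_map (hF : Frob q f) (hL : Lifts q π L) :
    (Ut q L).map (pm π) = U1 K q := by
  rw [U1_gen hF]
  unfold Ut
  rw [MonoidHom.map_closure]
  congr 1
  ext g
  constructor
  · rintro ⟨x, ⟨r, hr36, hr, t, ht, rfl⟩, rfl⟩
    exact ⟨r, hr36, hr, t, ht, (hL.root r hr).map t ht⟩
  · rintro ⟨r, hr36, hr, t, ht, rfl⟩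
    exact ⟨L r t, ⟨r, hr36, hr, t, ht, rfl⟩, (hL.root r hr).map t ht⟩

/-- `pm π` is injective on `Ũ` -/
theorem t2ebuh10_Ut_inj [Fintype K] (hq : IsPrimePow q) (hK : Fintype.card K = q ^ 2)
    (hF : Frob q f) (hL : Lifts q π L) : ∀ x ∈ Ut q L, pm π x = 1 → x = 1 := by
  obtain ⟨hfin, hcard⟩ := t2ebuh10_Ut_card_le hq hK hF hL
  have hmap := t2ebuh10_Ut_map hF hL
  have hU1 : Nat.card ↥(U1 K q) = q ^ 36 := U1_card hq hK
  -- the restriction
  let ψ : ↥(Ut q L) → ↥(U1 K q) := fun x => ⟨pm π x.1, by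
    rw [← hmap]; exact Subgroup.mem_map_of_mem _ x.2⟩
  have hψs : Function.Surjective ψ := by
    rintro ⟨y, hy⟩
    rw [← hmap] at hy
    obtain ⟨x, hx, rfl⟩ := hy
    exact ⟨⟨x, hx⟩, rfl⟩
  have hfinU : Finite ↥(U1 K q) := Finite.of_surjective ψ hψs
  have hle : Nat.card ↥(Ut q L) ≤ Nat.card ↥(U1 K q) := by rw [hU1]; exact hcard
  have hψb : Function.Bijective ψ := hψs.bijective_of_nat_card_le hle
  intro x hx h1
  have h2 : ψ ⟨x, hx⟩ = ψ ⟨1, Subgroup.one_mem _⟩ := by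
    apply Subtype.ext
    show pm π x = pm π 1
    rw [h1, map_one]
  exact congrArg Subtype.val (hψb.1 h2)

end Iso

end Cfsg.Agent.Lib.helper3.T2E
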