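import Mathlib
import Cfsg.Agent.Lib.helper3.T2E.Defs
import Cfsg.Agent.Lib.helper8.ChevTwE6H16
import Cfsg.Agent.Lib.helper8.ChevTwE6c
import Cfsg.Agent.Lib.Helper28.T2ED2

/-!
# T2E (S2108, designer helper3), block D, row D11b `NT_neg` (helper10), VERBATIM (on helper28's D2 `XT_inv`).
-/

set_option autoImplicit false

namespace Cfsg.Agent.Lib.helper3.T2E

open Cfsg.Lie Cfsg.Lie.ChevalleyDatum Matrix
open Cfsg.Agent.Lib.helper8 Cfsg.Agent.Lib.Helper10.TEM Cfsg.Agent.Lib.helper7.Ce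
  Cfsg.Agent.Lib.helper15.St2

universe u

variable {K : Type u} [Field K] {q : ℕ} {f : K ≃+* K}

-- ROW D11b
theorem NT_neg (hF : Frob q f) (r : ℕ) (hr : r < 72) (t : K) (ht : t ≠ 0) :
    NT q r (-t) = (NT q r t)⁻¹ := by
  have hr' : 71 - r < 72 := by omega
  unfold NT
  rw [_root_.mul_inv_rev, _root_.mul_inv_rev, XT_inv hF r hr, XT_inv hF (71 - r) hr', inv_neg, neg_neg, mul_assoc]

end Cfsg.Agent.Lib.helper3.T2E
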