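import Mathlib
import Cfsg.Agent.Lib.helper3.T2E.Defs
import Cfsg.Agent.Lib.helper8.ChevTwE6H16
import Cfsg.Agent.Lib.helper8.ChevTwE6c

/-!
# T2E (S2108, designer helper3), block D, row D11c `NT_one` (helper10), VERBATIM.
-/

set_option autoImplicit false

namespace Cfsg.Agent.Lib.helper3.T2E

open Cfsg.Lie Cfsg.Lie.ChevalleyDatum Matrix
open Cfsg.Agent.Lib.helper8 Cfsg.Agent.Lib.Helper10.TEM Cfsg.Agent.Lib.helper7.Ce
  Cfsg.Agent.Lib.helper15.St2

universe u

variable {K : Type u} [Field K] {q : ℕ} {f : K ≃+* K}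

theorem t2ed11ch10_nU_one (r : ℕ) :
    (h8nU chevE6 hB r (1 : K) : GG K) = X r 1 * X (chevE6.neg r) (-1) * X r 1 := by
  unfold h8nU ChevalleyDatum.nWord h8wordU X
  simp only [List.map_cons, List.map_nil, List.prod_cons, List.prod_nil, inv_one, mul_one, mul_assoc]

theorem t2ed11ch10_nW_one (i : ℕ) : (nW [i] : GG K) = h8nU chevE6 hB (chevE6.simple i) 1 := by
  unfold nW h8nWU
  simp only [List.map_cons, List.map_nil, List.prod_cons, List.prod_nil, mul_one]

theorem t2ed11ch10_nW_two (i j : ℕ) :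
    (nW [i, j] : GG K) = h8nU chevE6 hB (chevE6.simple i) 1 * h8nU chevE6 hB (chevE6.simple j) 1 := by
  unfold nW h8nWU
  simp only [List.map_cons, List.map_nil, List.prod_cons, List.prod_nil, mul_one]

theorem t2ed11ch10_comm (r s : ℕ) (hr : r < 72) (hs : s < 72) (hne : s ≠ r)
    (hneg : s ≠ chevE6.negIdx.getD r 0) (hterms : chevE6.commTerms r s = []) (t u : K) :
    Commute (X r t : GG K) (X s u) :=
  h8xU_commute chevE6 hB hC r s hr hs hne hneg hterms t u

theorem t2ed11ch10_fix (r : ℕ) (hσ : h8sE6 r = r) (hσ' : h8sE6 (71 - r) = 71 - r) (hn : chevE6.neg r = 71 - r) :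
    NT q r (1 : K) = h8nU chevE6 hB r 1 := by
  unfold NT XT
  rw [if_pos hσ, if_pos hσ', t2ed11ch10_nU_one, hn, inv_one]

theorem t2ed11ch10_nf (hF : Frob q f) (r s : ℕ) (hr : r < 72) (hs : s < 72)
    (hσ : h8sE6 r = s) (hσ' : h8sE6 (71 - r) = 71 - s) (hrs : s ≠ r)
    (he : h8eE6 r = 1) (he' : h8eE6 (71 - r) = 1)
    (hn : chevE6.neg r = 71 - r) (hn' : chevE6.neg s = 71 - s)
    (h1 : chevE6.commTerms s (71 - r) = []) (h2 : chevE6.commTerms (71 - s) r = [])
    (h3 : chevE6.commTerms s r = [])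
    (g1 : 71 - r ≠ chevE6.negIdx.getD s 0) (g2 : r ≠ chevE6.negIdx.getD (71 - s) 0)
    (g3 : r ≠ chevE6.negIdx.getD s 0) (e1 : 71 - r ≠ s) (e2 : r ≠ 71 - s) :
    NT q r (1 : K) = h8nU chevE6 hB r 1 * h8nU chevE6 hB s 1 := by
  have hsr : h8sE6 r ≠ r := by rw [hσ]; exact hrs
  have hsr' : h8sE6 (71 - r) ≠ 71 - r := by rw [hσ']; omega
  unfold NT XT
  rw [if_neg hsr, if_neg hsr', t2ed11ch10_nU_one, t2ed11ch10_nU_one, hn, hn']
  unfold XS
  rw [hσ, hσ', he, he', inv_one, one_pow, hF.neg, Int.cast_one, one_mul, one_mul]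
  have hbc : Commute (X s (1 : K) : GG K) (X (71 - r) (-1)) :=
    t2ed11ch10_comm s (71 - r) hs (by omega) e1 g1 h1 _ _
  have hda : Commute (X (71 - s) (-1 : K) : GG K) (X r 1) :=
    t2ed11ch10_comm (71 - s) r (by omega) hr e2 g2 h2 _ _
  have hba : Commute (X s (1 : K) : GG K) (X r 1) :=
    t2ed11ch10_comm s r hs hr (Ne.symm hrs) g3 h3 _ _
  generalize (X r (1 : K) : GG K) = a at *
  generalize (X s (1 : K) : GG K) = b at *
  generalize (X (71 - r) (-1 : K) : GG K) = c at *
  generalize (X (71 - s) (-1 : K) : GG K) = d at *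
  calc a * b * (c * d) * (a * b) = a * (b * c) * (d * a) * b := by group
    _ = a * (c * b) * (a * d) * b := by rw [hbc.eq, hda.eq]
    _ = a * c * (b * a) * d * b := by group
    _ = a * c * (a * b) * d * b := by rw [hba.eq]
    _ = a * c * a * (b * d * b) := by group

-- ROW D11c
theorem NT_one (hF : Frob q f) (k : ℕ) (hk : k < 4) :
    NT q (([46, 39, 42, 56] : List ℕ).getD k 0) (1 : K) = nO [k] := by
  interval_cases k
  · show NT q 46 (1 : K) = nW [1]
    rw [t2ed11ch10_nW_one, t2ed11ch10_fix 46 (by decide) (by decide) (by decide)]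
    rfl
  · show NT q 39 (1 : K) = nW [3]
    rw [t2ed11ch10_nW_one, t2ed11ch10_fix 39 (by decide) (by decide) (by decide)]
    rfl
  · show NT q 42 (1 : K) = nW [2, 4]
    rw [t2ed11ch10_nW_two, t2ed11ch10_nf hF 42 37 (by decide) (by decide) (by decide) (by decide)
      (by decide) (by decide) (by decide) (by decide) (by decide) (by decide) (by decide) (by decide)
      (by decide) (by decide) (by decide) (by decide) (by decide)]
    rfl
  · show NT q 56 (1 : K) = nW [0, 5]
    rw [t2ed11ch10_nW_two, t2ed11ch10_nf hF 56 36 (by decide) (by decide) (by decide) (by decide)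
      (by decide) (by decide) (by decide) (by decide) (by decide) (by decide) (by decide) (by decide)
      (by decide) (by decide) (by decide) (by decide) (by decide)]
    rfl

end Cfsg.Agent.Lib.helper3.T2E
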