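import Mathlib
import Cfsg.Agent.Lib.helper3.T2E.Defs
import Cfsg.Agent.Lib.helper8.ChevTwE6H16
import Cfsg.Agent.Lib.helper8.ChevTwE6c

/-!
# T2E (S2108, designer helper3), block D, row D12d `T1_eq_range` (helper10), VERBATIM.
-/

set_option autoImplicit false

namespace Cfsg.Agent.Lib.helper3.T2E

open Cfsg.Lie Cfsg.Lie.ChevalleyDatum Matrix
open Cfsg.Agent.Lib.helper8 Cfsg.Agent.Lib.Helper10.TEM Cfsg.Agent.Lib.helper7.Ce
  Cfsg.Agent.Lib.helper15.St2

universe u

variable {K : Type u} [Field K] {q : ℕ} {f : K ≃+* K}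

/-- the same without finiteness -/
theorem t2ed12dh10_T1_eq_range (hF : Frob q f) : T1 K q = (h8psiE6 hB f).range := by
  apply SetLike.coe_injective
  rw [h8psiE6_range hB f hF.inv]
  ext g
  constructor
  · intro hg
    exact h8twE6_H_sub hB hA hC hBN hW hO hO2 q f hF.pow hF.inv hF.neg g hg
  · intro hg
    exact ⟨h8H0E6_le_H hB f g hg, h8H0E6_le_tw hB hC q f hF.pow g hg⟩

-- ROW D12d
theorem T1_eq_range [Fintype K] (hq : IsPrimePow q) (hK : Fintype.card K = q ^ 2)
    (hF : Frob q f) : T1 K q = (h8psiE6 hB f).range := t2ed12dh10_T1_eq_range hF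

end Cfsg.Agent.Lib.helper3.T2E
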