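import Mathlib
import Cfsg.Agent.Lib.helper3.T2E.Defs
import Cfsg.Agent.Lib.helper8.ChevTwE6H16
import Cfsg.Agent.Lib.helper8.ChevTwE6c

/-!
# T2E (S2108, designer helper3), block D, row D12f `U1_inf_N1` (helper10), VERBATIM.
-/

set_option autoImplicit false

namespace Cfsg.Agent.Lib.helper3.T2E

open Cfsg.Lie Cfsg.Lie.ChevalleyDatum Matrix
open Cfsg.Agent.Lib.helper8 Cfsg.Agent.Lib.Helper10.TEM Cfsg.Agent.Lib.helper7.Ce
  Cfsg.Agent.Lib.helper15.St2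

universe u

variable {K : Type u} [Field K] {q : ℕ} {f : K ≃+* K}

/-- `U ∩ N = 1` in `E₆(K)` -/
theorem t2ed12fh10_U_inf_N : chevE6.posUnipotent K ⊓ chevE6.monomialSubgroup K = ⊥ := by
  obtain ⟨dep, par, h⟩ := (hBN).orb
  exact h8_U_inf_N chevE6 hB hA dep par h

-- ROW D12f
theorem U1_inf_N1 : U1 K q ⊓ N1 K q = ⊥ := by
  rw [eq_bot_iff]
  intro g hg
  rw [Subgroup.mem_inf] at hg
  have h1 : g ∈ chevE6.posUnipotent K ⊓ chevE6.monomialSubgroup K :=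
    Subgroup.mem_inf.mpr ⟨(Subgroup.mem_inf.mp hg.1).1, (Subgroup.mem_inf.mp hg.2).1⟩
  rw [t2ed12fh10_U_inf_N] at h1
  exact h1

end Cfsg.Agent.Lib.helper3.T2E
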