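import Mathlib
import Cfsg.Agent.Lib.helper3.T2E.Defs
import Cfsg.Agent.Lib.helper8.ChevTwE6H16
import Cfsg.Agent.Lib.helper8.ChevTwE6c

/-!
# T2E (S2108, designer helper3), block D, row D13e (helper10): own-name copy `t2ed13eh10_comm_one` of `comm_one`
(the verbatim row is `Cfsg.Agent.Lib.Helper26.T2ED13e`, landed first).
Extra `t2ed13eh10_comm_gen`: two twisted root elements commute as soon as all the (at most four) pairs of `E₆` root
groups involved commute (`commTerms = []`).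
-/

set_option autoImplicit false

namespace Cfsg.Agent.Lib.helper3.T2E

open Cfsg.Lie Cfsg.Lie.ChevalleyDatum Matrix
open Cfsg.Agent.Lib.helper8 Cfsg.Agent.Lib.Helper10.TEM Cfsg.Agent.Lib.helper7.Ce
  Cfsg.Agent.Lib.helper15.St2

universe u

variable {K : Type u} [Field K] {q : ℕ} {f : K ≃+* K}

/-- the commuting condition for a pair of `E₆` roots -/
def t2ed13eh10_Ok (r s : ℕ) : Prop :=
  r < 72 ∧ s < 72 ∧ s ≠ r ∧ s ≠ chevE6.negIdx.getD r 0 ∧ chevE6.commTerms r s = []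

instance (r s : ℕ) : Decidable (t2ed13eh10_Ok r s) := by unfold t2ed13eh10_Ok; infer_instance

theorem t2ed13eh10_comm {r s : ℕ} (h : t2ed13eh10_Ok r s) (t u : K) :
    Commute (X r t : GG K) (X s u) :=
  h8xU_commute chevE6 hB hC r s h.1 h.2.1 h.2.2.1 h.2.2.2.1 h.2.2.2.2 t u

theorem t2ed13eh10_comm_gen (a b : ℕ)
    (H : t2ed13eh10_Ok a b ∧ t2ed13eh10_Ok a (h8sE6 b) ∧ t2ed13eh10_Ok (h8sE6 a) b ∧
      t2ed13eh10_Ok (h8sE6 a) (h8sE6 b)) (t u : K) :
    XT q a t * XT q b u = XT q b u * XT q a t := by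
  obtain ⟨h1, h2, h3, h4⟩ := H
  unfold XT
  split_ifs with ha hb hb
  · exact (t2ed13eh10_comm h1 t u).eq
  · unfold XS
    exact ((t2ed13eh10_comm h1 t u).mul_right (t2ed13eh10_comm h2 t _)).eq
  · unfold XS
    exact ((t2ed13eh10_comm h1 t u).mul_left (t2ed13eh10_comm h3 _ u)).eq
  · unfold XS
    exact (((t2ed13eh10_comm h1 t u).mul_right (t2ed13eh10_comm h2 t _)).mul_left
      ((t2ed13eh10_comm h3 _ u).mul_right (t2ed13eh10_comm h4 _ _))).eq

-- ROW D13e (the row name `comm_one` is landed by helper26 in `Helper26.T2ED13e`; this is an own-name copy, no clash)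
theorem t2ed13eh10_comm_one (hF : Frob q f) (a b : ℕ)
    (h : (a, b) ∈ [(42, 44), (40, 44), (46, 47), (39, 47), (56, 57), (42, 57), (39, 43), (39, 44),
      (44, 43), (39, 56), (44, 42)]) (t u : K) :
    XT q a t * XT q b u = XT q b u * XT q a t := by
  simp only [List.mem_cons, Prod.mk.injEq, List.mem_nil_iff, or_false] at h
  rcases h with ⟨rfl, rfl⟩ | ⟨rfl, rfl⟩ | ⟨rfl, rfl⟩ | ⟨rfl, rfl⟩ | ⟨rfl, rfl⟩ | ⟨rfl, rfl⟩ | ⟨rfl, rfl⟩ |
    ⟨rfl, rfl⟩ | ⟨rfl, rfl⟩ | ⟨rfl, rfl⟩ | ⟨rfl, rfl⟩ <;>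
  exact t2ed13eh10_comm_gen _ _ (by decide) t u

end Cfsg.Agent.Lib.helper3.T2E
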