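import Mathlib
import Cfsg.Agent.Lib.helper3.T2E.Defs
import Cfsg.Agent.Lib.helper8.ChevTwE6H16
import Cfsg.Agent.Lib.helper8.ChevTwE6c

/-!
# T2E (S2108, designer helper3), block D, row D9 `chi_add` (helper10), VERBATIM.

Route: closure induction on `h ∈ H` (generators `h_s(c)`, `h8chi_hU`: the character is `c ^ ⟨r, s^∨⟩`), and the Cartan integers
`chevE6.cartan i r` are linear in the coordinates of `r` (table check by `decide`).
-/

set_option autoImplicit false

namespace Cfsg.Agent.Lib.helper3.T2E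

open Cfsg.Lie Cfsg.Lie.ChevalleyDatum Matrix
open Cfsg.Agent.Lib.helper8 Cfsg.Agent.Lib.Helper10.TEM Cfsg.Agent.Lib.helper7.Ce
  Cfsg.Agent.Lib.helper15.St2

universe u

variable {K : Type u} [Field K] {q : ℕ} {f : K ≃+* K}

/-- the coordinate `i` of the root `r` -/
def t2ed9h10_co (r i : ℕ) : ℤ := (chevE6.coroot.getD r #[]).getD i 0

/-- the Cartan integers are linear in the coordinates of the root (table check) -/
def t2ed9h10_chk : Bool :=
  (List.range 6).all fun i => (List.range 72).all fun r =>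
    decide (chevE6.cartan i r =
      ((List.range 6).map fun j => t2ed9h10_co r j * chevE6.cartan i (chevE6.simple j)).sum)

theorem t2ed9h10_chk_true : t2ed9h10_chk = true := by decide +kernel

theorem t2ed9h10_cartan_lin (i r : ℕ) (hi : i < 6) (hr : r < 72) :
    chevE6.cartan i r =
      ((List.range 6).map fun j => t2ed9h10_co r j * chevE6.cartan i (chevE6.simple j)).sum := by
  have h := t2ed9h10_chk_true
  unfold t2ed9h10_chk at h
  rw [List.all_eq_true] at h
  have h1 := h i (List.mem_range.mpr hi)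
  rw [List.all_eq_true] at h1
  exact of_decide_eq_true (h1 r (List.mem_range.mpr hr))

theorem t2ed9h10_cartan_add (a b c : ℕ) (ha : a < 72) (hb : b < 72) (hc : c < 72)
    (habc : ∀ i < 6, t2ed9h10_co c i = t2ed9h10_co a i + t2ed9h10_co b i) (i : ℕ) (hi : i < 6) :
    chevE6.cartan i c = chevE6.cartan i a + chevE6.cartan i b := by
  rw [t2ed9h10_cartan_lin i c hi hc, t2ed9h10_cartan_lin i a hi ha, t2ed9h10_cartan_lin i b hi hb]
  simp only [List.range_succ, List.range_zero, List.nil_append, List.cons_append, List.map_cons,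
    List.map_nil, List.sum_cons, List.sum_nil]
  rw [habc 0 (by norm_num), habc 1 (by norm_num), habc 2 (by norm_num), habc 3 (by norm_num),
    habc 4 (by norm_num), habc 5 (by norm_num)]
  ring

theorem t2ed9h10_K_add (s a b c : ℕ) (ha : a < 72) (hb : b < 72) (hc : c < 72)
    (habc : ∀ i < 6, t2ed9h10_co c i = t2ed9h10_co a i + t2ed9h10_co b i) :
    h8K chevE6 s c = h8K chevE6 s a + h8K chevE6 s b := by
  unfold h8K
  rw [← Finset.sum_add_distrib]
  apply Finset.sum_congr rfl
  intro i _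
  have hi : i.val < 6 := i.2
  rw [t2ed9h10_cartan_add a b c ha hb hc habc i.val hi]
  ring

-- ROW D9
theorem chi_add (h : GG K) (hh : h ∈ chevE6.diagonalSubgroup K) (a b c : ℕ) (ha : a < 72)
    (hb : b < 72) (hc : c < 72)
    (habc : ∀ i < 6, (chevE6.coroot.getD c #[]).getD i 0 =
      (chevE6.coroot.getD a #[]).getD i 0 + (chevE6.coroot.getD b #[]).getD i 0) :
    h8chi chevE6 hB h c = h8chi chevE6 hB h a * h8chi chevE6 hB h b := by
  have ha' : a < chevE6.nroots := ha
  have hb' : b < chevE6.nroots := hb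
  have hc' : c < chevE6.nroots := hc
  unfold ChevalleyDatum.diagonalSubgroup at hh
  refine Subgroup.closure_induction
    (p := fun g _ => g ∈ chevE6.diagonalSubgroup K ∧
      h8chi chevE6 hB g c = h8chi chevE6 hB g a * h8chi chevE6 hB g b) ?_ ?_ ?_ ?_ hh |>.2
  · rintro g ⟨s, t, hs, ht, hg⟩
    have e : g = h8hU chevE6 hB s t := by
      apply Units.ext
      rw [hg, h8hU_val]
    subst e
    refine ⟨h8hU_mem_H chevE6 hB s hs t ht, ?_⟩
    rw [h8chi_hU chevE6 hB hA hW s hs t ht c hc', h8chi_hU chevE6 hB hA hW s hs t ht a ha',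
      h8chi_hU chevE6 hB hA hW s hs t ht b hb', t2ed9h10_K_add s a b c ha hb hc habc, zpow_add₀ ht]
  · refine ⟨Subgroup.one_mem _, ?_⟩
    rw [h8chi_one chevE6 hB hA hW c hc', h8chi_one chevE6 hB hA hW a ha', h8chi_one chevE6 hB hA hW b hb',
      mul_one]
  · rintro x y _ _ ⟨hx, ex⟩ ⟨hy, ey⟩
    refine ⟨Subgroup.mul_mem _ hx hy, ?_⟩
    rw [h8chi_mul chevE6 hB hA hW x y hx hy c hc', h8chi_mul chevE6 hB hA hW x y hx hy a ha',
      h8chi_mul chevE6 hB hA hW x y hx hy b hb', ex, ey]
    ring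
  · rintro x _ ⟨hx, ex⟩
    refine ⟨Subgroup.inv_mem _ hx, ?_⟩
    rw [h8chi_inv chevE6 hB hA hW x hx c hc', h8chi_inv chevE6 hB hA hW x hx a ha',
      h8chi_inv chevE6 hB hA hW x hx b hb', ex, mul_inv]

end Cfsg.Agent.Lib.helper3.T2E
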