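import Mathlib
import Cfsg.Agent.Lib.helper3.T2E.Defs3
import Cfsg.Agent.Lib.helper8.ChevTwE6H16

/-!
# T2E (S2108, designer helper3), core of row R10 `exists_lifts` (helper10).

`t2er10h10_core` : the statements of U3 U4 U5 R5 R7 R8 (at the given `q π`) and R9 give `∃ L, Lifts q π L`.
-/

set_option autoImplicit false

namespace Cfsg.Agent.Lib.helper3.T2E

open Cfsg.Lie Cfsg.Lie.ChevalleyDatum Matrix
open Cfsg.Agent.Lib.helper8 Cfsg.Agent.Lib.Helper10.TEM Cfsg.Agent.Lib.helper7.Ce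
  Cfsg.Agent.Lib.helper15.St2

universe u

variable {K : Type u} [Field K] {q : ℕ} {Γ : Type u} [Group Γ]
  {π : Γ →* ↥(twistedE6 K q)}

theorem t2er10h10_wl_nil (r : ℕ) : wl [] r = r := rfl

theorem t2er10h10_wl_cons (k : ℕ) (l : List ℕ) (r : ℕ) : wl (k :: l) r = wk k (wl l r) := by
  unfold wl wk flatO
  rw [List.flatMap_cons, h8sW_append]

theorem t2er10h10_orbW_lt (k : ℕ) : ∀ i ∈ orbW k, i < chevE6.rank := by
  intro i hi
  have h6 : chevE6.rank = 6 := rfl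
  rw [h6]
  rcases k with _ | _ | _ | k <;> simp [orbW] at hi <;> omega

theorem t2er10h10_wk_lt (k r : ℕ) (hr : r < 72) : wk k r < 72 :=
  h8sW_lt chevE6 hA (orbW k) (t2er10h10_orbW_lt k) r hr

theorem t2er10h10_wl_lt (l : List ℕ) (r : ℕ) (hr : r < 72) : wl l r < 72 := by
  induction l with
  | nil => exact hr
  | cons k l ih =>
    rw [t2er10h10_wl_cons]
    exact t2er10h10_wk_lt k _ ih

/-- transport of the weak relations along a word -/
theorem t2er10h10_word {L : ℕ → K → Γ}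
    (hR7 : ∀ k < 4, ∀ a b : ℕ, a < 72 → b < 72 → WRel q L a b → WRel q L (wk k a) (wk k b))
    (l : List ℕ) (hl : ∀ k ∈ l, k < 4) (a b : ℕ) (ha : a < 72) (hb : b < 72) (h : WRel q L a b) :
    WRel q L (wl l a) (wl l b) := by
  induction l with
  | nil => exact h
  | cons k l ih =>
    rw [t2er10h10_wl_cons, t2er10h10_wl_cons]
    exact hR7 k (hl k List.mem_cons_self) _ _ (t2er10h10_wl_lt l a ha) (t2er10h10_wl_lt l b hb)
      (ih (fun j hj => hl j (List.mem_cons_of_mem _ hj)))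

theorem t2er10h10_rep_lt : ∀ p ∈ repPairs, p.1 < 72 ∧ p.2 < 72 := by decide

/-- core of R10 -/
theorem t2er10h10_core
    (hU3 : ∃ L : ℕ → K → Γ, ∀ r < 72, IsRootLift q π r (L r))
    (hU4 : ∀ {L : ℕ → K → Γ}, (∀ r < 72, IsRootLift q π r (L r)) →
      ∀ r < 72, ∀ t, Adm q r t → L (h8sE6 r) (((h8eE6 r : ℤ) : K) * t ^ q) = L r t)
    (hU5 : ∀ {L : ℕ → K → Γ}, (∀ r < 72, IsRootLift q π r (L r)) →
      ∀ γ : Γ, pm π γ ∈ chevE6.monomialSubgroup K → ∀ r < 72, ∀ r' < 72, ∀ κ : K,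
        (∀ t, pm π γ * X r t * (pm π γ)⁻¹ = X r' (κ * t)) →
          ∀ t, Adm q r t → γ * L r t * γ⁻¹ = L r' (κ * t))
    (hR5 : ∀ {L : ℕ → K → Γ}, (∀ r < 72, IsRootLift q π r (L r)) →
      ∀ p ∈ repPairs, WRel q L p.1 p.2)
    (hR7 : ∀ {L : ℕ → K → Γ}, (∀ r < 72, IsRootLift q π r (L r)) → ∀ (k : ℕ), k < 4 →
      ∀ (a b : ℕ), a < 72 → b < 72 → WRel q L a b → WRel q L (wk k a) (wk k b))
    (hR8 : ∀ {L : ℕ → K → Γ}, (∀ r < 72, IsRootLift q π r (L r)) →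
      ∀ (a b : ℕ), a < 72 → b < 72 → WRel q L a b →
        WRel q L (h8sE6 a) b ∧ WRel q L a (h8sE6 b))
    (hR9 : ∀ a, 36 ≤ a → a < 72 → ∀ b, 36 ≤ b → b < 72 → Indep a b →
      ∃ p ∈ repPairs, ∃ l : List ℕ, (∀ k ∈ l, k < 4) ∧ (wl l p.1 = a ∨ wl l p.1 = h8sE6 a) ∧
        (wl l p.2 = b ∨ wl l p.2 = h8sE6 b)) :
    ∃ L : ℕ → K → Γ, Lifts q π L := by
  obtain ⟨L, hL⟩ := hU3
  refine ⟨L, hL, hU4 hL, hU5 hL, ?_⟩
  intro a ha36 ha b hb36 hb hind
  obtain ⟨p, hp, l, hl, h1, h2⟩ := hR9 a ha36 ha b hb36 hb hind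
  have hp72 : p.1 < 72 ∧ p.2 < 72 := t2er10h10_rep_lt p hp
  have h0 : WRel q L (wl l p.1) (wl l p.2) :=
    t2er10h10_word (hR7 hL) l hl p.1 p.2 hp72.1 hp72.2 (hR5 hL p hp)
  have hσa : h8sE6 a < 72 := (root_data a ha).2.2.1
  have hσb : h8sE6 b < 72 := (root_data b hb).2.2.1
  have hσσa : h8sE6 (h8sE6 a) = a := (root_data a ha).2.2.2.1
  have hσσb : h8sE6 (h8sE6 b) = b := (root_data b hb).2.2.2.1
  -- first argument
  have h3 : WRel q L a (wl l p.2) := by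
    rcases h1 with h1 | h1
    · rw [h1] at h0; exact h0
    · rw [h1] at h0
      have := (hR8 hL (h8sE6 a) (wl l p.2) hσa (t2er10h10_wl_lt l p.2 hp72.2) h0).1
      rw [hσσa] at this
      exact this
  have h4 : WRel q L a b := by
    rcases h2 with h2 | h2
    · rw [h2] at h3; exact h3
    · rw [h2] at h3
      have := (hR8 hL a (h8sE6 b) ha hσb h3).2
      rw [hσσb] at this
      exact this
  exact h4

end Cfsg.Agent.Lib.helper3.T2E
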