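import Mathlib
import Cfsg.Agent.Lib.helper3.T2E.Defs3
import Cfsg.Agent.Lib.helper8.ChevTwE6H16
import Cfsg.Agent.Lib.Helper28.T2ED3

/-!
# T2E (S2108, designer helper3), cores of rows U3 `exists_family` and U4 `family_sig` (helper10).

* `t2eu3h10_core` : the statements of S2 `short_lift` and L6 `long_lift` (at the given `q π`) give the family.
* `t2eu4h10_core` : the statement of U1 `IsRootLift.unique` (at the given `q π`) gives `family_sig` (D3 `XT_sig` is landed and imported).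
-/

set_option autoImplicit false

namespace Cfsg.Agent.Lib.helper3.T2E

open Cfsg.Lie Cfsg.Lie.ChevalleyDatum Matrix
open Cfsg.Agent.Lib.helper8 Cfsg.Agent.Lib.Helper10.TEM Cfsg.Agent.Lib.helper7.Ce
  Cfsg.Agent.Lib.helper15.St2

universe u

variable {K : Type u} [Field K] {q : ℕ} {f : K ≃+* K} {Γ : Type u} [Group Γ]
  {π : Γ →* ↥(twistedE6 K q)}

/-- core of U3 -/
theorem t2eu3h10_core
    (hS2 : ∀ r < 72, h8sE6 r ≠ r → ∃ L : K → Γ, IsRootLift q π r L)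
    (hL6 : ∀ r < 72, h8sE6 r = r → ∃ L : K → Γ, IsRootLift q π r L) :
    ∃ L : ℕ → K → Γ, ∀ r < 72, IsRootLift q π r (L r) := by
  have h : ∀ r : ℕ, ∃ L : K → Γ, r < 72 → IsRootLift q π r L := by
    intro r
    by_cases hr : r < 72
    · by_cases hσ : h8sE6 r = r
      · obtain ⟨L, hL⟩ := hL6 r hr hσ
        exact ⟨L, fun _ => hL⟩
      · obtain ⟨L, hL⟩ := hS2 r hr hσ
        exact ⟨L, fun _ => hL⟩
    · exact ⟨fun _ => 1, fun h => absurd h hr⟩
  choose L hL using h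
  exact ⟨L, hL⟩

/-- the twisted copy of the lift at `σ r` is a root lift at `r` -/
theorem t2eu4h10_twist (hF : Frob q f) {L : ℕ → K → Γ} (hL : ∀ r < 72, IsRootLift q π r (L r))
    (r : ℕ) (hr : r < 72) :
    IsRootLift q π r (fun t => L (h8sE6 r) (((h8eE6 r : ℤ) : K) * t ^ q)) := by
  have hσr : h8sE6 r < 72 := (root_data r hr).2.2.1
  have hr' : r < chevE6.nroots := hr
  have hL' := hL (h8sE6 r) hσr
  constructor
  · intro t ht
    obtain ⟨h1, h2⟩ := XT_sig hF r hr t ht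
    show pm π (L (h8sE6 r) (((h8eE6 r : ℤ) : K) * t ^ q)) = XT q r t
    rw [hL'.map _ h1, h2]
  · intro s t hs ht
    show L (h8sE6 r) (((h8eE6 r : ℤ) : K) * (s + t) ^ q) =
      L (h8sE6 r) (((h8eE6 r : ℤ) : K) * s ^ q) * L (h8sE6 r) (((h8eE6 r : ℤ) : K) * t ^ q)
    have e : (s + t) ^ q = s ^ q + t ^ q := by
      rw [← hF.pow, ← hF.pow, ← hF.pow, map_add]
    rw [e, mul_add]
    exact hL'.add _ _ (XT_sig hF r hr s hs).1 (XT_sig hF r hr t ht).1
  · intro γ hγ t ht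
    show γ * L (h8sE6 r) (((h8eE6 r : ℤ) : K) * t ^ q) * γ⁻¹ =
      L (h8sE6 r) (((h8eE6 r : ℤ) : K) * (h8chi chevE6 hB (pm π γ) r * t) ^ q)
    rw [hL'.tor γ hγ _ (XT_sig hF r hr t ht).1]
    have hmem : pm π γ ∈ twistedE6 K q := (π γ).2
    have hfix : h8Sig chevE6 h8sE6 h8tE6 h8pE6 h8qE6 h8eE6 hAut f (pm π γ) = pm π γ :=
      sig_fix hF _ hmem
    have hχ := h8chi_sig chevE6 hB hA hW h8sE6 h8tE6 h8pE6 h8qE6 h8eE6 hAut f (pm π γ) hγ hfix r hr'
    rw [hχ, hF.pow, mul_pow]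
    congr 1
    ring

/-- core of U4 -/
theorem t2eu4h10_core (hF : Frob q f)
    (hU1 : ∀ {r : ℕ}, r < 72 → ∀ {L L' : K → Γ}, IsRootLift q π r L → IsRootLift q π r L' →
      ∀ t, Adm q r t → L t = L' t)
    {L : ℕ → K → Γ} (hL : ∀ r < 72, IsRootLift q π r (L r)) :
    ∀ r < 72, ∀ t, Adm q r t → L (h8sE6 r) (((h8eE6 r : ℤ) : K) * t ^ q) = L r t := by
  intro r hr t ht
  exact hU1 hr (t2eu4h10_twist hF hL r hr) (hL r hr) t ht

end Cfsg.Agent.Lib.helper3.T2E
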