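import Mathlib
import Cfsg.Agent.Lib.helper3.T2E.Defs3
import Cfsg.Agent.Lib.helper8.ChevTwE6H16
import Cfsg.Agent.Lib.Helper10.T2EU4core
import Cfsg.Agent.Lib.helper15.T2EU1

/-!
# T2E (S2108, designer helper3), row U4 `family_sig` (helper10), VERBATIM vs `helper3/T2E/SkelA.lean.txt`.
-/

set_option autoImplicit false

namespace Cfsg.Agent.Lib.helper3.T2E

open Cfsg.Lie Cfsg.Lie.ChevalleyDatum Matrix
open Cfsg.Agent.Lib.helper8 Cfsg.Agent.Lib.Helper10.TEM Cfsg.Agent.Lib.helper7.Ce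
  Cfsg.Agent.Lib.helper15.St2

universe u

variable {K : Type u} [Field K] {q : ℕ} {f : K ≃+* K} {Γ : Type u} [Group Γ]
  {π : Γ →* ↥(twistedE6 K q)}

-- ROW U4 [M]
theorem family_sig [Fintype K] (hq : IsPrimePow q) (hK : Fintype.card K = q ^ 2) (h2 : q ≠ 2)
    (hF : Frob q f) (hπ : IsCE π) {L : ℕ → K → Γ} (hL : ∀ r < 72, IsRootLift q π r (L r)) :
    ∀ r < 72, ∀ t, Adm q r t → L (h8sE6 r) (((h8eE6 r : ℤ) : K) * t ^ q) = L r t :=
  t2eu4h10_core hF (fun hr _ _ h h' => IsRootLift.unique hq hK h2 hF hπ hr h h') hL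

end Cfsg.Agent.Lib.helper3.T2E
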