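import Mathlib
import Cfsg.Agent.Lib.helper17.T3.Defs
import Cfsg.Agent.Lib.Helper19.T3A.Defs
import Cfsg.Agent.Lib.Helper19.T3A.Comb
import Cfsg.Agent.Lib.helper23.CEUE1

/-!
# Project T3A (sub-designer helper19), row A1 (helper10): the norm of the cubic datum.
RENAMED (ruling of helper19, msg 16345): T3A row A1 = T3C row A1b; cite `Cub.nm_ne_zero` / `Cub.nm_one` only through
`import Cfsg.Agent.Lib.Helper21.T3CA1b`. This file keeps own-name copies (prefix `t3aa1h10_`) so that it can never clash.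
-/

set_option autoImplicit false

namespace Cfsg.Agent.Lib.helper17.T3

open Matrix Cfsg.Agent.Lib.helper15.St2 Cfsg.Agent.Lib.helper7.Ce Cfsg.Agent.Lib.helper7.CEU Cfsg.Agent.Lib.Helper19.T3A

variable {F K : Type*} [Field F] [Field K] [Algebra F K]

theorem Cub.t3aa1h10_nm_ne_zero (C : Cub F K) {t : K} (ht : t ≠ 0) : C.nm t ≠ 0 := by
  intro h
  have h1 := C.hnm t
  rw [h, map_zero] at h1
  have h2 : C.θ t ≠ 0 := (map_ne_zero C.θ).2 ht
  have h3 : C.θ (C.θ t) ≠ 0 := (map_ne_zero C.θ).2 h2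
  exact mul_ne_zero (mul_ne_zero ht h2) h3 h1.symm

theorem Cub.t3aa1h10_nm_one (C : Cub F K) : C.nm 1 = 1 := by
  apply (algebraMap F K).injective
  rw [C.hnm, map_one, map_one, map_one, mul_one, mul_one]

end Cfsg.Agent.Lib.helper17.T3
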