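import Mathlib
import Cfsg.Agent.Lib.helper17.T3.Defs
import Cfsg.Agent.Lib.Helper19.T3A.Defs
import Cfsg.Agent.Lib.Helper19.T3A.Comb
import Cfsg.Agent.Lib.helper23.CEUE1

/-!
# Project T3A (sub-designer helper19), rows R1 R2 R3 (helper10), VERBATIM: rank one.

Extras (prefix `t3ar1h10_`): the rank one identities for an arbitrary `St K Γ` with a homomorphism from `SL₂(K)`.
-/

set_option autoImplicit false

namespace Cfsg.Agent.Lib.helper17.T3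

open Matrix Cfsg.Agent.Lib.helper15.St2 Cfsg.Agent.Lib.helper7.Ce Cfsg.Agent.Lib.helper7.CEU Cfsg.Agent.Lib.Helper19.T3A

section rankone

variable {K : Type*} [Field K]

/-- the Weyl matrix -/
def t3ar1h10_wm (t : K) : SpecialLinearGroup (Fin 2) K := xm t * ym (-t⁻¹) * xm t

theorem t3ar1h10_wm_coe (t : K) (ht : t ≠ 0) :
    ((t3ar1h10_wm t : SpecialLinearGroup (Fin 2) K) : Matrix (Fin 2) (Fin 2) K) = !![0, t; -t⁻¹, 0] :=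
  wm_coe t ht

theorem t3ar1h10_wm_one_inv : (t3ar1h10_wm (1 : K))⁻¹ = t3ar1h10_wm (-1) := by
  apply inv_eq_of_mul_eq_one_right
  apply Subtype.ext
  rw [mul_coe', t3ar1h10_wm_coe 1 one_ne_zero, t3ar1h10_wm_coe (-1) (by simp), Matrix.mul_fin_two]
  simp [Matrix.one_fin_two]

theorem t3ar1h10_hm_coe (t : K) (ht : t ≠ 0) :
    ((t3ar1h10_wm t * (t3ar1h10_wm (1 : K))⁻¹ : SpecialLinearGroup (Fin 2) K) : Matrix (Fin 2) (Fin 2) K) =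
      !![t, 0; 0, t⁻¹] := by
  rw [t3ar1h10_wm_one_inv, mul_coe', t3ar1h10_wm_coe t ht, t3ar1h10_wm_coe (-1) (by simp), Matrix.mul_fin_two]
  refine eq_of2 ?_ ?_ ?_ ?_ <;> simp

theorem t3ar1h10_hm_mul {t u : K} (ht : t ≠ 0) (hu : u ≠ 0) :
    t3ar1h10_wm (t * u) * (t3ar1h10_wm (1 : K))⁻¹ =
      t3ar1h10_wm t * (t3ar1h10_wm (1 : K))⁻¹ * (t3ar1h10_wm u * (t3ar1h10_wm (1 : K))⁻¹) := by
  apply Subtype.ext
  rw [mul_coe' (t3ar1h10_wm t * (t3ar1h10_wm (1 : K))⁻¹), t3ar1h10_hm_coe _ (mul_ne_zero ht hu),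
    t3ar1h10_hm_coe t ht, t3ar1h10_hm_coe u hu, Matrix.mul_fin_two]
  refine eq_of2 ?_ ?_ ?_ ?_ <;> simp [mul_comm]

theorem t3ar1h10_wm_sq :
    t3ar1h10_wm (1 : K) * t3ar1h10_wm (1 : K) = t3ar1h10_wm (-1 : K) * (t3ar1h10_wm (1 : K))⁻¹ := by
  apply Subtype.ext
  rw [t3ar1h10_hm_coe (-1 : K) (by simp), mul_coe', t3ar1h10_wm_coe 1 one_ne_zero, Matrix.mul_fin_two]
  refine eq_of2 ?_ ?_ ?_ ?_ <;> simp

variable {Γ : Type*} [Group Γ]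

theorem t3ar1h10_w_eq (T : St K Γ) (ρ : SpecialLinearGroup (Fin 2) K →* Γ)
    (hρ : ∀ t : K, ρ (xm t) = T.x t ∧ ρ (ym t) = T.y t) (t : K) : T.w t = ρ (t3ar1h10_wm t) := by
  unfold t3ar1h10_wm
  rw [map_mul, map_mul, (hρ t).1, (hρ _).2, T.w_def]

theorem t3ar1h10_st_hmul (T : St K Γ) (ρ : SpecialLinearGroup (Fin 2) K →* Γ)
    (hρ : ∀ t : K, ρ (xm t) = T.x t ∧ ρ (ym t) = T.y t) {t u : K} (ht : t ≠ 0) (hu : u ≠ 0) :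
    T.w (t * u) * (T.w 1)⁻¹ = T.w t * (T.w 1)⁻¹ * (T.w u * (T.w 1)⁻¹) := by
  simp only [t3ar1h10_w_eq T ρ hρ]
  rw [← map_inv, ← map_mul, ← map_mul, ← map_mul, ← map_mul, t3ar1h10_hm_mul ht hu]

theorem t3ar1h10_st_wsq (T : St K Γ) (ρ : SpecialLinearGroup (Fin 2) K →* Γ)
    (hρ : ∀ t : K, ρ (xm t) = T.x t ∧ ρ (ym t) = T.y t) :
    T.w 1 * T.w 1 = T.w (-1) * (T.w 1)⁻¹ := by
  simp only [t3ar1h10_w_eq T ρ hρ]
  rw [← map_inv, ← map_mul, ← map_mul, t3ar1h10_wm_sq]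

end rankone

variable {F K : Type*} [Field F] [Field K] [Algebra F K]

namespace SysT

variable {C : Cub F K} {Γ : Type*} [Group Γ] (Q : SysT C Γ)

theorem t3ar1h10_sts_x (k : ZMod 6) (t : K) : (Q.sts k).x t = Q.xs k t := rfl

theorem t3ar1h10_sts_y (k : ZMod 6) (t : K) : (Q.sts k).y t = Q.xs (k + 3) (-t) := rfl

theorem t3ar1h10_stl_x (k : ZMod 6) (c : F) : (Q.stl k).x c = Q.xl k c := rfl

theorem t3ar1h10_stl_y (k : ZMod 6) (c : F) : (Q.stl k).y c = Q.xl (k + 3) (-c) := rfl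

theorem t3ar1h10_sts_w (k : ZMod 6) (t : K) : (Q.sts k).w t = Q.ws k t := by
  rw [St.w_def, t3ar1h10_sts_x, t3ar1h10_sts_y, neg_neg]
  rfl

theorem t3ar1h10_stl_w (k : ZMod 6) (c : F) : (Q.stl k).w c = Q.wl k c := by
  rw [St.w_def, t3ar1h10_stl_x, t3ar1h10_stl_y, neg_neg]
  rfl

-- ROW R1
theorem exists_rho_s [Finite K] (k : ZMod 6) : ∃ ρ : SpecialLinearGroup (Fin 2) K →* Γ,
    ∀ t : K, ρ (xm t) = Q.xs k t ∧ ρ (ym t) = Q.xs (k + 3) (-t) := by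
  obtain ⟨ρ, hρ⟩ := lift_sl2_of_st (Q.sts k)
  exact ⟨ρ, fun t => ⟨(hρ t).1, (hρ t).2⟩⟩

theorem exists_rho_l [Finite K] (k : ZMod 6) : ∃ ρ : SpecialLinearGroup (Fin 2) F →* Γ,
    ∀ c : F, ρ (xm c) = Q.xl k c ∧ ρ (ym c) = Q.xl (k + 3) (-c) := by
  haveI := finite_F F K
  obtain ⟨ρ, hρ⟩ := lift_sl2_of_st (Q.stl k)
  exact ⟨ρ, fun t => ⟨(hρ t).1, (hρ t).2⟩⟩

-- ROW R2
theorem hs_mul [Finite K] (k : ZMod 6) {t u : K} (ht : t ≠ 0) (hu : u ≠ 0) : Q.hs k (t * u) = Q.hs k t * Q.hs k u := by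
  obtain ⟨ρ, hρ⟩ := lift_sl2_of_st (Q.sts k)
  have h := t3ar1h10_st_hmul (Q.sts k) ρ hρ ht hu
  simp only [t3ar1h10_sts_w] at h
  exact h

theorem ws_sq [Finite K] (k : ZMod 6) : Q.ws k 1 * Q.ws k 1 = Q.hs k (-1) := by
  obtain ⟨ρ, hρ⟩ := lift_sl2_of_st (Q.sts k)
  have h := t3ar1h10_st_wsq (Q.sts k) ρ hρ
  simp only [t3ar1h10_sts_w] at h
  exact h

theorem xs_opp (k : ZMod 6) {t : K} (ht : t ≠ 0) : Q.xs (k + 3) t = Q.xs k (-t⁻¹) * Q.ws k t⁻¹ * Q.xs k (-t⁻¹) := by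
  have h := (Q.sts k).y_eq (-t)
  rw [t3ar1h10_sts_y, t3ar1h10_sts_x, t3ar1h10_sts_w, neg_neg, inv_neg, neg_neg] at h
  exact h

-- ROW R3
theorem hl_mul [Finite K] (k : ZMod 6) {c d : F} (hc : c ≠ 0) (hd : d ≠ 0) : Q.hl k (c * d) = Q.hl k c * Q.hl k d := by
  haveI := finite_F F K
  obtain ⟨ρ, hρ⟩ := lift_sl2_of_st (Q.stl k)
  have h := t3ar1h10_st_hmul (Q.stl k) ρ hρ hc hd
  simp only [t3ar1h10_stl_w] at h
  exact h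

theorem wl_sq [Finite K] (k : ZMod 6) : Q.wl k 1 * Q.wl k 1 = Q.hl k (-1) := by
  haveI := finite_F F K
  obtain ⟨ρ, hρ⟩ := lift_sl2_of_st (Q.stl k)
  have h := t3ar1h10_st_wsq (Q.stl k) ρ hρ
  simp only [t3ar1h10_stl_w] at h
  exact h

theorem xl_opp (k : ZMod 6) {c : F} (hc : c ≠ 0) : Q.xl (k + 3) c = Q.xl k (-c⁻¹) * Q.wl k c⁻¹ * Q.xl k (-c⁻¹) := by
  have h := (Q.stl k).y_eq (-c)
  rw [t3ar1h10_stl_y, t3ar1h10_stl_x, t3ar1h10_stl_w, neg_neg, inv_neg, neg_neg] at h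
  exact h

end SysT

end Cfsg.Agent.Lib.helper17.T3
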