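import Mathlib
import Cfsg.Agent.Lib.helper17.T3.Defs
import Cfsg.Agent.Lib.Helper19.T3A.Defs
import Cfsg.Agent.Lib.Helper19.T3A.Comb
import Cfsg.Agent.Lib.helper23.CEUE1
import Cfsg.Agent.Lib.Helper10.T3AR1

/-!
# Project T3A (sub-designer helper19), row T6 (helper10), VERBATIM: `n_s ^ 2 ∈ Tor`.
(uses my landed rows R2 `ws_sq`, R3 `wl_sq`; the two facts of T2 / U0 that it needs are proved inline as extras `t3at6h10_*`.)
-/

set_option autoImplicit false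

namespace Cfsg.Agent.Lib.helper17.T3

open Matrix Cfsg.Agent.Lib.helper15.St2 Cfsg.Agent.Lib.helper7.Ce Cfsg.Agent.Lib.helper7.CEU Cfsg.Agent.Lib.Helper19.T3A

variable {F K : Type*} [Field F] [Field K] [Algebra F K]

namespace SysT

variable {C : Cub F K} {Γ : Type*} [Group Γ] (Q : SysT C Γ)

theorem t3at6h10_hs_one (k : ZMod 6) : Q.hs k 1 = 1 := by
  unfold SysT.hs; exact mul_inv_cancel _

theorem t3at6h10_hl_one (k : ZMod 6) : Q.hl k 1 = 1 := by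
  unfold SysT.hl; exact mul_inv_cancel _

theorem t3at6h10_hs_mem_Tor {t : K} (ht : t ≠ 0) : Q.hs 0 t ∈ Q.Tor :=
  Subgroup.subset_closure ⟨t, 1, ht, one_ne_zero, by rw [t3at6h10_hl_one, mul_one]⟩

theorem t3at6h10_hl_mem_Tor {c : F} (hc : c ≠ 0) : Q.hl 2 c ∈ Q.Tor :=
  Subgroup.subset_closure ⟨1, c, one_ne_zero, hc, by rw [t3at6h10_hs_one, one_mul]⟩

-- ROW T6
theorem nS_sq_mem_Tor [Finite K] (s : Bool) : Q.nS s * Q.nS s ∈ Q.Tor := by
  cases s
  · have e : Q.nS false = Q.wl 2 1 := rfl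
    rw [e, Q.wl_sq 2]
    exact Q.t3at6h10_hl_mem_Tor (neg_ne_zero.2 one_ne_zero)
  · have e : Q.nS true = Q.ws 0 1 := rfl
    rw [e, Q.ws_sq 0]
    exact Q.t3at6h10_hs_mem_Tor (neg_ne_zero.2 one_ne_zero)

end SysT

end Cfsg.Agent.Lib.helper17.T3
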