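import Mathlib
import Cfsg.Agent.Lib.Helper28.T9.Defs

/-!
# Project T9 (S5559), piece Q2 : restrict a configuration to the fixed points of a normal subgroup
-/

set_option autoImplicit false

namespace Cfsg.Agent.Lib.Helper28.T9

universe u v

section abstract

variable {X : Type u} [Group X] {V : Type v} [AddCommGroup V] [DistribMulAction X V] {E : Set X}

/-- PIECE Q2 : restrict to the fixed points of a normal subgroup. -/
theorem cfg_fixed (h : Cfg X V E) (M : Subgroup X) [M.Normal] : Cfg X ↥(fixedSub M V) E where
  ne_one := h.ne_one
  sq := h.sq
  conj := h.conj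
  cube := h.cube
  gen := h.gen
  three := h.three
  two := fun u => Subtype.ext (h.two (u : V))
  star := by
    intro a ha b hb hab u hu
    apply Subtype.ext
    rw [coe_smul_fixed]
    apply h.star a ha b hb hab (u : V)
    have := congrArg (fun w : ↥(fixedSub M V) => (w : V)) hu
    simpa only [coe_smul_fixed] using this

end abstract

end Cfsg.Agent.Lib.Helper28.T9
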