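import Mathlib
import Cfsg.Agent.Lib.Helper28.T9.Defs

/-!
# Project T9 (S5559), piece Q3 : pass to the subgroup generated by a subset closed under conjugation
-/

set_option autoImplicit false

namespace Cfsg.Agent.Lib.Helper28.T9

universe u v

section abstract

variable {X : Type u} [Group X] {V : Type v} [AddCommGroup V] [DistribMulAction X V] {E : Set X}

/-- the products of the lifted set land in `prodSub E` -/
theorem h10_coe_mem_prodSub (E₀ : Set X) (hE₀ : E₀ ⊆ E)
    (y : ↥(Subgroup.closure E₀))
    (hy : y ∈ prodSub {y : ↥(Subgroup.closure E₀) | (y : X) ∈ E₀}) :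
    (y : X) ∈ prodSub E := by
  have hle : prodSub {y : ↥(Subgroup.closure E₀) | (y : X) ∈ E₀} ≤
      (prodSub E).comap (Subgroup.closure E₀).subtype := by
    unfold prodSub
    rw [Subgroup.closure_le]
    rintro g ⟨a, ha, b, hb, rfl⟩
    show ((a * b : ↥(Subgroup.closure E₀)) : X) ∈ Subgroup.closure (prodSet E)
    exact Subgroup.subset_closure ⟨(a : X), hE₀ ha, (b : X), hE₀ hb, rfl⟩
  exact hle hy

/-- PIECE Q3 : pass to the subgroup generated by a subset closed under conjugation. -/
theorem cfg_sub (h : Cfg X V E) (hf : Faith X V) (E₀ : Set X) (hE₀ : E₀ ⊆ E)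
    (hconj : ∀ a ∈ E₀, ∀ b ∈ E₀, a * b * a ∈ E₀) :
    Cfg ↥(Subgroup.closure E₀) V {y : ↥(Subgroup.closure E₀) | (y : X) ∈ E₀} ∧
    Faith ↥(Subgroup.closure E₀) V ∧
    {y : ↥(Subgroup.closure E₀) | (y : X) ∈ E₀}.ncard = E₀.ncard := by
  refine ⟨?_, ?_, ?_⟩
  · refine
      { ne_one := ?_
        sq := ?_
        conj := ?_
        cube := ?_
        gen := ?_
        three := ?_
        two := h.two
        star := ?_ }
    · intro a ha ha1
      apply h.ne_one (a : X) (hE₀ ha)
      rw [ha1]; rfl
    · intro a ha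
      apply Subtype.ext
      exact h.sq (a : X) (hE₀ ha)
    · intro a ha b hb
      exact hconj (a : X) ha (b : X) hb
    · intro a ha b hb
      apply Subtype.ext
      exact h.cube (a : X) (hE₀ ha) (b : X) (hE₀ hb)
    · exact Subgroup.closure_closure_coe_preimage
    · intro g
      obtain ⟨k, hk⟩ := h.three ⟨((g : ↥(Subgroup.closure E₀)) : X),
        h10_coe_mem_prodSub E₀ hE₀ (g : ↥(Subgroup.closure E₀)) g.2⟩
      refine ⟨k, ?_⟩
      apply Subtype.ext
      apply Subtype.ext
      have := congrArg (fun w : ↥(prodSub E) => (w : X)) hk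
      simpa using this
    · intro a ha b hb hab v hv
      have hab' : (a : X) ≠ (b : X) := fun hh => hab (Subtype.ext hh)
      exact h.star (a : X) (hE₀ ha) (b : X) (hE₀ hb) hab' v hv
  · intro g hg
    apply Subtype.ext
    exact hf (g : X) hg
  · have himg : (Subtype.val : ↥(Subgroup.closure E₀) → X) ''
        {y : ↥(Subgroup.closure E₀) | (y : X) ∈ E₀} = E₀ := by
      ext x
      constructor
      · rintro ⟨y, hy, rfl⟩
        exact hy
      · intro hx
        exact ⟨⟨x, Subgroup.subset_closure hx⟩, hx, rfl⟩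
    have hc := Set.ncard_image_of_injective
      {y : ↥(Subgroup.closure E₀) | (y : X) ∈ E₀} Subtype.val_injective
    rw [himg] at hc
    exact hc.symm

end abstract

end Cfsg.Agent.Lib.Helper28.T9
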