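import Mathlib
import Cfsg.Agent.Lib.Helper10.TEM.Defs

/-! # TEM D1 : the normal form `g = u t v n` in `²E₆(q)` (`n` rational) -/

set_option autoImplicit false

namespace Cfsg.Agent.Lib.Helper10.TEM

open Cfsg.Lie Cfsg.Lie.ChevalleyDatum Matrix
open Cfsg.Agent.Lib.helper8

universe u

variable {K : Type u} [Field K] {q : ℕ} {f : K ≃+* K} {M H : Subgroup (GG K)}

theorem temd1_rat_iff (hF : Frob q f) (g : GG K) :
    Rat q g ↔ h8Psi chevE6 (f : K →+* K) g = g := by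
  constructor
  · intro h
    apply Units.ext
    rw [h8Psi_val]
    ext i j
    rw [Matrix.map_apply]
    show f _ = _
    rw [hF.pow]
    exact h i j
  · intro h i j
    have h1 := congrArg (fun x : GG K => (x : Matrix chevE6.Idx chevE6.Idx K) i j) h
    simp only [h8Psi_val, Matrix.map_apply] at h1
    rw [← hF.pow]
    exact h1

/-- the rational elements form a subgroup -/
theorem temd1_rat_closure (hF : Frob q f) (S : Set (GG K)) (hS : ∀ x ∈ S, Rat q x) (g : GG K)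
    (hg : g ∈ Subgroup.closure S) : Rat q g := by
  rw [temd1_rat_iff hF]
  have hle : Subgroup.closure S ≤
      (h8Psi chevE6 (f : K →+* K)).eqLocus (MonoidHom.id (GG K)) := by
    rw [Subgroup.closure_le]
    intro x hx
    exact (temd1_rat_iff hF x).mp (hS x hx)
  exact hle hg

theorem nf (hF : Frob q f) (g : GG K) (hg : g ∈ twistedE6 K q) :
    ∃ u ∈ U1 K q, ∃ t ∈ T1 K q, ∃ v ∈ V1 K q, ∃ n ∈ twistedE6 K q, Rat q n ∧
      g = u * t * v * n := by
  have hσpos : ∀ r, chevE6.IsPosRoot r → chevE6.IsPosRoot (h8sE6 r) := fun r hr => (sigp r hr).1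
  have hG1 : twistedE6 K q ≤ chevE6.group K := h8gen_le_group chevE6 hB _
  obtain ⟨u1, hu1, m, hm, u', hu', hu'G, rfl⟩ := h8tw_normal_G1 chevE6 hB hA hC hBN hW hO hO2
    h8sE6 h8tE6 h8pE6 h8qE6 h8eE6 hAut f hσpos (twistedE6 K q) hG1 (sig_fix hF) (U_fix hF) g hg
  have hnJ := h8twE6_nJ (K := K) hB hC q hF.neg
  obtain ⟨n', hn', hd⟩ := h8tw_N_gen chevE6 hB hB.{0} hA hBN hW hO2 h8sE6 h8tE6 h8pE6 h8qE6
    h8eE6 hAut f (h8mkRho chevE6 h8sE6 h8tE6 h8pE6 h8qE6 h8eE6 hAut) (fun r => rfl) h8piE6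
    h8orbsE6 (h8twE6 hA hBN) (twistedE6 K q) (sig_fix hF) hnJ m hm.1 hm.2
  -- properties of `n'`
  have hn'G : n' ∈ twistedE6 K q := by
    have hle : Subgroup.closure {x : GG K | ∃ J ∈ h8orbsE6, x = h8nWU chevE6 hB (J.map Fin.val)} ≤
        twistedE6 K q := by
      rw [Subgroup.closure_le]
      rintro x ⟨J, hJ, rfl⟩
      exact hnJ J hJ
    exact hle hn'
  have hn'N : n' ∈ chevE6.monomialSubgroup K := by
    have hle : Subgroup.closure {x : GG K | ∃ J ∈ h8orbsE6, x = h8nWU chevE6 hB (J.map Fin.val)} ≤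
        chevE6.monomialSubgroup K := by
      rw [Subgroup.closure_le]
      rintro x ⟨J, hJ, rfl⟩
      exact h8nWU_mem_N chevE6 hB hA _ (h8J_lt chevE6 J)
    exact hle hn'
  have hn'R : Rat q n' := by
    apply temd1_rat_closure hF _ _ n' hn'
    rintro x ⟨J, hJ, rfl⟩
    rw [temd1_rat_iff hF]
    exact h8Psi_nWU chevE6 hB hB _ _
  -- the torus part
  obtain ⟨dep, par, horb⟩ := hBN.orb
  have hNH := h8N_le_normalizer_H (F := K) chevE6 hB hA dep par horb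
  have htd : m * n'⁻¹ ∈ chevE6.diagonalSubgroup K := by
    have h1 := (Subgroup.mem_normalizer_iff.mp (hNH hn'N) (n'⁻¹ * m)).mp hd
    have e : n' * (n'⁻¹ * m) * n'⁻¹ = m * n'⁻¹ := by group
    rwa [e] at h1
  have htG : m * n'⁻¹ ∈ twistedE6 K q :=
    Subgroup.mul_mem _ hm.2 (Subgroup.inv_mem _ hn'G)
  -- the negative unipotent part
  have hV1 : m * u' * m⁻¹ ∈ chevE6.negUnipotent K := h8Um_conj_mem_V chevE6 hB m u' hu'
  have hHV := h8_H_le_normalizer_V (F := K) chevE6 hB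
  have hvV : n' * u' * n'⁻¹ ∈ chevE6.negUnipotent K := by
    have h1 := (Subgroup.mem_normalizer_iff.mp (hHV (Subgroup.inv_mem _ htd))
      (m * u' * m⁻¹)).mp hV1
    have e : (m * n'⁻¹)⁻¹ * (m * u' * m⁻¹) * (m * n'⁻¹)⁻¹⁻¹ = n' * u' * n'⁻¹ := by group
    rwa [e] at h1
  have hvG : n' * u' * n'⁻¹ ∈ twistedE6 K q :=
    Subgroup.mul_mem _ (Subgroup.mul_mem _ hn'G hu'G) (Subgroup.inv_mem _ hn'G)
  refine ⟨u1, hu1, m * n'⁻¹, ⟨htd, htG⟩, n' * u' * n'⁻¹, ⟨hvV, hvG⟩, n', hn'G, hn'R, ?_⟩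
  group

end Cfsg.Agent.Lib.Helper10.TEM
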