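import Mathlib

set_option autoImplicit false

namespace Cfsg.Agent.Lib.Helper10.TW

variable {G : Type*} [Group G]

/-- The core in `M` of `X`, as a subgroup of the ambient group. -/
def coreIn (M X : Subgroup G) : Subgroup G := ((X.subgroupOf M).normalCore).map M.subtype

theorem mem_coreIn {M X : Subgroup G} {x : G} :
    x ∈ coreIn M X ↔ x ∈ M ∧ ∀ m ∈ M, m * x * m⁻¹ ∈ X := by
  unfold coreIn
  constructor
  · rintro ⟨y, hy, rfl⟩
    refine ⟨y.2, fun m hm => ?_⟩
    have := hy ⟨m, hm⟩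
    rw [Subgroup.mem_subgroupOf] at this
    simpa using this
  · rintro ⟨hxM, h⟩
    refine ⟨⟨x, hxM⟩, ?_, rfl⟩
    intro m
    rw [Subgroup.mem_subgroupOf]
    simpa using h m m.2

theorem coreIn_le_left (M X : Subgroup G) : coreIn M X ≤ M := fun _ hx => (mem_coreIn.mp hx).1

theorem coreIn_le_right (M X : Subgroup G) : coreIn M X ≤ X := by
  intro x hx
  have := (mem_coreIn.mp hx).2 1 M.one_mem
  simpa using this

theorem le_normalizer_coreIn (M X : Subgroup G) :
    M ≤ Subgroup.normalizer ((coreIn M X : Subgroup G) : Set G) := by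
  intro m hm
  rw [Subgroup.mem_normalizer_iff]
  intro x
  constructor
  · intro hx
    rw [mem_coreIn] at hx ⊢
    refine ⟨M.mul_mem (M.mul_mem hm hx.1) (M.inv_mem hm), fun n hn => ?_⟩
    have := hx.2 (n * m) (M.mul_mem hn hm)
    convert this using 1
    group
  · intro hx
    rw [mem_coreIn] at hx ⊢
    refine ⟨?_, fun n hn => ?_⟩
    · have := M.mul_mem (M.mul_mem (M.inv_mem hm) hx.1) hm
      convert this using 1
      group
    · have := hx.2 (n * m⁻¹) (M.mul_mem hn (M.inv_mem hm))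
      convert this using 1
      group

theorem le_coreIn {M X Y : Subgroup G} (hYX : Y ≤ X) (hYM : Y ≤ M)
    (hn : M ≤ Subgroup.normalizer (Y : Set G)) : Y ≤ coreIn M X := by
  intro y hy
  rw [mem_coreIn]
  refine ⟨hYM hy, fun m hm => hYX ?_⟩
  exact (Subgroup.mem_normalizer_iff.mp (hn hm) y).mp hy

theorem coreIn_mono {M X Y : Subgroup G} (h : X ≤ Y) : coreIn M X ≤ coreIn M Y := by
  intro x hx
  rw [mem_coreIn] at hx ⊢
  exact ⟨hx.1, fun m hm => h (hx.2 m hm)⟩

/-- The standing hypotheses: two distinct core-free maximal subgroups. -/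
structure Setup (H K : Subgroup G) : Prop where
  coatomH : IsCoatom H
  coatomK : IsCoatom K
  coreH : H.normalCore = ⊥
  coreK : K.normalCore = ⊥
  ne : H ≠ K

theorem Setup.symm {H K : Subgroup G} (h : Setup H K) : Setup K H :=
  ⟨h.coatomK, h.coatomH, h.coreK, h.coreH, h.ne.symm⟩

theorem normalizer_eq_of_coatom {H X : Subgroup G} (hH : IsCoatom H) (hc : H.normalCore = ⊥)
    (hX : X ≠ ⊥) (hXH : X ≤ H) (hn : H ≤ Subgroup.normalizer (X : Set G)) :
    Subgroup.normalizer (X : Set G) = H := by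
  by_contra hne
  have htop : Subgroup.normalizer (X : Set G) = ⊤ :=
    hH.2 _ (lt_of_le_of_ne hn (Ne.symm hne))
  have hXn : X.Normal := Subgroup.normalizer_eq_top_iff.mp htop
  have : X ≤ H.normalCore := Subgroup.normal_le_normalCore.mpr hXH
  rw [hc] at this
  exact hX (le_bot_iff.mp this)

theorem Setup.normalizer_eq {H K : Subgroup G} (h : Setup H K) {X : Subgroup G}
    (hX : X ≠ ⊥) (hXH : X ≤ H) (hn : H ≤ Subgroup.normalizer (X : Set G)) :
    Subgroup.normalizer (X : Set G) = H :=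
  normalizer_eq_of_coatom h.coatomH h.coreH hX hXH hn

theorem Setup.eq_bot_of_normal_both {H K : Subgroup G} (h : Setup H K) {X : Subgroup G}
    (hXH : X ≤ H) (hXK : X ≤ K) (hnH : H ≤ Subgroup.normalizer (X : Set G))
    (hnK : K ≤ Subgroup.normalizer (X : Set G)) : X = ⊥ := by
  by_contra hX
  have h1 := h.normalizer_eq hX hXH hnH
  have h2 := h.symm.normalizer_eq hX hXK hnK
  exact h.ne (h1.symm.trans h2)

theorem Setup.le_of_le_centralizer {H K : Subgroup G} (h : Setup H K) {T Y : Subgroup G}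
    (hT : T ≠ ⊥) (hTH : T ≤ H) (hn : H ≤ Subgroup.normalizer (T : Set G))
    (hY : Y ≤ Subgroup.centralizer (T : Set G)) : Y ≤ H := by
  rw [← h.normalizer_eq hT hTH hn]
  exact hY.trans (Subgroup.centralizer_le_normalizer _)

theorem Setup.le_of_le_normalizer {H K : Subgroup G} (h : Setup H K) {T Y : Subgroup G}
    (hT : T ≠ ⊥) (hTH : T ≤ H) (hn : H ≤ Subgroup.normalizer (T : Set G))
    (hY : Y ≤ Subgroup.normalizer (T : Set G)) : Y ≤ H := by
  rw [← h.normalizer_eq hT hTH hn]
  exact hY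

end Cfsg.Agent.Lib.Helper10.TW
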