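import Mathlib
import Cfsg.Agent.Lib.Helper10.TW1

set_option autoImplicit false

namespace Cfsg.Agent.Lib.Helper10.TW

open scoped Nat

section Count

variable {N : Type*} [Group N]

/-- Index of a finite intersection of normal subgroups divides the product of the indices. -/
theorem index_iInf_dvd_prod [Finite N] {ι : Type*} [Fintype ι] (f : ι → Subgroup N)
    [hf : ∀ i, (f i).Normal] : (⨅ i, f i).index ∣ ∏ i, (f i).index := by
  classical
  let ψ : N →* (∀ i, N ⧸ f i) := MonoidHom.pi (fun i => QuotientGroup.mk' (f i))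
  have hker : ψ.ker = ⨅ i, f i := by
    ext x
    rw [MonoidHom.mem_ker, Subgroup.mem_iInf]
    constructor
    · intro h i
      have := congrFun h i
      simpa [ψ] using this
    · intro h
      funext i
      simpa [ψ] using h i
  rw [← hker, Subgroup.index_ker]
  have h1 : Nat.card ψ.range ∣ Nat.card (∀ i, N ⧸ f i) := Subgroup.card_subgroup_dvd_card _
  rw [Nat.card_pi] at h1
  simpa [Subgroup.index_eq_card] using h1

theorem index_normalCore_dvd_factorial [Finite N] (X : Subgroup N) :
    X.normalCore.index ∣ X.index ! := by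
  rw [Subgroup.normalCore_eq_ker, Subgroup.index_ker, Subgroup.index_eq_card, ← Nat.card_perm]
  exact Subgroup.card_subgroup_dvd_card (MulAction.toPermHom N (N ⧸ X)).range

/-- `|N : core(X)|` divides `|N : X|^{|𝐇 : D|}` when `N ⊴ 𝐇`, `X ≤ N ≤ D ≤ N_𝐇(X)`. -/
theorem relIndex_normalCore_dvd_pow [Finite N] (M X D : Subgroup N) [hM : M.Normal] (hXM : X ≤ M)
    (hMD : M ≤ D) (hD : D ≤ Subgroup.normalizer (X : Set N)) :
    X.normalCore.relIndex M ∣ (X.relIndex M) ^ D.index := by
  classical
  haveI : Fintype (N ⧸ D) := Fintype.ofFinite _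
  let g : N ⧸ D → N := fun q => Quotient.out q
  let f : N ⧸ D → Subgroup ↥M := fun q =>
    (X.map (MulAut.conj (g q)).toMonoidHom).subgroupOf M
  have hmemf : ∀ q (y : ↥M), y ∈ f q ↔ (g q)⁻¹ * (y : N) * g q ∈ X := by
    intro q y
    simp only [f, Subgroup.mem_subgroupOf, Subgroup.mem_map, MulEquiv.coe_toMonoidHom,
      MulAut.conj_apply]
    constructor
    · rintro ⟨x, hx, hxy⟩
      rw [← hxy]
      convert hx using 1
      group
    · intro h
      exact ⟨_, h, by group⟩
  have hnorm : ∀ q, (f q).Normal := by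
    intro q
    constructor
    intro y hy n
    rw [hmemf] at hy ⊢
    have hn' : (g q)⁻¹ * (n : N) * g q ∈ M := by
      have := hM.conj_mem (n : N) n.2 (g q)⁻¹
      simpa using this
    have hnn := hD (hMD hn')
    have := (Subgroup.mem_normalizer_iff.mp hnn _).mp hy
    convert this using 1
    simp only [Subgroup.coe_mul, InvMemClass.coe_inv]
    group
  have hidx : ∀ q, (f q).index = X.relIndex M := by
    intro q
    have h1 : (f q).index = (X.map (MulAut.conj (g q)).toMonoidHom).relIndex M := rfl
    rw [h1]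
    have h2 : M.map (MulAut.conj (g q)).toMonoidHom = M := by
      ext y
      simp only [Subgroup.mem_map, MulEquiv.coe_toMonoidHom, MulAut.conj_apply]
      constructor
      · rintro ⟨x, hx, rfl⟩
        exact hM.conj_mem x hx _
      · intro hy
        refine ⟨(g q)⁻¹ * y * g q, ?_, by group⟩
        have := hM.conj_mem y hy (g q)⁻¹
        simpa using this
    conv_lhs => rw [← h2]
    exact Subgroup.relIndex_map_map_of_injective X M (MulAut.conj (g q)).injective
  have hinf : (⨅ q, f q) = X.normalCore.subgroupOf M := by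
    ext y
    rw [Subgroup.mem_iInf, Subgroup.mem_subgroupOf]
    constructor
    · intro h b
      -- b⁻¹ = g q * d for q = class of b⁻¹
      have hq : (QuotientGroup.mk (g (QuotientGroup.mk b⁻¹ : N ⧸ D)) : N ⧸ D) = QuotientGroup.mk b⁻¹ :=
        Quotient.out_eq _
      rw [QuotientGroup.eq] at hq
      set q : N ⧸ D := QuotientGroup.mk b⁻¹ with hqdef
      have h3 := (hmemf q y).mp (h q)
      -- d := (g q)⁻¹ * b⁻¹ ∈ D normalizes X
      have hd := hD hq
      have : b * (y : N) * b⁻¹ = ((g q)⁻¹ * b⁻¹)⁻¹ * ((g q)⁻¹ * (y : N) * g q) * (((g q)⁻¹ * b⁻¹)⁻¹)⁻¹ := by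
        group
      rw [this]
      have hd' := hD (D.inv_mem hq)
      exact (Subgroup.mem_normalizer_iff.mp hd' _).mp h3
    · intro h q
      rw [hmemf]
      have := h (g q)⁻¹
      simpa using this
  have := index_iInf_dvd_prod f
  rw [hinf] at this
  simp only [hidx, Finset.prod_const, Finset.card_univ] at this
  have hc : Fintype.card (N ⧸ D) = D.index := by
    rw [Subgroup.index_eq_card, Nat.card_eq_fintype_card]
  rw [hc] at this
  exact this

end Count

end Cfsg.Agent.Lib.Helper10.TW
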