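import Mathlib
import Cfsg.Agent.Lib.Helper10.TW2

set_option autoImplicit false

namespace Cfsg.Agent.Lib.Helper10.TW

open scoped Nat

variable {G : Type*} [Group G]

/-- first core -/
def a1 (H K : Subgroup G) : Subgroup G := coreIn H (H ⊓ K)
/-- intersection of the first cores -/
def cc (H K : Subgroup G) : Subgroup G := a1 H K ⊓ a1 K H
/-- second core -/
def a2 (H K : Subgroup G) : Subgroup G := coreIn H (cc H K)

theorem cc_comm (H K : Subgroup G) : cc H K = cc K H := inf_comm _ _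

theorem a1_le_inf (H K : Subgroup G) : a1 H K ≤ H ⊓ K := coreIn_le_right _ _
theorem a1_le (H K : Subgroup G) : a1 H K ≤ H := coreIn_le_left _ _
theorem a1_le' (H K : Subgroup G) : a1 H K ≤ K := (a1_le_inf H K).trans inf_le_right
theorem cc_le_a1 (H K : Subgroup G) : cc H K ≤ a1 H K := inf_le_left
theorem cc_le_a1' (H K : Subgroup G) : cc H K ≤ a1 K H := inf_le_right
theorem a2_le_cc (H K : Subgroup G) : a2 H K ≤ cc H K := coreIn_le_right _ _
theorem a2_le_a1 (H K : Subgroup G) : a2 H K ≤ a1 H K := (a2_le_cc H K).trans inf_le_left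
theorem a2_le_a1' (H K : Subgroup G) : a2 H K ≤ a1 K H := (a2_le_cc H K).trans inf_le_right
theorem a2_le (H K : Subgroup G) : a2 H K ≤ H := coreIn_le_left _ _
theorem le_normalizer_a1 (H K : Subgroup G) :
    H ≤ Subgroup.normalizer ((a1 H K : Subgroup G) : Set G) := le_normalizer_coreIn _ _
theorem le_normalizer_a2 (H K : Subgroup G) :
    H ≤ Subgroup.normalizer ((a2 H K : Subgroup G) : Set G) := le_normalizer_coreIn _ _

theorem normalizer_inf_le' (X Y : Subgroup G) :
    Subgroup.normalizer (X : Set G) ⊓ Subgroup.normalizer (Y : Set G) ≤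
      Subgroup.normalizer ((X ⊓ Y : Subgroup G) : Set G) := by
  intro g hg
  rw [Subgroup.mem_inf] at hg
  rw [Subgroup.mem_normalizer_iff]
  intro x
  rw [Subgroup.mem_inf, Subgroup.mem_inf, (Subgroup.mem_normalizer_iff.mp hg.1) x,
    (Subgroup.mem_normalizer_iff.mp hg.2) x]

theorem inf_le_normalizer_cc (H K : Subgroup G) :
    H ⊓ K ≤ Subgroup.normalizer ((cc H K : Subgroup G) : Set G) := by
  refine le_trans ?_ (normalizer_inf_le' _ _)
  exact le_inf (inf_le_left.trans (le_normalizer_a1 H K)) (inf_le_right.trans (le_normalizer_a1 K H))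

section Count

variable [Finite G]

theorem relIndex_coreIn_dvd_factorial (M X : Subgroup G) :
    (coreIn M X).relIndex M ∣ (X.relIndex M)! := by
  have h1 : (coreIn M X).subgroupOf M = (X.subgroupOf M).normalCore := by
    unfold coreIn
    exact Subgroup.comap_map_eq_self_of_injective M.subtype_injective _
  unfold Subgroup.relIndex
  rw [h1]
  exact index_normalCore_dvd_factorial _

theorem relIndex_inf_eq_of_card_eq {H K : Subgroup G} (hcard : Nat.card H = Nat.card K) :
    (H ⊓ K).relIndex K = (H ⊓ K).relIndex H := by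
  have h1 : (⊥ : Subgroup G).relIndex (H ⊓ K) * (H ⊓ K).relIndex H = (⊥ : Subgroup G).relIndex H :=
    Subgroup.relIndex_mul_relIndex _ _ _ bot_le inf_le_left
  have h2 : (⊥ : Subgroup G).relIndex (H ⊓ K) * (H ⊓ K).relIndex K = (⊥ : Subgroup G).relIndex K :=
    Subgroup.relIndex_mul_relIndex _ _ _ bot_le inf_le_right
  rw [Subgroup.relIndex_bot_left, Subgroup.relIndex_bot_left] at h1 h2
  have hpos : 0 < Nat.card ↥(H ⊓ K) := Nat.card_pos
  have : Nat.card ↥(H ⊓ K) * (H ⊓ K).relIndex K = Nat.card ↥(H ⊓ K) * (H ⊓ K).relIndex H := by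
    rw [h1, h2, hcard]
  exact Nat.eq_of_mul_eq_mul_left hpos this

/-- `|D : B₁|` divides `(d-1)!`. -/
theorem relIndex_a1_inf_dvd (H K : Subgroup G) :
    (a1 K H).relIndex (H ⊓ K) ∣ ((H ⊓ K).relIndex K - 1)! := by
  have h1 : (a1 K H).relIndex K ∣ ((K ⊓ H).relIndex K)! := relIndex_coreIn_dvd_factorial K (K ⊓ H)
  rw [inf_comm K H] at h1
  have h2 : (a1 K H).relIndex (H ⊓ K) * (H ⊓ K).relIndex K = (a1 K H).relIndex K :=
    Subgroup.relIndex_mul_relIndex _ _ _ (by rw [inf_comm]; exact a1_le_inf K H) inf_le_right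
  have hpos : 0 < (H ⊓ K).relIndex K := by
    apply Nat.pos_of_ne_zero
    unfold Subgroup.relIndex
    exact Subgroup.index_ne_zero_of_finite
  obtain ⟨n, hn⟩ : ∃ n, (H ⊓ K).relIndex K = n + 1 := ⟨_, (Nat.succ_pred_eq_of_pos hpos).symm⟩
  rw [← h2, hn, Nat.factorial_succ, mul_comm] at h1
  rw [hn, Nat.add_sub_cancel]
  exact Nat.dvd_of_mul_dvd_mul_left (Nat.succ_pos n) h1

/-- `|A₁ : C|` divides `|D : B₁|`. -/
theorem relIndex_cc_dvd (H K : Subgroup G) :
    (cc H K).relIndex (a1 H K) ∣ (a1 K H).relIndex (H ⊓ K) := by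
  unfold cc
  rw [Subgroup.inf_relIndex_left]
  have hB : a1 K H ≤ H ⊓ K := by rw [inf_comm]; exact a1_le_inf K H
  have hn : ((a1 K H).subgroupOf (H ⊓ K)).Normal :=
    (Subgroup.normal_subgroupOf_iff_le_normalizer hB).mpr
      (inf_le_right.trans (le_normalizer_a1 K H))
  have h1 := @Subgroup.relIndex_dvd_index_of_normal _ _ ((a1 K H).subgroupOf (H ⊓ K))
    ((a1 H K).subgroupOf (H ⊓ K)) hn
  rw [Subgroup.relIndex_subgroupOf (a1_le_inf H K)] at h1
  exact h1

/-- `|A₁ : A₂|` divides `|A₁ : C|^d`. -/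
theorem relIndex_a2_dvd_pow (H K : Subgroup G) :
    (a2 H K).relIndex (a1 H K) ∣ ((cc H K).relIndex (a1 H K)) ^ ((H ⊓ K).relIndex H) := by
  have hM : ((a1 H K).subgroupOf H).Normal :=
    (Subgroup.normal_subgroupOf_iff_le_normalizer (a1_le H K)).mpr (le_normalizer_a1 H K)
  have hXM : (cc H K).subgroupOf H ≤ (a1 H K).subgroupOf H :=
    Subgroup.subgroupOf_mono H (cc_le_a1 H K)
  have hMD : (a1 H K).subgroupOf H ≤ (H ⊓ K).subgroupOf H :=
    Subgroup.subgroupOf_mono H (a1_le_inf H K)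
  have hD : (H ⊓ K).subgroupOf H ≤
      Subgroup.normalizer (((cc H K).subgroupOf H : Subgroup ↥H) : Set ↥H) :=
    (Subgroup.comap_mono (inf_le_normalizer_cc H K)).trans (Subgroup.le_normalizer_comap H.subtype)
  have key := @relIndex_normalCore_dvd_pow ↥H _ _ ((a1 H K).subgroupOf H) ((cc H K).subgroupOf H)
    ((H ⊓ K).subgroupOf H) hM hXM hMD hD
  have h1 : ((cc H K).subgroupOf H).normalCore = (a2 H K).subgroupOf H := by
    unfold a2 coreIn
    exact (Subgroup.comap_map_eq_self_of_injective H.subtype_injective _).symm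
  rw [h1, Subgroup.relIndex_subgroupOf (a1_le H K), Subgroup.relIndex_subgroupOf (a1_le H K)] at key
  exact key

/-- `|H : A₂|` divides `d! ((d-1)!)^d`. -/
theorem relIndex_a2_dvd {H K : Subgroup G} (hcard : Nat.card H = Nat.card K) :
    (a2 H K).relIndex H ∣
      ((H ⊓ K).relIndex H)! * (((H ⊓ K).relIndex H - 1)!) ^ ((H ⊓ K).relIndex H) := by
  have h1 : (a2 H K).relIndex (a1 H K) * (a1 H K).relIndex H = (a2 H K).relIndex H :=
    Subgroup.relIndex_mul_relIndex _ _ _ (a2_le_a1 H K) (a1_le H K)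
  rw [← h1, mul_comm]
  apply Nat.mul_dvd_mul
  · exact relIndex_coreIn_dvd_factorial H (H ⊓ K)
  · refine (relIndex_a2_dvd_pow H K).trans (pow_dvd_pow_of_dvd ?_ _)
    refine (relIndex_cc_dvd H K).trans ?_
    have := relIndex_a1_inf_dvd H K
    rwa [relIndex_inf_eq_of_card_eq hcard] at this

theorem card_dvd_of_a2_eq_bot {H K : Subgroup G} (hcard : Nat.card H = Nat.card K)
    (h : a2 H K = ⊥) :
    Nat.card H ∣
      ((H ⊓ K).relIndex H)! * (((H ⊓ K).relIndex H - 1)!) ^ ((H ⊓ K).relIndex H) := by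
  have := relIndex_a2_dvd hcard
  rwa [h, Subgroup.relIndex_bot_left] at this

theorem card_dvd_of_a2_eq_bot' {H K : Subgroup G} (hcard : Nat.card H = Nat.card K)
    (h : a2 K H = ⊥) :
    Nat.card H ∣
      ((H ⊓ K).relIndex H)! * (((H ⊓ K).relIndex H - 1)!) ^ ((H ⊓ K).relIndex H) := by
  have := card_dvd_of_a2_eq_bot hcard.symm h
  rw [inf_comm K H, relIndex_inf_eq_of_card_eq hcard, ← hcard] at this
  exact this

end Count

end Cfsg.Agent.Lib.Helper10.TW
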