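import Mathlib
import Cfsg.Agent.Lib.Helper10.TW3
import Cfsg.Agent.Lib.Helper10.Bender9
import Cfsg.Agent.Lib.helper17.QS7

set_option autoImplicit false

namespace Cfsg.Agent.Lib.Helper10.TW

open Cfsg Cfsg.Agent.Lib.Helper1 Cfsg.Agent.Lib.Helper10 Cfsg.Agent.Lib.Helper10.Bender
  Cfsg.Agent.Lib.helper17

variable {G : Type*} [Group G]

/-- `L` is a component of the subgroup `M`. -/
def CompOf (L M : Subgroup G) : Prop := L ≤ M ∧ IsComponent (L.subgroupOf M)

theorem CompOf.le_layOf {L M : Subgroup G} (h : CompOf L M) : L ≤ layOf M := by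
  intro x hx
  exact ⟨⟨x, h.1 hx⟩, component_le_layer h.2 (Subgroup.mem_subgroupOf.mpr hx), rfl⟩

theorem layOf_le_of_forall {M X : Subgroup G} (h : ∀ L, CompOf L M → L ≤ X) : layOf M ≤ X := by
  unfold layOf
  rw [Subgroup.map_le_iff_le_comap]
  conv_lhs => unfold layer
  apply sSup_le
  intro K hK
  have h1 : CompOf (K.map M.subtype) M := by
    refine ⟨Subgroup.map_subtype_le _, ?_⟩
    have : (K.map M.subtype).subgroupOf M = K :=
      Subgroup.comap_map_eq_self_of_injective M.subtype_injective K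
    rw [this]; exact hK
  intro x hx
  rw [Subgroup.mem_comap]
  exact h _ h1 ⟨x, hx, rfl⟩

theorem CompOf.perfect {L M : Subgroup G} (h : CompOf L M) : ⁅L, L⁆ = L := by
  have h1 := isComponent_commutator_self h.2
  have h2 := congrArg (Subgroup.map M.subtype) h1
  rw [Subgroup.map_commutator, Subgroup.subgroupOf_map_subtype, inf_eq_left.mpr h.1] at h2
  exact h2

theorem CompOf.ne_bot {L M : Subgroup G} (h : CompOf L M) : L ≠ ⊥ := by
  intro hb
  have h1 := isComponent_ne_bot h.2
  apply h1
  rw [hb]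
  exact Subgroup.bot_subgroupOf (H := M)


theorem isComponent_extend {K D N : Subgroup G} (hKD : K ≤ D) (hDN : D ≤ N)
    (hsn : (D.subgroupOf N).IsSubnormal) (h : IsComponent (K.subgroupOf D)) :
    IsComponent (K.subgroupOf N) :=
  ⟨relSN_trans hKD hDN h.1 hsn,
    Cfsg.Agent.Lib.Helper9.isQuasisimple_of_mulEquiv
      ((Subgroup.subgroupOfEquivOfLe hKD).trans
        (Subgroup.subgroupOfEquivOfLe (hKD.trans hDN)).symm) h.2⟩

theorem CompOf.extend {L D N : Subgroup G} (h : CompOf L D) (hDN : D ≤ N)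
    (hsn : (D.subgroupOf N).IsSubnormal) : CompOf L N :=
  ⟨h.1.trans hDN, isComponent_extend h.1 hDN hsn h.2⟩

theorem CompOf.restrict {L D N : Subgroup G} (h : CompOf L N) (hLD : L ≤ D) (hDN : D ≤ N) :
    CompOf L D :=
  ⟨hLD, isComponent_restrict hLD hDN h.2⟩

theorem layOf_mono_of_subnormal {N M : Subgroup G} (hNM : N ≤ M)
    (hsn : (N.subgroupOf M).IsSubnormal) : layOf N ≤ layOf M :=
  layOf_le_of_forall (fun _ hL => (hL.extend hNM hsn).le_layOf)

theorem layOf_mono_of_normal {N M : Subgroup G} (hNM : N ≤ M)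
    (hn : M ≤ Subgroup.normalizer (N : Set G)) : layOf N ≤ layOf M :=
  layOf_mono_of_subnormal hNM (relSN_of_normal hNM hn)

theorem pCoreOf_mono_of_normal {p : ℕ} {N M : Subgroup G} (hNM : N ≤ M)
    (hn : M ≤ Subgroup.normalizer (N : Set G)) : pCoreOf p N ≤ pCoreOf p M :=
  le_pCoreOf ((pCoreOf_le p N).trans hNM) (pCoreOf_isPGroup p N)
    (hn.trans (normalizer_le_normalizer_pCoreOf p N))

theorem normalizer_le_normalizer_map_char (X : Subgroup G) (C : Subgroup ↥X)
    [hC : C.Characteristic] :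
    Subgroup.normalizer (X : Set G) ≤
      Subgroup.normalizer ((C.map X.subtype : Subgroup G) : Set G) := by
  have key : ∀ g ∈ Subgroup.normalizer (X : Set G), ∀ x ∈ C.map X.subtype,
      g * x * g⁻¹ ∈ C.map X.subtype := by
    rintro g hg _ ⟨c, hc, rfl⟩
    refine ⟨X.normalizerMonoidHom ⟨g, hg⟩ c, ?_, rfl⟩
    have h1 := Subgroup.characteristic_iff_map_le.mp hC (X.normalizerMonoidHom ⟨g, hg⟩)
    exact h1 ⟨c, hc, rfl⟩
  intro g hg
  rw [Subgroup.mem_normalizer_iff]
  intro x
  constructor
  · exact key g hg x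
  · intro hx
    have := key g⁻¹ (Subgroup.inv_mem _ hg) _ hx
    convert this using 1
    group

theorem normalizer_le_normalizer_layOf (X : Subgroup G) :
    Subgroup.normalizer (X : Set G) ≤ Subgroup.normalizer ((layOf X : Subgroup G) : Set G) := by
  haveI := Cfsg.Agent.Lib.Helper12.layer_characteristic (↥X)
  exact normalizer_le_normalizer_map_char X (layer ↥X)

theorem normalizer_le_normalizer_fitOf (X : Subgroup G) :
    Subgroup.normalizer (X : Set G) ≤ Subgroup.normalizer ((fitOf X : Subgroup G) : Set G) := by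
  haveI := Cfsg.Agent.Lib.Helper12.fittingSubgroup_characteristic (↥X)
  exact normalizer_le_normalizer_map_char X (fittingSubgroup ↥X)

variable [Finite G]

/-- the layer normalizes every subnormal subgroup; more precisely a component lies in it or
centralizes it -/
theorem CompOf.le_or_comm {L M S : Subgroup G} (h : CompOf L M) (hSM : S ≤ M)
    (hsn : (S.subgroupOf M).IsSubnormal) : L ≤ S ∨ ⁅L, S⁆ = ⊥ := by
  rcases component_le_or_commutator_eq_bot _ _ h.2 hsn with h1 | h1
  · left
    intro x hx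
    have := h1 (show (⟨x, h.1 hx⟩ : ↥M) ∈ L.subgroupOf M from Subgroup.mem_subgroupOf.mpr hx)
    exact Subgroup.mem_subgroupOf.mp this
  · right
    exact commutator_eq_bot_of_subgroupOf h.1 hSM h1

theorem layOf_centralizes_fitOf (M : Subgroup G) :
    layOf M ≤ Subgroup.centralizer ((fitOf M : Subgroup G) : Set G) := by
  intro e he
  rw [Subgroup.mem_centralizer_iff]
  intro f hf
  exact (commute_layOf_fitOf he hf).symm

theorem fitOf_centralizes_layOf (M : Subgroup G) :
    fitOf M ≤ Subgroup.centralizer ((layOf M : Subgroup G) : Set G) := by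
  intro f hf
  rw [Subgroup.mem_centralizer_iff]
  intro e he
  exact commute_layOf_fitOf he hf

end Cfsg.Agent.Lib.Helper10.TW
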