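import Mathlib
import Cfsg.Agent.Lib.Helper10.TW4

set_option autoImplicit false

namespace Cfsg.Agent.Lib.Helper10.TW

open Cfsg Cfsg.Agent.Lib.Helper1 Cfsg.Agent.Lib.Helper10 Cfsg.Agent.Lib.Helper10.Bender
  Cfsg.Agent.Lib.helper17

variable {G : Type*} [Group G] [Finite G]

/-- anything in `H ⊓ K` normalized by `K` lies in the first core -/
theorem le_a1_of {H K X : Subgroup G} (hXH : X ≤ H) (hXK : X ≤ K)
    (hn : H ≤ Subgroup.normalizer (X : Set G)) : X ≤ a1 H K :=
  le_coreIn (le_inf hXH hXK) hXH hn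

theorem le_a2_of {H K X : Subgroup G} (hX : X ≤ cc H K)
    (hn : H ≤ Subgroup.normalizer (X : Set G)) : X ≤ a2 H K :=
  le_coreIn hX (hX.trans ((cc_le_a1 H K).trans (a1_le H K))) hn

theorem normalizer_centralizer_inf {K P : Subgroup G}
    (hn : K ≤ Subgroup.normalizer (P : Set G)) :
    K ≤ Subgroup.normalizer ((K ⊓ Subgroup.centralizer (P : Set G) : Subgroup G) : Set G) := by
  refine le_trans ?_ (normalizer_inf_le' _ _)
  exact le_inf Subgroup.le_normalizer (hn.trans (normalizer_le_normalizer_centralizer P))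

section LemmaA

variable {H K : Subgroup G} (S : Setup H K) {r : ℕ} (hr : r.Prime) {T : Subgroup G}
  (hT : T ≠ ⊥) (hTB : T ≤ a1 K H) (hTn : H ≤ Subgroup.normalizer (T : Set G))
  (hTp : IsPGroup r T)

include hTB hTn hTp in
theorem lemmaA_le_pCoreOf : T ≤ pCoreOf r (a1 K H) :=
  le_pCoreOf hTB hTp ((a1_le' K H).trans hTn)

include hTB hTn hTp in
theorem lemmaA_le_pCoreOf' : T ≤ pCoreOf r K :=
  (lemmaA_le_pCoreOf hTB hTn hTp).trans
    (pCoreOf_mono_of_normal (a1_le K H) (le_normalizer_a1 K H))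

include S hr hT hTB hTn hTp in
theorem lemmaA_layOf : layOf K ≤ a1 K H := by
  have hTH : T ≤ H := hTB.trans (a1_le' K H)
  have h1 : layOf K ≤ Subgroup.centralizer (T : Set G) :=
    (layOf_centralizes_fitOf K).trans
      (Subgroup.centralizer_le ((lemmaA_le_pCoreOf' hTB hTn hTp).trans (pCoreOf_le_fitOf r hr K)))
  have h2 : layOf K ≤ H := S.le_of_le_centralizer hT hTH hTn h1
  exact le_a1_of (layOf_le K) h2 (le_normalizer_layOf K)

include S hr hT hTB hTn hTp in
theorem lemmaA_pCoreOf {s : ℕ} (hs : s.Prime) (hsr : s ≠ r) : pCoreOf s K ≤ a1 K H := by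
  have hTH : T ≤ H := hTB.trans (a1_le' K H)
  have h1 : pCoreOf s K ≤ Subgroup.centralizer (T : Set G) := by
    intro x hx
    rw [Subgroup.mem_centralizer_iff]
    intro t ht
    exact (commute_pCoreOf hs hr hsr hx (lemmaA_le_pCoreOf' hTB hTn hTp ht)).symm
  have h2 : pCoreOf s K ≤ H := S.le_of_le_centralizer hT hTH hTn h1
  exact le_a1_of (pCoreOf_le s K) h2 (le_normalizer_pCoreOf s K)

include S hT hTB hTn hTp in
theorem lemmaA_centralizer :
    K ⊓ Subgroup.centralizer ((pCoreOf r (a1 K H) : Subgroup G) : Set G) ≤ a1 K H := by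
  have hTH : T ≤ H := hTB.trans (a1_le' K H)
  have h1 : K ⊓ Subgroup.centralizer ((pCoreOf r (a1 K H) : Subgroup G) : Set G) ≤
      Subgroup.centralizer (T : Set G) :=
    inf_le_right.trans (Subgroup.centralizer_le (lemmaA_le_pCoreOf hTB hTn hTp))
  have h2 := S.le_of_le_centralizer hT hTH hTn h1
  refine le_a1_of inf_le_left h2 (normalizer_centralizer_inf ?_)
  exact (le_normalizer_a1 K H).trans (normalizer_le_normalizer_pCoreOf r (a1 K H))

end LemmaA

end Cfsg.Agent.Lib.Helper10.TW
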