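import Mathlib
import Cfsg.Agent.Lib.Helper10.TW5

set_option autoImplicit false

namespace Cfsg.Agent.Lib.Helper10.TW

open Cfsg Cfsg.Agent.Lib.Helper1 Cfsg.Agent.Lib.Helper10 Cfsg.Agent.Lib.Helper10.Bender
  Cfsg.Agent.Lib.helper17

variable {G : Type*} [Group G] [Finite G]

theorem a1_le_inf' (H K : Subgroup G) : a1 K H ≤ H ⊓ K := by
  rw [inf_comm]; exact a1_le_inf K H

/-- Lemma B: if `E(A₂) ≠ 1` then `F*(K) ≤ B₁`. -/
theorem lemmaB {H K : Subgroup G} (S : Setup H K) (hL : layOf (a2 H K) ≠ ⊥) :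
    fsOf K ≤ a1 K H := by
  have hTH : layOf (a2 H K) ≤ H := (layOf_le _).trans (a2_le H K)
  have hTn : H ≤ Subgroup.normalizer ((layOf (a2 H K) : Subgroup G) : Set G) :=
    (le_normalizer_a2 H K).trans (normalizer_le_normalizer_layOf _)
  have hTK : layOf (a2 H K) ≤ layOf K :=
    (layOf_mono_of_normal (a2_le_a1' H K) ((a1_le' K H).trans (le_normalizer_a2 H K))).trans
      (layOf_mono_of_normal (a1_le K H) (le_normalizer_a1 K H))
  have h1 : fitOf K ≤ H := by
    apply S.le_of_le_centralizer hL hTH hTn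
    exact (fitOf_centralizes_layOf K).trans (Subgroup.centralizer_le hTK)
  have hsn : ((a2 H K).subgroupOf K).IsSubnormal :=
    relSN_trans (a2_le_a1' H K) (a1_le K H)
      (relSN_of_normal (a2_le_a1' H K) ((a1_le' K H).trans (le_normalizer_a2 H K)))
      (relSN_of_normal (a1_le K H) (le_normalizer_a1 K H))
  have h2 : layOf K ≤ H := by
    apply S.le_of_le_normalizer hL hTH hTn
    apply layOf_le_of_forall
    intro L hLc
    rcases hLc.le_or_comm ((a2_le_a1' H K).trans (a1_le K H)) hsn with h | h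
    · have : CompOf L (a2 H K) := hLc.restrict h ((a2_le_a1' H K).trans (a1_le K H))
      exact this.le_layOf.trans Subgroup.le_normalizer
    · rw [Subgroup.commutator_eq_bot_iff_le_centralizer] at h
      exact h.trans ((Subgroup.centralizer_le (layOf_le _)).trans
        (Subgroup.centralizer_le_normalizer _))
  have h3 : fsOf K ≤ H := by
    rw [fsOf_eq]
    exact sup_le h2 h1
  exact le_a1_of (fsOf_le K) h3 (le_normalizer_fsOf K)

theorem commutator_a1_le_cc {H K L : Subgroup G} (hL : L ≤ a1 H K) : ⁅L, a1 K H⁆ ≤ cc H K := by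
  rw [Subgroup.commutator_le]
  intro l hl b hb
  have hlA := hL hl
  rw [commutatorElement_def]
  refine Subgroup.mem_inf.mpr ⟨?_, ?_⟩
  · -- l * (b * l⁻¹ * b⁻¹) ∈ A₁
    have hbH : b ∈ H := a1_le' K H hb
    have h1 : b * l⁻¹ * b⁻¹ ∈ a1 H K :=
      (Subgroup.mem_normalizer_iff.mp (le_normalizer_a1 H K hbH) _).mp ((a1 H K).inv_mem hlA)
    have := (a1 H K).mul_mem hlA h1
    convert this using 1
    group
  · have hlK : l ∈ K := a1_le' H K hlA
    have h1 : l * b * l⁻¹ ∈ a1 K H :=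
      (Subgroup.mem_normalizer_iff.mp (le_normalizer_a1 K H hlK) _).mp hb
    exact (a1 K H).mul_mem h1 ((a1 K H).inv_mem hb)

/-- component transfer -/
theorem comp_transfer {H K L : Subgroup G} (hL : CompOf L H) (hLA : L ≤ a1 H K) :
    CompOf L K ∨ ⁅L, a1 K H⁆ = ⊥ := by
  have hLA1 : CompOf L (a1 H K) := hL.restrict hLA (a1_le H K)
  have hCn : a1 H K ≤ Subgroup.normalizer ((cc H K : Subgroup G) : Set G) :=
    (a1_le_inf H K).trans (inf_le_normalizer_cc H K)
  rcases hLA1.le_or_comm (cc_le_a1 H K) (relSN_of_normal (cc_le_a1 H K) hCn) with h | h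
  · left
    have h1 : CompOf L (cc H K) := hLA1.restrict h (cc_le_a1 H K)
    have hsn : ((cc H K).subgroupOf K).IsSubnormal :=
      relSN_trans (cc_le_a1' H K) (a1_le K H)
        (relSN_of_normal (cc_le_a1' H K) ((a1_le_inf' H K).trans (inf_le_normalizer_cc H K)))
        (relSN_of_normal (a1_le K H) (le_normalizer_a1 K H))
    exact h1.extend ((cc_le_a1' H K).trans (a1_le K H)) hsn
  · right
    have h1 : ⁅⁅L, a1 K H⁆, L⁆ = ⊥ := by
      rw [eq_bot_iff, ← h, Subgroup.commutator_comm L (cc H K)]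
      exact Subgroup.commutator_mono (commutator_a1_le_cc hLA) le_rfl
    have h2 : ⁅⁅a1 K H, L⁆, L⁆ = ⊥ := by
      rw [Subgroup.commutator_comm (a1 K H) L]; exact h1
    have h3 := Subgroup.commutator_commutator_eq_bot_of_rotate h1 h2
    rwa [hL.perfect] at h3

/-- if `E(H) ≤ A₁` and `C_K(B₁) ≤ B₁` then `E(H) ≤ E(K)` -/
theorem layOf_le_layOf_of_side {H K : Subgroup G} (h1 : layOf H ≤ a1 H K)
    (h2 : K ⊓ Subgroup.centralizer ((a1 K H : Subgroup G) : Set G) ≤ a1 K H) :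
    layOf H ≤ layOf K := by
  apply layOf_le_of_forall
  intro L hL
  have hLA : L ≤ a1 H K := hL.le_layOf.trans h1
  rcases comp_transfer hL hLA with h | h
  · exact h.le_layOf
  · exfalso
    have hc := h
    rw [Subgroup.commutator_eq_bot_iff_le_centralizer] at hc
    have h3 : L ≤ a1 K H := (le_inf (hLA.trans (a1_le' H K)) hc).trans h2
    have h4 : ⁅L, L⁆ = ⊥ := by
      rw [eq_bot_iff, ← h]
      exact Subgroup.commutator_mono le_rfl h3
    rw [hL.perfect] at h4
    exact hL.ne_bot h4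

theorem ne_bot_cases {M : Subgroup G} (hM : M ≠ ⊥) :
    layOf M ≠ ⊥ ∨ ∃ p : ℕ, p.Prime ∧ pCoreOf p M ≠ ⊥ := by
  by_contra hcon
  push Not at hcon
  obtain ⟨h1, h2⟩ := hcon
  apply hM
  apply eq_bot_of_fs_eq_bot
  have hl : layer ↥M = ⊥ := by
    unfold layOf at h1
    exact (Subgroup.map_eq_bot_iff_of_injective _ M.subtype_injective).mp h1
  have hf : fittingSubgroup ↥M = ⊥ := by
    rw [fittingSubgroup_eq_iSup_pCore, eq_bot_iff]
    apply iSup_le
    intro q
    rw [pCore_eq_bot_of_pCoreOf (h2 q q.2)]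
  unfold generalizedFittingSubgroup
  rw [hl, hf, sup_bot_eq]

/-- what `B₂ ≠ 1` gives on the `H` side -/
theorem side_of_ne_bot {H K : Subgroup G} (S : Setup H K) (h : a2 K H ≠ ⊥) :
    layOf H ≤ a1 H K ∧ H ⊓ Subgroup.centralizer ((a1 H K : Subgroup G) : Set G) ≤ a1 H K := by
  rcases ne_bot_cases h with h1 | ⟨p, hp, h1⟩
  · have hB := lemmaB S.symm h1
    refine ⟨(layOf_le_fsOf H).trans hB, ?_⟩
    refine le_trans ?_ ((inf_centralizer_fsOf_le H).trans hB)
    exact inf_le_inf_left _ (Subgroup.centralizer_le hB)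
  · have hTB : pCoreOf p (a2 K H) ≤ a1 H K := (pCoreOf_le p _).trans (a2_le_a1' K H)
    have hTn : K ≤ Subgroup.normalizer ((pCoreOf p (a2 K H) : Subgroup G) : Set G) :=
      (le_normalizer_a2 K H).trans (normalizer_le_normalizer_pCoreOf p _)
    have hTp := pCoreOf_isPGroup p (a2 K H)
    refine ⟨lemmaA_layOf S.symm hp h1 hTB hTn hTp, ?_⟩
    refine le_trans ?_ (lemmaA_centralizer S.symm h1 hTB hTn hTp)
    exact inf_le_inf_left _ (Subgroup.centralizer_le (pCoreOf_le p _))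

theorem layOf_eq_bot {H K : Subgroup G} (S : Setup H K) (hA : a2 H K ≠ ⊥) (hB : a2 K H ≠ ⊥) :
    layOf H = ⊥ := by
  obtain ⟨h1, h2⟩ := side_of_ne_bot S hB
  obtain ⟨h3, h4⟩ := side_of_ne_bot S.symm hA
  have h5 : layOf H = layOf K :=
    le_antisymm (layOf_le_layOf_of_side h1 h4) (layOf_le_layOf_of_side h3 h2)
  apply S.eq_bot_of_normal_both (layOf_le H) (h5 ▸ layOf_le K) (le_normalizer_layOf H)
  rw [h5]
  exact le_normalizer_layOf K

theorem exists_pCoreOf_a2_ne_bot {H K : Subgroup G} (S : Setup H K) (hA : a2 H K ≠ ⊥)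
    (hB : a2 K H ≠ ⊥) : ∃ p : ℕ, p.Prime ∧ pCoreOf p (a2 H K) ≠ ⊥ := by
  rcases ne_bot_cases hA with h1 | h1
  · exfalso
    apply h1
    rw [eq_bot_iff, ← layOf_eq_bot S hA hB]
    exact layOf_mono_of_normal (a2_le H K) (le_normalizer_a2 H K)
  · exact h1

end Cfsg.Agent.Lib.Helper10.TW
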