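import Mathlib
import Cfsg.Agent.Lib.Helper10.TW6

set_option autoImplicit false

namespace Cfsg.Agent.Lib.Helper10.TW

open Cfsg Cfsg.Agent.Lib.Helper1 Cfsg.Agent.Lib.Helper10 Cfsg.Agent.Lib.Helper10.Bender
  Cfsg.Agent.Lib.helper17

variable {G : Type*} [Group G] [Finite G]

omit [Finite G] in
theorem coprime_commute {D X Y : Subgroup G} (hXD : X ≤ D) (hYD : Y ≤ D)
    (hnX : D ≤ Subgroup.normalizer (X : Set G)) (hnY : D ≤ Subgroup.normalizer (Y : Set G))
    {s p : ℕ} (hs : s.Prime) (hp : p.Prime) (hsp : s ≠ p) (hX : IsPGroup s X) (hY : IsPGroup p Y) :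
    X ≤ Subgroup.centralizer (Y : Set G) := by
  haveI : Fact s.Prime := ⟨hs⟩
  haveI : Fact p.Prime := ⟨hp⟩
  have hdis : Disjoint X Y := IsPGroup.disjoint_of_ne s p hsp X Y hX hY
  intro x hx
  rw [Subgroup.mem_centralizer_iff]
  intro y hy
  have h1 : x * y * x⁻¹ ∈ Y := (Subgroup.mem_normalizer_iff.mp (hnY (hXD hx)) _).mp hy
  have h2 : y * x⁻¹ * y⁻¹ ∈ X :=
    (Subgroup.mem_normalizer_iff.mp (hnX (hYD hy)) _).mp (X.inv_mem hx)
  have h3 : x * y * x⁻¹ * y⁻¹ ∈ Y := Y.mul_mem h1 (Y.inv_mem hy)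
  have h4 : x * y * x⁻¹ * y⁻¹ ∈ X := by
    have := X.mul_mem hx h2
    convert this using 1
    group
  have h5 : x * y * x⁻¹ * y⁻¹ = 1 := by
    have := hdis.le_bot (Subgroup.mem_inf.mpr ⟨h4, h3⟩)
    simpa using this
  have h6 : x * y = y * x := by
    have := congrArg (fun z => z * y * x) h5
    simpa [mul_assoc] using this
  exact h6.symm

theorem step3b {H K : Subgroup G} (S : Setup H K) {r p s : ℕ} (hr : r.Prime) (hp : p.Prime)
    (hs : s.Prime) (hAr : pCoreOf r (a2 H K) ≠ ⊥) (hBp : pCoreOf p (a2 K H) ≠ ⊥)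
    (hsr : s ≠ r) (hsp : s ≠ p) : pCoreOf s K ≤ pCoreOf s H := by
  have hTB : pCoreOf r (a2 H K) ≤ a1 K H := (pCoreOf_le r _).trans (a2_le_a1' H K)
  have hTn : H ≤ Subgroup.normalizer ((pCoreOf r (a2 H K) : Subgroup G) : Set G) :=
    (le_normalizer_a2 H K).trans (normalizer_le_normalizer_pCoreOf r _)
  have hTp := pCoreOf_isPGroup r (a2 H K)
  have hT'B : pCoreOf p (a2 K H) ≤ a1 H K := (pCoreOf_le p _).trans (a2_le_a1' K H)
  have hT'n : K ≤ Subgroup.normalizer ((pCoreOf p (a2 K H) : Subgroup G) : Set G) :=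
    (le_normalizer_a2 K H).trans (normalizer_le_normalizer_pCoreOf p _)
  have hT'p := pCoreOf_isPGroup p (a2 K H)
  have h1 : pCoreOf s K ≤ a1 K H := lemmaA_pCoreOf S hr hAr hTB hTn hTp hs hsr
  have h2 : pCoreOf s K ≤
      Subgroup.centralizer ((pCoreOf p (a1 H K) : Subgroup G) : Set G) :=
    coprime_commute (D := H ⊓ K) (h1.trans (a1_le_inf' H K))
      ((pCoreOf_le p _).trans (a1_le_inf H K))
      (inf_le_right.trans (le_normalizer_pCoreOf s K))
      (inf_le_left.trans ((le_normalizer_a1 H K).trans (normalizer_le_normalizer_pCoreOf p _)))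
      hs hp hsp (pCoreOf_isPGroup s K) (pCoreOf_isPGroup p _)
  have h3 : pCoreOf s K ≤ a1 H K :=
    (le_inf (h1.trans (a1_le' K H)) h2).trans (lemmaA_centralizer S.symm hBp hT'B hT'n hT'p)
  have h4 : pCoreOf s K ≤ pCoreOf s (a1 H K) :=
    le_pCoreOf h3 (pCoreOf_isPGroup s K) ((a1_le' H K).trans (le_normalizer_pCoreOf s K))
  exact h4.trans (pCoreOf_mono_of_normal (a1_le H K) (le_normalizer_a1 H K))

theorem step3c {H K : Subgroup G} (S : Setup H K) {r p : ℕ} (hr : r.Prime) (hp : p.Prime)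
    (hAr : pCoreOf r (a2 H K) ≠ ⊥) (hBp : pCoreOf p (a2 K H) ≠ ⊥) (hrp : r ≠ p) :
    pCoreOf p (a2 H K) ≠ ⊥ := by
  have hTB : pCoreOf r (a2 H K) ≤ a1 K H := (pCoreOf_le r _).trans (a2_le_a1' H K)
  have hTn : H ≤ Subgroup.normalizer ((pCoreOf r (a2 H K) : Subgroup G) : Set G) :=
    (le_normalizer_a2 H K).trans (normalizer_le_normalizer_pCoreOf r _)
  have hTp := pCoreOf_isPGroup r (a2 H K)
  have hT'B : pCoreOf p (a2 K H) ≤ a1 H K := (pCoreOf_le p _).trans (a2_le_a1' K H)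
  have hT'n : K ≤ Subgroup.normalizer ((pCoreOf p (a2 K H) : Subgroup G) : Set G) :=
    (le_normalizer_a2 K H).trans (normalizer_le_normalizer_pCoreOf p _)
  have hT'p := pCoreOf_isPGroup p (a2 K H)
  have hnP' : H ≤ Subgroup.normalizer ((pCoreOf p (a1 H K) : Subgroup G) : Set G) :=
    (le_normalizer_a1 H K).trans (normalizer_le_normalizer_pCoreOf p _)
  have hc : pCoreOf p (a1 H K) ≤
      Subgroup.centralizer ((pCoreOf r (a1 K H) : Subgroup G) : Set G) :=
    coprime_commute (D := H ⊓ K) ((pCoreOf_le p _).trans (a1_le_inf H K))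
      ((pCoreOf_le r _).trans (a1_le_inf' H K))
      (inf_le_left.trans hnP')
      (inf_le_right.trans ((le_normalizer_a1 K H).trans (normalizer_le_normalizer_pCoreOf r _)))
      hp hr (Ne.symm hrp) (pCoreOf_isPGroup p _) (pCoreOf_isPGroup r _)
  have h1 : pCoreOf p (a1 H K) ≤ a1 K H :=
    (le_inf ((pCoreOf_le p _).trans (a1_le' H K)) hc).trans
      (lemmaA_centralizer S hAr hTB hTn hTp)
  have h2 : pCoreOf p (a1 H K) ≤ cc H K := le_inf (pCoreOf_le p _) h1
  have h3 : pCoreOf p (a1 H K) ≤ a2 H K := le_a2_of h2 hnP'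
  have h4 : pCoreOf p (a1 H K) ≤ pCoreOf p (a2 H K) :=
    le_pCoreOf h3 (pCoreOf_isPGroup p _) ((a2_le H K).trans hnP')
  have h5 : pCoreOf p (a2 K H) ≤ pCoreOf p (a1 H K) := lemmaA_le_pCoreOf hT'B hT'n hT'p
  intro hbot
  apply hBp
  rw [eq_bot_iff, ← hbot]
  exact h5.trans h4

/-- The `F*`-part of the Thompson–Wielandt theorem. -/
theorem fstar_eq_pCore {H K : Subgroup G} (S : Setup H K) (hA : a2 H K ≠ ⊥) (hB : a2 K H ≠ ⊥) :
    ∃ t : ℕ, t.Prime ∧ pCoreOf t (a2 H K) ≠ ⊥ ∧ pCoreOf t (a2 K H) ≠ ⊥ ∧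
      generalizedFittingSubgroup ↥H = pCore t ↥H ∧
      generalizedFittingSubgroup ↥K = pCore t ↥K := by
  obtain ⟨r, hr, hAr⟩ := exists_pCoreOf_a2_ne_bot S hA hB
  obtain ⟨p, hp, hBp⟩ := exists_pCoreOf_a2_ne_bot S.symm hB hA
  obtain ⟨t, ht, hAt, hBt⟩ : ∃ t : ℕ, t.Prime ∧ pCoreOf t (a2 H K) ≠ ⊥ ∧
      pCoreOf t (a2 K H) ≠ ⊥ := by
    by_cases hrp : r = p
    · exact ⟨p, hp, hrp ▸ hAr, hBp⟩
    · exact ⟨p, hp, step3c S hr hp hAr hBp hrp, hBp⟩
  refine ⟨t, ht, hAt, hBt, ?_, ?_⟩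
  · have hcore : ∀ s : ℕ, s.Prime → s ≠ t → pCoreOf s H = ⊥ := by
      intro s hs hst
      have e1 := step3b S ht ht hs hAt hBt hst hst
      have e2 := step3b S.symm ht ht hs hBt hAt hst hst
      have e : pCoreOf s H = pCoreOf s K := le_antisymm e2 e1
      apply S.eq_bot_of_normal_both (pCoreOf_le s H) (e ▸ pCoreOf_le s K)
        (le_normalizer_pCoreOf s H)
      rw [e]; exact le_normalizer_pCoreOf s K
    have hl : layer ↥H = ⊥ := by
      have := layOf_eq_bot S hA hB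
      unfold layOf at this
      exact (Subgroup.map_eq_bot_iff_of_injective _ H.subtype_injective).mp this
    unfold generalizedFittingSubgroup
    rw [hl, bot_sup_eq]
    exact fitting_eq_pCore_of ht hcore
  · have hcore : ∀ s : ℕ, s.Prime → s ≠ t → pCoreOf s K = ⊥ := by
      intro s hs hst
      have e1 := step3b S ht ht hs hAt hBt hst hst
      have e2 := step3b S.symm ht ht hs hBt hAt hst hst
      have e : pCoreOf s H = pCoreOf s K := le_antisymm e2 e1
      rw [← e]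
      apply S.eq_bot_of_normal_both (pCoreOf_le s H) (e ▸ pCoreOf_le s K)
        (le_normalizer_pCoreOf s H)
      rw [e]; exact le_normalizer_pCoreOf s K
    have hl : layer ↥K = ⊥ := by
      have := layOf_eq_bot S.symm hB hA
      unfold layOf at this
      exact (Subgroup.map_eq_bot_iff_of_injective _ K.subtype_injective).mp this
    unfold generalizedFittingSubgroup
    rw [hl, bot_sup_eq]
    exact fitting_eq_pCore_of ht hcore

end Cfsg.Agent.Lib.Helper10.TW
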