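import Mathlib
import Cfsg.Agent.Lib.Helper10.TW7

set_option autoImplicit false

namespace Cfsg.Agent.Lib.Helper10.TW

open Cfsg Cfsg.Agent.Lib.Helper1 Cfsg.Agent.Lib.Helper10 Cfsg.Agent.Lib.Helper10.Bender
  Cfsg.Agent.Lib.helper17
open scoped Nat

variable {G : Type*} [Group G] [Finite G]

/-- A `p`-subgroup `X` which is self-normalizing inside the `p`-group `X ⊔ Y` contains `Y`. -/
theorem le_of_self_normalizing {p : ℕ} [Fact p.Prime] {X Y : Subgroup G}
    (hXY : IsPGroup p (X ⊔ Y : Subgroup G))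
    (h : ∀ y ∈ X ⊔ Y, y ∈ Subgroup.normalizer (X : Set G) → y ∈ X) : Y ≤ X := by
  haveI : Group.IsNilpotent ↥(X ⊔ Y) := hXY.isNilpotent
  have hnc : NormalizerCondition ↥(X ⊔ Y) := normalizerCondition_of_isNilpotent
  rw [normalizerCondition_iff_only_full_group_self_normalizing] at hnc
  have h1 : Subgroup.normalizer ((X.subgroupOf (X ⊔ Y) : Subgroup ↥(X ⊔ Y)) : Set ↥(X ⊔ Y)) =
      X.subgroupOf (X ⊔ Y) := by
    apply le_antisymm
    · intro y hy
      rw [Subgroup.mem_subgroupOf]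
      apply h _ y.2
      rw [Subgroup.mem_normalizer_iff]
      intro x
      constructor
      · intro hx
        have hx' : (⟨x, le_sup_left (a := X) (b := Y) hx⟩ : ↥(X ⊔ Y)) ∈ X.subgroupOf (X ⊔ Y) :=
          Subgroup.mem_subgroupOf.mpr hx
        have := (Subgroup.mem_normalizer_iff.mp hy _).mp hx'
        rw [Subgroup.mem_subgroupOf] at this
        simpa using this
      · intro hx
        have hx2 : x ∈ X ⊔ Y := by
          have h3 : (y : G)⁻¹ * ((y : G) * x * (y : G)⁻¹) * (y : G) ∈ X ⊔ Y :=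
            Subgroup.mul_mem _ (Subgroup.mul_mem _ (Subgroup.inv_mem _ y.2) (le_sup_left (a := X) hx)) y.2
          convert h3 using 1
          group
        have := (Subgroup.mem_normalizer_iff.mp hy ⟨x, hx2⟩).mpr
          (by rw [Subgroup.mem_subgroupOf]; simpa using hx)
        exact Subgroup.mem_subgroupOf.mp this
    · exact Subgroup.le_normalizer
  have h2 := hnc _ h1
  rw [Subgroup.subgroupOf_eq_top] at h2
  exact le_sup_right.trans h2

/-- The `O_p(D)` trick. -/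
theorem pCoreOf_inf_eq_bot {H K : Subgroup G} (S : Setup H K) {p : ℕ} (hp : p.Prime)
    (hle : pCoreOf p (H ⊓ K) ≤ a1 H K) (Xb : Subgroup G) (hXbK : Xb ≤ K)
    (hXbn : K ≤ Subgroup.normalizer (Xb : Set G)) (hXbp : IsPGroup p Xb)
    (hcard : Nat.card Xb = Nat.card (pCoreOf p (H ⊓ K))) : pCoreOf p (H ⊓ K) = ⊥ := by
  haveI : Fact p.Prime := ⟨hp⟩
  by_contra hne
  -- `X_a = O_p(D)` is normalized by `H`
  have hXaH : pCoreOf p (H ⊓ K) ≤ H := (pCoreOf_le p _).trans inf_le_left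
  have h1 : pCoreOf p (H ⊓ K) ≤ pCoreOf p (a1 H K) :=
    le_pCoreOf hle (pCoreOf_isPGroup p _) ((a1_le_inf H K).trans (le_normalizer_pCoreOf p _))
  have h2 : pCoreOf p (a1 H K) ≤ pCoreOf p (H ⊓ K) :=
    le_pCoreOf ((pCoreOf_le p _).trans (a1_le_inf H K)) (pCoreOf_isPGroup p _)
      (inf_le_left.trans ((le_normalizer_a1 H K).trans (normalizer_le_normalizer_pCoreOf p _)))
  have heq : pCoreOf p (H ⊓ K) = pCoreOf p (a1 H K) := le_antisymm h1 h2
  have hn : H ≤ Subgroup.normalizer ((pCoreOf p (H ⊓ K) : Subgroup G) : Set G) := by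
    rw [heq]
    exact (le_normalizer_a1 H K).trans (normalizer_le_normalizer_pCoreOf p _)
  have hN := S.normalizer_eq hne hXaH hn
  -- `X_b ⊓ H ≤ X_a`
  have h3 : Xb ⊓ H ≤ pCoreOf p (H ⊓ K) := by
    apply le_pCoreOf (le_inf inf_le_right (inf_le_left.trans hXbK)) (hXbp.to_le inf_le_left)
    refine le_trans ?_ (normalizer_inf_le' _ _)
    exact le_inf (inf_le_right.trans hXbn) (inf_le_left.trans Subgroup.le_normalizer)
  have hnorm : pCoreOf p (H ⊓ K) ≤ Subgroup.normalizer (Xb : Set G) :=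
    ((pCoreOf_le p _).trans inf_le_right).trans hXbn
  have hP : IsPGroup p (pCoreOf p (H ⊓ K) ⊔ Xb : Subgroup G) :=
    IsPGroup.to_sup_of_normal_right' (pCoreOf_isPGroup p _) hXbp hnorm
  have h4 : Xb ≤ pCoreOf p (H ⊓ K) := by
    apply le_of_self_normalizing hP
    intro y hy hyn
    rw [hN] at hyn
    rw [sup_comm] at hy
    obtain ⟨b, hb, x, hx, rfl⟩ := exists_mul_of_mem_sup Xb _ hnorm y hy
    have hbH : b ∈ H := by
      have := H.mul_mem hyn (H.inv_mem (hXaH hx))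
      simpa using this
    exact Subgroup.mul_mem _ (h3 ⟨hb, hbH⟩) hx
  have h5 : Xb = pCoreOf p (H ⊓ K) := by
    apply SetLike.coe_injective
    apply Set.eq_of_subset_of_ncard_le h4
    · rw [← Nat.card_coe_set_eq, ← Nat.card_coe_set_eq]
      exact hcard.symm.le
  apply hne
  apply S.eq_bot_of_normal_both hXaH ((pCoreOf_le p _).trans inf_le_right) hn
  rw [← h5]
  exact hXbn

theorem fitting_inf_eq_bot {H K : Subgroup G} (S : Setup H K) (g : G)
    (hK : K = H.map (MulAut.conj g).toMonoidHom) (hFD : fitOf (H ⊓ K) ≤ a1 H K) :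
    fittingSubgroup ↥(H ⊓ K) = ⊥ := by
  have hall : ∀ p : ℕ, p.Prime → pCoreOf p (H ⊓ K) = ⊥ := by
    intro p hp
    have hle : pCoreOf p (H ⊓ K) ≤ a1 H K := (pCoreOf_le_fitOf p hp _).trans hFD
    have hXaH : pCoreOf p (H ⊓ K) ≤ H := (pCoreOf_le p _).trans inf_le_left
    have h1 : pCoreOf p (H ⊓ K) ≤ pCoreOf p (a1 H K) :=
      le_pCoreOf hle (pCoreOf_isPGroup p _) ((a1_le_inf H K).trans (le_normalizer_pCoreOf p _))
    have h2 : pCoreOf p (a1 H K) ≤ pCoreOf p (H ⊓ K) :=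
      le_pCoreOf ((pCoreOf_le p _).trans (a1_le_inf H K)) (pCoreOf_isPGroup p _)
        (inf_le_left.trans ((le_normalizer_a1 H K).trans (normalizer_le_normalizer_pCoreOf p _)))
    have heq : pCoreOf p (H ⊓ K) = pCoreOf p (a1 H K) := le_antisymm h1 h2
    have hn : H ≤ Subgroup.normalizer ((pCoreOf p (H ⊓ K) : Subgroup G) : Set G) := by
      rw [heq]
      exact (le_normalizer_a1 H K).trans (normalizer_le_normalizer_pCoreOf p _)
    apply pCoreOf_inf_eq_bot S hp hle ((pCoreOf p (H ⊓ K)).map (MulAut.conj g).toMonoidHom)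
    · exact (Subgroup.map_mono hXaH).trans hK.ge
    · exact hK.le.trans ((Subgroup.map_mono hn).trans
        (Subgroup.map_equiv_normalizer_eq _ (MulAut.conj g)).le)
    · exact (pCoreOf_isPGroup p _).map _
    · exact Subgroup.card_map_of_injective (MulAut.conj g).injective
  rw [fittingSubgroup_eq_iSup_pCore, eq_bot_iff]
  apply iSup_le
  intro q
  rw [pCore_eq_bot_of_pCoreOf (hall q q.2)]

theorem card_eq_of_conj {H K : Subgroup G} (g : G)
    (hK : K = H.map (MulAut.conj g).toMonoidHom) : Nat.card H = Nat.card K := by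
  rw [hK]
  exact (Subgroup.card_map_of_injective (MulAut.conj g).injective).symm

/-- abstract form of S3693 -/
theorem tw_fitting_free {H K : Subgroup G} (S : Setup H K) (g : G)
    (hK : K = H.map (MulAut.conj g).toMonoidHom) (hFD : fitOf (H ⊓ K) ≤ a1 H K) :
    fittingSubgroup ↥(H ⊓ K) = ⊥ ∧
      Nat.card H ∣
        ((H ⊓ K).relIndex H)! * (((H ⊓ K).relIndex H - 1)!) ^ ((H ⊓ K).relIndex H) := by
  have hF := fitting_inf_eq_bot S g hK hFD
  refine ⟨hF, ?_⟩
  have hcard := card_eq_of_conj g hK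
  by_cases hA : a2 H K = ⊥
  · exact card_dvd_of_a2_eq_bot hcard hA
  by_cases hB : a2 K H = ⊥
  · exact card_dvd_of_a2_eq_bot' hcard hB
  exfalso
  obtain ⟨p, hp, hne⟩ := exists_pCoreOf_a2_ne_bot S hA hB
  haveI : Fact p.Prime := ⟨hp⟩
  apply hne
  have h1 : pCoreOf p (a2 H K) ≤ pCoreOf p (H ⊓ K) :=
    le_pCoreOf ((pCoreOf_le p _).trans ((a2_le_a1 H K).trans (a1_le_inf H K)))
      (pCoreOf_isPGroup p _)
      (inf_le_left.trans ((le_normalizer_a2 H K).trans (normalizer_le_normalizer_pCoreOf p _)))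
  have h2 : pCoreOf p (H ⊓ K) = ⊥ := by
    rw [eq_bot_iff]
    have : pCore p ↥(H ⊓ K) ≤ fittingSubgroup ↥(H ⊓ K) := pCore_le_fittingSubgroup p
    rw [hF] at this
    unfold pCoreOf
    rw [le_bot_iff.mp this, Subgroup.map_bot]
  rw [eq_bot_iff, ← h2]
  exact h1

/-- abstract form of S3688 -/
theorem tw_not_constrained {H K : Subgroup G} (S : Setup H K) (hcard : Nat.card H = Nat.card K)
    (hnc : ∀ p : ℕ, p.Prime → generalizedFittingSubgroup ↥H ≠ pCore p ↥H) :
    Nat.card H ∣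
      ((H ⊓ K).relIndex H)! * (((H ⊓ K).relIndex H - 1)!) ^ ((H ⊓ K).relIndex H) := by
  by_cases hA : a2 H K = ⊥
  · exact card_dvd_of_a2_eq_bot hcard hA
  by_cases hB : a2 K H = ⊥
  · exact card_dvd_of_a2_eq_bot' hcard hB
  exfalso
  obtain ⟨t, ht, -, -, h, -⟩ := fstar_eq_pCore S hA hB
  exact hnc t ht h

end Cfsg.Agent.Lib.Helper10.TW
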