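import Mathlib
import Cfsg.Agent.Lib.Helper10.TW8

set_option autoImplicit false

namespace Cfsg.Agent.Lib.Helper10.TW

open Cfsg Cfsg.Agent.Lib.Helper1 Cfsg.Agent.Lib.Helper10 Cfsg.Agent.Lib.Helper10.Bender
  Cfsg.Agent.Lib.helper17
open MulAction

variable {G Ω : Type*} [Group G] [Finite G] [MulAction G Ω] [FaithfulSMul G Ω] [Finite Ω]

omit [Finite G] [Finite Ω] in
theorem normalCore_stabilizer_eq_bot [IsPretransitive G Ω] (a : Ω) :
    (stabilizer G a).normalCore = ⊥ := by
  rw [eq_bot_iff]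
  intro x hx
  rw [Subgroup.mem_bot]
  apply FaithfulSMul.eq_of_smul_eq_smul (α := Ω)
  intro ω
  obtain ⟨g, rfl⟩ := exists_smul_eq G a ω
  have h1 : g⁻¹ * x * g⁻¹⁻¹ ∈ stabilizer G a := hx g⁻¹
  rw [mem_stabilizer_iff, inv_inv, mul_smul, mul_smul] at h1
  rw [one_smul]
  have := congrArg (fun z => g • z) h1
  simpa using this

omit [Finite G] [Finite Ω] [FaithfulSMul G Ω] in
theorem relIndex_stabilizer (a b : Ω) :
    (stabilizer G a ⊓ stabilizer G b).relIndex (stabilizer G a) =
      Nat.card (orbit (stabilizer G a) b) := by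
  unfold Subgroup.relIndex
  rw [Subgroup.inf_subgroupOf_left]
  have h1 : (stabilizer G b).subgroupOf (stabilizer G a) = stabilizer (stabilizer G a) b := by
    ext h
    rw [Subgroup.mem_subgroupOf, mem_stabilizer_iff, mem_stabilizer_iff]
    rfl
  rw [h1, index_stabilizer, Nat.card_coe_set_eq]

omit [Finite G] [Finite Ω] [FaithfulSMul G Ω] in
theorem stabilizer_ne_of_orbit (a b : Ω)
    (h2 : 2 ≤ Nat.card (orbit (stabilizer G a) b)) : stabilizer G a ≠ stabilizer G b := by
  intro heq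
  have hsub : Subsingleton (orbit (stabilizer G a) b) := by
    constructor
    rintro ⟨x, hx⟩ ⟨y, hy⟩
    obtain ⟨h, rfl⟩ := hx
    obtain ⟨k, rfl⟩ := hy
    apply Subtype.ext
    have hh : (h : G) ∈ stabilizer G b := heq ▸ h.2
    have hk : (k : G) ∈ stabilizer G b := heq ▸ k.2
    show (h : G) • b = (k : G) • b
    rw [mem_stabilizer_iff.mp hh, mem_stabilizer_iff.mp hk]
  have := Finite.card_le_one_iff_subsingleton.mpr hsub
  omega

theorem perm_setup (hprim : IsPreprimitive G Ω) (a b : Ω)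
    (h2 : 2 ≤ Nat.card (orbit (stabilizer G a) b)) :
    Setup (stabilizer G a) (stabilizer G b) ∧
      ∃ g : G, stabilizer G b = (stabilizer G a).map (MulAut.conj g).toMonoidHom := by
  have hne := stabilizer_ne_of_orbit a b h2
  have hab : a ≠ b := fun h => hne (h ▸ rfl)
  haveI : Nontrivial Ω := ⟨⟨a, b, hab⟩⟩
  haveI : IsPretransitive G Ω := hprim.toIsPretransitive
  refine ⟨⟨(isCoatom_stabilizer_iff_preprimitive G a).mpr hprim,
    (isCoatom_stabilizer_iff_preprimitive G b).mpr hprim,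
    normalCore_stabilizer_eq_bot a, normalCore_stabilizer_eq_bot b, hne⟩, ?_⟩
  obtain ⟨g, hg⟩ := exists_smul_eq G a b
  exact ⟨g, by rw [← hg, stabilizer_smul_eq_stabilizer_map_conj]⟩

/-- the hypothesis of S3693 gives `F(D) ≤ A₁` -/
theorem fitOf_le_a1_of (a b : Ω)
    (hF : Cfsg.fittingSubgroup ↥(((stabilizer G b).subgroupOf (stabilizer G a)).map
      (toPermHom (stabilizer G a) (orbit (stabilizer G a) b))) = ⊥) :
    fitOf (stabilizer G a ⊓ stabilizer G b) ≤ a1 (stabilizer G a) (stabilizer G b) := by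
  classical
  -- the homomorphism `D → Im`
  have hmem : ∀ y : ↥(stabilizer G a ⊓ stabilizer G b),
      toPermHom (stabilizer G a) (orbit (stabilizer G a) b)
        ⟨(y : G), (Subgroup.mem_inf.mp y.2).1⟩ ∈
      ((stabilizer G b).subgroupOf (stabilizer G a)).map
        (toPermHom (stabilizer G a) (orbit (stabilizer G a) b)) := by
    intro y
    exact ⟨_, Subgroup.mem_subgroupOf.mpr (Subgroup.mem_inf.mp y.2).2, rfl⟩
  let θ : ↥(stabilizer G a ⊓ stabilizer G b) →*
      ↥(((stabilizer G b).subgroupOf (stabilizer G a)).map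
        (toPermHom (stabilizer G a) (orbit (stabilizer G a) b))) :=
    ((toPermHom (stabilizer G a) (orbit (stabilizer G a) b)).comp
      (Subgroup.inclusion (inf_le_left : stabilizer G a ⊓ stabilizer G b ≤ stabilizer G a))).codRestrict
      _ (fun y => hmem y)
  have hsurj : Function.Surjective θ := by
    rintro ⟨_, z, hz, rfl⟩
    rw [SetLike.mem_coe, Subgroup.mem_subgroupOf] at hz
    exact ⟨⟨(z : G), Subgroup.mem_inf.mpr ⟨z.2, hz⟩⟩, Subtype.ext rfl⟩
  have hN : (fittingSubgroup ↥(stabilizer G a ⊓ stabilizer G b)).Normal := fittingSubgroup_normal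
  have hnil : Group.IsNilpotent ↥(fittingSubgroup ↥(stabilizer G a ⊓ stabilizer G b)) :=
    fittingSubgroup_nilpotent
  have hN' : ((fittingSubgroup ↥(stabilizer G a ⊓ stabilizer G b)).map θ).Normal :=
    hN.map θ hsurj
  have hnil' : Group.IsNilpotent ↥((fittingSubgroup ↥(stabilizer G a ⊓ stabilizer G b)).map θ) :=
    Group.nilpotent_of_surjective
      (f := θ.subgroupMap (fittingSubgroup ↥(stabilizer G a ⊓ stabilizer G b)))
      (θ.subgroupMap_surjective _)
  have hle := le_fittingSubgroup hN' hnil'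
  rw [hF] at hle
  -- elements of `F(D)` fix the orbit pointwise
  have hfix : ∀ y ∈ fittingSubgroup ↥(stabilizer G a ⊓ stabilizer G b),
      ∀ ω ∈ orbit (stabilizer G a) b, (y : G) • ω = ω := by
    intro y hy ω hω
    have h1 : θ y = 1 := by
      have := hle ⟨y, hy, rfl⟩
      rwa [Subgroup.mem_bot] at this
    have h2 : ((θ y).1 : Equiv.Perm (orbit (stabilizer G a) b)) ⟨ω, hω⟩ = ⟨ω, hω⟩ := by
      rw [h1]; rfl
    have h3 := congrArg Subtype.val h2
    exact h3
  rintro _ ⟨y, hy, rfl⟩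
  unfold a1
  rw [mem_coreIn]
  refine ⟨(Subgroup.mem_inf.mp y.2).1, fun m hm => ?_⟩
  refine Subgroup.mem_inf.mpr ⟨?_, ?_⟩
  · exact Subgroup.mul_mem _ (Subgroup.mul_mem _ hm (Subgroup.mem_inf.mp y.2).1)
      (Subgroup.inv_mem _ hm)
  · rw [mem_stabilizer_iff, mul_smul, mul_smul]
    have hω : m⁻¹ • b ∈ orbit (stabilizer G a) b :=
      ⟨⟨m⁻¹, Subgroup.inv_mem _ hm⟩, rfl⟩
    have := hfix y hy _ hω
    simp only [Subgroup.coe_subtype] at this ⊢
    rw [this, smul_inv_smul]

end Cfsg.Agent.Lib.Helper10.TW
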