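import Mathlib
import Cfsg.Agent.Lib.Helper10.TW9
import Cfsg.Agent.Lib.helper17.Subn

set_option autoImplicit false

namespace Cfsg.Agent.Lib.Helper10.TW

open Cfsg Cfsg.Agent.Lib.Helper1 Cfsg.Agent.Lib.Helper10 Cfsg.Agent.Lib.Helper10.Bender
  Cfsg.Agent.Lib.helper17

variable {G : Type*} [Group G]

theorem opOf_subgroupOf (p : ℕ) {R K : Subgroup G} (hRK : R ≤ K) :
    opOf p (R.subgroupOf K) = (opOf p R).subgroupOf K := by
  apply Subgroup.map_injective K.subtype_injective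
  rw [Subgroup.subgroupOf_map_subtype, inf_eq_left.2 ((opOf_le p R).trans hRK)]
  unfold opOf
  rw [MonoidHom.map_closure]
  congr 1
  ext g
  constructor
  · rintro ⟨y, ⟨hy, hc⟩, rfl⟩
    refine ⟨Subgroup.mem_subgroupOf.1 hy, ?_⟩
    rw [Subgroup.coe_subtype, Subgroup.orderOf_coe]; exact hc
  · rintro ⟨hg, hc⟩
    refine ⟨⟨g, hRK hg⟩, ⟨Subgroup.mem_subgroupOf.2 hg, ?_⟩, rfl⟩
    change Nat.Coprime (orderOf (⟨g, hRK hg⟩ : K)) p
    rw [Subgroup.orderOf_mk]; exact hc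

/-- Relative form of Wielandt's lemma: `O_p(K)` normalizes every subnormal subgroup `R` of `K`
with `O^p(R) = R`. -/
theorem pCoreOf_le_normalizer_of_relSN [Finite G] {p : ℕ} [Fact p.Prime] {R K : Subgroup G}
    (hRK : R ≤ K) (hsn : (R.subgroupOf K).IsSubnormal) (hres : opOf p R = R) :
    pCoreOf p K ≤ Subgroup.normalizer (R : Set G) := by
  have h1 : opOf p (R.subgroupOf K) = R.subgroupOf K := by rw [opOf_subgroupOf p hRK, hres]
  have h2 := pCore_le_normalizer_of_subnormal_opOf hsn h1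
  have h3 : pCore p ↥K ≤ Subgroup.normalizer ((R.subgroupOf K : Subgroup K) : Set K) := by
    calc pCore p ↥K ≤ pCore p ↥K ⊔ R.subgroupOf K := le_sup_left
      _ ≤ Subgroup.normalizer ((pCore p ↥K ⊔ R.subgroupOf K : Subgroup K) : Set K) :=
          Subgroup.le_normalizer
      _ ≤ Subgroup.normalizer ((opOf p (pCore p ↥K ⊔ R.subgroupOf K) : Subgroup K) : Set K) :=
          normalizer_le_normalizer_opOf p _
      _ = _ := by rw [h2]
  intro x hx
  unfold pCoreOf at hx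
  obtain ⟨y, hy, rfl⟩ := hx
  have hy' := h3 hy
  rw [Subgroup.mem_normalizer_iff] at hy' ⊢
  intro n
  constructor
  · intro hn
    have := (hy' ⟨n, hRK hn⟩).1 (Subgroup.mem_subgroupOf.2 hn)
    simpa [Subgroup.mem_subgroupOf] using this
  · intro hn
    have hnK : n ∈ K := by
      have : (y:G)⁻¹ * ((y:G) * n * (y:G)⁻¹) * (y:G) ∈ K :=
        K.mul_mem (K.mul_mem (K.inv_mem y.2) (hRK hn)) y.2
      simpa [mul_assoc] using this
    have := (hy' ⟨n, hnK⟩).2 (by simpa [Subgroup.mem_subgroupOf] using hn)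
    simpa [Subgroup.mem_subgroupOf] using this

/-- If `O^p(X) = ⊥` then `X` is a `p`-group. -/
theorem isPGroup_of_opOf_eq_bot [Finite G] {p : ℕ} [Fact p.Prime] {X : Subgroup G}
    (h : opOf p X = ⊥) : IsPGroup p X := by
  intro x
  obtain ⟨k, m, hm, hkm⟩ := Nat.exists_eq_pow_mul_and_not_dvd (orderOf_pos (x : G)).ne' p
    (Fact.out : p.Prime).ne_one
  refine ⟨k, ?_⟩
  have hc : Nat.Coprime (orderOf ((x : G) ^ (p ^ k))) p := by
    rw [orderOf_pow' _ (pow_ne_zero _ (Fact.out : p.Prime).ne_zero), hkm]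
    rw [Nat.gcd_eq_right (Dvd.intro _ rfl), Nat.mul_div_cancel_left _ (pow_pos (Fact.out : p.Prime).pos _)]
    exact (Nat.Coprime.symm ((Nat.Prime.coprime_iff_not_dvd Fact.out).2 hm))
  have hmem : (x : G) ^ (p ^ k) ∈ opOf p X := mem_opOf (X.pow_mem x.2 _) hc
  rw [h, Subgroup.mem_bot] at hmem
  apply Subtype.ext
  simpa using hmem


/-- Step 2 of Wielandt's argument, abstracted: `R = O^p(R) ≠ ⊥` with `N(R) = H`, `R ≤ B`, `B ≤ H`,
`K ≤ N(B)`; `U` a `p`-group normalized by `H`. Then `U ⊓ K ≤ coreIn K (K ⊓ H)`-like statement: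
for `u ∈ U ⊓ K` and `k ∈ K`, `k u k⁻¹ ∈ H`. -/
theorem conj_mem_of_opOf [Finite G] {p : ℕ} [Fact p.Prime] {H K R B U : Subgroup G}
    (hN : Subgroup.normalizer (R : Set G) = H) (hres : opOf p R = R)
    (hRB : R ≤ B) (hBH : B ≤ H) (hKB : K ≤ Subgroup.normalizer (B : Set G))
    (hUp : IsPGroup p U) (hHU : H ≤ Subgroup.normalizer (U : Set G))
    {u k : G} (hu : u ∈ U) (huK : u ∈ K) (hk : k ∈ K) : k * u * k⁻¹ ∈ H := by
  have hkB : helper17.cj k⁻¹ B = B := helper17.cj_eq_self_iff.2 (hKB (K.inv_mem hk))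
  have huB : helper17.cj u B = B := helper17.cj_eq_self_iff.2 (hKB huK)
  have hSB : helper17.cj k⁻¹ R ≤ B := by
    calc helper17.cj k⁻¹ R ≤ helper17.cj k⁻¹ B := helper17.cj_mono hRB
      _ = B := hkB
  have hNS : Subgroup.normalizer ((helper17.cj k⁻¹ R : Subgroup G) : Set G) = helper17.cj k⁻¹ H := by
    rw [helper17.normalizer_cj, hN]
  have hBNS : B ≤ Subgroup.normalizer ((helper17.cj k⁻¹ R : Subgroup G) : Set G) := by
    rw [hNS, ← hkB]
    exact helper17.cj_mono hBH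
  have hSres : opOf p (helper17.cj k⁻¹ R) = helper17.cj k⁻¹ R := by rw [← helper17.cj_opOf, hres]
  have hS'B : helper17.cj u (helper17.cj k⁻¹ R) ≤ B := by
    calc helper17.cj u (helper17.cj k⁻¹ R) ≤ helper17.cj u B := helper17.cj_mono hSB
      _ = B := huB
  have hS'res : opOf p (helper17.cj u (helper17.cj k⁻¹ R)) = helper17.cj u (helper17.cj k⁻¹ R) := by rw [← helper17.cj_opOf, hSres]
  -- the key inclusion
  have hKx : helper17.cj k⁻¹ R ⊔ helper17.cj u (helper17.cj k⁻¹ R) ≤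
      helper17.cj k⁻¹ R ⊔ (U ⊓ (helper17.cj k⁻¹ R ⊔ helper17.cj u (helper17.cj k⁻¹ R))) := by
    apply sup_le le_sup_left
    intro s' hs'
    have hs'0 := hs'
    rw [helper17.mem_cj] at hs'
    -- s := u⁻¹ s' u ∈ S
    have hsH : u⁻¹ * s' * u ∈ H := hBH (hSB hs')
    have hc : s' * (u⁻¹ * s' * u)⁻¹ ∈ U := by
      have h1 : (u⁻¹ * s' * u) * u⁻¹ * (u⁻¹ * s' * u)⁻¹ ∈ U :=
        ((Subgroup.mem_normalizer_iff.1 (hHU hsH)) u⁻¹).1 (U.inv_mem hu)
      have h2 := U.mul_mem hu h1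
      have h3 : u * ((u⁻¹ * s' * u) * u⁻¹ * (u⁻¹ * s' * u)⁻¹) = s' * (u⁻¹ * s' * u)⁻¹ := by group
      rwa [h3] at h2
    have hc2 : s' * (u⁻¹ * s' * u)⁻¹ ∈ helper17.cj k⁻¹ R ⊔ helper17.cj u (helper17.cj k⁻¹ R) :=
      Subgroup.mul_mem _ (Subgroup.mem_sup_right hs'0)
        (Subgroup.inv_mem _ (Subgroup.mem_sup_left hs'))
    have h4 : s' = (s' * (u⁻¹ * s' * u)⁻¹) * (u⁻¹ * s' * u) := by group
    rw [h4, sup_comm]
    exact Subgroup.mul_mem_sup ⟨hc, hc2⟩ hs'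
  have h5 : opOf p (helper17.cj k⁻¹ R ⊔ helper17.cj u (helper17.cj k⁻¹ R)) ≤ helper17.cj k⁻¹ R :=
    opOf_le_of_le_sup le_sup_left (sup_le Subgroup.le_normalizer (hS'B.trans hBNS))
      (hUp.to_le inf_le_left) inf_le_right hKx
  have h6 : helper17.cj u (helper17.cj k⁻¹ R) ≤ helper17.cj k⁻¹ R := by
    calc helper17.cj u (helper17.cj k⁻¹ R) = opOf p (helper17.cj u (helper17.cj k⁻¹ R)) := hS'res.symm
      _ ≤ opOf p (helper17.cj k⁻¹ R ⊔ helper17.cj u (helper17.cj k⁻¹ R)) := opOf_mono le_sup_right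
      _ ≤ _ := h5
  have h7 : helper17.cj u (helper17.cj k⁻¹ R) = helper17.cj k⁻¹ R := by
    apply Subgroup.eq_of_le_of_card_ge h6
    rw [helper17.card_cj u]
  have h8 : u ∈ helper17.cj k⁻¹ H := by
    rw [← hNS]
    exact helper17.cj_eq_self_iff.1 h7
  rw [helper17.mem_cj] at h8
  simpa using h8


/-- **Wielandt**: in a Thompson–Wielandt setup with `O_p(H) ≠ ⊥` and `|O_p(H)| = |O_p(K)|`, the second
core `A₂` is a `p`-group: `O^p(A₂) = ⊥`. -/
theorem opOf_a2_eq_bot [Finite G] {H K : Subgroup G} (S : Setup H K) {p : ℕ} [Fact p.Prime]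
    (hU : pCoreOf p H ≠ ⊥) (hcard : Nat.card (pCoreOf p H) = Nat.card (pCoreOf p K)) :
    opOf p (a2 H K) = ⊥ := by
  by_contra hR
  have hRa2 : opOf p (a2 H K) ≤ a2 H K := opOf_le p _
  have hRB : opOf p (a2 H K) ≤ a1 K H := hRa2.trans (a2_le_a1' H K)
  have hRH : opOf p (a2 H K) ≤ H := hRa2.trans (a2_le H K)
  have hHN : H ≤ Subgroup.normalizer ((opOf p (a2 H K) : Subgroup G) : Set G) :=
    (le_normalizer_a2 H K).trans (normalizer_le_normalizer_opOf p _)
  have hN : Subgroup.normalizer ((opOf p (a2 H K) : Subgroup G) : Set G) = H :=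
    S.normalizer_eq hR hRH hHN
  have hRR : opOf p (opOf p (a2 H K)) = opOf p (a2 H K) := opOf_opOf p _
  have hBK : a1 K H ≤ K := a1_le K H
  have hBH : a1 K H ≤ H := a1_le' K H
  have hKB : K ≤ Subgroup.normalizer ((a1 K H : Subgroup G) : Set G) := le_normalizer_a1 K H
  have hHU : H ≤ Subgroup.normalizer ((pCoreOf p H : Subgroup G) : Set G) := le_normalizer_pCoreOf p H
  have hKV : K ≤ Subgroup.normalizer ((pCoreOf p K : Subgroup G) : Set G) := le_normalizer_pCoreOf p K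
  -- Step 1
  have hsn : ((opOf p (a2 H K)).subgroupOf K).IsSubnormal := by
    apply relSN_trans hRB hBK
    · exact relSN_of_normal hRB (hBH.trans hHN)
    · exact relSN_of_normal hBK hKB
  have h1 : pCoreOf p K ≤ H := by
    have := pCoreOf_le_normalizer_of_relSN (hRB.trans hBK) hsn hRR
    rwa [hN] at this
  -- Step 2
  have h2 : pCoreOf p H ⊓ K ≤ a1 K H := by
    intro u hu
    rw [Subgroup.mem_inf] at hu
    unfold a1
    rw [mem_coreIn]
    refine ⟨hu.2, fun k hk => ?_⟩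
    rw [Subgroup.mem_inf]
    refine ⟨K.mul_mem (K.mul_mem hk hu.2) (K.inv_mem hk), ?_⟩
    exact conj_mem_of_opOf hN hRR hRB hBH hKB (pCoreOf_isPGroup p H) hHU hu.1 hu.2 hk
  -- Step 3
  have h3 : pCoreOf p H ⊓ K ≤ pCoreOf p K := by
    have h31 : pCoreOf p H ⊓ K ≤ pCoreOf p (a1 K H) := by
      apply le_pCoreOf h2 ((pCoreOf_isPGroup p H).to_le inf_le_left)
      refine le_trans ?_ (normalizer_inf_le' _ _)
      exact le_inf (hBH.trans hHU) (hBK.trans Subgroup.le_normalizer)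
    exact h31.trans (pCoreOf_mono_of_normal hBK hKB)
  -- Step 4
  have hVne : pCoreOf p K ≠ ⊥ := by
    intro hV
    apply hU
    rw [hV, Subgroup.card_bot] at hcard
    exact Subgroup.card_eq_one.1 hcard
  have hNV : Subgroup.normalizer ((pCoreOf p K : Subgroup G) : Set G) = K :=
    S.symm.normalizer_eq hVne (pCoreOf_le p K) hKV
  have hVU : pCoreOf p K ≤ Subgroup.normalizer ((pCoreOf p H : Subgroup G) : Set G) := h1.trans hHU
  have hpg : IsPGroup p (pCoreOf p K ⊔ pCoreOf p H : Subgroup G) :=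
    IsPGroup.to_sup_of_normal_right' (pCoreOf_isPGroup p K) (pCoreOf_isPGroup p H) hVU
  have h4 : pCoreOf p H ≤ pCoreOf p K := by
    apply le_of_self_normalizing hpg
    intro y hy hyN
    rw [hNV] at hyN
    rw [sup_comm] at hy
    obtain ⟨x, hx, v, hv, rfl⟩ := exists_mul_of_mem_sup _ _ hVU y hy
    have hxK : x ∈ K := by
      have := K.mul_mem hyN (K.inv_mem (pCoreOf_le p K hv))
      simpa using this
    exact Subgroup.mul_mem _ (h3 ⟨hx, hxK⟩) hv
  have h5 : pCoreOf p H = pCoreOf p K := Subgroup.eq_of_le_of_card_ge h4 hcard.ge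
  apply hU
  apply S.eq_bot_of_normal_both (pCoreOf_le p H) _ hHU _
  · rw [h5]; exact pCoreOf_le p K
  · rw [h5]; exact hKV

end Cfsg.Agent.Lib.Helper10.TW
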