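import Mathlib
import Cfsg.Agent.Lib.Helper10.TW10

set_option autoImplicit false

namespace Cfsg.Agent.Lib.Helper10.TW

open Cfsg Cfsg.Agent.Lib.Helper1 Cfsg.Agent.Lib.Helper10 Cfsg.Agent.Lib.Helper10.Bender
  Cfsg.Agent.Lib.helper17

variable {G : Type*} [Group G] [Finite G]

omit [Finite G] in
theorem conj_pCoreOf_le (p : ℕ) (g : G) (A : Subgroup G) :
    helper17.cj g (pCoreOf p A) ≤ pCoreOf p (helper17.cj g A) := by
  apply le_pCoreOf (helper17.cj_mono (pCoreOf_le p A)) (helper17.isPGroup_cj (pCoreOf_isPGroup p A))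
  rw [helper17.normalizer_cj]
  exact helper17.cj_mono (le_normalizer_pCoreOf p A)

omit [Finite G] in
theorem conj_pCoreOf (p : ℕ) (g : G) (A : Subgroup G) :
    helper17.cj g (pCoreOf p A) = pCoreOf p (helper17.cj g A) := by
  apply le_antisymm (conj_pCoreOf_le p g A)
  have := conj_pCoreOf_le p g⁻¹ (helper17.cj g A)
  rw [helper17.cj_inv_cj, helper17.cj_le_iff, inv_inv] at this
  exact this

omit [Finite G] in
theorem card_pCoreOf_of_conj {H K : Subgroup G} (g : G)
    (hK : K = H.map (MulAut.conj g).toMonoidHom) (p : ℕ) :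
    Nat.card (pCoreOf p H) = Nat.card (pCoreOf p K) := by
  rw [hK]
  have h := conj_pCoreOf p g H
  rw [← h]
  exact (helper17.card_cj g _).symm

/-- The second core is a `p`-group for every prime `p` with `O_p(H) ≠ ⊥` (conjugate case). -/
theorem isPGroup_a2 {H K : Subgroup G} (S : Setup H K) (g : G)
    (hK : K = H.map (MulAut.conj g).toMonoidHom) {p : ℕ} (hp : p.Prime)
    (hU : pCoreOf p H ≠ ⊥) : IsPGroup p (a2 H K) := by
  haveI : Fact p.Prime := ⟨hp⟩
  exact isPGroup_of_opOf_eq_bot (opOf_a2_eq_bot S hU (card_pCoreOf_of_conj g hK p))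

/-- Abstract form of Wielandt's bound (S3682). -/
theorem tw_wielandt {H K : Subgroup G} (S : Setup H K) (g : G)
    (hK : K = H.map (MulAut.conj g).toMonoidHom) :
    ∃ p : ℕ, p.Prime ∧ ∃ P : Subgroup G, P ≤ H ∧ P ≤ K ∧
      H ≤ Subgroup.normalizer (P : Set G) ∧ IsPGroup p P ∧
      P.relIndex H ∣
        ((H ⊓ K).relIndex H).factorial * (((H ⊓ K).relIndex H - 1).factorial) ^ ((H ⊓ K).relIndex H) := by
  have hcard := card_eq_of_conj g hK
  by_cases hA : a2 H K = ⊥
  · refine ⟨2, Nat.prime_two, ⊥, bot_le, bot_le, ?_, IsPGroup.of_bot, ?_⟩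
    · intro x _
      rw [Subgroup.mem_normalizer_iff]
      intro n
      simp [Subgroup.mem_bot]
    · have := relIndex_a2_dvd hcard (H := H) (K := K)
      rwa [hA] at this
  by_cases hB : a2 K H = ⊥
  · refine ⟨2, Nat.prime_two, ⊥, bot_le, bot_le, ?_, IsPGroup.of_bot, ?_⟩
    · intro x _
      rw [Subgroup.mem_normalizer_iff]
      intro n
      simp [Subgroup.mem_bot]
    · rw [Subgroup.relIndex_bot_left]
      exact card_dvd_of_a2_eq_bot' hcard hB
  obtain ⟨t, ht, hAt, -, -, -⟩ := fstar_eq_pCore S hA hB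
  have hU : pCoreOf t H ≠ ⊥ := by
    intro h
    apply hAt
    rw [eq_bot_iff, ← h]
    exact pCoreOf_mono_of_normal (a2_le H K) (le_normalizer_a2 H K)
  exact ⟨t, ht, a2 H K, a2_le H K, (a2_le_a1 H K).trans (a1_le' H K), le_normalizer_a2 H K,
    isPGroup_a2 S g hK ht hU, relIndex_a2_dvd hcard⟩

end Cfsg.Agent.Lib.Helper10.TW
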