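import Mathlib
import Cfsg.Agent.Lib.Helper10.TW11

set_option autoImplicit false

namespace Cfsg.Agent.Lib.Helper10.TW

open Cfsg Cfsg.Agent.Lib.Helper1 Cfsg.Agent.Lib.Helper10 Cfsg.Agent.Lib.Helper10.Bender
  Cfsg.Agent.Lib.helper17

variable {G : Type*} [Group G]

theorem isCoatom_conj {H : Subgroup G} (hH : IsCoatom H) (g : G) :
    IsCoatom (H.map (MulAut.conj g).toMonoidHom) := by
  have h := ((MulAut.conj g).mapSubgroup.isCoatom_iff H).mpr hH
  exact h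

theorem normalCore_conj {H : Subgroup G} (hH : H.normalCore = ⊥) (g : G) :
    (H.map (MulAut.conj g).toMonoidHom).normalCore = ⊥ := by
  rw [eq_bot_iff]
  intro x hx
  rw [← hH]
  intro z
  have h1 := hx (g * z)
  have h2 := (helper17.mem_cj (g := g) (K := H)).1 h1
  have h3 : g⁻¹ * (g * z * x * (g * z)⁻¹) * g = z * x * z⁻¹ := by group
  rwa [h3] at h2

theorem setup_of_conj {H K : Subgroup G} (hH : IsCoatom H) (hc : H.normalCore = ⊥) (g : G)
    (hK : K = H.map (MulAut.conj g).toMonoidHom) (hne : H ≠ K) : Setup H K :=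
  ⟨hH, hK ▸ isCoatom_conj hH g, hc, hK ▸ normalCore_conj hc g, hne⟩

theorem conj_symm {H K : Subgroup G} (g : G) (hK : K = H.map (MulAut.conj g).toMonoidHom) :
    H = K.map (MulAut.conj g⁻¹).toMonoidHom := by
  rw [hK]
  exact (helper17.cj_inv_cj g H).symm

variable [Finite G]

/-- Variant of `fstar_eq_pCore` exposing the structural facts. -/
theorem fstar_data {H K : Subgroup G} (S : Setup H K) (hA : a2 H K ≠ ⊥) (hB : a2 K H ≠ ⊥) :
    ∃ t : ℕ, t.Prime ∧ pCoreOf t (a2 H K) ≠ ⊥ ∧ pCoreOf t (a2 K H) ≠ ⊥ ∧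
      (∀ s : ℕ, s.Prime → s ≠ t → pCoreOf s H = ⊥) ∧
      (∀ s : ℕ, s.Prime → s ≠ t → pCoreOf s K = ⊥) ∧ layOf H = ⊥ ∧ layOf K = ⊥ := by
  obtain ⟨r, hr, hAr⟩ := exists_pCoreOf_a2_ne_bot S hA hB
  obtain ⟨p, hp, hBp⟩ := exists_pCoreOf_a2_ne_bot S.symm hB hA
  obtain ⟨t, ht, hAt, hBt⟩ : ∃ t : ℕ, t.Prime ∧ pCoreOf t (a2 H K) ≠ ⊥ ∧
      pCoreOf t (a2 K H) ≠ ⊥ := by
    by_cases hrp : r = p
    · exact ⟨p, hp, hrp ▸ hAr, hBp⟩
    · exact ⟨p, hp, step3c S hr hp hAr hBp hrp, hBp⟩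
  have hcore : ∀ s : ℕ, s.Prime → s ≠ t → pCoreOf s H = ⊥ ∧ pCoreOf s K = ⊥ := by
    intro s hs hst
    have e1 := step3b S ht ht hs hAt hBt hst hst
    have e2 := step3b S.symm ht ht hs hBt hAt hst hst
    have e : pCoreOf s H = pCoreOf s K := le_antisymm e2 e1
    have h0 : pCoreOf s H = ⊥ := by
      apply S.eq_bot_of_normal_both (pCoreOf_le s H) (e ▸ pCoreOf_le s K)
        (le_normalizer_pCoreOf s H)
      rw [e]; exact le_normalizer_pCoreOf s K
    exact ⟨h0, e ▸ h0⟩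
  exact ⟨t, ht, hAt, hBt, fun s hs hst => (hcore s hs hst).1, fun s hs hst => (hcore s hs hst).2,
    layOf_eq_bot S hA hB, layOf_eq_bot S.symm hB hA⟩

theorem fstar_eq_pCore_of_normal_sub {N M : Subgroup G} {t : ℕ} (ht : t.Prime) (hNM : N ≤ M)
    (hn : M ≤ Subgroup.normalizer (N : Set G)) (hl : layOf M = ⊥)
    (hcore : ∀ s : ℕ, s.Prime → s ≠ t → pCoreOf s M = ⊥) :
    generalizedFittingSubgroup ↥N = pCore t ↥N := by
  have hlN : layer ↥N = ⊥ := by
    have h1 : layOf N = ⊥ := by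
      rw [eq_bot_iff, ← hl]
      exact layOf_mono_of_normal hNM hn
    unfold layOf at h1
    exact (Subgroup.map_eq_bot_iff_of_injective _ N.subtype_injective).mp h1
  unfold generalizedFittingSubgroup
  rw [hlN, bot_sup_eq]
  apply fitting_eq_pCore_of ht
  intro s hs hst
  rw [eq_bot_iff, ← hcore s hs hst]
  exact pCoreOf_mono_of_normal hNM hn

/-- Abstract form of S5752. -/
theorem tw_second_cores {H K : Subgroup G} (hH : IsCoatom H) (hc : H.normalCore = ⊥) (g : G)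
    (hK : K = H.map (MulAut.conj g).toMonoidHom) (hne : H ≠ K)
    (hA : a2 H K ≠ ⊥) (hB : a2 K H ≠ ⊥) :
    ∃ p : ℕ, p.Prime ∧ IsPGroup p ↥(a2 H K ⊔ a2 K H) ∧
      generalizedFittingSubgroup ↥H = pCore p ↥H ∧
      generalizedFittingSubgroup ↥(a1 H K) = pCore p ↥(a1 H K) ∧
      generalizedFittingSubgroup ↥K = pCore p ↥K ∧
      generalizedFittingSubgroup ↥(a1 K H) = pCore p ↥(a1 K H) := by
  have S := setup_of_conj hH hc g hK hne
  obtain ⟨t, ht, hAt, hBt, hcH, hcK, hlH, hlK⟩ := fstar_data S hA hB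
  have hUH : pCoreOf t H ≠ ⊥ := by
    intro h
    apply hAt
    rw [eq_bot_iff, ← h]
    exact pCoreOf_mono_of_normal (a2_le H K) (le_normalizer_a2 H K)
  have hUK : pCoreOf t K ≠ ⊥ := by
    intro h
    apply hBt
    rw [eq_bot_iff, ← h]
    exact pCoreOf_mono_of_normal (a2_le K H) (le_normalizer_a2 K H)
  have hpA : IsPGroup t (a2 H K) := isPGroup_a2 S g hK ht hUH
  have hpB : IsPGroup t (a2 K H) := isPGroup_a2 S.symm g⁻¹ (conj_symm g hK) ht hUK
  refine ⟨t, ht, ?_, ?_, ?_, ?_, ?_⟩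
  · apply IsPGroup.to_sup_of_normal_right' hpA hpB
    exact ((a2_le_a1' H K).trans (a1_le K H)).trans (le_normalizer_a2 K H)
  · exact fstar_eq_pCore_of_normal_sub ht le_rfl Subgroup.le_normalizer hlH hcH
  · exact fstar_eq_pCore_of_normal_sub ht (a1_le H K) (le_normalizer_a1 H K) hlH hcH
  · exact fstar_eq_pCore_of_normal_sub ht le_rfl Subgroup.le_normalizer hlK hcK
  · exact fstar_eq_pCore_of_normal_sub ht (a1_le K H) (le_normalizer_a1 K H) hlK hcK

end Cfsg.Agent.Lib.Helper10.TW
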