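import Mathlib

/-!
# Project TWIF4, piece HODDA (helper10): an involution `h n` with `n` an involution normalising the
abelian group `A ∋ h` of odd order is conjugate to `n` under `A`
-/

set_option autoImplicit false
set_option linter.unusedVariables false

namespace Cfsg.Agent.Lib.helper8.TWIF4

/-- HODDA : abstract form: an involution `h n`, `n` an involution normalising the abelian group `A ∋ h` of odd order,
is conjugate to `n` under `A` -/
theorem hodd_abs {G : Type*} [Group G] (A : Subgroup G) [Finite A] (hodd : Odd (Nat.card A))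
    (hcomm : ∀ a ∈ A, ∀ b ∈ A, a * b = b * a) (n : G) (hn : n * n = 1)
    (hnorm : ∀ a ∈ A, n * a * n⁻¹ ∈ A) (h : G) (hh : h ∈ A) (hsq : (h * n) * (h * n) = 1) :
    ∃ c ∈ A, c * (h * n) * c⁻¹ = n := by
  obtain ⟨f, hf⟩ := hodd
  have hninv : n⁻¹ = n := inv_eq_of_mul_eq_one_right hn
  -- `n h n⁻¹ = h⁻¹`
  have hconj : n * h * n⁻¹ = h⁻¹ := by
    rw [hninv]
    have h1 : h * (n * h * n) = 1 := by
      have : (h * n) * (h * n) = h * (n * h * n) := by group
      rw [← this]; exact hsq
    exact (inv_eq_of_mul_eq_one_right h1).symm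
  -- `h ^ (2f+1) = 1`
  have hpow : h ^ (2 * f + 1) = 1 := by
    have h1 : (⟨h, hh⟩ : A) ^ Nat.card A = 1 := pow_card_eq_one'
    rw [hf] at h1
    have := congrArg (Subtype.val) h1
    simpa using this
  have hconjpow : ∀ k : ℕ, n * h ^ k * n⁻¹ = (h ^ k)⁻¹ := by
    intro k
    have : n * h ^ k * n⁻¹ = (n * h * n⁻¹) ^ k := by
      rw [conj_pow]
    rw [this, hconj, inv_pow]
  refine ⟨h ^ f, A.pow_mem hh f, ?_⟩
  have h2 : (h ^ f)⁻¹ = n⁻¹ * (h ^ f) * n := by
    have := hconjpow f
    rw [← this, hninv]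
  calc h ^ f * (h * n) * (h ^ f)⁻¹ = h ^ f * (h * n) * (n⁻¹ * (h ^ f) * n) := by rw [h2]
    _ = (h ^ f * h * h ^ f) * n := by group
    _ = h ^ (2 * f + 1) * n := by
        congr 1
        rw [← pow_succ, ← pow_add]
        congr 1
        omega
    _ = n := by rw [hpow, one_mul]

end Cfsg.Agent.Lib.helper8.TWIF4
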