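import Mathlib
import Cfsg.Prelude.Def_ChevStructure
import Cfsg.Prelude.Def_ChevF4
import Cfsg.Prelude.Def_LieTwisted
import Cfsg.Agent.Lib.helper14.TWI.Defs
import Cfsg.Agent.Lib.helper14.INV.Gen
import Cfsg.Agent.Lib.helper14.F4Ch
import Cfsg.Agent.Lib.helper8.ChevTwO2
import Cfsg.Agent.Lib.helper8.ChevTF32

/-!
# Project TWIF4, piece M2W, core (helper10): the jump `w ↦ s w s` for the six short reflections,
with the statement of NSQ (`n_k² = 1`) as a hypothesis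
-/

set_option autoImplicit false
set_option linter.unusedVariables false

namespace Cfsg.Agent.Lib.helper8.TWIF4

open Cfsg.Lie Cfsg.Lie.ChevalleyDatum Cfsg.Agent.Lib.helper8 Cfsg.Agent.Lib.helper14
  Cfsg.Agent.Lib.helper14.INV Cfsg.Agent.Lib.helper14.TWI

universe u

variable {K : Type u} [Field K]

/-- the tables for M2W -/
theorem twif4m2w_table : ∀ p ∈ [(1, 1), (6, 0), (9, 1), (2, 0), (5, 1), (10, 0)],
    h8posW chevF4 (h8ofJ p.2) (h8ofW p.1 ++ h8ofJ p.2) = true ∧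
    p.1 ∈ [1, 2, 5, 6, 9, 10, 13, 14, 15] ∧ (p.2 + 1) ∈ [1, 2, 5, 6, 9, 10, 13, 14, 15] ∧
    h8ofJ p.2 = h8ofW (p.2 + 1) ∧ (∀ i ∈ h8ofW p.1, i < chevF4.rank) ∧
    (∀ i ∈ h8ofJ p.2, i < chevF4.rank) := by
  decide +kernel

/-- M2W, core : the jump `w ↦ s w s` for the six short reflections -/
theorem twif4m2w_core (hB : H8Base.{u} chevF4)
    (hnsq : ∀ k ∈ [1, 2, 5, 6, 9, 10, 13, 14, 15],
      (h8nWU chevF4 hB (h8ofW k) : GL chevF4.Idx K) * h8nWU chevF4 hB (h8ofW k) = 1)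
    (k j : ℕ)
    (hkj : (k, j) ∈ [(1, 1), (6, 0), (9, 1), (2, 0), (5, 1), (10, 0)])
    (h0 u : GL chevF4.Idx K) (hh : h0 ∈ chevF4.diagonalSubgroup K)
    (hu : u ∈ chevF4.posUnipotent K)
    (hsq : (h0 * (h8nWU chevF4 hB (h8ofW k) : GL chevF4.Idx K) * u) *
      (h0 * (h8nWU chevF4 hB (h8ofW k) : GL chevF4.Idx K) * u) = 1) :
    InCell chevF4 hB ((h8nWU chevF4 hB (h8ofJ j) : GL chevF4.Idx K) *
      (h0 * (h8nWU chevF4 hB (h8ofW k) : GL chevF4.Idx K) * u) *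
      (h8nWU chevF4 hB (h8ofJ j) : GL chevF4.Idx K)⁻¹) (h8ofJ j ++ h8ofW k ++ h8ofJ j) := by
  have hD := f4c_mem_list
  have hA := h8reflAll chevF4 hD
  have hC := h8commAll.{u} chevF4 hD
  have hBN := h8bn_all chevF4 hD
  obtain ⟨hpos, hk1, hj1, hJW, hwk, hwj⟩ := twif4m2w_table (k, j) hkj
  simp only at hpos hk1 hj1 hJW hwk hwj
  set nk : GL chevF4.Idx K := h8nWU chevF4 hB (h8ofW k) with hnk
  set nj : GL chevF4.Idx K := h8nWU chevF4 hB (h8ofJ j) with hnj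
  have hnk2 : nk * nk = 1 := hnsq k hk1
  have hnj2 : nj * nj = 1 := by
    rw [hnj, hJW]; exact hnsq (j + 1) hj1
  have hnkinv : nk⁻¹ = nk := inv_eq_of_mul_eq_one_right hnk2
  have hnjinv : nj⁻¹ = nj := inv_eq_of_mul_eq_one_right hnj2
  -- `y = y⁻¹`
  have hyinv : h0 * nk * u = u⁻¹ * nk * h0⁻¹ := by
    have h1 : (h0 * nk * u)⁻¹ = h0 * nk * u := inv_eq_of_mul_eq_one_right hsq
    rw [← h1, mul_inv_rev, mul_inv_rev, hnkinv, mul_assoc]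
  -- `h' = n_k h0⁻¹ n_k⁻¹ ∈ H`
  have hnorm := h8nWU_mem_normalizer_H (F := K) chevF4 hB hA (h8ofW k) hwk
  have hh' : nk * h0⁻¹ * nk⁻¹ ∈ chevF4.diagonalSubgroup K :=
    (Subgroup.mem_normalizer_iff.mp hnorm h0⁻¹).mp (Subgroup.inv_mem _ hh)
  have hb : u⁻¹ * (nk * h0⁻¹ * nk⁻¹) ∈ chevF4.borelSubgroup K :=
    Subgroup.mul_mem _ (h8U_le_B chevF4 (Subgroup.inv_mem _ hu)) (h8H_le_B chevF4 hh')
  have hv : ∀ i ∈ h8ofW k ++ h8ofJ j, i < chevF4.rank := by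
    intro i hi
    rw [List.mem_append] at hi
    rcases hi with hi | hi
    · exact hwk i hi
    · exact hwj i hi
  obtain ⟨b1, hb1, b2, hb2, e⟩ := h8bn_pos_word (K := K) chevF4 hB hA hC hBN (h8ofW k ++ h8ofJ j) hv
    (h8ofJ j) hwj hpos _ hb
  refine ⟨b1, hb1, b2, hb2, ?_⟩
  rw [List.append_assoc, ← e, h8nWU_append, ← hnk, ← hnj, hyinv, hnjinv]
  have : nk⁻¹ * nk = 1 := inv_mul_cancel nk
  calc nj * (u⁻¹ * nk * h0⁻¹) * nj = nj * (u⁻¹ * (nk * h0⁻¹ * (nk⁻¹ * nk))) * nj := by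
        rw [this, mul_one]; group
    _ = nj * (u⁻¹ * (nk * h0⁻¹ * nk⁻¹)) * (nk * nj) := by group

end Cfsg.Agent.Lib.helper8.TWIF4
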