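import Mathlib
import Cfsg.Agent.Lib.Helper10.TWIF4M2Wcore
import Cfsg.Agent.Lib.helper8.TWIF4A

/-!
# Project TWIF4, piece M2W (helper10): the jump `w ↦ s w s` for the six short reflections
(wrapper of `twif4m2w_core` with NSQ)
-/

set_option autoImplicit false
set_option linter.unusedVariables false

namespace Cfsg.Agent.Lib.helper8.TWIF4

open Cfsg.Lie Cfsg.Lie.ChevalleyDatum Cfsg.Agent.Lib.helper8 Cfsg.Agent.Lib.helper14
  Cfsg.Agent.Lib.helper14.INV Cfsg.Agent.Lib.helper14.TWI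

universe u

variable {K : Type u} [Field K]

/-- M2W : the jump `w ↦ s w s` for the six short reflections -/
theorem f4_jump [CharP K 2] (hB : H8Base.{u} chevF4) (k j : ℕ)
    (hkj : (k, j) ∈ [(1, 1), (6, 0), (9, 1), (2, 0), (5, 1), (10, 0)])
    (h0 u : GL chevF4.Idx K) (hh : h0 ∈ chevF4.diagonalSubgroup K)
    (hu : u ∈ chevF4.posUnipotent K)
    (hsq : (h0 * (h8nWU chevF4 hB (h8ofW k) : GL chevF4.Idx K) * u) *
      (h0 * (h8nWU chevF4 hB (h8ofW k) : GL chevF4.Idx K) * u) = 1) :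
    InCell chevF4 hB ((h8nWU chevF4 hB (h8ofJ j) : GL chevF4.Idx K) *
      (h0 * (h8nWU chevF4 hB (h8ofW k) : GL chevF4.Idx K) * u) *
      (h8nWU chevF4 hB (h8ofJ j) : GL chevF4.Idx K)⁻¹) (h8ofJ j ++ h8ofW k ++ h8ofJ j) :=
  twif4m2w_core hB (fun k hk => f4_nsq hB k hk) k j hkj h0 u hh hu hsq

end Cfsg.Agent.Lib.helper8.TWIF4
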