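import Mathlib
import Cfsg.Prelude.Def_ChevStructure
import Cfsg.Prelude.Def_ChevF4
import Cfsg.Prelude.Def_LieTwisted
import Cfsg.Agent.Lib.helper14.TWI.Defs
import Cfsg.Agent.Lib.helper14.INV.Gen
import Cfsg.Agent.Lib.helper14.INVSUPPb
import Cfsg.Agent.Lib.helper14.F4Ch
import Cfsg.Agent.Lib.helper8.ChevTF32

/-!
# Project TWIF4, piece SUPPL (helper10): the support of `u` for the two long reflections and `w₀`
-/

set_option autoImplicit false
set_option linter.unusedVariables false

namespace Cfsg.Agent.Lib.helper8.TWIF4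

open Cfsg.Lie Cfsg.Lie.ChevalleyDatum Cfsg.Agent.Lib.helper8 Cfsg.Agent.Lib.helper14
  Cfsg.Agent.Lib.helper14.INV Cfsg.Agent.Lib.helper14.TWI

universe u

variable {K : Type u} [Field K]

/-- an ordered product of positive root elements with parameters supported in `L` lies in `X_L` -/
theorem twif4suppl_mem (D : ChevalleyDatum) (hB : H8Base.{u} D) (L : List ℕ) (c : ℕ → K)
    (hc : ∀ r, D.IsPosRoot r → c r ≠ 0 → r ∈ L) :
    ∀ (m k : ℕ), k + m = D.nroots → f4cW D hB k c ∈ Subgroup.closure (h8XLSet D K L) := by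
  intro m
  induction m with
  | zero =>
    intro k hk
    rw [f4cW_top D hB k (by omega)]
    exact Subgroup.one_mem _
  | succ m ih =>
    intro k hk
    by_cases hpos : D.IsPosRoot k
    · rw [f4cW_pos D hB k hpos]
      apply Subgroup.mul_mem _ _ (ih (k + 1) (by omega))
      by_cases hck : c k = 0
      · rw [hck, h8xU_zero]
        exact Subgroup.one_mem _
      · apply Subgroup.subset_closure
        exact ⟨k, c k, hc k hpos hck, h8xU_val D hB k (c k)⟩
    · rw [f4cW_not D hB k hpos]
      exact ih (k + 1) (by omega)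

/-- the table: the positive roots kept positive by the three words -/
theorem twif4suppl_table (k : ℕ) (L : List ℕ)
    (hkL : (k, L) ∈ [(13, [25, 27, 28, 30]), (14, [24, 33]), (15, ([] : List ℕ))]) :
    ∀ r, chevF4.IsPosRoot r → chevF4.IsPosRoot (h8sW chevF4 (h8ofW k) r) → r ∈ L := by
  have key : ∀ p ∈ [(13, [25, 27, 28, 30]), (14, [24, 33]), (15, ([] : List ℕ))],
      ∀ r < 48, decide (chevF4.IsPosRoot r) = true →
        decide (chevF4.IsPosRoot (h8sW chevF4 (h8ofW p.1) r)) = true → r ∈ p.2 := by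
    decide +kernel
  intro r hr hr'
  have hlt : r < 48 := hr.1
  exact key (k, L) hkL r hlt (by simpa using hr) (by simpa using hr')

/-- SUPPL : the support of `u` for the two long reflections and for `w₀` -/
theorem f4_supp [CharP K 2] (hB : H8Base.{u} chevF4) (k : ℕ) (L : List ℕ)
    (hkL : (k, L) ∈ [(13, [25, 27, 28, 30]), (14, [24, 33]), (15, [])])
    (h0 u : GL chevF4.Idx K) (hh : h0 ∈ chevF4.diagonalSubgroup K)
    (hu : u ∈ chevF4.posUnipotent K)
    (hsq : (h0 * (h8nWU chevF4 hB (h8ofW k) : GL chevF4.Idx K) * u) *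
      (h0 * (h8nWU chevF4 hB (h8ofW k) : GL chevF4.Idx K) * u) = 1) :
    u ∈ Subgroup.closure (h8XLSet chevF4 K L) := by
  have hD := f4c_mem_list
  have hA := h8reflAll chevF4 hD
  have hC := h8commAll.{u} chevF4 hD
  have hBN := h8bn_all chevF4 hD
  have hW := h8bn2_all chevF4 hD
  obtain ⟨hO, hO2⟩ := h8ord_all chevF4 hD
  have hw : ValidW chevF4 (h8ofW k) := by
    have : ∀ p ∈ [(13, [25, 27, 28, 30]), (14, [24, 33]), (15, ([] : List ℕ))],
        ∀ i ∈ h8ofW p.1, i < chevF4.rank := by decide +kernel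
    exact this (k, L) hkL
  obtain ⟨c, rfl, hc⟩ := invol_supp_b chevF4 hB hA hC hBN hW hO hO2 (h8ofW k) hw h0 u hh hu hsq
  have htab := twif4suppl_table k L hkL
  exact twif4suppl_mem chevF4 hB L c (fun r hr hcr => htab r hr (hc r hr hcr)) chevF4.nroots 0
    (by omega)

end Cfsg.Agent.Lib.helper8.TWIF4
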