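import Mathlib
import Cfsg.Prelude.Def_ChevStructure
import Cfsg.Agent.Lib.helper14.TWI.Defs
import Cfsg.Agent.Lib.helper14.INV.Gen
import Cfsg.Agent.Lib.helper8.ChevIE7b

/-!
# Project TWI, piece NOTB (helper10): `n_O (x_{p_j}(a) u₁) n_O⁻¹ ∉ B`
-/

set_option autoImplicit false
set_option linter.unusedVariables false

namespace Cfsg.Agent.Lib.helper14.TWI

open Cfsg.Lie Cfsg.Lie.ChevalleyDatum Cfsg.Agent.Lib.helper8 Cfsg.Agent.Lib.helper14
  Cfsg.Agent.Lib.helper14.INV

universe u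

variable {F : Type u} [Field F]

/-- a word of reflections orthogonal to `p_j` fixes `p_j` -/
theorem twinotb_fix (D : ChevalleyDatum) (j : ℕ) (O : List ℕ)
    (h : ∀ k ∈ O, D.reflectRoot k (D.simple j) = D.simple j) :
    h8sW D O (D.simple j) = D.simple j := by
  induction O with
  | nil => rfl
  | cons i O ih =>
    show D.reflectRoot i (h8sW D O (D.simple j)) = D.simple j
    rw [ih (fun k hk => h k (List.mem_cons_of_mem _ hk))]
    exact h i List.mem_cons_self

/-- the product of the reflections of an orbit maps `p_j` to `-p_j` -/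
theorem twinotb_sW_orb (D : ChevalleyDatum) (hA : H8ReflAll D) (hBN : H8BN D) (O : List ℕ)
    (hO : IsOrb D O) (j : ℕ) (hj : j ∈ O) :
    h8sW D O (D.simple j) = D.negIdx.getD (D.simple j) 0 := by
  induction O with
  | nil => exact absurd hj List.not_mem_nil
  | cons i O ih =>
    obtain ⟨hnd, hlt, horth⟩ := hO
    have hnd' := List.nodup_cons.mp hnd
    have hO' : IsOrb D O := ⟨hnd'.2, fun k hk => hlt k (List.mem_cons_of_mem _ hk),
      fun a ha b hb hab => horth a (List.mem_cons_of_mem _ ha) b (List.mem_cons_of_mem _ hb) hab⟩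
    show D.reflectRoot i (h8sW D O (D.simple j)) = D.negIdx.getD (D.simple j) 0
    rcases List.mem_cons.mp hj with rfl | hjO
    · rw [twinotb_fix D j O (fun k hk => horth k (List.mem_cons_of_mem _ hk) j List.mem_cons_self
        (fun hkj => hnd'.1 (hkj ▸ hk)))]
      exact h8reflectRoot_simple D j
    · rw [ih hO' hjO]
      have hi : i < D.rank := hlt i List.mem_cons_self
      have hjr : j < D.rank := hlt j hj
      obtain ⟨η, hR⟩ := h8reflAll_spec D hA i hi
      rw [hR.negc _ (h8simple_pos D hBN j hjr).1]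
      rw [horth i List.mem_cons_self j hj (fun hij => hnd'.1 (hij ▸ hjO))]

/-- NOTB : `n_O (x_{p_j}(a) u₁) n_O⁻¹ ∉ B` for `j ∈ O`, `a ≠ 0`, `u₁` in the group generated by the other positive
root subgroups -/
theorem orb_conj_not_borel (D : ChevalleyDatum) (hB : H8Base.{u} D) (hB0 : H8Base.{0} D)
    (hA : H8ReflAll D) (hC : H8CommAll.{u} D) (hBN : H8BN D) (hW : H8BN2 D) (hO : H8Ord D)
    (hO2 : H8Ord2 D) (O : List ℕ) (hOr : IsOrb D O) (j : ℕ) (hj : j ∈ O) (a : F) (ha : a ≠ 0)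
    (u₁ : GL D.Idx F) (hu₁ : u₁ ∈ Subgroup.closure (h8UpSet D F (D.simple j))) :
    (h8nWU D hB O : GL D.Idx F) * (h8xU D hB (D.simple j) a * u₁) * (h8nWU D hB O : GL D.Idx F)⁻¹ ∉
      D.borelSubgroup F := by
  intro hmem
  have hOv : ∀ i ∈ O, i < D.rank := hOr.2.1
  have hjr : j < D.rank := hOv j hj
  have hpj := h8simple_pos D hBN j hjr
  have hgU : h8xU D hB (D.simple j) a * u₁ ∈ D.posUnipotent F :=
    Subgroup.mul_mem _ (h8xU_mem_U D hB _ hpj a) (up_le_U D hB _ hu₁)
  obtain ⟨t, ht⟩ := suppb_pos_split D hB hC hBN hO (h8nWU D hB O : GL D.Idx F) (h8sW D O)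
    (fun r hr => h8sW_lt D hA O hOv r hr)
    (fun r hr => h8nWU_act D hB hA O hOv r hr) _ hgU hmem
  -- the word lies in `Up_j`
  have hword : h8wordU D hB (h8ordP D (fun r => decide (D.IsPosRoot (h8sW D O r))) 0 t) ∈
      Subgroup.closure (h8UpSet D F (D.simple j)) := by
    apply h8wordU_mem_up
    intro q hq
    unfold h8ordP at hq
    rw [List.mem_map] at hq
    obtain ⟨r, hr, rfl⟩ := hq
    obtain ⟨h1, h2⟩ := List.mem_filter.mp hr
    refine ⟨((h8Lk_mem D 0 r).mp h1).2, ?_⟩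
    intro hrj
    change r = D.simple j at hrj
    rw [hrj, twinotb_sW_orb D hA hBN O hOr j hj] at h2
    have h3 : D.IsPosRoot (D.negIdx.getD (D.simple j) 0) := by simpa using h2
    have h4 := (h8PosOK_spec hB.posOK h3).1
    have h5 := (h8PosOK_spec hB.posOK hpj).2.1
    omega
  have hx : h8xU D hB (D.simple j) a ∈ Subgroup.closure (h8UpSet D F (D.simple j)) := by
    have : h8xU D hB (D.simple j) a = (h8xU D hB (D.simple j) a * u₁) * u₁⁻¹ := by group
    rw [this, ht]
    exact Subgroup.mul_mem _ hword (Subgroup.inv_mem _ hu₁)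
  -- conjugate by `n_j`
  have hx' : h8nU D hB (D.simple j) (1 : F) * h8xU D hB (D.simple j) a *
      (h8nU D hB (D.simple j) (1 : F))⁻¹ ∈ Subgroup.closure (h8UpSet D F (D.simple j)) :=
    ((Subgroup.mem_normalizer_iff.1
      (h8nU_normalizes_up (F := F) D hB hA j hjr (hBN.sp j hjr))) _).1 hx
  obtain ⟨c1, hc1, e1⟩ := h8act_nU (F := F) D hB hA j hjr (D.simple j) hpj.1
  rw [h8reflectRoot_simple] at e1
  rw [e1 a] at hx'
  have hneg := h8neg_of_pos D hB hO2 _ hpj
  have hbot : h8xU D hB (D.negIdx.getD (D.simple j) 0) (c1 * a) ∈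
      D.borelSubgroup F ⊓ D.negUnipotent F :=
    Subgroup.mem_inf.mpr ⟨h8U_le_B D (up_le_U D hB _ hx'), h8xU_mem_V D hB _ hneg _⟩
  rw [h8_B_inf_V D hB hBN.negOK, Subgroup.mem_bot] at hbot
  have h0 : c1 * a = 0 := by
    apply h8xU_inj_t D hB hA hW _ hneg.1 (c1 * a) 0
    rw [hbot, h8xU_zero]
  exact (mul_ne_zero hc1 ha) h0

end Cfsg.Agent.Lib.helper14.TWI
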