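import Mathlib
import Cfsg.Prelude.Def_ChevStructure
import Cfsg.Agent.Lib.helper14.TWI.Defs
import Cfsg.Agent.Lib.helper14.INV.Gen
import Cfsg.Agent.Lib.helper8.ChevIE7b
import Cfsg.Agent.Lib.helper8.ChevTwB3

/-!
# Project TWI, piece PARC (helper10): `n_O b n_O⁻¹` lies in the cell of a sublist of the orbit `O`
-/

set_option autoImplicit false
set_option linter.unusedVariables false

namespace Cfsg.Agent.Lib.helper14.TWI

open Cfsg.Lie Cfsg.Lie.ChevalleyDatum Cfsg.Agent.Lib.helper8 Cfsg.Agent.Lib.helper14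
  Cfsg.Agent.Lib.helper14.INV

universe u

variable {F : Type u} [Field F]

/-- reflections in orthogonal fundamental roots commute -/
theorem twiparc_comm (D : ChevalleyDatum) (hB0 : H8Base.{0} D) (hA : H8ReflAll D) (hBN : H8BN D)
    (hW : H8BN2 D) (hO2 : H8Ord2 D) (i k : ℕ) (hi : i < D.rank) (hk : k < D.rank)
    (h : D.reflectRoot i (D.simple k) = D.simple k) :
    h8sPerm D hA i * h8sPerm D hA k = h8sPerm D hA k * h8sPerm D hA i := by
  have h1 := h8W_conj_simple D hB0 hA hBN hW hO2 [i]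
    (fun j hj => by rw [List.mem_singleton] at hj; rw [hj]; exact hi) k k hk hk h
  have h2 : h8wPerm D hA [i] = h8sPerm D hA i := by
    unfold h8wPerm
    simp
  rw [h2] at h1
  calc h8sPerm D hA i * h8sPerm D hA k
      = (h8sPerm D hA i * h8sPerm D hA k * (h8sPerm D hA i)⁻¹) * h8sPerm D hA i := by group
    _ = h8sPerm D hA k * h8sPerm D hA i := by rw [h1]

/-- a reflection commuting with every reflection of a word commutes with the word -/
theorem twiparc_comm_word (D : ChevalleyDatum) (hA : H8ReflAll D) (i : ℕ) (x : List ℕ)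
    (h : ∀ k ∈ x, h8sPerm D hA i * h8sPerm D hA k = h8sPerm D hA k * h8sPerm D hA i) :
    h8sPerm D hA i * h8wPerm D hA x = h8wPerm D hA x * h8sPerm D hA i := by
  induction x with
  | nil =>
    have : h8wPerm D hA [] = 1 := rfl
    rw [this, mul_one, one_mul]
  | cons k x ih =>
    have e : h8wPerm D hA (k :: x) = h8sPerm D hA k * h8wPerm D hA x := by
      unfold h8wPerm
      rw [List.map_cons, List.prod_cons]
    rw [e, ← mul_assoc, h k List.mem_cons_self, mul_assoc,
      ih (fun k' hk' => h k' (List.mem_cons_of_mem _ hk')), ← mul_assoc]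

/-- the quotient of the products over a sublist and over the orbit is the product over a sublist -/
theorem twiparc_sub (D : ChevalleyDatum) (hB0 : H8Base.{0} D) (hA : H8ReflAll D) (hBN : H8BN D)
    (hW : H8BN2 D) (hO2 : H8Ord2 D) (sub O : List ℕ) (hs : sub.Sublist O) (hO : IsOrb D O) :
    ∃ x : List ℕ, x.Sublist O ∧ h8wPerm D hA sub * (h8wPerm D hA O)⁻¹ = h8wPerm D hA x := by
  induction hs with
  | slnil =>
    refine ⟨[], List.Sublist.refl _, ?_⟩
    have : h8wPerm D hA [] = 1 := rfl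
    rw [this, inv_one, mul_one]
  | @cons sub O' i hs ih =>
    obtain ⟨hnd, hlt, horth⟩ := hO
    have hnd' := List.nodup_cons.mp hnd
    have hO' : IsOrb D O' := ⟨hnd'.2, fun k hk => hlt k (List.mem_cons_of_mem _ hk),
      fun a ha b hb hab => horth a (List.mem_cons_of_mem _ ha) b (List.mem_cons_of_mem _ hb) hab⟩
    obtain ⟨x, hx, e⟩ := ih hO'
    have hcomm : h8sPerm D hA i * h8wPerm D hA x = h8wPerm D hA x * h8sPerm D hA i := by
      apply twiparc_comm_word
      intro k hk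
      have hkO : k ∈ O' := hx.subset hk
      apply twiparc_comm D hB0 hA hBN hW hO2 i k (hlt i List.mem_cons_self)
        (hlt k (List.mem_cons_of_mem _ hkO))
      exact horth i List.mem_cons_self k (List.mem_cons_of_mem _ hkO)
        (fun hik => hnd'.1 (hik ▸ hkO))
    refine ⟨i :: x, hx.cons_cons i, ?_⟩
    have e1 : h8wPerm D hA (i :: O') = h8sPerm D hA i * h8wPerm D hA O' := by
      unfold h8wPerm
      rw [List.map_cons, List.prod_cons]
    have e2 : h8wPerm D hA (i :: x) = h8sPerm D hA i * h8wPerm D hA x := by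
      unfold h8wPerm
      rw [List.map_cons, List.prod_cons]
    rw [e1, e2, mul_inv_rev, ← mul_assoc, e, h8sPerm_inv, hcomm]
  | @cons_cons sub O' i hs ih =>
    obtain ⟨hnd, hlt, horth⟩ := hO
    have hnd' := List.nodup_cons.mp hnd
    have hO' : IsOrb D O' := ⟨hnd'.2, fun k hk => hlt k (List.mem_cons_of_mem _ hk),
      fun a ha b hb hab => horth a (List.mem_cons_of_mem _ ha) b (List.mem_cons_of_mem _ hb) hab⟩
    obtain ⟨x, hx, e⟩ := ih hO'
    have hcomm : h8sPerm D hA i * h8wPerm D hA x = h8wPerm D hA x * h8sPerm D hA i := by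
      apply twiparc_comm_word
      intro k hk
      have hkO : k ∈ O' := hx.subset hk
      apply twiparc_comm D hB0 hA hBN hW hO2 i k (hlt i List.mem_cons_self)
        (hlt k (List.mem_cons_of_mem _ hkO))
      exact horth i List.mem_cons_self k (List.mem_cons_of_mem _ hkO)
        (fun hik => hnd'.1 (hik ▸ hkO))
    refine ⟨x, hx.cons i, ?_⟩
    have e1 : h8wPerm D hA (i :: O') = h8sPerm D hA i * h8wPerm D hA O' := by
      unfold h8wPerm
      rw [List.map_cons, List.prod_cons]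
    have e2 : h8wPerm D hA (i :: sub) = h8sPerm D hA i * h8wPerm D hA sub := by
      unfold h8wPerm
      rw [List.map_cons, List.prod_cons]
    rw [e1, e2, mul_inv_rev, h8sPerm_inv]
    calc h8sPerm D hA i * h8wPerm D hA sub * ((h8wPerm D hA O')⁻¹ * h8sPerm D hA i)
        = h8sPerm D hA i * (h8wPerm D hA sub * (h8wPerm D hA O')⁻¹) * h8sPerm D hA i := by group
      _ = h8wPerm D hA x * (h8sPerm D hA i * h8sPerm D hA i) := by
          rw [e, hcomm, mul_assoc]
      _ = h8wPerm D hA x := by rw [h8sPerm_sq, mul_one]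

/-- PARC : a conjugate `n_O b n_O⁻¹`, `b ∈ B`, lies in the cell of a sublist of `O` -/
theorem par_cell (D : ChevalleyDatum) (hB : H8Base.{u} D) (hB0 : H8Base.{0} D) (hA : H8ReflAll D)
    (hC : H8CommAll.{u} D) (hBN : H8BN D) (hW : H8BN2 D) (hO2 : H8Ord2 D) (O : List ℕ)
    (hO : IsOrb D O) (b : GL D.Idx F) (hb : b ∈ D.borelSubgroup F) :
    ∃ x : List ℕ, x.Sublist O ∧
      InCell D hB ((h8nWU D hB O : GL D.Idx F) * b * (h8nWU D hB O : GL D.Idx F)⁻¹) x := by
  have hOv : ∀ i ∈ O, i < D.rank := hO.2.1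
  have hnO : (h8nWU D hB O : GL D.Idx F) ∈ D.monomialSubgroup F := h8nWU_mem_N D hB hA O hOv
  obtain ⟨sub, hsub, b1, hb1, b2, hb2, e⟩ := h8bn_word D hB hA hC hBN O hOv
    (h8nWU D hB O : GL D.Idx F)⁻¹ (Subgroup.inv_mem _ hnO) b hb
  have hsubv : ∀ i ∈ sub, i < D.rank := fun i hi => hOv i (hsub.subset hi)
  obtain ⟨x, hx, ex⟩ := twiparc_sub D hB0 hA hBN hW hO2 sub O hsub hO
  have hxv : ∀ i ∈ x, i < D.rank := fun i hi => hOv i (hx.subset hi)
  have hrev : ∀ i ∈ O.reverse, i < D.rank := fun i hi => hOv i (List.mem_reverse.mp hi)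
  -- the action of `n_sub n_O⁻¹`
  have hσ : ∀ r < D.nroots, h8sW D sub (h8sW D O.reverse r) = h8sW D x r := by
    intro r hr
    have h1 := congrArg (fun p : Equiv.Perm (Fin D.nroots) => (p ⟨r, hr⟩).val) ex
    simp only [Equiv.Perm.mul_apply] at h1
    rw [h8wPerm_inv, h8wPerm_val D hA sub hsubv, h8wPerm_val D hA O.reverse hrev,
      h8wPerm_val D hA x hxv] at h1
    exact h1
  have hact1 : ∀ r < D.nroots, H8Act D hB (h8nWU D hB x : GL D.Idx F) r (h8sW D x r) :=
    fun r hr => h8nWU_act D hB hA x hxv r hr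
  have hact2 : ∀ r < D.nroots, H8Act D hB
      ((h8nWU D hB sub : GL D.Idx F) * (h8nWU D hB O : GL D.Idx F)⁻¹) r (h8sW D x r) := by
    intro r hr
    rw [← hσ r hr]
    have hr' : h8sW D O.reverse r < D.nroots := h8sW_lt D hA O.reverse hrev r hr
    have a1 := h8nWU_act (F := F) D hB hA O hOv _ hr'
    rw [h8sW_reverse D hA O hOv r hr] at a1
    have a2 := h8act_inv D hB _ _ _ a1
    exact h8act_mul D hB _ _ _ _ _ a2 (h8nWU_act D hB hA sub hsubv _ hr')
  have hH := N_same_perm D hB hA hBN hW hO2 (h8nWU D hB x : GL D.Idx F)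
    ((h8nWU D hB sub : GL D.Idx F) * (h8nWU D hB O : GL D.Idx F)⁻¹)
    (h8nWU_mem_N D hB hA x hxv)
    (Subgroup.mul_mem _ (h8nWU_mem_N D hB hA sub hsubv) (Subgroup.inv_mem _ hnO))
    (h8sW D x) hact1 hact2
  refine ⟨x, hx, b1, hb1, ((h8nWU D hB x : GL D.Idx F)⁻¹ *
    ((h8nWU D hB sub : GL D.Idx F) * (h8nWU D hB O : GL D.Idx F)⁻¹)) * b2,
    Subgroup.mul_mem _ (h8H_le_B D hH) hb2, ?_⟩
  rw [e]
  group

end Cfsg.Agent.Lib.helper14.TWI
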