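import Mathlib
import Cfsg.Prelude.Def_GeometricClasses
import Cfsg.Agent.Lib.Helper21.ASCOPLANE3
import Cfsg.Agent.Lib.Helper28.Ld.Trans
import Cfsg.Agent.Lib.Helper10.O9D3Q3

set_option autoImplicit false
set_option linter.unusedVariables false
set_option linter.unusedSectionVars false

/-!
# Block TX2S, piece MQ3 (helper10): `|F| = 3`, `t` anisotropic planes: the stabiliser stabilises a frame of `n` lines with `Q = 1`

Extra: `tx2smq3_plane` : normal form of an anisotropic non-degenerate plane over `F_3` : orthogonal basis `x y` with `Q x = Q y = 1`,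
and the vectors of norm `1` are `± x, ± y`.
-/

namespace Cfsg.Agent.Lib.Helper15.TX2S

open Cfsg Cfsg.Geo
open scoped MatrixGroups Matrix

variable {n : ℕ} {F : Type*} [Field F] [Fintype F]

/-- an anisotropic non-degenerate plane over `F_3` -/
theorem tx2smq3_plane (hq : Fintype.card F = 3) (Q : QuadraticForm F (Fin n → F))
    (W : Submodule F (Fin n → F)) (hW : IsNondegenerateOn (QuadraticMap.polar (⇑Q)) W)
    (hd : Module.finrank F W = 2) (hm : ¬ IsPlusTypeOn (⇑Q) W) :
    ∃ x y : Fin n → F, x ∈ W ∧ y ∈ W ∧ Q x = 1 ∧ Q y = 1 ∧ QuadraticMap.polar (⇑Q) x y = 0 ∧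
      (∀ w ∈ W, Q w = 1 → w = x ∨ w = -x ∨ w = y ∨ w = -y) := by
  classical
  have el3 := Cfsg.Agent.Lib.helper23.ASCO.ascoplane3_f3 hq
  have h3 : (3 : F) = 0 := by
    have := Nat.cast_card_eq_zero F
    rw [hq] at this
    exact_mod_cast this
  have h2 : (2 : F) ≠ 0 := by
    intro h
    have : (1 : F) = 0 := by linear_combination h3 - h
    exact one_ne_zero this
  obtain ⟨B, hB⟩ : ∃ B : LinearMap.BilinMap F (Fin n → F) F, B = QuadraticMap.polarBilin Q := ⟨_, rfl⟩
  have hBp : ∀ a b, B a b = QuadraticMap.polar (⇑Q) a b := fun a b => by rw [hB]; rfl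
  have hBsymm : ∀ a b, B a b = B b a := fun a b => by rw [hBp, hBp, QuadraticMap.polar_comm]
  have hBself : ∀ a, B a a = 2 * Q a := by
    intro a
    rw [hBp, QuadraticMap.polar_self]
    simp
  have hQadd : ∀ a b, Q (a + b) = Q a + Q b + B a b := by
    intro a b
    rw [hBp]
    exact QuadraticMap.map_add Q a b
  have hQsmul : ∀ (c : F) a, Q (c • a) = c * c * Q a := by
    intro c a
    rw [QuadraticMap.map_smul]
    rfl
  -- anisotropic
  have haniso : ∀ w ∈ W, w ≠ 0 → Q w ≠ 0 := by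
    intro w hw hw0 hQw
    apply hm
    refine ⟨Submodule.span F {w}, (Submodule.span_singleton_le_iff_mem w W).2 hw, ?_, ?_⟩
    · intro z hz
      obtain ⟨c, rfl⟩ := Submodule.mem_span_singleton.1 hz
      show Q (c • w) = 0
      rw [hQsmul, hQw, mul_zero]
    · rw [finrank_span_singleton hw0, hd]
  have hWne : W ≠ ⊥ := by
    intro hb
    rw [hb, finrank_bot] at hd
    omega
  obtain ⟨w₀, hw₀W, hw₀0⟩ := Submodule.exists_mem_ne_zero_of_ne_bot hWne
  have hq₀ : Q w₀ ≠ 0 := haniso w₀ hw₀W hw₀0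
  have hnle : ¬ W ≤ Submodule.span F {w₀} := by
    intro hle
    have h1 := Submodule.finrank_mono hle
    rw [finrank_span_singleton hw₀0] at h1
    omega
  obtain ⟨w', hw'W, hw'n⟩ := SetLike.not_le_iff_exists.1 hnle
  have hB00 : B w₀ w₀ ≠ 0 := by
    rw [hBself]
    exact mul_ne_zero h2 hq₀
  obtain ⟨w₁, hw₁⟩ : ∃ w₁ : Fin n → F, w₁ = w' - (B w₀ w' / B w₀ w₀) • w₀ := ⟨_, rfl⟩
  have hw₁W : w₁ ∈ W := by
    rw [hw₁]
    exact W.sub_mem hw'W (W.smul_mem _ hw₀W)
  have hw₁0 : w₁ ≠ 0 := by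
    intro h0
    apply hw'n
    rw [Submodule.mem_span_singleton]
    refine ⟨B w₀ w' / B w₀ w₀, ?_⟩
    rw [hw₁, sub_eq_zero] at h0
    exact h0.symm
  have h01 : B w₀ w₁ = 0 := by
    rw [hw₁, map_sub, map_smul, smul_eq_mul]
    field_simp
    ring
  have hq₁ : Q w₁ ≠ 0 := haniso w₁ hw₁W hw₁0
  have hsum0 : w₀ + w₁ ≠ 0 := by
    intro h0
    have h1 : B w₀ (w₀ + w₁) = 0 := by rw [h0, map_zero]
    rw [map_add, h01, add_zero] at h1
    exact hB00 h1
  have hQsum : Q (w₀ + w₁) = Q w₀ + Q w₁ := by rw [hQadd, h01, add_zero]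
  have hQdiff : Q (w₀ - w₁) = Q w₀ + Q w₁ := by
    have e : w₀ - w₁ = w₀ + (-1 : F) • w₁ := by rw [neg_one_smul, sub_eq_add_neg]
    rw [e, hQadd, hQsmul, map_smul, h01]
    simp
  -- the orthonormal basis
  obtain ⟨x, y, hxW, hyW, hQx, hQy, hxy⟩ : ∃ x y : Fin n → F, x ∈ W ∧ y ∈ W ∧ Q x = 1 ∧ Q y = 1 ∧
      B x y = 0 := by
    rcases el3 (Q w₀) with h | h | h
    · exact absurd h hq₀
    · rcases el3 (Q w₁) with h' | h' | h'
      · exact absurd h' hq₁
      · exact ⟨w₀, w₁, hw₀W, hw₁W, h, h', h01⟩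
      · exfalso
        apply haniso _ (W.add_mem hw₀W hw₁W) hsum0
        rw [hQsum, h, h']
        ring
    · rcases el3 (Q w₁) with h' | h' | h'
      · exact absurd h' hq₁
      · exfalso
        apply haniso _ (W.add_mem hw₀W hw₁W) hsum0
        rw [hQsum, h, h']
        ring
      · refine ⟨w₀ + w₁, w₀ - w₁, W.add_mem hw₀W hw₁W, W.sub_mem hw₀W hw₁W, ?_, ?_, ?_⟩
        · rw [hQsum, h, h']
          linear_combination -h3
        · rw [hQdiff, h, h']
          linear_combination -h3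
        · have e1 : B (w₀ + w₁) (w₀ - w₁) = B w₀ w₀ - B w₀ w₁ + B w₁ w₀ - B w₁ w₁ := by
            rw [map_sub, map_add, LinearMap.add_apply, LinearMap.add_apply]
            ring
          rw [e1, hBsymm w₁ w₀, h01, hBself, hBself, h, h']
          ring
  have hBxx : B x x = 2 := by rw [hBself, hQx, mul_one]
  have hByy : B y y = 2 := by rw [hBself, hQy, mul_one]
  have hx0 : x ≠ 0 := by
    intro h0
    rw [h0, map_zero] at hQx
    exact zero_ne_one hQx
  have hli : LinearIndependent F ![x, y] := by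
    rw [LinearIndependent.pair_iff]
    intro s t hst
    have h1 : B x (s • x + t • y) = 0 := by rw [hst, map_zero]
    rw [map_add, map_smul, map_smul, hBxx, hxy, smul_zero, add_zero, smul_eq_mul] at h1
    have hs : s = 0 := by
      rcases mul_eq_zero.1 h1 with h | h
      · exact h
      · exact absurd h h2
    have h4 : B y (s • x + t • y) = 0 := by rw [hst, map_zero]
    rw [map_add, map_smul, map_smul, hByy, hBsymm y x, hxy, smul_zero, zero_add, smul_eq_mul] at h4
    have ht : t = 0 := by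
      rcases mul_eq_zero.1 h4 with h | h
      · exact h
      · exact absurd h h2
    exact ⟨hs, ht⟩
  have hspan : Submodule.span F ({x, y} : Set (Fin n → F)) = W := by
    apply Submodule.eq_of_le_of_finrank_eq
    · rw [Submodule.span_le]
      intro z hz
      rcases hz with rfl | rfl
      · exact hxW
      · exact hyW
    · have := finrank_span_eq_card hli
      rw [Fintype.card_fin] at this
      have hr : Set.range ![x, y] = ({x, y} : Set (Fin n → F)) := by
        ext z
        simp [eq_comm]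
        exact or_comm
      rw [hr] at this
      rw [hd, this]
  have hQab : ∀ a b : F, Q (a • x + b • y) = a * a + b * b := by
    intro a b
    have e2 : B (a • x) (b • y) = a * (b * B x y) := by
      rw [map_smul, map_smul, LinearMap.smul_apply, smul_eq_mul, smul_eq_mul]
      ring
    rw [hQadd, hQsmul, hQsmul, hQx, hQy, e2, hxy]
    ring
  refine ⟨x, y, hxW, hyW, hQx, hQy, by rw [← hBp]; exact hxy, ?_⟩
  intro w hw hQw
  rw [← hspan, Submodule.mem_span_pair] at hw
  obtain ⟨a, b, rfl⟩ := hw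
  rw [hQab] at hQw
  rcases el3 a with rfl | rfl | rfl <;> rcases el3 b with rfl | rfl | rfl
  · exfalso
    simp at hQw
  · right; right; left
    simp
  · right; right; right
    simp
  · left
    simp
  · exfalso
    have : (1 : F) = 0 := by linear_combination hQw
    exact one_ne_zero this
  · exfalso
    have : (1 : F) = 0 := by linear_combination hQw
    exact one_ne_zero this
  · right; left
    simp
  · exfalso
    have : (1 : F) = 0 := by linear_combination hQw
    exact one_ne_zero this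
  · exfalso
    have : (1 : F) = 0 := by linear_combination hQw
    exact one_ne_zero this

/-- MQ3 : `|F| = 3`, anisotropic planes: the stabiliser stabilises a frame of `n` lines with `Q = 1`. -/
theorem minus_planes_q3 (hq : Fintype.card F = 3) (Q : QuadraticForm F (Fin n → F))
    {t : ℕ} (D : Fin t → Submodule F (Fin n → F)) (hD : IsOrthogonalMDecomposition (⇑Q) 2 D)
    (hm : ∀ i, ¬ IsPlusTypeOn (⇑Q) (D i)) :
    ∃ D' : Fin n → Submodule F (Fin n → F), IsOrthogonalMDecomposition (⇑Q) 1 D' ∧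
      decompositionStabilizer D ⊓ isometryGroup F (⇑Q) ≤ decompositionStabilizer D' := by
  classical
  have h3 : (3 : F) = 0 := by
    have := Nat.cast_card_eq_zero F
    rw [hq] at this
    exact_mod_cast this
  have h2 : (2 : F) ≠ 0 := by
    intro h
    have : (1 : F) = 0 := by linear_combination h3 - h
    exact one_ne_zero this
  have hpl := fun i => tx2smq3_plane hq Q (D i) (hD.decomp.nondegenerate i) (hD.decomp.decomp.finrank_eq i) (hm i)
  choose x y hxD hyD hQx hQy hxy hP using hpl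
  have htn : t * 2 = n := Cfsg.Agent.Lib.Helper28.Ld.card_eq D hD.decomp.decomp
  have ht2 : 2 ≤ t := hD.decomp.decomp.two_le
  have hn2 : 2 ≤ n := by omega
  obtain ⟨e⟩ : Nonempty (Fin n ≃ Fin t × Fin 2) :=
    ⟨(finCongr htn.symm).trans (finProdFinEquiv : Fin t × Fin 2 ≃ Fin (t * 2)).symm⟩
  obtain ⟨w, hw⟩ : ∃ w : Fin n → (Fin n → F), ∀ m, w m = if (e m).2 = 0 then x (e m).1 else y (e m).1 :=
    ⟨_, fun _ => rfl⟩
  have hwD : ∀ m, w m ∈ D (e m).1 := by
    intro m
    rw [hw]
    split_ifs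
    · exact hxD _
    · exact hyD _
  have hQw : ∀ m, Q (w m) = 1 := by
    intro m
    rw [hw]
    split_ifs
    · exact hQx _
    · exact hQy _
  have hpol_same : ∀ m, QuadraticMap.polar (⇑Q) (w m) (w m) = 2 := by
    intro m
    rw [QuadraticMap.polar_self]
    simp [two_smul, hQw m]
    norm_num
  have hpol_ne : ∀ m m', m ≠ m' → QuadraticMap.polar (⇑Q) (w m) (w m') = 0 := by
    intro m m' hmm
    by_cases h1 : (e m).1 = (e m').1
    · have h2' : (e m).2 ≠ (e m').2 := by
        intro h2'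
        exact hmm (e.injective (Prod.ext h1 h2'))
      rw [hw, hw, ← h1]
      have hcases : ∀ a b : Fin 2, a ≠ b → (a = 0 ∧ b = 1) ∨ (a = 1 ∧ b = 0) := by decide
      rcases hcases _ _ h2' with ⟨ha, hb⟩ | ⟨ha, hb⟩
      · rw [ha, hb]
        simp only [if_true, Fin.isValue, one_ne_zero, if_false]
        exact hxy _
      · rw [ha, hb]
        simp only [if_true, Fin.isValue, one_ne_zero, if_false]
        rw [QuadraticMap.polar_comm]
        exact hxy _
    · exact hD.decomp.orthogonal _ _ h1 _ (hwD m) _ (hwD m')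
  -- every vector of norm `1` in block `i` is `± w (i, j)`
  have hPw : ∀ i, ∀ v ∈ D i, Q v = 1 → ∃ j, v = w (e.symm (i, j)) ∨ v = -w (e.symm (i, j)) := by
    intro i v hv hvQ
    have hw0 : w (e.symm (i, 0)) = x i := by
      rw [hw, e.apply_symm_apply]
      simp
    have hw1 : w (e.symm (i, 1)) = y i := by
      rw [hw, e.apply_symm_apply]
      simp
    rcases hP i v hv hvQ with h | h | h | h
    · exact ⟨0, Or.inl (by rw [hw0]; exact h)⟩
    · exact ⟨0, Or.inr (by rw [hw0]; exact h)⟩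
    · exact ⟨1, Or.inl (by rw [hw1]; exact h)⟩
    · exact ⟨1, Or.inr (by rw [hw1]; exact h)⟩
  refine ⟨fun m => Submodule.span F {w m},
    Cfsg.Agent.Lib.Helper25.O9.o9d3q3_lines hn2 h2 Q w 2 h2 hpol_same hpol_ne, ?_⟩
  -- the stabiliser
  intro g hg
  obtain ⟨⟨σ, hσ⟩, hgI⟩ := Subgroup.mem_inf.mp hg
  have hgQ : ∀ v : Fin n → F, Q ((g : Matrix (Fin n) (Fin n) F) *ᵥ v) = Q v := fun v => hgI v v
  have hgpol : ∀ u v, QuadraticMap.polar (⇑Q) ((g : Matrix (Fin n) (Fin n) F) *ᵥ u)
      ((g : Matrix (Fin n) (Fin n) F) *ᵥ v) = QuadraticMap.polar (⇑Q) u v := by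
    intro u v
    unfold QuadraticMap.polar
    rw [← Matrix.mulVec_add, hgQ, hgQ, hgQ]
  have hex : ∀ m, ∃ (m' : Fin n) (s : F), s ≠ 0 ∧ (g : Matrix (Fin n) (Fin n) F) *ᵥ w m = s • w m' := by
    intro m
    have h1 : (g : Matrix (Fin n) (Fin n) F) *ᵥ w m ∈ D (σ (e m).1) := by
      rw [← hσ]
      exact ⟨w m, hwD m, by rw [Matrix.toLin'_apply]⟩
    obtain ⟨j, hj | hj⟩ := hPw _ _ h1 (by rw [hgQ, hQw])
    · exact ⟨_, 1, one_ne_zero, by rw [hj, one_smul]⟩
    · exact ⟨_, -1, neg_ne_zero.mpr one_ne_zero, by rw [hj, neg_one_smul]⟩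
  choose φ s hs hφ using hex
  have hinj : Function.Injective φ := by
    intro m m' hmm
    by_contra hne
    have h1 := hgpol (w m) (w m')
    obtain ⟨B, hB⟩ : ∃ B : LinearMap.BilinMap F (Fin n → F) F, B = QuadraticMap.polarBilin Q := ⟨_, rfl⟩
    have hBp : ∀ a b, B a b = QuadraticMap.polar (⇑Q) a b := fun a b => by rw [hB]; rfl
    rw [hpol_ne m m' hne, hφ m, hφ m', hmm, ← hBp, map_smul, map_smul, LinearMap.smul_apply, hBp, hpol_same,
      smul_eq_mul, smul_eq_mul] at h1
    exact mul_ne_zero (hs m') (mul_ne_zero (hs m) h2) h1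
  exact Cfsg.Agent.Lib.Helper25.O9.o9d3q3_stab w g
    (Equiv.ofBijective φ (Finite.injective_iff_bijective.1 hinj)) s hs hφ

end Cfsg.Agent.Lib.Helper15.TX2S
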