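import Mathlib
import Cfsg.Prelude.Def_GeometricClasses
import Cfsg.Agent.Lib.Helper28.UMax

set_option autoImplicit false
set_option linter.unusedVariables false
set_option linter.unusedSectionVars false

/-!
# Block TX2S, piece PQ2 (helper10): `|F| = 2`, `t` hyperbolic planes: the stabiliser fixes `v = ∑ (u_i + v_i)`

Extras: `tx2spq2_hyp_basis` (hyperbolic basis of a non-degenerate plane of plus type, any field),
`tx2spq2_Q_sum` (`Q` is additive on pairwise orthogonal vectors, any characteristic).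
-/

namespace Cfsg.Agent.Lib.Helper15.TX2S

open Cfsg Cfsg.Geo
open scoped MatrixGroups Matrix

variable {n : ℕ} {F : Type*} [Field F] [Fintype F]

omit [Fintype F] in
/-- a non-degenerate plane of plus type has a hyperbolic basis -/
theorem tx2spq2_hyp_basis (Q : QuadraticForm F (Fin n → F)) (W : Submodule F (Fin n → F))
    (hW : IsNondegenerateOn (QuadraticMap.polar (⇑Q)) W) (hd : Module.finrank F W = 2)
    (hp : IsPlusTypeOn (⇑Q) W) :
    ∃ u v : Fin n → F, u ∈ W ∧ v ∈ W ∧ (∀ w ∈ W, ∃ a b : F, w = a • u + b • v) ∧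
      (∀ a b : F, Q (a • u + b • v) = a * b) := by
  classical
  obtain ⟨U, hUW, hUs, hUd⟩ := hp
  have hU1 : Module.finrank F U = 1 := by omega
  have hUne : U ≠ ⊥ := by
    intro hb
    rw [hb, finrank_bot] at hU1
    omega
  obtain ⟨u, huU, hu0⟩ := Submodule.exists_mem_ne_zero_of_ne_bot hUne
  have huW : u ∈ W := hUW huU
  have hQu : Q u = 0 := hUs u huU
  obtain ⟨⟨x, hxW, hxu⟩, _⟩ := hW u huW hu0
  obtain ⟨B, hB⟩ : ∃ B : LinearMap.BilinMap F (Fin n → F) F, B = QuadraticMap.polarBilin Q := ⟨_, rfl⟩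
  have hBp : ∀ a b, B a b = QuadraticMap.polar (⇑Q) a b := fun a b => by rw [hB]; rfl
  have hBsymm : ∀ a b, B a b = B b a := fun a b => by rw [hBp, hBp, QuadraticMap.polar_comm]
  have hBself : ∀ a, B a a = 2 * Q a := by
    intro a
    rw [hBp, QuadraticMap.polar_self]
    simp
  have hQadd : ∀ a b, Q (a + b) = Q a + Q b + B a b := by
    intro a b
    rw [hBp]
    exact QuadraticMap.map_add Q a b
  have hQsmul : ∀ (c : F) a, Q (c • a) = c * c * Q a := by
    intro c a
    rw [QuadraticMap.map_smul]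
    rfl
  have hux : B u x ≠ 0 := by rw [hBsymm, hBp]; exact hxu
  obtain ⟨v₀, hv₀⟩ : ∃ v₀ : Fin n → F, v₀ = (B u x)⁻¹ • x := ⟨_, rfl⟩
  have hv₀W : v₀ ∈ W := by rw [hv₀]; exact W.smul_mem _ hxW
  have huv₀ : B u v₀ = 1 := by
    rw [hv₀, map_smul, smul_eq_mul, inv_mul_cancel₀ hux]
  obtain ⟨v, hv⟩ : ∃ v : Fin n → F, v = v₀ + (-(Q v₀)) • u := ⟨_, rfl⟩
  have hvW : v ∈ W := by rw [hv]; exact W.add_mem hv₀W (W.smul_mem _ huW)
  have huu : B u u = 0 := by rw [hBself, hQu, mul_zero]
  have huv : B u v = 1 := by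
    rw [hv, map_add, map_smul, huv₀, huu, smul_zero, add_zero]
  have hQv : Q v = 0 := by
    rw [hv, hQadd, hQsmul, hQu, map_smul, hBsymm v₀ u, huv₀]
    simp
  have hli : LinearIndependent F ![u, v] := by
    rw [LinearIndependent.pair_iff]
    intro s t hst
    have h1 : B u (s • u + t • v) = 0 := by rw [hst, map_zero]
    rw [map_add, map_smul, map_smul, huu, huv, smul_zero, zero_add, smul_eq_mul, mul_one] at h1
    rw [h1, zero_smul, add_zero] at hst
    rcases smul_eq_zero.1 hst with h | h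
    · exact ⟨h, h1⟩
    · exact absurd h hu0
  have hspan : Submodule.span F ({u, v} : Set (Fin n → F)) = W := by
    apply Submodule.eq_of_le_of_finrank_eq
    · rw [Submodule.span_le]
      intro z hz
      rcases hz with rfl | rfl
      · exact huW
      · exact hvW
    · have := finrank_span_eq_card hli
      rw [Fintype.card_fin] at this
      have hr : Set.range ![u, v] = ({u, v} : Set (Fin n → F)) := by
        ext z
        simp [eq_comm]
        exact or_comm
      rw [hr] at this
      rw [hd, this]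
  refine ⟨u, v, huW, hvW, ?_, ?_⟩
  · intro w hw
    rw [← hspan, Submodule.mem_span_pair] at hw
    obtain ⟨a, b, h⟩ := hw
    exact ⟨a, b, h.symm⟩
  · intro a b
    rw [hQadd, hQsmul, hQsmul, hQu, hQv, map_smul, map_smul, LinearMap.smul_apply, huv]
    simp
    ring

omit [Fintype F] in
/-- `Q` is additive on pairwise orthogonal vectors -/
theorem tx2spq2_Q_sum (Q : QuadraticForm F (Fin n → F)) {m : ℕ} (d : Fin m → (Fin n → F))
    (horth : ∀ i j, i ≠ j → QuadraticMap.polar (⇑Q) (d i) (d j) = 0) :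
    Q (∑ i, d i) = ∑ i, Q (d i) := by
  classical
  have key : ∀ s : Finset (Fin m), Q (∑ i ∈ s, d i) = ∑ i ∈ s, Q (d i) := by
    intro s
    induction s using Finset.induction_on with
    | empty => simp
    | insert j s hj ih =>
      rw [Finset.sum_insert hj, Finset.sum_insert hj]
      have hp : Q (d j + ∑ i ∈ s, d i) =
          Q (d j) + Q (∑ i ∈ s, d i) + QuadraticMap.polar (⇑Q) (d j) (∑ i ∈ s, d i) := by
        unfold QuadraticMap.polar
        ring
      have hz : QuadraticMap.polar (⇑Q) (d j) (∑ i ∈ s, d i) = 0 := by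
        have : QuadraticMap.polar (⇑Q) (d j) (∑ i ∈ s, d i) =
            QuadraticMap.polarBilin Q (d j) (∑ i ∈ s, d i) := rfl
        rw [this, map_sum]
        refine Finset.sum_eq_zero fun i hi => ?_
        have hij : j ≠ i := fun h => hj (h ▸ hi)
        rw [QuadraticMap.polarBilin_apply_apply, horth j i hij]
      rw [hp, hz, add_zero, ih]
  exact key Finset.univ

/-- PQ2 -/
theorem plus_planes_q2 (hq : Fintype.card F = 2) (Q : QuadraticForm F (Fin n → F))
    {t : ℕ} (D : Fin t → Submodule F (Fin n → F)) (hD : IsOrthogonalMDecomposition (⇑Q) 2 D)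
    (hp : ∀ i, IsPlusTypeOn (⇑Q) (D i)) :
    ∃ v : Fin n → F, v ≠ 0 ∧ Q v = (t : F) ∧
      decompositionStabilizer D ⊓ isometryGroup F (⇑Q) ≤ subspaceStabilizer (Submodule.span F {v}) := by
  classical
  have hel : ∀ a : F, a = 0 ∨ a = 1 := by
    intro a
    have h := FiniteField.pow_card a
    rw [hq] at h
    have : a * (a - 1) = 0 := by linear_combination h
    rcases mul_eq_zero.1 this with h2 | h2
    · exact Or.inl h2
    · exact Or.inr (sub_eq_zero.1 h2)
  choose u v huD hvD hrepr hQab using fun i =>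
    tx2spq2_hyp_basis Q (D i) (hD.decomp.nondegenerate i) (hD.decomp.decomp.finrank_eq i) (hp i)
  obtain ⟨z, hz⟩ : ∃ z : Fin t → (Fin n → F), ∀ i, z i = u i + v i := ⟨_, fun _ => rfl⟩
  have hzD : ∀ i, z i ∈ D i := fun i => by rw [hz]; exact (D i).add_mem (huD i) (hvD i)
  have hQz : ∀ i, Q (z i) = 1 := by
    intro i
    have := hQab i 1 1
    rwa [one_smul, one_smul, mul_one, ← hz] at this
  have huniq : ∀ i, ∀ w ∈ D i, Q w ≠ 0 → w = z i := by
    intro i w hw hQw
    obtain ⟨a, b, rfl⟩ := hrepr i w hw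
    rw [hQab] at hQw
    have ha : a = 1 := by
      rcases hel a with h | h
      · rw [h, zero_mul] at hQw
        exact absurd rfl hQw
      · exact h
    have hb : b = 1 := by
      rcases hel b with h | h
      · rw [h, mul_zero] at hQw
        exact absurd rfl hQw
      · exact h
    rw [ha, hb, one_smul, one_smul, hz]
  have hz0 : ∀ i, z i ≠ 0 := by
    intro i h0
    have := hQz i
    rw [h0, QuadraticMap.map_zero] at this
    exact zero_ne_one this
  have hli : LinearIndependent F z := hD.decomp.decomp.indep.linearIndependent D hzD hz0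
  have horth : ∀ i j, i ≠ j → QuadraticMap.polar (⇑Q) (z i) (z j) = 0 :=
    fun i j hij => hD.decomp.orthogonal i j hij (z i) (hzD i) (z j) (hzD j)
  obtain ⟨vv, hvv⟩ : ∃ vv : Fin n → F, vv = ∑ i, z i := ⟨_, rfl⟩
  have ht2 : 2 ≤ t := hD.decomp.decomp.two_le
  refine ⟨vv, ?_, ?_, ?_⟩
  · intro h0
    rw [hvv] at h0
    have h1 := Fintype.linearIndependent_iff.1 hli (fun _ => 1) (by simpa using h0) ⟨0, by omega⟩
    exact one_ne_zero h1
  · rw [hvv, tx2spq2_Q_sum Q z horth]
    simp [hQz]
  · rintro g ⟨⟨σ, hσ⟩, hgI⟩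
    have hgQ : ∀ x : Fin n → F, Q ((g : Matrix (Fin n) (Fin n) F) *ᵥ x) = Q x := fun x => hgI x x
    have hgz : ∀ i, (g : Matrix (Fin n) (Fin n) F) *ᵥ z i = z (σ i) := by
      intro i
      apply huniq
      · rw [← hσ i]
        exact ⟨z i, hzD i, by rw [Matrix.toLin'_apply]⟩
      · rw [hgQ, hQz]
        exact one_ne_zero
    have hgv : (g : Matrix (Fin n) (Fin n) F) *ᵥ vv = vv := by
      rw [hvv, Matrix.mulVec_sum]
      simp only [hgz]
      exact Equiv.sum_comp σ z
    apply Cfsg.Agent.Lib.Helper28.UMax.stab_of_maps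
    intro x hx
    obtain ⟨c, rfl⟩ := Submodule.mem_span_singleton.1 hx
    rw [Matrix.mulVec_smul, hgv]
    exact Submodule.smul_mem _ _ (Submodule.mem_span_singleton_self vv)

end Cfsg.Agent.Lib.Helper15.TX2S
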