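import Mathlib
import Cfsg.Prelude.Def_OddOrderLocal
import Cfsg.Agent.Lib.Helper1.BG10.TenNine
import Cfsg.Agent.Lib.Helper21.NarrowF
import Cfsg.Agent.Lib.Helper11.AutRankTwo
import Cfsg.Agent.Lib.Helper11.MaxSubD

set_option autoImplicit false

/-! B & G, Lemma 10.9(c): for `A ∈ E_p^2(G) ∩ E*_p(G)`, `q ≠ p` dividing `#C_G(A)` and a maximal
`A`-invariant `q`-subgroup `Q` which is narrow (rank at most two, or with a maximal elementary
abelian subgroup of order `q²`), `A` centralizes `Q`. -/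

namespace Cfsg.Agent.Lib.Helper10.TenNineC

open Cfsg Cfsg.Agent.Lib
open Cfsg.Agent.Lib.Helper11.BenderS

universe u

variable {G : Type u} [Group G] [Finite G]

/-- Elements of `N(Q)'` of order prime to `q` centralize the narrow `q`-group `Q`. -/
theorem der_normalizer_centralizes (hG : Cfsg.IsMinSimpleOddOrder G) (q : ℕ) [hq : Fact q.Prime]
    (Q : Subgroup G) (hQ : IsPGroup q Q) (hQ1 : Q ≠ ⊥)
    (hnar : Cfsg.PRankLE q 2 ↥Q ∨ Cfsg.Agent.Lib.Helper21.Narrow.HasMaxElem q ↥Q)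
    (x : G) (hx : x ∈ ⁅Subgroup.normalizer (Q : Set G), Subgroup.normalizer (Q : Set G)⁆)
    (m : ℕ) (hxm : x ^ m = 1) (hqm : ¬ q ∣ m) : x ∈ Subgroup.centralizer (Q : Set G) := by
  have hq2 : q ≠ 2 := by
    rintro rfl
    have h1 : 2 ∣ Nat.card Q := by
      obtain ⟨k, hk⟩ := IsPGroup.iff_card.mp hQ
      have hk0 : k ≠ 0 := by
        rintro rfl
        rw [pow_zero] at hk
        exact hQ1 (Subgroup.card_eq_one.mp hk)
      rw [hk]
      exact dvd_pow_self 2 hk0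
    have h2 : 2 ∣ Nat.card G := h1.trans (Subgroup.card_subgroup_dvd_card Q)
    have h3 := hG.1
    rw [Nat.odd_iff] at h3
    omega
  obtain ⟨N, hN⟩ : ∃ N : Subgroup G, N = Subgroup.normalizer (Q : Set G) := ⟨_, rfl⟩
  rw [← hN] at hx
  have hNtop : N ≠ ⊤ := by
    rw [hN]
    exact Cfsg.Agent.Lib.Helper1.BG10.normalizer_ne_top hG hQ1
      (Cfsg.Agent.Lib.Helper11.MaxSubD.pgroup_ne_top hG q Q hQ)
  haveI hsol : Group.IsSolvable ↥N := hG.2.2.2 N hNtop
  have hodd : Odd (Nat.card ↥N) :=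
    Odd.of_dvd_nat hG.1 (Subgroup.card_subgroup_dvd_card N)
  have hQN : N ≤ Subgroup.normalizer (Q : Set G) := hN.le
  obtain ⟨φ, hφ⟩ : ∃ φ : ↥N →* MulAut ↥Q,
      φ = Q.normalizerMonoidHom.comp (Subgroup.inclusion hQN) := ⟨_, rfl⟩
  have hφa : ∀ (a : ↥N) (v : ↥Q), ((φ a v : ↥Q) : G) = a * v * (a : G)⁻¹ := by
    intro a v
    rw [hφ]
    rfl
  rw [← Subgroup.map_subtype_commutator N] at hx
  obtain ⟨y, hy, rfl⟩ := hx
  have hym : y ^ m = 1 := by
    apply Subtype.ext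
    simpa using hxm
  have hφy : φ y = 1 := by
    rcases hnar with hr | hE
    · exact Cfsg.Agent.Lib.Helper11.AutRankTwo.der_coprime_trivial_rank_two q hq2 hQ hr hodd φ y hy m
        hym hqm
    · by_cases hr : Cfsg.PRankLE q 2 ↥Q
      · exact Cfsg.Agent.Lib.Helper11.AutRankTwo.der_coprime_trivial_rank_two q hq2 hQ hr hodd φ y
          hy m hym hqm
      · exact Cfsg.Agent.Lib.Helper21.Narrow.maxElem_der_trivial q hq2 hQ hr hE φ y hy m hym hqm
  rw [Subgroup.mem_centralizer_iff]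
  intro v hv
  have h1 := hφa y ⟨v, hv⟩
  rw [hφy] at h1
  simp only [MulAut.one_apply] at h1
  have h2 : v = (y : G) * v * (y : G)⁻¹ := h1
  calc v * N.subtype y = ((y : G) * v * (y : G)⁻¹) * (y : G) := by
        rw [← h2]; rfl
    _ = N.subtype y * v := by
        simp [mul_assoc]

/-- B & G 10.9(c). -/
theorem ten_nine_c (hG : Cfsg.IsMinSimpleOddOrder G)
    (h36 : ∀ M : Subgroup G, IsCoatom M → Thm36 ↥M) (p : ℕ) [hp : Fact p.Prime]
    (A : Subgroup G) (hAe : Cfsg.IsElementaryAbelian p A) (hAc : Nat.card A = p ^ 2)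
    (hmax : ∀ B : Subgroup G, Cfsg.IsElementaryAbelian p B → A ≤ B → B = A)
    (q : ℕ) [hq : Fact q.Prime] (hqp : q ≠ p)
    (hqC : q ∣ Nat.card (Subgroup.centralizer (A : Set G)))
    (Q : Subgroup G) (hQ : Q ∈ Cfsg.maxInvSubgroups ⊤ A {q})
    (hnar : Cfsg.PRankLE q 2 ↥Q ∨ Cfsg.Agent.Lib.Helper21.Narrow.HasMaxElem q ↥Q) :
    ∃ P : Sylow p G, A ≤ (P : Subgroup G) ∧
      (P : Subgroup G) ≤ Subgroup.centralizer (Q : Set G) := by
  obtain ⟨P, hAP, -, hPd⟩ :=
    Cfsg.Agent.Lib.Helper1.BG10.ten_nine hG h36 p A hAe hAc hmax q hq.out hqp hqC Q hQ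
  refine ⟨P, hAP, ?_⟩
  by_cases hQ1 : Q = ⊥
  · rw [hQ1]
    intro x _
    rw [Subgroup.mem_centralizer_iff]
    intro v hv
    have : v = 1 := hv
    rw [this]
    simp
  have hQq : IsPGroup q Q := ((Cfsg.Agent.Lib.Helper11.mem_invSubgroups_iff A q Q).mp hQ.1).1
  intro x hx
  obtain ⟨k, hk⟩ := (P.isPGroup') ⟨x, hx⟩
  have hxk : x ^ p ^ k = 1 := by simpa using congrArg Subtype.val hk
  apply der_normalizer_centralizes hG q Q hQq hQ1 hnar x (hPd hx) (p ^ k) hxk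
  intro hd
  have := hq.out.dvd_of_dvd_pow hd
  exact hqp ((Nat.prime_dvd_prime_iff_eq hq.out hp.out).mp this)

/-- If `q ∣ #C_G(A)` and `Q` is an `A`-invariant `q`-subgroup containing an elementary abelian
subgroup `B` of order `q²` which is a maximal elementary abelian `q`-subgroup of `G`, then `A`
centralizes `Q`. -/
theorem centralizes_of_max_sq (hG : Cfsg.IsMinSimpleOddOrder G)
    (h36 : ∀ M : Subgroup G, IsCoatom M → Thm36 ↥M) (p : ℕ) [hp : Fact p.Prime]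
    (A : Subgroup G) (hAe : Cfsg.IsElementaryAbelian p A) (hAc : Nat.card A = p ^ 2)
    (hmax : ∀ B : Subgroup G, Cfsg.IsElementaryAbelian p B → A ≤ B → B = A)
    (q : ℕ) [hq : Fact q.Prime] (hqp : q ≠ p)
    (hqC : q ∣ Nat.card (Subgroup.centralizer (A : Set G)))
    (Q : Subgroup G) (hQq : IsPGroup q Q) (hAQ : A ≤ Subgroup.normalizer (Q : Set G))
    (B : Subgroup G) (hBQ : B ≤ Q) (hBe : Cfsg.IsElementaryAbelian q B)
    (hBc : Nat.card B = q ^ 2)
    (hBmax : ∀ B' : Subgroup G, Cfsg.IsElementaryAbelian q B' → B ≤ B' → B' = B) :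
    A ≤ Subgroup.centralizer (Q : Set G) := by
  have hQinv : Q ∈ Cfsg.invSubgroups ⊤ A {q} :=
    (Cfsg.Agent.Lib.Helper11.mem_invSubgroups_iff A q Q).mpr ⟨hQq, hAQ⟩
  obtain ⟨Qs, hQs, hQQs⟩ := Cfsg.Agent.Lib.Helper1.BG10.exists_maxInv_ge A q Q hQinv
  have hBQs : B ≤ Qs := hBQ.trans hQQs
  have hE : Cfsg.Agent.Lib.Helper21.Narrow.HasMaxElem q ↥Qs := by
    refine ⟨B.subgroupOf Qs, ⟨?_, ?_⟩, ?_, ?_⟩
    · haveI := hBe.1
      exact Subgroup.comap_injective_isMulCommutative B Qs.subtype_injective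
    · intro b hb
      apply Subtype.ext
      have := hBe.2 b.1 (Subgroup.mem_subgroupOf.mp hb)
      simpa using this
    · rw [← hBc]
      exact Nat.card_congr (Subgroup.subgroupOfEquivOfLe hBQs).toEquiv
    · intro B'' hB''e hle
      have hmapE : Cfsg.IsElementaryAbelian q (B''.map Qs.subtype) := by
        refine ⟨?_, ?_⟩
        · haveI := hB''e.1
          infer_instance
        · rintro _ ⟨b, hb, rfl⟩
          have := hB''e.2 b hb
          rw [← map_pow, this, map_one]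
      have hBle : B ≤ B''.map Qs.subtype := by
        intro b hb
        exact ⟨⟨b, hBQs hb⟩, hle (Subgroup.mem_subgroupOf.mpr hb), rfl⟩
      have h1 := hBmax _ hmapE hBle
      apply le_antisymm _ hle
      intro b hb
      rw [Subgroup.mem_subgroupOf, ← h1]
      exact ⟨b, hb, rfl⟩
  obtain ⟨P, hAP, hPC⟩ := ten_nine_c hG h36 p A hAe hAc hmax q hqp hqC Qs hQs (Or.inr hE)
  exact (hAP.trans hPC).trans (Subgroup.centralizer_le hQQs)

end Cfsg.Agent.Lib.Helper10.TenNineC
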