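import Mathlib
import Cfsg.Prelude.Def_Classical

set_option autoImplicit false

namespace Cfsg.Agent.Lib.Helper10.U35

open Subgroup

lemma u35_fact1000 : (1000:ℕ).factorization 5 = 3 := by
  have : (1000:ℕ) = 5^3 * 8 := by norm_num
  rw [this, Nat.factorization_mul (by norm_num) (by norm_num),
    Nat.Prime.factorization_pow (by norm_num)]
  simp
  exact Nat.factorization_eq_zero_of_not_dvd (by norm_num)

lemma u35_fact126000 : (126000:ℕ).factorization 5 = 3 := by
  have : (126000:ℕ) = 5^3 * 1008 := by norm_num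
  rw [this, Nat.factorization_mul (by norm_num) (by norm_num),
    Nat.Prime.factorization_pow (by norm_num)]
  simp
  exact Nat.factorization_eq_zero_of_not_dvd (by norm_num)

/-- U35-T: a Sylow 5-subgroup with the trivial intersection property, from the permutation
action: `G` of order 126000 on 126 points, a point stabiliser of order 1000 which is transitive on
the other points. -/
theorem exists_ti_sylow (G : Subgroup (Equiv.Perm (Fin 126))) (hcard : Nat.card G = 126000)
    (b : Fin 126) (hstab : Nat.card (MulAction.stabilizer G b) = 1000)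
    (htr : ∀ y z : Fin 126, y ≠ b → z ≠ b → ∃ g ∈ G, g b = b ∧ g y = z) :
    ∃ P : Sylow 5 G,
      Nat.card (normalizer ((P : Subgroup G) : Set G)) = 1000 ∧
      ∀ g : G, (∃ x : G, x ≠ 1 ∧ x ∈ (P : Subgroup G) ∧ g * x * g⁻¹ ∈ (P : Subgroup G)) →
        g ∈ normalizer ((P : Subgroup G) : Set G) := by
  classical
  haveI : Fact (Nat.Prime 5) := ⟨by norm_num⟩
  haveI : Finite G := Nat.finite_of_card_ne_zero (by rw [hcard]; norm_num)
  set B : Subgroup G := MulAction.stabilizer G b with hB
  -- Sylow 5-subgroup of B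
  obtain ⟨P0⟩ : Nonempty (Sylow 5 B) := inferInstance
  have hP0card : Nat.card (P0 : Subgroup B) = 125 := by
    rw [Sylow.card_eq_multiplicity, hstab, u35_fact1000]; norm_num
  -- P0 is normal in B
  have hidx : (P0 : Subgroup B).index = 8 := by
    have := (P0 : Subgroup B).card_mul_index
    rw [hP0card, hstab] at this
    omega
  have hn5 : Nat.card (Sylow 5 B) = 1 := by
    have h1 : Nat.card (Sylow 5 B) ∣ 8 := hidx ▸ Sylow.card_dvd_index P0
    have h2 : Nat.card (Sylow 5 B) ≡ 1 [MOD 5] := card_sylow_modEq_one 5 B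
    have h3 : Nat.card (Sylow 5 B) ≤ 8 := Nat.le_of_dvd (by norm_num) h1
    unfold Nat.ModEq at h2
    interval_cases h : Nat.card (Sylow 5 B) <;> simp_all
  haveI : Subsingleton (Sylow 5 B) := (Nat.card_eq_one_iff_unique.mp hn5).1
  have hP0n : (P0 : Subgroup B).Normal := Sylow.normal_of_subsingleton P0
  -- image in G
  set P1 : Subgroup G := (P0 : Subgroup B).map B.subtype with hP1
  have hP1card : Nat.card P1 = 125 := by
    rw [hP1, Subgroup.card_map_of_injective B.subtype_injective, hP0card]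
  have hP1syl : Nat.card P1 = 5 ^ (Nat.card G).factorization 5 := by
    rw [hP1card, hcard, u35_fact126000]; norm_num
  refine ⟨Sylow.ofCard P1 hP1syl, ?_⟩
  rw [Sylow.coe_ofCard]
  -- membership in P1
  have hP1mem : ∀ x : G, x ∈ P1 ↔ ∃ hx : x ∈ B, (⟨x, hx⟩ : B) ∈ (P0 : Subgroup B) := by
    intro x
    rw [hP1, Subgroup.mem_map]
    constructor
    · rintro ⟨y, hy, rfl⟩
      exact ⟨y.2, hy⟩
    · rintro ⟨hx, h⟩
      exact ⟨⟨x, hx⟩, h, rfl⟩
  have hP1B : P1 ≤ B := fun x hx => ((hP1mem x).mp hx).1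
  -- B normalizes P1
  have hBN : B ≤ normalizer (P1 : Set G) := by
    intro g hg
    rw [Subgroup.mem_normalizer_iff]
    intro x
    rw [hP1mem, hP1mem]
    constructor
    · rintro ⟨hx, h⟩
      refine ⟨B.mul_mem (B.mul_mem hg hx) (B.inv_mem hg), ?_⟩
      have := hP0n.conj_mem ⟨x, hx⟩ h ⟨g, hg⟩
      exact this
    · rintro ⟨hx, h⟩
      have hx' : x ∈ B := by
        have := B.mul_mem (B.mul_mem (B.inv_mem hg) hx) hg
        simpa [mul_assoc] using this
      refine ⟨hx', ?_⟩
      have := hP0n.conj_mem ⟨g * x * g⁻¹, hx⟩ h ⟨g, hg⟩⁻¹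
      have e : (⟨g, hg⟩ : B)⁻¹ * ⟨g * x * g⁻¹, hx⟩ * (⟨g, hg⟩ : B)⁻¹⁻¹ = ⟨x, hx'⟩ := by
        apply Subtype.ext
        simp [mul_assoc]
      rwa [e] at this
  -- stabilizer in B of a point y ≠ b has order 8
  have hBy : ∀ y : Fin 126, y ≠ b → Nat.card (MulAction.stabilizer B y) = 8 := by
    intro y hy
    have horb : MulAction.orbit B y = {b}ᶜ := by
      ext z
      simp only [MulAction.mem_orbit_iff, Set.mem_compl_iff, Set.mem_singleton_iff]
      constructor
      · rintro ⟨g, rfl⟩ hz
        have hgb : (g : G) • b = b := g.2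
        apply hy
        have : (g : G) • y = (g : G) • b := by rw [hgb]; exact hz
        exact smul_left_cancel _ this
      · intro hz
        obtain ⟨g, hgG, hgb, hgy⟩ := htr y z hy hz
        refine ⟨⟨⟨g, hgG⟩, ?_⟩, ?_⟩
        · rw [hB, MulAction.mem_stabilizer_iff]; exact hgb
        · exact hgy
    have h1 : (MulAction.stabilizer B y).index = 125 := by
      rw [MulAction.index_stabilizer, horb, Set.ncard_compl, Set.ncard_singleton]
      simp
    have h2 := (MulAction.stabilizer B y).card_mul_index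
    rw [h1, hstab] at h2
    omega
  -- a nontrivial element of P1 fixes only b
  have hfix : ∀ x : G, x ∈ P1 → x ≠ 1 → ∀ y : Fin 126, x • y = y → y = b := by
    intro x hx hx1 y hxy
    by_contra hy
    obtain ⟨hxB, hx0⟩ := (hP1mem x).mp hx
    have hmem : (⟨x, hxB⟩ : B) ∈ MulAction.stabilizer B y := by
      rw [MulAction.mem_stabilizer_iff]; exact hxy
    have h8 : orderOf (⟨x, hxB⟩ : B) ∣ 8 := by
      have := Subgroup.orderOf_dvd_natCard (MulAction.stabilizer B y) hmem
      rwa [hBy y hy] at this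
    have h125 : orderOf (⟨x, hxB⟩ : B) ∣ 125 := by
      have := Subgroup.orderOf_dvd_natCard (P0 : Subgroup B) hx0
      rwa [hP0card] at this
    have h1 : orderOf (⟨x, hxB⟩ : B) = 1 := by
      have := Nat.dvd_gcd h8 h125
      simpa using this
    rw [orderOf_eq_one_iff] at h1
    apply hx1
    exact congrArg Subtype.val h1
  have hfixb : ∀ x : G, x ∈ P1 → x • b = b := fun x hx => hP1B hx
  -- TI
  have hTI : ∀ g : G, (∃ x : G, x ≠ 1 ∧ x ∈ P1 ∧ g * x * g⁻¹ ∈ P1) → g ∈ B := by
    rintro g ⟨x, hx1, hx, hgx⟩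
    have hne : g * x * g⁻¹ ≠ 1 := by
      intro h
      apply hx1
      have : x = g⁻¹ * (g * x * g⁻¹) * g := by group
      rw [this, h]; group
    have hfixgb : (g * x * g⁻¹) • (g • b) = g • b := by
      rw [← mul_smul]
      have : g * x * g⁻¹ * g = g * x := by group
      rw [this, mul_smul, hfixb x hx]
    exact hfix _ hgx hne _ hfixgb
  have hNB : normalizer (P1 : Set G) ≤ B := by
    intro g hg
    have hnt : ∃ x : G, x ∈ P1 ∧ x ≠ 1 := by
      by_contra hcon
      push Not at hcon
      have : P1 = ⊥ := by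
        rw [Subgroup.eq_bot_iff_forall]; exact hcon
      rw [this] at hP1card
      simp at hP1card
    obtain ⟨x, hx, hx1⟩ := hnt
    apply hTI g
    exact ⟨x, hx1, hx, (Subgroup.mem_normalizer_iff.mp hg x).mp hx⟩
  have hNeq : normalizer (P1 : Set G) = B := le_antisymm hNB hBN
  refine ⟨by rw [hNeq]; exact hstab, ?_⟩
  intro g hg
  rw [hNeq]
  exact hTI g hg

end Cfsg.Agent.Lib.Helper10.U35
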