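import Mathlib
import Cfsg.Prelude.Def_Classical

set_option autoImplicit false

namespace Cfsg.Agent.Lib.Helper10.U35

/-- U35-U: a matrix with four eigenvectors in general position is a scalar matrix. -/
theorem scalar_of_fix {K : Type*} [Field K] (M P Q : Matrix (Fin 3) (Fin 3) K) (hPQ : P * Q = 1)
    (c : Fin 3 → K) (hcol : ∀ j, M.mulVec (fun i => P i j) = c j • (fun i => P i j))
    (a : Fin 3 → K) (ha : ∀ j, a j ≠ 0) (d : K)
    (h4 : M.mulVec (P.mulVec a) = d • P.mulVec a) : M = Matrix.scalar (Fin 3) d := by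
  have hQP : Q * P = 1 := mul_eq_one_comm.mp hPQ
  -- M * P = P * diagonal c
  have hMP : M * P = P * Matrix.diagonal c := by
    ext i j
    have h := congrFun (hcol j) i
    simp only [Matrix.mulVec, dotProduct, Pi.smul_apply, smul_eq_mul] at h
    rw [Matrix.mul_apply, Matrix.mul_diagonal]
    rw [h]; ring
  -- P (c ⊙ a - d a) = 0
  have h1 : P.mulVec (fun j => c j * a j) = P.mulVec (fun j => d * a j) := by
    have e1 : M.mulVec (P.mulVec a) = P.mulVec (fun j => c j * a j) := by
      rw [Matrix.mulVec_mulVec, hMP, ← Matrix.mulVec_mulVec]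
      congr 1
      ext j
      simp [Matrix.mulVec, dotProduct, Matrix.diagonal_apply]
    have e2 : d • P.mulVec a = P.mulVec (fun j => d * a j) := by
      rw [← Matrix.mulVec_smul]
      congr 1
    rw [← e1, h4, e2]
  have h2 : (fun j => c j * a j) = (fun j => d * a j) := by
    have := congrArg Q.mulVec h1
    rwa [Matrix.mulVec_mulVec, Matrix.mulVec_mulVec, hQP, Matrix.one_mulVec, Matrix.one_mulVec] at this
  have hc : ∀ j, c j = d := by
    intro j
    have := congrFun h2 j
    exact mul_right_cancel₀ (ha j) this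
  have hdiag : Matrix.diagonal c = Matrix.scalar (Fin 3) d := by
    ext i j
    simp [Matrix.diagonal_apply, Matrix.scalar_apply, hc]
  calc M = M * (P * Q) := by rw [hPQ, Matrix.mul_one]
    _ = (M * P) * Q := by rw [Matrix.mul_assoc]
    _ = P * Matrix.scalar (Fin 3) d * Q := by rw [hMP, hdiag]
    _ = Matrix.scalar (Fin 3) d * (P * Q) := by
        rw [← Matrix.mul_assoc]
        congr 1
        exact ((Matrix.scalar_commute d (fun r => Commute.all d r) P).eq).symm
    _ = Matrix.scalar (Fin 3) d := by rw [hPQ, Matrix.mul_one]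

end Cfsg.Agent.Lib.Helper10.U35
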