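import Mathlib
import Cfsg.Prelude.Def_GeometricClasses
import Cfsg.Agent.Lib.Helper27.ASC.Defs
import Cfsg.Agent.Lib.Lead.ASCU.Defs
import Cfsg.Agent.Lib.Helper16.U3.Defs
import Cfsg.Agent.Lib.Lead.Unitary
import Cfsg.Agent.Lib.helper8.U3SYMM3
import Cfsg.Agent.Lib.Helper10.U3FRSTD

/-!
# Project U3 (leader helper16), piece CSTD: a rational orthogonal structure is `GU`-conjugate to the
standard one.
-/

set_option autoImplicit false
set_option linter.unusedVariables false

namespace Cfsg.Agent.Lib.Helper16.U3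

open Cfsg Cfsg.Geo Cfsg.Agent.Lib.Helper27.ASC Cfsg.Agent.Lib.Lead.ASCU
open scoped MatrixGroups Matrix

variable {F : Type*} [Field F] [Fintype F]

/-- The group `GL_3(F₀) · scalars`. -/
def u3cstdX (F₀ : Subfield F) : Subgroup (GL (Fin 3) F) :=
  (Matrix.GeneralLinearGroup.map (F₀.subtype : F₀ →+* F)).range ⊔ scalars (Fin 3) F

omit [Fintype F] in
theorem u3cstd_mem_iff (F₀ : Subfield F) (P g : GL (Fin 3) F) :
    g ∈ subfieldSubgroup F₀ P ↔ P⁻¹ * g * P ∈ u3cstdX F₀ := by
  unfold subfieldSubgroup u3cstdX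
  constructor
  · rintro ⟨m, hm, rfl⟩
    have : P⁻¹ * ((MulAut.conj P).toMonoidHom m) * P = m := by
      change P⁻¹ * (P * m * P⁻¹) * P = m
      group
    rw [this]
    exact hm
  · intro h
    refine ⟨P⁻¹ * g * P, h, ?_⟩
    change P * (P⁻¹ * g * P) * P⁻¹ = g
    group

/-- CSTD : a rational orthogonal structure is `GU`-conjugate to the standard one. -/
theorem orth_std (q : ℕ) (hodd : Odd q) (hF : Fintype.card F = q ^ 2) (F₀ : Subfield F)
    (hcard : Fintype.card F = Nat.card F₀ ^ 2) (P : GL (Fin 3) F)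
    (hrat : IsFormRationalStructure (hermForm 3 F q) F₀ 1 P) :
    ∃ B : GL (Fin 3) F, B ∈ GU 3 F q ∧ ConjTo B (subfieldSubgroup F₀ P) (subfieldSubgroup F₀ 1) := by
  classical
  obtain ⟨φ, hφ⟩ := Cfsg.Agent.Lib.Lead.exists_frob hF
  have hφφ : ∀ x, φ (φ x) = x := Cfsg.Agent.Lib.Lead.frob_frob hF φ hφ
  have hq0 : q ≠ 0 := by
    rintro rfl
    have h1 : 1 < Fintype.card F := Fintype.one_lt_card
    rw [hF] at h1
    omega
  have hF₀ : Nat.card F₀ = q := by
    have h : Nat.card F₀ ^ 2 = q ^ 2 := by rw [← hcard, hF]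
    exact Nat.pow_left_injective (by norm_num : 2 ≠ 0) h
  -- elements of `F₀` are fixed by `φ`
  have hfix : ∀ x : F₀, φ (x : F) = (x : F) := by
    intro x
    haveI : Fintype F₀ := Fintype.ofFinite _
    have hx : x ^ q = x := by
      have := FiniteField.pow_card x
      rwa [← Nat.card_eq_fintype_card, hF₀] at this
    rw [hφ]
    have := congrArg (fun y : F₀ => (y : F)) hx
    simpa using this
  have h2F : (2 : F) ≠ 0 := by
    intro h
    have hchar : ringChar F = 2 := by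
      have : CharP F 2 := CharTwo.of_one_ne_zero_of_two_eq_zero one_ne_zero h
      exact ringChar.eq F 2
    have := FiniteField.even_card_of_char_two hchar
    rw [hF] at this
    have hoddsq : Odd (q ^ 2) := hodd.pow
    obtain ⟨t, ht⟩ := hoddsq
    omega
  have h2F₀ : (2 : F₀) ≠ 0 := by
    intro h
    apply h2F
    have h' : ((2 : F₀) : F) = ((0 : F₀) : F) := congrArg (fun y : F₀ => (y : F)) h
    have h2c : ((2 : F₀) : F) = 2 := by
      have : (2 : F₀) = 1 + 1 := by norm_num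
      rw [this]
      push_cast
      norm_num
    rw [h2c] at h'
    simpa using h'
  -- the Gram matrix
  set Pm : Matrix (Fin 3) (Fin 3) F := (P : Matrix (Fin 3) (Fin 3) F) with hPm
  set Gh : Matrix (Fin 3) (Fin 3) F := Pmᵀ * Pm.map φ with hGh
  have hGh_entry : ∀ i j, Gh i j =
      hermForm 3 F q (Pm *ᵥ (Pi.single i 1)) (Pm *ᵥ (Pi.single j 1)) := by
    intro i j
    rw [Cfsg.Agent.Lib.Lead.hermForm_eq_dot φ hφ, hGh, Matrix.mul_apply]
    simp only [dotProduct, Function.comp, Matrix.transpose_apply, Matrix.map_apply,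
      Matrix.mulVec_single_one]
    rfl
  have hGh_mem : ∀ i j, Gh i j ∈ F₀ := by
    intro i j
    rw [hGh_entry]
    have := hrat (Pi.single i 1) (Pi.single j 1)
      (fun r => by by_cases h : r = i
                   · subst h; rw [Pi.single_eq_same]; exact F₀.one_mem
                   · rw [Pi.single_eq_of_ne h]; exact F₀.zero_mem)
      (fun r => by by_cases h : r = j
                   · subst h; rw [Pi.single_eq_same]; exact F₀.one_mem
                   · rw [Pi.single_eq_of_ne h]; exact F₀.zero_mem)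
    rwa [one_mul] at this
  let G : Matrix (Fin 3) (Fin 3) F₀ := fun i j => ⟨Gh i j, hGh_mem i j⟩
  have hGmap : G.map (fun x : F₀ => (x : F)) = Gh := by
    ext i j; rfl
  have hGh_fix : Gh.map φ = Gh := by
    ext i j
    rw [Matrix.map_apply]
    exact hfix ⟨Gh i j, hGh_mem i j⟩
  have hGh_symm : Ghᵀ = Gh := by
    have h1 : Ghᵀ = (Pm.map φ)ᵀ * Pm := by
      rw [hGh, Matrix.transpose_mul, Matrix.transpose_transpose]
    have h2 : Gh.map φ = (Pm.map φ)ᵀ * Pm := by
      rw [hGh, Matrix.map_mul, Matrix.transpose_map]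
      congr 1
      ext i j
      simp only [Matrix.map_apply, hφφ]
    rw [h1, ← h2, hGh_fix]
  have hGsymm : Gᵀ = G := by
    ext i j
    have := congrFun (congrFun hGh_symm i) j
    exact this
  have hGh_det : Gh.det ≠ 0 := by
    rw [hGh, Matrix.det_mul, Matrix.det_transpose]
    have hP : Pm.det ≠ 0 := by
      have := P.isUnit
      exact ((Matrix.isUnit_iff_isUnit_det _).mp (Units.isUnit P)).ne_zero
    have hP2 : (Pm.map φ).det = φ Pm.det := by
      rw [← RingHom.mapMatrix_apply, ← RingHom.map_det]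
    rw [hP2]
    exact mul_ne_zero hP (fun h => hP (by
      have := congrArg φ h
      rwa [hφφ, map_zero] at this))
  have hGdet : G.det ≠ 0 := by
    intro h
    apply hGh_det
    rw [← hGmap]
    have := RingHom.map_det (F₀.subtype : F₀ →+* F) G
    rw [RingHom.mapMatrix_apply] at this
    change (G.map (F₀.subtype)).det = 0
    rw [← this, h, map_zero]
  obtain ⟨A, μ, hAdet, hμ, hAGA⟩ := symm3_scalar h2F₀ G hGsymm hGdet
  -- the scalar
  have hμfix : ((μ⁻¹ : F₀) : F) ^ q = ((μ⁻¹ : F₀) : F) := by rw [← hφ]; exact hfix _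
  obtain ⟨lam, hlam⟩ := u3frstd_norm q hF ((μ⁻¹ : F₀) : F) hμfix
  have hlam0 : lam ≠ 0 := by
    rintro rfl
    rw [zero_pow (by omega)] at hlam
    have : ((μ⁻¹ : F₀) : F) ≠ 0 := by
      intro h
      have : (μ⁻¹ : F₀) = 0 := Subtype.ext h
      exact inv_ne_zero hμ this
    exact this hlam.symm
  -- the elements of `GL`
  let A' : GL (Fin 3) F₀ := Matrix.GeneralLinearGroup.mkOfDetNeZero A hAdet
  let A'' : GL (Fin 3) F := Matrix.GeneralLinearGroup.map (F₀.subtype : F₀ →+* F) A'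
  let S : GL (Fin 3) F := Units.map (Matrix.scalar (Fin 3) : F →+* Matrix (Fin 3) (Fin 3) F).toMonoidHom
    (Units.mk0 lam hlam0)
  have hA''X : A'' ∈ u3cstdX F₀ := Subgroup.mem_sup_left ⟨A', rfl⟩
  have hSX : S ∈ u3cstdX F₀ := Subgroup.mem_sup_right ⟨Units.mk0 lam hlam0, rfl⟩
  set Ah : Matrix (Fin 3) (Fin 3) F := A.map (fun x : F₀ => (x : F)) with hAh
  have hA''mat : (A'' : Matrix (Fin 3) (Fin 3) F) = Ah := rfl
  have hSmat : (S : Matrix (Fin 3) (Fin 3) F) = lam • (1 : Matrix (Fin 3) (Fin 3) F) := by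
    change Matrix.scalar (Fin 3) lam = _
    rw [Matrix.scalar_apply, Matrix.smul_one_eq_diagonal]
  have hAh_fix : Ah.map φ = Ah := by
    ext i j
    rw [Matrix.map_apply]
    exact hfix (A i j)
  have hAGAh : Ahᵀ * Gh * Ah = ((μ : F₀) : F) • (1 : Matrix (Fin 3) (Fin 3) F) := by
    have := congrArg (fun M : Matrix (Fin 3) (Fin 3) F₀ => M.map (F₀.subtype : F₀ →+* F)) hAGA
    simp only [Matrix.map_mul, Matrix.transpose_map] at this
    have hsm : (μ • (1 : Matrix (Fin 3) (Fin 3) F₀)).map (F₀.subtype : F₀ →+* F)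
        = ((μ : F₀) : F) • (1 : Matrix (Fin 3) (Fin 3) F) := by
      ext i j
      by_cases h : i = j
      · subst h
        simp [Matrix.smul_apply, Matrix.one_apply]
      · simp [Matrix.smul_apply, Matrix.one_apply, h]
    rw [← hGmap, ← hsm]
    exact this
  let B : GL (Fin 3) F := P * (A'' * S)
  have hBmat : (B : Matrix (Fin 3) (Fin 3) F) = lam • (Pm * Ah) := by
    change (P : Matrix (Fin 3) (Fin 3) F) * ((A'' : Matrix (Fin 3) (Fin 3) F) * (S : Matrix (Fin 3) (Fin 3) F)) = _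
    rw [hA''mat, hSmat, Matrix.mul_smul, Matrix.mul_one, Matrix.mul_smul]
  refine ⟨B, ?_, ?_⟩
  · -- `B` is unitary
    rw [mem_GU_iff, Cfsg.Agent.Lib.Lead.preserves_iff φ hφ, hBmat]
    rw [Matrix.transpose_smul, Matrix.transpose_mul,
      Matrix.map_smul' φ lam _ (fun x y => map_mul φ x y), Matrix.map_mul, hAh_fix]
    rw [Matrix.smul_mul, Matrix.mul_smul, smul_smul]
    have hassoc : Ahᵀ * Pmᵀ * (Pm.map φ * Ah) = Ahᵀ * Gh * Ah := by
      rw [hGh]; simp only [Matrix.mul_assoc]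
    rw [hassoc, hAGAh, smul_smul, hφ]
    have : lam * lam ^ q * ((μ : F₀) : F) = 1 := by
      rw [← pow_succ', hlam]
      have : ((μ⁻¹ : F₀) : F) * ((μ : F₀) : F) = ((μ⁻¹ * μ : F₀) : F) := rfl
      rw [this, inv_mul_cancel₀ hμ]
      rfl
    rw [this, one_smul]
  · -- conjugation
    intro g
    rw [u3cstd_mem_iff, u3cstd_mem_iff]
    have hY : A'' * S ∈ u3cstdX F₀ := (u3cstdX F₀).mul_mem hA''X hSX
    have hkey : (1 : GL (Fin 3) F)⁻¹ * (B⁻¹ * g * B) * 1 = (A'' * S)⁻¹ * (P⁻¹ * g * P) * (A'' * S) := by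
      simp only [B]
      group
    rw [hkey]
    constructor
    · intro h
      exact (u3cstdX F₀).mul_mem ((u3cstdX F₀).mul_mem ((u3cstdX F₀).inv_mem hY) h) hY
    · intro h
      have h2 := (u3cstdX F₀).mul_mem ((u3cstdX F₀).mul_mem hY h) ((u3cstdX F₀).inv_mem hY)
      have h3 : (A'' * S) * ((A'' * S)⁻¹ * (P⁻¹ * g * P) * (A'' * S)) * (A'' * S)⁻¹ = P⁻¹ * g * P := by
        group
      rwa [h3] at h2

end Cfsg.Agent.Lib.Helper16.U3
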