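import Mathlib
import Cfsg.Prelude.Def_GeometricClasses
import Cfsg.Agent.Lib.Helper27.ASC.Defs
import Cfsg.Agent.Lib.Lead.ASCU.Defs
import Cfsg.Agent.Lib.Helper16.U3.Defs

/-!
# Project U3 (leader helper16), piece EXPLC3, part a: the standard frame is a non-degenerate
decomposition for the standard unitary form; membership in `subfieldSubgroup F₀ 1` in matrix form.
-/

set_option autoImplicit false
set_option linter.unusedVariables false

namespace Cfsg.Agent.Lib.Helper16.U3

open Cfsg Cfsg.Geo Cfsg.Agent.Lib.Helper27.ASC Cfsg.Agent.Lib.Lead.ASCU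
open scoped MatrixGroups Matrix

variable {F : Type*} [Field F]

theorem u3explc3_herm_single_left (q : ℕ) (i : Fin 3) (a : F) (v : Fin 3 → F) :
    hermForm 3 F q (Pi.single i a) v = a * (v i) ^ q := by
  unfold hermForm
  rw [Finset.sum_eq_single i]
  · rw [Pi.single_eq_same]
  · intro j _ hj
    rw [Pi.single_eq_of_ne hj, zero_mul]
  · intro h; exact absurd (Finset.mem_univ i) h

theorem u3explc3_herm_single_right (q : ℕ) (hq : q ≠ 0) (j : Fin 3) (b : F) (u : Fin 3 → F) :
    hermForm 3 F q u (Pi.single j b) = u j * b ^ q := by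
  unfold hermForm
  rw [Finset.sum_eq_single j]
  · rw [Pi.single_eq_same]
  · intro i _ hi
    rw [Pi.single_eq_of_ne hi, zero_pow hq, mul_zero]
  · intro h; exact absurd (Finset.mem_univ j) h

theorem u3explc3_mem_stdFrame (i : Fin 3) (w : Fin 3 → F) :
    w ∈ stdFrame F i ↔ ∃ c : F, w = Pi.single i c := by
  unfold stdFrame
  rw [Submodule.mem_span_singleton]
  constructor
  · rintro ⟨c, rfl⟩
    refine ⟨c, ?_⟩
    ext r
    by_cases h : r = i
    · subst h; simp
    · simp [Pi.single_eq_of_ne h]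
  · rintro ⟨c, rfl⟩
    refine ⟨c, ?_⟩
    ext r
    by_cases h : r = i
    · subst h; simp
    · simp [Pi.single_eq_of_ne h]

/-- The standard frame is a decomposition into lines. -/
theorem u3explc3_stdFrame_dec : IsMDecomposition 1 (stdFrame F) := by
  classical
  have hli : LinearIndependent F (fun i : Fin 3 => (Pi.single i (1 : F) : Fin 3 → F)) := by
    have := (Pi.basisFun F (Fin 3)).linearIndependent
    convert this using 1
    ext i
    simp
  refine ⟨by norm_num, by norm_num, fun i => ?_, ?_, ?_⟩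
  · unfold stdFrame
    apply finrank_span_singleton
    intro h
    have := congrFun h i
    simp at this
  · exact hli.iSupIndep_span_singleton
  · unfold stdFrame
    rw [← Submodule.span_range_eq_iSup]
    have := (Pi.basisFun F (Fin 3)).span_eq
    convert this using 2
    ext v
    simp only [Set.mem_range]
    constructor
    · rintro ⟨i, rfl⟩; exact ⟨i, by simp⟩
    · rintro ⟨i, rfl⟩; exact ⟨i, by simp⟩

/-- The standard frame is a non-degenerate decomposition for the standard unitary form. -/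
theorem u3explc3_stdFrame_nd (q : ℕ) (hq : q ≠ 0) :
    IsNondegenerateMDecomposition (hermForm 3 F q) 1 (stdFrame F) := by
  refine ⟨u3explc3_stdFrame_dec, fun i w hw hw0 => ?_, fun i j hij u hu v hv => ?_⟩
  · obtain ⟨c, rfl⟩ := (u3explc3_mem_stdFrame i w).mp hw
    have hc : c ≠ 0 := by
      rintro rfl
      apply hw0
      simp
    have he : (Pi.single i (1 : F) : Fin 3 → F) ∈ stdFrame F i :=
      (u3explc3_mem_stdFrame i _).mpr ⟨1, rfl⟩
    refine ⟨⟨Pi.single i 1, he, ?_⟩, ⟨Pi.single i 1, he, ?_⟩⟩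
    · rw [u3explc3_herm_single_left, Pi.single_eq_same, one_mul]
      exact pow_ne_zero q hc
    · rw [u3explc3_herm_single_left, Pi.single_eq_same, one_pow, mul_one]
      exact hc
  · obtain ⟨a, rfl⟩ := (u3explc3_mem_stdFrame i u).mp hu
    obtain ⟨b, rfl⟩ := (u3explc3_mem_stdFrame j v).mp hv
    rw [u3explc3_herm_single_left, Pi.single_eq_of_ne hij, zero_pow hq, mul_zero]

/-- Membership in `subfieldSubgroup F₀ 1`, in matrix form. -/
theorem u3explc3_mem (F₀ : Subfield F) (g : GL (Fin 3) F) (hg : g ∈ subfieldSubgroup F₀ 1) :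
    ∃ (l : F) (G0 : Matrix (Fin 3) (Fin 3) F₀), l ≠ 0 ∧
      (g : Matrix (Fin 3) (Fin 3) F) = l • G0.map (fun x : F₀ => (x : F)) := by
  unfold subfieldSubgroup at hg
  obtain ⟨m, hm, hmt⟩ := hg
  have hmt' : m = g := by
    have h1 : (1 : GL (Fin 3) F) * m * (1 : GL (Fin 3) F)⁻¹ = g := hmt
    rw [← h1]; group
  subst hmt'
  rw [SetLike.mem_coe, Subgroup.mem_sup_of_normal_right] at hm
  obtain ⟨g0, hg0, c, hc, hgc⟩ := hm
  obtain ⟨g00, rfl⟩ := hg0
  obtain ⟨cc, hcc⟩ := (mem_scalars_iff c).mp hc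
  refine ⟨(cc : F), (g00 : Matrix (Fin 3) (Fin 3) F₀), cc.ne_zero, ?_⟩
  have hmat : (m : Matrix (Fin 3) (Fin 3) F) =
      ((Matrix.GeneralLinearGroup.map (F₀.subtype : F₀ →+* F) g00 : GL (Fin 3) F) :
        Matrix (Fin 3) (Fin 3) F) * (c : Matrix (Fin 3) (Fin 3) F) := by
    rw [← hgc]; rfl
  rw [hcc, Matrix.mul_smul, Matrix.mul_one] at hmat
  rw [hmat]
  rfl

end Cfsg.Agent.Lib.Helper16.U3
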