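import Mathlib

/-!
# Project U3 (leader helper16), piece EXPLC3, part b: the combinatorial core over `ZMod 3`.
A `3 × 3` matrix over `ZMod 3` with `aᵀ a = ν`, `ν ≠ 0`, and no zero row is monomial.
-/

set_option autoImplicit false
set_option linter.unusedVariables false

namespace Cfsg.Agent.Lib.Helper16.U3

theorem u3explc3_L1 : ∀ a b c : ZMod 3, a * a + b * b + c * c = 1 →
    (a ≠ 0 ∧ b = 0 ∧ c = 0) ∨ (a = 0 ∧ b ≠ 0 ∧ c = 0) ∨ (a = 0 ∧ b = 0 ∧ c ≠ 0) := by decide

set_option synthInstance.maxSize 2000 in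
set_option synthInstance.maxHeartbeats 200000 in
theorem u3explc3_L2 : ∀ a b c d e f : ZMod 3, a * a + b * b + c * c = 2 → d * d + e * e + f * f = 2 →
    a * d + b * e + c * f = 0 → ((a = 0 ↔ d = 0) ∧ (b = 0 ↔ e = 0) ∧ (c = 0 ↔ f = 0)) := by decide

theorem u3explc3_L3 : ∀ a b c : ZMod 3, a * a + b * b + c * c = 2 → (a = 0 ∨ b = 0 ∨ c = 0) := by
  decide

theorem u3explc3_cube : ∀ z : ZMod 3, z ^ 3 = z := by decide

theorem u3explc3_nu : ∀ z : ZMod 3, z ≠ 0 → z = 1 ∨ z = 2 := by decide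

/-- The combinatorial core. -/
theorem u3explc3_comb (a : Matrix (Fin 3) (Fin 3) (ZMod 3)) (ν : ZMod 3) (hν : ν ≠ 0)
    (h : ∀ i j, ∑ r, a r i * a r j = if i = j then ν else 0)
    (hrow : ∀ r, ∃ k, a r k ≠ 0) :
    ∀ i, ∃ r, a r i ≠ 0 ∧ ∀ r', r' ≠ r → a r' i = 0 := by
  have h' : ∀ i j, a 0 i * a 0 j + a 1 i * a 1 j + a 2 i * a 2 j = if i = j then ν else 0 := by
    intro i j
    rw [← h i j, Fin.sum_univ_three]
  rcases u3explc3_nu ν hν with h1 | h2
  · subst h1
    intro i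
    have hi := h' i i
    rw [if_pos rfl] at hi
    rcases u3explc3_L1 _ _ _ hi with ⟨h0, h1, h2⟩ | ⟨h0, h1, h2⟩ | ⟨h0, h1, h2⟩
    · refine ⟨0, h0, fun r' hr' => ?_⟩
      fin_cases r'
      · exact absurd rfl hr'
      · exact h1
      · exact h2
    · refine ⟨1, h1, fun r' hr' => ?_⟩
      fin_cases r'
      · exact h0
      · exact absurd rfl hr'
      · exact h2
    · refine ⟨2, h2, fun r' hr' => ?_⟩
      fin_cases r'
      · exact h0
      · exact h1
      · exact absurd rfl hr'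
  · subst h2
    exfalso
    have h00 := h' 0 0
    have h11 := h' 1 1
    have h22 := h' 2 2
    have h01 := h' 0 1
    have h02 := h' 0 2
    rw [if_pos rfl] at h00 h11 h22
    rw [if_neg (by decide)] at h01 h02
    obtain ⟨e1, e2, e3⟩ := u3explc3_L2 _ _ _ _ _ _ h00 h11 h01
    obtain ⟨f1, f2, f3⟩ := u3explc3_L2 _ _ _ _ _ _ h00 h22 h02
    rcases u3explc3_L3 _ _ _ h00 with hz | hz | hz
    · obtain ⟨k, hk⟩ := hrow 0
      fin_cases k
      · exact hk hz
      · exact hk (e1.mp hz)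
      · exact hk (f1.mp hz)
    · obtain ⟨k, hk⟩ := hrow 1
      fin_cases k
      · exact hk hz
      · exact hk (e2.mp hz)
      · exact hk (f2.mp hz)
    · obtain ⟨k, hk⟩ := hrow 2
      fin_cases k
      · exact hk hz
      · exact hk (e3.mp hz)
      · exact hk (f3.mp hz)

end Cfsg.Agent.Lib.Helper16.U3
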