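import Mathlib
import Cfsg.Prelude.Def_GeometricClasses
import Cfsg.Agent.Lib.Helper27.ASC.Defs
import Cfsg.Agent.Lib.Lead.ASCU.Defs
import Cfsg.Agent.Lib.Helper16.U3.Defs
import Cfsg.Agent.Lib.Helper19.ASCUUPR2
import Cfsg.Agent.Lib.Helper10.U3EXPLC3a
import Cfsg.Agent.Lib.Helper10.U3EXPLC3b

/-!
# Project U3 (leader helper16), piece EXPLC3: `SO_3(3)` lies in the monomial subgroup of `SU_3(3)`.
-/

set_option autoImplicit false
set_option linter.unusedVariables false

namespace Cfsg.Agent.Lib.Helper16.U3

open Cfsg Cfsg.Geo Cfsg.Agent.Lib.Helper27.ASC Cfsg.Agent.Lib.Lead.ASCU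
open scoped MatrixGroups Matrix

variable {F : Type*} [Field F] [Fintype F]

/-- A field with nine elements has characteristic three. -/
theorem u3explc3_char (hF : Fintype.card F = 3 ^ 2) : CharP F 3 := by
  obtain ⟨p, hp⟩ := CharP.exists F
  have hpr : p.Prime := (CharP.char_is_prime_or_zero F p).resolve_right (by
    intro h0
    subst h0
    have := hp
    have : CharZero F := CharP.charP_to_charZero F
    exact not_finite F)
  have h9 : ((3 ^ 2 : ℕ) : F) = 0 := by rw [← hF]; exact Nat.cast_card_eq_zero F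
  have hdvd : p ∣ 3 ^ 2 := (CharP.cast_eq_zero_iff F p _).mp h9
  have h3 : p ∣ 3 := hpr.dvd_of_dvd_pow hdvd
  have : p = 3 := (Nat.prime_dvd_prime_iff_eq hpr Nat.prime_three).mp h3
  rw [← this]
  exact hp

/-- Elements of the subfield with three elements come from `ZMod 3`. -/
theorem u3explc3_lift [CharP F 3] (F₀ : Subfield F) (h3 : Nat.card F₀ = 3) (x : F₀) :
    ∃ z : ZMod 3, (x : F) = ZMod.castHom (dvd_refl 3) F z := by
  classical
  haveI : Fintype F₀ := Fintype.ofFinite _
  have hx : x ^ 3 = x := by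
    have := FiniteField.pow_card x
    rwa [← Nat.card_eq_fintype_card, h3] at this
  have hx' : (x : F) ^ 3 = (x : F) := by
    have := congrArg (fun y : F₀ => (y : F)) hx
    simpa using this
  have hfac : (x : F) * ((x : F) - 1) * ((x : F) + 1) = 0 := by
    have : (x : F) * ((x : F) - 1) * ((x : F) + 1) = (x : F) ^ 3 - (x : F) := by ring
    rw [this, hx', sub_self]
  rcases mul_eq_zero.mp hfac with h | h
  · rcases mul_eq_zero.mp h with h | h
    · exact ⟨0, by rw [h, map_zero]⟩
    · exact ⟨1, by rw [map_one]; exact sub_eq_zero.mp h⟩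
  · refine ⟨-1, ?_⟩
    rw [map_neg, map_one]
    exact eq_neg_of_add_eq_zero_left h

/-- EXPLC3 : `SO_3(3)` lies in the monomial subgroup of `SU_3(3)`. -/
theorem explicit_orth3 (hF : Fintype.card F = 3 ^ 2) (F₀ : Subfield F) (hcard : Fintype.card F = Nat.card F₀ ^ 2) :
    ∃ L : Subgroup (GL (Fin 3) F), L ≤ SUg 3 F 3 ∧ L ≠ SUg 3 F 3 ∧
      subfieldSubgroup F₀ 1 ⊓ SUg 3 F 3 ≤ L ∧ ∃ a ∈ L, a ∉ subfieldSubgroup F₀ 1 := by
  classical
  have : CharP F 3 := u3explc3_char hF
  have h3F : (3 : F) = 0 := by
    have := CharP.cast_eq_zero F 3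
    exact_mod_cast this
  have h2F : (2 : F) ≠ 0 := by
    intro h
    have h1 : (1 : F) = 3 - 2 := by norm_num
    rw [h3F, h, sub_zero] at h1
    exact one_ne_zero h1
  have hF₀ : Nat.card F₀ = 3 := by
    have h : Nat.card F₀ ^ 2 = 3 ^ 2 := by rw [← hcard, hF]
    exact Nat.pow_left_injective (by norm_num : 2 ≠ 0) h
  set ι : ZMod 3 →+* F := ZMod.castHom (dvd_refl 3) F with hι
  have hιinj : Function.Injective ι := RingHom.injective ι
  have hnd : IsNondegenerateMDecomposition (hermForm 3 F 3) 1 (stdFrame F) :=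
    u3explc3_stdFrame_nd 3 (by norm_num)
  refine ⟨decompositionStabilizer (stdFrame F) ⊓ SUg 3 F 3, inf_le_right, ?_, ?_, ?_⟩
  · intro h
    apply upr_dec 3 hF (le_refl 3) (stdFrame F) hnd
    rw [← h]
    exact inf_le_left
  · -- the main containment
    intro g hg
    refine ⟨?_, hg.2⟩
    obtain ⟨l, G0, hl, hgm⟩ := u3explc3_mem F₀ g hg.1
    have hGU : g ∈ GU 3 F 3 := hg.2.1
    -- lift the entries to `ZMod 3`
    have hlift : ∀ r k, ∃ z : ZMod 3, ((G0 r k : F₀) : F) = ι z := fun r k =>
      u3explc3_lift F₀ hF₀ (G0 r k)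
    choose a ha using hlift
    have hentry : ∀ r k, (g : Matrix (Fin 3) (Fin 3) F) r k = l * ι (a r k) := by
      intro r k
      rw [hgm, Matrix.smul_apply, Matrix.map_apply, ha, smul_eq_mul]
    have hcol : ∀ k, (g : Matrix (Fin 3) (Fin 3) F) *ᵥ (Pi.single k 1) =
        fun r => l * ι (a r k) := by
      intro k
      ext r
      rw [Matrix.mulVec_single_one]
      exact hentry r k
    -- orthogonality relations
    have horth : ∀ i j, l ^ 4 * ι (∑ r, a r i * a r j) = if i = j then 1 else 0 := by
      intro i j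
      have h1 := (mem_GU_iff 3 g).mp hGU (Pi.single i 1) (Pi.single j 1)
      rw [hcol, hcol, u3explc3_herm_single_left, one_mul] at h1
      have h2 : hermForm 3 F 3 (fun r => l * ι (a r i)) (fun r => l * ι (a r j)) =
          l ^ 4 * ι (∑ r, a r i * a r j) := by
        unfold hermForm
        rw [map_sum, Finset.mul_sum]
        apply Finset.sum_congr rfl
        intro r _
        rw [map_mul, mul_pow, ← map_pow, u3explc3_cube]
        ring
      rw [h2] at h1
      rw [h1]
      by_cases hij : i = j
      · subst hij; simp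
      · rw [if_neg hij, Pi.single_eq_of_ne hij, zero_pow (by norm_num)]
    set ν : ZMod 3 := ∑ r, a r 0 * a r 0 with hν
    have h00 := horth 0 0
    rw [if_pos rfl] at h00
    have hν0 : ν ≠ 0 := by
      intro h
      rw [← hν, h, map_zero, mul_zero] at h00
      exact zero_ne_one h00
    have hrel : ∀ i j, ∑ r, a r i * a r j = if i = j then ν else 0 := by
      intro i j
      apply hιinj
      have hl4 : l ^ 4 ≠ 0 := pow_ne_zero 4 hl
      apply mul_left_cancel₀ hl4
      rw [horth i j]
      by_cases hij : i = j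
      · rw [if_pos hij, if_pos hij, h00]
      · rw [if_neg hij, if_neg hij, map_zero, mul_zero]
    have hrow : ∀ r, ∃ k, a r k ≠ 0 := by
      intro r
      by_contra hcon
      push Not at hcon
      have h1 : ((g * g⁻¹ : GL (Fin 3) F) : Matrix (Fin 3) (Fin 3) F) r r = 1 := by
        rw [mul_inv_cancel, Units.val_one, Matrix.one_apply_eq]
      rw [Units.val_mul, Matrix.mul_apply] at h1
      have h2 : ∀ k, (g : Matrix (Fin 3) (Fin 3) F) r k = 0 := fun k => by
        rw [hentry, hcon, map_zero, mul_zero]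
      simp only [h2, zero_mul, Finset.sum_const_zero] at h1
      exact zero_ne_one h1
    have hmono := u3explc3_comb a ν hν0 hrel hrow
    choose π hπ0 hπ using hmono
    have hπinj : Function.Injective π := by
      intro i j hij
      by_contra hne
      have h1 := hrel i j
      rw [if_neg hne, Finset.sum_eq_single (π i)] at h1
      · rcases mul_eq_zero.mp h1 with h | h
        · exact hπ0 i h
        · rw [hij] at h; exact hπ0 j h
      · intro r _ hr
        rw [hπ i r hr, zero_mul]
      · intro h; exact absurd (Finset.mem_univ _) h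
    let σ : Equiv.Perm (Fin 3) := Equiv.ofBijective π (Finite.injective_iff_bijective.mp hπinj)
    refine ⟨σ, fun i => ?_⟩
    have hgi : (g : Matrix (Fin 3) (Fin 3) F) *ᵥ (Pi.single i 1) =
        Pi.single (π i) (l * ι (a (π i) i)) := by
      rw [hcol]
      ext r
      by_cases hr : r = π i
      · subst hr; rw [Pi.single_eq_same]
      · rw [Pi.single_eq_of_ne hr, hπ i r hr, map_zero, mul_zero]
    have hne : l * ι (a (π i) i) ≠ 0 :=
      mul_ne_zero hl (fun h => hπ0 i (hιinj (by rw [h, map_zero])))
    change (stdFrame F i).map _ = stdFrame F (π i)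
    unfold stdFrame
    rw [Submodule.map_span, Set.image_singleton, Matrix.toLin'_apply, hgi]
    apply le_antisymm
    · rw [Submodule.span_singleton_le_iff_mem]
      exact (u3explc3_mem_stdFrame (π i) _).mpr ⟨_, rfl⟩
    · rw [Submodule.span_singleton_le_iff_mem, Submodule.mem_span_singleton]
      refine ⟨(l * ι (a (π i) i))⁻¹, ?_⟩
      ext r
      by_cases hr : r = π i
      · subst hr
        rw [Pi.smul_apply, Pi.single_eq_same, Pi.single_eq_same, smul_eq_mul, inv_mul_cancel₀ hne]
      · simp [Pi.single_eq_of_ne hr]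
  · -- the witness `diag(i, i⁻¹, 1)`
    obtain ⟨γ, hγ⟩ := IsCyclic.exists_generator (α := Fˣ)
    have hord : orderOf γ = 8 := by
      rw [orderOf_eq_card_of_forall_mem_zpowers hγ, Nat.card_eq_fintype_card, Fintype.card_units, hF]
      norm_num
    have h8 : γ ^ 8 = 1 := by rw [← hord]; exact pow_orderOf_eq_one γ
    set i : F := ((γ ^ 2 : Fˣ) : F) with hi
    have hi0 : i ≠ 0 := Units.ne_zero _
    have hi4 : i ^ 4 = 1 := by
      rw [hi, ← Units.val_pow_eq_pow_val, ← pow_mul]
      rw [show 2 * 4 = 8 from rfl, h8, Units.val_one]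
    have hi2 : i ^ 2 ≠ 1 := by
      intro h
      rw [hi, ← Units.val_pow_eq_pow_val, ← pow_mul] at h
      have h1 : γ ^ (2 * 2) = 1 := Units.ext (by rw [h, Units.val_one])
      have := orderOf_dvd_of_pow_eq_one h1
      rw [hord] at this
      omega
    let d : Fin 3 → F := ![i, i⁻¹, 1]
    let d' : Fin 3 → F := ![i⁻¹, i, 1]
    have hdd' : ∀ r, d r * d' r = 1 := by
      intro r
      fin_cases r
      · simp [d, d', mul_inv_cancel₀ hi0]
      · simp [d, d', inv_mul_cancel₀ hi0]
      · simp [d, d']
    have hd4 : ∀ r, d r ^ 4 = 1 := by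
      intro r
      fin_cases r
      · simpa [d] using hi4
      · simp [d, inv_pow, hi4]
      · simp [d]
    let A : GL (Fin 3) F := ⟨Matrix.diagonal d, Matrix.diagonal d',
      by rw [Matrix.diagonal_mul_diagonal]; simp [hdd'],
      by rw [Matrix.diagonal_mul_diagonal]; simp [mul_comm, hdd']⟩
    have hAv : ∀ u : Fin 3 → F, (A : Matrix (Fin 3) (Fin 3) F) *ᵥ u = fun r => d r * u r := by
      intro u
      ext r
      simp [A, Matrix.mulVec_diagonal]
    refine ⟨A, Subgroup.mem_inf.mpr ⟨?_, Subgroup.mem_inf.mpr ⟨?_, ?_⟩⟩, ?_⟩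
    · -- monomial
      refine ⟨1, fun r => ?_⟩
      change (stdFrame F r).map _ = stdFrame F r
      unfold stdFrame
      rw [Submodule.map_span, Set.image_singleton, Matrix.toLin'_apply, hAv]
      have hdr : d r ≠ 0 := fun h => by
        have := hdd' r
        rw [h, zero_mul] at this
        exact zero_ne_one this
      have hvec : (fun r' => d r' * (Pi.single r (1 : F) : Fin 3 → F) r') = Pi.single r (d r) := by
        ext r'
        by_cases hr : r' = r
        · subst hr; simp
        · simp [Pi.single_eq_of_ne hr]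
      rw [hvec]
      apply le_antisymm
      · rw [Submodule.span_singleton_le_iff_mem]
        exact (u3explc3_mem_stdFrame r _).mpr ⟨_, rfl⟩
      · rw [Submodule.span_singleton_le_iff_mem, Submodule.mem_span_singleton]
        refine ⟨(d r)⁻¹, ?_⟩
        ext r'
        by_cases hr : r' = r
        · subst hr; simp [inv_mul_cancel₀ hdr]
        · simp [Pi.single_eq_of_ne hr]
    · -- unitary
      rw [mem_GU_iff]
      intro u v
      rw [hAv, hAv]
      unfold hermForm
      apply Finset.sum_congr rfl
      intro r _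
      rw [mul_pow]
      have : d r * u r * (d r ^ 3 * v r ^ 3) = d r ^ 4 * (u r * v r ^ 3) := by ring
      rw [this, hd4, one_mul]
    · -- determinant one
      change A ∈ (Matrix.GeneralLinearGroup.det : GL (Fin 3) F →* Fˣ).ker
      rw [MonoidHom.mem_ker]
      apply Units.ext
      rw [Matrix.GeneralLinearGroup.val_det_apply]
      change (Matrix.diagonal d).det = 1
      rw [Matrix.det_diagonal, Fin.prod_univ_three]
      simp [d, mul_inv_cancel₀ hi0]
    · -- not in the subfield group
      intro hmem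
      obtain ⟨l, G0, hl, hA⟩ := u3explc3_mem F₀ A hmem
      have h22 := congrFun (congrFun hA 2) 2
      have h00 := congrFun (congrFun hA 0) 0
      simp only [A, Matrix.diagonal_apply_eq, Matrix.smul_apply, Matrix.map_apply, smul_eq_mul] at h22 h00
      have hd2 : d 2 = 1 := by simp [d]
      have hd0 : d 0 = i := by simp [d]
      rw [hd2] at h22
      rw [hd0] at h00
      -- `i = y / x` lies in `F₀`
      have hx0 : ((G0 2 2 : F₀) : F) ≠ 0 := by
        intro h
        rw [h, mul_zero] at h22
        exact one_ne_zero h22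
      have hiF₀ : i * ((G0 2 2 : F₀) : F) = ((G0 0 0 : F₀) : F) := by
        rw [h00, mul_assoc, mul_comm ((G0 0 0 : F₀) : F), ← mul_assoc, ← h22, one_mul]
      have hi_mem : i ∈ F₀ := by
        have : i = ((G0 0 0 : F₀) : F) * (((G0 2 2 : F₀) : F))⁻¹ := by
          rw [← hiF₀, mul_assoc, mul_inv_cancel₀ hx0, mul_one]
        rw [this]
        exact F₀.mul_mem (G0 0 0).2 (F₀.inv_mem (G0 2 2).2)
      obtain ⟨z, hz⟩ := u3explc3_lift F₀ hF₀ ⟨i, hi_mem⟩
      have hi3 : i ^ 3 = i := by
        change i = _ at hz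
        rw [hz, ← map_pow, u3explc3_cube]
      apply hi2
      have : i * i ^ 2 = i * 1 := by rw [mul_one, ← pow_succ', hi3]
      exact mul_left_cancel₀ hi0 this

end Cfsg.Agent.Lib.Helper16.U3
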