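import Mathlib
import Cfsg.Agent.Lib.Helper19.U3P.Defs
import Cfsg.Agent.Lib.helper6.SLPM4
import Cfsg.Agent.Lib.Helper28.SP4R1
import Cfsg.Agent.Lib.Helper9.SP4H1
import Cfsg.Agent.Lib.Helper18.U3PO1
import Cfsg.Agent.Lib.Helper19.U3PB2
import Cfsg.Agent.Lib.Helper22.U3PB1
import Cfsg.Agent.Lib.helper2.SLPM1

/-!
# Project U3P (S2289, designer helper19): rows M1 (`range_phi_le`), M4 (`rank1_w`), O5 (`pi_phi`),
O6 (`pi_inj`), VERBATIM (helper10).  Extras `u3po5_*`: own-name copy of the statement of B2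
(`u3po5_relM_basic`, from the landed B1 `conj_phi` and helper19's `u3pb2_core`), `u3po5_map_z0`.
-/

set_option autoImplicit false

namespace Cfsg.Agent.Lib.Helper19.U3P

open Cfsg.Agent.Lib.helper17.SLP Cfsg.Agent.Lib.helper14.SU3J Cfsg.Agent.Lib.Helper25.SU3P
open Cfsg.Agent.Lib.helper3.SP4
open Polynomial Matrix

universe u v

/-- own-name copy of P1 `map_z0`. -/
theorem u3po5_map_z0 {G : Type u} {H : Type v} [Group G] [Group H] (φ : G →* H) (q : ℕ) (u h : G) :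
    φ (z0 q u h) = z0 q (φ u) (φ h) := by
  unfold z0
  rw [map_cm, map_cj]

section M

variable {K : Type u} [Field K] [Fintype K] {G : Type v} [Group G]

/-- own-name copy of the statement of B2 (`relM_basic`): B1 `conj_phi` + `u3pb2_core`. -/
theorem u3po5_relM_basic (q : ℕ) (hq : 2 ≤ q) (hK : Fintype.card K = q) (bK : Kˣ)
    (hbK : ∀ y : Kˣ, y ∈ Subgroup.zpowers bK) (φ : SL2 K →* G) (u h w : G) (R : RelM q bK φ u h w) :
    (∀ (t : K) (i : ℤ), cj h (φ (xM t)) i = φ (xM (((bK ^ i : Kˣ) : K) * t))) ∧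
    (∀ g, ∃ g', h * φ g * h⁻¹ = φ g') ∧ (∀ g, ∃ g', h⁻¹ * φ g * h = φ g') ∧
    h ^ ((q + 1) * (q - 1)) = 1 ∧
    (∀ t : K, Commute (h ^ (q - 1)) (φ (xM t))) ∧
    w ^ 2 ∈ Subgroup.zpowers h ∧ (∀ s : Kˣ, φ (hM s) ∈ Subgroup.zpowers h) ∧
    ∀ i : ℤ, w⁻¹ * h ^ i * w = h ^ (-(q : ℤ) * i) := by
  obtain ⟨h1, h2, h3⟩ := u3pb2_hyps q bK φ u h w R
  obtain ⟨hc1, hc2⟩ := conj_phi bK hbK φ h h1 h2 h3
  exact u3pb2_core q hq hK bK hbK φ u h w R hc1 hc2

/-- M1 [S-M] -/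
theorem range_phi_le (q : ℕ) (bK : Kˣ) (hbK : ∀ y : Kˣ, y ∈ Subgroup.zpowers bK) (φ : SL2 K →* G)
    (u h w : G) (R : RelM q bK φ u h w) :
    ∀ g, φ g ∈ Subgroup.closure ({z0 q u h, h, w} : Set G) := by
  intro g
  have hg : g ∈ Subgroup.closure ({xM (1 : K), hM bK, wM} : Set (SL2 K)) := by
    rw [closure_M bK hbK]; exact Subgroup.mem_top g
  have hle : Subgroup.closure ({xM (1 : K), hM bK, wM} : Set (SL2 K)) ≤
      (Subgroup.closure ({z0 q u h, h, w} : Set G)).comap φ := by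
    rw [Subgroup.closure_le]
    rintro x (rfl | rfl | rfl)
    · rw [SetLike.mem_coe, Subgroup.mem_comap, R.phi_x]
      exact Subgroup.subset_closure (by simp)
    · rw [SetLike.mem_coe, Subgroup.mem_comap, R.phi_h]
      exact pow_mem (Subgroup.subset_closure (by simp)) _
    · rw [SetLike.mem_coe, Subgroup.mem_comap, R.phi_w]
      exact Subgroup.subset_closure (by simp)
  exact hle hg

/-- M4 [S-M] -/
theorem rank1_w (q : ℕ) (bK : Kˣ) (φ : SL2 K →* G) (u h w : G) (R : RelM q bK φ u h w) (t : Kˣ) :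
    w * φ (xM (t : K)) * w =
      φ (xM (-((t⁻¹ : Kˣ) : K))) * w * (w⁻¹ * φ (hM t⁻¹) * w * φ (xM (-((t⁻¹ : Kˣ) : K))) * w ^ 2) := by
  have h1 := congrArg φ (rank1_M (F := K) t)
  rw [map_mul, map_mul, map_inv, map_mul, map_mul, map_mul, R.phi_w] at h1
  have h2 : w * φ (xM (t : K)) * w = (w * φ (xM (t : K)) * w⁻¹) * w ^ 2 := by group
  rw [h2, h1]
  group

end M

section O

variable {K : Type u} [Field K] [Fintype K] {S : Type v} [Group S] [Finite S] {G : Type} [Group G]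
  {q : ℕ} {bK : Kˣ} {ρ : SL2 K →* S} {a b c : S} {US : Subgroup S} {C : ConstsO K} {π : G →* S}
  {φ : SL2 K →* G} {u h w : G}

/-- O5 [S-M] -/
theorem pi_phi (X : Ctx q bK ρ a b c US C π φ u h w) : ∀ g, π (φ g) = ρ g := by
  have hcl := closure_M bK X.hbK
  have heq : π.comp φ = ρ := by
    apply MonoidHom.eq_of_eqOn_dense hcl
    rintro x (rfl | rfl | rfl)
    · show π (φ (xM 1)) = ρ (xM 1)
      rw [X.relM.phi_x, u3po5_map_z0, X.hu, X.hh, X.relS.phi_x]
    · show π (φ (hM bK)) = ρ (hM bK)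
      rw [X.relM.phi_h, map_pow, X.hh, X.relS.phi_h]
    · show π (φ wM) = ρ wM
      rw [X.relM.phi_w, X.hw, X.relS.phi_w]
  intro g
  exact DFunLike.congr_fun heq g

/-- the image of `B̂`. -/
theorem u3po5_map_B (X : Ctx q bK ρ a b c US C π φ u h w) :
    (Subgroup.closure ({u, h} : Set G)).map π = Subgroup.closure ({a, b} : Set S) := by
  rw [MonoidHom.map_closure, Set.image_pair, X.hu, X.hh]

/-- O6 [S-M] -/
theorem pi_inj (X : Ctx q bK ρ a b c US C π φ u h w) :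
    (∀ x ∈ Subgroup.closure ({u, h} : Set G), ∀ y ∈ Subgroup.closure ({u, h} : Set G), π x = π y → x = y) ∧
    (∀ s ∈ Subgroup.closure ({a, b} : Set S), ∃ g ∈ Subgroup.closure ({u, h} : Set G), π g = s) ∧
    (∀ g ∈ Subgroup.closure ({u, h} : Set G), π g ∈ Subgroup.closure ({a, b} : Set S)) := by
  have hmap := u3po5_map_B X
  refine ⟨?_, ?_, ?_⟩
  · have := X.finB
    apply inj_of_card π (Subgroup.closure ({u, h} : Set G))
    rw [hmap]
    exact X.cardB.trans X.mod.card_B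
  · intro s hs
    rw [← hmap] at hs
    obtain ⟨g, hg, rfl⟩ := Subgroup.mem_map.mp hs
    exact ⟨g, hg, rfl⟩
  · intro g hg
    rw [← hmap]
    exact Subgroup.mem_map_of_mem π hg

end O

end Cfsg.Agent.Lib.Helper19.U3P
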