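import Mathlib
import Cfsg.Agent.Lib.Helper10.U3PO5

/-!
# Project U3P (S2289, designer helper19): rows O7 (`Uhat_basic`), O8 (`cell_BU`), VERBATIM (helper10).
-/

set_option autoImplicit false

namespace Cfsg.Agent.Lib.Helper19.U3P

open Cfsg.Agent.Lib.helper17.SLP Cfsg.Agent.Lib.helper14.SU3J Cfsg.Agent.Lib.Helper25.SU3P
open Cfsg.Agent.Lib.helper3.SP4
open Polynomial Matrix

universe u v

section O

variable {K : Type u} [Field K] [Fintype K] {S : Type v} [Group S] [Finite S] {G : Type} [Group G]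
  {q : ℕ} {bK : Kˣ} {ρ : SL2 K →* S} {a b c : S} {US : Subgroup S} {C : ConstsO K} {π : G →* S}
  {φ : SL2 K →* G} {u h w : G}

theorem u3po7_u_mem : u ∈ Subgroup.closure ({u, h} : Set G) := Subgroup.subset_closure (by simp)

theorem u3po7_h_mem : h ∈ Subgroup.closure ({u, h} : Set G) := Subgroup.subset_closure (by simp)

/-- O7 [M] -/
theorem Uhat_basic (X : Ctx q bK ρ a b c US C π φ u h w) :
    (Uhat US π u h).Finite ∧ (Uhat US π u h).ncard = q ^ 3 ∧ (1 : G) ∈ Uhat US π u h ∧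
    (∀ x ∈ Uhat US π u h, ∀ y ∈ Uhat US π u h, x * y ∈ Uhat US π u h) ∧
    (∀ x ∈ Uhat US π u h, x⁻¹ ∈ Uhat US π u h) ∧
    (∀ g ∈ Subgroup.closure ({u, h} : Set G), ∃ x ∈ Uhat US π u h, ∃ i : ℤ, g = x * h ^ i) ∧
    ∀ t : K, φ (xM t) ∈ Uhat US π u h := by
  obtain ⟨hinj, hsurj, hmem⟩ := pi_inj X
  have hfinB := X.finB
  have hfin : (Uhat US π u h).Finite := by
    apply Set.Finite.subset (Set.toFinite (↑(Subgroup.closure ({u, h} : Set G)) : Set G))
    intro g hg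
    exact hg.1
  refine ⟨hfin, ?_, ?_, ?_, ?_, ?_, ?_⟩
  · -- the cardinality
    have himg : π '' (Uhat US π u h) = (US : Set S) := by
      ext s
      constructor
      · rintro ⟨g, hg, rfl⟩
        exact hg.2
      · intro hs
        obtain ⟨g, hg, rfl⟩ := hsurj s (X.mod.US_le hs)
        exact ⟨g, ⟨hg, hs⟩, rfl⟩
    have hinjOn : Set.InjOn π (Uhat US π u h) := by
      intro x hx y hy hxy
      exact hinj x hx.1 y hy.1 hxy
    rw [← hinjOn.ncard_image, himg]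
    have h1 : (US : Set S).ncard = Nat.card ↥US := (Nat.card_coe_set_eq (US : Set S)).symm
    rw [h1, X.mod.card_US]
  · exact ⟨one_mem _, by rw [map_one]; exact one_mem _⟩
  · intro x hx y hy
    exact ⟨mul_mem hx.1 hy.1, by rw [map_mul]; exact mul_mem hx.2 hy.2⟩
  · intro x hx
    exact ⟨inv_mem hx.1, by rw [map_inv]; exact inv_mem hx.2⟩
  · intro g hg
    obtain ⟨xs, hxs, i, hi⟩ := X.mod.B_eq (π g) (hmem g hg)
    refine ⟨g * h ^ (-i), ⟨mul_mem hg (zpow_mem u3po7_h_mem _), ?_⟩, i, ?_⟩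
    · rw [map_mul, map_zpow, X.hh, hi, mul_assoc, ← _root_.zpow_add, add_neg_cancel, zpow_zero, mul_one]
      exact hxs
    · rw [mul_assoc, ← _root_.zpow_add, neg_add_cancel, zpow_zero, mul_one]
  · intro t
    exact ⟨X.ZB t, by rw [pi_phi X]; exact X.mod.Z_le t⟩

/-- O8 [S-M] -/
theorem cell_BU (X : Ctx q bK ρ a b c US C π φ u h w) :
    ∀ b' ∈ Subgroup.closure ({u, h} : Set G), ∀ x ∈ Uhat US π u h,
      ∃ x' ∈ Uhat US π u h, ∃ b'' ∈ Subgroup.closure ({u, h} : Set G), b' * x * w = x' * w * b'' := by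
  intro b' hb' x hx
  obtain ⟨-, -, -, -, -, hdec, -⟩ := Uhat_basic X
  obtain ⟨-, -, -, -, -, -, -, h8⟩ := u3po5_relM_basic q X.hq X.hK bK X.hbK φ u h w X.relM
  obtain ⟨x', hx', i, hi⟩ := hdec (b' * x) (mul_mem hb' hx.1)
  refine ⟨x', hx', h ^ (-(q : ℤ) * i), zpow_mem u3po7_h_mem _, ?_⟩
  rw [hi, ← h8 i]
  group

end O

end Cfsg.Agent.Lib.Helper19.U3P
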