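import Mathlib
import Cfsg.Agent.Lib.Helper10.U3PO7

/-!
# Project U3P (S2289, designer helper19): rows O9 (`rank_Z`), O10 (`T_sub_O`), O11 (`T_card`),
VERBATIM (helper10).
-/

set_option autoImplicit false

namespace Cfsg.Agent.Lib.Helper19.U3P

open Cfsg.Agent.Lib.helper17.SLP Cfsg.Agent.Lib.helper14.SU3J Cfsg.Agent.Lib.Helper25.SU3P
open Cfsg.Agent.Lib.helper3.SP4
open Polynomial Matrix

universe u v

/-- `ev u h 1 r` is a word in `u`, `h`. -/
theorem u3po9_ev_mem {G : Type u} [Group G] (u h : G) (r : FreeGroup (Fin 3)) :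
    ev u h 1 r ∈ Subgroup.closure ({u, h} : Set G) := by
  have hle : (ev u h 1).range ≤ Subgroup.closure ({u, h} : Set G) := by
    unfold ev
    rw [FreeGroup.range_lift_eq_closure, Subgroup.closure_le]
    rintro x ⟨i, rfl⟩
    fin_cases i
    · exact Subgroup.subset_closure (by simp)
    · exact Subgroup.subset_closure (by simp)
    · exact one_mem _
  exact hle ⟨r, rfl⟩

section O

variable {K : Type u} [Field K] [Fintype K] {S : Type v} [Group S] [Finite S] {G : Type} [Group G]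
  {q : ℕ} {bK : Kˣ} {ρ : SL2 K →* S} {a b c : S} {US : Subgroup S} {C : ConstsO K} {π : G →* S}
  {φ : SL2 K →* G} {u h w : G}

/-- an element of `Û` over `ρ (xM t)` is `φ (xM t)`. -/
theorem u3po9_eq_phi (X : Ctx q bK ρ a b c US C π φ u h w) (x : G) (hx : x ∈ Uhat US π u h) (t : K)
    (ht : π x = ρ (xM t)) : x = φ (xM t) := by
  obtain ⟨hinj, -, -⟩ := pi_inj X
  apply hinj x hx.1 _ (X.ZB t)
  rw [ht, pi_phi X]

/-- O9 [M] -/
theorem rank_Z (X : Ctx q bK ρ a b c US C π φ u h w) :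
    ∀ x ∈ Uhat US π u h, x ≠ 1 → (∃ t : K, π x = ρ (xM t)) →
      ∃ x' ∈ Uhat US π u h, ∃ b' ∈ Subgroup.closure ({u, h} : Set G), w * x * w = x' * w * b' := by
  rintro x hx hx1 ⟨t, ht⟩
  obtain ⟨-, -, -, -, -, -, hZ⟩ := Uhat_basic X
  obtain ⟨-, -, -, -, -, h6, h7, h8⟩ := u3po5_relM_basic q X.hq X.hK bK X.hbK φ u h w X.relM
  have hxt := u3po9_eq_phi X x hx t ht
  have ht0 : t ≠ 0 := by
    rintro rfl
    apply hx1
    rw [hxt, xM_zero, map_one]
  set tu : Kˣ := Units.mk0 t ht0 with htu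
  have hxt' : x = φ (xM ((tu : Kˣ) : K)) := by rw [hxt, htu, Units.val_mk0]
  have hzp : Subgroup.zpowers h ≤ Subgroup.closure ({u, h} : Set G) := by
    rw [Subgroup.zpowers_le]
    exact u3po7_h_mem
  refine ⟨φ (xM (-((tu⁻¹ : Kˣ) : K))), hZ _,
    w⁻¹ * φ (hM tu⁻¹) * w * φ (xM (-((tu⁻¹ : Kˣ) : K))) * w ^ 2, ?_, ?_⟩
  · refine mul_mem (mul_mem ?_ (X.ZB _)) (hzp h6)
    obtain ⟨i, hi⟩ := Subgroup.mem_zpowers_iff.mp (h7 tu⁻¹)
    rw [← hi, h8 i]
    exact zpow_mem u3po7_h_mem _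
  · rw [hxt']
    exact rank1_w q bK φ u h w X.relM tu

/-- O10 [M] -/
theorem T_sub_O (X : Ctx q bK ρ a b c US C π φ u h w) :
    {y : G ⧸ Subgroup.closure ({u, h} : Set G) | ∃ x ∈ Uhat US π u h, (∀ t : K, π x ≠ ρ (xM t)) ∧
        y = QuotientGroup.mk (x * w)} ⊆
      {y | ∃ m ∈ Subgroup.closure ({z0 q u h, h, w} : Set G), y = QuotientGroup.mk (m * (u * w))} := by
  rintro y ⟨x, hx, hxZ, rfl⟩
  obtain ⟨hinj, -, -⟩ := pi_inj X
  obtain ⟨-, -, -, -, -, -, -, h8⟩ := u3po5_relM_basic q X.hq X.hK bK X.hbK φ u h w X.relM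
  obtain ⟨t, i, yS, hyS, hxy⟩ := X.mod.reps (π x) hx.2 hxZ
  have hM := range_phi_le q bK X.hbK φ u h w X.relM
  have hhM : h ∈ Subgroup.closure ({z0 q u h, h, w} : Set G) := Subgroup.subset_closure (by simp)
  -- the common part
  have key : ∀ (y' : G), y' ∈ Subgroup.closure ({u, h} : Set G) → π y' = yS →
      ∀ (g : SL2 K) (β : G), β ∈ Subgroup.closure ({u, h} : Set G) → φ g * u * w = y' * w * β →
      ∃ m ∈ Subgroup.closure ({z0 q u h, h, w} : Set G),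
        (QuotientGroup.mk (x * w) : G ⧸ Subgroup.closure ({u, h} : Set G)) =
          QuotientGroup.mk (m * (u * w)) := by
    intro y' hy' hπy' g β hβ hrel
    have hx' : x = φ (xM t) * h ^ i * y' * h ^ (-i) := by
      apply hinj x hx.1 _ (mul_mem (mul_mem (mul_mem (X.ZB t) (zpow_mem u3po7_h_mem _)) hy')
        (zpow_mem u3po7_h_mem _))
      rw [hxy, map_mul, map_mul, map_mul, map_zpow, map_zpow, X.hh, pi_phi X, hπy']
    refine ⟨φ (xM t) * h ^ i * φ g, mul_mem (mul_mem (hM _) (zpow_mem hhM _)) (hM _), ?_⟩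
    rw [QuotientGroup.eq]
    have h8' := h8 (-i)
    have e : (x * w)⁻¹ * (φ (xM t) * h ^ i * φ g * (u * w)) = (h ^ (-(q : ℤ) * -i))⁻¹ * β := by
      have e1 : φ (xM t) * h ^ i * φ g * (u * w) = φ (xM t) * h ^ i * (φ g * u * w) := by group
      rw [e1, hrel, hx', ← h8']
      group
    rw [e]
    exact mul_mem (inv_mem (zpow_mem u3po7_h_mem _)) hβ
  rcases hyS with rfl | rfl | rfl
  · exact key u u3po7_u_mem X.hu 1 1 (one_mem _) (by rw [map_one]; group)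
  · refine key (ev u h 1 C.wu1) (u3po9_ev_mem u h _) ?_ C.g1 (ev u h 1 C.wb1) (u3po9_ev_mem u h _)
      X.relO.o1
    rw [ev_map, X.hu, X.hh, map_one]
  · refine key (ev u h 1 C.wu2) (u3po9_ev_mem u h _) ?_ C.g2 (ev u h 1 C.wb2) (u3po9_ev_mem u h _)
      X.relO.o2
    rw [ev_map, X.hu, X.hh, map_one]

/-- O11 [M] -/
theorem T_card (X : Ctx q bK ρ a b c US C π φ u h w) :
    q ^ 3 - q ≤ Set.ncard {y : G ⧸ Subgroup.closure ({u, h} : Set G) | ∃ x ∈ Uhat US π u h,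
      (∀ t : K, π x ≠ ρ (xM t)) ∧ y = QuotientGroup.mk (x * w)} := by
  classical
  obtain ⟨hinj, -, hmem⟩ := pi_inj X
  obtain ⟨hfin, hcard, -, hmul, hinv, -, hZ⟩ := Uhat_basic X
  set U' : Set G := {x | x ∈ Uhat US π u h ∧ ∀ t : K, π x ≠ ρ (xM t)} with hU'
  set f : G → G ⧸ Subgroup.closure ({u, h} : Set G) := fun x => QuotientGroup.mk (x * w) with hf
  have hT : {y : G ⧸ Subgroup.closure ({u, h} : Set G) | ∃ x ∈ Uhat US π u h,
      (∀ t : K, π x ≠ ρ (xM t)) ∧ y = QuotientGroup.mk (x * w)} = f '' U' := by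
    ext y
    constructor
    · rintro ⟨x, hx, hxZ, rfl⟩
      exact ⟨x, ⟨hx, hxZ⟩, rfl⟩
    · rintro ⟨x, ⟨hx, hxZ⟩, rfl⟩
      exact ⟨x, hx, hxZ, rfl⟩
  rw [hT]
  have hfinj : Set.InjOn f U' := by
    rintro x ⟨hx, -⟩ x' ⟨hx', -⟩ hxx
    have h1 : (x * w)⁻¹ * (x' * w) ∈ Subgroup.closure ({u, h} : Set G) := QuotientGroup.eq.mp hxx
    have h2 := hmem _ h1
    have h3 : π ((x * w)⁻¹ * (x' * w)) = c⁻¹ * π (x⁻¹ * x') * c := by
      simp only [map_mul, map_inv, X.hw, _root_.mul_inv_rev]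
      group
    rw [h3] at h2
    have h4 : x⁻¹ * x' ∈ Uhat US π u h := hmul _ (hinv x hx) _ hx'
    have h5 := X.mod.bruhat _ h4.2 h2
    apply hinj x hx.1 x' hx'.1
    rw [map_mul, map_inv, inv_mul_eq_one] at h5
    exact h5
  rw [hfinj.ncard_image]
  -- count
  set Z' : Set G := Set.range (fun t : K => φ (xM t)) with hZ'
  have hsub : Uhat US π u h ⊆ U' ∪ Z' := by
    intro x hx
    by_cases hxZ : ∀ t : K, π x ≠ ρ (xM t)
    · exact Or.inl ⟨hx, hxZ⟩
    · push Not at hxZ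
      obtain ⟨t, ht⟩ := hxZ
      exact Or.inr ⟨t, (u3po9_eq_phi X x hx t ht).symm⟩
  have hU'fin : U'.Finite := hfin.subset (fun x hx => hx.1)
  have hZ'fin : Z'.Finite := Set.finite_range _
  have hZ'card : Z'.ncard ≤ q := by
    have := Set.ncard_image_le (f := fun t : K => φ (xM t)) (Set.finite_univ (α := K))
    rw [Set.image_univ, Set.ncard_univ, Nat.card_eq_fintype_card, X.hK] at this
    exact this
  have h1 : (Uhat US π u h).ncard ≤ (U' ∪ Z').ncard :=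
    Set.ncard_le_ncard hsub (hU'fin.union hZ'fin)
  have h2 := Set.ncard_union_le U' Z'
  rw [hcard] at h1
  omega

end O

end Cfsg.Agent.Lib.Helper19.U3P
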