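import Mathlib
import Cfsg.Agent.Lib.Helper10.U3PO9

/-!
# Project U3P (S2289, designer helper19): rows O12 (`rank_U`), O13 (`cells_main`), VERBATIM (helper10).
-/

set_option autoImplicit false

namespace Cfsg.Agent.Lib.Helper19.U3P

open Cfsg.Agent.Lib.helper17.SLP Cfsg.Agent.Lib.helper14.SU3J Cfsg.Agent.Lib.Helper25.SU3P
open Cfsg.Agent.Lib.helper3.SP4
open Polynomial Matrix

universe u v

section O

variable {K : Type u} [Field K] [Fintype K] {S : Type v} [Group S] [Finite S] {G : Type} [Group G]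
  {q : ℕ} {bK : Kˣ} {ρ : SL2 K →* S} {a b c : S} {US : Subgroup S} {C : ConstsO K} {π : G →* S}
  {φ : SL2 K →* G} {u h w : G}

/-- the two sets of cosets coincide. -/
theorem u3po12_T_eq_O (X : Ctx q bK ρ a b c US C π φ u h w) :
    {y : G ⧸ Subgroup.closure ({u, h} : Set G) | ∃ x ∈ Uhat US π u h, (∀ t : K, π x ≠ ρ (xM t)) ∧
        y = QuotientGroup.mk (x * w)} =
      {y | ∃ m ∈ Subgroup.closure ({z0 q u h, h, w} : Set G), y = QuotientGroup.mk (m * (u * w))} := by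
  have hfinM := X.finM
  have hM := range_phi_le q bK X.hbK φ u h w X.relM
  have hhM : h ∈ Subgroup.closure ({z0 q u h, h, w} : Set G) := Subgroup.subset_closure (by simp)
  have hcM : φ C.gc * h ∈ Subgroup.closure ({z0 q u h, h, w} : Set G) := mul_mem (hM _) hhM
  have hfix : (u * w)⁻¹ * (φ C.gc * h) * (u * w) ∈ Subgroup.closure ({u, h} : Set G) := by
    have e : (u * w)⁻¹ * (φ C.gc * h) * (u * w) = ev u h 1 C.wbc := by
      have e1 : (u * w)⁻¹ * (φ C.gc * h) * (u * w) = (u * w)⁻¹ * (φ C.gc * h * u * w) := by group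
      rw [e1, X.relO.o4]
      group
    rw [e]
    exact u3po9_ev_mem u h _
  have hord : q + 1 ≤ orderOf (φ C.gc * h) := by
    have h1 : orderOf (π (φ C.gc * h)) ∣ orderOf (φ C.gc * h) := orderOf_map_dvd π _
    have h2 : π (φ C.gc * h) = ρ C.gc * b := by rw [map_mul, pi_phi X, X.hh]
    rw [h2] at h1
    have h3 : 0 < orderOf (φ C.gc * h) := by
      have h4 : orderOf (⟨φ C.gc * h, hcM⟩ : ↥(Subgroup.closure ({z0 q u h, h, w} : Set G))) =
          orderOf (φ C.gc * h) := Subgroup.orderOf_mk _ hcM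
      rw [← h4]
      exact orderOf_pos _
    exact X.mod.ord_c.trans (Nat.le_of_dvd h3 h1)
  apply orbit_eq (Subgroup.closure ({u, h} : Set G)) (Subgroup.closure ({z0 q u h, h, w} : Set G))
    (u * w) (φ C.gc * h) hcM hfix (q + 1) (Nat.succ_pos q) hord _ (T_sub_O X)
  refine X.cardM.trans ?_
  have h1 := T_card X
  have h2 : q * (q ^ 2 - 1) * (q + 1) = (q + 1) * (q ^ 3 - q) := by
    rw [Nat.mul_sub, mul_one, mul_comm]
    congr 2
    ring
  rw [h2]
  exact Nat.mul_le_mul_left _ h1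

/-- O12 [M] -/
theorem rank_U (X : Ctx q bK ρ a b c US C π φ u h w) :
    ∀ x ∈ Uhat US π u h, (∀ t : K, π x ≠ ρ (xM t)) →
      ∃ x' ∈ Uhat US π u h, ∃ b' ∈ Subgroup.closure ({u, h} : Set G), w * x * w = x' * w * b' := by
  intro x hx hxZ
  have hTO := u3po12_T_eq_O X
  have hwM : w ∈ Subgroup.closure ({z0 q u h, h, w} : Set G) := Subgroup.subset_closure (by simp)
  -- `mk (x w)` lies in `O`
  have h1 : (QuotientGroup.mk (x * w) : G ⧸ Subgroup.closure ({u, h} : Set G)) ∈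
      {y | ∃ m ∈ Subgroup.closure ({z0 q u h, h, w} : Set G), y = QuotientGroup.mk (m * (u * w))} := by
    rw [← hTO]
    exact ⟨x, hx, hxZ, rfl⟩
  obtain ⟨m, hm, hxm⟩ := h1
  -- `mk (w m (u w))` lies in `T`
  have h2 : (QuotientGroup.mk (w * m * (u * w)) : G ⧸ Subgroup.closure ({u, h} : Set G)) ∈
      {y : G ⧸ Subgroup.closure ({u, h} : Set G) | ∃ x ∈ Uhat US π u h, (∀ t : K, π x ≠ ρ (xM t)) ∧
        y = QuotientGroup.mk (x * w)} := by
    rw [hTO]
    exact ⟨w * m, mul_mem hwM hm, rfl⟩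
  obtain ⟨x', hx', -, hx'm⟩ := h2
  have h3 : (x * w)⁻¹ * (m * (u * w)) ∈ Subgroup.closure ({u, h} : Set G) := QuotientGroup.eq.mp hxm
  have h4 : (x' * w)⁻¹ * (w * m * (u * w)) ∈ Subgroup.closure ({u, h} : Set G) :=
    QuotientGroup.eq.mp hx'm.symm
  refine ⟨x', hx', (x' * w)⁻¹ * (w * m * (u * w)) * ((x * w)⁻¹ * (m * (u * w)))⁻¹,
    mul_mem h4 (inv_mem h3), ?_⟩
  group

/-- O13 [M] -/
theorem cells_main (X : Ctx q bK ρ a b c US C π φ u h w) :
    Finite G ∧ Nat.card G ≤ q ^ 3 * (q ^ 2 - 1) * (q ^ 3 + 1) := by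
  obtain ⟨hfin, hcard, h1, -, -, -, -⟩ := Uhat_basic X
  obtain ⟨-, -, -, -, -, h6, -, -⟩ := u3po5_relM_basic q X.hq X.hK bK X.hbK φ u h w X.relM
  have hfinB := X.finB
  have hzp : Subgroup.zpowers h ≤ Subgroup.closure ({u, h} : Set G) := by
    rw [Subgroup.zpowers_le]
    exact u3po7_h_mem
  have hw2 : w * w ∈ Subgroup.closure ({u, h} : Set G) := by
    rw [← pow_two]
    exact hzp h6
  have hR : ∀ x ∈ Uhat US π u h, x ≠ 1 →
      ∃ x' ∈ Uhat US π u h, ∃ b' ∈ Subgroup.closure ({u, h} : Set G), w * x * w = x' * w * b' := by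
    intro x hx hx1
    by_cases hxZ : ∃ t : K, π x = ρ (xM t)
    · exact rank_Z X x hx hx1 hxZ
    · push Not at hxZ
      exact rank_U X x hx hxZ
  have hgen : Subgroup.closure ((↑(Subgroup.closure ({u, h} : Set G)) : Set G) ∪ {w}) = ⊤ := by
    rw [eq_top_iff, ← X.hgen, Subgroup.closure_le]
    rintro x (rfl | rfl | rfl)
    · exact Subgroup.subset_closure (Or.inl u3po7_u_mem)
    · exact Subgroup.subset_closure (Or.inl u3po7_h_mem)
    · exact Subgroup.subset_closure (Or.inr rfl)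
  have hall := cells_top (Subgroup.closure ({u, h} : Set G)) (Uhat US π u h) w h1 (cell_BU X) hw2 hR hgen
  obtain ⟨hF, hc⟩ := cells_card_le (Subgroup.closure ({u, h} : Set G)) (Uhat US π u h) hfin w hall
  refine ⟨hF, hc.trans ?_⟩
  rw [hcard, add_comm 1 (q ^ 3)]
  exact Nat.mul_le_mul_right _ X.cardB

end O

end Cfsg.Agent.Lib.Helper19.U3P
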