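import Mathlib
import Cfsg.Agent.Lib.Helper18.PRL.Defs
import Cfsg.Agent.Lib.helper4.UE.Defs

/-!
# Project UE (S3806), piece CNT : a `p`-group is not the union of at most `p` proper subgroups
-/

set_option autoImplicit false

namespace Cfsg.Agent.Lib.helper4.UE

open Cfsg.Agent.Lib.Helper18.PRL
open scoped commutatorElement

/-- UE-CNT: a `p`-group is not the union of at most `p` proper subgroups. -/
theorem exists_notMem_of_card_le {p : ℕ} [Fact p.Prime] {P : Type*} [Group P] [Finite P]
    (hP : IsPGroup p P) (T : Finset (Subgroup P)) (hT : T.card ≤ p) (hne : ∀ H ∈ T, H ≠ ⊤) :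
    ∃ s : P, ∀ H ∈ T, s ∉ H := by
  classical
  by_contra hcon
  push Not at hcon
  have hp := (Fact.out : p.Prime)
  obtain ⟨n, hn⟩ := IsPGroup.iff_card.mp hP
  have hsmall : ∀ H ∈ T, p * Nat.card H ≤ Nat.card P := by
    intro H hH
    have hdvd : Nat.card H ∣ p ^ n := hn ▸ Subgroup.card_subgroup_dvd_card H
    obtain ⟨m, hm, hHm⟩ := (Nat.dvd_prime_pow hp).mp hdvd
    have hmn : m ≠ n := by
      rintro rfl
      exact hne H hH (Subgroup.eq_top_of_card_eq H (hHm.trans hn.symm))
    rw [hHm, hn, ← pow_succ']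
    exact Nat.pow_le_pow_right hp.pos (by omega)
  have := Fintype.ofFinite P
  have hcover : (Finset.univ.erase (1 : P)) ⊆
      T.biUnion (fun H => (Finset.univ.filter (· ∈ H)).erase 1) := by
    intro s hs
    obtain ⟨H, hH, hsH⟩ := hcon s
    rw [Finset.mem_biUnion]
    exact ⟨H, hH, Finset.mem_erase.mpr ⟨(Finset.mem_erase.mp hs).1, by simp [hsH]⟩⟩
  have hcard := (Finset.card_le_card hcover).trans Finset.card_biUnion_le
  have heach : ∀ H ∈ T, ((Finset.univ.filter (· ∈ H)).erase (1 : P)).card = Nat.card H - 1 := by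
    intro H _
    rw [Finset.card_erase_of_mem (by simp [H.one_mem])]
    congr 1
    rw [Nat.card_eq_fintype_card, Fintype.card_subtype]
  rw [Finset.sum_congr rfl heach, Finset.card_erase_of_mem (Finset.mem_univ _),
    Finset.card_univ, ← Nat.card_eq_fintype_card] at hcard
  -- the group is covered, so `T` is nonempty
  obtain ⟨H₀, hH₀, -⟩ := hcon 1
  have hqp : p ≤ Nat.card P := by
    have := hsmall H₀ hH₀
    have h1 : 1 ≤ Nat.card H₀ := Nat.card_pos
    nlinarith
  have hsum : p * ∑ H ∈ T, (Nat.card H - 1) ≤ p * (Nat.card P - p) := by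
    rw [Finset.mul_sum]
    calc ∑ H ∈ T, p * (Nat.card H - 1) ≤ ∑ _H ∈ T, (Nat.card P - p) := by
          apply Finset.sum_le_sum
          intro H hH
          have := hsmall H hH
          rw [Nat.mul_sub, mul_one]
          omega
      _ = T.card * (Nat.card P - p) := by rw [Finset.sum_const, smul_eq_mul]
      _ ≤ p * (Nat.card P - p) := Nat.mul_le_mul_right _ hT
  have hsum' := Nat.le_of_mul_le_mul_left hsum hp.pos
  have := hp.two_le
  omega

end Cfsg.Agent.Lib.helper4.UE
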