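import Mathlib
import Cfsg.Agent.Lib.Helper18.PRL.Defs
import Cfsg.Agent.Lib.helper4.UE.Defs

/-!
# Project UE (S3806), piece Q : two-step centralizers of `G / Z(G)`
-/

set_option autoImplicit false

namespace Cfsg.Agent.Lib.helper4.UE

open Cfsg.Agent.Lib.Helper18.PRL
open scoped commutatorElement

/-- membership in the upper central series of `G / Z(G)` -/
theorem ueq_mem_iff {G : Type*} [Group G] (i : ℕ) (y : G) :
    QuotientGroup.mk' (Subgroup.center G) y ∈ Z (G ⧸ Subgroup.center G) i ↔ y ∈ Z G (i + 1) := by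
  have h := Subgroup.comap_upperCentralSeries_quotient_center (G := G) i
  rw [← Subgroup.mem_comap]
  unfold Z
  rw [h]

/-- UE-Q (any group): two-step centralizers of `G / Z(G)`. -/
theorem ts_quotient {G : Type*} [Group G] (j : ℕ) (hj : 2 ≤ j) (x : G) :
    TS (G ⧸ Subgroup.center G) j (QuotientGroup.mk' (Subgroup.center G) x) ↔ TS G (j + 1) x := by
  have hidx : j + 1 - 2 = j - 2 + 1 := by omega
  constructor
  · intro h y hy
    have h1 := h (QuotientGroup.mk' (Subgroup.center G) y) ((ueq_mem_iff j y).mpr hy)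
    rw [← map_commutatorElement, ueq_mem_iff] at h1
    rw [hidx]
    exact h1
  · intro h ybar hybar
    obtain ⟨y, rfl⟩ := QuotientGroup.mk'_surjective (Subgroup.center G) ybar
    have hy := (ueq_mem_iff j y).mp hybar
    have h1 := h y hy
    rw [hidx, ← ueq_mem_iff, map_commutatorElement] at h1
    exact h1

end Cfsg.Agent.Lib.helper4.UE
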