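import Mathlib
import Cfsg.Prelude.Def_CaseTheorems
import Cfsg.Agent.Lib.Helper18.PRL.Defs
import Cfsg.Agent.Lib.helper4.UE.Defs

/-!
# Project UE (S3806), piece SECT : an elementary abelian section `H / N` has order at most `p ^ k`
-/

set_option autoImplicit false

namespace Cfsg.Agent.Lib.helper4.UE

open Cfsg.Agent.Lib.Helper18.PRL
open scoped commutatorElement

/-- UE-SECT: a section `H / N` that is elementary abelian has order at most `p ^ k`. -/
theorem card_le_of_sectional {p k : ℕ} {G : Type*} [Group G] [Finite G]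
    (hsr : Cfsg.SectionalPRankLE p k G) (H N : Subgroup G) [N.Normal] (hNH : N ≤ H)
    (hab : ∀ a ∈ H, ∀ b ∈ H, ⁅a, b⁆ ∈ N) (hexp : ∀ a ∈ H, a ^ p ∈ N) :
    Nat.card H ≤ p ^ k * Nat.card N := by
  have hnorm : (N.subgroupOf H).Normal := inferInstance
  have hP := hsr H (N.subgroupOf H)
  have hcomm : IsMulCommutative (⊤ : Subgroup (H ⧸ N.subgroupOf H)) := by
    refine ⟨⟨fun a b => ?_⟩⟩
    apply Subtype.ext
    obtain ⟨a, -⟩ := a
    obtain ⟨b, -⟩ := b
    show a * b = b * a
    induction a using QuotientGroup.induction_on with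
    | H a =>
      induction b using QuotientGroup.induction_on with
      | H b =>
        rw [← QuotientGroup.mk_mul, ← QuotientGroup.mk_mul, QuotientGroup.eq, Subgroup.mem_subgroupOf]
        have h1 := hab (b : G)⁻¹ (H.inv_mem b.2) (a : G)⁻¹ (H.inv_mem a.2)
        have e : ((((a * b)⁻¹ * (b * a) : H)) : G) = ⁅(b : G)⁻¹, (a : G)⁻¹⁆ := by
          simp only [commutatorElement_def, Subgroup.coe_mul, Subgroup.coe_inv]
          group
        rw [e]
        exact h1
  have hexp' : ∀ a ∈ (⊤ : Subgroup (H ⧸ N.subgroupOf H)), a ^ p = 1 := by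
    intro a _
    induction a using QuotientGroup.induction_on with
    | H a =>
      rw [← QuotientGroup.mk_pow, QuotientGroup.eq_one_iff, Subgroup.mem_subgroupOf]
      simpa using hexp (a : G) a.2
  have h1 := hP ⊤ hcomm hexp'
  rw [Subgroup.card_top] at h1
  have h2 : Nat.card (N.subgroupOf H) * (N.subgroupOf H).index = Nat.card H :=
    Subgroup.card_mul_index _
  have h3 : Nat.card (N.subgroupOf H) = Nat.card N :=
    Nat.card_congr (Subgroup.subgroupOfEquivOfLe hNH).toEquiv
  rw [← h2, h3, mul_comm]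
  exact Nat.mul_le_mul_right _ h1

end Cfsg.Agent.Lib.helper4.UE
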