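import Mathlib
import Cfsg.Prelude.Def_GeometricClasses
import Cfsg.Agent.Lib.Helper27.ASC.Defs
import Cfsg.Agent.Lib.Lead.ASCU.Defs
import Cfsg.Agent.Lib.helper2.UXDefs
import Cfsg.Agent.Lib.Helper19.ASU.Defs
import Cfsg.Agent.Lib.Helper19.ASUADJ
import Cfsg.Agent.Lib.Helper24.UXFLD62.Defs
import Cfsg.Agent.Lib.Helper28.UHerm
import Cfsg.Agent.S5643

set_option autoImplicit false
set_option linter.unusedVariables false
set_option linter.unusedSectionVars false

/-!
# Project UX, piece FLD62-TV (helper10): the unitary transvection with isotropic centre over `F_4`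
-/

namespace Cfsg.Agent.Lib.helper2.UX

open Cfsg Cfsg.Geo Cfsg.Agent.Lib.Helper27.ASC Cfsg.Agent.Lib.Lead.ASCU Cfsg.Agent.Lib.Helper19.ASU
open scoped MatrixGroups Matrix

variable {F : Type*} [Field F] [Fintype F]

/-- extra: a field with four elements has characteristic 2 -/
theorem uxfld62tv_two (hF : Fintype.card F = 4) : (2 : F) = 0 := by
  have hF2 : Fintype.card F = 2 ^ 2 := by rw [hF]; norm_num
  have : Fact (Nat.Prime 2) := ⟨Nat.prime_two⟩
  have : CharP F 2 := by
    obtain ⟨p, hp⟩ := CharP.exists F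
    have := hp
    have hpp : p.Prime := CharP.char_is_prime F p
    have : Fact p.Prime := ⟨hpp⟩
    obtain ⟨k, hk⟩ := FiniteField.card F p
    have hk2 := hk.2
    rw [hF] at hk2
    have h1 : p ∣ 4 := by
      rw [hk2]
      exact dvd_pow_self p (PNat.ne_zero k)
    have h2 : p ∣ 2 ^ 2 := by norm_num; exact h1
    have h3 : p = 2 := (Nat.prime_dvd_prime_iff_eq hpp Nat.prime_two).1 (hpp.dvd_of_dvd_pow h2)
    rw [← h3]
    exact hp
  exact CharTwo.two_eq_zero

/-- extra: the general version: any dimension, `q = 2` -/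
theorem uxfld62tv_gen {n : ℕ} (hF : Fintype.card F = 4) (v : Fin n → F) (hv : hermForm n F 2 v v = 0) :
    ∃ t : GL (Fin n) F, t ∈ SUg n F 2 ∧
      ∀ x, (t : Matrix (Fin n) (Fin n) F) *ᵥ x = x + hermForm n F 2 x v • v := by
  have hF2 : Fintype.card F = 2 ^ 2 := by rw [hF]; norm_num
  obtain ⟨σ, hσ, hf⟩ := Cfsg.Agent.Lib.Helper28.UHerm.herm_unitary hF2 n
  obtain ⟨t, htS, ht⟩ := Cfsg.Agent.S5643.tvGL hf v v hv
  have h2 := uxfld62tv_two hF
  have h11 : (1 : F) = -1 := by linear_combination h2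
  have htiso := Cfsg.Agent.S5643.utv_iso hf v hv 1 (by rw [map_one]; exact h11) t
    (by intro x; rw [one_smul]; exact ht x)
  exact ⟨t, ⟨(mem_GU_iff 2 t).2 htiso, htS⟩, ht⟩

/-- TV : the unitary transvection with isotropic centre `v` over `F_4` (`c = 1`). -/
theorem fld62_tv (hF : Fintype.card F = 4) (v : Fin 6 → F) (hv : hermForm 6 F 2 v v = 0) :
    ∃ t : GL (Fin 6) F, t ∈ SUg 6 F 2 ∧
      ∀ x, (t : Matrix (Fin 6) (Fin 6) F) *ᵥ x = x + hermForm 6 F 2 x v • v :=
  uxfld62tv_gen hF v hv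

end Cfsg.Agent.Lib.helper2.UX
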