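import Mathlib
import Cfsg.Prelude.Def_GeometricClasses
import Cfsg.Agent.Lib.Helper27.ASC.Defs
import Cfsg.Agent.Lib.Lead.ASCU.Defs
import Cfsg.Agent.Lib.helper2.UXDefs
import Cfsg.Agent.S0780
import Cfsg.Agent.S0781

/-!
# Project UX (helper2), piece PERF (helper10): `SU_n(q)` inside `GL_n(F)` is perfect

Bridge `Cfsg.SU n F q` (a subgroup of `Matrix.SpecialLinearGroup`) <-> `SUg n F q = GU ⊓ specialLinear` (a subgroup of `GL`):
`SUg` is the range of `toGL ∘ subtype`; S0780 (generation by unitary transvections) + S0781 (each is a commutator).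
-/

set_option autoImplicit false
set_option linter.unusedVariables false
set_option linter.unusedSectionVars false

namespace Cfsg.Agent.Lib.helper2.UX

open Cfsg Cfsg.Geo Cfsg.Agent.Lib.Helper27.ASC Cfsg.Agent.Lib.Lead.ASCU
open scoped MatrixGroups Matrix

variable {n : ℕ} {F : Type*} [Field F] [Fintype F]

omit [Fintype F] in
/-- membership in `Cfsg.SU` through `toGL` -/
theorem uxperf_mem_SU (q : ℕ) (A : Matrix.SpecialLinearGroup (Fin n) F) :
    A ∈ SU n F q ↔ Matrix.SpecialLinearGroup.toGL A ∈ GU n F q := Iff.rfl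

omit [Fintype F] in
/-- the bridge: `SUg` is the image of `Cfsg.SU` under `SL → GL` -/
theorem uxperf_range (q : ℕ) :
    ((Matrix.SpecialLinearGroup.toGL : Matrix.SpecialLinearGroup (Fin n) F →* GL (Fin n) F).comp
      (SU n F q).subtype).range = SUg n F q := by
  ext x
  rw [MonoidHom.mem_range]
  constructor
  · rintro ⟨A, rfl⟩
    refine Subgroup.mem_inf.mpr ⟨(uxperf_mem_SU q A.1).mp A.2, ?_⟩
    show _ ∈ (Matrix.GeneralLinearGroup.det : GL (Fin n) F →* Fˣ).ker
    rw [MonoidHom.mem_ker]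
    apply Units.ext
    simp
  · intro hx
    obtain ⟨hxU, hxS⟩ := Subgroup.mem_inf.mp hx
    have hxS' : x ∈ (Matrix.GeneralLinearGroup.det : GL (Fin n) F →* Fˣ).ker := hxS
    rw [MonoidHom.mem_ker] at hxS'
    have hdet : (x : Matrix (Fin n) (Fin n) F).det = 1 := by
      have := congrArg Units.val hxS'
      simpa using this
    let A : Matrix.SpecialLinearGroup (Fin n) F := ⟨(x : Matrix (Fin n) (Fin n) F), hdet⟩
    have hAx : Matrix.SpecialLinearGroup.toGL A = x := by
      apply Units.ext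
      rfl
    have hA : A ∈ SU n F q := by
      rw [uxperf_mem_SU, hAx]
      exact hxU
    exact ⟨⟨A, hA⟩, hAx⟩

/-- `Cfsg.SU n F q` is perfect -/
theorem uxperf_commutator (q : ℕ) (hF : Fintype.card F = q ^ 2) (hn : 3 ≤ n) (hex : ¬ (n = 3 ∧ q = 2)) :
    commutator ↥(SU n F q) = ⊤ := by
  have hq2 : 2 ≤ q := by
    by_contra hlt
    have h1 : q ^ 2 ≤ 1 := by
      have : q ≤ 1 := by omega
      calc q ^ 2 ≤ 1 ^ 2 := Nat.pow_le_pow_left this 2
        _ = 1 := one_pow 2
    have := Fintype.one_lt_card (α := F)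
    omega
  have hn' : 4 ≤ n ∨ (n = 3 ∧ 3 ≤ q) := by
    rcases Nat.lt_or_ge n 4 with h | h
    · right
      have h3 : n = 3 := by omega
      refine ⟨h3, ?_⟩
      by_contra hlt
      exact hex ⟨h3, by omega⟩
    · exact Or.inl h
  have hgen := Cfsg.Agent.S0780.result hF n hn hex
  rw [eq_top_iff, ← hgen, Subgroup.closure_le, commutator_eq_closure]
  rintro A ⟨v, c, hv0, hA⟩
  exact Subgroup.subset_closure (Cfsg.Agent.S0781.result hF n hn' A v c hv0 hA)

/-- PERF : `SU_n(q)`, `n ≥ 3`, `(n, q) ≠ (3, 2)`, is perfect. -/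
theorem su_perfect (q : ℕ) (hF : Fintype.card F = q ^ 2) (hn : 3 ≤ n) (hex : ¬ (n = 3 ∧ q = 2)) :
    ⁅SUg n F q, SUg n F q⁆ = SUg n F q := by
  have h1 := uxperf_commutator q hF hn hex
  rw [commutator_def] at h1
  have h2 := congrArg (Subgroup.map ((Matrix.SpecialLinearGroup.toGL :
    Matrix.SpecialLinearGroup (Fin n) F →* GL (Fin n) F).comp (SU n F q).subtype)) h1
  rw [Subgroup.map_commutator, ← MonoidHom.range_eq_map, uxperf_range] at h2
  exact h2

end Cfsg.Agent.Lib.helper2.UX
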