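import Mathlib
import Cfsg.Agent.Lib.Lead.W2P.Defs

/-!
# Project W2P (S0720) : small shared facts (helper10) about the action of `P` (of order `p`, fixed point free)
-/

set_option autoImplicit false
set_option linter.unusedVariables false
set_option linter.unusedSectionVars false
open scoped ComplexConjugate
open Classical

namespace Cfsg.Agent.Lib.Lead.W2P

open MulAction Cfsg.Agent.Lib.helper6.PermChar

universe u v

section common

variable {G : Type u} [Group G] [Fintype G] {Ω : Type v} [Fintype Ω] [DecidableEq Ω] [MulAction G Ω]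
  {p : ℕ} [Fact p.Prime] {P : Sylow p G}

theorem w2ph10_orbRel_symm (a b x y : Ω) (h : orbRel G a b x y) : orbRel G x y a b := by
  obtain ⟨g, h1, h2⟩ := h
  exact ⟨g⁻¹, by rw [← h1, inv_smul_smul], by rw [← h2, inv_smul_smul]⟩

theorem w2ph10_orbRel_trans (a b x y z w : Ω) (h : orbRel G a b x y) (h' : orbRel G x y z w) :
    orbRel G a b z w := by
  obtain ⟨g, h1, h2⟩ := h
  obtain ⟨k, h3, h4⟩ := h'
  exact ⟨k * g, by rw [mul_smul, h1, h3], by rw [mul_smul, h2, h4]⟩

/-- a non-trivial element of `P` has order `p` -/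
theorem w2ph10_orderOf_eq (hP : Nat.card (P : Subgroup G) = p) (x : G) (hx : x ∈ (P : Subgroup G))
    (hx1 : x ≠ 1) : orderOf x = p := by
  have h1 : orderOf (⟨x, hx⟩ : ↥(P : Subgroup G)) ∣ p := by
    have := orderOf_dvd_natCard (⟨x, hx⟩ : ↥(P : Subgroup G))
    rwa [hP] at this
  rw [Subgroup.orderOf_mk] at h1
  rcases (Nat.dvd_prime Fact.out).mp h1 with h | h
  · exact absurd (orderOf_eq_one_iff.mp h) hx1
  · exact h

/-- `P` acts freely -/
theorem w2ph10_free (S : Setting G Ω p P) (x : G) (hx : x ∈ (P : Subgroup G)) (ω : Ω)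
    (h : x • ω = ω) : x = 1 := by
  by_contra hx1
  exact S.fpf x (w2ph10_orderOf_eq S.cardP x hx hx1) ω h

/-- a non-trivial element of `P` generates `P` -/
theorem w2ph10_zpowers (hP : Nat.card (P : Subgroup G) = p) (x : G) (hx : x ∈ (P : Subgroup G))
    (hx1 : x ≠ 1) : Subgroup.zpowers x = (P : Subgroup G) := by
  have hle : Subgroup.zpowers x ≤ (P : Subgroup G) := by
    rw [Subgroup.zpowers_le]; exact hx
  apply Subgroup.eq_of_le_of_card_ge hle
  rw [Nat.card_zpowers, w2ph10_orderOf_eq hP x hx hx1, hP]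

/-- the `P`-orbits have `p` elements -/
theorem w2ph10_card_orbit (S : Setting G Ω p P) (ω : Ω) :
    Nat.card (orbit ↥(P : Subgroup G) ω) = p := by
  have h1 : Nat.card (orbit ↥(P : Subgroup G) ω) = Nat.card ↥(P : Subgroup G) := by
    apply Nat.card_congr
    symm
    refine Equiv.ofBijective (fun x : ↥(P : Subgroup G) => (⟨x • ω, mem_orbit _ _⟩ : orbit ↥(P : Subgroup G) ω))
      ⟨?_, ?_⟩
    · intro x y hxy
      have h2 : (x : G) • ω = (y : G) • ω := congrArg Subtype.val hxy
      have h3 : ((y : G)⁻¹ * (x : G)) • ω = ω := by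
        rw [mul_smul, h2, inv_smul_smul]
      have h4 := w2ph10_free S _ ((P : Subgroup G).mul_mem ((P : Subgroup G).inv_mem y.2) x.2) ω h3
      apply Subtype.ext
      rw [inv_mul_eq_one] at h4
      exact h4.symm
    · rintro ⟨z, x, rfl⟩
      exact ⟨x, rfl⟩
  rw [h1, S.cardP]

/-- there are exactly two `P`-orbits -/
theorem w2ph10_two_orbits (S : Setting G Ω p P) (a β : Ω) (hβ : β ∉ orbit ↥(P : Subgroup G) a) (ω : Ω) :
    ω ∈ orbit ↥(P : Subgroup G) a ∨ ω ∈ orbit ↥(P : Subgroup G) β := by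
  by_contra hcon
  push Not at hcon
  have hdisj : Disjoint (orbit ↥(P : Subgroup G) a) (orbit ↥(P : Subgroup G) β) := by
    rw [Set.disjoint_left]
    intro z hz1 hz2
    apply hβ
    rw [← orbit_eq_iff] at hz1 hz2 ⊢
    rw [← hz2, hz1]
  have h1 : (orbit ↥(P : Subgroup G) a ∪ orbit ↥(P : Subgroup G) β).ncard = 2 * p := by
    rw [Set.ncard_union_eq hdisj (Set.toFinite _) (Set.toFinite _), ← Nat.card_coe_set_eq,
      ← Nat.card_coe_set_eq, w2ph10_card_orbit S, w2ph10_card_orbit S]
    ring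
  have h2 : (orbit ↥(P : Subgroup G) a ∪ orbit ↥(P : Subgroup G) β) ⊂ Set.univ := by
    rw [Set.ssubset_univ_iff]
    intro h
    have : ω ∈ orbit ↥(P : Subgroup G) a ∪ orbit ↥(P : Subgroup G) β := h ▸ Set.mem_univ ω
    rcases this with h | h
    · exact hcon.1 h
    · exact hcon.2 h
  have h3 := Set.ncard_lt_ncard h2 (Set.toFinite _)
  rw [h1, Set.ncard_univ, Nat.card_eq_fintype_card, S.card] at h3
  exact lt_irrefl _ h3

/-- there is a point outside a given `P`-orbit -/
theorem w2ph10_exists_other (S : Setting G Ω p P) (ω : Ω) :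
    ∃ ω₂ : Ω, ω₂ ∉ orbit ↥(P : Subgroup G) ω := by
  by_contra hcon
  push Not at hcon
  have h1 : orbit ↥(P : Subgroup G) ω = Set.univ := Set.eq_univ_of_forall hcon
  have h2 := w2ph10_card_orbit S ω
  rw [h1, Nat.card_coe_set_eq, Set.ncard_univ, Nat.card_eq_fintype_card, S.card] at h2
  have := (Fact.out : p.Prime).pos
  omega

end common

end Cfsg.Agent.Lib.Lead.W2P
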