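import Mathlib
import Cfsg.Agent.Lib.Lead.W2P.Defs
import Cfsg.Agent.Lib.Helper1.W2PCEN
import Cfsg.Agent.Lib.Helper10.W2PCOMMON

/-!
# Project W2P (S0720) : piece ECARD (`card_E`), using CEN (`cen_facts`, helper1)
-/

set_option autoImplicit false
set_option linter.unusedVariables false
set_option linter.unusedSectionVars false
open scoped ComplexConjugate
open Classical

namespace Cfsg.Agent.Lib.Lead.W2P

open MulAction Cfsg.Agent.Lib.helper6.PermChar Cfsg.Agent.Lib.Helper25

universe u v

section E

variable {G : Type u} [Group G] [Fintype G] {Ω : Type v} [Fintype Ω] [DecidableEq Ω] [MulAction G Ω]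
  {p : ℕ} [Fact p.Prime] {P : Sylow p G}

/-- `|C_G(P)| * f = |N_G(P)|` -/
theorem w2pecard_NC (Q : Subgroup G) :
    Nat.card (Subgroup.centralizer (Q : Set G)) * fIdx Q =
      Nat.card (Subgroup.normalizer (Q : Set G)) := by
  unfold fIdx Subgroup.relIndex
  have hle : Subgroup.centralizer (Q : Set G) ≤ Subgroup.normalizer (Q : Set G) :=
    Subgroup.centralizer_le_normalizer _
  rw [← Subgroup.card_mul_index
    ((Subgroup.centralizer (Q : Set G)).subgroupOf (Subgroup.normalizer (Q : Set G)))]
  congr 1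
  exact (Nat.card_congr (Subgroup.subgroupOfEquivOfLe hle).toEquiv).symm

/-- orbit-stabilizer for a subgroup `N` of `G`, the stabilizer written as `G_a ⊓ N` -/
theorem w2pecard_orbstab (N : Subgroup G) (a : Ω) :
    Nat.card (orbit ↥N a) * Nat.card ↥(stabilizer G a ⊓ N) = Nat.card ↥N := by
  have e : ↥(stabilizer G a ⊓ N) ≃ ↥(stabilizer ↥N a) :=
    { toFun := fun g => ⟨⟨(g : G), g.2.2⟩, by
        rw [mem_stabilizer_iff]
        exact mem_stabilizer_iff.mp g.2.1⟩
      invFun := fun s => ⟨((s : ↥N) : G), ⟨by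
        show ((s : ↥N) : G) ∈ stabilizer G a
        rw [mem_stabilizer_iff]
        exact mem_stabilizer_iff.mp s.2, (s : ↥N).2⟩⟩
      left_inv := fun g => rfl
      right_inv := fun s => rfl }
  rw [Nat.card_congr e, Nat.card_coe_set_eq, ← MulAction.index_stabilizer]
  exact Subgroup.index_mul_card _

/-- ECARD : the order of `E = N_G(P) ∩ G_a` -/
theorem card_E (S : Setting G Ω p P) (a : Ω) :
    Nat.card ↥(stabilizer G a ⊓ Subgroup.normalizer ((P : Subgroup G) : Set G)) = fIdx (P : Subgroup G) ∨
    2 * Nat.card ↥(stabilizer G a ⊓ Subgroup.normalizer ((P : Subgroup G) : Set G)) =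
      fIdx (P : Subgroup G) := by
  have hp : p.Prime := Fact.out
  have hos := w2pecard_orbstab (Subgroup.normalizer ((P : Subgroup G) : Set G)) a
  have hNC := w2pecard_NC (P : Subgroup G)
  have hpE : ¬ p ∣ Nat.card ↥(stabilizer G a ⊓ Subgroup.normalizer ((P : Subgroup G) : Set G)) := by
    intro hdvd
    obtain ⟨g, hg⟩ := exists_prime_orderOf_dvd_card' p hdvd
    have h1 : orderOf (g : G) = p := by rw [Subgroup.orderOf_coe]; exact hg
    exact S.fpf (g : G) h1 a (mem_stabilizer_iff.mp g.2.1)
  have hPN : (P : Subgroup G) ≤ Subgroup.normalizer ((P : Subgroup G) : Set G) :=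
    Subgroup.le_normalizer
  have hpN : p ∣ Nat.card ↥(Subgroup.normalizer ((P : Subgroup G) : Set G)) := by
    have := Subgroup.card_dvd_of_le hPN
    rwa [S.cardP] at this
  have hporb : p ∣ Nat.card (orbit ↥(Subgroup.normalizer ((P : Subgroup G) : Set G)) a) := by
    rw [← hos] at hpN
    exact (hp.dvd_mul.mp hpN).resolve_right hpE
  have hle : Nat.card (orbit ↥(Subgroup.normalizer ((P : Subgroup G) : Set G)) a) ≤ 2 * p := by
    rw [← S.card, ← Nat.card_eq_fintype_card]
    exact Finite.card_subtype_le _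
  have hpos : 0 < Nat.card (orbit ↥(Subgroup.normalizer ((P : Subgroup G) : Set G)) a) := by
    have : Nonempty (orbit ↥(Subgroup.normalizer ((P : Subgroup G) : Set G)) a) :=
      ⟨⟨a, mem_orbit_self a⟩⟩
    exact Nat.card_pos
  obtain ⟨k, hk⟩ := hporb
  have hppos : 0 < p := hp.pos
  have hk12 : k = 1 ∨ k = 2 := by
    rw [hk] at hle hpos
    have h1 : 0 < k := Nat.pos_of_mul_pos_left (by rwa [mul_comm] at hpos)
    have h2 : k ≤ 2 := by
      by_contra hcon
      push Not at hcon
      have : p * 3 ≤ p * k := Nat.mul_le_mul_left p hcon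
      omega
    omega
  rw [hk] at hos
  rcases (cen_facts S a).2 with hCp | ⟨hC2p, c, hc, hca⟩
  · rw [hCp] at hNC
    rcases hk12 with rfl | rfl
    · left
      rw [← hNC, mul_one] at hos
      exact Nat.eq_of_mul_eq_mul_left hppos hos
    · right
      rw [← hNC, mul_assoc] at hos
      exact Nat.eq_of_mul_eq_mul_left hppos hos
  · have hk2 : k = 2 := by
      rcases hk12 with rfl | rfl
      · exfalso
        rw [mul_one] at hk
        have hsub : orbit ↥(P : Subgroup G) a ⊆
            orbit ↥(Subgroup.normalizer ((P : Subgroup G) : Set G)) a := by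
          rintro _ ⟨x, rfl⟩
          exact ⟨⟨(x : G), hPN x.2⟩, rfl⟩
        have heq : orbit ↥(P : Subgroup G) a =
            orbit ↥(Subgroup.normalizer ((P : Subgroup G) : Set G)) a := by
          apply Set.eq_of_subset_of_ncard_le hsub _ (Set.toFinite _)
          rw [← Nat.card_coe_set_eq, ← Nat.card_coe_set_eq, hk, w2ph10_card_orbit S a]
        apply hca
        rw [heq]
        exact ⟨⟨c, Subgroup.centralizer_le_normalizer _ hc⟩, rfl⟩
      · rfl
    subst hk2
    left
    rw [hC2p] at hNC
    rw [← hNC, mul_comm p 2] at hos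
    exact Nat.eq_of_mul_eq_mul_left (by omega) hos

end E

end Cfsg.Agent.Lib.Lead.W2P
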