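import Mathlib
import Cfsg.Agent.Lib.Lead.W2P.Defs
import Cfsg.Agent.Lib.Helper10.W2PCOMMON

/-!
# Project W2P (S0720) : core of EFIX (the first part of CEN, `G_a ∩ C_G(P) = 1`, as a hypothesis)
-/

set_option autoImplicit false
set_option linter.unusedVariables false
set_option linter.unusedSectionVars false
open scoped ComplexConjugate
open Classical

namespace Cfsg.Agent.Lib.Lead.W2P

open MulAction Cfsg.Agent.Lib.helper6.PermChar

universe u v

section E

variable {G : Type u} [Group G] [Fintype G] {Ω : Type v} [Fintype Ω] [DecidableEq Ω] [MulAction G Ω]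
  {p : ℕ} [Fact p.Prime] {P : Sylow p G}

theorem w2pefix_mem_orbit_iff (a ω : Ω) :
    ω ∈ orbit ↥(P : Subgroup G) a ↔ ∃ x ∈ (P : Subgroup G), x • a = ω := by
  constructor
  · rintro ⟨x, rfl⟩
    exact ⟨x, x.2, rfl⟩
  · rintro ⟨x, hx, rfl⟩
    exact ⟨⟨x, hx⟩, rfl⟩

/-- an element of `N_G(P) ∩ G_a ∖ 1` commutes with no non-trivial element of `P` -/
theorem w2pefix_comm_triv (S : Setting G Ω p P) (a : Ω)
    (hcen : stabilizer G a ⊓ Subgroup.centralizer ((P : Subgroup G) : Set G) = ⊥)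
    (g : G) (hga : g ∈ stabilizer G a) (hg1 : g ≠ 1)
    (z : G) (hz : z ∈ (P : Subgroup G)) (hcomm : g * z = z * g) : z = 1 := by
  by_contra hz1
  have h6 : g ∈ Subgroup.centralizer ((P : Subgroup G) : Set G) := by
    rw [Subgroup.mem_centralizer_iff]
    intro y hy
    rw [SetLike.mem_coe, ← w2ph10_zpowers S.cardP z hz hz1] at hy
    obtain ⟨k, rfl⟩ := Subgroup.mem_zpowers_iff.mp hy
    have hc : Commute g z := hcomm
    exact (hc.zpow_right k).eq.symm
  have h7 : g ∈ stabilizer G a ⊓ Subgroup.centralizer ((P : Subgroup G) : Set G) := ⟨hga, h6⟩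
  rw [hcen, Subgroup.mem_bot] at h7
  exact hg1 h7

/-- an element of `N_G(P) ∩ G_a ∖ 1` has at most one fixed point in each `P`-orbit -/
theorem w2pefix_unique (S : Setting G Ω p P) (a : Ω)
    (hcen : stabilizer G a ⊓ Subgroup.centralizer ((P : Subgroup G) : Set G) = ⊥)
    (g : G) (hga : g ∈ stabilizer G a)
    (hgN : g ∈ Subgroup.normalizer ((P : Subgroup G) : Set G)) (hg1 : g ≠ 1)
    (ω : Ω) (hω : g • ω = ω) (x : G) (hx : x ∈ (P : Subgroup G)) (hxω : g • (x • ω) = x • ω) :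
    x = 1 := by
  have h1 : g * x * g⁻¹ ∈ (P : Subgroup G) := (Subgroup.mem_normalizer_iff.mp hgN x).mp hx
  have h2 : (x⁻¹ * (g * x * g⁻¹)) • ω = ω := by
    have h3 : g⁻¹ • ω = ω := by rw [inv_smul_eq_iff, hω]
    rw [mul_smul, mul_smul, mul_smul, h3, hxω, inv_smul_smul]
  have h4 := w2ph10_free S _ ((P : Subgroup G).mul_mem ((P : Subgroup G).inv_mem hx) h1) ω h2
  rw [inv_mul_eq_one] at h4
  have h5 : g * x = x * g := by
    calc g * x = (g * x * g⁻¹) * g := by group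
      _ = x * g := by rw [← h4]
  exact w2pefix_comm_triv S a hcen g hga hg1 x hx h5

/-- an element of `N_G(P) ∩ G_a ∖ 1` which maps a `P`-orbit into itself has a fixed point on it -/
theorem w2pefix_exists_fix (S : Setting G Ω p P) (a : Ω)
    (hcen : stabilizer G a ⊓ Subgroup.centralizer ((P : Subgroup G) : Set G) = ⊥)
    (g : G) (hga : g ∈ stabilizer G a)
    (hgN : g ∈ Subgroup.normalizer ((P : Subgroup G) : Set G)) (hg1 : g ≠ 1)
    (β₀ : Ω) (hβ₀ : g • β₀ ∈ orbit ↥(P : Subgroup G) β₀) :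
    ∃ x ∈ (P : Subgroup G), g • (x • β₀) = x • β₀ := by
  have hconj : ∀ x ∈ (P : Subgroup G), g * x * g⁻¹ ∈ (P : Subgroup G) :=
    fun x hx => (Subgroup.mem_normalizer_iff.mp hgN x).mp hx
  let ψ : ↥(P : Subgroup G) → ↥(P : Subgroup G) := fun x =>
    ⟨(x : G)⁻¹ * (g * x * g⁻¹), (P : Subgroup G).mul_mem ((P : Subgroup G).inv_mem x.2) (hconj x x.2)⟩
  have hinj : Function.Injective ψ := by
    intro x y hxy
    have h1 : (x : G)⁻¹ * (g * x * g⁻¹) = (y : G)⁻¹ * (g * y * g⁻¹) := congrArg Subtype.val hxy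
    have h2 : g * ((x : G) * (y : G)⁻¹) = ((x : G) * (y : G)⁻¹) * g := by
      have h3 : g * (x : G) = (x : G) * (y : G)⁻¹ * (g * y) := by
        have h4 : (x : G) * ((x : G)⁻¹ * (g * x * g⁻¹)) * g = (x : G) * ((y : G)⁻¹ * (g * y * g⁻¹)) * g := by
          rw [h1]
        calc g * (x : G) = (x : G) * ((x : G)⁻¹ * (g * x * g⁻¹)) * g := by group
          _ = (x : G) * ((y : G)⁻¹ * (g * y * g⁻¹)) * g := h4
          _ = (x : G) * (y : G)⁻¹ * (g * y) := by group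
      calc g * ((x : G) * (y : G)⁻¹) = (g * (x : G)) * (y : G)⁻¹ := by group
        _ = (x : G) * (y : G)⁻¹ * (g * y) * (y : G)⁻¹ := by rw [h3]
        _ = ((x : G) * (y : G)⁻¹) * g := by group
    have h5 := w2pefix_comm_triv S a hcen g hga hg1 _
      ((P : Subgroup G).mul_mem x.2 ((P : Subgroup G).inv_mem y.2)) h2
    apply Subtype.ext
    exact mul_inv_eq_one.mp h5
  have hsurj : Function.Surjective ψ := Finite.injective_iff_surjective.mp hinj
  obtain ⟨z, hz, hzβ⟩ := (w2pefix_mem_orbit_iff β₀ (g • β₀)).mp hβ₀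
  obtain ⟨x, hx⟩ := hsurj ⟨z⁻¹, (P : Subgroup G).inv_mem hz⟩
  refine ⟨x, x.2, ?_⟩
  have h1 : (x : G)⁻¹ * (g * x * g⁻¹) = z⁻¹ := congrArg Subtype.val hx
  have h2 : g * (x : G) = (x : G) * z⁻¹ * g := by
    calc g * (x : G) = (x : G) * ((x : G)⁻¹ * (g * x * g⁻¹)) * g := by group
      _ = (x : G) * z⁻¹ * g := by rw [h1]
  calc g • ((x : G) • β₀) = (g * (x : G)) • β₀ := by rw [mul_smul]
    _ = ((x : G) * z⁻¹ * g) • β₀ := by rw [h2]
    _ = (x : G) • (z⁻¹ • (g • β₀)) := by rw [mul_smul, mul_smul]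
    _ = (x : G) • β₀ := by rw [← hzβ, inv_smul_smul]

/-- conjugation by an element of `N_G(P)` is a power map on `P` -/
theorem w2pefix_pow (S : Setting G Ω p P) (g : G)
    (hgN : g ∈ Subgroup.normalizer ((P : Subgroup G) : Set G)) :
    ∃ k : ℤ, ∀ y ∈ (P : Subgroup G), g * y * g⁻¹ = y ^ k := by
  have hne : ∃ x₀ ∈ (P : Subgroup G), x₀ ≠ 1 := by
    by_contra hcon
    push Not at hcon
    have h1 : (P : Subgroup G) = ⊥ := by
      rw [Subgroup.eq_bot_iff_forall]; exact hcon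
    have h2 := S.cardP
    rw [h1, Subgroup.card_bot] at h2
    exact (Fact.out : p.Prime).one_lt.ne' h2.symm
  obtain ⟨x₀, hx₀, hx₀1⟩ := hne
  have hz := w2ph10_zpowers S.cardP x₀ hx₀ hx₀1
  have h1 : g * x₀ * g⁻¹ ∈ Subgroup.zpowers x₀ := by
    rw [hz]; exact (Subgroup.mem_normalizer_iff.mp hgN x₀).mp hx₀
  obtain ⟨k, hk⟩ := Subgroup.mem_zpowers_iff.mp h1
  refine ⟨k, ?_⟩
  intro y hy
  rw [← hz] at hy
  obtain ⟨i, rfl⟩ := Subgroup.mem_zpowers_iff.mp hy
  rw [← conj_zpow, ← hk, ← zpow_mul, ← zpow_mul, mul_comm]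

/-- `N_G(P) ∩ G_a` is abelian -/
theorem w2pefix_comm (S : Setting G Ω p P) (a : Ω)
    (hcen : stabilizer G a ⊓ Subgroup.centralizer ((P : Subgroup G) : Set G) = ⊥)
    (g h : G) (hg : g ∈ stabilizer G a ⊓ Subgroup.normalizer ((P : Subgroup G) : Set G))
    (hh : h ∈ stabilizer G a ⊓ Subgroup.normalizer ((P : Subgroup G) : Set G)) :
    g * h = h * g := by
  obtain ⟨kg, hkg⟩ := w2pefix_pow S g hg.2
  obtain ⟨kh, hkh⟩ := w2pefix_pow S h hh.2
  have hc : (h * g)⁻¹ * (g * h) ∈ Subgroup.centralizer ((P : Subgroup G) : Set G) := by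
    rw [Subgroup.mem_centralizer_iff]
    intro y hy
    have hy' : y ∈ (P : Subgroup G) := hy
    have h1 : (g * h) * y * (g * h)⁻¹ = (h * g) * y * (h * g)⁻¹ := by
      have e1 : (g * h) * y * (g * h)⁻¹ = g * (h * y * h⁻¹) * g⁻¹ := by group
      have e2 : (h * g) * y * (h * g)⁻¹ = h * (g * y * g⁻¹) * h⁻¹ := by group
      rw [e1, e2, hkh y hy', hkg y hy', hkg _ ((P : Subgroup G).zpow_mem hy' kh),
        hkh _ ((P : Subgroup G).zpow_mem hy' kg), ← zpow_mul, ← zpow_mul, mul_comm]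
    have h2 : (g * h) * y = (h * g) * y * (h * g)⁻¹ * (g * h) := by
      rw [← h1]; group
    calc y * ((h * g)⁻¹ * (g * h)) = (h * g)⁻¹ * ((h * g) * y * (h * g)⁻¹ * (g * h)) := by group
      _ = (h * g)⁻¹ * ((g * h) * y) := by rw [← h2]
      _ = (h * g)⁻¹ * (g * h) * y := by group
  have hs : (h * g)⁻¹ * (g * h) ∈ stabilizer G a :=
    (stabilizer G a).mul_mem ((stabilizer G a).inv_mem ((stabilizer G a).mul_mem hh.1 hg.1))
      ((stabilizer G a).mul_mem hg.1 hh.1)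
  have h3 : (h * g)⁻¹ * (g * h) ∈ stabilizer G a ⊓ Subgroup.centralizer ((P : Subgroup G) : Set G) :=
    ⟨hs, hc⟩
  rw [hcen, Subgroup.mem_bot, inv_mul_eq_one] at h3
  exact h3.symm

/-- elements of `N_G(P) ∩ G_a` map the `P`-orbit of `a` into itself -/
theorem w2pefix_pres (a : Ω) (g : G)
    (hg : g ∈ stabilizer G a ⊓ Subgroup.normalizer ((P : Subgroup G) : Set G)) (ω : Ω)
    (hω : ω ∈ orbit ↥(P : Subgroup G) a) : g • ω ∈ orbit ↥(P : Subgroup G) a := by
  obtain ⟨x, hx, rfl⟩ := (w2pefix_mem_orbit_iff a ω).mp hω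
  rw [w2pefix_mem_orbit_iff]
  refine ⟨g * x * g⁻¹, (Subgroup.mem_normalizer_iff.mp hg.2 x).mp hx, ?_⟩
  have h3 : g⁻¹ • a = a := by rw [inv_smul_eq_iff, mem_stabilizer_iff.mp hg.1]
  rw [mul_smul, mul_smul, h3]

/-- and the complement into itself -/
theorem w2pefix_pres' (a : Ω) (g : G)
    (hg : g ∈ stabilizer G a ⊓ Subgroup.normalizer ((P : Subgroup G) : Set G)) (ω : Ω)
    (hω : ω ∉ orbit ↥(P : Subgroup G) a) : g • ω ∉ orbit ↥(P : Subgroup G) a := by
  intro hcon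
  apply hω
  have := w2pefix_pres (P := P) a g⁻¹
    ((stabilizer G a ⊓ Subgroup.normalizer ((P : Subgroup G) : Set G)).inv_mem hg) _ hcon
  rwa [inv_smul_smul] at this

/-- core of EFIX: `G_a ∩ C_G(P) = 1` is a hypothesis -/
theorem w2pefix_core (S : Setting G Ω p P) (a : Ω)
    (hcen : stabilizer G a ⊓ Subgroup.centralizer ((P : Subgroup G) : Set G) = ⊥) :
    ∃ β : Ω, β ≠ a ∧
      (∀ g ∈ stabilizer G a ⊓ Subgroup.normalizer ((P : Subgroup G) : Set G), g • β = β) ∧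
      ∀ g ∈ stabilizer G a ⊓ Subgroup.normalizer ((P : Subgroup G) : Set G), g ≠ 1 →
        ∀ ω : Ω, g • ω = ω → ω = a ∨ ω = β := by
  by_cases hE : ∀ g ∈ stabilizer G a ⊓ Subgroup.normalizer ((P : Subgroup G) : Set G), g = 1
  · obtain ⟨β, hβ⟩ := w2ph10_exists_other S a
    refine ⟨β, ?_, ?_, ?_⟩
    · rintro rfl
      exact hβ (mem_orbit_self _)
    · intro g hg
      rw [hE g hg, one_smul]
    · intro g hg hg1
      exact absurd (hE g hg) hg1
  · push Not at hE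
    obtain ⟨g₀, hg₀, hg₀1⟩ := hE
    obtain ⟨β₀, hβ₀⟩ := w2ph10_exists_other S a
    have h1 : g₀ • β₀ ∈ orbit ↥(P : Subgroup G) β₀ := by
      rcases w2ph10_two_orbits S a β₀ hβ₀ (g₀ • β₀) with h | h
      · exact absurd h (w2pefix_pres' a g₀ hg₀ β₀ hβ₀)
      · exact h
    obtain ⟨x, hx, hxβ⟩ := w2pefix_exists_fix S a hcen g₀ hg₀.1 hg₀.2 hg₀1 β₀ h1
    have hβ : x • β₀ ∉ orbit ↥(P : Subgroup G) a := by
      intro hcon
      apply hβ₀
      obtain ⟨y, hy, hyβ⟩ := (w2pefix_mem_orbit_iff a _).mp hcon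
      rw [w2pefix_mem_orbit_iff]
      refine ⟨x⁻¹ * y, (P : Subgroup G).mul_mem ((P : Subgroup G).inv_mem hx) hy, ?_⟩
      rw [mul_smul, hyβ, inv_smul_smul]
    have hfixall : ∀ h ∈ stabilizer G a ⊓ Subgroup.normalizer ((P : Subgroup G) : Set G),
        h • (x • β₀) = x • β₀ := by
      intro h hh
      have h2 : g₀ • (h • (x • β₀)) = h • (x • β₀) := by
        rw [← mul_smul, w2pefix_comm S a hcen g₀ h hg₀ hh, mul_smul, hxβ]
      have h3 : h • (x • β₀) ∈ orbit ↥(P : Subgroup G) (x • β₀) := by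
        rcases w2ph10_two_orbits S a (x • β₀) hβ (h • (x • β₀)) with h' | h'
        · exact absurd h' (w2pefix_pres' a h hh _ hβ)
        · exact h'
      obtain ⟨y, hy, hyβ⟩ := (w2pefix_mem_orbit_iff _ _).mp h3
      have h4 := w2pefix_unique S a hcen g₀ hg₀.1 hg₀.2 hg₀1 (x • β₀) hxβ y hy (by rw [hyβ]; exact h2)
      rw [← hyβ, h4, one_smul]
    refine ⟨x • β₀, ?_, hfixall, ?_⟩
    · rintro h
      apply hβ
      rw [h]
      exact mem_orbit_self _
    · intro g hg hg1 ω hω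
      rcases w2ph10_two_orbits S a (x • β₀) hβ ω with h' | h'
      · left
        obtain ⟨y, hy, rfl⟩ := (w2pefix_mem_orbit_iff _ _).mp h'
        have h4 := w2pefix_unique S a hcen g hg.1 hg.2 hg1 a (mem_stabilizer_iff.mp hg.1) y hy hω
        rw [h4, one_smul]
      · right
        obtain ⟨y, hy, rfl⟩ := (w2pefix_mem_orbit_iff _ _).mp h'
        have h4 := w2pefix_unique S a hcen g hg.1 hg.2 hg1 (x • β₀) (hfixall g hg) y hy hω
        rw [h4, one_smul]

end E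

end Cfsg.Agent.Lib.Lead.W2P
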