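import Mathlib
import Cfsg.Agent.Lib.Lead.W2P.Defs
import Cfsg.Agent.Lib.Helper1.W2PCEN
import Cfsg.Agent.Lib.Helper10.W2PEFIXcore

/-!
# Project W2P (S0720) : piece EFIX (`E_fix`), from `w2pefix_core` and CEN (`cen_facts`, helper1)
-/

set_option autoImplicit false
set_option linter.unusedVariables false
set_option linter.unusedSectionVars false
open scoped ComplexConjugate
open Classical

namespace Cfsg.Agent.Lib.Lead.W2P

open MulAction Cfsg.Agent.Lib.helper6.PermChar Cfsg.Agent.Lib.Helper25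

universe u v

section E

variable {G : Type u} [Group G] [Fintype G] {Ω : Type v} [Fintype Ω] [DecidableEq Ω] [MulAction G Ω]
  {p : ℕ} [Fact p.Prime] {P : Sylow p G}

/-- EFIX : `E = N_G(P) ∩ G_a` fixes a point `β ≠ a` and acts semiregularly elsewhere -/
theorem E_fix (S : Setting G Ω p P) (a : Ω) :
    ∃ β : Ω, β ≠ a ∧
      (∀ g ∈ stabilizer G a ⊓ Subgroup.normalizer ((P : Subgroup G) : Set G), g • β = β) ∧
      ∀ g ∈ stabilizer G a ⊓ Subgroup.normalizer ((P : Subgroup G) : Set G), g ≠ 1 →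
        ∀ ω : Ω, g • ω = ω → ω = a ∨ ω = β :=
  w2pefix_core S a (cen_facts S a).1

end E

end Cfsg.Agent.Lib.Lead.W2P
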