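import Mathlib
import Cfsg.Agent.Lib.Lead.W2P.Defs
import Cfsg.Agent.Lib.Helper10.W2PCOMMON

/-!
# Project W2P (S0720) : core of LOOPPARTNER (inputs OCCURS, CLUB, SDEGINV as hypotheses)
-/

set_option autoImplicit false
set_option linter.unusedVariables false
set_option linter.unusedSectionVars false
open scoped ComplexConjugate
open Classical

namespace Cfsg.Agent.Lib.Lead.W2P

open MulAction Cfsg.Agent.Lib.helper6.PermChar

universe u v

section E

variable {G : Type u} [Group G] [Fintype G] {Ω : Type v} [Fintype Ω] [DecidableEq Ω] [MulAction G Ω]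
  {p : ℕ} [Fact p.Prime] {P : Sylow p G}

/-- core of LOOPPARTNER: the three inputs (`occurs` at `(a, b)`, `club`, `sdeg_eq_of_orbRel`) are hypotheses -/
theorem w2plooppartner_core (S : Setting G Ω p P) (a b : Ω) (hb : b ≠ a)
    (hocc : ∃ x ∈ (P : Subgroup G), x ≠ 1 ∧ ∃ ω : Ω, orbRel G a b ω (x • ω))
    (hclub : ∀ (a ω₂ : Ω), ω₂ ∉ orbit ↥(P : Subgroup G) a → ∀ x : G, x ∈ (P : Subgroup G) → x ≠ 1 →
      (orbRel G a (x • a) ω₂ (x • ω₂) → sdeg G a (x • a) = 2 * fIdx (P : Subgroup G)) ∧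
      (¬ orbRel G a (x • a) ω₂ (x • ω₂) →
        fIdx (P : Subgroup G) * (sdeg G a (x • a) + sdeg G ω₂ (x • ω₂)) =
          2 * (sdeg G a (x • a) * sdeg G ω₂ (x • ω₂))))
    (hinv : ∀ a b x y : Ω, orbRel G a b x y → sdeg G x y = sdeg G a b) :
    sdeg G a b = 2 * fIdx (P : Subgroup G) ∨
      ∃ b' : Ω, b' ≠ a ∧ ¬ orbRel G a b a b' ∧
        fIdx (P : Subgroup G) * (sdeg G a b + sdeg G a b') = 2 * (sdeg G a b * sdeg G a b') := by
  obtain ⟨x, hx, hx1, ω, hω⟩ := hocc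
  obtain ⟨ω₂, hω₂⟩ := w2ph10_exists_other S ω
  obtain ⟨hc1, hc2⟩ := hclub ω ω₂ hω₂ x hx hx1
  have hs : sdeg G ω (x • ω) = sdeg G a b := hinv a b ω (x • ω) hω
  by_cases hr : orbRel G ω (x • ω) ω₂ (x • ω₂)
  · left
    rw [← hs]
    exact hc1 hr
  · right
    have := S.prim.toIsPretransitive
    obtain ⟨h, hh⟩ := exists_smul_eq G ω₂ a
    have hrel : orbRel G ω₂ (x • ω₂) a (h • (x • ω₂)) := ⟨h, hh, rfl⟩
    refine ⟨h • (x • ω₂), ?_, ?_, ?_⟩
    · intro hcon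
      rw [← hh] at hcon
      have h2 : x • ω₂ = ω₂ := smul_left_cancel h hcon
      exact hx1 (w2ph10_free S x hx ω₂ h2)
    · intro hcon
      apply hr
      have h1 := w2ph10_orbRel_symm a b ω (x • ω) hω
      have h2 := w2ph10_orbRel_trans _ _ _ _ _ _ h1 hcon
      exact w2ph10_orbRel_trans _ _ _ _ _ _ h2 (w2ph10_orbRel_symm _ _ _ _ hrel)
    · have hs2 : sdeg G a (h • (x • ω₂)) = sdeg G ω₂ (x • ω₂) := hinv _ _ _ _ hrel
      rw [← hs, hs2]
      exact hc2 hr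

end E

end Cfsg.Agent.Lib.Lead.W2P
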