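import Mathlib
import Cfsg.Agent.Lib.Lead.W2P.Defs
import Cfsg.Agent.Lib.helper6.W2POCCURS
import Cfsg.Agent.Lib.Helper20.W2PCLUB
import Cfsg.Agent.Lib.helper23.W2PSDEGINV
import Cfsg.Agent.Lib.Helper10.W2PLOOPPARTNERcore

/-!
# Project W2P (S0720) : piece LOOPPARTNER (`loop_or_partner`), from `w2plooppartner_core` with the real
OCCURS (helper6), CLUB (helper20), SDEGINV (helper23)
-/

set_option autoImplicit false
set_option linter.unusedVariables false
set_option linter.unusedSectionVars false
open scoped ComplexConjugate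
open Classical

namespace Cfsg.Agent.Lib.Lead.W2P

open MulAction Cfsg.Agent.Lib.helper6.PermChar Cfsg.Agent.Lib.Helper25

universe u v

section E

variable {G : Type u} [Group G] [Fintype G] {Ω : Type v} [Fintype Ω] [DecidableEq Ω] [MulAction G Ω]
  {p : ℕ} [Fact p.Prime] {P : Sylow p G}

/-- LOOPPARTNER : every non-trivial suborbit has length `2f` or a partner -/
theorem loop_or_partner (S : Setting G Ω p P) (hbad : Bad G Ω p (P : Subgroup G)) (a b : Ω)
    (hb : b ≠ a) :
    sdeg G a b = 2 * fIdx (P : Subgroup G) ∨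
      ∃ b' : Ω, b' ≠ a ∧ ¬ orbRel G a b a b' ∧
        fIdx (P : Subgroup G) * (sdeg G a b + sdeg G a b') = 2 * (sdeg G a b * sdeg G a b') := by
  have htr : IsPretransitive G Ω := S.prim.toIsPretransitive
  exact w2plooppartner_core S a b hb (occurs S a b hb)
    (fun a ω₂ hω₂ x hx hx1 => club S hbad a ω₂ hω₂ x hx hx1)
    (fun a b x y h => sdeg_eq_of_orbRel a b x y h)

end E

end Cfsg.Agent.Lib.Lead.W2P
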