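import Cfsg.Agent.Lib.helper15.WB.Defs
import Cfsg.Agent.Lib.Helper28.UGen2
import Cfsg.Agent.Lib.Helper28.UHerm

set_option autoImplicit false

/-!
# Project WB (S2335/S2334), piece WB-Hb: all first rows with nonzero fixed first entry occur
-/

namespace Cfsg.Agent.Lib.Helper10.WBHb

open Matrix Cfsg.Agent.Lib.helper15.SUn Cfsg.Agent.Lib.helper15.WB

section H

variable {F : Type*} [Field F] [Fintype F] [DecidableEq F] {q : ℕ} {σ : F ≃+* F}

omit [Fintype F] [DecidableEq F] in
/-- entries of the first row of a congruence transform by a matrix `1 + s e₀ᵀ` with `s 0 = 0` -/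
theorem cg_col_row {m : ℕ} (s : Fin (m + 2) → F) (hs0 : s 0 = 0)
    (Y : Matrix (Fin (m + 2)) (Fin (m + 2)) F) (j : Fin (m + 2)) :
    cg σ (Matrix.of fun k l : Fin (m + 2) => (if k = l then (1 : F) else 0) +
      s k * (if l = 0 then 1 else 0)) Y 0 j = Y 0 j + Y 0 0 * σ (s j) := by
  unfold cg
  rw [Matrix.mul_apply]
  have h1 : ∀ l : Fin (m + 2),
      ((Matrix.of fun k l : Fin (m + 2) => (if k = l then (1 : F) else 0) +
        s k * (if l = 0 then 1 else 0)) * Y) 0 l = Y 0 l := by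
    intro l
    rw [Matrix.mul_apply]
    simp only [Matrix.of_apply, hs0, zero_mul, add_zero]
    simp
  simp_rw [h1]
  simp only [Matrix.transpose_apply, Matrix.map_apply, Matrix.of_apply, map_add, map_mul]
  have h2 : ∀ l : Fin (m + 2), Y 0 l * (σ (if j = l then (1 : F) else 0) +
      σ (s j) * σ (if l = 0 then (1 : F) else 0)) =
      (if j = l then Y 0 l else 0) + (if l = 0 then Y 0 l * σ (s j) else 0) := by
    intro l
    have e1 : σ (if j = l then (1 : F) else 0) = if j = l then 1 else 0 := by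
      split_ifs <;> simp
    have e2 : σ (if l = 0 then (1 : F) else 0) = if l = 0 then 1 else 0 := by
      split_ifs <;> simp
    rw [e1, e2]
    split_ifs <;> ring
  simp_rw [h2]
  rw [Finset.sum_add_distrib]
  simp

omit [Fintype F] [DecidableEq F] in
theorem det_col {m : ℕ} (s : Fin (m + 2) → F) (hs0 : s 0 = 0) :
    (Matrix.of fun k l : Fin (m + 2) => (if k = l then (1 : F) else 0) +
      s k * (if l = 0 then 1 else 0)).det = 1 := by
  rw [Matrix.det_of_isLowerTriangular]
  · apply Finset.prod_eq_one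
    intro i _
    simp only [Matrix.of_apply, if_true]
    by_cases h : i = 0
    · rw [h, hs0]; simp
    · simp [h]
  · intro i j hij
    have hij' : i < j := hij
    simp only [Matrix.of_apply]
    have h1 : i ≠ j := ne_of_lt hij'
    have h2 : j ≠ 0 := by
      intro e
      rw [e] at hij'
      exact absurd hij' (Fin.not_lt_zero i)
    simp [h1, h2]

/-- H-b : all first rows with nonzero fixed first entry occur -/
theorem first_row_surj (hF : Fintype.card F = q ^ 2) (hσ : ∀ x, σ x = x ^ q) (m : ℕ)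
    (T : Finset (Matrix (Fin (m + 2)) (Fin (m + 2)) F)) (hT : ∀ X ∈ T, IsHerm σ X)
    (hinv : ∀ X ∈ T, ∀ A : Matrix (Fin (m + 2)) (Fin (m + 2)) F, A.det = 1 → cg σ A X ∈ T)
    (Y : Matrix (Fin (m + 2)) (Fin (m + 2)) F) (hY : Y ∈ T) (hY0 : Y 0 0 ≠ 0)
    (ξ : Fin (m + 2) → F) (hξ : σ (ξ 0) = ξ 0) (hξ0 : ξ 0 ≠ 0) :
    ∃ Z ∈ T, ∀ j, Z 0 j = ξ j := by
  classical
  obtain ⟨σ', hσ', hf'⟩ := Cfsg.Agent.Lib.Helper28.UHerm.herm_unitary hF 1
  have hσeq : σ' = σ := RingEquiv.ext (fun x => by rw [hσ', hσ])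
  rw [hσeq] at hf'
  have hinvol : ∀ x, σ (σ x) = x := hf'.involutive
  -- step 1: scale the (0,0) entry
  have hY00 : σ (Y 0 0) = Y 0 0 := hT Y hY 0 0
  obtain ⟨t, ht⟩ := Cfsg.Agent.Lib.Helper28.UForm.norm_surj hf' (ξ 0 / Y 0 0)
    (by rw [map_div₀, hξ, hY00])
  have hc0 : ξ 0 / Y 0 0 ≠ 0 := div_ne_zero hξ0 hY0
  have ht0 : t ≠ 0 := by
    intro h
    rw [h, zero_mul] at ht
    exact hc0 ht.symm
  set d : Fin (m + 2) → F := fun i => if i = 0 then t else if i = 1 then t⁻¹ else 1 with hd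
  have hdet : (Matrix.diagonal d).det = 1 := by
    rw [Matrix.det_diagonal, Fin.prod_univ_succ, Fin.prod_univ_succ]
    have h0 : d 0 = t := by simp [hd]
    have h1 : d (Fin.succ 0) = t⁻¹ := by
      simp only [hd]
      rw [if_neg (Fin.succ_ne_zero 0)]
      simp
    have h2 : ∀ i : Fin m, d (Fin.succ (Fin.succ i)) = 1 := by
      intro i
      simp only [hd]
      rw [if_neg (Fin.succ_ne_zero _), if_neg]
      intro e
      rw [← Fin.succ_zero_eq_one] at e
      have := Fin.succ_injective _ e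
      exact Fin.succ_ne_zero i this
    rw [h0, h1]
    simp_rw [h2]
    rw [Finset.prod_const_one, mul_one, mul_inv_cancel₀ ht0]
  set Y1 := cg σ (Matrix.diagonal d) Y with hY1def
  have hY1 : Y1 ∈ T := hinv Y hY _ hdet
  have hY1row : ∀ j, Y1 0 j = t * Y 0 j * σ (d j) := by
    intro j
    rw [hY1def]
    unfold cg
    rw [Matrix.diagonal_map (map_zero σ), Matrix.diagonal_transpose, Matrix.mul_diagonal,
      Matrix.diagonal_mul]
    simp [hd]
  have hY1_00 : Y1 0 0 = ξ 0 := by
    rw [hY1row 0]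
    have : d 0 = t := by simp [hd]
    rw [this]
    have : t * Y 0 0 * σ t = (t * σ t) * Y 0 0 := by ring
    rw [this, ht, div_mul_cancel₀ _ hY0]
  -- step 2: adjust the rest of the first row
  set s : Fin (m + 2) → F := fun k => if k = 0 then 0 else σ ((ξ k - Y1 0 k) / Y1 0 0) with hs
  have hs0 : s 0 = 0 := by simp [hs]
  refine ⟨cg σ (Matrix.of fun k l : Fin (m + 2) => (if k = l then (1 : F) else 0) +
      s k * (if l = 0 then 1 else 0)) Y1, hinv Y1 hY1 _ (det_col s hs0), ?_⟩
  intro j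
  rw [cg_col_row s hs0 Y1 j]
  by_cases hj : j = 0
  · rw [hj, hs0, map_zero, mul_zero, add_zero, hY1_00]
  · have : s j = σ ((ξ j - Y1 0 j) / Y1 0 0) := by simp [hs, hj]
    rw [this, hinvol, hY1_00]
    field_simp
    ring

end H

end Cfsg.Agent.Lib.Helper10.WBHb
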