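import Mathlib
import Cfsg.Agent.Lib.Helper13.WcElemC

set_option autoImplicit false

/-! The relative trace map: the central elements of a Sylow subgroup that are central in the whole
group form a direct factor of the centre of the Sylow subgroup (helper10). -/

namespace Cfsg.Agent.Lib.Helper10.WCF

open Cfsg.Agent.Lib.Helper13

open scoped IsMulCommutative

section Trace

variable {Γ : Type*} [Group Γ] [Finite Γ] {p : ℕ} [Fact p.Prime]

/-- The relative trace from the fixed points of `M` on the abelian normal subgroup `Y`. -/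
noncomputable def relTrace (M Y : Subgroup Γ) [Y.Normal] [IsMulCommutative ↥Y] : ↥Y →* ↥Y :=
  haveI := Fintype.ofFinite (Γ ⧸ M)
  { toFun := fun w => ∏ ω : Γ ⧸ M, engCosetFun M (conjRho Y) w ω
    map_one' := by
      apply Finset.prod_eq_one
      intro ω _
      unfold engCosetFun
      exact map_one _
    map_mul' := by
      intro a b
      rw [← Finset.prod_mul_distrib]
      apply Finset.prod_congr rfl
      intro ω _
      unfold engCosetFun
      exact map_mul _ a b }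

theorem relTrace_apply (M Y : Subgroup Γ) [Y.Normal] [IsMulCommutative ↥Y] [Fintype (Γ ⧸ M)]
    (w : ↥Y) : relTrace M Y w = ∏ ω : Γ ⧸ M, engCosetFun M (conjRho Y) w ω := by
  unfold relTrace
  simp only [MonoidHom.coe_mk, OneHom.coe_mk]
  apply Finset.prod_congr _ (fun _ _ => rfl)
  ext ω
  simp only [Finset.mem_univ]

theorem relTrace_fixed (M Y : Subgroup Γ) [Y.Normal] [IsMulCommutative ↥Y] (w : ↥Y)
    (hM : ∀ m ∈ M, conjRho Y m w = w) (g : Γ) : conjRho Y g (relTrace M Y w) = relTrace M Y w := by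
  haveI := Fintype.ofFinite (Γ ⧸ M)
  rw [relTrace_apply, map_prod]
  have h1 : ∀ ω : Γ ⧸ M, conjRho Y g (engCosetFun M (conjRho Y) w ω) =
      engCosetFun M (conjRho Y) w (g • ω) := fun ω => (engCosetFun_smul M (conjRho Y) w hM g ω).symm
  simp_rw [h1]
  exact Fintype.prod_equiv (MulAction.toPerm g) _ _ (fun ω => rfl)

theorem relTrace_of_central (M Y : Subgroup Γ) [Y.Normal] [IsMulCommutative ↥Y] (w : ↥Y)
    (hw : ∀ g : Γ, conjRho Y g w = w) : relTrace M Y w = w ^ M.index := by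
  haveI := Fintype.ofFinite (Γ ⧸ M)
  rw [relTrace_apply]
  have h1 : ∀ ω : Γ ⧸ M, engCosetFun M (conjRho Y) w ω = w := by
    intro ω
    unfold engCosetFun
    exact hw _
  simp_rw [h1]
  rw [Finset.prod_const, Finset.card_univ, Subgroup.index_eq_card, Nat.card_eq_fintype_card]

/-- The elements of `Z(S)` central in `Γ` form a direct factor of `Z(S)`, when `Z(S)` lies in an
abelian normal subgroup `Y ≤ S`. -/
theorem trace_complement (S : Sylow p Γ) (Y : Subgroup Γ) [hYn : Y.Normal] [hYc : IsMulCommutative ↥Y]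
    (hYS : Y ≤ (S : Subgroup Γ))
    (hZY : (S : Subgroup Γ) ⊓ Subgroup.centralizer ((S : Subgroup Γ) : Set Γ) ≤ Y) :
    ∃ K : Subgroup Γ, K ≤ (S : Subgroup Γ) ⊓ Subgroup.centralizer ((S : Subgroup Γ) : Set Γ) ∧
      ((S : Subgroup Γ) ⊓ Subgroup.center Γ) ⊓ K = ⊥ ∧
      ((S : Subgroup Γ) ⊓ Subgroup.center Γ) ⊔ K =
        (S : Subgroup Γ) ⊓ Subgroup.centralizer ((S : Subgroup Γ) : Set Γ) ∧
      ∀ z ∈ (S : Subgroup Γ) ⊓ Subgroup.centralizer ((S : Subgroup Γ) : Set Γ),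
        ∃ w ∈ (S : Subgroup Γ) ⊓ Subgroup.center Γ, ∃ k ∈ K, z = w * k := by
  have hp : p.Prime := Fact.out
  obtain ⟨Z, hZ⟩ : ∃ Z : Subgroup Γ,
      Z = (S : Subgroup Γ) ⊓ Subgroup.centralizer ((S : Subgroup Γ) : Set Γ) := ⟨_, rfl⟩
  obtain ⟨W, hW⟩ : ∃ W : Subgroup Γ, W = (S : Subgroup Γ) ⊓ Subgroup.center Γ := ⟨_, rfl⟩
  rw [← hZ, ← hW]
  rw [← hZ] at hZY
  have hWZ : W ≤ Z := by
    rw [hW, hZ]
    exact inf_le_inf_left _ (Subgroup.center_le_centralizer _)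
  obtain ⟨M, hM⟩ : ∃ M : Subgroup Γ, M = (S : Subgroup Γ) := ⟨_, rfl⟩
  have hidx : (M.index).Coprime p := by
    rw [hM]
    exact ((Nat.Prime.coprime_iff_not_dvd hp).mpr S.not_dvd_index).symm
  -- fixedness
  have hfix : ∀ z (hz : z ∈ Z), ∀ m ∈ M, conjRho Y m ⟨z, hZY hz⟩ = ⟨z, hZY hz⟩ := by
    intro z hz m hm
    apply Subtype.ext
    rw [conjRho_apply]
    rw [hZ] at hz
    rw [hM] at hm
    have := Subgroup.mem_centralizer_iff.mp hz.2 m hm
    show m * z * m⁻¹ = z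
    rw [this]
    group
  have hcen : ∀ w (hw : w ∈ W), ∀ g : Γ, conjRho Y g ⟨w, hZY (hWZ hw)⟩ = ⟨w, hZY (hWZ hw)⟩ := by
    intro w hw g
    apply Subtype.ext
    rw [conjRho_apply]
    rw [hW] at hw
    have := Subgroup.mem_center_iff.mp hw.2 g
    show g * w * g⁻¹ = w
    rw [this]
    group
  have hpw : ∀ s ∈ (S : Subgroup Γ), ∀ n : ℕ, n.Coprime p → s ^ n = 1 → s = 1 := by
    intro s hs n hn hsn
    obtain ⟨k, hk⟩ := S.isPGroup' ⟨s, hs⟩
    have hk' := congrArg Subtype.val hk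
    simp only [Subgroup.coe_pow, Subgroup.coe_one] at hk'
    have h1 : orderOf s ∣ n := orderOf_dvd_of_pow_eq_one hsn
    have h2 : orderOf s ∣ p ^ k := orderOf_dvd_of_pow_eq_one hk'
    have h3 : orderOf s = 1 := Nat.eq_one_of_dvd_coprimes (Nat.Coprime.pow_right k hn) h1 h2
    exact orderOf_eq_one_iff.mp h3
  -- the trace of an element of Z lies in W
  have htrW : ∀ z (hz : z ∈ Z), ((relTrace M Y ⟨z, hZY hz⟩ : ↥Y) : Γ) ∈ W := by
    intro z hz
    have h1 := relTrace_fixed M Y ⟨z, hZY hz⟩ (hfix z hz)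
    rw [hW]
    refine ⟨hYS (relTrace M Y ⟨z, hZY hz⟩).2, ?_⟩
    show ((relTrace M Y ⟨z, hZY hz⟩ : ↥Y) : Γ) ∈ Subgroup.center Γ
    rw [Subgroup.mem_center_iff]
    intro g
    have h2 := congrArg Subtype.val (h1 g)
    rw [conjRho_apply] at h2
    calc g * ((relTrace M Y ⟨z, hZY hz⟩ : ↥Y) : Γ)
        = (g * ((relTrace M Y ⟨z, hZY hz⟩ : ↥Y) : Γ) * g⁻¹) * g := by group
      _ = ((relTrace M Y ⟨z, hZY hz⟩ : ↥Y) : Γ) * g := by rw [h2]
  have hdec : ∀ z ∈ Z, ∃ w ∈ W, ∃ k ∈ Z ⊓ ((relTrace M Y).ker).map Y.subtype, z = w * k := by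
    intro z hz
    obtain ⟨t, ht⟩ : ∃ t : Γ, t = ((relTrace M Y ⟨z, hZY hz⟩ : ↥Y) : Γ) := ⟨_, rfl⟩
    have htW : t ∈ W := ht ▸ htrW z hz
    have htS : t ∈ (S : Subgroup Γ) := by
      rw [hW] at htW
      exact htW.1
    have hcop : (M.index).Coprime (orderOf t) := by
      obtain ⟨k, hk⟩ := S.isPGroup' ⟨t, htS⟩
      have hk' := congrArg Subtype.val hk
      simp only [Subgroup.coe_pow, Subgroup.coe_one] at hk'
      exact Nat.Coprime.coprime_dvd_right (orderOf_dvd_of_pow_eq_one hk')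
        (Nat.Coprime.pow_right k hidx)
    obtain ⟨m', hm'⟩ := exists_pow_eq_self_of_coprime hcop
    obtain ⟨w, hwdef⟩ : ∃ w : Γ, w = t ^ m' := ⟨_, rfl⟩
    have hwW : w ∈ W := hwdef ▸ Subgroup.pow_mem _ htW _
    have hwtr : ((relTrace M Y ⟨w, hZY (hWZ hwW)⟩ : ↥Y) : Γ) = t := by
      rw [relTrace_of_central M Y _ (hcen w hwW)]
      simp only [Subgroup.coe_pow]
      rw [hwdef, ← pow_mul, mul_comm, pow_mul]
      exact hm'
    have hzw : w⁻¹ * z ∈ Z ⊓ ((relTrace M Y).ker).map Y.subtype := by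
      have hZm : w⁻¹ * z ∈ Z := Subgroup.mul_mem _ (Subgroup.inv_mem _ (hWZ hwW)) hz
      refine ⟨hZm, ⟨⟨w⁻¹ * z, hZY hZm⟩, ?_, rfl⟩⟩
      rw [SetLike.mem_coe, MonoidHom.mem_ker]
      have e : (⟨w⁻¹ * z, hZY hZm⟩ : ↥Y) = (⟨w, hZY (hWZ hwW)⟩ : ↥Y)⁻¹ * ⟨z, hZY hz⟩ := by
        apply Subtype.ext
        simp
      rw [e, map_mul, map_inv]
      apply Subtype.ext
      simp only [Subgroup.coe_mul, Subgroup.coe_inv, Subgroup.coe_one]
      rw [hwtr, ← ht]
      group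
    exact ⟨w, hwW, w⁻¹ * z, hzw, by group⟩
  refine ⟨Z ⊓ ((relTrace M Y).ker).map Y.subtype, inf_le_left, ?_, ?_, hdec⟩
  · rw [eq_bot_iff]
    rintro w ⟨hwW, -, ⟨y, hy, hyw⟩⟩
    rw [Subgroup.mem_bot]
    have hyeq : y = ⟨w, hZY (hWZ hwW)⟩ := Subtype.ext hyw
    rw [SetLike.mem_coe, MonoidHom.mem_ker, hyeq, relTrace_of_central M Y _ (hcen w hwW)] at hy
    have h1 := congrArg Subtype.val hy
    simp only [Subgroup.coe_pow, Subgroup.coe_one] at h1
    rw [hW] at hwW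
    exact hpw w hwW.1 _ hidx h1
  · apply le_antisymm (sup_le hWZ inf_le_left)
    intro z hz
    obtain ⟨w, hwW, k, hk, rfl⟩ := hdec z hz
    exact Subgroup.mul_mem _ (Subgroup.mem_sup_left hwW) (Subgroup.mem_sup_right hk)

end Trace

end Cfsg.Agent.Lib.Helper10.WCF
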