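import Mathlib
import Cfsg.Agent.Lib.Helper10.WCF1

set_option autoImplicit false

/-! The trace complement relative to a subgroup `N` containing the Sylow subgroup (helper10). -/

namespace Cfsg.Agent.Lib.Helper10.WCF

open Cfsg.Agent.Lib.Helper13

section Rel

variable {G : Type*} [Group G] [Finite G] {p : ℕ} [Fact p.Prime]

omit [Finite G] [Fact p.Prime] in
theorem normalizer_le_normalizer_centralizer (A : Subgroup G) :
    Subgroup.normalizer (A : Set G) ≤
      Subgroup.normalizer ((Subgroup.centralizer (A : Set G) : Subgroup G) : Set G) := by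
  have key : ∀ n ∈ Subgroup.normalizer (A : Set G), ∀ c ∈ Subgroup.centralizer (A : Set G),
      n * c * n⁻¹ ∈ Subgroup.centralizer (A : Set G) := by
    intro n hn c hc
    rw [Subgroup.mem_centralizer_iff]
    intro a ha
    have h1 : n⁻¹ * a * n ∈ A := by
      have := (Subgroup.mem_normalizer_iff.mp (Subgroup.inv_mem _ hn) a).mp ha
      rwa [inv_inv] at this
    have h2 := Subgroup.mem_centralizer_iff.mp hc _ h1
    calc a * (n * c * n⁻¹) = n * ((n⁻¹ * a * n) * c) * n⁻¹ := by group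
      _ = n * (c * (n⁻¹ * a * n)) * n⁻¹ := by rw [h2]
      _ = n * c * n⁻¹ * a := by group
  intro n hn
  rw [Subgroup.mem_normalizer_iff]
  intro c
  constructor
  · intro hc
    exact key n hn c hc
  · intro hc
    have := key n⁻¹ (Subgroup.inv_mem _ hn) _ hc
    rw [inv_inv] at this
    have e : n⁻¹ * (n * c * n⁻¹) * n = c := by group
    rwa [e] at this

/-- Relative form of `trace_complement`: inside `G`, with `N ≥ S` normalizing the abelian subgroup
`Y ≤ S` that contains `Z(S)`, the elements of `S` centralized by `N` form a direct factor of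
`Z(S)`. -/
theorem trace_complement_rel (S : Sylow p G) (N Y : Subgroup G) (hSN : (S : Subgroup G) ≤ N)
    (hYc : ∀ a ∈ Y, ∀ b ∈ Y, a * b = b * a) (hNY : N ≤ Subgroup.normalizer (Y : Set G))
    (hYS : Y ≤ (S : Subgroup G))
    (hZY : (S : Subgroup G) ⊓ Subgroup.centralizer ((S : Subgroup G) : Set G) ≤ Y) :
    ∃ K : Subgroup G, K ≤ (S : Subgroup G) ⊓ Subgroup.centralizer ((S : Subgroup G) : Set G) ∧
      ((S : Subgroup G) ⊓ Subgroup.centralizer (N : Set G)) ⊓ K = ⊥ ∧
      ((S : Subgroup G) ⊓ Subgroup.centralizer (N : Set G)) ⊔ K =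
        (S : Subgroup G) ⊓ Subgroup.centralizer ((S : Subgroup G) : Set G) := by
  have hYN : Y ≤ N := hYS.trans hSN
  haveI hY'n : (Y.subgroupOf N).Normal :=
    (Subgroup.normal_subgroupOf_iff_le_normalizer hYN).mpr hNY
  haveI hY'c : IsMulCommutative ↥(Y.subgroupOf N) := by
    refine ⟨⟨?_⟩⟩
    rintro ⟨a, ha⟩ ⟨b, hb⟩
    apply Subtype.ext
    apply Subtype.ext
    exact hYc _ (Subgroup.mem_subgroupOf.mp ha) _ (Subgroup.mem_subgroupOf.mp hb)
  have hS' : ((S.subtype hSN : Sylow p ↥N) : Subgroup ↥N) = (S : Subgroup G).subgroupOf N :=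
    Sylow.coe_subtype _ _
  have hYS' : Y.subgroupOf N ≤ ((S.subtype hSN : Sylow p ↥N) : Subgroup ↥N) := by
    rw [hS']
    intro y hy
    exact Subgroup.mem_subgroupOf.mpr (hYS (Subgroup.mem_subgroupOf.mp hy))
  have hmemZ : ∀ y : ↥N, y ∈ ((S.subtype hSN : Sylow p ↥N) : Subgroup ↥N) ⊓
      Subgroup.centralizer (((S.subtype hSN : Sylow p ↥N) : Subgroup ↥N) : Set ↥N) ↔
      (y : G) ∈ (S : Subgroup G) ⊓ Subgroup.centralizer ((S : Subgroup G) : Set G) := by
    intro y
    rw [hS', Subgroup.mem_inf, Subgroup.mem_inf, Subgroup.mem_subgroupOf,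
      Subgroup.mem_centralizer_iff, Subgroup.mem_centralizer_iff]
    constructor
    · rintro ⟨h1, h2⟩
      refine ⟨h1, ?_⟩
      intro s hs
      have := h2 ⟨s, hSN hs⟩ (Subgroup.mem_subgroupOf.mpr hs)
      exact congrArg Subtype.val this
    · rintro ⟨h1, h2⟩
      refine ⟨h1, ?_⟩
      intro s hs
      apply Subtype.ext
      exact h2 _ (Subgroup.mem_subgroupOf.mp hs)
  have hmemW : ∀ y : ↥N, y ∈ ((S.subtype hSN : Sylow p ↥N) : Subgroup ↥N) ⊓ Subgroup.center ↥N ↔
      (y : G) ∈ (S : Subgroup G) ⊓ Subgroup.centralizer (N : Set G) := by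
    intro y
    rw [hS', Subgroup.mem_inf, Subgroup.mem_inf, Subgroup.mem_subgroupOf,
      Subgroup.mem_center_iff, Subgroup.mem_centralizer_iff]
    constructor
    · rintro ⟨h1, h2⟩
      refine ⟨h1, ?_⟩
      intro n hn
      have := h2 ⟨n, hn⟩
      exact congrArg Subtype.val this
    · rintro ⟨h1, h2⟩
      refine ⟨h1, ?_⟩
      intro n
      apply Subtype.ext
      exact h2 _ n.2
  have hZY' : ((S.subtype hSN : Sylow p ↥N) : Subgroup ↥N) ⊓
      Subgroup.centralizer (((S.subtype hSN : Sylow p ↥N) : Subgroup ↥N) : Set ↥N) ≤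
      Y.subgroupOf N := by
    intro y hy
    exact Subgroup.mem_subgroupOf.mpr (hZY ((hmemZ y).mp hy))
  obtain ⟨K', hK'Z, hK'bot, -, hK'dec⟩ :=
    trace_complement (S.subtype hSN : Sylow p ↥N) (Y.subgroupOf N) hYS' hZY'
  refine ⟨K'.map N.subtype, ?_, ?_, ?_⟩
  · rintro _ ⟨k, hk, rfl⟩
    exact (hmemZ k).mp (hK'Z hk)
  · rw [eq_bot_iff]
    rintro x ⟨hxW, ⟨k, hk, rfl⟩⟩
    rw [Subgroup.mem_bot]
    have h1 : k ∈ ((S.subtype hSN : Sylow p ↥N) : Subgroup ↥N) ⊓ Subgroup.center ↥N :=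
      (hmemW k).mpr hxW
    have h2 : k ∈ (((S.subtype hSN : Sylow p ↥N) : Subgroup ↥N) ⊓ Subgroup.center ↥N) ⊓ K' :=
      ⟨h1, hk⟩
    rw [hK'bot, Subgroup.mem_bot] at h2
    rw [h2]
    rfl
  · apply le_antisymm
    · apply sup_le
      · exact inf_le_inf_left _ (Subgroup.centralizer_le hSN)
      · rintro _ ⟨k, hk, rfl⟩
        exact (hmemZ k).mp (hK'Z hk)
    · intro z hz
      have hzN : z ∈ N := hSN hz.1
      obtain ⟨w, hw, k, hk, hzwk⟩ := hK'dec ⟨z, hzN⟩ ((hmemZ ⟨z, hzN⟩).mpr hz)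
      have e : z = (w : G) * (k : G) := congrArg Subtype.val hzwk
      rw [e]
      exact Subgroup.mul_mem _ (Subgroup.mem_sup_left ((hmemW w).mp hw))
        (Subgroup.mem_sup_right ⟨k, hk, rfl⟩)

end Rel

end Cfsg.Agent.Lib.Helper10.WCF
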