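import Mathlib
import Cfsg.Agent.Lib.Helper10.WCF2
import Cfsg.Agent.Lib.Helper10.KI7
import Cfsg.Agent.Lib.Helper10.KJ2
import Cfsg.Agent.Lib.Helper13.WcElemF

set_option autoImplicit false

/-! The weakly closed elements of a Sylow `p`-subgroup form a direct factor of its centre, for odd
`p` (helper10). -/

universe u

namespace Cfsg.Agent.Lib.Helper10.WCF

open Cfsg.Agent.Lib.Helper13 Cfsg.Agent.Lib.Helper10.KI Cfsg.Agent.Lib.Helper10.KJ

section Odd

variable {p : ℕ} [Fact p.Prime]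

theorem wc_factor_odd (hp : p ≠ 2) {G : Type u} [Group G] [Finite G] (S : Sylow p G) :
    ∃ W K : Subgroup G,
      (∀ x : G, x ∈ W ↔ (x ∈ (S : Subgroup G) ∧
        ∀ g : G, g * x * g⁻¹ ∈ (S : Subgroup G) → g * x * g⁻¹ = x)) ∧
      K ≤ (S : Subgroup G) ⊓ Subgroup.centralizer ((S : Subgroup G) : Set G) ∧ W ⊓ K = ⊥ ∧
      W ⊔ K = (S : Subgroup G) ⊓ Subgroup.centralizer ((S : Subgroup G) : Set G) := by
  have hW := inducedFunctor_isConjugacyFunctor (G := G) Cfsg.kInfLower (isCharPFunctor_kInfLower p)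
  obtain ⟨Kf, hKf⟩ : ∃ Kf : Subgroup G,
      Kf = Cfsg.inducedFunctor (G := G) Cfsg.kInfLower (S : Subgroup G) := ⟨_, rfl⟩
  have hKfS : Kf ≤ (S : Subgroup G) := hKf ▸ (hW _ S.isPGroup').1
  have hSN : (S : Subgroup G) ≤ Subgroup.normalizer (Kf : Set G) :=
    hKf ▸ sylow_le_normalizer_kInfLower S.isPGroup'
  have hZK : (S : Subgroup G) ⊓ Subgroup.centralizer ((S : Subgroup G) : Set G) ≤ Kf :=
    hKf ▸ zIn_le_inducedFunctor_kInfLower _
  obtain ⟨K, hKZ, hbot, hsup⟩ := trace_complement_rel S (Subgroup.normalizer (Kf : Set G))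
    (Kf ⊓ Subgroup.centralizer (Kf : Set G)) hSN
    (by
      intro a ha b hb
      exact Subgroup.mem_centralizer_iff.mp hb.2 a ha.1)
    (le_normalizer_inf le_rfl (normalizer_le_normalizer_centralizer Kf))
    (inf_le_left.trans hKfS)
    (le_inf hZK (inf_le_right.trans (Subgroup.centralizer_le hKfS)))
  refine ⟨(S : Subgroup G) ⊓ Subgroup.centralizer ((Subgroup.normalizer (Kf : Set G) : Subgroup G) : Set G),
    K, ?_, hKZ, hbot, hsup⟩
  intro x
  constructor
  · intro hx
    obtain ⟨hxS, hxN⟩ := Subgroup.mem_inf.mp hx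
    refine ⟨hxS, ?_⟩
    intro g hg
    have hidx : ¬ p ∣ (S : Subgroup G).relIndex ⊤ := by
      rw [Subgroup.relIndex_top_right]
      exact S.not_dvd_index
    refine wc_elem_main (Cfsg.inducedFunctor (G := G) Cfsg.kInfLower) hW
      (fun P _ => zIn_le_inducedFunctor_kInfLower P) ?_ (Nat.card ↥(⊤ : Subgroup G)) ⊤
      (S : Subgroup G) le_rfl le_top S.isPGroup' hidx x hxS ?_ g (Subgroup.mem_top g) hg
    · intro H T hTH hTp hidx' hnot
      exact hloc_of_quadratic hp Cfsg.kInfLower (isCharPFunctor_kInfLower p)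
        (fun Γ _ _ S' hn => exists_quadratic_of_kinf_not_normal S' (Or.inl hn))
        H T hTH hTp hidx' hnot
    · intro m hm
      rw [← hKf] at hm
      have := Subgroup.mem_centralizer_iff.mp hxN m hm.2
      rw [this]
      group
  · rintro ⟨hxS, hwc⟩
    have hxZ : x ∈ (S : Subgroup G) ⊓ Subgroup.centralizer ((S : Subgroup G) : Set G) := by
      refine Subgroup.mem_inf.mpr ⟨hxS, ?_⟩
      rw [Subgroup.mem_centralizer_iff]
      intro s hs
      have h1 : s * x * s⁻¹ ∈ (S : Subgroup G) :=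
        Subgroup.mul_mem _ (Subgroup.mul_mem _ hs hxS) (Subgroup.inv_mem _ hs)
      have h2 := hwc s h1
      calc s * x = (s * x * s⁻¹) * s := by group
        _ = x * s := by rw [h2]
    refine Subgroup.mem_inf.mpr ⟨hxS, ?_⟩
    rw [Subgroup.mem_centralizer_iff]
    intro n hn
    have h1 : n * x * n⁻¹ ∈ Kf := (Subgroup.mem_normalizer_iff.mp hn x).mp (hZK hxZ)
    have h2 := hwc n (hKfS h1)
    calc n * x = (n * x * n⁻¹) * n := by group
      _ = x * n := by rw [h2]

end Odd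

end Cfsg.Agent.Lib.Helper10.WCF
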