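import Mathlib
import Cfsg.Agent.Lib.Helper10.WCF1
import Cfsg.Agent.Lib.Helper1.CFitting
import Cfsg.Agent.Lib.Helper1.PLength
import Cfsg.Agent.Lib.Helper5.PConstr
import Cfsg.Agent.Lib.Helper22.Sylow2
import Cfsg.Agent.Lib.Helper13.Basic

set_option autoImplicit false

/-! The weakly closed elements of a Sylow `p`-subgroup of a solvable group form a direct factor of
its centre (helper10). -/

namespace Cfsg.Agent.Lib.Helper10.WCF

open Cfsg.Agent.Lib.Helper13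

section Solv

variable {p : ℕ} [Fact p.Prime]

set_option maxHeartbeats 1600000 in
theorem wc_factor_solvable {G : Type*} [Group G] [Finite G] [Group.IsSolvable G] (S : Sylow p G) :
    ∃ W K : Subgroup G,
      (∀ x : G, x ∈ W ↔ (x ∈ (S : Subgroup G) ∧
        ∀ g : G, g * x * g⁻¹ ∈ (S : Subgroup G) → g * x * g⁻¹ = x)) ∧
      K ≤ (S : Subgroup G) ⊓ Subgroup.centralizer ((S : Subgroup G) : Set G) ∧ W ⊓ K = ⊥ ∧
      W ⊔ K = (S : Subgroup G) ⊓ Subgroup.centralizer ((S : Subgroup G) : Set G) := by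
  haveI hOn : (Cfsg.pPrimeCore p G).Normal := Cfsg.Agent.Lib.Helper1.pPrimeCore_normal p
  have hcop : (Nat.card ↥(Cfsg.pPrimeCore p G)).Coprime p :=
    Cfsg.Agent.Lib.Helper1.pPrimeCore_card_coprime p
  have hπ : Function.Surjective (QuotientGroup.mk' (Cfsg.pPrimeCore p G)) :=
    QuotientGroup.mk'_surjective _
  obtain ⟨π, hπdef⟩ : ∃ π : G →* G ⧸ Cfsg.pPrimeCore p G,
      π = QuotientGroup.mk' (Cfsg.pPrimeCore p G) := ⟨_, rfl⟩
  rw [← hπdef] at hπ
  have hker : ∀ x : G, π x = 1 ↔ x ∈ Cfsg.pPrimeCore p G := by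
    intro x
    rw [hπdef]
    exact QuotientGroup.eq_one_iff x
  obtain ⟨Sb, hSb⟩ : ∃ Sb : Sylow p (G ⧸ Cfsg.pPrimeCore p G),
      (Sb : Subgroup (G ⧸ Cfsg.pPrimeCore p G)) = (S : Subgroup G).map π :=
    ⟨Sylow.mapSurjective hπ S, Sylow.coe_mapSurjective hπ S⟩
  have hO : Cfsg.pPrimeCore p (G ⧸ Cfsg.pPrimeCore p G) = ⊥ :=
    Cfsg.Agent.Lib.Helper1.pPrimeCore_quotient_eq_bot p
  have hC := Cfsg.Agent.Lib.Helper1.centralizer_pCore_le p hO
  haveI hRn : (Cfsg.pCore p (G ⧸ Cfsg.pPrimeCore p G)).Normal :=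
    Cfsg.Agent.Lib.Helper1.pCore_normal p
  have hRS : Cfsg.pCore p (G ⧸ Cfsg.pPrimeCore p G) ≤ (Sb : Subgroup (G ⧸ Cfsg.pPrimeCore p G)) :=
    pCore_le_sylow Sb
  obtain ⟨R, hR⟩ : ∃ R : Subgroup (G ⧸ Cfsg.pPrimeCore p G),
      R = Cfsg.pCore p (G ⧸ Cfsg.pPrimeCore p G) := ⟨_, rfl⟩
  rw [← hR] at hC hRS
  haveI hRn' : R.Normal := hR ▸ hRn
  haveI hCn : (Subgroup.centralizer (R : Set (G ⧸ Cfsg.pPrimeCore p G))).Normal :=
    Subgroup.normal_centralizer
  haveI hYn : (R ⊓ Subgroup.centralizer (R : Set (G ⧸ Cfsg.pPrimeCore p G))).Normal := inferInstance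
  haveI hYc : IsMulCommutative ↥(R ⊓ Subgroup.centralizer (R : Set (G ⧸ Cfsg.pPrimeCore p G))) := by
    refine ⟨⟨?_⟩⟩
    rintro ⟨a, ha⟩ ⟨b, hb⟩
    apply Subtype.ext
    exact Subgroup.mem_centralizer_iff.mp hb.2 a ha.1
  have hYS : R ⊓ Subgroup.centralizer (R : Set (G ⧸ Cfsg.pPrimeCore p G)) ≤
      (Sb : Subgroup (G ⧸ Cfsg.pPrimeCore p G)) := inf_le_left.trans hRS
  have hZY : (Sb : Subgroup (G ⧸ Cfsg.pPrimeCore p G)) ⊓
      Subgroup.centralizer ((Sb : Subgroup (G ⧸ Cfsg.pPrimeCore p G)) : Set (G ⧸ Cfsg.pPrimeCore p G)) ≤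
      R ⊓ Subgroup.centralizer (R : Set (G ⧸ Cfsg.pPrimeCore p G)) := by
    intro z hz
    have h1 : z ∈ Subgroup.centralizer (R : Set (G ⧸ Cfsg.pPrimeCore p G)) :=
      Subgroup.centralizer_le hRS hz.2
    exact ⟨hC h1, h1⟩
  obtain ⟨Kb, hKbZ, hKbbot, -, hdec⟩ := trace_complement Sb
    (R ⊓ Subgroup.centralizer (R : Set (G ⧸ Cfsg.pPrimeCore p G))) hYS hZY
  -- injectivity on S
  have hSO : ∀ x ∈ (S : Subgroup G), π x = 1 → x = 1 := by
    intro x hx hx1
    exact Cfsg.Agent.Lib.Helper5.h5_eq_one_of_mem_pgroup_of_mem_coprime S.isPGroup' hcop hx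
      ((hker x).mp hx1)
  have hinj : ∀ a ∈ (S : Subgroup G), ∀ b ∈ (S : Subgroup G), π a = π b → a = b := by
    intro a ha b hb hab
    have h1 : a⁻¹ * b = 1 := by
      apply hSO _ (Subgroup.mul_mem _ (Subgroup.inv_mem _ ha) hb)
      rw [map_mul, map_inv, hab, inv_mul_cancel]
    exact inv_mul_eq_one.mp h1
  have hmemSb : ∀ x ∈ (S : Subgroup G), π x ∈ (Sb : Subgroup (G ⧸ Cfsg.pPrimeCore p G)) := by
    intro x hx
    rw [hSb]
    exact ⟨x, hx, rfl⟩
  have hcenS : ∀ x ∈ (S : Subgroup G),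
      π x ∈ Subgroup.centralizer ((Sb : Subgroup (G ⧸ Cfsg.pPrimeCore p G)) : Set (G ⧸ Cfsg.pPrimeCore p G)) →
      x ∈ Subgroup.centralizer ((S : Subgroup G) : Set G) := by
    intro x hx hxc
    rw [Subgroup.mem_centralizer_iff]
    intro s hs
    apply hinj _ (Subgroup.mul_mem _ hs hx) _ (Subgroup.mul_mem _ hx hs)
    rw [map_mul, map_mul]
    exact Subgroup.mem_centralizer_iff.mp hxc _ (hmemSb s hs)
  have hcenSb : ∀ x ∈ (S : Subgroup G) ⊓ Subgroup.centralizer ((S : Subgroup G) : Set G),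
      π x ∈ (Sb : Subgroup (G ⧸ Cfsg.pPrimeCore p G)) ⊓
      Subgroup.centralizer ((Sb : Subgroup (G ⧸ Cfsg.pPrimeCore p G)) : Set (G ⧸ Cfsg.pPrimeCore p G)) := by
    intro x hx
    refine Subgroup.mem_inf.mpr ⟨hmemSb x hx.1, ?_⟩
    rw [Subgroup.mem_centralizer_iff]
    intro y hy
    rw [SetLike.mem_coe, hSb] at hy
    obtain ⟨s, hs, rfl⟩ := hy
    rw [← map_mul, ← map_mul, Subgroup.mem_centralizer_iff.mp hx.2 s hs]
  have hWZ : ∀ x ∈ (S : Subgroup G), π x ∈ Subgroup.center (G ⧸ Cfsg.pPrimeCore p G) →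
      x ∈ Subgroup.centralizer ((S : Subgroup G) : Set G) := by
    intro x hx hxc
    exact hcenS x hx (Subgroup.center_le_centralizer _ hxc)
  refine ⟨(S : Subgroup G) ⊓ ((Sb : Subgroup (G ⧸ Cfsg.pPrimeCore p G)) ⊓
    Subgroup.center (G ⧸ Cfsg.pPrimeCore p G)).comap π, (S : Subgroup G) ⊓ Kb.comap π, ?_, ?_, ?_, ?_⟩
  · intro x
    constructor
    · intro hx
      obtain ⟨hxS, hxW⟩ := Subgroup.mem_inf.mp hx
      rw [Subgroup.mem_comap] at hxW
      refine ⟨hxS, ?_⟩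
      intro g hg
      apply hinj _ hg _ hxS
      rw [map_mul, map_mul, map_inv]
      have := Subgroup.mem_center_iff.mp hxW.2 (π g)
      rw [this]
      group
    · rintro ⟨hxS, hwc⟩
      have hxZ : x ∈ (S : Subgroup G) ⊓ Subgroup.centralizer ((S : Subgroup G) : Set G) := by
        refine Subgroup.mem_inf.mpr ⟨hxS, ?_⟩
        rw [Subgroup.mem_centralizer_iff]
        intro s hs
        have h1 : s * x * s⁻¹ ∈ (S : Subgroup G) :=
          Subgroup.mul_mem _ (Subgroup.mul_mem _ hs hxS) (Subgroup.inv_mem _ hs)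
        have h2 := hwc s h1
        calc s * x = (s * x * s⁻¹) * s := by group
          _ = x * s := by rw [h2]
      refine Subgroup.mem_inf.mpr ⟨hxS, ?_⟩
      rw [Subgroup.mem_comap]
      refine Subgroup.mem_inf.mpr ⟨hmemSb x hxS, ?_⟩
      rw [Subgroup.mem_center_iff]
      intro gb
      obtain ⟨g, rfl⟩ := hπ gb
      have hxY := hZY (hcenSb x hxZ)
      have hyY : π (g * x * g⁻¹) ∈ R ⊓ Subgroup.centralizer (R : Set (G ⧸ Cfsg.pPrimeCore p G)) := by
        rw [map_mul, map_mul, map_inv]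
        exact hYn.conj_mem _ hxY _
      have hyS := hYS hyY
      rw [hSb] at hyS
      obtain ⟨s, hs, hsy⟩ := hyS
      have hyL : g * x * g⁻¹ ∈ (S : Subgroup G) ⊔ Cfsg.pPrimeCore p G := by
        have e : g * x * g⁻¹ = s * (s⁻¹ * (g * x * g⁻¹)) := by group
        rw [e]
        refine Subgroup.mul_mem _ (Subgroup.mem_sup_left hs) (Subgroup.mem_sup_right ?_)
        rw [← hker, map_mul, map_inv, hsy, inv_mul_cancel]
      obtain ⟨k, hk⟩ := (IsPGroup.iff_orderOf.mp S.isPGroup') ⟨x, hxS⟩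
      have hk' : orderOf (g * x * g⁻¹) = p ^ k := by
        have h1 : orderOf ((MulAut.conj g) x) = orderOf x :=
          orderOf_injective (MulAut.conj g).toMonoidHom (MulAut.conj g).injective x
        rw [MulAut.conj_apply] at h1
        rw [h1, ← hk, Subgroup.orderOf_mk]
      have hidx : ¬ p ∣ (S : Subgroup G).relIndex ((S : Subgroup G) ⊔ Cfsg.pPrimeCore p G) := by
        intro hdvd
        exact S.not_dvd_index (dvd_trans hdvd (Subgroup.relIndex_dvd_index_of_le le_sup_left))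
      obtain ⟨l, hlL, hlS⟩ := Cfsg.Agent.Lib.Helper22.exists_conj_mem_of_pelement p
        ((S : Subgroup G) ⊔ Cfsg.pPrimeCore p G) (S : Subgroup G) S.isPGroup' hidx
        (g * x * g⁻¹) hyL k hk'
      have e1 : l⁻¹ * (g * x * g⁻¹) * l = (l⁻¹ * g) * x * (l⁻¹ * g)⁻¹ := by group
      rw [e1] at hlS
      have h3 := hwc _ hlS
      obtain ⟨s', hs', c, hc, hscl⟩ := Subgroup.mem_sup_of_normal_right.mp hlL
      have hπl : π l = π s' := by
        rw [← hscl, map_mul, (hker c).mpr hc, mul_one]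
      have h4 : g * x * g⁻¹ = l * x * l⁻¹ := by
        have : g * x * g⁻¹ = l * ((l⁻¹ * g) * x * (l⁻¹ * g)⁻¹) * l⁻¹ := by group
        rw [this, h3]
      have h5 : π (g * x * g⁻¹) = π x := by
        rw [h4, map_mul, map_mul, map_inv, hπl, ← map_inv, ← map_mul, ← map_mul]
        congr 1
        have := Subgroup.mem_centralizer_iff.mp hxZ.2 s' hs'
        rw [this]
        group
      rw [map_mul, map_mul, map_inv] at h5
      calc π g * π x = (π g * π x * (π g)⁻¹) * π g := by group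
        _ = π x * π g := by rw [h5]
  · intro k hk
    obtain ⟨hkS, hkK⟩ := Subgroup.mem_inf.mp hk
    rw [Subgroup.mem_comap] at hkK
    exact Subgroup.mem_inf.mpr ⟨hkS, hcenS k hkS (hKbZ hkK).2⟩
  · rw [eq_bot_iff]
    intro x hx
    obtain ⟨hxW, hxK⟩ := Subgroup.mem_inf.mp hx
    obtain ⟨hxS, hxW'⟩ := Subgroup.mem_inf.mp hxW
    obtain ⟨-, hxK'⟩ := Subgroup.mem_inf.mp hxK
    rw [Subgroup.mem_comap] at hxW' hxK'
    have h1 : π x ∈ ((Sb : Subgroup (G ⧸ Cfsg.pPrimeCore p G)) ⊓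
        Subgroup.center (G ⧸ Cfsg.pPrimeCore p G)) ⊓ Kb := ⟨hxW', hxK'⟩
    rw [hKbbot, Subgroup.mem_bot] at h1
    rw [Subgroup.mem_bot]
    exact hSO x hxS h1
  · apply le_antisymm
    · apply sup_le
      · intro x hx
        obtain ⟨hxS, hxW'⟩ := Subgroup.mem_inf.mp hx
        rw [Subgroup.mem_comap] at hxW'
        exact Subgroup.mem_inf.mpr ⟨hxS, hWZ x hxS hxW'.2⟩
      · intro k hk
        obtain ⟨hkS, hkK⟩ := Subgroup.mem_inf.mp hk
        rw [Subgroup.mem_comap] at hkK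
        exact Subgroup.mem_inf.mpr ⟨hkS, hcenS k hkS (hKbZ hkK).2⟩
    · intro z hz
      obtain ⟨wb, hwb, kb, hkb, hzwk⟩ := hdec (π z) (hcenSb z hz)
      have hwbS := hwb.1
      rw [hSb] at hwbS
      obtain ⟨w, hw, rfl⟩ := hwbS
      have hkS : w⁻¹ * z ∈ (S : Subgroup G) :=
        Subgroup.mul_mem _ (Subgroup.inv_mem _ hw) hz.1
      have hπk : π (w⁻¹ * z) = kb := by
        rw [map_mul, map_inv, hzwk]
        group
      have e : z = w * (w⁻¹ * z) := by group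
      rw [e]
      refine Subgroup.mul_mem _ (Subgroup.mem_sup_left ?_) (Subgroup.mem_sup_right ?_)
      · exact Subgroup.mem_inf.mpr ⟨hw, Subgroup.mem_comap.mpr hwb⟩
      · refine Subgroup.mem_inf.mpr ⟨hkS, ?_⟩
        rw [Subgroup.mem_comap, hπk]
        exact hkb

end Solv

end Cfsg.Agent.Lib.Helper10.WCF
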