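import Cfsg.Agent.Lib.Helper27.WSP.Defs
import Cfsg.Agent.Lib.Helper13.WSPA2

/-!
# WSP piece L1 : every group element has an intertwiner of determinant one
-/

set_option autoImplicit false

namespace Cfsg.Agent.Lib.Helper27.WSP

section L0

variable {V : Type*} [AddCommGroup V] {G : Type*} [Group G]

/-- the additive automorphism of `V` attached to a group element -/
def h10_actEquiv (a : G →* AddMonoid.End V) (g : G) : V ≃+ V where
  toFun := a g
  invFun := a g⁻¹
  left_inv := fun v => act_cancel_inv a g v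
  right_inv := fun v => act_inv_cancel a g v
  map_add' := fun v w => map_add (a g) v w

theorem h10_actEquiv_apply (a : G →* AddMonoid.End V) (g : G) (v : V) :
    h10_actEquiv a g v = a g v := rfl

end L0

section L

variable {V : Type*} [AddCommGroup V] [Fintype V] {W : Type*} [AddCommGroup W] [Module ℂ W]
  [FiniteDimensional ℂ W] {c : V → V → ℂ} {π : V → Module.End ℂ W}
  {G : Type*} [Group G]

/-- L1 : every group element has an intertwiner of determinant one -/
theorem liftGroup_surj (h : IsWeyl c π) (a : G →* AddMonoid.End V)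
    (ha : ∀ g v w, c (a g v) (a g w) = c v w) (N : ℕ) (g : G) :
    ∃ M : (Module.End ℂ W)ˣ, (g, M) ∈ liftGroup π a N := by
  obtain ⟨M0, hM0⟩ := exists_intertwiner h (h10_actEquiv a g) (fun v w => ha g v w)
  have hdet : LinearMap.det (M0 : Module.End ℂ W) ≠ 0 :=
    (IsUnit.map LinearMap.det M0.isUnit).ne_zero
  obtain ⟨lam, hlam⟩ := IsAlgClosed.exists_pow_nat_eq
    ((LinearMap.det (M0 : Module.End ℂ W))⁻¹) h.pos
  have hlam0 : lam ≠ 0 := by
    rintro rfl
    rw [zero_pow h.pos.ne'] at hlam
    exact inv_ne_zero hdet hlam.symm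
  let M : (Module.End ℂ W)ˣ :=
    { val := lam • (M0 : Module.End ℂ W)
      inv := lam⁻¹ • ((M0⁻¹ : (Module.End ℂ W)ˣ) : Module.End ℂ W)
      val_inv := by
        rw [smul_mul_smul_comm, mul_inv_cancel₀ hlam0, one_smul, Units.mul_inv]
      inv_val := by
        rw [smul_mul_smul_comm, inv_mul_cancel₀ hlam0, one_smul, Units.inv_mul] }
  refine ⟨M, ?_⟩
  rw [mem_liftGroup]
  refine ⟨fun v => ?_, ?_⟩
  · show (lam • (M0 : Module.End ℂ W)) * π v = π (a g v) * (lam • (M0 : Module.End ℂ W))
    rw [smul_mul_assoc, mul_smul_comm, hM0 v, h10_actEquiv_apply]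
  · show LinearMap.det (lam • (M0 : Module.End ℂ W)) ^ N = 1
    rw [LinearMap.det_smul, hlam, inv_mul_cancel₀ hdet, one_pow]

end L

end Cfsg.Agent.Lib.Helper27.WSP
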