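import Cfsg.Agent.Lib.Helper27.WSP.Defs
import Cfsg.Agent.Lib.Helper13.WSPA3

/-!
# WSP piece L2 : the kernel of the projection of the lift group, finiteness
-/

set_option autoImplicit false

namespace Cfsg.Agent.Lib.Helper27.WSP

section L

variable {V : Type*} [AddCommGroup V] [Fintype V] {W : Type*} [AddCommGroup W] [Module ℂ W]
  [FiniteDimensional ℂ W] {c : V → V → ℂ} {π : V → Module.End ℂ W}
  {G : Type*} [Group G]

/-- L2 : the kernel of the projection consists of scalars which are roots of unity -/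
theorem liftGroup_ker (h : IsWeyl c π) (a : G →* AddMonoid.End V) (N : ℕ)
    (x : G × (Module.End ℂ W)ˣ) (hx : x ∈ liftGroup π a N) (h1 : x.1 = 1) :
    ∃ z : ℂ, z ^ (Module.finrank ℂ W * N) = 1 ∧
      (x.2 : Module.End ℂ W) = z • (1 : Module.End ℂ W) := by
  obtain ⟨hx1, hx2⟩ := mem_liftGroup.1 hx
  have hcomm : ∀ v, (x.2 : Module.End ℂ W) * π v = π v * (x.2 : Module.End ℂ W) := by
    intro v
    have := hx1 v
    rw [h1, act_one] at this
    exact this
  obtain ⟨z, hz⟩ := weyl_commutant h _ hcomm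
  refine ⟨z, ?_, hz⟩
  rw [hz, LinearMap.det_smul, map_one, mul_one, ← pow_mul] at hx2
  exact hx2

/-- L2 : the lift group is finite -/
theorem liftGroup_finite [Finite G] (h : IsWeyl c π) (a : G →* AddMonoid.End V) (N : ℕ)
    (hN : 0 < N) : Finite ↥(liftGroup π a N) := by
  classical
  set m : ℕ := Module.finrank ℂ W * N with hm
  have hmpos : 0 < m := Nat.mul_pos h.pos hN
  let pr : ↥(liftGroup π a N) →* G :=
    (MonoidHom.fst G (Module.End ℂ W)ˣ).comp (liftGroup π a N).subtype
  rw [pr.finite_iff_finite_ker_range]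
  refine ⟨?_, inferInstance⟩
  -- the kernel embeds into the `m`-th roots of unity
  have hfin : Set.Finite {z : ℂ | z ^ m = 1} := by
    have : {z : ℂ | z ^ m = 1} = ↑(Polynomial.nthRootsFinset m (1 : ℂ)) := by
      ext z
      simp [Polynomial.mem_nthRootsFinset hmpos]
    rw [this]
    exact Finset.finite_toSet _
  have : Finite ↥{z : ℂ | z ^ m = 1} := hfin.to_subtype
  have hker : ∀ x : ↥pr.ker, ∃ z : ℂ, z ^ m = 1 ∧
      (((x : ↥(liftGroup π a N)) : G × (Module.End ℂ W)ˣ).2 : Module.End ℂ W)
        = z • (1 : Module.End ℂ W) := by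
    intro x
    have hx1 : ((x : ↥(liftGroup π a N)) : G × (Module.End ℂ W)ˣ).1 = 1 := x.2
    exact liftGroup_ker h a N _ (x : ↥(liftGroup π a N)).2 hx1
  let f : ↥pr.ker → ↥{z : ℂ | z ^ m = 1} := fun x =>
    ⟨Classical.choose (hker x), (Classical.choose_spec (hker x)).1⟩
  have hf : Function.Injective f := by
    intro x y hxy
    have hzx := (Classical.choose_spec (hker x)).2
    have hzy := (Classical.choose_spec (hker y)).2
    have hz : Classical.choose (hker x) = Classical.choose (hker y) := congrArg Subtype.val hxy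
    have hx1 : ((x : ↥(liftGroup π a N)) : G × (Module.End ℂ W)ˣ).1 = 1 := x.2
    have hy1 : ((y : ↥(liftGroup π a N)) : G × (Module.End ℂ W)ˣ).1 = 1 := y.2
    apply Subtype.ext
    apply Subtype.ext
    apply Prod.ext
    · rw [hx1, hy1]
    · apply Units.ext
      rw [hzx, hzy, hz]
  exact Finite.of_injective f hf

end L

end Cfsg.Agent.Lib.Helper27.WSP
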