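import Mathlib
import Cfsg.Agent.Lib.Helper5.Card

set_option autoImplicit false

namespace Cfsg.Agent.Lib.Helper10

section WAbelian

variable {𝔄 : Type*} [Group 𝔄] {V : Type*} [CommGroup V]

def fixSub (ρ : 𝔄 →* MulAut V) (D : Subgroup 𝔄) : Subgroup V where
  carrier := {v | ∀ d ∈ D, ρ d v = v}
  one_mem' := fun d _ => map_one _
  mul_mem' := fun {a b} ha hb d hd => by rw [map_mul, ha d hd, hb d hd]
  inv_mem' := fun {a} ha d hd => by rw [map_inv, ha d hd]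

lemma mem_fixSub {ρ : 𝔄 →* MulAut V} {D : Subgroup 𝔄} {v : V} :
    v ∈ fixSub ρ D ↔ ∀ d ∈ D, ρ d v = v := Iff.rfl

lemma fixSub_anti (ρ : 𝔄 →* MulAut V) {D D' : Subgroup 𝔄} (h : D ≤ D') :
    fixSub ρ D' ≤ fixSub ρ D := fun _ hv d hd => hv d (h hd)

lemma fixSub_inf_le (ρ : 𝔄 →* MulAut V) (B D : Subgroup 𝔄) :
    fixSub ρ B ⊓ fixSub ρ D ≤ fixSub ρ (B ⊔ D) := by
  intro x hx
  let S : Subgroup 𝔄 :=
    { carrier := {d | ρ d x = x}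
      one_mem' := by simp
      mul_mem' := by
        intro a b ha hb
        show ρ (a * b) x = x
        rw [map_mul, MulAut.mul_apply, hb, ha]
      inv_mem' := by
        intro a ha
        show ρ a⁻¹ x = x
        rw [map_inv]
        exact (MulEquiv.symm_apply_eq _).2 ha.symm }
  have hS : B ⊔ D ≤ S := sup_le (fun d hd => hx.1 d hd) (fun d hd => hx.2 d hd)
  intro d hd
  exact hS hd

noncomputable def normHom [Finite 𝔄] (ρ : 𝔄 →* MulAut V) (B : Subgroup 𝔄) : V →* V :=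
  letI := Fintype.ofFinite ↥B
  ∏ h : ↥B, ((ρ (h : 𝔄) : MulAut V).toMonoidHom)

lemma normHom_apply [Finite 𝔄] (ρ : 𝔄 →* MulAut V) (B : Subgroup 𝔄) (x : V) :
    normHom ρ B x = (letI := Fintype.ofFinite ↥B; ∏ h : ↥B, ρ (h : 𝔄) x) := by
  unfold normHom
  let _ := Fintype.ofFinite ↥B
  rw [MonoidHom.finsetProd_apply]
  rfl

lemma normHom_of_mem [Finite 𝔄] (ρ : 𝔄 →* MulAut V) (B : Subgroup 𝔄) {x : V}
    (hx : x ∈ fixSub ρ B) : normHom ρ B x = x ^ Nat.card ↥B := by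
  rw [normHom_apply]
  let _ := Fintype.ofFinite ↥B
  have h1 : ∀ h ∈ (Finset.univ : Finset ↥B), ρ (h : 𝔄) x = x := fun h _ => hx (h : 𝔄) h.2
  rw [Finset.prod_congr rfl h1, Finset.prod_const, Finset.card_univ, Nat.card_eq_fintype_card]

lemma normHom_mem [Finite 𝔄] (ρ : 𝔄 →* MulAut V) (B : Subgroup 𝔄) (x : V) :
    normHom ρ B x ∈ fixSub ρ B := by
  intro d hd
  rw [normHom_apply]
  let _ := Fintype.ofFinite ↥B
  rw [map_prod]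
  apply Fintype.prod_equiv (Equiv.mulLeft (⟨d, hd⟩ : ↥B))
  intro h
  show ρ d (ρ (h : 𝔄) x) = ρ ((⟨d, hd⟩ * h : ↥B) : 𝔄) x
  rw [Subgroup.coe_mul, map_mul, MulAut.mul_apply]

lemma normHom_mem_of_mem [Finite 𝔄] (ρ : 𝔄 →* MulAut V) (hcomm : ∀ x y : 𝔄, x * y = y * x)
    (B D : Subgroup 𝔄) {x : V} (hx : x ∈ fixSub ρ D) : normHom ρ B x ∈ fixSub ρ D := by
  intro d hd
  rw [normHom_apply]
  let _ := Fintype.ofFinite ↥B
  rw [map_prod]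
  apply Finset.prod_congr rfl
  intro h _
  have h1 : ρ d (ρ (h : 𝔄) x) = ρ (d * h) x := by rw [map_mul, MulAut.mul_apply]
  rw [h1, hcomm d h, map_mul, MulAut.mul_apply, hx d hd]

lemma card_sup_mul_card_inf_comm (S T : Subgroup V) :
    Nat.card ↥(S ⊔ T) * Nat.card ↥(S ⊓ T) = Nat.card ↥S * Nat.card ↥T := by
  have h1 := Cfsg.Agent.Lib.Helper5.card_mul_relIndex_of_le (le_sup_right : T ≤ S ⊔ T)
  rw [Subgroup.relIndex_sup_right] at h1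
  have h2 := Cfsg.Agent.Lib.Helper5.card_mul_relIndex_of_le (inf_le_left : S ⊓ T ≤ S)
  rw [Subgroup.inf_relIndex_left] at h2
  rw [← h1, ← h2]
  ring

lemma mem_of_pow_mem_coprime [Finite V] (F : Subgroup V) {n : ℕ}
    (hn : n.Coprime (Nat.card V)) {x : V} (hx : x ^ n ∈ F) : x ∈ F := by
  have h1 : n.Coprime (orderOf x) := Nat.Coprime.coprime_dvd_right (orderOf_dvd_natCard x) hn
  obtain ⟨m, hm⟩ := exists_pow_eq_self_of_coprime h1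
  rw [← hm]
  exact F.pow_mem hx m

lemma direct_step [Finite 𝔄] [Finite V] (ρ : 𝔄 →* MulAut V) (hcomm : ∀ x y : 𝔄, x * y = y * x)
    (J : Finset (Subgroup 𝔄)) (B₀ : Subgroup 𝔄)
    (hcop : (Nat.card ↥B₀).Coprime (Nat.card V))
    (hpair : ∀ B ∈ J, B ⊔ B₀ = ⊤) :
    (fixSub ρ ⊤ ⊔ ⨆ B ∈ J, fixSub ρ B) ⊓ fixSub ρ B₀ = fixSub ρ ⊤ := by
  apply le_antisymm
  · have hle : (fixSub ρ ⊤ ⊔ ⨆ B ∈ J, fixSub ρ B) ≤ (fixSub ρ ⊤).comap (normHom ρ B₀) := by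
      apply sup_le
      · intro x hx
        exact normHom_mem_of_mem ρ hcomm B₀ ⊤ hx
      · apply iSup₂_le
        intro B hB x hx
        rw [Subgroup.mem_comap, ← hpair B hB]
        exact fixSub_inf_le ρ B B₀ ⟨normHom_mem_of_mem ρ hcomm B₀ B hx, normHom_mem ρ B₀ x⟩
    intro x hx
    have h1 := hle hx.1
    rw [Subgroup.mem_comap, normHom_of_mem ρ B₀ hx.2] at h1
    exact mem_of_pow_mem_coprime _ hcop h1
  · exact le_inf le_sup_left (fixSub_anti ρ le_top)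

theorem abelian_formula [Finite 𝔄] [Finite V] (ρ : 𝔄 →* MulAut V)
    (hcomm : ∀ x y : 𝔄, x * y = y * x) (𝓙 : Finset (Subgroup 𝔄))
    (hcop : ∀ B ∈ 𝓙, (Nat.card ↥B).Coprime (Nat.card V))
    (hpair : ∀ B ∈ 𝓙, ∀ B' ∈ 𝓙, B ≠ B' → B ⊔ B' = ⊤)
    (hgen : fixSub ρ ⊤ ⊔ ⨆ B ∈ 𝓙, fixSub ρ B = ⊤) :
    Nat.card V * Nat.card ↥(fixSub ρ ⊤) ^ 𝓙.card =
      Nat.card ↥(fixSub ρ ⊤) * ∏ B ∈ 𝓙, Nat.card ↥(fixSub ρ B) := by
  classical
  have key : ∀ J : Finset (Subgroup 𝔄), J ⊆ 𝓙 →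
      Nat.card ↥(fixSub ρ ⊤ ⊔ ⨆ B ∈ J, fixSub ρ B) * Nat.card ↥(fixSub ρ ⊤) ^ J.card =
        Nat.card ↥(fixSub ρ ⊤) * ∏ B ∈ J, Nat.card ↥(fixSub ρ B) := by
    intro J
    induction J using Finset.induction_on with
    | empty =>
      intro _
      simp
    | insert B₀ J hB₀ ih =>
      intro hJ
      have hJ' : J ⊆ 𝓙 := fun B hB => hJ (Finset.mem_insert_of_mem hB)
      have hB₀𝓙 : B₀ ∈ 𝓙 := hJ (Finset.mem_insert_self _ _)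
      have hdir := direct_step ρ hcomm J B₀ (hcop B₀ hB₀𝓙) (fun B hB =>
        hpair B (hJ' hB) B₀ hB₀𝓙 (fun h => hB₀ (h ▸ hB)))
      have hcount := card_sup_mul_card_inf_comm (fixSub ρ ⊤ ⊔ ⨆ B ∈ J, fixSub ρ B) (fixSub ρ B₀)
      rw [hdir] at hcount
      have hsup : (fixSub ρ ⊤ ⊔ ⨆ B ∈ insert B₀ J, fixSub ρ B) =
          (fixSub ρ ⊤ ⊔ ⨆ B ∈ J, fixSub ρ B) ⊔ fixSub ρ B₀ := by
        rw [Finset.iSup_insert, sup_comm (fixSub ρ B₀), sup_assoc]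
      rw [hsup, Finset.prod_insert hB₀, Finset.card_insert_of_notMem hB₀, pow_succ]
      have ih' := ih hJ'
      calc Nat.card ↥((fixSub ρ ⊤ ⊔ ⨆ B ∈ J, fixSub ρ B) ⊔ fixSub ρ B₀) *
            (Nat.card ↥(fixSub ρ ⊤) ^ J.card * Nat.card ↥(fixSub ρ ⊤))
          = (Nat.card ↥((fixSub ρ ⊤ ⊔ ⨆ B ∈ J, fixSub ρ B) ⊔ fixSub ρ B₀) *
              Nat.card ↥(fixSub ρ ⊤)) * Nat.card ↥(fixSub ρ ⊤) ^ J.card := by ring
        _ = (Nat.card ↥(fixSub ρ ⊤ ⊔ ⨆ B ∈ J, fixSub ρ B) * Nat.card ↥(fixSub ρ B₀)) *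
              Nat.card ↥(fixSub ρ ⊤) ^ J.card := by rw [hcount]
        _ = (Nat.card ↥(fixSub ρ ⊤ ⊔ ⨆ B ∈ J, fixSub ρ B) * Nat.card ↥(fixSub ρ ⊤) ^ J.card) *
              Nat.card ↥(fixSub ρ B₀) := by ring
        _ = (Nat.card ↥(fixSub ρ ⊤) * ∏ B ∈ J, Nat.card ↥(fixSub ρ B)) *
              Nat.card ↥(fixSub ρ B₀) := by rw [ih']
        _ = Nat.card ↥(fixSub ρ ⊤) *
              (Nat.card ↥(fixSub ρ B₀) * ∏ B ∈ J, Nat.card ↥(fixSub ρ B)) := by ring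
  have h := key 𝓙 (Finset.Subset.refl _)
  rw [hgen, Subgroup.card_top] at h
  exact h

end WAbelian

end Cfsg.Agent.Lib.Helper10
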