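import Mathlib
import Cfsg.Prelude.Def_Local
import Cfsg.Agent.Lib.Helper10.Wielandt1
import Cfsg.Agent.Lib.Helper10.CoprimeGen
import Cfsg.Agent.Lib.Lead.Coprime

set_option autoImplicit false

namespace Cfsg.Agent.Lib.Helper10

open Cfsg

section WConcrete

variable {𝔄 : Type*} [Group 𝔄] {H : Type*} [Group H]

def cen (φ : 𝔄 →* H) (K : Subgroup H) (D : Subgroup 𝔄) : Subgroup H :=
  K ⊓ Subgroup.centralizer ((D.map φ : Subgroup H) : Set H)

lemma cen_le (φ : 𝔄 →* H) (K : Subgroup H) (D : Subgroup 𝔄) : cen φ K D ≤ K := inf_le_left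

lemma mem_cen {φ : 𝔄 →* H} {K : Subgroup H} {D : Subgroup 𝔄} {x : H} :
    x ∈ cen φ K D ↔ x ∈ K ∧ ∀ d ∈ D, φ d * x = x * φ d := by
  unfold cen
  rw [Subgroup.mem_inf, Subgroup.mem_centralizer_iff]
  constructor
  · rintro ⟨h1, h2⟩
    exact ⟨h1, fun d hd => h2 (φ d) (Subgroup.mem_map_of_mem φ hd)⟩
  · rintro ⟨h1, h2⟩
    refine ⟨h1, ?_⟩
    rintro _ ⟨d, hd, rfl⟩
    exact h2 d hd

lemma cen_mono_left (φ : 𝔄 →* H) {K K' : Subgroup H} (h : K ≤ K') (D : Subgroup 𝔄) :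
    cen φ K D ≤ cen φ K' D := inf_le_inf_right _ h

lemma cen_inf (φ : 𝔄 →* H) (K K' : Subgroup H) (D : Subgroup 𝔄) :
    cen φ K D ⊓ cen φ K' D = cen φ (K ⊓ K') D := by
  ext x
  simp only [Subgroup.mem_inf, mem_cen]
  tauto

lemma cen_of_le (φ : 𝔄 →* H) {Z K : Subgroup H} (h : Z ≤ K) (D : Subgroup 𝔄) :
    cen φ K D ⊓ Z = cen φ Z D := by
  ext x
  simp only [Subgroup.mem_inf, mem_cen]
  constructor
  · rintro ⟨⟨_, h2⟩, h3⟩
    exact ⟨h3, h2⟩
  · rintro ⟨h1, h2⟩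
    exact ⟨⟨h h1, h2⟩, h1⟩

def conjRep (φ : 𝔄 →* H) (K : Subgroup H)
    (hφK : ∀ d, φ d ∈ Subgroup.normalizer (K : Set H)) : 𝔄 →* MulAut ↥K where
  toFun d := Cfsg.Agent.Lib.Lead.conjAut K (φ d) (hφK d)
  map_one' := by
    ext k
    simp [Cfsg.Agent.Lib.Lead.conjAut_coe]
  map_mul' := fun d d' => by
    ext k
    simp [Cfsg.Agent.Lib.Lead.conjAut_coe, mul_assoc]

lemma conjRep_coe (φ : 𝔄 →* H) (K : Subgroup H)
    (hφK : ∀ d, φ d ∈ Subgroup.normalizer (K : Set H)) (d : 𝔄) (k : ↥K) :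
    ((conjRep φ K hφK d k : ↥K) : H) = φ d * k * (φ d)⁻¹ := rfl

lemma isPGroup_of_exp {p : ℕ} (hexp : ∀ x : 𝔄, x ^ p = 1) : IsPGroup p 𝔄 := by
  intro g
  exact ⟨1, by rw [pow_one]; exact hexp g⟩

lemma coprime_card_sub [Finite 𝔄] {p : ℕ} [Fact p.Prime] (hexp : ∀ x : 𝔄, x ^ p = 1)
    (B : Subgroup 𝔄) {n : ℕ} (hn : ¬ p ∣ n) : (Nat.card ↥B).Coprime n := by
  have hp : p.Prime := Fact.out
  have hB : IsPGroup p ↥B := (isPGroup_of_exp hexp).to_subgroup B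
  obtain ⟨m, hm⟩ := IsPGroup.exists_card_eq hB
  rw [hm]
  exact Nat.Coprime.pow_left _ ((Nat.Prime.coprime_iff_not_dvd hp).2 hn)

lemma sup_eq_top_of_index_prime [Finite 𝔄] {p : ℕ} [Fact p.Prime] {B B' : Subgroup 𝔄}
    (hB : B.index = p) (hB' : B'.index = p) (hne : B ≠ B') : B ⊔ B' = ⊤ := by
  have hp : p.Prime := Fact.out
  by_contra htop
  have h1 : (B ⊔ B').index ∣ p := hB ▸ Subgroup.index_dvd_of_le le_sup_left
  have h2 : (B ⊔ B').index ≠ 1 := fun h => htop (Subgroup.index_eq_one.1 h)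
  have h3 : (B ⊔ B').index = p := ((Nat.dvd_prime hp).1 h1).resolve_left h2
  have hcard : ∀ C : Subgroup 𝔄, C.index = p → C ≤ B ⊔ B' → C = B ⊔ B' := by
    intro C hC hle
    apply Subgroup.eq_of_le_of_card_ge hle
    have e1 := Subgroup.card_mul_index C
    have e2 := Subgroup.card_mul_index (B ⊔ B')
    rw [hC] at e1
    rw [h3] at e2
    have : Nat.card ↥C * p = Nat.card ↥(B ⊔ B') * p := by rw [e1, e2]
    exact (Nat.eq_of_mul_eq_mul_right hp.pos this).ge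
  exact hne ((hcard B hB le_sup_left).trans (hcard B' hB' le_sup_right).symm)

@[reducible] def commGroupOfComm (K : Subgroup H) (hKab : ∀ x ∈ K, ∀ y ∈ K, x * y = y * x) :
    CommGroup ↥K :=
  { (inferInstance : Group ↥K) with mul_comm := fun a b => Subtype.ext (hKab a a.2 b b.2) }

theorem map_fixSub_conjRep (φ : 𝔄 →* H) (K : Subgroup H)
    (hφK : ∀ d, φ d ∈ Subgroup.normalizer (K : Set H))
    (hKab : ∀ x ∈ K, ∀ y ∈ K, x * y = y * x) (D : Subgroup 𝔄) :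
    (@fixSub 𝔄 _ ↥K (commGroupOfComm K hKab) (conjRep φ K hφK) D).map K.subtype = cen φ K D := by
  ext x
  rw [Subgroup.mem_map, mem_cen]
  constructor
  · rintro ⟨k, hk, rfl⟩
    refine ⟨k.2, fun d hd => ?_⟩
    have h1 := hk d hd
    have h2 : φ d * (k : H) * (φ d)⁻¹ = (k : H) := by
      rw [← conjRep_coe φ K hφK d k]
      exact congrArg Subtype.val h1
    show φ d * (k : H) = (k : H) * φ d
    calc φ d * (k : H) = φ d * (k : H) * (φ d)⁻¹ * φ d := by group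
      _ = (k : H) * φ d := by rw [h2]
  · rintro ⟨hxK, hx⟩
    refine ⟨⟨x, hxK⟩, ?_, rfl⟩
    intro d hd
    apply Subtype.ext
    rw [conjRep_coe]
    show φ d * x * (φ d)⁻¹ = x
    rw [hx d hd]
    group


theorem generation_cen [Finite 𝔄] [Finite H] (p : ℕ) [Fact p.Prime] (φ : 𝔄 →* H)
    (hinj : Function.Injective φ) (hcomm : ∀ x y : 𝔄, x * y = y * x)
    (hexp : ∀ x : 𝔄, x ^ p = 1) (hcard : p ^ 2 ≤ Nat.card 𝔄) (K : Subgroup H)
    (hφK : ∀ d, φ d ∈ Subgroup.normalizer (K : Set H)) (hK : ¬ p ∣ Nat.card ↥K)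
    (𝓙 : Finset (Subgroup 𝔄)) (h𝓙 : ∀ B, B ∈ 𝓙 ↔ B.index = p) :
    K ≤ ⨆ B ∈ 𝓙, cen φ K B := by
  have hEA : IsElementaryAbelian p φ.range := by
    refine ⟨⟨⟨?_⟩⟩, ?_⟩
    · rintro ⟨_, a, rfl⟩ ⟨_, b, rfl⟩
      apply Subtype.ext
      show φ a * φ b = φ b * φ a
      rw [← map_mul, ← map_mul, hcomm]
    · rintro _ ⟨a, rfl⟩
      rw [← map_pow, hexp, map_one]
  have hc2 : p ^ 2 ≤ Nat.card ↥φ.range := by
    rw [← Nat.card_congr (MonoidHom.ofInjective hinj).toEquiv]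
    exact hcard
  have hrK : φ.range ≤ Subgroup.normalizer (K : Set H) := by
    rintro _ ⟨d, rfl⟩
    exact hφK d
  have hgen := hyperplane_generation p φ.range K hEA hc2 hK hrK
  refine le_trans (le_of_eq hgen) ?_
  apply iSup_le
  rintro ⟨B', hB'le, hB'idx⟩
  have hmem : B'.comap φ ∈ 𝓙 := by
    rw [h𝓙, Subgroup.index_comap]
    exact hB'idx
  refine le_iSup₂_of_le (B'.comap φ) hmem ?_
  unfold cen
  rw [Subgroup.map_comap_eq, inf_eq_right.2 hB'le]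

theorem wielandt_abelian [Finite 𝔄] [Finite H] (p : ℕ) [Fact p.Prime] (φ : 𝔄 →* H)
    (hinj : Function.Injective φ) (hcomm : ∀ x y : 𝔄, x * y = y * x)
    (hexp : ∀ x : 𝔄, x ^ p = 1) (hcard : p ^ 2 ≤ Nat.card 𝔄) (K : Subgroup H)
    (hφK : ∀ d, φ d ∈ Subgroup.normalizer (K : Set H)) (hK : ¬ p ∣ Nat.card ↥K)
    (hKab : ∀ x ∈ K, ∀ y ∈ K, x * y = y * x)
    (𝓙 : Finset (Subgroup 𝔄)) (h𝓙 : ∀ B, B ∈ 𝓙 ↔ B.index = p) :
    Nat.card ↥K * Nat.card ↥(cen φ K ⊤) ^ 𝓙.card =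
      Nat.card ↥(cen φ K ⊤) * ∏ B ∈ 𝓙, Nat.card ↥(cen φ K B) := by
  let _ : CommGroup ↥K := commGroupOfComm K hKab
  have hmap := map_fixSub_conjRep φ K hφK hKab
  have hcardfix : ∀ D : Subgroup 𝔄,
      Nat.card ↥(fixSub (conjRep φ K hφK) D) = Nat.card ↥(cen φ K D) := by
    intro D
    rw [← hmap D]
    exact (Subgroup.card_map_of_injective K.subtype_injective).symm
  have hgen : fixSub (conjRep φ K hφK) ⊤ ⊔ ⨆ B ∈ 𝓙, fixSub (conjRep φ K hφK) B = ⊤ := by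
    apply Subgroup.map_injective K.subtype_injective
    rw [Subgroup.map_sup, Subgroup.map_iSup, ← MonoidHom.range_eq_map, Subgroup.range_subtype]
    apply le_antisymm
    · apply sup_le
      · rw [hmap]; exact cen_le _ _ _
      · apply iSup_le
        intro B
        rw [Subgroup.map_iSup]
        apply iSup_le
        intro _
        rw [hmap]; exact cen_le _ _ _
    · refine le_trans (generation_cen p φ hinj hcomm hexp hcard K hφK hK 𝓙 h𝓙) ?_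
      refine le_trans ?_ le_sup_right
      apply iSup_mono
      intro B
      rw [Subgroup.map_iSup]
      apply iSup_mono
      intro _
      rw [hmap]
  have h := abelian_formula (conjRep φ K hφK) hcomm 𝓙
    (fun B _ => coprime_card_sub hexp B hK)
    (fun B hB B' hB' hne => sup_eq_top_of_index_prime ((h𝓙 B).1 hB) ((h𝓙 B').1 hB') hne) hgen
  rw [hcardfix ⊤, Finset.prod_congr rfl (fun B _ => hcardfix B)] at h
  exact h


end WConcrete

end Cfsg.Agent.Lib.Helper10
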