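import Mathlib
import Cfsg.Prelude.Def_Local
import Cfsg.Agent.Lib.Helper10.Wielandt2
import Cfsg.Agent.S0022

set_option autoImplicit false

namespace Cfsg.Agent.Lib.Helper10

open Cfsg

section WQuot

variable {𝔄 : Type*} [Group 𝔄] {H : Type*} [Group H]

abbrev quotN (Z : Subgroup H) : Type _ :=
  ↥(Subgroup.normalizer (Z : Set H)) ⧸ Z.subgroupOf (Subgroup.normalizer (Z : Set H))

def imgN (Z C : Subgroup H) : Subgroup (quotN Z) :=
  (C.subgroupOf (Subgroup.normalizer (Z : Set H))).map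
    (QuotientGroup.mk' (Z.subgroupOf (Subgroup.normalizer (Z : Set H))))

lemma mem_imgN {Z C : Subgroup H} {y : quotN Z} :
    y ∈ imgN Z C ↔ ∃ c : ↥(Subgroup.normalizer (Z : Set H)), (c : H) ∈ C ∧
      QuotientGroup.mk' (Z.subgroupOf (Subgroup.normalizer (Z : Set H))) c = y := by
  unfold imgN
  rw [Subgroup.mem_map]
  constructor
  · rintro ⟨c, hc, rfl⟩
    exact ⟨c, Subgroup.mem_subgroupOf.1 hc, rfl⟩
  · rintro ⟨c, hc, rfl⟩
    exact ⟨c, Subgroup.mem_subgroupOf.2 hc, rfl⟩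

lemma card_imgN (Z C : Subgroup H) (hC : C ≤ Subgroup.normalizer (Z : Set H)) :
    Nat.card ↥C = Nat.card ↥(C ⊓ Z) * Nat.card ↥(imgN Z C) := by
  have h1 := Subgroup.relIndex_ker (K := C.subgroupOf (Subgroup.normalizer (Z : Set H)))
    (QuotientGroup.mk' (Z.subgroupOf (Subgroup.normalizer (Z : Set H))))
  rw [QuotientGroup.ker_mk', Subgroup.relIndex_subgroupOf hC] at h1
  have h2 := Cfsg.Agent.Lib.Helper5.card_mul_relIndex_of_le (inf_le_left : C ⊓ Z ≤ C)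
  rw [Subgroup.inf_relIndex_left] at h2
  unfold imgN
  rw [← h1, h2]

def phiBar (φ : 𝔄 →* H) (Z : Subgroup H)
    (hφZ : ∀ d, φ d ∈ Subgroup.normalizer (Z : Set H)) : 𝔄 →* quotN Z :=
  (QuotientGroup.mk' (Z.subgroupOf (Subgroup.normalizer (Z : Set H)))).comp
    (φ.codRestrict (Subgroup.normalizer (Z : Set H)) hφZ)

lemma phiBar_apply (φ : 𝔄 →* H) (Z : Subgroup H)
    (hφZ : ∀ d, φ d ∈ Subgroup.normalizer (Z : Set H)) (d : 𝔄) :
    phiBar φ Z hφZ d = QuotientGroup.mk' (Z.subgroupOf (Subgroup.normalizer (Z : Set H)))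
      ⟨φ d, hφZ d⟩ := rfl

lemma mk_eq_mk_iff (Z : Subgroup H) (a b : ↥(Subgroup.normalizer (Z : Set H))) :
    QuotientGroup.mk' (Z.subgroupOf (Subgroup.normalizer (Z : Set H))) a =
      QuotientGroup.mk' (Z.subgroupOf (Subgroup.normalizer (Z : Set H))) b ↔
      (a : H)⁻¹ * (b : H) ∈ Z := by
  rw [QuotientGroup.mk'_apply, QuotientGroup.mk'_apply, QuotientGroup.eq, Subgroup.mem_subgroupOf]
  rfl

theorem imgN_cen [Finite H] (φ : 𝔄 →* H) (K Z : Subgroup H) (hZK : Z ≤ K)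
    (hKZ : K ≤ Subgroup.normalizer (Z : Set H))
    (hφZ : ∀ d, φ d ∈ Subgroup.normalizer (Z : Set H))
    (hφK : ∀ d, φ d ∈ Subgroup.normalizer (K : Set H)) (D : Subgroup 𝔄)
    (hcop : (Nat.card ↥(D.map φ)).Coprime (Nat.card ↥K))
    (hsolv : Group.IsSolvable ↥(D.map φ)) :
    imgN Z (cen φ K D) = cen (phiBar φ Z hφZ) (imgN Z K) D := by
  ext y
  rw [mem_imgN, mem_cen]
  constructor
  · rintro ⟨c, hc, rfl⟩
    rw [mem_cen] at hc
    refine ⟨mem_imgN.2 ⟨c, hc.1, rfl⟩, fun d hd => ?_⟩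
    rw [phiBar_apply, ← map_mul, ← map_mul]
    congr 1
    apply Subtype.ext
    exact hc.2 d hd
  · rintro ⟨hy, hcomm⟩
    obtain ⟨k, hk, rfl⟩ := mem_imgN.1 hy
    have hfix : ∀ a ∈ D.map φ, a * (k : H) * a⁻¹ * (k : H)⁻¹ ∈ Z := by
      rintro _ ⟨d, hd, rfl⟩
      have h1 := hcomm d hd
      rw [phiBar_apply, ← map_mul, ← map_mul, mk_eq_mk_iff] at h1
      have h2 : (((⟨φ d, hφZ d⟩ : ↥(Subgroup.normalizer (Z : Set H))) * k :
          ↥(Subgroup.normalizer (Z : Set H))) : H)⁻¹ *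
          ((k * (⟨φ d, hφZ d⟩ : ↥(Subgroup.normalizer (Z : Set H))) :
          ↥(Subgroup.normalizer (Z : Set H))) : H) = (k : H)⁻¹ * (φ d)⁻¹ * (k : H) * φ d := by
        simp only [Subgroup.coe_mul]
        group
      rw [h2] at h1
      have hmem : φ d * (k : H) ∈ Subgroup.normalizer (Z : Set H) :=
        Subgroup.mul_mem _ (hφZ d) k.2
      have h3 : (φ d * (k : H)) * ((k : H)⁻¹ * (φ d)⁻¹ * (k : H) * φ d)⁻¹ * (φ d * (k : H))⁻¹ ∈ Z :=
        (Subgroup.mem_normalizer_iff.1 hmem _).1 (Z.inv_mem h1)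
      have h4 : (φ d * (k : H)) * ((k : H)⁻¹ * (φ d)⁻¹ * (k : H) * φ d)⁻¹ * (φ d * (k : H))⁻¹ =
          (φ d) * (k : H) * (φ d)⁻¹ * (k : H)⁻¹ := by group
      rw [h4] at h3
      exact h3
    have hAK : D.map φ ≤ Subgroup.normalizer (K : Set H) := by
      rintro _ ⟨d, _, rfl⟩
      exact hφK d
    have hAZ : D.map φ ≤ Subgroup.normalizer (Z : Set H) := by
      rintro _ ⟨d, _, rfl⟩
      exact hφZ d
    obtain ⟨c, hc, hkc⟩ := Cfsg.Agent.S0022.result (D.map φ) K hAK hcop (Or.inl hsolv) Z hZK hKZ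
      hAZ (k : H) hk hfix
    refine ⟨⟨c, hKZ hc.1⟩, hc, ?_⟩
    rw [eq_comm, mk_eq_mk_iff]
    exact hkc

theorem card_cen_quot [Finite H] (φ : 𝔄 →* H) (K Z : Subgroup H) (hZK : Z ≤ K)
    (hKZ : K ≤ Subgroup.normalizer (Z : Set H))
    (hφZ : ∀ d, φ d ∈ Subgroup.normalizer (Z : Set H))
    (hφK : ∀ d, φ d ∈ Subgroup.normalizer (K : Set H)) (D : Subgroup 𝔄)
    (hcop : (Nat.card ↥(D.map φ)).Coprime (Nat.card ↥K))
    (hsolv : Group.IsSolvable ↥(D.map φ)) :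
    Nat.card ↥(cen φ K D) =
      Nat.card ↥(cen φ Z D) * Nat.card ↥(cen (phiBar φ Z hφZ) (imgN Z K) D) := by
  rw [← imgN_cen φ K Z hZK hKZ hφZ hφK D hcop hsolv, ← cen_of_le φ hZK D]
  exact card_imgN Z (cen φ K D) ((cen_le φ K D).trans hKZ)

end WQuot

end Cfsg.Agent.Lib.Helper10
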