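import Mathlib
import Cfsg.Prelude.Def_Local
import Cfsg.Agent.Lib.Helper10.Wielandt3
import Cfsg.Agent.Lib.Helper10.Coprime

set_option autoImplicit false

namespace Cfsg.Agent.Lib.Helper10

open Cfsg

section WPGroup

universe u v

variable {𝔄 : Type v} [Group 𝔄]

lemma solvable_map_of_comm {H : Type u} [Group H] (φ : 𝔄 →* H) (hcomm : ∀ x y : 𝔄, x * y = y * x)
    (D : Subgroup 𝔄) : Group.IsSolvable ↥(D.map φ) := by
  have : IsMulCommutative ↥(D.map φ) := by
    refine ⟨⟨?_⟩⟩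
    rintro ⟨_, a, _, rfl⟩ ⟨_, b, _, rfl⟩
    apply Subtype.ext
    show φ a * φ b = φ b * φ a
    rw [← map_mul, ← map_mul, hcomm]
  exact Group.isSolvable_of_comm (fun a b => mul_comm' a b)

lemma coprime_map_card [Finite 𝔄] {H : Type u} [Group H] [Finite H] {p : ℕ} [Fact p.Prime]
    (φ : 𝔄 →* H) (hexp : ∀ x : 𝔄, x ^ p = 1) (D : Subgroup 𝔄) {n : ℕ} (hn : ¬ p ∣ n) :
    (Nat.card ↥(D.map φ)).Coprime n := by
  have h1 : Nat.card ↥(D.map φ) ∣ Nat.card ↥D :=
    Subgroup.card_dvd_of_surjective (φ.subgroupMap D) (φ.subgroupMap_surjective D)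
  exact Nat.Coprime.coprime_dvd_left h1 (coprime_card_sub hexp D hn)

lemma phiBar_injective {H : Type u} [Group H] [Finite H] {p : ℕ} [Fact p.Prime]
    (φ : 𝔄 →* H) (hinj : Function.Injective φ) (hexp : ∀ x : 𝔄, x ^ p = 1) (Z : Subgroup H)
    (hφZ : ∀ d, φ d ∈ Subgroup.normalizer (Z : Set H)) (hZ : ¬ p ∣ Nat.card ↥Z) :
    Function.Injective (phiBar φ Z hφZ) := by
  have hp : p.Prime := Fact.out
  rw [injective_iff_map_eq_one]
  intro d hd
  rw [phiBar_apply, ← map_one (QuotientGroup.mk' _), eq_comm, mk_eq_mk_iff] at hd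
  have h1 : φ d ∈ Z := by simpa using hd
  have h2 : (φ d) ^ p = 1 := by rw [← map_pow, hexp, map_one]
  have h3 : (φ d) ^ Nat.card ↥Z = 1 := by
    have := pow_card_eq_one' (G := ↥Z) (x := ⟨φ d, h1⟩)
    exact congrArg Subtype.val this
  have h4 := pow_gcd_eq_one.2 ⟨h2, h3⟩
  have h5 : Nat.gcd p (Nat.card ↥Z) = 1 := (Nat.Prime.coprime_iff_not_dvd hp).2 hZ
  rw [h5, pow_one] at h4
  apply hinj
  rw [h4, map_one]

lemma phiBar_mem_normalizer {H : Type u} [Group H] [Finite H]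
    (φ : 𝔄 →* H) (K Z : Subgroup H)
    (hφZ : ∀ d, φ d ∈ Subgroup.normalizer (Z : Set H))
    (hφK : ∀ d, φ d ∈ Subgroup.normalizer (K : Set H)) (d : 𝔄) :
    phiBar φ Z hφZ d ∈ Subgroup.normalizer ((imgN Z K : Subgroup (quotN Z)) : Set (quotN Z)) := by
  apply mem_normalizer_of_conj_subset
  intro y hy
  rw [SetLike.mem_coe] at hy ⊢
  obtain ⟨k, hk, rfl⟩ := mem_imgN.1 hy
  rw [phiBar_apply, ← map_inv, ← map_mul, ← map_mul]
  refine mem_imgN.2 ⟨_, ?_, rfl⟩
  show φ d * (k : H) * (φ d)⁻¹ ∈ K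
  exact (Subgroup.mem_normalizer_iff.1 (hφK d) _).1 hk

theorem wielandt_pgroup [Finite 𝔄] (p : ℕ) [Fact p.Prime] (hcomm : ∀ x y : 𝔄, x * y = y * x)
    (hexp : ∀ x : 𝔄, x ^ p = 1) (hcard : p ^ 2 ≤ Nat.card 𝔄)
    (𝓙 : Finset (Subgroup 𝔄)) (h𝓙 : ∀ B, B ∈ 𝓙 ↔ B.index = p) (q : ℕ) [Fact q.Prime] :
    ∀ (n : ℕ) (H : Type u) [Group H] [Finite H] (φ : 𝔄 →* H) (_ : Function.Injective φ)
      (K : Subgroup H) (_ : ∀ d, φ d ∈ Subgroup.normalizer (K : Set H))
      (_ : ¬ p ∣ Nat.card ↥K) (_ : IsPGroup q ↥K), Nat.card ↥K = n →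
      Nat.card ↥K * Nat.card ↥(cen φ K ⊤) ^ 𝓙.card =
        Nat.card ↥(cen φ K ⊤) * ∏ B ∈ 𝓙, Nat.card ↥(cen φ K B) := by
  intro n
  induction n using Nat.strong_induction_on with
  | _ n ih =>
    intro H _ _ φ hinj K hφK hK hq hn
    by_cases hKab : ∀ x ∈ K, ∀ y ∈ K, x * y = y * x
    · exact wielandt_abelian p φ hinj hcomm hexp hcard K hφK hK hKab 𝓙 h𝓙
    · obtain ⟨Z, hZdef⟩ : ∃ Z, Z = (Subgroup.center ↥K).map K.subtype := ⟨_, rfl⟩
      have hZK : Z ≤ K := by
        rw [hZdef]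
        exact Subgroup.map_subtype_le _
      have hZcomm : ∀ z ∈ Z, ∀ k ∈ K, z * k = k * z := by
        intro z hz k hk
        rw [hZdef] at hz
        obtain ⟨c, hc, rfl⟩ := hz
        have := (Subgroup.mem_center_iff.1 hc ⟨k, hk⟩).symm
        exact congrArg Subtype.val this
      have hZab : ∀ x ∈ Z, ∀ y ∈ Z, x * y = y * x := fun x hx y hy => hZcomm x hx y (hZK hy)
      have hKZ : K ≤ Subgroup.normalizer (Z : Set H) := by
        intro k hk
        apply mem_normalizer_of_conj_subset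
        intro z hz
        rw [SetLike.mem_coe] at hz ⊢
        rw [← hZcomm z hz k hk, mul_inv_cancel_right]
        exact hz
      have hφZ : ∀ d, φ d ∈ Subgroup.normalizer (Z : Set H) := by
        intro d
        have h1 := Cfsg.Agent.Lib.Lead.le_normalizer_map_characteristic K (Subgroup.zpowers (φ d))
          (by rw [Subgroup.zpowers_le]; exact hφK d) (Subgroup.center ↥K)
        rw [hZdef]
        exact h1 (Subgroup.mem_zpowers _)
      have hKnt : Nontrivial ↥K := by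
        by_contra hnt
        rw [not_nontrivial_iff_subsingleton] at hnt
        apply hKab
        intro x hx y hy
        have h1 : (⟨x, hx⟩ : ↥K) = ⟨y, hy⟩ := Subsingleton.elim _ _
        have h2 : x = y := congrArg Subtype.val h1
        rw [h2]
      have hZne : Z ≠ ⊥ := by
        intro hbot
        have hcnt : Nontrivial ↥(Subgroup.center ↥K) := hq.center_nontrivial
        obtain ⟨c, hc⟩ := exists_ne (1 : ↥(Subgroup.center ↥K))
        have h1 : ((c : ↥K) : H) ∈ Z := by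
          rw [hZdef]
          exact Subgroup.mem_map_of_mem _ c.2
        rw [hbot, Subgroup.mem_bot] at h1
        apply hc
        apply Subtype.ext
        apply Subtype.ext
        exact h1
      have hZp : ¬ p ∣ Nat.card ↥Z := fun h => hK (h.trans (Subgroup.card_dvd_of_le hZK))
      have hforZ := wielandt_abelian p φ hinj hcomm hexp hcard Z hφZ hZp hZab 𝓙 h𝓙
      have hlink : ∀ D : Subgroup 𝔄, Nat.card ↥(cen φ K D) =
          Nat.card ↥(cen φ Z D) * Nat.card ↥(cen (phiBar φ Z hφZ) (imgN Z K) D) := fun D =>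
        card_cen_quot φ K Z hZK hKZ hφZ hφK D (coprime_map_card φ hexp D hK)
          (solvable_map_of_comm φ hcomm D)
      have hKcard : Nat.card ↥K = Nat.card ↥Z * Nat.card ↥(imgN Z K) := by
        have := card_imgN Z K hKZ
        rwa [inf_eq_right.2 hZK] at this
      have hZgt : 1 < Nat.card ↥Z := by
        rw [Finite.one_lt_card_iff_nontrivial]
        exact (Subgroup.nontrivial_iff_ne_bot Z).2 hZne
      have hQpos : 0 < Nat.card ↥(imgN Z K) := Nat.card_pos
      have hlt : Nat.card ↥(imgN Z K) < n := by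
        rw [← hn, hKcard]
        nlinarith
      have hQdvd : Nat.card ↥(imgN Z K) ∣ Nat.card ↥K := by
        rw [hKcard]
        exact dvd_mul_left _ _
      have hQp : ¬ p ∣ Nat.card ↥(imgN Z K) := fun h => hK (h.trans hQdvd)
      have hQq : IsPGroup q ↥(imgN Z K) := by
        unfold imgN
        apply IsPGroup.map
        exact hq.comap_subtype
      have hforQ := ih _ hlt (quotN Z) (phiBar φ Z hφZ)
        (phiBar_injective φ hinj hexp Z hφZ hZp) (imgN Z K)
        (phiBar_mem_normalizer φ K Z hφZ hφK) hQp hQq rfl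
      rw [hlink ⊤, Finset.prod_congr rfl (fun B _ => hlink B), Finset.prod_mul_distrib, hKcard,
        mul_pow]
      calc Nat.card ↥Z * Nat.card ↥(imgN Z K) *
            (Nat.card ↥(cen φ Z ⊤) ^ 𝓙.card *
              Nat.card ↥(cen (phiBar φ Z hφZ) (imgN Z K) ⊤) ^ 𝓙.card)
          = (Nat.card ↥Z * Nat.card ↥(cen φ Z ⊤) ^ 𝓙.card) *
            (Nat.card ↥(imgN Z K) *
              Nat.card ↥(cen (phiBar φ Z hφZ) (imgN Z K) ⊤) ^ 𝓙.card) := by ring
        _ = (Nat.card ↥(cen φ Z ⊤) * ∏ B ∈ 𝓙, Nat.card ↥(cen φ Z B)) *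
            (Nat.card ↥(cen (phiBar φ Z hφZ) (imgN Z K) ⊤) *
              ∏ B ∈ 𝓙, Nat.card ↥(cen (phiBar φ Z hφZ) (imgN Z K) B)) := by
            rw [hforZ, hforQ]
        _ = _ := by ring


end WPGroup

end Cfsg.Agent.Lib.Helper10
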