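import Mathlib
import Cfsg.Prelude.Def_Local
import Cfsg.Agent.Lib.Helper10.Wielandt4
import Cfsg.Agent.S0023
import Cfsg.Agent.S0024
import Cfsg.Agent.S0025

set_option autoImplicit false

namespace Cfsg.Agent.Lib.Helper10

open Cfsg
open scoped Pointwise

section WGeneral

universe u v

variable {𝔄 : Type v} [Group 𝔄]

theorem card_cen_sylow [Finite 𝔄] {H : Type u} [Group H] [Finite H] (p : ℕ) [Fact p.Prime]
    (φ : 𝔄 →* H) (hcomm : ∀ x y : 𝔄, x * y = y * x) (hexp : ∀ x : 𝔄, x ^ p = 1)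
    (K : Subgroup H) (hφK : ∀ d, φ d ∈ Subgroup.normalizer (K : Set H))
    (hK : ¬ p ∣ Nat.card ↥K) (q : ℕ) [Fact q.Prime] (Q : Sylow q ↥K)
    (hQ : ∀ d, φ d ∈ Subgroup.normalizer (((Q : Subgroup ↥K).map K.subtype : Subgroup H) : Set H))
    (D : Subgroup 𝔄) :
    Nat.card ↥(cen φ ((Q : Subgroup ↥K).map K.subtype) D) =
      q ^ (Nat.card ↥(cen φ K D)).factorization q := by
  have hq : q.Prime := Fact.out
  obtain ⟨Q', hQ'def⟩ : ∃ Q', Q' = (Q : Subgroup ↥K).map K.subtype := ⟨_, rfl⟩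
  rw [← hQ'def] at hQ ⊢
  have hQ'K : Q' ≤ K := by rw [hQ'def]; exact Subgroup.map_subtype_le _
  have hQ'q : IsPGroup q ↥Q' := by rw [hQ'def]; exact Q.isPGroup'.map _
  have hCQle : cen φ Q' D ≤ cen φ K D := cen_mono_left φ hQ'K D
  have hCQq : IsPGroup q ↥(cen φ Q' D) := by
    have := hQ'q.to_le (cen_le φ Q' D)
    exact this
  obtain ⟨e, he⟩ := IsPGroup.exists_card_eq hCQq
  have hCne : Nat.card ↥(cen φ K D) ≠ 0 := Nat.card_pos.ne'
  have hle : e ≤ (Nat.card ↥(cen φ K D)).factorization q := by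
    rw [← Nat.Prime.pow_dvd_iff_le_factorization hq hCne, ← he]
    exact Subgroup.card_dvd_of_le hCQle
  have hge : (Nat.card ↥(cen φ K D)).factorization q ≤ e := by
    obtain ⟨S⟩ : Nonempty (Sylow q ↥(cen φ K D)) := inferInstance
    obtain ⟨S', hS'def⟩ : ∃ S', S' = (S : Subgroup ↥(cen φ K D)).map (cen φ K D).subtype :=
      ⟨_, rfl⟩
    have hS'card : Nat.card ↥S' = q ^ (Nat.card ↥(cen φ K D)).factorization q := by
      rw [hS'def, Subgroup.card_map_of_injective (Subgroup.subtype_injective _)]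
      exact S.card_eq_multiplicity
    have hS'C : S' ≤ cen φ K D := by rw [hS'def]; exact Subgroup.map_subtype_le _
    have hS'K : S' ≤ K := hS'C.trans (cen_le φ K D)
    have hS'q : IsPGroup q ↥S' := by rw [hS'def]; exact S.isPGroup'.map _
    have hDK : D.map φ ≤ Subgroup.normalizer (K : Set H) := by
      rintro _ ⟨d, _, rfl⟩
      exact hφK d
    have hDQ : D.map φ ≤ Subgroup.normalizer ((Q' : Subgroup H) : Set H) := by
      rintro _ ⟨d, _, rfl⟩
      exact hQ d
    have hDS : D.map φ ≤ Subgroup.normalizer ((S' : Subgroup H) : Set H) := by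
      rintro _ ⟨d, hd, rfl⟩
      apply mem_normalizer_of_conj_subset
      intro s hs
      rw [SetLike.mem_coe] at hs ⊢
      have h1 := (mem_cen.1 (hS'C hs)).2 d hd
      rw [h1, mul_inv_cancel_right]
      exact hs
    have hcop := coprime_map_card φ hexp D hK
    have hsolv := solvable_map_of_comm φ hcomm D
    obtain ⟨P, hSP, hDP⟩ := Cfsg.Agent.S0025.result (D.map φ) K hDK hcop (Or.inl hsolv) q S' hS'K
      hS'q hDS
    rw [hQ'def] at hDQ
    obtain ⟨c, hcD, hcPQ⟩ := Cfsg.Agent.S0024.result (D.map φ) K hDK hcop (Or.inl hsolv) q P Q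
      hDP hDQ
    have hQeq : (Q : Subgroup ↥K) = MulAut.conj c • (P : Subgroup ↥K) := by
      rw [← hcPQ]
      rfl
    have hsub : S'.map (MulAut.conj (c : H)).toMonoidHom ≤ cen φ Q' D := by
      rintro _ ⟨s, hs, rfl⟩
      rw [mem_cen]
      constructor
      · rw [hQ'def]
        obtain ⟨k, hk, hks⟩ := hSP hs
        refine ⟨c * k * c⁻¹, ?_, ?_⟩
        · rw [SetLike.mem_coe, hQeq]
          have := Subgroup.smul_mem_pointwise_smul k (MulAut.conj c) (P : Subgroup ↥K) hk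
          rwa [MulAut.smul_def, MulAut.conj_apply] at this
        · show ((c * k * c⁻¹ : ↥K) : H) = (MulAut.conj (c : H)) s
          rw [MulAut.conj_apply, ← hks]
          rfl
      · intro d hd
        have h1 := (mem_cen.1 (hS'C hs)).2 d hd
        have h2 : φ d * (c : H) = (c : H) * φ d :=
          Subgroup.mem_centralizer_iff.1 hcD (φ d) (Subgroup.mem_map_of_mem φ hd)
        show φ d * ((MulAut.conj (c : H)) s) = ((MulAut.conj (c : H)) s) * φ d
        rw [MulAut.conj_apply]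
        have h3 : φ d * (c : H)⁻¹ = (c : H)⁻¹ * φ d := by
          calc φ d * (c : H)⁻¹ = (c : H)⁻¹ * ((c : H) * φ d) * (c : H)⁻¹ := by group
            _ = (c : H)⁻¹ * (φ d * (c : H)) * (c : H)⁻¹ := by rw [h2]
            _ = (c : H)⁻¹ * φ d := by group
        calc φ d * ((c : H) * s * (c : H)⁻¹) = (φ d * (c : H)) * s * (c : H)⁻¹ := by group
          _ = (c : H) * (φ d * s) * (c : H)⁻¹ := by rw [h2]; group
          _ = (c : H) * (s * φ d) * (c : H)⁻¹ := by rw [h1]
          _ = (c : H) * s * (φ d * (c : H)⁻¹) := by group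
          _ = (c : H) * s * ((c : H)⁻¹ * φ d) := by rw [h3]
          _ = (c : H) * s * (c : H)⁻¹ * φ d := by group
    have hcardle := Subgroup.card_le_of_le hsub
    rw [Subgroup.card_map_of_injective (MulAut.conj (c : H)).injective, hS'card, he] at hcardle
    exact (Nat.pow_le_pow_iff_right hq.one_lt).1 hcardle
  rw [he, le_antisymm hle hge]

theorem wielandt [Finite 𝔄] (p : ℕ) [Fact p.Prime] (hcomm : ∀ x y : 𝔄, x * y = y * x)
    (hexp : ∀ x : 𝔄, x ^ p = 1) (hcard : p ^ 2 ≤ Nat.card 𝔄)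
    (𝓙 : Finset (Subgroup 𝔄)) (h𝓙 : ∀ B, B ∈ 𝓙 ↔ B.index = p)
    {H : Type u} [Group H] [Finite H] (φ : 𝔄 →* H) (hinj : Function.Injective φ)
    (K : Subgroup H) (hφK : ∀ d, φ d ∈ Subgroup.normalizer (K : Set H))
    (hK : ¬ p ∣ Nat.card ↥K) :
    Nat.card ↥K * Nat.card ↥(cen φ K ⊤) ^ 𝓙.card =
      Nat.card ↥(cen φ K ⊤) * ∏ B ∈ 𝓙, Nat.card ↥(cen φ K B) := by
  have hKne : Nat.card ↥K ≠ 0 := Nat.card_pos.ne'
  have hTne : Nat.card ↥(cen φ K ⊤) ≠ 0 := Nat.card_pos.ne'
  have hBne : ∀ B ∈ 𝓙, Nat.card ↥(cen φ K B) ≠ 0 := fun B _ => Nat.card_pos.ne'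
  have hprodne : ∏ B ∈ 𝓙, Nat.card ↥(cen φ K B) ≠ 0 := Finset.prod_ne_zero_iff.2 hBne
  apply Nat.eq_of_factorization_eq (mul_ne_zero hKne (pow_ne_zero _ hTne))
    (mul_ne_zero hTne hprodne)
  intro q
  rw [Nat.factorization_mul hKne (pow_ne_zero _ hTne), Nat.factorization_mul hTne hprodne,
    Nat.factorization_pow, Nat.factorization_prod hBne]
  simp only [Finsupp.coe_add, Finsupp.coe_smul, Pi.add_apply, Pi.smul_apply, smul_eq_mul,
    Finsupp.coe_finsetSum, Finset.sum_apply]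
  by_cases hq : q.Prime
  · have : Fact q.Prime := ⟨hq⟩
    have hrK : φ.range ≤ Subgroup.normalizer (K : Set H) := by
      rintro _ ⟨d, rfl⟩
      exact hφK d
    have hcopr : (Nat.card ↥φ.range).Coprime (Nat.card ↥K) := by
      have := coprime_map_card φ hexp ⊤ hK
      rwa [← MonoidHom.range_eq_map] at this
    have hsolvr : Group.IsSolvable ↥φ.range := by
      have := solvable_map_of_comm φ hcomm ⊤
      rwa [← MonoidHom.range_eq_map] at this
    obtain ⟨Q, hQ⟩ := Cfsg.Agent.S0023.result φ.range K hrK hcopr (Or.inl hsolvr) q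
    have hQ' : ∀ d, φ d ∈ Subgroup.normalizer
        (((Q : Subgroup ↥K).map K.subtype : Subgroup H) : Set H) := fun d => hQ ⟨d, rfl⟩
    have hQK : (Q : Subgroup ↥K).map K.subtype ≤ K := Subgroup.map_subtype_le _
    have hQp : ¬ p ∣ Nat.card ↥((Q : Subgroup ↥K).map K.subtype) :=
      fun h => hK (h.trans (Subgroup.card_dvd_of_le hQK))
    have hQq : IsPGroup q ↥((Q : Subgroup ↥K).map K.subtype) := Q.isPGroup'.map _
    have hformula := wielandt_pgroup p hcomm hexp hcard 𝓙 h𝓙 q _ H φ hinj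
      ((Q : Subgroup ↥K).map K.subtype) hQ' hQp hQq rfl
    have hQcard : Nat.card ↥((Q : Subgroup ↥K).map K.subtype) =
        q ^ (Nat.card ↥K).factorization q := by
      rw [Subgroup.card_map_of_injective (Subgroup.subtype_injective _)]
      exact Q.card_eq_multiplicity
    have hc := card_cen_sylow p φ hcomm hexp K hφK hK q Q hQ'
    rw [hQcard, hc ⊤, Finset.prod_congr rfl (fun B _ => hc B), Finset.prod_pow_eq_pow_sum,
      ← pow_mul, ← pow_add, ← pow_add] at hformula
    have := Nat.pow_right_injective hq.two_le hformula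
    rw [mul_comm 𝓙.card]
    exact this
  · simp [Nat.factorization_eq_zero_of_not_prime _ hq]


end WGeneral

end Cfsg.Agent.Lib.Helper10
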